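import Cfsg.Agent.Helper17.Fi23TC.Lemmas

set_option autoImplicit false
set_option linter.all false

noncomputable section

namespace Cfsg.Agent.Helper17.Fi23TC

theorem F1 : act 0 n0 = n0 := d47_0 B0 
theorem F2 : act 1 n0 = n0 := d48_0 B1 
theorem F3 : act 2 n0 = n0 := d49_0 B2 
theorem F4 : act 3 n0 = n0 := d50_0 B3 
theorem F5 : act 4 n0 = n0 := d51_0 B4 
theorem F6 : act 5 n0 = n0 := d52_0 B5 
theorem F7 : act 6 n0 = n0 := d53_0 B6 
theorem F8 : act 8 n0 = n0 := d54_0 B7 
theorem F9 : act 9 n0 = n0 := d55_0 B8 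
def n1 : Q := act 7 n0
theorem D1 : act 7 n0 = n1 := rfl
theorem F10 : act 0 n1 = n1 := d6_1 D1 (iv D1) F1
theorem F11 : act 1 n1 = n1 := d14_1 D1 (iv D1) F2
theorem F12 : act 2 n1 = n1 := d21_1 D1 (iv D1) F3
theorem F13 : act 3 n1 = n1 := d27_1 D1 (iv D1) F4
theorem F14 : act 4 n1 = n1 := d32_1 D1 (iv D1) F5
theorem F15 : act 5 n1 = n1 := d36_1 D1 (iv D1) F6
theorem F16 : act 8 n1 = n1 := d42_2 F8 D1 (iv D1)
theorem F17 : act 9 n1 = n1 := d43_2 F9 D1 (iv D1)
def n2 : Q := act 6 n1
theorem D2 : act 6 n1 = n2 := rfl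
theorem F18 : act 0 n2 = n2 := d5_1 D2 (iv D2) F10
theorem F19 : act 1 n2 = n2 := d13_1 D2 (iv D2) F11
theorem F20 : act 2 n2 = n2 := d20_1 D2 (iv D2) F12
theorem F21 : act 3 n2 = n2 := d26_1 D2 (iv D2) F13
theorem F22 : act 4 n2 = n2 := d31_1 D2 (iv D2) F14
theorem F23 : act 7 n2 = n2 := d39_2 D1 D2 (iv D2) (iv D1) F7
theorem F24 : act 8 n2 = n2 := d40_2 F16 D2 (iv D2)
theorem F25 : act 9 n2 = n2 := d41_2 F17 D2 (iv D2)
def n3 : Q := act 5 n2
theorem D3 : act 5 n2 = n3 := rfl
theorem F26 : act 0 n3 = n3 := d4_1 D3 (iv D3) F18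
theorem F27 : act 1 n3 = n3 := d12_1 D3 (iv D3) F19
theorem F28 : act 2 n3 = n3 := d19_1 D3 (iv D3) F20
theorem F29 : act 3 n3 = n3 := d25_1 D3 (iv D3) F21
theorem F30 : act 6 n3 = n3 := d35_2 D2 D3 (iv D3) (iv D2) F15
theorem F31 : act 7 n3 = n3 := d36_2 F23 D3 (iv D3)
theorem F32 : act 8 n3 = n3 := d37_2 F24 D3 (iv D3)
theorem F33 : act 9 n3 = n3 := d38_2 F25 D3 (iv D3)
def n4 : Q := act 4 n3
theorem D4 : act 4 n3 = n4 := rfl
theorem F34 : act 0 n4 = n4 := d3_1 D4 (iv D4) F26
theorem F35 : act 1 n4 = n4 := d11_1 D4 (iv D4) F27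
theorem F36 : act 2 n4 = n4 := d18_1 D4 (iv D4) F28
theorem F37 : act 5 n4 = n4 := d30_2 D3 D4 (iv D4) (iv D3) F22
theorem F38 : act 6 n4 = n4 := d31_2 F30 D4 (iv D4)
theorem F39 : act 7 n4 = n4 := d32_2 F31 D4 (iv D4)
theorem F40 : act 8 n4 = n4 := d33_2 F32 D4 (iv D4)
theorem F41 : act 9 n4 = n4 := d34_2 F33 D4 (iv D4)
def n5 : Q := act 3 n4
theorem D5 : act 3 n4 = n5 := rfl
theorem F42 : act 0 n5 = n5 := d2_1 D5 (iv D5) F34
theorem F43 : act 1 n5 = n5 := d10_1 D5 (iv D5) F35
theorem F44 : act 4 n5 = n5 := d24_2 D4 D5 (iv D5) (iv D4) F29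
theorem F45 : act 5 n5 = n5 := d25_2 F37 D5 (iv D5)
theorem F46 : act 6 n5 = n5 := d26_2 F38 D5 (iv D5)
theorem F47 : act 7 n5 = n5 := d27_2 F39 D5 (iv D5)
theorem F48 : act 9 n5 = n5 := d29_2 F41 D5 (iv D5)
def n6 : Q := act 2 n5
theorem D6 : act 2 n5 = n6 := rfl
theorem F49 : act 0 n6 = n6 := d1_1 D6 (iv D6) F42
theorem F50 : act 3 n6 = n6 := d17_2 D5 D6 (iv D6) (iv D5) F36
theorem F51 : act 4 n6 = n6 := d18_2 F44 D6 (iv D6)
theorem F52 : act 5 n6 = n6 := d19_2 F45 D6 (iv D6)
theorem F53 : act 6 n6 = n6 := d20_2 F46 D6 (iv D6)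
theorem F54 : act 7 n6 = n6 := d21_2 F47 D6 (iv D6)
theorem F55 : act 9 n6 = n6 := d23_2 F48 D6 (iv D6)
def n7 : Q := act 8 n5
theorem D7 : act 8 n5 = n7 := rfl
theorem F56 : act 0 n7 = n7 := d7_1 D7 (iv D7) F42
theorem F57 : act 1 n7 = n7 := d15_1 D7 (iv D7) F43
theorem F58 : act 3 n7 = n7 := d28_1 D7 (iv D7) (iv D5) F40 D5
theorem F59 : act 4 n7 = n7 := d33_1 D7 (iv D7) F44
theorem F60 : act 5 n7 = n7 := d37_1 D7 (iv D7) F45
theorem F61 : act 6 n7 = n7 := d40_1 D7 (iv D7) F46
theorem F62 : act 7 n7 = n7 := d42_1 D7 (iv D7) F47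
def n8 : Q := act 1 n6
theorem D8 : act 1 n6 = n8 := rfl
theorem F63 : act 2 n8 = n8 := d9_2 D6 D8 (iv D8) (iv D6) F43
theorem F64 : act 3 n8 = n8 := d10_2 F50 D8 (iv D8)
theorem F65 : act 4 n8 = n8 := d11_2 F51 D8 (iv D8)
theorem F66 : act 5 n8 = n8 := d12_2 F52 D8 (iv D8)
theorem F67 : act 6 n8 = n8 := d13_2 F53 D8 (iv D8)
theorem F68 : act 7 n8 = n8 := d14_2 F54 D8 (iv D8)
theorem F69 : act 9 n8 = n8 := d16_2 F55 D8 (iv D8)
def n9 : Q := act 8 n6
theorem D9 : act 8 n6 = n9 := rfl
theorem F70 : act 0 n9 = n9 := d7_1 D9 (iv D9) F49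
theorem F71 : act 2 n9 = n7 := d22_1 D9 (iv D7) D6
theorem F72 : act 4 n9 = n9 := d33_1 D9 (iv D9) F51
theorem F73 : act 5 n9 = n9 := d37_1 D9 (iv D9) F52
theorem F74 : act 6 n9 = n9 := d40_1 D9 (iv D9) F53
theorem F75 : act 7 n9 = n9 := d42_1 D9 (iv D9) F54
def n10 : Q := act 9 n7
theorem D10 : act 9 n7 = n10 := rfl
theorem F76 : act 0 n10 = n10 := d8_1 D10 (iv D10) F56
theorem F77 : act 1 n10 = n10 := d16_1 D10 (iv D10) F57
theorem F78 : act 3 n10 = n10 := d29_1 D10 (iv D10) F58
theorem F79 : act 4 n10 = n10 := d34_1 D10 (iv D10) F59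
theorem F80 : act 5 n10 = n10 := d38_1 D10 (iv D10) F60
theorem F81 : act 6 n10 = n10 := d41_1 D10 (iv D10) F61
theorem F82 : act 7 n10 = n10 := d43_1 D10 (iv D10) F62
theorem F83 : act 8 n10 = n10 := d44_1 D10 (iv D10) (iv D7) F48 D7
def n11 : Q := act 0 n8
theorem D11 : act 0 n8 = n11 := rfl
theorem F84 : act 1 n11 = n11 := d0_2 D8 D11 (iv D11) (iv D8) F49
theorem F85 : act 2 n11 = n11 := d1_2 F63 D11 (iv D11)
theorem F86 : act 3 n11 = n11 := d2_2 F64 D11 (iv D11)
theorem F87 : act 4 n11 = n11 := d3_2 F65 D11 (iv D11)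
theorem F88 : act 5 n11 = n11 := d4_2 F66 D11 (iv D11)
theorem F89 : act 6 n11 = n11 := d5_2 F67 D11 (iv D11)
theorem F90 : act 7 n11 = n11 := d6_2 F68 D11 (iv D11)
theorem F91 : act 9 n11 = n11 := d8_2 F69 D11 (iv D11)
def n12 : Q := act 8 n8
theorem D12 : act 8 n8 = n12 := rfl
theorem F92 : act 1 n12 = n9 := d15_1 D12 (iv D9) D8
theorem F93 : act 2 n12 = n12 := d22_1 D12 (iv D12) F63
theorem F94 : act 4 n12 = n12 := d33_1 D12 (iv D12) F65
theorem F95 : act 5 n12 = n12 := d37_1 D12 (iv D12) F66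
theorem F96 : act 6 n12 = n12 := d40_1 D12 (iv D12) F67
theorem F97 : act 7 n12 = n12 := d42_1 D12 (iv D12) F68
def n13 : Q := act 3 n9
theorem D13 : act 3 n9 = n13 := rfl
theorem F98 : act 0 n13 = n13 := d2_1 D13 (iv D13) F70
theorem F99 : act 2 n13 = n13 := d17_1 D13 (iv D13) F71 F58 (iv F71)
theorem F100 : act 5 n13 = n13 := d25_2 F73 D13 (iv D13)
theorem F101 : act 6 n13 = n13 := d26_2 F74 D13 (iv D13)
theorem F102 : act 7 n13 = n13 := d27_2 F75 D13 (iv D13)
theorem F103 : act 8 n13 = n13 := d28_2 D9 D13 (iv D13) (iv D9) F50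
def n14 : Q := act 9 n9
theorem D14 : act 9 n9 = n14 := rfl
theorem F104 : act 0 n14 = n14 := d8_1 D14 (iv D14) F70
theorem F105 : act 2 n14 = n10 := d23_1 D14 (iv D10) (iv F71)
theorem F106 : act 4 n14 = n14 := d34_1 D14 (iv D14) F72
theorem F107 : act 5 n14 = n14 := d38_1 D14 (iv D14) F73
theorem F108 : act 6 n14 = n14 := d41_1 D14 (iv D14) F74
theorem F109 : act 7 n14 = n14 := d43_1 D14 (iv D14) F75
theorem F110 : act 8 n14 = n14 := d44_1 D14 (iv D14) (iv D9) F55 D9
def n15 : Q := act 8 n11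
theorem D15 : act 8 n11 = n15 := rfl
theorem F111 : act 0 n15 = n12 := d7_1 D15 (iv D12) D11
theorem F112 : act 1 n15 = n15 := d15_1 D15 (iv D15) F84
theorem F113 : act 2 n15 = n15 := d22_1 D15 (iv D15) F85
theorem F114 : act 4 n15 = n15 := d33_1 D15 (iv D15) F87
theorem F115 : act 5 n15 = n15 := d37_1 D15 (iv D15) F88
theorem F116 : act 6 n15 = n15 := d40_1 D15 (iv D15) F89
theorem F117 : act 7 n15 = n15 := d42_1 D15 (iv D15) F90
def n16 : Q := act 3 n12
theorem D16 : act 3 n12 = n16 := rfl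
theorem F118 : act 1 n16 = n13 := d10_1 D16 (iv D13) (iv F92)
theorem F119 : act 5 n16 = n16 := d25_2 F95 D16 (iv D16)
theorem F120 : act 6 n16 = n16 := d26_2 F96 D16 (iv D16)
theorem F121 : act 7 n16 = n16 := d27_2 F97 D16 (iv D16)
theorem F122 : act 8 n16 = n16 := d28_2 D12 D16 (iv D16) (iv D12) F64
def n17 : Q := act 9 n12
theorem D17 : act 9 n12 = n17 := rfl
theorem F123 : act 1 n17 = n14 := d16_1 D17 (iv D14) (iv F92)
theorem F124 : act 2 n17 = n17 := d23_1 D17 (iv D17) F93
theorem F125 : act 4 n17 = n17 := d34_1 D17 (iv D17) F94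
theorem F126 : act 5 n17 = n17 := d38_1 D17 (iv D17) F95
theorem F127 : act 6 n17 = n17 := d41_1 D17 (iv D17) F96
theorem F128 : act 7 n17 = n17 := d43_1 D17 (iv D17) F97
theorem F129 : act 8 n17 = n17 := d44_1 D17 (iv D17) (iv D12) F69 D12
def n18 : Q := act 4 n13
theorem D18 : act 4 n13 = n18 := rfl
theorem F130 : act 0 n18 = n18 := d3_1 D18 (iv D18) F98
theorem F131 : act 2 n18 = n18 := d18_1 D18 (iv D18) F99
theorem F132 : act 3 n18 = n18 := d24_1 D18 (iv D18) (iv D13) F72 D13
theorem F133 : act 6 n18 = n18 := d31_2 F101 D18 (iv D18)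
theorem F134 : act 7 n18 = n18 := d32_2 F102 D18 (iv D18)
theorem F135 : act 8 n18 = n18 := d33_2 F103 D18 (iv D18)
def n19 : Q := act 9 n13
theorem D19 : act 9 n13 = n19 := rfl
theorem F136 : act 0 n19 = n19 := d8_1 D19 (iv D19) F98
theorem F137 : act 2 n19 = n19 := d23_1 D19 (iv D19) F99
theorem F138 : act 3 n19 = n14 := d29_1 D19 (iv D14) D13
theorem F139 : act 5 n19 = n19 := d38_1 D19 (iv D19) F100
theorem F140 : act 6 n19 = n19 := d41_1 D19 (iv D19) F101
theorem F141 : act 7 n19 = n19 := d43_1 D19 (iv D19) F102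
def n20 : Q := act 3 n15
theorem D20 : act 3 n15 = n20 := rfl
theorem F142 : act 0 n20 = n16 := d2_1 D20 (iv D16) (iv F111)
theorem F143 : act 1 n20 = n20 := d10_1 D20 (iv D20) F112
theorem F144 : act 5 n20 = n20 := d25_2 F115 D20 (iv D20)
theorem F145 : act 6 n20 = n20 := d26_2 F116 D20 (iv D20)
theorem F146 : act 7 n20 = n20 := d27_2 F117 D20 (iv D20)
theorem F147 : act 8 n20 = n20 := d28_2 D15 D20 (iv D20) (iv D15) F86
def n21 : Q := act 9 n15
theorem D21 : act 9 n15 = n21 := rfl
theorem F148 : act 0 n21 = n17 := d8_1 D21 (iv D17) (iv F111)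
theorem F149 : act 1 n21 = n21 := d16_1 D21 (iv D21) F112
theorem F150 : act 2 n21 = n21 := d23_1 D21 (iv D21) F113
theorem F151 : act 4 n21 = n21 := d34_1 D21 (iv D21) F114
theorem F152 : act 5 n21 = n21 := d38_1 D21 (iv D21) F115
theorem F153 : act 6 n21 = n21 := d41_1 D21 (iv D21) F116
theorem F154 : act 7 n21 = n21 := d43_1 D21 (iv D21) F117
theorem F155 : act 8 n21 = n21 := d44_1 D21 (iv D21) (iv D15) F91 D15
def n22 : Q := act 2 n16
theorem D22 : act 2 n16 = n22 := rfl
theorem F156 : act 1 n22 = n22 := d9_1 D22 (iv D22) F118 F99 (iv F118)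
theorem F157 : act 3 n22 = n22 := d17_2 D16 D22 (iv D22) (iv D16) F93
theorem F158 : act 5 n22 = n22 := d19_2 F119 D22 (iv D22)
theorem F159 : act 6 n22 = n22 := d20_2 F120 D22 (iv D22)
theorem F160 : act 7 n22 = n22 := d21_2 F121 D22 (iv D22)
theorem F161 : act 8 n22 = n22 := d22_2 F122 D22 (iv D22)
def n23 : Q := act 4 n16
theorem D23 : act 4 n16 = n23 := rfl
theorem F162 : act 1 n23 = n18 := d11_1 D23 (iv D18) (iv F118)
theorem F163 : act 3 n23 = n23 := d24_1 D23 (iv D23) (iv D16) F94 D16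
theorem F164 : act 6 n23 = n23 := d31_2 F120 D23 (iv D23)
theorem F165 : act 7 n23 = n23 := d32_2 F121 D23 (iv D23)
theorem F166 : act 8 n23 = n23 := d33_2 F122 D23 (iv D23)
def n24 : Q := act 9 n16
theorem D24 : act 9 n16 = n24 := rfl
theorem F167 : act 1 n24 = n19 := d16_1 D24 (iv D19) (iv F118)
theorem F168 : act 3 n24 = n17 := d29_1 D24 (iv D17) D16
theorem F169 : act 5 n24 = n24 := d38_1 D24 (iv D24) F119
theorem F170 : act 6 n24 = n24 := d41_1 D24 (iv D24) F120
theorem F171 : act 7 n24 = n24 := d43_1 D24 (iv D24) F121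
def n25 : Q := act 5 n18
theorem D25 : act 5 n18 = n25 := rfl
theorem F172 : act 0 n25 = n25 := d4_1 D25 (iv D25) F130
theorem F173 : act 2 n25 = n25 := d19_1 D25 (iv D25) F131
theorem F174 : act 3 n25 = n25 := d25_1 D25 (iv D25) F132
theorem F175 : act 4 n25 = n25 := d30_1 D25 (iv D25) (iv D18) F100 D18
theorem F176 : act 7 n25 = n25 := d36_2 F134 D25 (iv D25)
theorem F177 : act 8 n25 = n25 := d37_2 F135 D25 (iv D25)
def n26 : Q := act 9 n18
theorem D26 : act 9 n18 = n26 := rfl
theorem F178 : act 0 n26 = n26 := d8_1 D26 (iv D26) F130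
theorem F179 : act 2 n26 = n26 := d23_1 D26 (iv D26) F131
theorem F180 : act 3 n26 = n26 := d29_1 D26 (iv D26) F132
theorem F181 : act 4 n26 = n19 := d34_1 D26 (iv D19) D18
theorem F182 : act 6 n26 = n26 := d41_1 D26 (iv D26) F133
theorem F183 : act 7 n26 = n26 := d43_1 D26 (iv D26) F134
def n27 : Q := act 8 n19
theorem D27 : act 8 n19 = n27 := rfl
theorem F184 : act 0 n27 = n27 := d7_1 D27 (iv D27) F136
theorem F185 : act 2 n27 = n27 := d22_1 D27 (iv D27) F137
theorem F186 : act 3 n27 = n27 := d28_1 D27 (iv D27) F138 F110 (iv F138)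
theorem F187 : act 5 n27 = n27 := d37_1 D27 (iv D27) F139
theorem F188 : act 6 n27 = n27 := d40_1 D27 (iv D27) F140
theorem F189 : act 7 n27 = n27 := d42_1 D27 (iv D27) F141
theorem F190 : act 9 n27 = n27 := d44_2 D19 D27 (iv D27) (iv D19) F103
def n28 : Q := act 2 n20
theorem D28 : act 2 n20 = n28 := rfl
theorem F191 : act 0 n28 = n22 := d1_1 D28 (iv D22) (iv F142)
theorem F192 : act 3 n28 = n28 := d17_2 D20 D28 (iv D28) (iv D20) F113
theorem F193 : act 5 n28 = n28 := d19_2 F144 D28 (iv D28)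
theorem F194 : act 6 n28 = n28 := d20_2 F145 D28 (iv D28)
theorem F195 : act 7 n28 = n28 := d21_2 F146 D28 (iv D28)
theorem F196 : act 8 n28 = n28 := d22_2 F147 D28 (iv D28)
def n29 : Q := act 4 n20
theorem D29 : act 4 n20 = n29 := rfl
theorem F197 : act 0 n29 = n23 := d3_1 D29 (iv D23) (iv F142)
theorem F198 : act 1 n29 = n29 := d11_1 D29 (iv D29) F143
theorem F199 : act 3 n29 = n29 := d24_1 D29 (iv D29) (iv D20) F114 D20
theorem F200 : act 6 n29 = n29 := d31_2 F145 D29 (iv D29)
theorem F201 : act 7 n29 = n29 := d32_2 F146 D29 (iv D29)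
theorem F202 : act 8 n29 = n29 := d33_2 F147 D29 (iv D29)
def n30 : Q := act 9 n20
theorem D30 : act 9 n20 = n30 := rfl
theorem F203 : act 0 n30 = n24 := d8_1 D30 (iv D24) (iv F142)
theorem F204 : act 1 n30 = n30 := d16_1 D30 (iv D30) F143
theorem F205 : act 3 n30 = n21 := d29_1 D30 (iv D21) D20
theorem F206 : act 5 n30 = n30 := d38_1 D30 (iv D30) F144
theorem F207 : act 6 n30 = n30 := d41_1 D30 (iv D30) F145
theorem F208 : act 7 n30 = n30 := d43_1 D30 (iv D30) F146
def n31 : Q := act 4 n22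
theorem D31 : act 4 n22 = n31 := rfl
theorem F209 : act 1 n31 = n31 := d11_1 D31 (iv D31) F156
theorem F210 : act 2 n31 = n23 := d18_1 D31 (iv D23) D22
theorem F211 : act 6 n31 = n31 := d31_2 F159 D31 (iv D31)
theorem F212 : act 7 n31 = n31 := d32_2 F160 D31 (iv D31)
theorem F213 : act 8 n31 = n31 := d33_2 F161 D31 (iv D31)
def n32 : Q := act 9 n22
theorem D32 : act 9 n22 = n32 := rfl
theorem F214 : act 1 n32 = n32 := d16_1 D32 (iv D32) F156
theorem F215 : act 2 n32 = n24 := d23_1 D32 (iv D24) D22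
theorem F216 : act 3 n32 = n32 := d29_1 D32 (iv D32) F157
theorem F217 : act 5 n32 = n32 := d38_1 D32 (iv D32) F158
theorem F218 : act 6 n32 = n32 := d41_1 D32 (iv D32) F159
theorem F219 : act 7 n32 = n32 := d43_1 D32 (iv D32) F160
def n33 : Q := act 5 n23
theorem D33 : act 5 n23 = n33 := rfl
theorem F220 : act 1 n33 = n25 := d12_1 D33 (iv D25) (iv F162)
theorem F221 : act 3 n33 = n33 := d25_1 D33 (iv D33) F163
theorem F222 : act 4 n33 = n33 := d30_1 D33 (iv D33) (iv D23) F119 D23
theorem F223 : act 7 n33 = n33 := d36_2 F165 D33 (iv D33)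
theorem F224 : act 8 n33 = n33 := d37_2 F166 D33 (iv D33)
def n34 : Q := act 9 n23
theorem D34 : act 9 n23 = n34 := rfl
theorem F225 : act 1 n34 = n26 := d16_1 D34 (iv D26) (iv F162)
theorem F226 : act 3 n34 = n34 := d29_1 D34 (iv D34) F163
theorem F227 : act 4 n34 = n24 := d34_1 D34 (iv D24) D23
theorem F228 : act 6 n34 = n34 := d41_1 D34 (iv D34) F164
theorem F229 : act 7 n34 = n34 := d43_1 D34 (iv D34) F165
def n35 : Q := act 8 n24
theorem D35 : act 8 n24 = n35 := rfl
theorem F230 : act 1 n35 = n27 := d15_1 D35 (iv D27) (iv F167)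
theorem F231 : act 3 n35 = n35 := d28_1 D35 (iv D35) F168 F129 (iv F168)
theorem F232 : act 5 n35 = n35 := d37_1 D35 (iv D35) F169
theorem F233 : act 6 n35 = n35 := d40_1 D35 (iv D35) F170
theorem F234 : act 7 n35 = n35 := d42_1 D35 (iv D35) F171
theorem F235 : act 9 n35 = n35 := d44_2 D24 D35 (iv D35) (iv D24) F122
def n36 : Q := act 6 n25
theorem D36 : act 6 n25 = n36 := rfl
theorem F236 : act 0 n36 = n36 := d5_1 D36 (iv D36) F172
theorem F237 : act 2 n36 = n36 := d20_1 D36 (iv D36) F173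
theorem F238 : act 3 n36 = n36 := d26_1 D36 (iv D36) F174
theorem F239 : act 4 n36 = n36 := d31_1 D36 (iv D36) F175
theorem F240 : act 5 n36 = n36 := d35_1 D36 (iv D36) (iv D25) F133 D25
theorem F241 : act 8 n36 = n36 := d40_2 F177 D36 (iv D36)
def n37 : Q := act 9 n25
theorem D37 : act 9 n25 = n37 := rfl
theorem F242 : act 0 n37 = n37 := d8_1 D37 (iv D37) F172
theorem F243 : act 2 n37 = n37 := d23_1 D37 (iv D37) F173
theorem F244 : act 3 n37 = n37 := d29_1 D37 (iv D37) F174
theorem F245 : act 4 n37 = n37 := d34_1 D37 (iv D37) F175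
theorem F246 : act 5 n37 = n26 := d38_1 D37 (iv D26) D25
theorem F247 : act 7 n37 = n37 := d43_1 D37 (iv D37) F176
def n38 : Q := act 8 n26
theorem D38 : act 8 n26 = n38 := rfl
theorem F248 : act 0 n38 = n38 := d7_1 D38 (iv D38) F178
theorem F249 : act 2 n38 = n38 := d22_1 D38 (iv D38) F179
theorem F250 : act 4 n38 = n27 := d33_1 D38 (iv D27) (iv F181)
theorem F251 : act 6 n38 = n38 := d40_1 D38 (iv D38) F182
theorem F252 : act 7 n38 = n38 := d42_1 D38 (iv D38) F183
theorem F253 : act 9 n38 = n38 := d44_2 D26 D38 (iv D38) (iv D26) F135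
def n39 : Q := act 1 n28
theorem D39 : act 1 n28 = n39 := rfl
theorem F254 : act 0 n39 = n39 := d0_1 D39 (iv D39) F191 F156 (iv F191)
theorem F255 : act 2 n39 = n39 := d9_2 D28 D39 (iv D39) (iv D28) F143
theorem F256 : act 3 n39 = n39 := d10_2 F192 D39 (iv D39)
theorem F257 : act 5 n39 = n39 := d12_2 F193 D39 (iv D39)
theorem F258 : act 6 n39 = n39 := d13_2 F194 D39 (iv D39)
theorem F259 : act 7 n39 = n39 := d14_2 F195 D39 (iv D39)
theorem F260 : act 8 n39 = n39 := d15_2 F196 D39 (iv D39)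
def n40 : Q := act 4 n28
theorem D40 : act 4 n28 = n40 := rfl
theorem F261 : act 0 n40 = n31 := d3_1 D40 (iv D31) (iv F191)
theorem F262 : act 2 n40 = n29 := d18_1 D40 (iv D29) D28
theorem F263 : act 6 n40 = n40 := d31_2 F194 D40 (iv D40)
theorem F264 : act 7 n40 = n40 := d32_2 F195 D40 (iv D40)
theorem F265 : act 8 n40 = n40 := d33_2 F196 D40 (iv D40)
def n41 : Q := act 9 n28
theorem D41 : act 9 n28 = n41 := rfl
theorem F266 : act 0 n41 = n32 := d8_1 D41 (iv D32) (iv F191)
theorem F267 : act 2 n41 = n30 := d23_1 D41 (iv D30) D28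
theorem F268 : act 3 n41 = n41 := d29_1 D41 (iv D41) F192
theorem F269 : act 5 n41 = n41 := d38_1 D41 (iv D41) F193
theorem F270 : act 6 n41 = n41 := d41_1 D41 (iv D41) F194
theorem F271 : act 7 n41 = n41 := d43_1 D41 (iv D41) F195
def n42 : Q := act 5 n29
theorem D42 : act 5 n29 = n42 := rfl
theorem F272 : act 0 n42 = n33 := d4_1 D42 (iv D33) (iv F197)
theorem F273 : act 1 n42 = n42 := d12_1 D42 (iv D42) F198
theorem F274 : act 3 n42 = n42 := d25_1 D42 (iv D42) F199
theorem F275 : act 4 n42 = n42 := d30_1 D42 (iv D42) (iv D29) F144 D29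
theorem F276 : act 7 n42 = n42 := d36_2 F201 D42 (iv D42)
theorem F277 : act 8 n42 = n42 := d37_2 F202 D42 (iv D42)
def n43 : Q := act 9 n29
theorem D43 : act 9 n29 = n43 := rfl
theorem F278 : act 0 n43 = n34 := d8_1 D43 (iv D34) (iv F197)
theorem F279 : act 1 n43 = n43 := d16_1 D43 (iv D43) F198
theorem F280 : act 3 n43 = n43 := d29_1 D43 (iv D43) F199
theorem F281 : act 4 n43 = n30 := d34_1 D43 (iv D30) D29
theorem F282 : act 6 n43 = n43 := d41_1 D43 (iv D43) F200
theorem F283 : act 7 n43 = n43 := d43_1 D43 (iv D43) F201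
def n44 : Q := act 8 n30
theorem D44 : act 8 n30 = n44 := rfl
theorem F284 : act 0 n44 = n35 := d7_1 D44 (iv D35) (iv F203)
theorem F285 : act 1 n44 = n44 := d15_1 D44 (iv D44) F204
theorem F286 : act 3 n44 = n44 := d28_1 D44 (iv D44) F205 F155 (iv F205)
theorem F287 : act 5 n44 = n44 := d37_1 D44 (iv D44) F206
theorem F288 : act 6 n44 = n44 := d40_1 D44 (iv D44) F207
theorem F289 : act 7 n44 = n44 := d42_1 D44 (iv D44) F208
theorem F290 : act 9 n44 = n44 := d44_2 D30 D44 (iv D44) (iv D30) F147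
def n45 : Q := act 3 n31
theorem D45 : act 3 n31 = n45 := rfl
theorem F291 : act 1 n45 = n45 := d10_1 D45 (iv D45) F209
theorem F292 : act 2 n45 = n45 := d17_1 D45 (iv D45) F210 F163 (iv F210)
theorem F293 : act 4 n45 = n45 := d24_2 D31 D45 (iv D45) (iv D31) F157
theorem F294 : act 6 n45 = n45 := d26_2 F211 D45 (iv D45)
theorem F295 : act 7 n45 = n45 := d27_2 F212 D45 (iv D45)
def n46 : Q := act 5 n31
theorem D46 : act 5 n31 = n46 := rfl
theorem F296 : act 1 n46 = n46 := d12_1 D46 (iv D46) F209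
theorem F297 : act 2 n46 = n33 := d19_1 D46 (iv D33) (iv F210)
theorem F298 : act 4 n46 = n46 := d30_1 D46 (iv D46) (iv D31) F158 D31
theorem F299 : act 7 n46 = n46 := d36_2 F212 D46 (iv D46)
theorem F300 : act 8 n46 = n46 := d37_2 F213 D46 (iv D46)
def n47 : Q := act 9 n31
theorem D47 : act 9 n31 = n47 := rfl
theorem F301 : act 1 n47 = n47 := d16_1 D47 (iv D47) F209
theorem F302 : act 2 n47 = n34 := d23_1 D47 (iv D34) (iv F210)
theorem F303 : act 4 n47 = n32 := d34_1 D47 (iv D32) D31
theorem F304 : act 6 n47 = n47 := d41_1 D47 (iv D47) F211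
theorem F305 : act 7 n47 = n47 := d43_1 D47 (iv D47) F212
def n48 : Q := act 8 n32
theorem D48 : act 8 n32 = n48 := rfl
theorem F306 : act 1 n48 = n48 := d15_1 D48 (iv D48) F214
theorem F307 : act 2 n48 = n35 := d22_1 D48 (iv D35) (iv F215)
theorem F308 : act 5 n48 = n48 := d37_1 D48 (iv D48) F217
theorem F309 : act 6 n48 = n48 := d40_1 D48 (iv D48) F218
theorem F310 : act 7 n48 = n48 := d42_1 D48 (iv D48) F219
theorem F311 : act 9 n48 = n48 := d44_2 D32 D48 (iv D48) (iv D32) F161
def n49 : Q := act 6 n33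
theorem D49 : act 6 n33 = n49 := rfl
theorem F312 : act 1 n49 = n36 := d13_1 D49 (iv D36) (iv F220)
theorem F313 : act 3 n49 = n49 := d26_1 D49 (iv D49) F221
theorem F314 : act 4 n49 = n49 := d31_1 D49 (iv D49) F222
theorem F315 : act 5 n49 = n49 := d35_1 D49 (iv D49) (iv D33) F164 D33
theorem F316 : act 8 n49 = n49 := d40_2 F224 D49 (iv D49)
def n50 : Q := act 9 n33
theorem D50 : act 9 n33 = n50 := rfl
theorem F317 : act 1 n50 = n37 := d16_1 D50 (iv D37) (iv F220)
theorem F318 : act 3 n50 = n50 := d29_1 D50 (iv D50) F221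
theorem F319 : act 4 n50 = n50 := d34_1 D50 (iv D50) F222
theorem F320 : act 5 n50 = n34 := d38_1 D50 (iv D34) D33
theorem F321 : act 7 n50 = n50 := d43_1 D50 (iv D50) F223
def n51 : Q := act 8 n34
theorem D51 : act 8 n34 = n51 := rfl
theorem F322 : act 1 n51 = n38 := d15_1 D51 (iv D38) (iv F225)
theorem F323 : act 4 n51 = n35 := d33_1 D51 (iv D35) (iv F227)
theorem F324 : act 6 n51 = n51 := d40_1 D51 (iv D51) F228
theorem F325 : act 7 n51 = n51 := d42_1 D51 (iv D51) F229
theorem F326 : act 9 n51 = n51 := d44_2 D34 D51 (iv D51) (iv D34) F166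
def n52 : Q := act 7 n36
theorem D52 : act 7 n36 = n52 := rfl
theorem F327 : act 0 n52 = n52 := d6_1 D52 (iv D52) F236
theorem F328 : act 2 n52 = n52 := d21_1 D52 (iv D52) F237
theorem F329 : act 3 n52 = n52 := d27_1 D52 (iv D52) F238
theorem F330 : act 4 n52 = n52 := d32_1 D52 (iv D52) F239
theorem F331 : act 5 n52 = n52 := d36_1 D52 (iv D52) F240
theorem F332 : act 6 n52 = n52 := d39_1 D52 (iv D52) (iv D36) F176 D36
theorem F333 : act 8 n52 = n52 := d42_2 F241 D52 (iv D52)
def n53 : Q := act 9 n36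
theorem D53 : act 9 n36 = n53 := rfl
theorem F334 : act 0 n53 = n53 := d8_1 D53 (iv D53) F236
theorem F335 : act 2 n53 = n53 := d23_1 D53 (iv D53) F237
theorem F336 : act 3 n53 = n53 := d29_1 D53 (iv D53) F238
theorem F337 : act 4 n53 = n53 := d34_1 D53 (iv D53) F239
theorem F338 : act 5 n53 = n53 := d38_1 D53 (iv D53) F240
theorem F339 : act 6 n53 = n37 := d41_1 D53 (iv D37) D36
def n54 : Q := act 8 n37
theorem D54 : act 8 n37 = n54 := rfl
theorem F340 : act 0 n54 = n54 := d7_1 D54 (iv D54) F242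
theorem F341 : act 2 n54 = n54 := d22_1 D54 (iv D54) F243
theorem F342 : act 4 n54 = n54 := d33_1 D54 (iv D54) F245
theorem F343 : act 5 n54 = n38 := d37_1 D54 (iv D38) (iv F246)
theorem F344 : act 7 n54 = n54 := d42_1 D54 (iv D54) F247
theorem F345 : act 9 n54 = n54 := d44_2 D37 D54 (iv D54) (iv D37) F177
def n55 : Q := act 3 n38
theorem D55 : act 3 n38 = n55 := rfl
theorem F346 : act 0 n55 = n55 := d2_1 D55 (iv D55) F248
theorem F347 : act 4 n55 = n55 := d24_2 (iv F250) D55 (iv D55) F250 F186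
theorem F348 : act 6 n55 = n55 := d26_2 F251 D55 (iv D55)
theorem F349 : act 7 n55 = n55 := d27_2 F252 D55 (iv D55)
theorem F350 : act 8 n55 = n55 := d28_2 D38 D55 (iv D55) (iv D38) F180
theorem F351 : act 9 n55 = n55 := d29_2 F253 D55 (iv D55)
def n56 : Q := act 4 n39
theorem D56 : act 4 n39 = n56 := rfl
theorem F352 : act 0 n56 = n56 := d3_1 D56 (iv D56) F254
theorem F353 : act 1 n56 = n40 := d11_1 D56 (iv D40) D39
theorem F354 : act 2 n56 = n56 := d18_1 D56 (iv D56) F255
theorem F355 : act 6 n56 = n56 := d31_2 F258 D56 (iv D56)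
theorem F356 : act 7 n56 = n56 := d32_2 F259 D56 (iv D56)
theorem F357 : act 8 n56 = n56 := d33_2 F260 D56 (iv D56)
def n57 : Q := act 9 n39
theorem D57 : act 9 n39 = n57 := rfl
theorem F358 : act 0 n57 = n57 := d8_1 D57 (iv D57) F254
theorem F359 : act 1 n57 = n41 := d16_1 D57 (iv D41) D39
theorem F360 : act 2 n57 = n57 := d23_1 D57 (iv D57) F255
theorem F361 : act 3 n57 = n57 := d29_1 D57 (iv D57) F256
theorem F362 : act 5 n57 = n57 := d38_1 D57 (iv D57) F257
theorem F363 : act 6 n57 = n57 := d41_1 D57 (iv D57) F258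
theorem F364 : act 7 n57 = n57 := d43_1 D57 (iv D57) F259
def n58 : Q := act 3 n40
theorem D58 : act 3 n40 = n58 := rfl
theorem F365 : act 0 n58 = n45 := d2_1 D58 (iv D45) (iv F261)
theorem F366 : act 2 n58 = n58 := d17_1 D58 (iv D58) F262 F199 (iv F262)
theorem F367 : act 4 n58 = n58 := d24_2 D40 D58 (iv D58) (iv D40) F192
theorem F368 : act 6 n58 = n58 := d26_2 F263 D58 (iv D58)
theorem F369 : act 7 n58 = n58 := d27_2 F264 D58 (iv D58)
def n59 : Q := act 5 n40
theorem D59 : act 5 n40 = n59 := rfl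
theorem F370 : act 0 n59 = n46 := d4_1 D59 (iv D46) (iv F261)
theorem F371 : act 2 n59 = n42 := d19_1 D59 (iv D42) (iv F262)
theorem F372 : act 4 n59 = n59 := d30_1 D59 (iv D59) (iv D40) F193 D40
theorem F373 : act 7 n59 = n59 := d36_2 F264 D59 (iv D59)
theorem F374 : act 8 n59 = n59 := d37_2 F265 D59 (iv D59)
def n60 : Q := act 9 n40
theorem D60 : act 9 n40 = n60 := rfl
theorem F375 : act 0 n60 = n47 := d8_1 D60 (iv D47) (iv F261)
theorem F376 : act 2 n60 = n43 := d23_1 D60 (iv D43) (iv F262)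
theorem F377 : act 4 n60 = n41 := d34_1 D60 (iv D41) D40
theorem F378 : act 6 n60 = n60 := d41_1 D60 (iv D60) F263
theorem F379 : act 7 n60 = n60 := d43_1 D60 (iv D60) F264
def n61 : Q := act 8 n41
theorem D61 : act 8 n41 = n61 := rfl
theorem F380 : act 0 n61 = n48 := d7_1 D61 (iv D48) (iv F266)
theorem F381 : act 2 n61 = n44 := d22_1 D61 (iv D44) (iv F267)
theorem F382 : act 5 n61 = n61 := d37_1 D61 (iv D61) F269
theorem F383 : act 6 n61 = n61 := d40_1 D61 (iv D61) F270
theorem F384 : act 7 n61 = n61 := d42_1 D61 (iv D61) F271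
theorem F385 : act 9 n61 = n61 := d44_2 D41 D61 (iv D61) (iv D41) F196
def n62 : Q := act 6 n42
theorem D62 : act 6 n42 = n62 := rfl
theorem F386 : act 0 n62 = n49 := d5_1 D62 (iv D49) (iv F272)
theorem F387 : act 1 n62 = n62 := d13_1 D62 (iv D62) F273
theorem F388 : act 3 n62 = n62 := d26_1 D62 (iv D62) F274
theorem F389 : act 4 n62 = n62 := d31_1 D62 (iv D62) F275
theorem F390 : act 5 n62 = n62 := d35_1 D62 (iv D62) (iv D42) F200 D42
theorem F391 : act 8 n62 = n62 := d40_2 F277 D62 (iv D62)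
def n63 : Q := act 9 n42
theorem D63 : act 9 n42 = n63 := rfl
theorem F392 : act 0 n63 = n50 := d8_1 D63 (iv D50) (iv F272)
theorem F393 : act 1 n63 = n63 := d16_1 D63 (iv D63) F273
theorem F394 : act 3 n63 = n63 := d29_1 D63 (iv D63) F274
theorem F395 : act 4 n63 = n63 := d34_1 D63 (iv D63) F275
theorem F396 : act 5 n63 = n43 := d38_1 D63 (iv D43) D42
theorem F397 : act 7 n63 = n63 := d43_1 D63 (iv D63) F276
def n64 : Q := act 8 n43
theorem D64 : act 8 n43 = n64 := rfl
theorem F398 : act 0 n64 = n51 := d7_1 D64 (iv D51) (iv F278)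
theorem F399 : act 1 n64 = n64 := d15_1 D64 (iv D64) F279
theorem F400 : act 4 n64 = n44 := d33_1 D64 (iv D44) (iv F281)
theorem F401 : act 6 n64 = n64 := d40_1 D64 (iv D64) F282
theorem F402 : act 7 n64 = n64 := d42_1 D64 (iv D64) F283
theorem F403 : act 9 n64 = n64 := d44_2 D43 D64 (iv D64) (iv D43) F202
def n65 : Q := act 5 n45
theorem D65 : act 5 n45 = n65 := rfl
theorem F404 : act 1 n65 = n65 := d12_1 D65 (iv D65) F291
theorem F405 : act 2 n65 = n65 := d19_1 D65 (iv D65) F292
theorem F406 : act 3 n65 = n46 := d25_1 D65 (iv D46) D45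
theorem F407 : act 7 n65 = n65 := d36_2 F295 D65 (iv D65)
def n66 : Q := act 8 n45
theorem D66 : act 8 n45 = n66 := rfl
theorem F408 : act 1 n66 = n66 := d15_1 D66 (iv D66) F291
theorem F409 : act 2 n66 = n66 := d22_1 D66 (iv D66) F292
theorem F410 : act 3 n66 = n66 := d28_1 D66 (iv D66) (iv D45) F213 D45
theorem F411 : act 4 n66 = n66 := d33_1 D66 (iv D66) F293
theorem F412 : act 6 n66 = n66 := d40_1 D66 (iv D66) F294
theorem F413 : act 7 n66 = n66 := d42_1 D66 (iv D66) F295
def n67 : Q := act 9 n45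
theorem D67 : act 9 n45 = n67 := rfl
theorem F414 : act 1 n67 = n67 := d16_1 D67 (iv D67) F291
theorem F415 : act 2 n67 = n67 := d23_1 D67 (iv D67) F292
theorem F416 : act 3 n67 = n47 := d29_1 D67 (iv D47) D45
theorem F417 : act 4 n67 = n67 := d34_1 D67 (iv D67) F293
theorem F418 : act 6 n67 = n67 := d41_1 D67 (iv D67) F294
theorem F419 : act 7 n67 = n67 := d43_1 D67 (iv D67) F295
def n68 : Q := act 6 n46
theorem D68 : act 6 n46 = n68 := rfl
theorem F420 : act 1 n68 = n68 := d13_1 D68 (iv D68) F296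
theorem F421 : act 2 n68 = n49 := d20_1 D68 (iv D49) (iv F297)
theorem F422 : act 4 n68 = n68 := d31_1 D68 (iv D68) F298
theorem F423 : act 5 n68 = n68 := d35_1 D68 (iv D68) (iv D46) F211 D46
theorem F424 : act 8 n68 = n68 := d40_2 F300 D68 (iv D68)
def n69 : Q := act 9 n46
theorem D69 : act 9 n46 = n69 := rfl
theorem F425 : act 1 n69 = n69 := d16_1 D69 (iv D69) F296
theorem F426 : act 2 n69 = n50 := d23_1 D69 (iv D50) (iv F297)
theorem F427 : act 4 n69 = n69 := d34_1 D69 (iv D69) F298
theorem F428 : act 5 n69 = n47 := d38_1 D69 (iv D47) D46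
theorem F429 : act 7 n69 = n69 := d43_1 D69 (iv D69) F299
def n70 : Q := act 8 n47
theorem D70 : act 8 n47 = n70 := rfl
theorem F430 : act 1 n70 = n70 := d15_1 D70 (iv D70) F301
theorem F431 : act 2 n70 = n51 := d22_1 D70 (iv D51) (iv F302)
theorem F432 : act 4 n70 = n48 := d33_1 D70 (iv D48) (iv F303)
theorem F433 : act 6 n70 = n70 := d40_1 D70 (iv D70) F304
theorem F434 : act 7 n70 = n70 := d42_1 D70 (iv D70) F305
theorem F435 : act 9 n70 = n70 := d44_2 D47 D70 (iv D70) (iv D47) F213
def n71 : Q := act 3 n48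
theorem D71 : act 3 n48 = n71 := rfl
theorem F436 : act 1 n71 = n71 := d10_1 D71 (iv D71) F306
theorem F437 : act 2 n71 = n71 := d17_1 D71 (iv D71) F307 F231 (iv F307)
theorem F438 : act 5 n71 = n71 := d25_2 F308 D71 (iv D71)
theorem F439 : act 6 n71 = n71 := d26_2 F309 D71 (iv D71)
theorem F440 : act 7 n71 = n71 := d27_2 F310 D71 (iv D71)
theorem F441 : act 8 n71 = n71 := d28_2 D48 D71 (iv D71) (iv D48) F216
theorem F442 : act 9 n71 = n71 := d29_2 F311 D71 (iv D71)
def n72 : Q := act 7 n49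
theorem D72 : act 7 n49 = n72 := rfl
theorem F443 : act 1 n72 = n52 := d14_1 D72 (iv D52) (iv F312)
theorem F444 : act 3 n72 = n72 := d27_1 D72 (iv D72) F313
theorem F445 : act 4 n72 = n72 := d32_1 D72 (iv D72) F314
theorem F446 : act 5 n72 = n72 := d36_1 D72 (iv D72) F315
theorem F447 : act 6 n72 = n72 := d39_1 D72 (iv D72) (iv D49) F223 D49
theorem F448 : act 8 n72 = n72 := d42_2 F316 D72 (iv D72)
def n73 : Q := act 9 n49
theorem D73 : act 9 n49 = n73 := rfl
theorem F449 : act 1 n73 = n53 := d16_1 D73 (iv D53) (iv F312)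
theorem F450 : act 3 n73 = n73 := d29_1 D73 (iv D73) F313
theorem F451 : act 4 n73 = n73 := d34_1 D73 (iv D73) F314
theorem F452 : act 5 n73 = n73 := d38_1 D73 (iv D73) F315
theorem F453 : act 6 n73 = n50 := d41_1 D73 (iv D50) D49
def n74 : Q := act 8 n50
theorem D74 : act 8 n50 = n74 := rfl
theorem F454 : act 1 n74 = n54 := d15_1 D74 (iv D54) (iv F317)
theorem F455 : act 4 n74 = n74 := d33_1 D74 (iv D74) F319
theorem F456 : act 5 n74 = n51 := d37_1 D74 (iv D51) (iv F320)
theorem F457 : act 7 n74 = n74 := d42_1 D74 (iv D74) F321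
theorem F458 : act 9 n74 = n74 := d44_2 D50 D74 (iv D74) (iv D50) F224
def n75 : Q := act 3 n51
theorem D75 : act 3 n51 = n75 := rfl
theorem F459 : act 1 n75 = n55 := d10_1 D75 (iv D55) (iv F322)
theorem F460 : act 4 n75 = n75 := d24_2 (iv F323) D75 (iv D75) F323 F231
theorem F461 : act 6 n75 = n75 := d26_2 F324 D75 (iv D75)
theorem F462 : act 7 n75 = n75 := d27_2 F325 D75 (iv D75)
theorem F463 : act 8 n75 = n75 := d28_2 D51 D75 (iv D75) (iv D51) F226
theorem F464 : act 9 n75 = n75 := d29_2 F326 D75 (iv D75)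
def n76 : Q := act 9 n52
theorem D76 : act 9 n52 = n76 := rfl
theorem F465 : act 0 n76 = n76 := d8_1 D76 (iv D76) F327
theorem F466 : act 2 n76 = n76 := d23_1 D76 (iv D76) F328
theorem F467 : act 3 n76 = n76 := d29_1 D76 (iv D76) F329
theorem F468 : act 4 n76 = n76 := d34_1 D76 (iv D76) F330
theorem F469 : act 5 n76 = n76 := d38_1 D76 (iv D76) F331
theorem F470 : act 6 n76 = n76 := d41_1 D76 (iv D76) F332
theorem F471 : act 7 n76 = n53 := d43_1 D76 (iv D53) D52
def n77 : Q := act 8 n53
theorem D77 : act 8 n53 = n77 := rfl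
theorem F472 : act 0 n77 = n77 := d7_1 D77 (iv D77) F334
theorem F473 : act 2 n77 = n77 := d22_1 D77 (iv D77) F335
theorem F474 : act 4 n77 = n77 := d33_1 D77 (iv D77) F337
theorem F475 : act 5 n77 = n77 := d37_1 D77 (iv D77) F338
theorem F476 : act 6 n77 = n54 := d40_1 D77 (iv D54) (iv F339)
theorem F477 : act 9 n77 = n77 := d44_2 D53 D77 (iv D77) (iv D53) F241
def n78 : Q := act 3 n54
theorem D78 : act 3 n54 = n78 := rfl
theorem F478 : act 0 n78 = n78 := d2_1 D78 (iv D78) F340
theorem F479 : act 5 n78 = n55 := d25_2 (iv F343) D78 (iv D55)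
theorem F480 : act 7 n78 = n78 := d27_2 F344 D78 (iv D78)
theorem F481 : act 8 n78 = n78 := d28_2 D54 D78 (iv D78) (iv D54) F244
theorem F482 : act 9 n78 = n78 := d29_2 F345 D78 (iv D78)
def n79 : Q := act 2 n55
theorem D79 : act 2 n55 = n79 := rfl
theorem F483 : act 0 n79 = n79 := d1_1 D79 (iv D79) F346
theorem F484 : act 3 n79 = n79 := d17_2 D55 D79 (iv D79) (iv D55) F249
theorem F485 : act 4 n79 = n79 := d18_2 F347 D79 (iv D79)
theorem F486 : act 6 n79 = n79 := d20_2 F348 D79 (iv D79)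
theorem F487 : act 7 n79 = n79 := d21_2 F349 D79 (iv D79)
theorem F488 : act 8 n79 = n79 := d22_2 F350 D79 (iv D79)
theorem F489 : act 9 n79 = n79 := d23_2 F351 D79 (iv D79)
def n80 : Q := act 3 n56
theorem D80 : act 3 n56 = n80 := rfl
theorem F490 : act 0 n80 = n80 := d2_1 D80 (iv D80) F352
theorem F491 : act 1 n80 = n58 := d10_1 D80 (iv D58) (iv F353)
theorem F492 : act 4 n80 = n80 := d24_2 D56 D80 (iv D80) (iv D56) F256
theorem F493 : act 6 n80 = n80 := d26_2 F355 D80 (iv D80)
theorem F494 : act 7 n80 = n80 := d27_2 F356 D80 (iv D80)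
def n81 : Q := act 5 n56
theorem D81 : act 5 n56 = n81 := rfl
theorem F495 : act 0 n81 = n81 := d4_1 D81 (iv D81) F352
theorem F496 : act 1 n81 = n59 := d12_1 D81 (iv D59) (iv F353)
theorem F497 : act 2 n81 = n81 := d19_1 D81 (iv D81) F354
theorem F498 : act 4 n81 = n81 := d30_1 D81 (iv D81) (iv D56) F257 D56
theorem F499 : act 7 n81 = n81 := d36_2 F356 D81 (iv D81)
theorem F500 : act 8 n81 = n81 := d37_2 F357 D81 (iv D81)
def n82 : Q := act 9 n56
theorem D82 : act 9 n56 = n82 := rfl
theorem F501 : act 0 n82 = n82 := d8_1 D82 (iv D82) F352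
theorem F502 : act 1 n82 = n60 := d16_1 D82 (iv D60) (iv F353)
theorem F503 : act 2 n82 = n82 := d23_1 D82 (iv D82) F354
theorem F504 : act 4 n82 = n57 := d34_1 D82 (iv D57) D56
theorem F505 : act 6 n82 = n82 := d41_1 D82 (iv D82) F355
theorem F506 : act 7 n82 = n82 := d43_1 D82 (iv D82) F356
def n83 : Q := act 8 n57
theorem D83 : act 8 n57 = n83 := rfl
theorem F507 : act 0 n83 = n83 := d7_1 D83 (iv D83) F358
theorem F508 : act 1 n83 = n61 := d15_1 D83 (iv D61) (iv F359)
theorem F509 : act 2 n83 = n83 := d22_1 D83 (iv D83) F360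
theorem F510 : act 5 n83 = n83 := d37_1 D83 (iv D83) F362
theorem F511 : act 6 n83 = n83 := d40_1 D83 (iv D83) F363
theorem F512 : act 7 n83 = n83 := d42_1 D83 (iv D83) F364
theorem F513 : act 9 n83 = n83 := d44_2 D57 D83 (iv D83) (iv D57) F260
def n84 : Q := act 5 n58
theorem D84 : act 5 n58 = n84 := rfl
theorem F514 : act 0 n84 = n65 := d4_1 D84 (iv D65) (iv F365)
theorem F515 : act 2 n84 = n84 := d19_1 D84 (iv D84) F366
theorem F516 : act 3 n84 = n59 := d25_1 D84 (iv D59) D58
theorem F517 : act 7 n84 = n84 := d36_2 F369 D84 (iv D84)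
def n85 : Q := act 8 n58
theorem D85 : act 8 n58 = n85 := rfl
theorem F518 : act 0 n85 = n66 := d7_1 D85 (iv D66) (iv F365)
theorem F519 : act 2 n85 = n85 := d22_1 D85 (iv D85) F366
theorem F520 : act 3 n85 = n85 := d28_1 D85 (iv D85) (iv D58) F265 D58
theorem F521 : act 4 n85 = n85 := d33_1 D85 (iv D85) F367
theorem F522 : act 6 n85 = n85 := d40_1 D85 (iv D85) F368
theorem F523 : act 7 n85 = n85 := d42_1 D85 (iv D85) F369
def n86 : Q := act 9 n58
theorem D86 : act 9 n58 = n86 := rfl
theorem F524 : act 0 n86 = n67 := d8_1 D86 (iv D67) (iv F365)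
theorem F525 : act 2 n86 = n86 := d23_1 D86 (iv D86) F366
theorem F526 : act 3 n86 = n60 := d29_1 D86 (iv D60) D58
theorem F527 : act 4 n86 = n86 := d34_1 D86 (iv D86) F367
theorem F528 : act 6 n86 = n86 := d41_1 D86 (iv D86) F368
theorem F529 : act 7 n86 = n86 := d43_1 D86 (iv D86) F369
def n87 : Q := act 6 n59
theorem D87 : act 6 n59 = n87 := rfl
theorem F530 : act 0 n87 = n68 := d5_1 D87 (iv D68) (iv F370)
theorem F531 : act 2 n87 = n62 := d20_1 D87 (iv D62) (iv F371)
theorem F532 : act 4 n87 = n87 := d31_1 D87 (iv D87) F372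
theorem F533 : act 5 n87 = n87 := d35_1 D87 (iv D87) (iv D59) F263 D59
theorem F534 : act 8 n87 = n87 := d40_2 F374 D87 (iv D87)
def n88 : Q := act 9 n59
theorem D88 : act 9 n59 = n88 := rfl
theorem F535 : act 0 n88 = n69 := d8_1 D88 (iv D69) (iv F370)
theorem F536 : act 2 n88 = n63 := d23_1 D88 (iv D63) (iv F371)
theorem F537 : act 4 n88 = n88 := d34_1 D88 (iv D88) F372
theorem F538 : act 5 n88 = n60 := d38_1 D88 (iv D60) D59
theorem F539 : act 7 n88 = n88 := d43_1 D88 (iv D88) F373
def n89 : Q := act 8 n60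
theorem D89 : act 8 n60 = n89 := rfl
theorem F540 : act 0 n89 = n70 := d7_1 D89 (iv D70) (iv F375)
theorem F541 : act 2 n89 = n64 := d22_1 D89 (iv D64) (iv F376)
theorem F542 : act 4 n89 = n61 := d33_1 D89 (iv D61) (iv F377)
theorem F543 : act 6 n89 = n89 := d40_1 D89 (iv D89) F378
theorem F544 : act 7 n89 = n89 := d42_1 D89 (iv D89) F379
theorem F545 : act 9 n89 = n89 := d44_2 D60 D89 (iv D89) (iv D60) F265
def n90 : Q := act 3 n61
theorem D90 : act 3 n61 = n90 := rfl
theorem F546 : act 0 n90 = n71 := d2_1 D90 (iv D71) (iv F380)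
theorem F547 : act 2 n90 = n90 := d17_1 D90 (iv D90) F381 F286 (iv F381)
theorem F548 : act 5 n90 = n90 := d25_2 F382 D90 (iv D90)
theorem F549 : act 6 n90 = n90 := d26_2 F383 D90 (iv D90)
theorem F550 : act 7 n90 = n90 := d27_2 F384 D90 (iv D90)
theorem F551 : act 8 n90 = n90 := d28_2 D61 D90 (iv D90) (iv D61) F268
theorem F552 : act 9 n90 = n90 := d29_2 F385 D90 (iv D90)
def n91 : Q := act 7 n62
theorem D91 : act 7 n62 = n91 := rfl
theorem F553 : act 0 n91 = n72 := d6_1 D91 (iv D72) (iv F386)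
theorem F554 : act 1 n91 = n91 := d14_1 D91 (iv D91) F387
theorem F555 : act 3 n91 = n91 := d27_1 D91 (iv D91) F388
theorem F556 : act 4 n91 = n91 := d32_1 D91 (iv D91) F389
theorem F557 : act 5 n91 = n91 := d36_1 D91 (iv D91) F390
theorem F558 : act 6 n91 = n91 := d39_1 D91 (iv D91) (iv D62) F276 D62
theorem F559 : act 8 n91 = n91 := d42_2 F391 D91 (iv D91)
def n92 : Q := act 9 n62
theorem D92 : act 9 n62 = n92 := rfl
theorem F560 : act 0 n92 = n73 := d8_1 D92 (iv D73) (iv F386)
theorem F561 : act 1 n92 = n92 := d16_1 D92 (iv D92) F387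
theorem F562 : act 3 n92 = n92 := d29_1 D92 (iv D92) F388
theorem F563 : act 4 n92 = n92 := d34_1 D92 (iv D92) F389
theorem F564 : act 5 n92 = n92 := d38_1 D92 (iv D92) F390
theorem F565 : act 6 n92 = n63 := d41_1 D92 (iv D63) D62
def n93 : Q := act 8 n63
theorem D93 : act 8 n63 = n93 := rfl
theorem F566 : act 0 n93 = n74 := d7_1 D93 (iv D74) (iv F392)
theorem F567 : act 1 n93 = n93 := d15_1 D93 (iv D93) F393
theorem F568 : act 4 n93 = n93 := d33_1 D93 (iv D93) F395
theorem F569 : act 5 n93 = n64 := d37_1 D93 (iv D64) (iv F396)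
theorem F570 : act 7 n93 = n93 := d42_1 D93 (iv D93) F397
theorem F571 : act 9 n93 = n93 := d44_2 D63 D93 (iv D93) (iv D63) F277
def n94 : Q := act 3 n64
theorem D94 : act 3 n64 = n94 := rfl
theorem F572 : act 0 n94 = n75 := d2_1 D94 (iv D75) (iv F398)
theorem F573 : act 1 n94 = n94 := d10_1 D94 (iv D94) F399
theorem F574 : act 4 n94 = n94 := d24_2 (iv F400) D94 (iv D94) F400 F286
theorem F575 : act 6 n94 = n94 := d26_2 F401 D94 (iv D94)
theorem F576 : act 7 n94 = n94 := d27_2 F402 D94 (iv D94)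
theorem F577 : act 8 n94 = n94 := d28_2 D64 D94 (iv D94) (iv D64) F280
theorem F578 : act 9 n94 = n94 := d29_2 F403 D94 (iv D94)
def n95 : Q := act 4 n65
theorem D95 : act 4 n65 = n95 := rfl
theorem F579 : act 1 n95 = n95 := d11_1 D95 (iv D95) F404
theorem F580 : act 2 n95 = n95 := d18_1 D95 (iv D95) F405
theorem F581 : act 3 n95 = n95 := d24_1 D95 (iv D95) F406 F298 (iv F406)
theorem F582 : act 5 n95 = n95 := d30_2 D65 D95 (iv D95) (iv D65) F293
theorem F583 : act 7 n95 = n95 := d32_2 F407 D95 (iv D95)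
def n96 : Q := act 6 n65
theorem D96 : act 6 n65 = n96 := rfl
theorem F584 : act 1 n96 = n96 := d13_1 D96 (iv D96) F404
theorem F585 : act 2 n96 = n96 := d20_1 D96 (iv D96) F405
theorem F586 : act 3 n96 = n68 := d26_1 D96 (iv D68) (iv F406)
theorem F587 : act 5 n96 = n96 := d35_1 D96 (iv D96) (iv D65) F294 D65
def n97 : Q := act 8 n65
theorem D97 : act 8 n65 = n97 := rfl
theorem F588 : act 1 n97 = n97 := d15_1 D97 (iv D97) F404
theorem F589 : act 2 n97 = n97 := d22_1 D97 (iv D97) F405
theorem F590 : act 3 n97 = n97 := d28_1 D97 (iv D97) F406 F300 (iv F406)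
theorem F591 : act 5 n97 = n66 := d37_1 D97 (iv D66) D65
theorem F592 : act 7 n97 = n97 := d42_1 D97 (iv D97) F407
def n98 : Q := act 9 n65
theorem D98 : act 9 n65 = n98 := rfl
theorem F593 : act 1 n98 = n98 := d16_1 D98 (iv D98) F404
theorem F594 : act 2 n98 = n98 := d23_1 D98 (iv D98) F405
theorem F595 : act 3 n98 = n69 := d29_1 D98 (iv D69) (iv F406)
theorem F596 : act 5 n98 = n67 := d38_1 D98 (iv D67) D65
theorem F597 : act 7 n98 = n98 := d43_1 D98 (iv D98) F407
def n99 : Q := act 9 n66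
theorem D99 : act 9 n66 = n99 := rfl
theorem F598 : act 1 n99 = n99 := d16_1 D99 (iv D99) F408
theorem F599 : act 2 n99 = n99 := d23_1 D99 (iv D99) F409
theorem F600 : act 3 n99 = n99 := d29_1 D99 (iv D99) F410
theorem F601 : act 4 n99 = n99 := d34_1 D99 (iv D99) F411
theorem F602 : act 6 n99 = n99 := d41_1 D99 (iv D99) F412
theorem F603 : act 7 n99 = n99 := d43_1 D99 (iv D99) F413
def n100 : Q := act 8 n67
theorem D100 : act 8 n67 = n100 := rfl
theorem F604 : act 1 n100 = n100 := d15_1 D100 (iv D100) F414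
theorem F605 : act 2 n100 = n100 := d22_1 D100 (iv D100) F415
theorem F606 : act 4 n100 = n100 := d33_1 D100 (iv D100) F417
theorem F607 : act 6 n100 = n100 := d40_1 D100 (iv D100) F418
theorem F608 : act 7 n100 = n100 := d42_1 D100 (iv D100) F419
def n101 : Q := act 7 n68
theorem D101 : act 7 n68 = n101 := rfl
theorem F609 : act 1 n101 = n101 := d14_1 D101 (iv D101) F420
theorem F610 : act 2 n101 = n72 := d21_1 D101 (iv D72) (iv F421)
theorem F611 : act 4 n101 = n101 := d32_1 D101 (iv D101) F422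
theorem F612 : act 5 n101 = n101 := d36_1 D101 (iv D101) F423
theorem F613 : act 6 n101 = n101 := d39_1 D101 (iv D101) (iv D68) F299 D68
theorem F614 : act 8 n101 = n101 := d42_2 F424 D101 (iv D101)
def n102 : Q := act 9 n68
theorem D102 : act 9 n68 = n102 := rfl
theorem F615 : act 1 n102 = n102 := d16_1 D102 (iv D102) F420
theorem F616 : act 2 n102 = n73 := d23_1 D102 (iv D73) (iv F421)
theorem F617 : act 4 n102 = n102 := d34_1 D102 (iv D102) F422
theorem F618 : act 5 n102 = n102 := d38_1 D102 (iv D102) F423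
theorem F619 : act 6 n102 = n69 := d41_1 D102 (iv D69) D68
def n103 : Q := act 8 n69
theorem D103 : act 8 n69 = n103 := rfl
theorem F620 : act 1 n103 = n103 := d15_1 D103 (iv D103) F425
theorem F621 : act 2 n103 = n74 := d22_1 D103 (iv D74) (iv F426)
theorem F622 : act 4 n103 = n103 := d33_1 D103 (iv D103) F427
theorem F623 : act 5 n103 = n70 := d37_1 D103 (iv D70) (iv F428)
theorem F624 : act 7 n103 = n103 := d42_1 D103 (iv D103) F429
theorem F625 : act 9 n103 = n103 := d44_2 D69 D103 (iv D103) (iv D69) F300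
def n104 : Q := act 3 n70
theorem D104 : act 3 n70 = n104 := rfl
theorem F626 : act 1 n104 = n104 := d10_1 D104 (iv D104) F430
theorem F627 : act 6 n104 = n104 := d26_2 F433 D104 (iv D104)
theorem F628 : act 7 n104 = n104 := d27_2 F434 D104 (iv D104)
theorem F629 : act 9 n104 = n104 := d29_2 F435 D104 (iv D104)
def n105 : Q := act 4 n71
theorem D105 : act 4 n71 = n105 := rfl
theorem F630 : act 1 n105 = n105 := d11_1 D105 (iv D105) F436
theorem F631 : act 2 n105 = n105 := d18_1 D105 (iv D105) F437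
theorem F632 : act 6 n105 = n105 := d31_2 F439 D105 (iv D105)
theorem F633 : act 7 n105 = n105 := d32_2 F440 D105 (iv D105)
theorem F634 : act 8 n105 = n105 := d33_2 F441 D105 (iv D105)
theorem F635 : act 9 n105 = n105 := d34_2 F442 D105 (iv D105)
def n106 : Q := act 9 n72
theorem D106 : act 9 n72 = n106 := rfl
theorem F636 : act 1 n106 = n76 := d16_1 D106 (iv D76) (iv F443)
theorem F637 : act 3 n106 = n106 := d29_1 D106 (iv D106) F444
theorem F638 : act 4 n106 = n106 := d34_1 D106 (iv D106) F445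
theorem F639 : act 5 n106 = n106 := d38_1 D106 (iv D106) F446
theorem F640 : act 6 n106 = n106 := d41_1 D106 (iv D106) F447
theorem F641 : act 7 n106 = n73 := d43_1 D106 (iv D73) D72
def n107 : Q := act 8 n73
theorem D107 : act 8 n73 = n107 := rfl
theorem F642 : act 1 n107 = n77 := d15_1 D107 (iv D77) (iv F449)
theorem F643 : act 4 n107 = n107 := d33_1 D107 (iv D107) F451
theorem F644 : act 5 n107 = n107 := d37_1 D107 (iv D107) F452
theorem F645 : act 6 n107 = n74 := d40_1 D107 (iv D74) (iv F453)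
theorem F646 : act 9 n107 = n107 := d44_2 D73 D107 (iv D107) (iv D73) F316
def n108 : Q := act 3 n74
theorem D108 : act 3 n74 = n108 := rfl
theorem F647 : act 1 n108 = n78 := d10_1 D108 (iv D78) (iv F454)
theorem F648 : act 5 n108 = n75 := d25_2 (iv F456) D108 (iv D75)
theorem F649 : act 7 n108 = n108 := d27_2 F457 D108 (iv D108)
theorem F650 : act 8 n108 = n108 := d28_2 D74 D108 (iv D108) (iv D74) F318
theorem F651 : act 9 n108 = n108 := d29_2 F458 D108 (iv D108)
def n109 : Q := act 2 n75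
theorem D109 : act 2 n75 = n109 := rfl
theorem F652 : act 4 n109 = n109 := d18_2 F460 D109 (iv D109)
theorem F653 : act 6 n109 = n109 := d20_2 F461 D109 (iv D109)
theorem F654 : act 7 n109 = n109 := d21_2 F462 D109 (iv D109)
theorem F655 : act 8 n109 = n109 := d22_2 F463 D109 (iv D109)
theorem F656 : act 9 n109 = n109 := d23_2 F464 D109 (iv D109)
def n110 : Q := act 8 n76
theorem D110 : act 8 n76 = n110 := rfl
theorem F657 : act 0 n110 = n110 := d7_1 D110 (iv D110) F465
theorem F658 : act 2 n110 = n110 := d22_1 D110 (iv D110) F466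
theorem F659 : act 4 n110 = n110 := d33_1 D110 (iv D110) F468
theorem F660 : act 5 n110 = n110 := d37_1 D110 (iv D110) F469
theorem F661 : act 6 n110 = n110 := d40_1 D110 (iv D110) F470
theorem F662 : act 7 n110 = n77 := d42_1 D110 (iv D77) (iv F471)
theorem F663 : act 9 n110 = n110 := d44_2 D76 D110 (iv D110) (iv D76) F333
def n111 : Q := act 3 n77
theorem D111 : act 3 n77 = n111 := rfl
theorem F664 : act 0 n111 = n111 := d2_1 D111 (iv D111) F472
theorem F665 : act 5 n111 = n111 := d25_2 F475 D111 (iv D111)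
theorem F666 : act 6 n111 = n78 := d26_2 (iv F476) D111 (iv D78)
theorem F667 : act 8 n111 = n111 := d28_2 D77 D111 (iv D111) (iv D77) F336
theorem F668 : act 9 n111 = n111 := d29_2 F477 D111 (iv D111)
def n112 : Q := act 2 n78
theorem D112 : act 2 n78 = n112 := rfl
theorem F669 : act 0 n112 = n112 := d1_1 D112 (iv D112) F478
theorem F670 : act 3 n112 = n112 := d17_2 D78 D112 (iv D112) (iv D78) F341
theorem F671 : act 5 n112 = n79 := d19_2 (iv F479) D112 (iv D79)
theorem F672 : act 7 n112 = n112 := d21_2 F480 D112 (iv D112)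
theorem F673 : act 8 n112 = n112 := d22_2 F481 D112 (iv D112)
theorem F674 : act 9 n112 = n112 := d23_2 F482 D112 (iv D112)
def n113 : Q := act 4 n78
theorem D113 : act 4 n78 = n113 := rfl
theorem F675 : act 0 n113 = n113 := d3_1 D113 (iv D113) F478
theorem F676 : act 3 n113 = n113 := d24_1 D113 (iv D113) (iv D78) F342 D78
theorem F677 : act 5 n113 = n113 := d30_2 (iv F479) D113 (iv D113) F479 F347
theorem F678 : act 7 n113 = n113 := d32_2 F480 D113 (iv D113)
theorem F679 : act 8 n113 = n113 := d33_2 F481 D113 (iv D113)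
theorem F680 : act 9 n113 = n113 := d34_2 F482 D113 (iv D113)
def n114 : Q := act 1 n79
theorem D114 : act 1 n79 = n114 := rfl
theorem F681 : act 3 n114 = n114 := d10_2 F484 D114 (iv D114)
theorem F682 : act 4 n114 = n114 := d11_2 F485 D114 (iv D114)
theorem F683 : act 6 n114 = n114 := d13_2 F486 D114 (iv D114)
theorem F684 : act 7 n114 = n114 := d14_2 F487 D114 (iv D114)
theorem F685 : act 8 n114 = n114 := d15_2 F488 D114 (iv D114)
theorem F686 : act 9 n114 = n114 := d16_2 F489 D114 (iv D114)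
def n115 : Q := act 2 n80
theorem D115 : act 2 n80 = n115 := rfl
theorem F687 : act 0 n115 = n115 := d1_1 D115 (iv D115) F490
theorem F688 : act 1 n115 = n115 := d9_1 D115 (iv D115) F491 F366 (iv F491)
theorem F689 : act 3 n115 = n115 := d17_2 D80 D115 (iv D115) (iv D80) F354
theorem F690 : act 4 n115 = n115 := d18_2 F492 D115 (iv D115)
theorem F691 : act 6 n115 = n115 := d20_2 F493 D115 (iv D115)
theorem F692 : act 7 n115 = n115 := d21_2 F494 D115 (iv D115)
def n116 : Q := act 5 n80
theorem D116 : act 5 n80 = n116 := rfl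
theorem F693 : act 0 n116 = n116 := d4_1 D116 (iv D116) F490
theorem F694 : act 1 n116 = n84 := d12_1 D116 (iv D84) (iv F491)
theorem F695 : act 3 n116 = n81 := d25_1 D116 (iv D81) D80
theorem F696 : act 7 n116 = n116 := d36_2 F494 D116 (iv D116)
def n117 : Q := act 8 n80
theorem D117 : act 8 n80 = n117 := rfl
theorem F697 : act 0 n117 = n117 := d7_1 D117 (iv D117) F490
theorem F698 : act 1 n117 = n85 := d15_1 D117 (iv D85) (iv F491)
theorem F699 : act 3 n117 = n117 := d28_1 D117 (iv D117) (iv D80) F357 D80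
theorem F700 : act 4 n117 = n117 := d33_1 D117 (iv D117) F492
theorem F701 : act 6 n117 = n117 := d40_1 D117 (iv D117) F493
theorem F702 : act 7 n117 = n117 := d42_1 D117 (iv D117) F494
def n118 : Q := act 9 n80
theorem D118 : act 9 n80 = n118 := rfl
theorem F703 : act 0 n118 = n118 := d8_1 D118 (iv D118) F490
theorem F704 : act 1 n118 = n86 := d16_1 D118 (iv D86) (iv F491)
theorem F705 : act 3 n118 = n82 := d29_1 D118 (iv D82) D80
theorem F706 : act 4 n118 = n118 := d34_1 D118 (iv D118) F492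
theorem F707 : act 6 n118 = n118 := d41_1 D118 (iv D118) F493
theorem F708 : act 7 n118 = n118 := d43_1 D118 (iv D118) F494
def n119 : Q := act 6 n81
theorem D119 : act 6 n81 = n119 := rfl
theorem F709 : act 0 n119 = n119 := d5_1 D119 (iv D119) F495
theorem F710 : act 1 n119 = n87 := d13_1 D119 (iv D87) (iv F496)
theorem F711 : act 2 n119 = n119 := d20_1 D119 (iv D119) F497
theorem F712 : act 4 n119 = n119 := d31_1 D119 (iv D119) F498
theorem F713 : act 5 n119 = n119 := d35_1 D119 (iv D119) (iv D81) F355 D81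
theorem F714 : act 8 n119 = n119 := d40_2 F500 D119 (iv D119)
def n120 : Q := act 9 n81
theorem D120 : act 9 n81 = n120 := rfl
theorem F715 : act 0 n120 = n120 := d8_1 D120 (iv D120) F495
theorem F716 : act 1 n120 = n88 := d16_1 D120 (iv D88) (iv F496)
theorem F717 : act 2 n120 = n120 := d23_1 D120 (iv D120) F497
theorem F718 : act 4 n120 = n120 := d34_1 D120 (iv D120) F498
theorem F719 : act 5 n120 = n82 := d38_1 D120 (iv D82) D81
theorem F720 : act 7 n120 = n120 := d43_1 D120 (iv D120) F499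
def n121 : Q := act 8 n82
theorem D121 : act 8 n82 = n121 := rfl
theorem F721 : act 0 n121 = n121 := d7_1 D121 (iv D121) F501
theorem F722 : act 1 n121 = n89 := d15_1 D121 (iv D89) (iv F502)
theorem F723 : act 2 n121 = n121 := d22_1 D121 (iv D121) F503
theorem F724 : act 4 n121 = n83 := d33_1 D121 (iv D83) (iv F504)
theorem F725 : act 6 n121 = n121 := d40_1 D121 (iv D121) F505
theorem F726 : act 7 n121 = n121 := d42_1 D121 (iv D121) F506
theorem F727 : act 9 n121 = n121 := d44_2 D82 D121 (iv D121) (iv D82) F357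
def n122 : Q := act 3 n83
theorem D122 : act 3 n83 = n122 := rfl
theorem F728 : act 0 n122 = n122 := d2_1 D122 (iv D122) F507
theorem F729 : act 1 n122 = n90 := d10_1 D122 (iv D90) (iv F508)
theorem F730 : act 5 n122 = n122 := d25_2 F510 D122 (iv D122)
theorem F731 : act 6 n122 = n122 := d26_2 F511 D122 (iv D122)
theorem F732 : act 7 n122 = n122 := d27_2 F512 D122 (iv D122)
theorem F733 : act 8 n122 = n122 := d28_2 D83 D122 (iv D122) (iv D83) F361
theorem F734 : act 9 n122 = n122 := d29_2 F513 D122 (iv D122)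
def n123 : Q := act 4 n84
theorem D123 : act 4 n84 = n123 := rfl
theorem F735 : act 0 n123 = n95 := d3_1 D123 (iv D95) (iv F514)
theorem F736 : act 2 n123 = n123 := d18_1 D123 (iv D123) F515
theorem F737 : act 3 n123 = n123 := d24_1 D123 (iv D123) F516 F372 (iv F516)
theorem F738 : act 5 n123 = n123 := d30_2 D84 D123 (iv D123) (iv D84) F367
theorem F739 : act 7 n123 = n123 := d32_2 F517 D123 (iv D123)
def n124 : Q := act 6 n84
theorem D124 : act 6 n84 = n124 := rfl
theorem F740 : act 0 n124 = n96 := d5_1 D124 (iv D96) (iv F514)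
theorem F741 : act 2 n124 = n124 := d20_1 D124 (iv D124) F515
theorem F742 : act 3 n124 = n87 := d26_1 D124 (iv D87) (iv F516)
theorem F743 : act 5 n124 = n124 := d35_1 D124 (iv D124) (iv D84) F368 D84
def n125 : Q := act 8 n84
theorem D125 : act 8 n84 = n125 := rfl
theorem F744 : act 0 n125 = n97 := d7_1 D125 (iv D97) (iv F514)
theorem F745 : act 2 n125 = n125 := d22_1 D125 (iv D125) F515
theorem F746 : act 3 n125 = n125 := d28_1 D125 (iv D125) F516 F374 (iv F516)
theorem F747 : act 5 n125 = n85 := d37_1 D125 (iv D85) D84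
theorem F748 : act 7 n125 = n125 := d42_1 D125 (iv D125) F517
def n126 : Q := act 9 n84
theorem D126 : act 9 n84 = n126 := rfl
theorem F749 : act 0 n126 = n98 := d8_1 D126 (iv D98) (iv F514)
theorem F750 : act 2 n126 = n126 := d23_1 D126 (iv D126) F515
theorem F751 : act 3 n126 = n88 := d29_1 D126 (iv D88) (iv F516)
theorem F752 : act 5 n126 = n86 := d38_1 D126 (iv D86) D84
theorem F753 : act 7 n126 = n126 := d43_1 D126 (iv D126) F517
def n127 : Q := act 9 n85
theorem D127 : act 9 n85 = n127 := rfl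
theorem F754 : act 0 n127 = n99 := d8_1 D127 (iv D99) (iv F518)
theorem F755 : act 2 n127 = n127 := d23_1 D127 (iv D127) F519
theorem F756 : act 3 n127 = n127 := d29_1 D127 (iv D127) F520
theorem F757 : act 4 n127 = n127 := d34_1 D127 (iv D127) F521
theorem F758 : act 6 n127 = n127 := d41_1 D127 (iv D127) F522
theorem F759 : act 7 n127 = n127 := d43_1 D127 (iv D127) F523
def n128 : Q := act 8 n86
theorem D128 : act 8 n86 = n128 := rfl
theorem F760 : act 0 n128 = n100 := d7_1 D128 (iv D100) (iv F524)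
theorem F761 : act 2 n128 = n128 := d22_1 D128 (iv D128) F525
theorem F762 : act 4 n128 = n128 := d33_1 D128 (iv D128) F527
theorem F763 : act 6 n128 = n128 := d40_1 D128 (iv D128) F528
theorem F764 : act 7 n128 = n128 := d42_1 D128 (iv D128) F529
def n129 : Q := act 7 n87
theorem D129 : act 7 n87 = n129 := rfl
theorem F765 : act 0 n129 = n101 := d6_1 D129 (iv D101) (iv F530)
theorem F766 : act 2 n129 = n91 := d21_1 D129 (iv D91) (iv F531)
theorem F767 : act 4 n129 = n129 := d32_1 D129 (iv D129) F532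
theorem F768 : act 5 n129 = n129 := d36_1 D129 (iv D129) F533
theorem F769 : act 6 n129 = n129 := d39_1 D129 (iv D129) (iv D87) F373 D87
theorem F770 : act 8 n129 = n129 := d42_2 F534 D129 (iv D129)
def n130 : Q := act 9 n87
theorem D130 : act 9 n87 = n130 := rfl
theorem F771 : act 0 n130 = n102 := d8_1 D130 (iv D102) (iv F530)
theorem F772 : act 2 n130 = n92 := d23_1 D130 (iv D92) (iv F531)
theorem F773 : act 4 n130 = n130 := d34_1 D130 (iv D130) F532
theorem F774 : act 5 n130 = n130 := d38_1 D130 (iv D130) F533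
theorem F775 : act 6 n130 = n88 := d41_1 D130 (iv D88) D87
def n131 : Q := act 8 n88
theorem D131 : act 8 n88 = n131 := rfl
theorem F776 : act 0 n131 = n103 := d7_1 D131 (iv D103) (iv F535)
theorem F777 : act 2 n131 = n93 := d22_1 D131 (iv D93) (iv F536)
theorem F778 : act 4 n131 = n131 := d33_1 D131 (iv D131) F537
theorem F779 : act 5 n131 = n89 := d37_1 D131 (iv D89) (iv F538)
theorem F780 : act 7 n131 = n131 := d42_1 D131 (iv D131) F539
theorem F781 : act 9 n131 = n131 := d44_2 D88 D131 (iv D131) (iv D88) F374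
def n132 : Q := act 3 n89
theorem D132 : act 3 n89 = n132 := rfl
theorem F782 : act 0 n132 = n104 := d2_1 D132 (iv D104) (iv F540)
theorem F783 : act 6 n132 = n132 := d26_2 F543 D132 (iv D132)
theorem F784 : act 7 n132 = n132 := d27_2 F544 D132 (iv D132)
theorem F785 : act 9 n132 = n132 := d29_2 F545 D132 (iv D132)
def n133 : Q := act 4 n90
theorem D133 : act 4 n90 = n133 := rfl
theorem F786 : act 0 n133 = n105 := d3_1 D133 (iv D105) (iv F546)
theorem F787 : act 2 n133 = n133 := d18_1 D133 (iv D133) F547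
theorem F788 : act 6 n133 = n133 := d31_2 F549 D133 (iv D133)
theorem F789 : act 7 n133 = n133 := d32_2 F550 D133 (iv D133)
theorem F790 : act 8 n133 = n133 := d33_2 F551 D133 (iv D133)
theorem F791 : act 9 n133 = n133 := d34_2 F552 D133 (iv D133)
def n134 : Q := act 9 n91
theorem D134 : act 9 n91 = n134 := rfl
theorem F792 : act 0 n134 = n106 := d8_1 D134 (iv D106) (iv F553)
theorem F793 : act 1 n134 = n134 := d16_1 D134 (iv D134) F554
theorem F794 : act 3 n134 = n134 := d29_1 D134 (iv D134) F555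
theorem F795 : act 4 n134 = n134 := d34_1 D134 (iv D134) F556
theorem F796 : act 5 n134 = n134 := d38_1 D134 (iv D134) F557
theorem F797 : act 6 n134 = n134 := d41_1 D134 (iv D134) F558
theorem F798 : act 7 n134 = n92 := d43_1 D134 (iv D92) D91
def n135 : Q := act 8 n92
theorem D135 : act 8 n92 = n135 := rfl
theorem F799 : act 0 n135 = n107 := d7_1 D135 (iv D107) (iv F560)
theorem F800 : act 1 n135 = n135 := d15_1 D135 (iv D135) F561
theorem F801 : act 4 n135 = n135 := d33_1 D135 (iv D135) F563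
theorem F802 : act 5 n135 = n135 := d37_1 D135 (iv D135) F564
theorem F803 : act 6 n135 = n93 := d40_1 D135 (iv D93) (iv F565)
theorem F804 : act 9 n135 = n135 := d44_2 D92 D135 (iv D135) (iv D92) F391
def n136 : Q := act 3 n93
theorem D136 : act 3 n93 = n136 := rfl
theorem F805 : act 0 n136 = n108 := d2_1 D136 (iv D108) (iv F566)
theorem F806 : act 1 n136 = n136 := d10_1 D136 (iv D136) F567
theorem F807 : act 5 n136 = n94 := d25_2 (iv F569) D136 (iv D94)
theorem F808 : act 7 n136 = n136 := d27_2 F570 D136 (iv D136)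
theorem F809 : act 8 n136 = n136 := d28_2 D93 D136 (iv D136) (iv D93) F394
theorem F810 : act 9 n136 = n136 := d29_2 F571 D136 (iv D136)
def n137 : Q := act 2 n94
theorem D137 : act 2 n94 = n137 := rfl
theorem F811 : act 0 n137 = n109 := d1_1 D137 (iv D109) (iv F572)
theorem F812 : act 4 n137 = n137 := d18_2 F574 D137 (iv D137)
theorem F813 : act 6 n137 = n137 := d20_2 F575 D137 (iv D137)
theorem F814 : act 7 n137 = n137 := d21_2 F576 D137 (iv D137)
theorem F815 : act 8 n137 = n137 := d22_2 F577 D137 (iv D137)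
theorem F816 : act 9 n137 = n137 := d23_2 F578 D137 (iv D137)
def n138 : Q := act 6 n95
theorem D138 : act 6 n95 = n138 := rfl
theorem F817 : act 1 n138 = n138 := d13_1 D138 (iv D138) F579
theorem F818 : act 2 n138 = n138 := d20_1 D138 (iv D138) F580
theorem F819 : act 3 n138 = n138 := d26_1 D138 (iv D138) F581
theorem F820 : act 4 n138 = n96 := d31_1 D138 (iv D96) D95
def n139 : Q := act 8 n95
theorem D139 : act 8 n95 = n139 := rfl
theorem F821 : act 1 n139 = n139 := d15_1 D139 (iv D139) F579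
theorem F822 : act 2 n139 = n139 := d22_1 D139 (iv D139) F580
theorem F823 : act 4 n139 = n97 := d33_1 D139 (iv D97) D95
theorem F824 : act 5 n139 = n139 := d37_1 D139 (iv D139) F582
theorem F825 : act 7 n139 = n139 := d42_1 D139 (iv D139) F583
def n140 : Q := act 9 n95
theorem D140 : act 9 n95 = n140 := rfl
theorem F826 : act 1 n140 = n140 := d16_1 D140 (iv D140) F579
theorem F827 : act 2 n140 = n140 := d23_1 D140 (iv D140) F580
theorem F828 : act 3 n140 = n140 := d29_1 D140 (iv D140) F581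
theorem F829 : act 4 n140 = n98 := d34_1 D140 (iv D98) D95
theorem F830 : act 5 n140 = n140 := d38_1 D140 (iv D140) F582
theorem F831 : act 7 n140 = n140 := d43_1 D140 (iv D140) F583
def n141 : Q := act 7 n96
theorem D141 : act 7 n96 = n141 := rfl
theorem F832 : act 1 n141 = n141 := d14_1 D141 (iv D141) F584
theorem F833 : act 2 n141 = n141 := d21_1 D141 (iv D141) F585
theorem F834 : act 3 n141 = n101 := d27_1 D141 (iv D101) (iv F586)
theorem F835 : act 5 n141 = n141 := d36_1 D141 (iv D141) F587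
theorem F836 : act 6 n141 = n141 := d39_1 D141 (iv D141) (iv D96) F407 D96
def n142 : Q := act 8 n96
theorem D142 : act 8 n96 = n142 := rfl
theorem F837 : act 1 n142 = n142 := d15_1 D142 (iv D142) F584
theorem F838 : act 2 n142 = n142 := d22_1 D142 (iv D142) F585
theorem F839 : act 3 n142 = n142 := d28_1 D142 (iv D142) F586 F424 (iv F586)
theorem F840 : act 5 n142 = n142 := d37_1 D142 (iv D142) F587
theorem F841 : act 6 n142 = n97 := d40_1 D142 (iv D97) D96
def n143 : Q := act 9 n96
theorem D143 : act 9 n96 = n143 := rfl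
theorem F842 : act 1 n143 = n143 := d16_1 D143 (iv D143) F584
theorem F843 : act 2 n143 = n143 := d23_1 D143 (iv D143) F585
theorem F844 : act 3 n143 = n102 := d29_1 D143 (iv D102) (iv F586)
theorem F845 : act 5 n143 = n143 := d38_1 D143 (iv D143) F587
theorem F846 : act 6 n143 = n98 := d41_1 D143 (iv D98) D96
def n144 : Q := act 9 n97
theorem D144 : act 9 n97 = n144 := rfl
theorem F847 : act 1 n144 = n144 := d16_1 D144 (iv D144) F588
theorem F848 : act 2 n144 = n144 := d23_1 D144 (iv D144) F589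
theorem F849 : act 3 n144 = n144 := d29_1 D144 (iv D144) F590
theorem F850 : act 5 n144 = n99 := d38_1 D144 (iv D99) (iv F591)
theorem F851 : act 7 n144 = n144 := d43_1 D144 (iv D144) F592
def n145 : Q := act 8 n98
theorem D145 : act 8 n98 = n145 := rfl
theorem F852 : act 1 n145 = n145 := d15_1 D145 (iv D145) F593
theorem F853 : act 2 n145 = n145 := d22_1 D145 (iv D145) F594
theorem F854 : act 5 n145 = n100 := d37_1 D145 (iv D100) (iv F596)
theorem F855 : act 7 n145 = n145 := d42_1 D145 (iv D145) F597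
def n146 : Q := act 8 n99
theorem D146 : act 8 n99 = n146 := rfl
theorem F856 : act 1 n146 = n146 := d15_1 D146 (iv D146) F598
theorem F857 : act 2 n146 = n146 := d22_1 D146 (iv D146) F599
theorem F858 : act 4 n146 = n146 := d33_1 D146 (iv D146) F601
theorem F859 : act 6 n146 = n146 := d40_1 D146 (iv D146) F602
theorem F860 : act 7 n146 = n146 := d42_1 D146 (iv D146) F603
theorem F861 : act 9 n146 = n100 := d44_2 D99 D146 (iv D100) (iv D67) D66
def n147 : Q := act 3 n100
theorem D147 : act 3 n100 = n147 := rfl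
theorem F862 : act 1 n147 = n147 := d10_1 D147 (iv D147) F604
theorem F863 : act 6 n147 = n147 := d26_2 F607 D147 (iv D147)
theorem F864 : act 7 n147 = n147 := d27_2 F608 D147 (iv D147)
theorem F865 : act 8 n147 = n104 := d28_2 D100 D147 (iv D104) (iv D70) (iv F416)
def n148 : Q := act 9 n101
theorem D148 : act 9 n101 = n148 := rfl
theorem F866 : act 1 n148 = n148 := d16_1 D148 (iv D148) F609
theorem F867 : act 2 n148 = n106 := d23_1 D148 (iv D106) (iv F610)
theorem F868 : act 4 n148 = n148 := d34_1 D148 (iv D148) F611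
theorem F869 : act 5 n148 = n148 := d38_1 D148 (iv D148) F612
theorem F870 : act 6 n148 = n148 := d41_1 D148 (iv D148) F613
theorem F871 : act 7 n148 = n102 := d43_1 D148 (iv D102) D101
def n149 : Q := act 8 n102
theorem D149 : act 8 n102 = n149 := rfl
theorem F872 : act 1 n149 = n149 := d15_1 D149 (iv D149) F615
theorem F873 : act 2 n149 = n107 := d22_1 D149 (iv D107) (iv F616)
theorem F874 : act 4 n149 = n149 := d33_1 D149 (iv D149) F617
theorem F875 : act 5 n149 = n149 := d37_1 D149 (iv D149) F618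
theorem F876 : act 6 n149 = n103 := d40_1 D149 (iv D103) (iv F619)
theorem F877 : act 9 n149 = n149 := d44_2 D102 D149 (iv D149) (iv D102) F424
def n150 : Q := act 3 n103
theorem D150 : act 3 n103 = n150 := rfl
theorem F878 : act 1 n150 = n150 := d10_1 D150 (iv D150) F620
theorem F879 : act 5 n150 = n104 := d25_2 (iv F623) D150 (iv D104)
theorem F880 : act 7 n150 = n150 := d27_2 F624 D150 (iv D150)
theorem F881 : act 9 n150 = n150 := d29_2 F625 D150 (iv D150)
def n151 : Q := act 2 n104
theorem D151 : act 2 n104 = n151 := rfl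
theorem F882 : act 3 n151 = n109 := d17_2 D104 D151 (iv D109) (iv D75) (iv F431)
theorem F883 : act 6 n151 = n151 := d20_2 F627 D151 (iv D151)
theorem F884 : act 7 n151 = n151 := d21_2 F628 D151 (iv D151)
theorem F885 : act 9 n151 = n151 := d23_2 F629 D151 (iv D151)
def n152 : Q := act 4 n104
theorem D152 : act 4 n104 = n152 := rfl
theorem F886 : act 1 n152 = n152 := d11_1 D152 (iv D152) F626
theorem F887 : act 3 n152 = n105 := d24_1 D152 (iv D105) (iv D71) (iv F432) D104
theorem F888 : act 6 n152 = n152 := d31_2 F627 D152 (iv D152)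
theorem F889 : act 7 n152 = n152 := d32_2 F628 D152 (iv D152)
theorem F890 : act 9 n152 = n152 := d34_2 F629 D152 (iv D152)
def n153 : Q := act 5 n105
theorem D153 : act 5 n105 = n153 := rfl
theorem F891 : act 1 n153 = n153 := d12_1 D153 (iv D153) F630
theorem F892 : act 2 n153 = n153 := d19_1 D153 (iv D153) F631
theorem F893 : act 4 n153 = n153 := d30_1 D153 (iv D153) (iv D105) F438 D105
theorem F894 : act 7 n153 = n153 := d36_2 F633 D153 (iv D153)
theorem F895 : act 8 n153 = n153 := d37_2 F634 D153 (iv D153)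
theorem F896 : act 9 n153 = n153 := d38_2 F635 D153 (iv D153)
def n154 : Q := act 8 n106
theorem D154 : act 8 n106 = n154 := rfl
theorem F897 : act 1 n154 = n110 := d15_1 D154 (iv D110) (iv F636)
theorem F898 : act 4 n154 = n154 := d33_1 D154 (iv D154) F638
theorem F899 : act 5 n154 = n154 := d37_1 D154 (iv D154) F639
theorem F900 : act 6 n154 = n154 := d40_1 D154 (iv D154) F640
theorem F901 : act 7 n154 = n107 := d42_1 D154 (iv D107) (iv F641)
theorem F902 : act 9 n154 = n154 := d44_2 D106 D154 (iv D154) (iv D106) F448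
def n155 : Q := act 3 n107
theorem D155 : act 3 n107 = n155 := rfl
theorem F903 : act 1 n155 = n111 := d10_1 D155 (iv D111) (iv F642)
theorem F904 : act 5 n155 = n155 := d25_2 F644 D155 (iv D155)
theorem F905 : act 6 n155 = n108 := d26_2 (iv F645) D155 (iv D108)
theorem F906 : act 8 n155 = n155 := d28_2 D107 D155 (iv D155) (iv D107) F450
theorem F907 : act 9 n155 = n155 := d29_2 F646 D155 (iv D155)
def n156 : Q := act 2 n108
theorem D156 : act 2 n108 = n156 := rfl
theorem F908 : act 5 n156 = n109 := d19_2 (iv F648) D156 (iv D109)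
theorem F909 : act 7 n156 = n156 := d21_2 F649 D156 (iv D156)
theorem F910 : act 8 n156 = n156 := d22_2 F650 D156 (iv D156)
theorem F911 : act 9 n156 = n156 := d23_2 F651 D156 (iv D156)
def n157 : Q := act 4 n108
theorem D157 : act 4 n108 = n157 := rfl
theorem F912 : act 1 n157 = n113 := d11_1 D157 (iv D113) (iv F647)
theorem F913 : act 3 n157 = n157 := d24_1 D157 (iv D157) (iv D108) F455 D108
theorem F914 : act 5 n157 = n157 := d30_2 (iv F648) D157 (iv D157) F648 F460
theorem F915 : act 7 n157 = n157 := d32_2 F649 D157 (iv D157)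
theorem F916 : act 8 n157 = n157 := d33_2 F650 D157 (iv D157)
theorem F917 : act 9 n157 = n157 := d34_2 F651 D157 (iv D157)
def n158 : Q := act 1 n109
theorem D158 : act 1 n109 = n158 := rfl
theorem F918 : act 2 n158 = n114 := d9_2 D109 D158 (iv D114) (iv D79) (iv F459)
theorem F919 : act 4 n158 = n158 := d11_2 F652 D158 (iv D158)
theorem F920 : act 6 n158 = n158 := d13_2 F653 D158 (iv D158)
theorem F921 : act 7 n158 = n158 := d14_2 F654 D158 (iv D158)
theorem F922 : act 8 n158 = n158 := d15_2 F655 D158 (iv D158)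
theorem F923 : act 9 n158 = n158 := d16_2 F656 D158 (iv D158)
def n159 : Q := act 3 n110
theorem D159 : act 3 n110 = n159 := rfl
theorem F924 : act 0 n159 = n159 := d2_1 D159 (iv D159) F657
theorem F925 : act 5 n159 = n159 := d25_2 F660 D159 (iv D159)
theorem F926 : act 6 n159 = n159 := d26_2 F661 D159 (iv D159)
theorem F927 : act 7 n159 = n111 := d27_2 (iv F662) D159 (iv D111)
theorem F928 : act 8 n159 = n159 := d28_2 D110 D159 (iv D159) (iv D110) F467
theorem F929 : act 9 n159 = n159 := d29_2 F663 D159 (iv D159)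
def n160 : Q := act 2 n111
theorem D160 : act 2 n111 = n160 := rfl
theorem F930 : act 0 n160 = n160 := d1_1 D160 (iv D160) F664
theorem F931 : act 3 n160 = n160 := d17_2 D111 D160 (iv D160) (iv D111) F473
theorem F932 : act 5 n160 = n160 := d19_2 F665 D160 (iv D160)
theorem F933 : act 6 n160 = n112 := d20_2 (iv F666) D160 (iv D112)
theorem F934 : act 8 n160 = n160 := d22_2 F667 D160 (iv D160)
theorem F935 : act 9 n160 = n160 := d23_2 F668 D160 (iv D160)
def n161 : Q := act 4 n111
theorem D161 : act 4 n111 = n161 := rfl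
theorem F936 : act 0 n161 = n161 := d3_1 D161 (iv D161) F664
theorem F937 : act 3 n161 = n161 := d24_1 D161 (iv D161) (iv D111) F474 D111
theorem F938 : act 6 n161 = n113 := d31_2 (iv F666) D161 (iv D113)
theorem F939 : act 8 n161 = n161 := d33_2 F667 D161 (iv D161)
theorem F940 : act 9 n161 = n161 := d34_2 F668 D161 (iv D161)
def n162 : Q := act 1 n112
theorem D162 : act 1 n112 = n162 := rfl
theorem F941 : act 3 n162 = n162 := d10_2 F670 D162 (iv D162)
theorem F942 : act 5 n162 = n114 := d12_2 (iv F671) D162 (iv D114)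
theorem F943 : act 7 n162 = n162 := d14_2 F672 D162 (iv D162)
theorem F944 : act 8 n162 = n162 := d15_2 F673 D162 (iv D162)
theorem F945 : act 9 n162 = n162 := d16_2 F674 D162 (iv D162)
def n163 : Q := act 4 n112
theorem D163 : act 4 n112 = n163 := rfl
theorem F946 : act 0 n163 = n163 := d3_1 D163 (iv D163) F669
theorem F947 : act 2 n163 = n113 := d18_1 D163 (iv D113) D112
theorem F948 : act 5 n163 = n163 := d30_2 (iv F671) D163 (iv D163) F671 F485
theorem F949 : act 7 n163 = n163 := d32_2 F672 D163 (iv D163)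
theorem F950 : act 8 n163 = n163 := d33_2 F673 D163 (iv D163)
theorem F951 : act 9 n163 = n163 := d34_2 F674 D163 (iv D163)
def n164 : Q := act 0 n114
theorem D164 : act 0 n114 = n164 := rfl
theorem F952 : act 1 n164 = n164 := d0_2 D114 D164 (iv D164) (iv D114) F483
theorem F953 : act 3 n164 = n164 := d2_2 F681 D164 (iv D164)
theorem F954 : act 4 n164 = n164 := d3_2 F682 D164 (iv D164)
theorem F955 : act 6 n164 = n164 := d5_2 F683 D164 (iv D164)
theorem F956 : act 7 n164 = n164 := d6_2 F684 D164 (iv D164)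
theorem F957 : act 8 n164 = n164 := d7_2 F685 D164 (iv D164)
theorem F958 : act 9 n164 = n164 := d8_2 F686 D164 (iv D164)
def n165 : Q := act 5 n115
theorem D165 : act 5 n115 = n165 := rfl
theorem F959 : act 0 n165 = n165 := d4_1 D165 (iv D165) F687
theorem F960 : act 1 n165 = n165 := d12_1 D165 (iv D165) F688
theorem F961 : act 2 n165 = n116 := d19_1 D165 (iv D116) D115
theorem F962 : act 3 n165 = n165 := d25_1 D165 (iv D165) F689
theorem F963 : act 7 n165 = n165 := d36_2 F692 D165 (iv D165)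
def n166 : Q := act 8 n115
theorem D166 : act 8 n115 = n166 := rfl
theorem F964 : act 0 n166 = n166 := d7_1 D166 (iv D166) F687
theorem F965 : act 1 n166 = n166 := d15_1 D166 (iv D166) F688
theorem F966 : act 2 n166 = n117 := d22_1 D166 (iv D117) D115
theorem F967 : act 4 n166 = n166 := d33_1 D166 (iv D166) F690
theorem F968 : act 6 n166 = n166 := d40_1 D166 (iv D166) F691
theorem F969 : act 7 n166 = n166 := d42_1 D166 (iv D166) F692
def n167 : Q := act 9 n115
theorem D167 : act 9 n115 = n167 := rfl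
theorem F970 : act 0 n167 = n167 := d8_1 D167 (iv D167) F687
theorem F971 : act 1 n167 = n167 := d16_1 D167 (iv D167) F688
theorem F972 : act 2 n167 = n118 := d23_1 D167 (iv D118) D115
theorem F973 : act 3 n167 = n167 := d29_1 D167 (iv D167) F689
theorem F974 : act 4 n167 = n167 := d34_1 D167 (iv D167) F690
theorem F975 : act 6 n167 = n167 := d41_1 D167 (iv D167) F691
theorem F976 : act 7 n167 = n167 := d43_1 D167 (iv D167) F692
def n168 : Q := act 4 n116
theorem D168 : act 4 n116 = n168 := rfl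
theorem F977 : act 0 n168 = n168 := d3_1 D168 (iv D168) F693
theorem F978 : act 1 n168 = n123 := d11_1 D168 (iv D123) (iv F694)
theorem F979 : act 3 n168 = n168 := d24_1 D168 (iv D168) F695 F498 (iv F695)
theorem F980 : act 5 n168 = n168 := d30_2 D116 D168 (iv D168) (iv D116) F492
theorem F981 : act 7 n168 = n168 := d32_2 F696 D168 (iv D168)
def n169 : Q := act 6 n116
theorem D169 : act 6 n116 = n169 := rfl
theorem F982 : act 0 n169 = n169 := d5_1 D169 (iv D169) F693
theorem F983 : act 1 n169 = n124 := d13_1 D169 (iv D124) (iv F694)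
theorem F984 : act 3 n169 = n119 := d26_1 D169 (iv D119) (iv F695)
theorem F985 : act 5 n169 = n169 := d35_1 D169 (iv D169) (iv D116) F493 D116
def n170 : Q := act 8 n116
theorem D170 : act 8 n116 = n170 := rfl
theorem F986 : act 0 n170 = n170 := d7_1 D170 (iv D170) F693
theorem F987 : act 1 n170 = n125 := d15_1 D170 (iv D125) (iv F694)
theorem F988 : act 3 n170 = n170 := d28_1 D170 (iv D170) F695 F500 (iv F695)
theorem F989 : act 5 n170 = n117 := d37_1 D170 (iv D117) D116
theorem F990 : act 7 n170 = n170 := d42_1 D170 (iv D170) F696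
def n171 : Q := act 9 n116
theorem D171 : act 9 n116 = n171 := rfl
theorem F991 : act 0 n171 = n171 := d8_1 D171 (iv D171) F693
theorem F992 : act 1 n171 = n126 := d16_1 D171 (iv D126) (iv F694)
theorem F993 : act 3 n171 = n120 := d29_1 D171 (iv D120) (iv F695)
theorem F994 : act 5 n171 = n118 := d38_1 D171 (iv D118) D116
theorem F995 : act 7 n171 = n171 := d43_1 D171 (iv D171) F696
def n172 : Q := act 9 n117
theorem D172 : act 9 n117 = n172 := rfl
theorem F996 : act 0 n172 = n172 := d8_1 D172 (iv D172) F697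
theorem F997 : act 1 n172 = n127 := d16_1 D172 (iv D127) (iv F698)
theorem F998 : act 3 n172 = n172 := d29_1 D172 (iv D172) F699
theorem F999 : act 4 n172 = n172 := d34_1 D172 (iv D172) F700
theorem F1000 : act 6 n172 = n172 := d41_1 D172 (iv D172) F701
theorem F1001 : act 7 n172 = n172 := d43_1 D172 (iv D172) F702
def n173 : Q := act 8 n118
theorem D173 : act 8 n118 = n173 := rfl
theorem F1002 : act 0 n173 = n173 := d7_1 D173 (iv D173) F703
theorem F1003 : act 1 n173 = n128 := d15_1 D173 (iv D128) (iv F704)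
theorem F1004 : act 4 n173 = n173 := d33_1 D173 (iv D173) F706
theorem F1005 : act 6 n173 = n173 := d40_1 D173 (iv D173) F707
theorem F1006 : act 7 n173 = n173 := d42_1 D173 (iv D173) F708
def n174 : Q := act 7 n119
theorem D174 : act 7 n119 = n174 := rfl
theorem F1007 : act 0 n174 = n174 := d6_1 D174 (iv D174) F709
theorem F1008 : act 1 n174 = n129 := d14_1 D174 (iv D129) (iv F710)
theorem F1009 : act 2 n174 = n174 := d21_1 D174 (iv D174) F711
theorem F1010 : act 4 n174 = n174 := d32_1 D174 (iv D174) F712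
theorem F1011 : act 5 n174 = n174 := d36_1 D174 (iv D174) F713
theorem F1012 : act 6 n174 = n174 := d39_1 D174 (iv D174) (iv D119) F499 D119
theorem F1013 : act 8 n174 = n174 := d42_2 F714 D174 (iv D174)
def n175 : Q := act 9 n119
theorem D175 : act 9 n119 = n175 := rfl
theorem F1014 : act 0 n175 = n175 := d8_1 D175 (iv D175) F709
theorem F1015 : act 1 n175 = n130 := d16_1 D175 (iv D130) (iv F710)
theorem F1016 : act 2 n175 = n175 := d23_1 D175 (iv D175) F711
theorem F1017 : act 4 n175 = n175 := d34_1 D175 (iv D175) F712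
theorem F1018 : act 5 n175 = n175 := d38_1 D175 (iv D175) F713
theorem F1019 : act 6 n175 = n120 := d41_1 D175 (iv D120) D119
def n176 : Q := act 8 n120
theorem D176 : act 8 n120 = n176 := rfl
theorem F1020 : act 0 n176 = n176 := d7_1 D176 (iv D176) F715
theorem F1021 : act 1 n176 = n131 := d15_1 D176 (iv D131) (iv F716)
theorem F1022 : act 2 n176 = n176 := d22_1 D176 (iv D176) F717
theorem F1023 : act 4 n176 = n176 := d33_1 D176 (iv D176) F718
theorem F1024 : act 5 n176 = n121 := d37_1 D176 (iv D121) (iv F719)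
theorem F1025 : act 7 n176 = n176 := d42_1 D176 (iv D176) F720
theorem F1026 : act 9 n176 = n176 := d44_2 D120 D176 (iv D176) (iv D120) F500
def n177 : Q := act 3 n121
theorem D177 : act 3 n121 = n177 := rfl
theorem F1027 : act 0 n177 = n177 := d2_1 D177 (iv D177) F721
theorem F1028 : act 1 n177 = n132 := d10_1 D177 (iv D132) (iv F722)
theorem F1029 : act 6 n177 = n177 := d26_2 F725 D177 (iv D177)
theorem F1030 : act 7 n177 = n177 := d27_2 F726 D177 (iv D177)
theorem F1031 : act 9 n177 = n177 := d29_2 F727 D177 (iv D177)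
def n178 : Q := act 2 n122
theorem D178 : act 2 n122 = n178 := rfl
theorem F1032 : act 0 n178 = n178 := d1_1 D178 (iv D178) F728
theorem F1033 : act 1 n178 = n178 := d9_1 D178 (iv D178) F729 F547 (iv F729)
theorem F1034 : act 3 n178 = n178 := d17_2 D122 D178 (iv D178) (iv D122) F509
theorem F1035 : act 5 n178 = n178 := d19_2 F730 D178 (iv D178)
theorem F1036 : act 6 n178 = n178 := d20_2 F731 D178 (iv D178)
theorem F1037 : act 7 n178 = n178 := d21_2 F732 D178 (iv D178)
theorem F1038 : act 8 n178 = n178 := d22_2 F733 D178 (iv D178)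
theorem F1039 : act 9 n178 = n178 := d23_2 F734 D178 (iv D178)
def n179 : Q := act 4 n122
theorem D179 : act 4 n122 = n179 := rfl
theorem F1040 : act 0 n179 = n179 := d3_1 D179 (iv D179) F728
theorem F1041 : act 1 n179 = n133 := d11_1 D179 (iv D133) (iv F729)
theorem F1042 : act 6 n179 = n179 := d31_2 F731 D179 (iv D179)
theorem F1043 : act 7 n179 = n179 := d32_2 F732 D179 (iv D179)
theorem F1044 : act 8 n179 = n179 := d33_2 F733 D179 (iv D179)
theorem F1045 : act 9 n179 = n179 := d34_2 F734 D179 (iv D179)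
def n180 : Q := act 6 n123
theorem D180 : act 6 n123 = n180 := rfl
theorem F1046 : act 0 n180 = n138 := d5_1 D180 (iv D138) (iv F735)
theorem F1047 : act 2 n180 = n180 := d20_1 D180 (iv D180) F736
theorem F1048 : act 3 n180 = n180 := d26_1 D180 (iv D180) F737
theorem F1049 : act 4 n180 = n124 := d31_1 D180 (iv D124) D123
def n181 : Q := act 8 n123
theorem D181 : act 8 n123 = n181 := rfl
theorem F1050 : act 0 n181 = n139 := d7_1 D181 (iv D139) (iv F735)
theorem F1051 : act 2 n181 = n181 := d22_1 D181 (iv D181) F736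
theorem F1052 : act 4 n181 = n125 := d33_1 D181 (iv D125) D123
theorem F1053 : act 5 n181 = n181 := d37_1 D181 (iv D181) F738
theorem F1054 : act 7 n181 = n181 := d42_1 D181 (iv D181) F739
def n182 : Q := act 9 n123
theorem D182 : act 9 n123 = n182 := rfl
theorem F1055 : act 0 n182 = n140 := d8_1 D182 (iv D140) (iv F735)
theorem F1056 : act 2 n182 = n182 := d23_1 D182 (iv D182) F736
theorem F1057 : act 3 n182 = n182 := d29_1 D182 (iv D182) F737
theorem F1058 : act 4 n182 = n126 := d34_1 D182 (iv D126) D123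
theorem F1059 : act 5 n182 = n182 := d38_1 D182 (iv D182) F738
theorem F1060 : act 7 n182 = n182 := d43_1 D182 (iv D182) F739
def n183 : Q := act 7 n124
theorem D183 : act 7 n124 = n183 := rfl
theorem F1061 : act 0 n183 = n141 := d6_1 D183 (iv D141) (iv F740)
theorem F1062 : act 2 n183 = n183 := d21_1 D183 (iv D183) F741
theorem F1063 : act 3 n183 = n129 := d27_1 D183 (iv D129) (iv F742)
theorem F1064 : act 5 n183 = n183 := d36_1 D183 (iv D183) F743
theorem F1065 : act 6 n183 = n183 := d39_1 D183 (iv D183) (iv D124) F517 D124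
def n184 : Q := act 8 n124
theorem D184 : act 8 n124 = n184 := rfl
theorem F1066 : act 0 n184 = n142 := d7_1 D184 (iv D142) (iv F740)
theorem F1067 : act 2 n184 = n184 := d22_1 D184 (iv D184) F741
theorem F1068 : act 3 n184 = n184 := d28_1 D184 (iv D184) F742 F534 (iv F742)
theorem F1069 : act 5 n184 = n184 := d37_1 D184 (iv D184) F743
theorem F1070 : act 6 n184 = n125 := d40_1 D184 (iv D125) D124
def n185 : Q := act 9 n124
theorem D185 : act 9 n124 = n185 := rfl
theorem F1071 : act 0 n185 = n143 := d8_1 D185 (iv D143) (iv F740)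
theorem F1072 : act 2 n185 = n185 := d23_1 D185 (iv D185) F741
theorem F1073 : act 3 n185 = n130 := d29_1 D185 (iv D130) (iv F742)
theorem F1074 : act 5 n185 = n185 := d38_1 D185 (iv D185) F743
theorem F1075 : act 6 n185 = n126 := d41_1 D185 (iv D126) D124
def n186 : Q := act 9 n125
theorem D186 : act 9 n125 = n186 := rfl
theorem F1076 : act 0 n186 = n144 := d8_1 D186 (iv D144) (iv F744)
theorem F1077 : act 2 n186 = n186 := d23_1 D186 (iv D186) F745
theorem F1078 : act 3 n186 = n186 := d29_1 D186 (iv D186) F746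
theorem F1079 : act 5 n186 = n127 := d38_1 D186 (iv D127) (iv F747)
theorem F1080 : act 7 n186 = n186 := d43_1 D186 (iv D186) F748
def n187 : Q := act 8 n126
theorem D187 : act 8 n126 = n187 := rfl
theorem F1081 : act 0 n187 = n145 := d7_1 D187 (iv D145) (iv F749)
theorem F1082 : act 2 n187 = n187 := d22_1 D187 (iv D187) F750
theorem F1083 : act 5 n187 = n128 := d37_1 D187 (iv D128) (iv F752)
theorem F1084 : act 7 n187 = n187 := d42_1 D187 (iv D187) F753
def n188 : Q := act 8 n127
theorem D188 : act 8 n127 = n188 := rfl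
theorem F1085 : act 0 n188 = n146 := d7_1 D188 (iv D146) (iv F754)
theorem F1086 : act 2 n188 = n188 := d22_1 D188 (iv D188) F755
theorem F1087 : act 4 n188 = n188 := d33_1 D188 (iv D188) F757
theorem F1088 : act 6 n188 = n188 := d40_1 D188 (iv D188) F758
theorem F1089 : act 7 n188 = n188 := d42_1 D188 (iv D188) F759
theorem F1090 : act 9 n188 = n128 := d44_2 D127 D188 (iv D128) (iv D86) D85
def n189 : Q := act 3 n128
theorem D189 : act 3 n128 = n189 := rfl
theorem F1091 : act 0 n189 = n147 := d2_1 D189 (iv D147) (iv F760)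
theorem F1092 : act 6 n189 = n189 := d26_2 F763 D189 (iv D189)
theorem F1093 : act 7 n189 = n189 := d27_2 F764 D189 (iv D189)
theorem F1094 : act 8 n189 = n132 := d28_2 D128 D189 (iv D132) (iv D89) (iv F526)
def n190 : Q := act 9 n129
theorem D190 : act 9 n129 = n190 := rfl
theorem F1095 : act 0 n190 = n148 := d8_1 D190 (iv D148) (iv F765)
theorem F1096 : act 2 n190 = n134 := d23_1 D190 (iv D134) (iv F766)
theorem F1097 : act 4 n190 = n190 := d34_1 D190 (iv D190) F767
theorem F1098 : act 5 n190 = n190 := d38_1 D190 (iv D190) F768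
theorem F1099 : act 6 n190 = n190 := d41_1 D190 (iv D190) F769
theorem F1100 : act 7 n190 = n130 := d43_1 D190 (iv D130) D129
def n191 : Q := act 8 n130
theorem D191 : act 8 n130 = n191 := rfl
theorem F1101 : act 0 n191 = n149 := d7_1 D191 (iv D149) (iv F771)
theorem F1102 : act 2 n191 = n135 := d22_1 D191 (iv D135) (iv F772)
theorem F1103 : act 4 n191 = n191 := d33_1 D191 (iv D191) F773
theorem F1104 : act 5 n191 = n191 := d37_1 D191 (iv D191) F774
theorem F1105 : act 6 n191 = n131 := d40_1 D191 (iv D131) (iv F775)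
theorem F1106 : act 9 n191 = n191 := d44_2 D130 D191 (iv D191) (iv D130) F534
def n192 : Q := act 3 n131
theorem D192 : act 3 n131 = n192 := rfl
theorem F1107 : act 0 n192 = n150 := d2_1 D192 (iv D150) (iv F776)
theorem F1108 : act 5 n192 = n132 := d25_2 (iv F779) D192 (iv D132)
theorem F1109 : act 7 n192 = n192 := d27_2 F780 D192 (iv D192)
theorem F1110 : act 9 n192 = n192 := d29_2 F781 D192 (iv D192)
def n193 : Q := act 2 n132
theorem D193 : act 2 n132 = n193 := rfl
theorem F1111 : act 0 n193 = n151 := d1_1 D193 (iv D151) (iv F782)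
theorem F1112 : act 3 n193 = n137 := d17_2 D132 D193 (iv D137) (iv D94) (iv F541)
theorem F1113 : act 6 n193 = n193 := d20_2 F783 D193 (iv D193)
theorem F1114 : act 7 n193 = n193 := d21_2 F784 D193 (iv D193)
theorem F1115 : act 9 n193 = n193 := d23_2 F785 D193 (iv D193)
def n194 : Q := act 4 n132
theorem D194 : act 4 n132 = n194 := rfl
theorem F1116 : act 0 n194 = n152 := d3_1 D194 (iv D152) (iv F782)
theorem F1117 : act 3 n194 = n133 := d24_1 D194 (iv D133) (iv D90) (iv F542) D132
theorem F1118 : act 6 n194 = n194 := d31_2 F783 D194 (iv D194)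
theorem F1119 : act 7 n194 = n194 := d32_2 F784 D194 (iv D194)
theorem F1120 : act 9 n194 = n194 := d34_2 F785 D194 (iv D194)
def n195 : Q := act 5 n133
theorem D195 : act 5 n133 = n195 := rfl
theorem F1121 : act 0 n195 = n153 := d4_1 D195 (iv D153) (iv F786)
theorem F1122 : act 2 n195 = n195 := d19_1 D195 (iv D195) F787
theorem F1123 : act 4 n195 = n195 := d30_1 D195 (iv D195) (iv D133) F548 D133
theorem F1124 : act 7 n195 = n195 := d36_2 F789 D195 (iv D195)
theorem F1125 : act 8 n195 = n195 := d37_2 F790 D195 (iv D195)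
theorem F1126 : act 9 n195 = n195 := d38_2 F791 D195 (iv D195)
def n196 : Q := act 8 n134
theorem D196 : act 8 n134 = n196 := rfl
theorem F1127 : act 0 n196 = n154 := d7_1 D196 (iv D154) (iv F792)
theorem F1128 : act 1 n196 = n196 := d15_1 D196 (iv D196) F793
theorem F1129 : act 4 n196 = n196 := d33_1 D196 (iv D196) F795
theorem F1130 : act 5 n196 = n196 := d37_1 D196 (iv D196) F796
theorem F1131 : act 6 n196 = n196 := d40_1 D196 (iv D196) F797
theorem F1132 : act 7 n196 = n135 := d42_1 D196 (iv D135) (iv F798)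
theorem F1133 : act 9 n196 = n196 := d44_2 D134 D196 (iv D196) (iv D134) F559
def n197 : Q := act 3 n135
theorem D197 : act 3 n135 = n197 := rfl
theorem F1134 : act 0 n197 = n155 := d2_1 D197 (iv D155) (iv F799)
theorem F1135 : act 1 n197 = n197 := d10_1 D197 (iv D197) F800
theorem F1136 : act 5 n197 = n197 := d25_2 F802 D197 (iv D197)
theorem F1137 : act 6 n197 = n136 := d26_2 (iv F803) D197 (iv D136)
theorem F1138 : act 8 n197 = n197 := d28_2 D135 D197 (iv D197) (iv D135) F562
theorem F1139 : act 9 n197 = n197 := d29_2 F804 D197 (iv D197)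
def n198 : Q := act 2 n136
theorem D198 : act 2 n136 = n198 := rfl
theorem F1140 : act 0 n198 = n156 := d1_1 D198 (iv D156) (iv F805)
theorem F1141 : act 5 n198 = n137 := d19_2 (iv F807) D198 (iv D137)
theorem F1142 : act 7 n198 = n198 := d21_2 F808 D198 (iv D198)
theorem F1143 : act 8 n198 = n198 := d22_2 F809 D198 (iv D198)
theorem F1144 : act 9 n198 = n198 := d23_2 F810 D198 (iv D198)
def n199 : Q := act 4 n136
theorem D199 : act 4 n136 = n199 := rfl
theorem F1145 : act 0 n199 = n157 := d3_1 D199 (iv D157) (iv F805)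
theorem F1146 : act 1 n199 = n199 := d11_1 D199 (iv D199) F806
theorem F1147 : act 3 n199 = n199 := d24_1 D199 (iv D199) (iv D136) F568 D136
theorem F1148 : act 5 n199 = n199 := d30_2 (iv F807) D199 (iv D199) F807 F574
theorem F1149 : act 7 n199 = n199 := d32_2 F808 D199 (iv D199)
theorem F1150 : act 8 n199 = n199 := d33_2 F809 D199 (iv D199)
theorem F1151 : act 9 n199 = n199 := d34_2 F810 D199 (iv D199)
def n200 : Q := act 1 n137
theorem D200 : act 1 n137 = n200 := rfl
theorem F1152 : act 2 n200 = n200 := d9_2 D137 D200 (iv D200) (iv D137) F573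
theorem F1153 : act 4 n200 = n200 := d11_2 F812 D200 (iv D200)
theorem F1154 : act 6 n200 = n200 := d13_2 F813 D200 (iv D200)
theorem F1155 : act 7 n200 = n200 := d14_2 F814 D200 (iv D200)
theorem F1156 : act 8 n200 = n200 := d15_2 F815 D200 (iv D200)
theorem F1157 : act 9 n200 = n200 := d16_2 F816 D200 (iv D200)
def n201 : Q := act 5 n138
theorem D201 : act 5 n138 = n201 := rfl
theorem F1158 : act 1 n201 = n201 := d12_1 D201 (iv D201) F817
theorem F1159 : act 2 n201 = n201 := d19_1 D201 (iv D201) F818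
theorem F1160 : act 3 n201 = n201 := d25_1 D201 (iv D201) F819
theorem F1161 : act 4 n201 = n201 := d30_1 D201 (iv D201) F820 F587 (iv F820)
theorem F1162 : act 6 n201 = n201 := d35_2 D138 D201 (iv D201) (iv D138) F582
def n202 : Q := act 7 n138
theorem D202 : act 7 n138 = n202 := rfl
theorem F1163 : act 1 n202 = n202 := d14_1 D202 (iv D202) F817
theorem F1164 : act 2 n202 = n202 := d21_1 D202 (iv D202) F818
theorem F1165 : act 3 n202 = n202 := d27_1 D202 (iv D202) F819
theorem F1166 : act 4 n202 = n141 := d32_1 D202 (iv D141) (iv F820)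
theorem F1167 : act 6 n202 = n202 := d39_1 D202 (iv D202) (iv D138) F583 D138
def n203 : Q := act 8 n138
theorem D203 : act 8 n138 = n203 := rfl
theorem F1168 : act 1 n203 = n203 := d15_1 D203 (iv D203) F817
theorem F1169 : act 2 n203 = n203 := d22_1 D203 (iv D203) F818
theorem F1170 : act 4 n203 = n142 := d33_1 D203 (iv D142) (iv F820)
theorem F1171 : act 6 n203 = n139 := d40_1 D203 (iv D139) D138
def n204 : Q := act 9 n138
theorem D204 : act 9 n138 = n204 := rfl
theorem F1172 : act 1 n204 = n204 := d16_1 D204 (iv D204) F817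
theorem F1173 : act 2 n204 = n204 := d23_1 D204 (iv D204) F818
theorem F1174 : act 3 n204 = n204 := d29_1 D204 (iv D204) F819
theorem F1175 : act 4 n204 = n143 := d34_1 D204 (iv D143) (iv F820)
theorem F1176 : act 6 n204 = n140 := d41_1 D204 (iv D140) D138
def n205 : Q := act 3 n139
theorem D205 : act 3 n139 = n205 := rfl
theorem F1177 : act 1 n205 = n205 := d10_1 D205 (iv D205) F821
theorem F1178 : act 4 n205 = n205 := d24_2 (iv F823) D205 (iv D205) F823 F590
theorem F1179 : act 5 n205 = n205 := d25_2 F824 D205 (iv D205)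
theorem F1180 : act 7 n205 = n205 := d27_2 F825 D205 (iv D205)
theorem F1181 : act 8 n205 = n205 := d28_2 D139 D205 (iv D205) (iv D139) F581
def n206 : Q := act 9 n139
theorem D206 : act 9 n139 = n206 := rfl
theorem F1182 : act 1 n206 = n206 := d16_1 D206 (iv D206) F821
theorem F1183 : act 2 n206 = n206 := d23_1 D206 (iv D206) F822
theorem F1184 : act 4 n206 = n144 := d34_1 D206 (iv D144) (iv F823)
theorem F1185 : act 5 n206 = n206 := d38_1 D206 (iv D206) F824
theorem F1186 : act 7 n206 = n206 := d43_1 D206 (iv D206) F825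
def n207 : Q := act 8 n140
theorem D207 : act 8 n140 = n207 := rfl
theorem F1187 : act 1 n207 = n207 := d15_1 D207 (iv D207) F826
theorem F1188 : act 2 n207 = n207 := d22_1 D207 (iv D207) F827
theorem F1189 : act 4 n207 = n145 := d33_1 D207 (iv D145) (iv F829)
theorem F1190 : act 5 n207 = n207 := d37_1 D207 (iv D207) F830
theorem F1191 : act 7 n207 = n207 := d42_1 D207 (iv D207) F831
def n208 : Q := act 8 n141
theorem D208 : act 8 n141 = n208 := rfl
theorem F1192 : act 1 n208 = n208 := d15_1 D208 (iv D208) F832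
theorem F1193 : act 2 n208 = n208 := d22_1 D208 (iv D208) F833
theorem F1194 : act 3 n208 = n208 := d28_1 D208 (iv D208) F834 F614 (iv F834)
theorem F1195 : act 5 n208 = n208 := d37_1 D208 (iv D208) F835
theorem F1196 : act 6 n208 = n208 := d40_1 D208 (iv D208) F836
theorem F1197 : act 7 n208 = n142 := d42_1 D208 (iv D142) D141
def n209 : Q := act 9 n141
theorem D209 : act 9 n141 = n209 := rfl
theorem F1198 : act 1 n209 = n209 := d16_1 D209 (iv D209) F832
theorem F1199 : act 2 n209 = n209 := d23_1 D209 (iv D209) F833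
theorem F1200 : act 3 n209 = n148 := d29_1 D209 (iv D148) (iv F834)
theorem F1201 : act 5 n209 = n209 := d38_1 D209 (iv D209) F835
theorem F1202 : act 6 n209 = n209 := d41_1 D209 (iv D209) F836
theorem F1203 : act 7 n209 = n143 := d43_1 D209 (iv D143) D141
def n210 : Q := act 9 n142
theorem D210 : act 9 n142 = n210 := rfl
theorem F1204 : act 1 n210 = n210 := d16_1 D210 (iv D210) F837
theorem F1205 : act 2 n210 = n210 := d23_1 D210 (iv D210) F838
theorem F1206 : act 3 n210 = n210 := d29_1 D210 (iv D210) F839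
theorem F1207 : act 5 n210 = n210 := d38_1 D210 (iv D210) F840
theorem F1208 : act 6 n210 = n144 := d41_1 D210 (iv D144) (iv F841)
def n211 : Q := act 8 n143
theorem D211 : act 8 n143 = n211 := rfl
theorem F1209 : act 1 n211 = n211 := d15_1 D211 (iv D211) F842
theorem F1210 : act 2 n211 = n211 := d22_1 D211 (iv D211) F843
theorem F1211 : act 5 n211 = n211 := d37_1 D211 (iv D211) F845
theorem F1212 : act 6 n211 = n145 := d40_1 D211 (iv D145) (iv F846)
def n212 : Q := act 8 n144
theorem D212 : act 8 n144 = n212 := rfl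
theorem F1213 : act 1 n212 = n212 := d15_1 D212 (iv D212) F847
theorem F1214 : act 2 n212 = n212 := d22_1 D212 (iv D212) F848
theorem F1215 : act 5 n212 = n146 := d37_1 D212 (iv D146) (iv F850)
theorem F1216 : act 7 n212 = n212 := d42_1 D212 (iv D212) F851
theorem F1217 : act 9 n212 = n145 := d44_2 D144 D212 (iv D145) (iv D98) D97
def n213 : Q := act 3 n145
theorem D213 : act 3 n145 = n213 := rfl
theorem F1218 : act 1 n213 = n213 := d10_1 D213 (iv D213) F852
theorem F1219 : act 5 n213 = n147 := d25_2 (iv F854) D213 (iv D147)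
theorem F1220 : act 7 n213 = n213 := d27_2 F855 D213 (iv D213)
theorem F1221 : act 8 n213 = n150 := d28_2 D145 D213 (iv D150) (iv D103) (iv F595)
def n214 : Q := act 3 n146
theorem D214 : act 3 n146 = n214 := rfl
theorem F1222 : act 1 n214 = n214 := d10_1 D214 (iv D214) F856
theorem F1223 : act 6 n214 = n214 := d26_2 F859 D214 (iv D214)
theorem F1224 : act 7 n214 = n214 := d27_2 F860 D214 (iv D214)
theorem F1225 : act 8 n214 = n214 := d28_2 D146 D214 (iv D214) (iv D146) F600
theorem F1226 : act 9 n214 = n147 := d29_2 (iv F861) D214 (iv D147)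
def n215 : Q := act 2 n147
theorem D215 : act 2 n147 = n215 := rfl
theorem F1227 : act 3 n215 = n215 := d17_2 D147 D215 (iv D215) (iv D147) F605
theorem F1228 : act 6 n215 = n215 := d20_2 F863 D215 (iv D215)
theorem F1229 : act 7 n215 = n215 := d21_2 F864 D215 (iv D215)
theorem F1230 : act 8 n215 = n151 := d22_2 (iv F865) D215 (iv D151)
def n216 : Q := act 4 n147
theorem D216 : act 4 n147 = n216 := rfl
theorem F1231 : act 1 n216 = n216 := d11_1 D216 (iv D216) F862
theorem F1232 : act 3 n216 = n216 := d24_1 D216 (iv D216) (iv D147) F606 D147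
theorem F1233 : act 6 n216 = n216 := d31_2 F863 D216 (iv D216)
theorem F1234 : act 7 n216 = n216 := d32_2 F864 D216 (iv D216)
theorem F1235 : act 8 n216 = n152 := d33_2 (iv F865) D216 (iv D152)
def n217 : Q := act 8 n148
theorem D217 : act 8 n148 = n217 := rfl
theorem F1236 : act 1 n217 = n217 := d15_1 D217 (iv D217) F866
theorem F1237 : act 2 n217 = n154 := d22_1 D217 (iv D154) (iv F867)
theorem F1238 : act 4 n217 = n217 := d33_1 D217 (iv D217) F868
theorem F1239 : act 5 n217 = n217 := d37_1 D217 (iv D217) F869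
theorem F1240 : act 6 n217 = n217 := d40_1 D217 (iv D217) F870
theorem F1241 : act 7 n217 = n149 := d42_1 D217 (iv D149) (iv F871)
theorem F1242 : act 9 n217 = n217 := d44_2 D148 D217 (iv D217) (iv D148) F614
def n218 : Q := act 3 n149
theorem D218 : act 3 n149 = n218 := rfl
theorem F1243 : act 1 n218 = n218 := d10_1 D218 (iv D218) F872
theorem F1244 : act 5 n218 = n218 := d25_2 F875 D218 (iv D218)
theorem F1245 : act 6 n218 = n150 := d26_2 (iv F876) D218 (iv D150)
theorem F1246 : act 9 n218 = n218 := d29_2 F877 D218 (iv D218)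
def n219 : Q := act 2 n150
theorem D219 : act 2 n150 = n219 := rfl
theorem F1247 : act 3 n219 = n156 := d17_2 D150 D219 (iv D156) (iv D108) (iv F621)
theorem F1248 : act 5 n219 = n151 := d19_2 (iv F879) D219 (iv D151)
theorem F1249 : act 7 n219 = n219 := d21_2 F880 D219 (iv D219)
theorem F1250 : act 9 n219 = n219 := d23_2 F881 D219 (iv D219)
def n220 : Q := act 4 n150
theorem D220 : act 4 n150 = n220 := rfl
theorem F1251 : act 1 n220 = n220 := d11_1 D220 (iv D220) F878
theorem F1252 : act 3 n220 = n220 := d24_1 D220 (iv D220) (iv D150) F622 D150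
theorem F1253 : act 7 n220 = n220 := d32_2 F880 D220 (iv D220)
theorem F1254 : act 9 n220 = n220 := d34_2 F881 D220 (iv D220)
def n221 : Q := act 1 n151
theorem D221 : act 1 n151 = n221 := rfl
theorem F1255 : act 2 n221 = n221 := d9_2 D151 D221 (iv D221) (iv D151) F626
theorem F1256 : act 3 n221 = n158 := d10_2 (iv F882) D221 (iv D158)
theorem F1257 : act 6 n221 = n221 := d13_2 F883 D221 (iv D221)
theorem F1258 : act 7 n221 = n221 := d14_2 F884 D221 (iv D221)
theorem F1259 : act 9 n221 = n221 := d16_2 F885 D221 (iv D221)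
def n222 : Q := act 4 n151
theorem D222 : act 4 n151 = n222 := rfl
theorem F1260 : act 2 n222 = n152 := d18_1 D222 (iv D152) D151
theorem F1261 : act 3 n222 = n222 := d24_1 D222 (iv D222) F882 F652 (iv F882)
theorem F1262 : act 6 n222 = n222 := d31_2 F883 D222 (iv D222)
theorem F1263 : act 7 n222 = n222 := d32_2 F884 D222 (iv D222)
theorem F1264 : act 9 n222 = n222 := d34_2 F885 D222 (iv D222)
def n223 : Q := act 5 n152
theorem D223 : act 5 n152 = n223 := rfl
theorem F1265 : act 1 n223 = n223 := d12_1 D223 (iv D223) F886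
theorem F1266 : act 3 n223 = n153 := d25_1 D223 (iv D153) (iv F887)
theorem F1267 : act 7 n223 = n223 := d36_2 F889 D223 (iv D223)
theorem F1268 : act 9 n223 = n223 := d38_2 F890 D223 (iv D223)
def n224 : Q := act 6 n153
theorem D224 : act 6 n153 = n224 := rfl
theorem F1269 : act 1 n224 = n224 := d13_1 D224 (iv D224) F891
theorem F1270 : act 2 n224 = n224 := d20_1 D224 (iv D224) F892
theorem F1271 : act 4 n224 = n224 := d31_1 D224 (iv D224) F893
theorem F1272 : act 5 n224 = n224 := d35_1 D224 (iv D224) (iv D153) F632 D153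
theorem F1273 : act 8 n224 = n224 := d40_2 F895 D224 (iv D224)
theorem F1274 : act 9 n224 = n224 := d41_2 F896 D224 (iv D224)
def n225 : Q := act 3 n154
theorem D225 : act 3 n154 = n225 := rfl
theorem F1275 : act 1 n225 = n159 := d10_1 D225 (iv D159) (iv F897)
theorem F1276 : act 5 n225 = n225 := d25_2 F899 D225 (iv D225)
theorem F1277 : act 6 n225 = n225 := d26_2 F900 D225 (iv D225)
theorem F1278 : act 7 n225 = n155 := d27_2 (iv F901) D225 (iv D155)
theorem F1279 : act 8 n225 = n225 := d28_2 D154 D225 (iv D225) (iv D154) F637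
theorem F1280 : act 9 n225 = n225 := d29_2 F902 D225 (iv D225)
def n226 : Q := act 2 n155
theorem D226 : act 2 n155 = n226 := rfl
theorem F1281 : act 5 n226 = n226 := d19_2 F904 D226 (iv D226)
theorem F1282 : act 6 n226 = n156 := d20_2 (iv F905) D226 (iv D156)
theorem F1283 : act 8 n226 = n226 := d22_2 F906 D226 (iv D226)
theorem F1284 : act 9 n226 = n226 := d23_2 F907 D226 (iv D226)
def n227 : Q := act 4 n155
theorem D227 : act 4 n155 = n227 := rfl
theorem F1285 : act 1 n227 = n161 := d11_1 D227 (iv D161) (iv F903)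
theorem F1286 : act 3 n227 = n227 := d24_1 D227 (iv D227) (iv D155) F643 D155
theorem F1287 : act 6 n227 = n157 := d31_2 (iv F905) D227 (iv D157)
theorem F1288 : act 8 n227 = n227 := d33_2 F906 D227 (iv D227)
theorem F1289 : act 9 n227 = n227 := d34_2 F907 D227 (iv D227)
def n228 : Q := act 1 n156
theorem D228 : act 1 n156 = n228 := rfl
theorem F1290 : act 2 n228 = n162 := d9_2 D156 D228 (iv D162) (iv D112) (iv F647)
theorem F1291 : act 5 n228 = n158 := d12_2 (iv F908) D228 (iv D158)
theorem F1292 : act 7 n228 = n228 := d14_2 F909 D228 (iv D228)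
theorem F1293 : act 8 n228 = n228 := d15_2 F910 D228 (iv D228)
theorem F1294 : act 9 n228 = n228 := d16_2 F911 D228 (iv D228)
def n229 : Q := act 4 n156
theorem D229 : act 4 n156 = n229 := rfl
theorem F1295 : act 2 n229 = n157 := d18_1 D229 (iv D157) D156
theorem F1296 : act 5 n229 = n229 := d30_2 (iv F908) D229 (iv D229) F908 F652
theorem F1297 : act 7 n229 = n229 := d32_2 F909 D229 (iv D229)
theorem F1298 : act 8 n229 = n229 := d33_2 F910 D229 (iv D229)
theorem F1299 : act 9 n229 = n229 := d34_2 F911 D229 (iv D229)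
def n230 : Q := act 0 n158
theorem D230 : act 0 n158 = n230 := rfl
theorem F1300 : act 2 n230 = n164 := d1_2 (iv F918) D230 (iv D164)
theorem F1301 : act 4 n230 = n230 := d3_2 F919 D230 (iv D230)
theorem F1302 : act 6 n230 = n230 := d5_2 F920 D230 (iv D230)
theorem F1303 : act 7 n230 = n230 := d6_2 F921 D230 (iv D230)
theorem F1304 : act 8 n230 = n230 := d7_2 F922 D230 (iv D230)
theorem F1305 : act 9 n230 = n230 := d8_2 F923 D230 (iv D230)
def n231 : Q := act 2 n159
theorem D231 : act 2 n159 = n231 := rfl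
theorem F1306 : act 0 n231 = n231 := d1_1 D231 (iv D231) F924
theorem F1307 : act 3 n231 = n231 := d17_2 D159 D231 (iv D231) (iv D159) F658
theorem F1308 : act 5 n231 = n231 := d19_2 F925 D231 (iv D231)
theorem F1309 : act 6 n231 = n231 := d20_2 F926 D231 (iv D231)
theorem F1310 : act 7 n231 = n160 := d21_2 (iv F927) D231 (iv D160)
theorem F1311 : act 8 n231 = n231 := d22_2 F928 D231 (iv D231)
theorem F1312 : act 9 n231 = n231 := d23_2 F929 D231 (iv D231)
def n232 : Q := act 4 n159
theorem D232 : act 4 n159 = n232 := rfl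
theorem F1313 : act 0 n232 = n232 := d3_1 D232 (iv D232) F924
theorem F1314 : act 3 n232 = n232 := d24_1 D232 (iv D232) (iv D159) F659 D159
theorem F1315 : act 6 n232 = n232 := d31_2 F926 D232 (iv D232)
theorem F1316 : act 7 n232 = n161 := d32_2 (iv F927) D232 (iv D161)
theorem F1317 : act 8 n232 = n232 := d33_2 F928 D232 (iv D232)
theorem F1318 : act 9 n232 = n232 := d34_2 F929 D232 (iv D232)
def n233 : Q := act 1 n160
theorem D233 : act 1 n160 = n233 := rfl
theorem F1319 : act 3 n233 = n233 := d10_2 F931 D233 (iv D233)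
theorem F1320 : act 5 n233 = n233 := d12_2 F932 D233 (iv D233)
theorem F1321 : act 6 n233 = n162 := d13_2 (iv F933) D233 (iv D162)
theorem F1322 : act 8 n233 = n233 := d15_2 F934 D233 (iv D233)
theorem F1323 : act 9 n233 = n233 := d16_2 F935 D233 (iv D233)
def n234 : Q := act 4 n160
theorem D234 : act 4 n160 = n234 := rfl
theorem F1324 : act 0 n234 = n234 := d3_1 D234 (iv D234) F930
theorem F1325 : act 2 n234 = n161 := d18_1 D234 (iv D161) D160
theorem F1326 : act 6 n234 = n163 := d31_2 (iv F933) D234 (iv D163)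
theorem F1327 : act 8 n234 = n234 := d33_2 F934 D234 (iv D234)
theorem F1328 : act 9 n234 = n234 := d34_2 F935 D234 (iv D234)
def n235 : Q := act 5 n161
theorem D235 : act 5 n161 = n235 := rfl
theorem F1329 : act 0 n235 = n235 := d4_1 D235 (iv D235) F936
theorem F1330 : act 3 n235 = n235 := d25_1 D235 (iv D235) F937
theorem F1331 : act 4 n235 = n235 := d30_1 D235 (iv D235) (iv D161) F665 D161
theorem F1332 : act 6 n235 = n235 := d35_2 (iv F938) D235 (iv D235) F938 F677
theorem F1333 : act 8 n235 = n235 := d37_2 F939 D235 (iv D235)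
theorem F1334 : act 9 n235 = n235 := d38_2 F940 D235 (iv D235)
def n236 : Q := act 0 n162
theorem D236 : act 0 n162 = n236 := rfl
theorem F1335 : act 1 n236 = n236 := d0_2 D162 D236 (iv D236) (iv D162) F669
theorem F1336 : act 3 n236 = n236 := d2_2 F941 D236 (iv D236)
theorem F1337 : act 5 n236 = n164 := d4_2 (iv F942) D236 (iv D164)
theorem F1338 : act 7 n236 = n236 := d6_2 F943 D236 (iv D236)
theorem F1339 : act 8 n236 = n236 := d7_2 F944 D236 (iv D236)
theorem F1340 : act 9 n236 = n236 := d8_2 F945 D236 (iv D236)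
def n237 : Q := act 4 n162
theorem D237 : act 4 n162 = n237 := rfl
theorem F1341 : act 1 n237 = n163 := d11_1 D237 (iv D163) D162
theorem F1342 : act 5 n237 = n237 := d30_2 (iv F942) D237 (iv D237) F942 F682
theorem F1343 : act 7 n237 = n237 := d32_2 F943 D237 (iv D237)
theorem F1344 : act 8 n237 = n237 := d33_2 F944 D237 (iv D237)
theorem F1345 : act 9 n237 = n237 := d34_2 F945 D237 (iv D237)
def n238 : Q := act 3 n163
theorem D238 : act 3 n163 = n238 := rfl
theorem F1346 : act 0 n238 = n238 := d2_1 D238 (iv D238) F946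
theorem F1347 : act 2 n238 = n238 := d17_1 D238 (iv D238) F947 F676 (iv F947)
theorem F1348 : act 4 n238 = n238 := d24_2 D163 D238 (iv D238) (iv D163) F670
theorem F1349 : act 5 n238 = n238 := d25_2 F948 D238 (iv D238)
theorem F1350 : act 7 n238 = n238 := d27_2 F949 D238 (iv D238)
theorem F1351 : act 9 n238 = n238 := d29_2 F951 D238 (iv D238)
def n239 : Q := act 4 n165
theorem D239 : act 4 n165 = n239 := rfl
theorem F1352 : act 0 n239 = n239 := d3_1 D239 (iv D239) F959
theorem F1353 : act 1 n239 = n239 := d11_1 D239 (iv D239) F960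
theorem F1354 : act 2 n239 = n168 := d18_1 D239 (iv D168) (iv F961)
theorem F1355 : act 5 n239 = n239 := d30_2 D165 D239 (iv D239) (iv D165) F690
theorem F1356 : act 7 n239 = n239 := d32_2 F963 D239 (iv D239)
def n240 : Q := act 6 n165
theorem D240 : act 6 n165 = n240 := rfl
theorem F1357 : act 0 n240 = n240 := d5_1 D240 (iv D240) F959
theorem F1358 : act 1 n240 = n240 := d13_1 D240 (iv D240) F960
theorem F1359 : act 2 n240 = n169 := d20_1 D240 (iv D169) (iv F961)
theorem F1360 : act 3 n240 = n240 := d26_1 D240 (iv D240) F962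
theorem F1361 : act 5 n240 = n240 := d35_1 D240 (iv D240) (iv D165) F691 D165
def n241 : Q := act 8 n165
theorem D241 : act 8 n165 = n241 := rfl
theorem F1362 : act 0 n241 = n241 := d7_1 D241 (iv D241) F959
theorem F1363 : act 1 n241 = n241 := d15_1 D241 (iv D241) F960
theorem F1364 : act 2 n241 = n170 := d22_1 D241 (iv D170) (iv F961)
theorem F1365 : act 5 n241 = n166 := d37_1 D241 (iv D166) D165
theorem F1366 : act 7 n241 = n241 := d42_1 D241 (iv D241) F963
def n242 : Q := act 9 n165
theorem D242 : act 9 n165 = n242 := rfl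
theorem F1367 : act 0 n242 = n242 := d8_1 D242 (iv D242) F959
theorem F1368 : act 1 n242 = n242 := d16_1 D242 (iv D242) F960
theorem F1369 : act 2 n242 = n171 := d23_1 D242 (iv D171) (iv F961)
theorem F1370 : act 3 n242 = n242 := d29_1 D242 (iv D242) F962
theorem F1371 : act 5 n242 = n167 := d38_1 D242 (iv D167) D165
theorem F1372 : act 7 n242 = n242 := d43_1 D242 (iv D242) F963
def n243 : Q := act 3 n166
theorem D243 : act 3 n166 = n243 := rfl
theorem F1373 : act 0 n243 = n243 := d2_1 D243 (iv D243) F964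
theorem F1374 : act 1 n243 = n243 := d10_1 D243 (iv D243) F965
theorem F1375 : act 2 n243 = n243 := d17_1 D243 (iv D243) F966 F699 (iv F966)
theorem F1376 : act 6 n243 = n243 := d26_2 F968 D243 (iv D243)
theorem F1377 : act 7 n243 = n243 := d27_2 F969 D243 (iv D243)
theorem F1378 : act 8 n243 = n243 := d28_2 D166 D243 (iv D243) (iv D166) F689
def n244 : Q := act 9 n166
theorem D244 : act 9 n166 = n244 := rfl
theorem F1379 : act 0 n244 = n244 := d8_1 D244 (iv D244) F964
theorem F1380 : act 1 n244 = n244 := d16_1 D244 (iv D244) F965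
theorem F1381 : act 2 n244 = n172 := d23_1 D244 (iv D172) (iv F966)
theorem F1382 : act 4 n244 = n244 := d34_1 D244 (iv D244) F967
theorem F1383 : act 6 n244 = n244 := d41_1 D244 (iv D244) F968
theorem F1384 : act 7 n244 = n244 := d43_1 D244 (iv D244) F969
def n245 : Q := act 8 n167
theorem D245 : act 8 n167 = n245 := rfl
theorem F1385 : act 0 n245 = n245 := d7_1 D245 (iv D245) F970
theorem F1386 : act 1 n245 = n245 := d15_1 D245 (iv D245) F971
theorem F1387 : act 2 n245 = n173 := d22_1 D245 (iv D173) (iv F972)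
theorem F1388 : act 4 n245 = n245 := d33_1 D245 (iv D245) F974
theorem F1389 : act 6 n245 = n245 := d40_1 D245 (iv D245) F975
theorem F1390 : act 7 n245 = n245 := d42_1 D245 (iv D245) F976
def n246 : Q := act 6 n168
theorem D246 : act 6 n168 = n246 := rfl
theorem F1391 : act 0 n246 = n246 := d5_1 D246 (iv D246) F977
theorem F1392 : act 1 n246 = n180 := d13_1 D246 (iv D180) (iv F978)
theorem F1393 : act 3 n246 = n246 := d26_1 D246 (iv D246) F979
theorem F1394 : act 4 n246 = n169 := d31_1 D246 (iv D169) D168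
def n247 : Q := act 8 n168
theorem D247 : act 8 n168 = n247 := rfl
theorem F1395 : act 0 n247 = n247 := d7_1 D247 (iv D247) F977
theorem F1396 : act 1 n247 = n181 := d15_1 D247 (iv D181) (iv F978)
theorem F1397 : act 4 n247 = n170 := d33_1 D247 (iv D170) D168
theorem F1398 : act 5 n247 = n247 := d37_1 D247 (iv D247) F980
theorem F1399 : act 7 n247 = n247 := d42_1 D247 (iv D247) F981
def n248 : Q := act 9 n168
theorem D248 : act 9 n168 = n248 := rfl
theorem F1400 : act 0 n248 = n248 := d8_1 D248 (iv D248) F977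
theorem F1401 : act 1 n248 = n182 := d16_1 D248 (iv D182) (iv F978)
theorem F1402 : act 3 n248 = n248 := d29_1 D248 (iv D248) F979
theorem F1403 : act 4 n248 = n171 := d34_1 D248 (iv D171) D168
theorem F1404 : act 5 n248 = n248 := d38_1 D248 (iv D248) F980
theorem F1405 : act 7 n248 = n248 := d43_1 D248 (iv D248) F981
def n249 : Q := act 7 n169
theorem D249 : act 7 n169 = n249 := rfl
theorem F1406 : act 0 n249 = n249 := d6_1 D249 (iv D249) F982
theorem F1407 : act 1 n249 = n183 := d14_1 D249 (iv D183) (iv F983)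
theorem F1408 : act 3 n249 = n174 := d27_1 D249 (iv D174) (iv F984)
theorem F1409 : act 5 n249 = n249 := d36_1 D249 (iv D249) F985
theorem F1410 : act 6 n249 = n249 := d39_1 D249 (iv D249) (iv D169) F696 D169
def n250 : Q := act 8 n169
theorem D250 : act 8 n169 = n250 := rfl
theorem F1411 : act 0 n250 = n250 := d7_1 D250 (iv D250) F982
theorem F1412 : act 1 n250 = n184 := d15_1 D250 (iv D184) (iv F983)
theorem F1413 : act 3 n250 = n250 := d28_1 D250 (iv D250) F984 F714 (iv F984)
theorem F1414 : act 5 n250 = n250 := d37_1 D250 (iv D250) F985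
theorem F1415 : act 6 n250 = n170 := d40_1 D250 (iv D170) D169
def n251 : Q := act 9 n169
theorem D251 : act 9 n169 = n251 := rfl
theorem F1416 : act 0 n251 = n251 := d8_1 D251 (iv D251) F982
theorem F1417 : act 1 n251 = n185 := d16_1 D251 (iv D185) (iv F983)
theorem F1418 : act 3 n251 = n175 := d29_1 D251 (iv D175) (iv F984)
theorem F1419 : act 5 n251 = n251 := d38_1 D251 (iv D251) F985
theorem F1420 : act 6 n251 = n171 := d41_1 D251 (iv D171) D169
def n252 : Q := act 9 n170
theorem D252 : act 9 n170 = n252 := rfl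
theorem F1421 : act 0 n252 = n252 := d8_1 D252 (iv D252) F986
theorem F1422 : act 1 n252 = n186 := d16_1 D252 (iv D186) (iv F987)
theorem F1423 : act 3 n252 = n252 := d29_1 D252 (iv D252) F988
theorem F1424 : act 5 n252 = n172 := d38_1 D252 (iv D172) (iv F989)
theorem F1425 : act 7 n252 = n252 := d43_1 D252 (iv D252) F990
def n253 : Q := act 8 n171
theorem D253 : act 8 n171 = n253 := rfl
theorem F1426 : act 0 n253 = n253 := d7_1 D253 (iv D253) F991
theorem F1427 : act 1 n253 = n187 := d15_1 D253 (iv D187) (iv F992)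
theorem F1428 : act 5 n253 = n173 := d37_1 D253 (iv D173) (iv F994)
theorem F1429 : act 7 n253 = n253 := d42_1 D253 (iv D253) F995
def n254 : Q := act 8 n172
theorem D254 : act 8 n172 = n254 := rfl
theorem F1430 : act 0 n254 = n254 := d7_1 D254 (iv D254) F996
theorem F1431 : act 1 n254 = n188 := d15_1 D254 (iv D188) (iv F997)
theorem F1432 : act 4 n254 = n254 := d33_1 D254 (iv D254) F999
theorem F1433 : act 6 n254 = n254 := d40_1 D254 (iv D254) F1000
theorem F1434 : act 7 n254 = n254 := d42_1 D254 (iv D254) F1001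
theorem F1435 : act 9 n254 = n173 := d44_2 D172 D254 (iv D173) (iv D118) D117
def n255 : Q := act 3 n173
theorem D255 : act 3 n173 = n255 := rfl
theorem F1436 : act 0 n255 = n255 := d2_1 D255 (iv D255) F1002
theorem F1437 : act 1 n255 = n189 := d10_1 D255 (iv D189) (iv F1003)
theorem F1438 : act 6 n255 = n255 := d26_2 F1005 D255 (iv D255)
theorem F1439 : act 7 n255 = n255 := d27_2 F1006 D255 (iv D255)
theorem F1440 : act 8 n255 = n177 := d28_2 D173 D255 (iv D177) (iv D121) (iv F705)
def n256 : Q := act 9 n174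
theorem D256 : act 9 n174 = n256 := rfl
theorem F1441 : act 0 n256 = n256 := d8_1 D256 (iv D256) F1007
theorem F1442 : act 1 n256 = n190 := d16_1 D256 (iv D190) (iv F1008)
theorem F1443 : act 2 n256 = n256 := d23_1 D256 (iv D256) F1009
theorem F1444 : act 4 n256 = n256 := d34_1 D256 (iv D256) F1010
theorem F1445 : act 5 n256 = n256 := d38_1 D256 (iv D256) F1011
theorem F1446 : act 6 n256 = n256 := d41_1 D256 (iv D256) F1012
theorem F1447 : act 7 n256 = n175 := d43_1 D256 (iv D175) D174
def n257 : Q := act 8 n175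
theorem D257 : act 8 n175 = n257 := rfl
theorem F1448 : act 0 n257 = n257 := d7_1 D257 (iv D257) F1014
theorem F1449 : act 1 n257 = n191 := d15_1 D257 (iv D191) (iv F1015)
theorem F1450 : act 2 n257 = n257 := d22_1 D257 (iv D257) F1016
theorem F1451 : act 4 n257 = n257 := d33_1 D257 (iv D257) F1017
theorem F1452 : act 5 n257 = n257 := d37_1 D257 (iv D257) F1018
theorem F1453 : act 6 n257 = n176 := d40_1 D257 (iv D176) (iv F1019)
theorem F1454 : act 9 n257 = n257 := d44_2 D175 D257 (iv D257) (iv D175) F714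
def n258 : Q := act 3 n176
theorem D258 : act 3 n176 = n258 := rfl
theorem F1455 : act 0 n258 = n258 := d2_1 D258 (iv D258) F1020
theorem F1456 : act 1 n258 = n192 := d10_1 D258 (iv D192) (iv F1021)
theorem F1457 : act 5 n258 = n177 := d25_2 (iv F1024) D258 (iv D177)
theorem F1458 : act 7 n258 = n258 := d27_2 F1025 D258 (iv D258)
theorem F1459 : act 9 n258 = n258 := d29_2 F1026 D258 (iv D258)
def n259 : Q := act 2 n177
theorem D259 : act 2 n177 = n259 := rfl
theorem F1460 : act 0 n259 = n259 := d1_1 D259 (iv D259) F1027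
theorem F1461 : act 3 n259 = n259 := d17_2 D177 D259 (iv D259) (iv D177) F723
theorem F1462 : act 6 n259 = n259 := d20_2 F1029 D259 (iv D259)
theorem F1463 : act 7 n259 = n259 := d21_2 F1030 D259 (iv D259)
theorem F1464 : act 9 n259 = n259 := d23_2 F1031 D259 (iv D259)
def n260 : Q := act 4 n177
theorem D260 : act 4 n177 = n260 := rfl
theorem F1465 : act 0 n260 = n260 := d3_1 D260 (iv D260) F1027
theorem F1466 : act 1 n260 = n194 := d11_1 D260 (iv D194) (iv F1028)
theorem F1467 : act 3 n260 = n179 := d24_1 D260 (iv D179) (iv D122) (iv F724) D177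
theorem F1468 : act 6 n260 = n260 := d31_2 F1029 D260 (iv D260)
theorem F1469 : act 7 n260 = n260 := d32_2 F1030 D260 (iv D260)
theorem F1470 : act 9 n260 = n260 := d34_2 F1031 D260 (iv D260)
def n261 : Q := act 4 n178
theorem D261 : act 4 n178 = n261 := rfl
theorem F1471 : act 0 n261 = n261 := d3_1 D261 (iv D261) F1032
theorem F1472 : act 1 n261 = n261 := d11_1 D261 (iv D261) F1033
theorem F1473 : act 2 n261 = n179 := d18_1 D261 (iv D179) D178
theorem F1474 : act 6 n261 = n261 := d31_2 F1036 D261 (iv D261)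
theorem F1475 : act 7 n261 = n261 := d32_2 F1037 D261 (iv D261)
theorem F1476 : act 8 n261 = n261 := d33_2 F1038 D261 (iv D261)
theorem F1477 : act 9 n261 = n261 := d34_2 F1039 D261 (iv D261)
def n262 : Q := act 5 n179
theorem D262 : act 5 n179 = n262 := rfl
theorem F1478 : act 0 n262 = n262 := d4_1 D262 (iv D262) F1040
theorem F1479 : act 1 n262 = n195 := d12_1 D262 (iv D195) (iv F1041)
theorem F1480 : act 4 n262 = n262 := d30_1 D262 (iv D262) (iv D179) F730 D179
theorem F1481 : act 7 n262 = n262 := d36_2 F1043 D262 (iv D262)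
theorem F1482 : act 8 n262 = n262 := d37_2 F1044 D262 (iv D262)
theorem F1483 : act 9 n262 = n262 := d38_2 F1045 D262 (iv D262)
def n263 : Q := act 5 n180
theorem D263 : act 5 n180 = n263 := rfl
theorem F1484 : act 0 n263 = n201 := d4_1 D263 (iv D201) (iv F1046)
theorem F1485 : act 2 n263 = n263 := d19_1 D263 (iv D263) F1047
theorem F1486 : act 3 n263 = n263 := d25_1 D263 (iv D263) F1048
theorem F1487 : act 4 n263 = n263 := d30_1 D263 (iv D263) F1049 F743 (iv F1049)
theorem F1488 : act 6 n263 = n263 := d35_2 D180 D263 (iv D263) (iv D180) F738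
def n264 : Q := act 7 n180
theorem D264 : act 7 n180 = n264 := rfl
theorem F1489 : act 0 n264 = n202 := d6_1 D264 (iv D202) (iv F1046)
theorem F1490 : act 2 n264 = n264 := d21_1 D264 (iv D264) F1047
theorem F1491 : act 3 n264 = n264 := d27_1 D264 (iv D264) F1048
theorem F1492 : act 4 n264 = n183 := d32_1 D264 (iv D183) (iv F1049)
theorem F1493 : act 6 n264 = n264 := d39_1 D264 (iv D264) (iv D180) F739 D180
def n265 : Q := act 8 n180
theorem D265 : act 8 n180 = n265 := rfl
theorem F1494 : act 0 n265 = n203 := d7_1 D265 (iv D203) (iv F1046)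
theorem F1495 : act 2 n265 = n265 := d22_1 D265 (iv D265) F1047
theorem F1496 : act 4 n265 = n184 := d33_1 D265 (iv D184) (iv F1049)
theorem F1497 : act 6 n265 = n181 := d40_1 D265 (iv D181) D180
def n266 : Q := act 9 n180
theorem D266 : act 9 n180 = n266 := rfl
theorem F1498 : act 0 n266 = n204 := d8_1 D266 (iv D204) (iv F1046)
theorem F1499 : act 2 n266 = n266 := d23_1 D266 (iv D266) F1047
theorem F1500 : act 3 n266 = n266 := d29_1 D266 (iv D266) F1048
theorem F1501 : act 4 n266 = n185 := d34_1 D266 (iv D185) (iv F1049)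
theorem F1502 : act 6 n266 = n182 := d41_1 D266 (iv D182) D180
def n267 : Q := act 3 n181
theorem D267 : act 3 n181 = n267 := rfl
theorem F1503 : act 0 n267 = n205 := d2_1 D267 (iv D205) (iv F1050)
theorem F1504 : act 4 n267 = n267 := d24_2 (iv F1052) D267 (iv D267) F1052 F746
theorem F1505 : act 5 n267 = n267 := d25_2 F1053 D267 (iv D267)
theorem F1506 : act 7 n267 = n267 := d27_2 F1054 D267 (iv D267)
theorem F1507 : act 8 n267 = n267 := d28_2 D181 D267 (iv D267) (iv D181) F737
def n268 : Q := act 9 n181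
theorem D268 : act 9 n181 = n268 := rfl
theorem F1508 : act 0 n268 = n206 := d8_1 D268 (iv D206) (iv F1050)
theorem F1509 : act 2 n268 = n268 := d23_1 D268 (iv D268) F1051
theorem F1510 : act 4 n268 = n186 := d34_1 D268 (iv D186) (iv F1052)
theorem F1511 : act 5 n268 = n268 := d38_1 D268 (iv D268) F1053
theorem F1512 : act 7 n268 = n268 := d43_1 D268 (iv D268) F1054
def n269 : Q := act 8 n182
theorem D269 : act 8 n182 = n269 := rfl
theorem F1513 : act 0 n269 = n207 := d7_1 D269 (iv D207) (iv F1055)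
theorem F1514 : act 2 n269 = n269 := d22_1 D269 (iv D269) F1056
theorem F1515 : act 4 n269 = n187 := d33_1 D269 (iv D187) (iv F1058)
theorem F1516 : act 5 n269 = n269 := d37_1 D269 (iv D269) F1059
theorem F1517 : act 7 n269 = n269 := d42_1 D269 (iv D269) F1060
def n270 : Q := act 8 n183
theorem D270 : act 8 n183 = n270 := rfl
theorem F1518 : act 0 n270 = n208 := d7_1 D270 (iv D208) (iv F1061)
theorem F1519 : act 2 n270 = n270 := d22_1 D270 (iv D270) F1062
theorem F1520 : act 3 n270 = n270 := d28_1 D270 (iv D270) F1063 F770 (iv F1063)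
theorem F1521 : act 5 n270 = n270 := d37_1 D270 (iv D270) F1064
theorem F1522 : act 6 n270 = n270 := d40_1 D270 (iv D270) F1065
theorem F1523 : act 7 n270 = n184 := d42_1 D270 (iv D184) D183
def n271 : Q := act 9 n183
theorem D271 : act 9 n183 = n271 := rfl
theorem F1524 : act 0 n271 = n209 := d8_1 D271 (iv D209) (iv F1061)
theorem F1525 : act 2 n271 = n271 := d23_1 D271 (iv D271) F1062
theorem F1526 : act 3 n271 = n190 := d29_1 D271 (iv D190) (iv F1063)
theorem F1527 : act 5 n271 = n271 := d38_1 D271 (iv D271) F1064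
theorem F1528 : act 6 n271 = n271 := d41_1 D271 (iv D271) F1065
theorem F1529 : act 7 n271 = n185 := d43_1 D271 (iv D185) D183
def n272 : Q := act 9 n184
theorem D272 : act 9 n184 = n272 := rfl
theorem F1530 : act 0 n272 = n210 := d8_1 D272 (iv D210) (iv F1066)
theorem F1531 : act 2 n272 = n272 := d23_1 D272 (iv D272) F1067
theorem F1532 : act 3 n272 = n272 := d29_1 D272 (iv D272) F1068
theorem F1533 : act 5 n272 = n272 := d38_1 D272 (iv D272) F1069
theorem F1534 : act 6 n272 = n186 := d41_1 D272 (iv D186) (iv F1070)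
def n273 : Q := act 8 n185
theorem D273 : act 8 n185 = n273 := rfl
theorem F1535 : act 0 n273 = n211 := d7_1 D273 (iv D211) (iv F1071)
theorem F1536 : act 2 n273 = n273 := d22_1 D273 (iv D273) F1072
theorem F1537 : act 5 n273 = n273 := d37_1 D273 (iv D273) F1074
theorem F1538 : act 6 n273 = n187 := d40_1 D273 (iv D187) (iv F1075)
def n274 : Q := act 8 n186
theorem D274 : act 8 n186 = n274 := rfl
theorem F1539 : act 0 n274 = n212 := d7_1 D274 (iv D212) (iv F1076)
theorem F1540 : act 2 n274 = n274 := d22_1 D274 (iv D274) F1077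
theorem F1541 : act 5 n274 = n188 := d37_1 D274 (iv D188) (iv F1079)
theorem F1542 : act 7 n274 = n274 := d42_1 D274 (iv D274) F1080
theorem F1543 : act 9 n274 = n187 := d44_2 D186 D274 (iv D187) (iv D126) D125
def n275 : Q := act 3 n187
theorem D275 : act 3 n187 = n275 := rfl
theorem F1544 : act 0 n275 = n213 := d2_1 D275 (iv D213) (iv F1081)
theorem F1545 : act 5 n275 = n189 := d25_2 (iv F1083) D275 (iv D189)
theorem F1546 : act 7 n275 = n275 := d27_2 F1084 D275 (iv D275)
theorem F1547 : act 8 n275 = n192 := d28_2 D187 D275 (iv D192) (iv D131) (iv F751)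
def n276 : Q := act 3 n188
theorem D276 : act 3 n188 = n276 := rfl
theorem F1548 : act 0 n276 = n214 := d2_1 D276 (iv D214) (iv F1085)
theorem F1549 : act 6 n276 = n276 := d26_2 F1088 D276 (iv D276)
theorem F1550 : act 7 n276 = n276 := d27_2 F1089 D276 (iv D276)
theorem F1551 : act 8 n276 = n276 := d28_2 D188 D276 (iv D276) (iv D188) F756
theorem F1552 : act 9 n276 = n189 := d29_2 (iv F1090) D276 (iv D189)
def n277 : Q := act 2 n189
theorem D277 : act 2 n189 = n277 := rfl
theorem F1553 : act 0 n277 = n215 := d1_1 D277 (iv D215) (iv F1091)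
theorem F1554 : act 3 n277 = n277 := d17_2 D189 D277 (iv D277) (iv D189) F761
theorem F1555 : act 6 n277 = n277 := d20_2 F1092 D277 (iv D277)
theorem F1556 : act 7 n277 = n277 := d21_2 F1093 D277 (iv D277)
theorem F1557 : act 8 n277 = n193 := d22_2 (iv F1094) D277 (iv D193)
def n278 : Q := act 4 n189
theorem D278 : act 4 n189 = n278 := rfl
theorem F1558 : act 0 n278 = n216 := d3_1 D278 (iv D216) (iv F1091)
theorem F1559 : act 3 n278 = n278 := d24_1 D278 (iv D278) (iv D189) F762 D189
theorem F1560 : act 6 n278 = n278 := d31_2 F1092 D278 (iv D278)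
theorem F1561 : act 7 n278 = n278 := d32_2 F1093 D278 (iv D278)
theorem F1562 : act 8 n278 = n194 := d33_2 (iv F1094) D278 (iv D194)
def n279 : Q := act 8 n190
theorem D279 : act 8 n190 = n279 := rfl
theorem F1563 : act 0 n279 = n217 := d7_1 D279 (iv D217) (iv F1095)
theorem F1564 : act 2 n279 = n196 := d22_1 D279 (iv D196) (iv F1096)
theorem F1565 : act 4 n279 = n279 := d33_1 D279 (iv D279) F1097
theorem F1566 : act 5 n279 = n279 := d37_1 D279 (iv D279) F1098
theorem F1567 : act 6 n279 = n279 := d40_1 D279 (iv D279) F1099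
theorem F1568 : act 7 n279 = n191 := d42_1 D279 (iv D191) (iv F1100)
theorem F1569 : act 9 n279 = n279 := d44_2 D190 D279 (iv D279) (iv D190) F770
def n280 : Q := act 3 n191
theorem D280 : act 3 n191 = n280 := rfl
theorem F1570 : act 0 n280 = n218 := d2_1 D280 (iv D218) (iv F1101)
theorem F1571 : act 5 n280 = n280 := d25_2 F1104 D280 (iv D280)
theorem F1572 : act 6 n280 = n192 := d26_2 (iv F1105) D280 (iv D192)
theorem F1573 : act 9 n280 = n280 := d29_2 F1106 D280 (iv D280)
def n281 : Q := act 2 n192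
theorem D281 : act 2 n192 = n281 := rfl
theorem F1574 : act 0 n281 = n219 := d1_1 D281 (iv D219) (iv F1107)
theorem F1575 : act 3 n281 = n198 := d17_2 D192 D281 (iv D198) (iv D136) (iv F777)
theorem F1576 : act 5 n281 = n193 := d19_2 (iv F1108) D281 (iv D193)
theorem F1577 : act 7 n281 = n281 := d21_2 F1109 D281 (iv D281)
theorem F1578 : act 9 n281 = n281 := d23_2 F1110 D281 (iv D281)
def n282 : Q := act 4 n192
theorem D282 : act 4 n192 = n282 := rfl
theorem F1579 : act 0 n282 = n220 := d3_1 D282 (iv D220) (iv F1107)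
theorem F1580 : act 3 n282 = n282 := d24_1 D282 (iv D282) (iv D192) F778 D192
theorem F1581 : act 7 n282 = n282 := d32_2 F1109 D282 (iv D282)
theorem F1582 : act 9 n282 = n282 := d34_2 F1110 D282 (iv D282)
def n283 : Q := act 1 n193
theorem D283 : act 1 n193 = n283 := rfl
theorem F1583 : act 3 n283 = n200 := d10_2 (iv F1112) D283 (iv D200)
theorem F1584 : act 6 n283 = n283 := d13_2 F1113 D283 (iv D283)
theorem F1585 : act 7 n283 = n283 := d14_2 F1114 D283 (iv D283)
theorem F1586 : act 9 n283 = n283 := d16_2 F1115 D283 (iv D283)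
def n284 : Q := act 4 n193
theorem D284 : act 4 n193 = n284 := rfl
theorem F1587 : act 0 n284 = n222 := d3_1 D284 (iv D222) (iv F1111)
theorem F1588 : act 2 n284 = n194 := d18_1 D284 (iv D194) D193
theorem F1589 : act 3 n284 = n284 := d24_1 D284 (iv D284) F1112 F812 (iv F1112)
theorem F1590 : act 6 n284 = n284 := d31_2 F1113 D284 (iv D284)
theorem F1591 : act 7 n284 = n284 := d32_2 F1114 D284 (iv D284)
theorem F1592 : act 9 n284 = n284 := d34_2 F1115 D284 (iv D284)
def n285 : Q := act 5 n194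
theorem D285 : act 5 n194 = n285 := rfl
theorem F1593 : act 0 n285 = n223 := d4_1 D285 (iv D223) (iv F1116)
theorem F1594 : act 3 n285 = n195 := d25_1 D285 (iv D195) (iv F1117)
theorem F1595 : act 7 n285 = n285 := d36_2 F1119 D285 (iv D285)
theorem F1596 : act 9 n285 = n285 := d38_2 F1120 D285 (iv D285)
def n286 : Q := act 6 n195
theorem D286 : act 6 n195 = n286 := rfl
theorem F1597 : act 0 n286 = n224 := d5_1 D286 (iv D224) (iv F1121)
theorem F1598 : act 2 n286 = n286 := d20_1 D286 (iv D286) F1122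
theorem F1599 : act 4 n286 = n286 := d31_1 D286 (iv D286) F1123
theorem F1600 : act 5 n286 = n286 := d35_1 D286 (iv D286) (iv D195) F788 D195
theorem F1601 : act 8 n286 = n286 := d40_2 F1125 D286 (iv D286)
theorem F1602 : act 9 n286 = n286 := d41_2 F1126 D286 (iv D286)
def n287 : Q := act 3 n196
theorem D287 : act 3 n196 = n287 := rfl
theorem F1603 : act 0 n287 = n225 := d2_1 D287 (iv D225) (iv F1127)
theorem F1604 : act 1 n287 = n287 := d10_1 D287 (iv D287) F1128
theorem F1605 : act 5 n287 = n287 := d25_2 F1130 D287 (iv D287)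
theorem F1606 : act 6 n287 = n287 := d26_2 F1131 D287 (iv D287)
theorem F1607 : act 7 n287 = n197 := d27_2 (iv F1132) D287 (iv D197)
theorem F1608 : act 8 n287 = n287 := d28_2 D196 D287 (iv D287) (iv D196) F794
theorem F1609 : act 9 n287 = n287 := d29_2 F1133 D287 (iv D287)
def n288 : Q := act 2 n197
theorem D288 : act 2 n197 = n288 := rfl
theorem F1610 : act 0 n288 = n226 := d1_1 D288 (iv D226) (iv F1134)
theorem F1611 : act 5 n288 = n288 := d19_2 F1136 D288 (iv D288)
theorem F1612 : act 6 n288 = n198 := d20_2 (iv F1137) D288 (iv D198)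
theorem F1613 : act 8 n288 = n288 := d22_2 F1138 D288 (iv D288)
theorem F1614 : act 9 n288 = n288 := d23_2 F1139 D288 (iv D288)
def n289 : Q := act 4 n197
theorem D289 : act 4 n197 = n289 := rfl
theorem F1615 : act 0 n289 = n227 := d3_1 D289 (iv D227) (iv F1134)
theorem F1616 : act 1 n289 = n289 := d11_1 D289 (iv D289) F1135
theorem F1617 : act 3 n289 = n289 := d24_1 D289 (iv D289) (iv D197) F801 D197
theorem F1618 : act 6 n289 = n199 := d31_2 (iv F1137) D289 (iv D199)
theorem F1619 : act 8 n289 = n289 := d33_2 F1138 D289 (iv D289)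
theorem F1620 : act 9 n289 = n289 := d34_2 F1139 D289 (iv D289)
def n290 : Q := act 1 n198
theorem D290 : act 1 n198 = n290 := rfl
theorem F1621 : act 2 n290 = n290 := d9_2 D198 D290 (iv D290) (iv D198) F806
theorem F1622 : act 5 n290 = n200 := d12_2 (iv F1141) D290 (iv D200)
theorem F1623 : act 7 n290 = n290 := d14_2 F1142 D290 (iv D290)
theorem F1624 : act 8 n290 = n290 := d15_2 F1143 D290 (iv D290)
theorem F1625 : act 9 n290 = n290 := d16_2 F1144 D290 (iv D290)
def n291 : Q := act 4 n198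
theorem D291 : act 4 n198 = n291 := rfl
theorem F1626 : act 0 n291 = n229 := d3_1 D291 (iv D229) (iv F1140)
theorem F1627 : act 2 n291 = n199 := d18_1 D291 (iv D199) D198
theorem F1628 : act 5 n291 = n291 := d30_2 (iv F1141) D291 (iv D291) F1141 F812
theorem F1629 : act 7 n291 = n291 := d32_2 F1142 D291 (iv D291)
theorem F1630 : act 8 n291 = n291 := d33_2 F1143 D291 (iv D291)
theorem F1631 : act 9 n291 = n291 := d34_2 F1144 D291 (iv D291)
def n292 : Q := act 0 n200
theorem D292 : act 0 n200 = n292 := rfl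
theorem F1632 : act 1 n292 = n230 := d0_2 D200 D292 (iv D230) (iv D158) (iv F811)
theorem F1633 : act 2 n292 = n292 := d1_2 F1152 D292 (iv D292)
theorem F1634 : act 4 n292 = n292 := d3_2 F1153 D292 (iv D292)
theorem F1635 : act 6 n292 = n292 := d5_2 F1154 D292 (iv D292)
theorem F1636 : act 7 n292 = n292 := d6_2 F1155 D292 (iv D292)
theorem F1637 : act 8 n292 = n292 := d7_2 F1156 D292 (iv D292)
theorem F1638 : act 9 n292 = n292 := d8_2 F1157 D292 (iv D292)
def n293 : Q := act 7 n201
theorem D293 : act 7 n201 = n293 := rfl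
theorem F1639 : act 1 n293 = n293 := d14_1 D293 (iv D293) F1158
theorem F1640 : act 2 n293 = n293 := d21_1 D293 (iv D293) F1159
theorem F1641 : act 3 n293 = n293 := d27_1 D293 (iv D293) F1160
theorem F1642 : act 4 n293 = n293 := d32_1 D293 (iv D293) F1161
theorem F1643 : act 5 n293 = n202 := d36_1 D293 (iv D202) D201
def n294 : Q := act 8 n201
theorem D294 : act 8 n201 = n294 := rfl
theorem F1644 : act 1 n294 = n294 := d15_1 D294 (iv D294) F1158
theorem F1645 : act 2 n294 = n294 := d22_1 D294 (iv D294) F1159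
theorem F1646 : act 4 n294 = n294 := d33_1 D294 (iv D294) F1161
theorem F1647 : act 5 n294 = n203 := d37_1 D294 (iv D203) D201
theorem F1648 : act 6 n294 = n294 := d40_1 D294 (iv D294) F1162
def n295 : Q := act 9 n201
theorem D295 : act 9 n201 = n295 := rfl
theorem F1649 : act 1 n295 = n295 := d16_1 D295 (iv D295) F1158
theorem F1650 : act 2 n295 = n295 := d23_1 D295 (iv D295) F1159
theorem F1651 : act 3 n295 = n295 := d29_1 D295 (iv D295) F1160
theorem F1652 : act 4 n295 = n295 := d34_1 D295 (iv D295) F1161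
theorem F1653 : act 5 n295 = n204 := d38_1 D295 (iv D204) D201
theorem F1654 : act 6 n295 = n295 := d41_1 D295 (iv D295) F1162
def n296 : Q := act 8 n202
theorem D296 : act 8 n202 = n296 := rfl
theorem F1655 : act 1 n296 = n296 := d15_1 D296 (iv D296) F1163
theorem F1656 : act 2 n296 = n296 := d22_1 D296 (iv D296) F1164
theorem F1657 : act 4 n296 = n208 := d33_1 D296 (iv D208) (iv F1166)
theorem F1658 : act 6 n296 = n296 := d40_1 D296 (iv D296) F1167
theorem F1659 : act 7 n296 = n203 := d42_1 D296 (iv D203) D202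
def n297 : Q := act 9 n202
theorem D297 : act 9 n202 = n297 := rfl
theorem F1660 : act 1 n297 = n297 := d16_1 D297 (iv D297) F1163
theorem F1661 : act 2 n297 = n297 := d23_1 D297 (iv D297) F1164
theorem F1662 : act 3 n297 = n297 := d29_1 D297 (iv D297) F1165
theorem F1663 : act 4 n297 = n209 := d34_1 D297 (iv D209) (iv F1166)
theorem F1664 : act 6 n297 = n297 := d41_1 D297 (iv D297) F1167
theorem F1665 : act 7 n297 = n204 := d43_1 D297 (iv D204) D202
def n298 : Q := act 3 n203
theorem D298 : act 3 n203 = n298 := rfl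
theorem F1666 : act 1 n298 = n298 := d10_1 D298 (iv D298) F1168
theorem F1667 : act 4 n298 = n298 := d24_2 (iv F1170) D298 (iv D298) F1170 F839
theorem F1668 : act 6 n298 = n205 := d26_2 (iv F1171) D298 (iv D205)
theorem F1669 : act 8 n298 = n298 := d28_2 D203 D298 (iv D298) (iv D203) F819
def n299 : Q := act 9 n203
theorem D299 : act 9 n203 = n299 := rfl
theorem F1670 : act 1 n299 = n299 := d16_1 D299 (iv D299) F1168
theorem F1671 : act 2 n299 = n299 := d23_1 D299 (iv D299) F1169
theorem F1672 : act 4 n299 = n210 := d34_1 D299 (iv D210) (iv F1170)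
theorem F1673 : act 6 n299 = n206 := d41_1 D299 (iv D206) (iv F1171)
def n300 : Q := act 8 n204
theorem D300 : act 8 n204 = n300 := rfl
theorem F1674 : act 1 n300 = n300 := d15_1 D300 (iv D300) F1172
theorem F1675 : act 2 n300 = n300 := d22_1 D300 (iv D300) F1173
theorem F1676 : act 4 n300 = n211 := d33_1 D300 (iv D211) (iv F1175)
theorem F1677 : act 6 n300 = n207 := d40_1 D300 (iv D207) (iv F1176)
def n301 : Q := act 2 n205
theorem D301 : act 2 n205 = n301 := rfl
theorem F1678 : act 3 n301 = n301 := d17_2 D205 D301 (iv D301) (iv D205) F822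
theorem F1679 : act 4 n301 = n301 := d18_2 F1178 D301 (iv D301)
theorem F1680 : act 5 n301 = n301 := d19_2 F1179 D301 (iv D301)
theorem F1681 : act 7 n301 = n301 := d21_2 F1180 D301 (iv D301)
theorem F1682 : act 8 n301 = n301 := d22_2 F1181 D301 (iv D301)
def n302 : Q := act 9 n205
theorem D302 : act 9 n205 = n302 := rfl
theorem F1683 : act 1 n302 = n302 := d16_1 D302 (iv D302) F1177
theorem F1684 : act 3 n302 = n206 := d29_1 D302 (iv D206) D205
theorem F1685 : act 4 n302 = n302 := d34_1 D302 (iv D302) F1178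
theorem F1686 : act 5 n302 = n302 := d38_1 D302 (iv D302) F1179
theorem F1687 : act 7 n302 = n302 := d43_1 D302 (iv D302) F1180
def n303 : Q := act 8 n206
theorem D303 : act 8 n206 = n303 := rfl
theorem F1688 : act 1 n303 = n303 := d15_1 D303 (iv D303) F1182
theorem F1689 : act 2 n303 = n303 := d22_1 D303 (iv D303) F1183
theorem F1690 : act 4 n303 = n212 := d33_1 D303 (iv D212) (iv F1184)
theorem F1691 : act 5 n303 = n303 := d37_1 D303 (iv D303) F1185
theorem F1692 : act 7 n303 = n303 := d42_1 D303 (iv D303) F1186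
theorem F1693 : act 9 n303 = n207 := d44_2 D206 D303 (iv D207) (iv D140) D139
def n304 : Q := act 3 n207
theorem D304 : act 3 n207 = n304 := rfl
theorem F1694 : act 1 n304 = n304 := d10_1 D304 (iv D304) F1187
theorem F1695 : act 5 n304 = n304 := d25_2 F1190 D304 (iv D304)
theorem F1696 : act 7 n304 = n304 := d27_2 F1191 D304 (iv D304)
theorem F1697 : act 8 n304 = n304 := d28_2 D207 D304 (iv D304) (iv D207) F828
def n305 : Q := act 9 n208
theorem D305 : act 9 n208 = n305 := rfl
theorem F1698 : act 1 n305 = n305 := d16_1 D305 (iv D305) F1192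
theorem F1699 : act 2 n305 = n305 := d23_1 D305 (iv D305) F1193
theorem F1700 : act 3 n305 = n305 := d29_1 D305 (iv D305) F1194
theorem F1701 : act 5 n305 = n305 := d38_1 D305 (iv D305) F1195
theorem F1702 : act 6 n305 = n305 := d41_1 D305 (iv D305) F1196
theorem F1703 : act 7 n305 = n210 := d43_1 D305 (iv D210) (iv F1197)
def n306 : Q := act 8 n209
theorem D306 : act 8 n209 = n306 := rfl
theorem F1704 : act 1 n306 = n306 := d15_1 D306 (iv D306) F1198
theorem F1705 : act 2 n306 = n306 := d22_1 D306 (iv D306) F1199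
theorem F1706 : act 5 n306 = n306 := d37_1 D306 (iv D306) F1201
theorem F1707 : act 6 n306 = n306 := d40_1 D306 (iv D306) F1202
theorem F1708 : act 7 n306 = n211 := d42_1 D306 (iv D211) (iv F1203)
def n307 : Q := act 8 n210
theorem D307 : act 8 n210 = n307 := rfl
theorem F1709 : act 1 n307 = n307 := d15_1 D307 (iv D307) F1204
theorem F1710 : act 2 n307 = n307 := d22_1 D307 (iv D307) F1205
theorem F1711 : act 5 n307 = n307 := d37_1 D307 (iv D307) F1207
theorem F1712 : act 6 n307 = n212 := d40_1 D307 (iv D212) (iv F1208)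
theorem F1713 : act 9 n307 = n211 := d44_2 D210 D307 (iv D211) (iv D143) D142
def n308 : Q := act 3 n211
theorem D308 : act 3 n211 = n308 := rfl
theorem F1714 : act 1 n308 = n308 := d10_1 D308 (iv D308) F1209
theorem F1715 : act 5 n308 = n308 := d25_2 F1211 D308 (iv D308)
theorem F1716 : act 6 n308 = n213 := d26_2 (iv F1212) D308 (iv D213)
theorem F1717 : act 8 n308 = n218 := d28_2 D211 D308 (iv D218) (iv D149) (iv F844)
def n309 : Q := act 3 n212
theorem D309 : act 3 n212 = n309 := rfl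
theorem F1718 : act 1 n309 = n309 := d10_1 D309 (iv D309) F1213
theorem F1719 : act 5 n309 = n214 := d25_2 (iv F1215) D309 (iv D214)
theorem F1720 : act 7 n309 = n309 := d27_2 F1216 D309 (iv D309)
theorem F1721 : act 8 n309 = n309 := d28_2 D212 D309 (iv D309) (iv D212) F849
theorem F1722 : act 9 n309 = n213 := d29_2 (iv F1217) D309 (iv D213)
def n310 : Q := act 2 n213
theorem D310 : act 2 n213 = n310 := rfl
theorem F1723 : act 3 n310 = n310 := d17_2 D213 D310 (iv D310) (iv D213) F853
theorem F1724 : act 5 n310 = n215 := d19_2 (iv F1219) D310 (iv D215)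
theorem F1725 : act 7 n310 = n310 := d21_2 F1220 D310 (iv D310)
theorem F1726 : act 8 n310 = n219 := d22_2 (iv F1221) D310 (iv D219)
def n311 : Q := act 4 n213
theorem D311 : act 4 n213 = n311 := rfl
theorem F1727 : act 1 n311 = n311 := d11_1 D311 (iv D311) F1218
theorem F1728 : act 7 n311 = n311 := d32_2 F1220 D311 (iv D311)
theorem F1729 : act 8 n311 = n220 := d33_2 (iv F1221) D311 (iv D220)
def n312 : Q := act 2 n214
theorem D312 : act 2 n214 = n312 := rfl
theorem F1730 : act 3 n312 = n312 := d17_2 D214 D312 (iv D312) (iv D214) F857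
theorem F1731 : act 6 n312 = n312 := d20_2 F1223 D312 (iv D312)
theorem F1732 : act 7 n312 = n312 := d21_2 F1224 D312 (iv D312)
theorem F1733 : act 8 n312 = n312 := d22_2 F1225 D312 (iv D312)
theorem F1734 : act 9 n312 = n215 := d23_2 (iv F1226) D312 (iv D215)
def n313 : Q := act 4 n214
theorem D313 : act 4 n214 = n313 := rfl
theorem F1735 : act 1 n313 = n313 := d11_1 D313 (iv D313) F1222
theorem F1736 : act 3 n313 = n313 := d24_1 D313 (iv D313) (iv D214) F858 D214
theorem F1737 : act 6 n313 = n313 := d31_2 F1223 D313 (iv D313)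
theorem F1738 : act 7 n313 = n313 := d32_2 F1224 D313 (iv D313)
theorem F1739 : act 8 n313 = n313 := d33_2 F1225 D313 (iv D313)
theorem F1740 : act 9 n313 = n216 := d34_2 (iv F1226) D313 (iv D216)
def n314 : Q := act 1 n215
theorem D314 : act 1 n215 = n314 := rfl
theorem F1741 : act 2 n314 = n314 := d9_2 D215 D314 (iv D314) (iv D215) F862
theorem F1742 : act 3 n314 = n314 := d10_2 F1227 D314 (iv D314)
theorem F1743 : act 6 n314 = n314 := d13_2 F1228 D314 (iv D314)
theorem F1744 : act 7 n314 = n314 := d14_2 F1229 D314 (iv D314)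
theorem F1745 : act 8 n314 = n221 := d15_2 (iv F1230) D314 (iv D221)
def n315 : Q := act 4 n215
theorem D315 : act 4 n215 = n315 := rfl
theorem F1746 : act 2 n315 = n216 := d18_1 D315 (iv D216) D215
theorem F1747 : act 6 n315 = n315 := d31_2 F1228 D315 (iv D315)
theorem F1748 : act 7 n315 = n315 := d32_2 F1229 D315 (iv D315)
theorem F1749 : act 8 n315 = n222 := d33_2 (iv F1230) D315 (iv D222)
def n316 : Q := act 5 n216
theorem D316 : act 5 n216 = n316 := rfl
theorem F1750 : act 1 n316 = n316 := d12_1 D316 (iv D316) F1231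
theorem F1751 : act 3 n316 = n316 := d25_1 D316 (iv D316) F1232
theorem F1752 : act 7 n316 = n316 := d36_2 F1234 D316 (iv D316)
theorem F1753 : act 8 n316 = n223 := d37_2 (iv F1235) D316 (iv D223)
def n317 : Q := act 3 n217
theorem D317 : act 3 n217 = n317 := rfl
theorem F1754 : act 1 n317 = n317 := d10_1 D317 (iv D317) F1236
theorem F1755 : act 5 n317 = n317 := d25_2 F1239 D317 (iv D317)
theorem F1756 : act 6 n317 = n317 := d26_2 F1240 D317 (iv D317)
theorem F1757 : act 7 n317 = n218 := d27_2 (iv F1241) D317 (iv D218)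
theorem F1758 : act 9 n317 = n317 := d29_2 F1242 D317 (iv D317)
def n318 : Q := act 2 n218
theorem D318 : act 2 n218 = n318 := rfl
theorem F1759 : act 3 n318 = n226 := d17_2 D218 D318 (iv D226) (iv D155) (iv F873)
theorem F1760 : act 5 n318 = n318 := d19_2 F1244 D318 (iv D318)
theorem F1761 : act 6 n318 = n219 := d20_2 (iv F1245) D318 (iv D219)
theorem F1762 : act 9 n318 = n318 := d23_2 F1246 D318 (iv D318)
def n319 : Q := act 4 n218
theorem D319 : act 4 n218 = n319 := rfl
theorem F1763 : act 1 n319 = n319 := d11_1 D319 (iv D319) F1243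
theorem F1764 : act 3 n319 = n319 := d24_1 D319 (iv D319) (iv D218) F874 D218
theorem F1765 : act 6 n319 = n220 := d31_2 (iv F1245) D319 (iv D220)
theorem F1766 : act 9 n319 = n319 := d34_2 F1246 D319 (iv D319)
def n320 : Q := act 1 n219
theorem D320 : act 1 n219 = n320 := rfl
theorem F1767 : act 2 n320 = n320 := d9_2 D219 D320 (iv D320) (iv D219) F878
theorem F1768 : act 3 n320 = n228 := d10_2 (iv F1247) D320 (iv D228)
theorem F1769 : act 5 n320 = n221 := d12_2 (iv F1248) D320 (iv D221)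
theorem F1770 : act 7 n320 = n320 := d14_2 F1249 D320 (iv D320)
theorem F1771 : act 9 n320 = n320 := d16_2 F1250 D320 (iv D320)
def n321 : Q := act 4 n219
theorem D321 : act 4 n219 = n321 := rfl
theorem F1772 : act 2 n321 = n220 := d18_1 D321 (iv D220) D219
theorem F1773 : act 7 n321 = n321 := d32_2 F1249 D321 (iv D321)
theorem F1774 : act 9 n321 = n321 := d34_2 F1250 D321 (iv D321)
def n322 : Q := act 5 n220
theorem D322 : act 5 n220 = n322 := rfl
theorem F1775 : act 1 n322 = n322 := d12_1 D322 (iv D322) F1251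
theorem F1776 : act 3 n322 = n322 := d25_1 D322 (iv D322) F1252
theorem F1777 : act 4 n322 = n223 := d30_1 D322 (iv D223) (iv D152) (iv F879) D220
theorem F1778 : act 7 n322 = n322 := d36_2 F1253 D322 (iv D322)
theorem F1779 : act 9 n322 = n322 := d38_2 F1254 D322 (iv D322)
def n323 : Q := act 0 n221
theorem D323 : act 0 n221 = n323 := rfl
theorem F1780 : act 2 n323 = n323 := d1_2 F1255 D323 (iv D323)
theorem F1781 : act 3 n323 = n230 := d2_2 (iv F1256) D323 (iv D230)
theorem F1782 : act 6 n323 = n323 := d5_2 F1257 D323 (iv D323)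
theorem F1783 : act 7 n323 = n323 := d6_2 F1258 D323 (iv D323)
theorem F1784 : act 9 n323 = n323 := d8_2 F1259 D323 (iv D323)
def n324 : Q := act 4 n221
theorem D324 : act 4 n221 = n324 := rfl
theorem F1785 : act 1 n324 = n222 := d11_1 D324 (iv D222) D221
theorem F1786 : act 2 n324 = n324 := d18_1 D324 (iv D324) F1255
theorem F1787 : act 3 n324 = n324 := d24_1 D324 (iv D324) F1256 F919 (iv F1256)
theorem F1788 : act 6 n324 = n324 := d31_2 F1257 D324 (iv D324)
theorem F1789 : act 7 n324 = n324 := d32_2 F1258 D324 (iv D324)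
theorem F1790 : act 9 n324 = n324 := d34_2 F1259 D324 (iv D324)
def n325 : Q := act 5 n222
theorem D325 : act 5 n222 = n325 := rfl
theorem F1791 : act 2 n325 = n223 := d19_1 D325 (iv D223) (iv F1260)
theorem F1792 : act 3 n325 = n325 := d25_1 D325 (iv D325) F1261
theorem F1793 : act 7 n325 = n325 := d36_2 F1263 D325 (iv D325)
theorem F1794 : act 9 n325 = n325 := d38_2 F1264 D325 (iv D325)
def n326 : Q := act 6 n223
theorem D326 : act 6 n223 = n326 := rfl
theorem F1795 : act 1 n326 = n326 := d13_1 D326 (iv D326) F1265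
theorem F1796 : act 3 n326 = n224 := d26_1 D326 (iv D224) (iv F1266)
theorem F1797 : act 5 n326 = n326 := d35_1 D326 (iv D326) (iv D223) F888 D223
theorem F1798 : act 9 n326 = n326 := d41_2 F1268 D326 (iv D326)
def n327 : Q := act 7 n224
theorem D327 : act 7 n224 = n327 := rfl
theorem F1799 : act 1 n327 = n327 := d14_1 D327 (iv D327) F1269
theorem F1800 : act 2 n327 = n327 := d21_1 D327 (iv D327) F1270
theorem F1801 : act 4 n327 = n327 := d32_1 D327 (iv D327) F1271
theorem F1802 : act 5 n327 = n327 := d36_1 D327 (iv D327) F1272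
theorem F1803 : act 6 n327 = n327 := d39_1 D327 (iv D327) (iv D224) F894 D224
theorem F1804 : act 8 n327 = n327 := d42_2 F1273 D327 (iv D327)
theorem F1805 : act 9 n327 = n327 := d43_2 F1274 D327 (iv D327)
def n328 : Q := act 2 n225
theorem D328 : act 2 n225 = n328 := rfl
theorem F1806 : act 5 n328 = n328 := d19_2 F1276 D328 (iv D328)
theorem F1807 : act 6 n328 = n328 := d20_2 F1277 D328 (iv D328)
theorem F1808 : act 7 n328 = n226 := d21_2 (iv F1278) D328 (iv D226)
theorem F1809 : act 8 n328 = n328 := d22_2 F1279 D328 (iv D328)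
theorem F1810 : act 9 n328 = n328 := d23_2 F1280 D328 (iv D328)
def n329 : Q := act 4 n225
theorem D329 : act 4 n225 = n329 := rfl
theorem F1811 : act 1 n329 = n232 := d11_1 D329 (iv D232) (iv F1275)
theorem F1812 : act 3 n329 = n329 := d24_1 D329 (iv D329) (iv D225) F898 D225
theorem F1813 : act 6 n329 = n329 := d31_2 F1277 D329 (iv D329)
theorem F1814 : act 7 n329 = n227 := d32_2 (iv F1278) D329 (iv D227)
theorem F1815 : act 8 n329 = n329 := d33_2 F1279 D329 (iv D329)
theorem F1816 : act 9 n329 = n329 := d34_2 F1280 D329 (iv D329)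
def n330 : Q := act 1 n226
theorem D330 : act 1 n226 = n330 := rfl
theorem F1817 : act 2 n330 = n233 := d9_2 D226 D330 (iv D233) (iv D160) (iv F903)
theorem F1818 : act 5 n330 = n330 := d12_2 F1281 D330 (iv D330)
theorem F1819 : act 6 n330 = n228 := d13_2 (iv F1282) D330 (iv D228)
theorem F1820 : act 8 n330 = n330 := d15_2 F1283 D330 (iv D330)
theorem F1821 : act 9 n330 = n330 := d16_2 F1284 D330 (iv D330)
def n331 : Q := act 4 n226
theorem D331 : act 4 n226 = n331 := rfl
theorem F1822 : act 2 n331 = n227 := d18_1 D331 (iv D227) D226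
theorem F1823 : act 6 n331 = n229 := d31_2 (iv F1282) D331 (iv D229)
theorem F1824 : act 8 n331 = n331 := d33_2 F1283 D331 (iv D331)
theorem F1825 : act 9 n331 = n331 := d34_2 F1284 D331 (iv D331)
def n332 : Q := act 5 n227
theorem D332 : act 5 n227 = n332 := rfl
theorem F1826 : act 1 n332 = n235 := d12_1 D332 (iv D235) (iv F1285)
theorem F1827 : act 3 n332 = n332 := d25_1 D332 (iv D332) F1286
theorem F1828 : act 4 n332 = n332 := d30_1 D332 (iv D332) (iv D227) F904 D227
theorem F1829 : act 6 n332 = n332 := d35_2 (iv F1287) D332 (iv D332) F1287 F914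
theorem F1830 : act 8 n332 = n332 := d37_2 F1288 D332 (iv D332)
theorem F1831 : act 9 n332 = n332 := d38_2 F1289 D332 (iv D332)
def n333 : Q := act 0 n228
theorem D333 : act 0 n228 = n333 := rfl
theorem F1832 : act 2 n333 = n236 := d1_2 (iv F1290) D333 (iv D236)
theorem F1833 : act 5 n333 = n230 := d4_2 (iv F1291) D333 (iv D230)
theorem F1834 : act 7 n333 = n333 := d6_2 F1292 D333 (iv D333)
theorem F1835 : act 8 n333 = n333 := d7_2 F1293 D333 (iv D333)
theorem F1836 : act 9 n333 = n333 := d8_2 F1294 D333 (iv D333)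
def n334 : Q := act 4 n228
theorem D334 : act 4 n228 = n334 := rfl
theorem F1837 : act 1 n334 = n229 := d11_1 D334 (iv D229) D228
theorem F1838 : act 2 n334 = n237 := d18_1 D334 (iv D237) (iv F1290)
theorem F1839 : act 5 n334 = n334 := d30_2 (iv F1291) D334 (iv D334) F1291 F919
theorem F1840 : act 7 n334 = n334 := d32_2 F1292 D334 (iv D334)
theorem F1841 : act 8 n334 = n334 := d33_2 F1293 D334 (iv D334)
theorem F1842 : act 9 n334 = n334 := d34_2 F1294 D334 (iv D334)
def n335 : Q := act 3 n229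
theorem D335 : act 3 n229 = n335 := rfl
theorem F1843 : act 2 n335 = n335 := d17_1 D335 (iv D335) F1295 F913 (iv F1295)
theorem F1844 : act 5 n335 = n335 := d25_2 F1296 D335 (iv D335)
theorem F1845 : act 7 n335 = n335 := d27_2 F1297 D335 (iv D335)
theorem F1846 : act 9 n335 = n335 := d29_2 F1299 D335 (iv D335)
def n336 : Q := act 1 n231
theorem D336 : act 1 n231 = n336 := rfl
theorem F1847 : act 3 n336 = n336 := d10_2 F1307 D336 (iv D336)
theorem F1848 : act 5 n336 = n336 := d12_2 F1308 D336 (iv D336)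
theorem F1849 : act 6 n336 = n336 := d13_2 F1309 D336 (iv D336)
theorem F1850 : act 7 n336 = n233 := d14_2 (iv F1310) D336 (iv D233)
theorem F1851 : act 8 n336 = n336 := d15_2 F1311 D336 (iv D336)
theorem F1852 : act 9 n336 = n336 := d16_2 F1312 D336 (iv D336)
def n337 : Q := act 4 n231
theorem D337 : act 4 n231 = n337 := rfl
theorem F1853 : act 0 n337 = n337 := d3_1 D337 (iv D337) F1306
theorem F1854 : act 2 n337 = n232 := d18_1 D337 (iv D232) D231
theorem F1855 : act 6 n337 = n337 := d31_2 F1309 D337 (iv D337)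
theorem F1856 : act 7 n337 = n234 := d32_2 (iv F1310) D337 (iv D234)
theorem F1857 : act 8 n337 = n337 := d33_2 F1311 D337 (iv D337)
theorem F1858 : act 9 n337 = n337 := d34_2 F1312 D337 (iv D337)
def n338 : Q := act 5 n232
theorem D338 : act 5 n232 = n338 := rfl
theorem F1859 : act 0 n338 = n338 := d4_1 D338 (iv D338) F1313
theorem F1860 : act 3 n338 = n338 := d25_1 D338 (iv D338) F1314
theorem F1861 : act 4 n338 = n338 := d30_1 D338 (iv D338) (iv D232) F925 D232
theorem F1862 : act 7 n338 = n235 := d36_2 (iv F1316) D338 (iv D235)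
theorem F1863 : act 8 n338 = n338 := d37_2 F1317 D338 (iv D338)
theorem F1864 : act 9 n338 = n338 := d38_2 F1318 D338 (iv D338)
def n339 : Q := act 0 n233
theorem D339 : act 0 n233 = n339 := rfl
theorem F1865 : act 1 n339 = n339 := d0_2 D233 D339 (iv D339) (iv D233) F930
theorem F1866 : act 3 n339 = n339 := d2_2 F1319 D339 (iv D339)
theorem F1867 : act 5 n339 = n339 := d4_2 F1320 D339 (iv D339)
theorem F1868 : act 6 n339 = n236 := d5_2 (iv F1321) D339 (iv D236)
theorem F1869 : act 8 n339 = n339 := d7_2 F1322 D339 (iv D339)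
theorem F1870 : act 9 n339 = n339 := d8_2 F1323 D339 (iv D339)
def n340 : Q := act 4 n233
theorem D340 : act 4 n233 = n340 := rfl
theorem F1871 : act 1 n340 = n234 := d11_1 D340 (iv D234) D233
theorem F1872 : act 6 n340 = n237 := d31_2 (iv F1321) D340 (iv D237)
theorem F1873 : act 8 n340 = n340 := d33_2 F1322 D340 (iv D340)
theorem F1874 : act 9 n340 = n340 := d34_2 F1323 D340 (iv D340)
def n341 : Q := act 3 n234
theorem D341 : act 3 n234 = n341 := rfl
theorem F1875 : act 0 n341 = n341 := d2_1 D341 (iv D341) F1324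
theorem F1876 : act 2 n341 = n341 := d17_1 D341 (iv D341) F1325 F937 (iv F1325)
theorem F1877 : act 4 n341 = n341 := d24_2 D234 D341 (iv D341) (iv D234) F931
theorem F1878 : act 6 n341 = n238 := d26_2 (iv F1326) D341 (iv D238)
theorem F1879 : act 9 n341 = n341 := d29_2 F1328 D341 (iv D341)
def n342 : Q := act 5 n234
theorem D342 : act 5 n234 = n342 := rfl
theorem F1880 : act 0 n342 = n342 := d4_1 D342 (iv D342) F1324
theorem F1881 : act 2 n342 = n235 := d19_1 D342 (iv D235) (iv F1325)
theorem F1882 : act 4 n342 = n342 := d30_1 D342 (iv D342) (iv D234) F932 D234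
theorem F1883 : act 6 n342 = n342 := d35_2 (iv F1326) D342 (iv D342) F1326 F948
theorem F1884 : act 8 n342 = n342 := d37_2 F1327 D342 (iv D342)
theorem F1885 : act 9 n342 = n342 := d38_2 F1328 D342 (iv D342)
def n343 : Q := act 4 n236
theorem D343 : act 4 n236 = n343 := rfl
theorem F1886 : act 0 n343 = n237 := d3_1 D343 (iv D237) D236
theorem F1887 : act 1 n343 = n343 := d11_1 D343 (iv D343) F1335
theorem F1888 : act 5 n343 = n343 := d30_2 (iv F1337) D343 (iv D343) F1337 F954
theorem F1889 : act 7 n343 = n343 := d32_2 F1338 D343 (iv D343)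
theorem F1890 : act 8 n343 = n343 := d33_2 F1339 D343 (iv D343)
theorem F1891 : act 9 n343 = n343 := d34_2 F1340 D343 (iv D343)
def n344 : Q := act 3 n237
theorem D344 : act 3 n237 = n344 := rfl
theorem F1892 : act 1 n344 = n238 := d10_1 D344 (iv D238) (iv F1341)
theorem F1893 : act 4 n344 = n344 := d24_2 D237 D344 (iv D344) (iv D237) F941
theorem F1894 : act 5 n344 = n344 := d25_2 F1342 D344 (iv D344)
theorem F1895 : act 7 n344 = n344 := d27_2 F1343 D344 (iv D344)
theorem F1896 : act 9 n344 = n344 := d29_2 F1345 D344 (iv D344)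
def n345 : Q := act 8 n238
theorem D345 : act 8 n238 = n345 := rfl
theorem F1897 : act 0 n345 = n345 := d7_1 D345 (iv D345) F1346
theorem F1898 : act 2 n345 = n345 := d22_1 D345 (iv D345) F1347
theorem F1899 : act 3 n345 = n345 := d28_1 D345 (iv D345) (iv D238) F950 D238
theorem F1900 : act 4 n345 = n345 := d33_1 D345 (iv D345) F1348
theorem F1901 : act 5 n345 = n345 := d37_1 D345 (iv D345) F1349
theorem F1902 : act 7 n345 = n345 := d42_1 D345 (iv D345) F1350
def n346 : Q := act 3 n239
theorem D346 : act 3 n239 = n346 := rfl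
theorem F1903 : act 0 n346 = n346 := d2_1 D346 (iv D346) F1352
theorem F1904 : act 1 n346 = n346 := d10_1 D346 (iv D346) F1353
theorem F1905 : act 2 n346 = n346 := d17_1 D346 (iv D346) F1354 F979 (iv F1354)
theorem F1906 : act 4 n346 = n346 := d24_2 D239 D346 (iv D346) (iv D239) F962
theorem F1907 : act 5 n346 = n346 := d25_2 F1355 D346 (iv D346)
theorem F1908 : act 7 n346 = n346 := d27_2 F1356 D346 (iv D346)
theorem F1909 : act 8 n346 = n346 := d46_7 (iv D166) D165 D239 D346 F1905 F1904 F1903 F1907 F1906 (iv D346) F1354 F978 F735 D139 F824 F823 F590 F589 F588 (iv F744) (iv D125) (iv D84) F367 (iv D58) F262 F198 F197 F166 D33 F222 F221 (iv F297) F296 (iv F370) F374 (iv D59) (iv D40) F192 (iv D28) F143 F142 F122 F119 D23 F163 (iv F210) F209 (iv F261) F265 D59 F372 (iv F516) F515 (iv F694) F693 D170 F989 F700 F699 (iv F966) F965 F964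
def n347 : Q := act 6 n239
theorem D347 : act 6 n239 = n347 := rfl
theorem F1910 : act 0 n347 = n347 := d5_1 D347 (iv D347) F1352
theorem F1911 : act 1 n347 = n347 := d13_1 D347 (iv D347) F1353
theorem F1912 : act 2 n347 = n246 := d20_1 D347 (iv D246) (iv F1354)
theorem F1913 : act 4 n347 = n240 := d31_1 D347 (iv D240) D239
def n348 : Q := act 8 n239
theorem D348 : act 8 n239 = n348 := rfl
theorem F1914 : act 0 n348 = n348 := d7_1 D348 (iv D348) F1352
theorem F1915 : act 1 n348 = n348 := d15_1 D348 (iv D348) F1353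
theorem F1916 : act 2 n348 = n247 := d22_1 D348 (iv D247) (iv F1354)
theorem F1917 : act 3 n348 = n348 := d28_1 D348 (iv D348) D346 F1909 (iv D346)
theorem F1918 : act 4 n348 = n241 := d33_1 D348 (iv D241) D239
theorem F1919 : act 5 n348 = n348 := d37_1 D348 (iv D348) F1355
theorem F1920 : act 7 n348 = n348 := d42_1 D348 (iv D348) F1356
def n349 : Q := act 9 n239
theorem D349 : act 9 n239 = n349 := rfl
theorem F1921 : act 0 n349 = n349 := d8_1 D349 (iv D349) F1352
theorem F1922 : act 1 n349 = n349 := d16_1 D349 (iv D349) F1353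
theorem F1923 : act 2 n349 = n248 := d23_1 D349 (iv D248) (iv F1354)
theorem F1924 : act 4 n349 = n242 := d34_1 D349 (iv D242) D239
theorem F1925 : act 5 n349 = n349 := d38_1 D349 (iv D349) F1355
theorem F1926 : act 7 n349 = n349 := d43_1 D349 (iv D349) F1356
def n350 : Q := act 7 n240
theorem D350 : act 7 n240 = n350 := rfl
theorem F1927 : act 0 n350 = n350 := d6_1 D350 (iv D350) F1357
theorem F1928 : act 1 n350 = n350 := d14_1 D350 (iv D350) F1358
theorem F1929 : act 2 n350 = n249 := d21_1 D350 (iv D249) (iv F1359)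
theorem F1930 : act 3 n350 = n350 := d27_1 D350 (iv D350) F1360
theorem F1931 : act 5 n350 = n350 := d36_1 D350 (iv D350) F1361
theorem F1932 : act 6 n350 = n350 := d39_1 D350 (iv D350) (iv D240) F963 D240
def n351 : Q := act 8 n240
theorem D351 : act 8 n240 = n351 := rfl
theorem F1933 : act 0 n351 = n351 := d7_1 D351 (iv D351) F1357
theorem F1934 : act 1 n351 = n351 := d15_1 D351 (iv D351) F1358
theorem F1935 : act 2 n351 = n250 := d22_1 D351 (iv D250) (iv F1359)
theorem F1936 : act 5 n351 = n351 := d37_1 D351 (iv D351) F1361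
theorem F1937 : act 6 n351 = n241 := d40_1 D351 (iv D241) D240
def n352 : Q := act 9 n240
theorem D352 : act 9 n240 = n352 := rfl
theorem F1938 : act 0 n352 = n352 := d8_1 D352 (iv D352) F1357
theorem F1939 : act 1 n352 = n352 := d16_1 D352 (iv D352) F1358
theorem F1940 : act 2 n352 = n251 := d23_1 D352 (iv D251) (iv F1359)
theorem F1941 : act 3 n352 = n352 := d29_1 D352 (iv D352) F1360
theorem F1942 : act 5 n352 = n352 := d38_1 D352 (iv D352) F1361
theorem F1943 : act 6 n352 = n242 := d41_1 D352 (iv D242) D240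
def n353 : Q := act 3 n241
theorem D353 : act 3 n241 = n353 := rfl
theorem F1944 : act 0 n353 = n353 := d2_1 D353 (iv D353) F1362
theorem F1945 : act 1 n353 = n353 := d10_1 D353 (iv D353) F1363
theorem F1946 : act 2 n353 = n353 := d17_1 D353 (iv D353) F1364 F988 (iv F1364)
theorem F1947 : act 4 n353 = n353 := d24_2 F1918 D353 (iv D353) (iv F1918) F1917
theorem F1948 : act 5 n353 = n243 := d25_2 (iv F1365) D353 (iv D243)
theorem F1949 : act 7 n353 = n353 := d27_2 F1366 D353 (iv D353)
theorem F1950 : act 8 n353 = n353 := d28_2 D241 D353 (iv D353) (iv D241) F962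
def n354 : Q := act 9 n241
theorem D354 : act 9 n241 = n354 := rfl
theorem F1951 : act 0 n354 = n354 := d8_1 D354 (iv D354) F1362
theorem F1952 : act 1 n354 = n354 := d16_1 D354 (iv D354) F1363
theorem F1953 : act 2 n354 = n252 := d23_1 D354 (iv D252) (iv F1364)
theorem F1954 : act 5 n354 = n244 := d38_1 D354 (iv D244) (iv F1365)
theorem F1955 : act 7 n354 = n354 := d43_1 D354 (iv D354) F1366
def n355 : Q := act 8 n242
theorem D355 : act 8 n242 = n355 := rfl
theorem F1956 : act 0 n355 = n355 := d7_1 D355 (iv D355) F1367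
theorem F1957 : act 1 n355 = n355 := d15_1 D355 (iv D355) F1368
theorem F1958 : act 2 n355 = n253 := d22_1 D355 (iv D253) (iv F1369)
theorem F1959 : act 5 n355 = n245 := d37_1 D355 (iv D245) (iv F1371)
theorem F1960 : act 7 n355 = n355 := d42_1 D355 (iv D355) F1372
def n356 : Q := act 4 n243
theorem D356 : act 4 n243 = n356 := rfl
theorem F1961 : act 0 n356 = n356 := d3_1 D356 (iv D356) F1373
theorem F1962 : act 1 n356 = n356 := d11_1 D356 (iv D356) F1374
theorem F1963 : act 2 n356 = n356 := d18_1 D356 (iv D356) F1375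
theorem F1964 : act 3 n356 = n356 := d24_1 D356 (iv D356) (iv D243) F967 D243
theorem F1965 : act 5 n356 = n356 := d30_2 F1948 D356 (iv D356) (iv F1948) F1947
theorem F1966 : act 6 n356 = n356 := d31_2 F1376 D356 (iv D356)
theorem F1967 : act 7 n356 = n356 := d32_2 F1377 D356 (iv D356)
theorem F1968 : act 8 n356 = n356 := d33_2 F1378 D356 (iv D356)
def n357 : Q := act 9 n243
theorem D357 : act 9 n243 = n357 := rfl
theorem F1969 : act 0 n357 = n357 := d8_1 D357 (iv D357) F1373
theorem F1970 : act 1 n357 = n357 := d16_1 D357 (iv D357) F1374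
theorem F1971 : act 2 n357 = n357 := d23_1 D357 (iv D357) F1375
theorem F1972 : act 3 n357 = n244 := d29_1 D357 (iv D244) D243
theorem F1973 : act 6 n357 = n357 := d41_1 D357 (iv D357) F1376
theorem F1974 : act 7 n357 = n357 := d43_1 D357 (iv D357) F1377
def n358 : Q := act 8 n244
theorem D358 : act 8 n244 = n358 := rfl
theorem F1975 : act 0 n358 = n358 := d7_1 D358 (iv D358) F1379
theorem F1976 : act 1 n358 = n358 := d15_1 D358 (iv D358) F1380
theorem F1977 : act 2 n358 = n254 := d22_1 D358 (iv D254) (iv F1381)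
theorem F1978 : act 4 n358 = n358 := d33_1 D358 (iv D358) F1382
theorem F1979 : act 6 n358 = n358 := d40_1 D358 (iv D358) F1383
theorem F1980 : act 7 n358 = n358 := d42_1 D358 (iv D358) F1384
theorem F1981 : act 9 n358 = n245 := d44_2 D244 D358 (iv D245) (iv D167) D166
def n359 : Q := act 3 n245
theorem D359 : act 3 n245 = n359 := rfl
theorem F1982 : act 0 n359 = n359 := d2_1 D359 (iv D359) F1385
theorem F1983 : act 1 n359 = n359 := d10_1 D359 (iv D359) F1386
theorem F1984 : act 6 n359 = n359 := d26_2 F1389 D359 (iv D359)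
theorem F1985 : act 7 n359 = n359 := d27_2 F1390 D359 (iv D359)
theorem F1986 : act 8 n359 = n359 := d28_2 D245 D359 (iv D359) (iv D245) F973
def n360 : Q := act 5 n246
theorem D360 : act 5 n246 = n360 := rfl
theorem F1987 : act 0 n360 = n360 := d4_1 D360 (iv D360) F1391
theorem F1988 : act 1 n360 = n263 := d12_1 D360 (iv D263) (iv F1392)
theorem F1989 : act 3 n360 = n360 := d25_1 D360 (iv D360) F1393
theorem F1990 : act 4 n360 = n360 := d30_1 D360 (iv D360) F1394 F985 (iv F1394)
theorem F1991 : act 6 n360 = n360 := d35_2 D246 D360 (iv D360) (iv D246) F980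
def n361 : Q := act 7 n246
theorem D361 : act 7 n246 = n361 := rfl
theorem F1992 : act 0 n361 = n361 := d6_1 D361 (iv D361) F1391
theorem F1993 : act 1 n361 = n264 := d14_1 D361 (iv D264) (iv F1392)
theorem F1994 : act 3 n361 = n361 := d27_1 D361 (iv D361) F1393
theorem F1995 : act 4 n361 = n249 := d32_1 D361 (iv D249) (iv F1394)
theorem F1996 : act 6 n361 = n361 := d39_1 D361 (iv D361) (iv D246) F981 D246
def n362 : Q := act 8 n246
theorem D362 : act 8 n246 = n362 := rfl
theorem F1997 : act 0 n362 = n362 := d7_1 D362 (iv D362) F1391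
theorem F1998 : act 1 n362 = n265 := d15_1 D362 (iv D265) (iv F1392)
theorem F1999 : act 4 n362 = n250 := d33_1 D362 (iv D250) (iv F1394)
theorem F2000 : act 6 n362 = n247 := d40_1 D362 (iv D247) D246
def n363 : Q := act 9 n246
theorem D363 : act 9 n246 = n363 := rfl
theorem F2001 : act 0 n363 = n363 := d8_1 D363 (iv D363) F1391
theorem F2002 : act 1 n363 = n266 := d16_1 D363 (iv D266) (iv F1392)
theorem F2003 : act 3 n363 = n363 := d29_1 D363 (iv D363) F1393
theorem F2004 : act 4 n363 = n251 := d34_1 D363 (iv D251) (iv F1394)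
theorem F2005 : act 6 n363 = n248 := d41_1 D363 (iv D248) D246
def n364 : Q := act 3 n247
theorem D364 : act 3 n247 = n364 := rfl
theorem F2006 : act 0 n364 = n364 := d2_1 D364 (iv D364) F1395
theorem F2007 : act 1 n364 = n267 := d10_1 D364 (iv D267) (iv F1396)
theorem F2008 : act 2 n364 = n364 := d17_1 D364 (iv D364) (iv F1916) F1917 F1916
theorem F2009 : act 4 n364 = n364 := d24_2 (iv F1397) D364 (iv D364) F1397 F988
theorem F2010 : act 5 n364 = n364 := d25_2 F1398 D364 (iv D364)
theorem F2011 : act 7 n364 = n364 := d27_2 F1399 D364 (iv D364)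
theorem F2012 : act 8 n364 = n364 := d28_2 D247 D364 (iv D364) (iv D247) F979
def n365 : Q := act 9 n247
theorem D365 : act 9 n247 = n365 := rfl
theorem F2013 : act 0 n365 = n365 := d8_1 D365 (iv D365) F1395
theorem F2014 : act 1 n365 = n268 := d16_1 D365 (iv D268) (iv F1396)
theorem F2015 : act 4 n365 = n252 := d34_1 D365 (iv D252) (iv F1397)
theorem F2016 : act 5 n365 = n365 := d38_1 D365 (iv D365) F1398
theorem F2017 : act 7 n365 = n365 := d43_1 D365 (iv D365) F1399
def n366 : Q := act 8 n248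
theorem D366 : act 8 n248 = n366 := rfl
theorem F2018 : act 0 n366 = n366 := d7_1 D366 (iv D366) F1400
theorem F2019 : act 1 n366 = n269 := d15_1 D366 (iv D269) (iv F1401)
theorem F2020 : act 4 n366 = n253 := d33_1 D366 (iv D253) (iv F1403)
theorem F2021 : act 5 n366 = n366 := d37_1 D366 (iv D366) F1404
theorem F2022 : act 7 n366 = n366 := d42_1 D366 (iv D366) F1405
def n367 : Q := act 8 n249
theorem D367 : act 8 n249 = n367 := rfl
theorem F2023 : act 0 n367 = n367 := d7_1 D367 (iv D367) F1406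
theorem F2024 : act 1 n367 = n270 := d15_1 D367 (iv D270) (iv F1407)
theorem F2025 : act 3 n367 = n367 := d28_1 D367 (iv D367) F1408 F1013 (iv F1408)
theorem F2026 : act 5 n367 = n367 := d37_1 D367 (iv D367) F1409
theorem F2027 : act 6 n367 = n367 := d40_1 D367 (iv D367) F1410
theorem F2028 : act 7 n367 = n250 := d42_1 D367 (iv D250) D249
def n368 : Q := act 9 n249
theorem D368 : act 9 n249 = n368 := rfl
theorem F2029 : act 0 n368 = n368 := d8_1 D368 (iv D368) F1406
theorem F2030 : act 1 n368 = n271 := d16_1 D368 (iv D271) (iv F1407)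
theorem F2031 : act 3 n368 = n256 := d29_1 D368 (iv D256) (iv F1408)
theorem F2032 : act 5 n368 = n368 := d38_1 D368 (iv D368) F1409
theorem F2033 : act 6 n368 = n368 := d41_1 D368 (iv D368) F1410
theorem F2034 : act 7 n368 = n251 := d43_1 D368 (iv D251) D249
def n369 : Q := act 9 n250
theorem D369 : act 9 n250 = n369 := rfl
theorem F2035 : act 0 n369 = n369 := d8_1 D369 (iv D369) F1411
theorem F2036 : act 1 n369 = n272 := d16_1 D369 (iv D272) (iv F1412)
theorem F2037 : act 3 n369 = n369 := d29_1 D369 (iv D369) F1413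
theorem F2038 : act 5 n369 = n369 := d38_1 D369 (iv D369) F1414
theorem F2039 : act 6 n369 = n252 := d41_1 D369 (iv D252) (iv F1415)
def n370 : Q := act 8 n251
theorem D370 : act 8 n251 = n370 := rfl
theorem F2040 : act 0 n370 = n370 := d7_1 D370 (iv D370) F1416
theorem F2041 : act 1 n370 = n273 := d15_1 D370 (iv D273) (iv F1417)
theorem F2042 : act 5 n370 = n370 := d37_1 D370 (iv D370) F1419
theorem F2043 : act 6 n370 = n253 := d40_1 D370 (iv D253) (iv F1420)
def n371 : Q := act 8 n252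
theorem D371 : act 8 n252 = n371 := rfl
theorem F2044 : act 0 n371 = n371 := d7_1 D371 (iv D371) F1421
theorem F2045 : act 1 n371 = n274 := d15_1 D371 (iv D274) (iv F1422)
theorem F2046 : act 5 n371 = n254 := d37_1 D371 (iv D254) (iv F1424)
theorem F2047 : act 7 n371 = n371 := d42_1 D371 (iv D371) F1425
theorem F2048 : act 9 n371 = n253 := d44_2 D252 D371 (iv D253) (iv D171) D170
def n372 : Q := act 3 n253
theorem D372 : act 3 n253 = n372 := rfl
theorem F2049 : act 0 n372 = n372 := d2_1 D372 (iv D372) F1426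
theorem F2050 : act 1 n372 = n275 := d10_1 D372 (iv D275) (iv F1427)
theorem F2051 : act 5 n372 = n255 := d25_2 (iv F1428) D372 (iv D255)
theorem F2052 : act 7 n372 = n372 := d27_2 F1429 D372 (iv D372)
theorem F2053 : act 8 n372 = n258 := d28_2 D253 D372 (iv D258) (iv D176) (iv F993)
def n373 : Q := act 3 n254
theorem D373 : act 3 n254 = n373 := rfl
theorem F2054 : act 0 n373 = n373 := d2_1 D373 (iv D373) F1430
theorem F2055 : act 1 n373 = n276 := d10_1 D373 (iv D276) (iv F1431)
theorem F2056 : act 6 n373 = n373 := d26_2 F1433 D373 (iv D373)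
theorem F2057 : act 7 n373 = n373 := d27_2 F1434 D373 (iv D373)
theorem F2058 : act 8 n373 = n373 := d28_2 D254 D373 (iv D373) (iv D254) F998
theorem F2059 : act 9 n373 = n255 := d29_2 (iv F1435) D373 (iv D255)
def n374 : Q := act 2 n255
theorem D374 : act 2 n255 = n374 := rfl
theorem F2060 : act 0 n374 = n374 := d1_1 D374 (iv D374) F1436
theorem F2061 : act 6 n374 = n374 := d20_2 F1438 D374 (iv D374)
theorem F2062 : act 7 n374 = n374 := d21_2 F1439 D374 (iv D374)
theorem F2063 : act 8 n374 = n259 := d22_2 (iv F1440) D374 (iv D259)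
def n375 : Q := act 4 n255
theorem D375 : act 4 n255 = n375 := rfl
theorem F2064 : act 0 n375 = n375 := d3_1 D375 (iv D375) F1436
theorem F2065 : act 1 n375 = n278 := d11_1 D375 (iv D278) (iv F1437)
theorem F2066 : act 3 n375 = n375 := d24_1 D375 (iv D375) (iv D255) F1004 D255
theorem F2067 : act 6 n375 = n375 := d31_2 F1438 D375 (iv D375)
theorem F2068 : act 7 n375 = n375 := d32_2 F1439 D375 (iv D375)
theorem F2069 : act 8 n375 = n260 := d33_2 (iv F1440) D375 (iv D260)
def n376 : Q := act 8 n256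
theorem D376 : act 8 n256 = n376 := rfl
theorem F2070 : act 0 n376 = n376 := d7_1 D376 (iv D376) F1441
theorem F2071 : act 1 n376 = n279 := d15_1 D376 (iv D279) (iv F1442)
theorem F2072 : act 2 n376 = n376 := d22_1 D376 (iv D376) F1443
theorem F2073 : act 4 n376 = n376 := d33_1 D376 (iv D376) F1444
theorem F2074 : act 5 n376 = n376 := d37_1 D376 (iv D376) F1445
theorem F2075 : act 6 n376 = n376 := d40_1 D376 (iv D376) F1446
theorem F2076 : act 7 n376 = n257 := d42_1 D376 (iv D257) (iv F1447)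
theorem F2077 : act 9 n376 = n376 := d44_2 D256 D376 (iv D376) (iv D256) F1013
def n377 : Q := act 3 n257
theorem D377 : act 3 n257 = n377 := rfl
theorem F2078 : act 0 n377 = n377 := d2_1 D377 (iv D377) F1448
theorem F2079 : act 1 n377 = n280 := d10_1 D377 (iv D280) (iv F1449)
theorem F2080 : act 5 n377 = n377 := d25_2 F1452 D377 (iv D377)
theorem F2081 : act 6 n377 = n258 := d26_2 (iv F1453) D377 (iv D258)
theorem F2082 : act 9 n377 = n377 := d29_2 F1454 D377 (iv D377)
def n378 : Q := act 2 n258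
theorem D378 : act 2 n258 = n378 := rfl
theorem F2083 : act 0 n378 = n378 := d1_1 D378 (iv D378) F1455
theorem F2084 : act 3 n378 = n378 := d17_2 D258 D378 (iv D378) (iv D258) F1022
theorem F2085 : act 5 n378 = n259 := d19_2 (iv F1457) D378 (iv D259)
theorem F2086 : act 7 n378 = n378 := d21_2 F1458 D378 (iv D378)
theorem F2087 : act 9 n378 = n378 := d23_2 F1459 D378 (iv D378)
def n379 : Q := act 4 n258
theorem D379 : act 4 n258 = n379 := rfl
theorem F2088 : act 0 n379 = n379 := d3_1 D379 (iv D379) F1455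
theorem F2089 : act 1 n379 = n282 := d11_1 D379 (iv D282) (iv F1456)
theorem F2090 : act 3 n379 = n379 := d24_1 D379 (iv D379) (iv D258) F1023 D258
theorem F2091 : act 7 n379 = n379 := d32_2 F1458 D379 (iv D379)
theorem F2092 : act 9 n379 = n379 := d34_2 F1459 D379 (iv D379)
def n380 : Q := act 1 n259
theorem D380 : act 1 n259 = n380 := rfl
theorem F2093 : act 2 n380 = n283 := d9_2 D259 D380 (iv D283) (iv D193) (iv F1028)
theorem F2094 : act 3 n380 = n380 := d10_2 F1461 D380 (iv D380)
theorem F2095 : act 6 n380 = n380 := d13_2 F1462 D380 (iv D380)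
theorem F2096 : act 7 n380 = n380 := d14_2 F1463 D380 (iv D380)
theorem F2097 : act 9 n380 = n380 := d16_2 F1464 D380 (iv D380)
def n381 : Q := act 4 n259
theorem D381 : act 4 n259 = n381 := rfl
theorem F2098 : act 0 n381 = n381 := d3_1 D381 (iv D381) F1460
theorem F2099 : act 2 n381 = n260 := d18_1 D381 (iv D260) D259
theorem F2100 : act 6 n381 = n381 := d31_2 F1462 D381 (iv D381)
theorem F2101 : act 7 n381 = n381 := d32_2 F1463 D381 (iv D381)
theorem F2102 : act 9 n381 = n381 := d34_2 F1464 D381 (iv D381)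
def n382 : Q := act 5 n260
theorem D382 : act 5 n260 = n382 := rfl
theorem F2103 : act 0 n382 = n382 := d4_1 D382 (iv D382) F1465
theorem F2104 : act 1 n382 = n285 := d12_1 D382 (iv D285) (iv F1466)
theorem F2105 : act 3 n382 = n262 := d25_1 D382 (iv D262) (iv F1467)
theorem F2106 : act 7 n382 = n382 := d36_2 F1469 D382 (iv D382)
theorem F2107 : act 9 n382 = n382 := d38_2 F1470 D382 (iv D382)
def n383 : Q := act 3 n261
theorem D383 : act 3 n261 = n383 := rfl
theorem F2108 : act 0 n383 = n383 := d2_1 D383 (iv D383) F1471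
theorem F2109 : act 1 n383 = n383 := d10_1 D383 (iv D383) F1472
theorem F2110 : act 4 n383 = n383 := d24_2 D261 D383 (iv D383) (iv D261) F1034
theorem F2111 : act 6 n383 = n383 := d26_2 F1474 D383 (iv D383)
theorem F2112 : act 7 n383 = n383 := d27_2 F1475 D383 (iv D383)
theorem F2113 : act 9 n383 = n383 := d29_2 F1477 D383 (iv D383)
def n384 : Q := act 5 n261
theorem D384 : act 5 n261 = n384 := rfl
theorem F2114 : act 0 n384 = n384 := d4_1 D384 (iv D384) F1471
theorem F2115 : act 1 n384 = n384 := d12_1 D384 (iv D384) F1472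
theorem F2116 : act 2 n384 = n262 := d19_1 D384 (iv D262) (iv F1473)
theorem F2117 : act 4 n384 = n384 := d30_1 D384 (iv D384) (iv D261) F1035 D261
theorem F2118 : act 7 n384 = n384 := d36_2 F1475 D384 (iv D384)
theorem F2119 : act 8 n384 = n384 := d37_2 F1476 D384 (iv D384)
theorem F2120 : act 9 n384 = n384 := d38_2 F1477 D384 (iv D384)
def n385 : Q := act 6 n262
theorem D385 : act 6 n262 = n385 := rfl
theorem F2121 : act 0 n385 = n385 := d5_1 D385 (iv D385) F1478
theorem F2122 : act 1 n385 = n286 := d13_1 D385 (iv D286) (iv F1479)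
theorem F2123 : act 4 n385 = n385 := d31_1 D385 (iv D385) F1480
theorem F2124 : act 5 n385 = n385 := d35_1 D385 (iv D385) (iv D262) F1042 D262
theorem F2125 : act 8 n385 = n385 := d40_2 F1482 D385 (iv D385)
theorem F2126 : act 9 n385 = n385 := d41_2 F1483 D385 (iv D385)
def n386 : Q := act 7 n263
theorem D386 : act 7 n263 = n386 := rfl
theorem F2127 : act 0 n386 = n293 := d6_1 D386 (iv D293) (iv F1484)
theorem F2128 : act 2 n386 = n386 := d21_1 D386 (iv D386) F1485
theorem F2129 : act 3 n386 = n386 := d27_1 D386 (iv D386) F1486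
theorem F2130 : act 4 n386 = n386 := d32_1 D386 (iv D386) F1487
theorem F2131 : act 5 n386 = n264 := d36_1 D386 (iv D264) D263
def n387 : Q := act 8 n263
theorem D387 : act 8 n263 = n387 := rfl
theorem F2132 : act 0 n387 = n294 := d7_1 D387 (iv D294) (iv F1484)
theorem F2133 : act 2 n387 = n387 := d22_1 D387 (iv D387) F1485
theorem F2134 : act 4 n387 = n387 := d33_1 D387 (iv D387) F1487
theorem F2135 : act 5 n387 = n265 := d37_1 D387 (iv D265) D263
theorem F2136 : act 6 n387 = n387 := d40_1 D387 (iv D387) F1488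
def n388 : Q := act 9 n263
theorem D388 : act 9 n263 = n388 := rfl
theorem F2137 : act 0 n388 = n295 := d8_1 D388 (iv D295) (iv F1484)
theorem F2138 : act 2 n388 = n388 := d23_1 D388 (iv D388) F1485
theorem F2139 : act 3 n388 = n388 := d29_1 D388 (iv D388) F1486
theorem F2140 : act 4 n388 = n388 := d34_1 D388 (iv D388) F1487
theorem F2141 : act 5 n388 = n266 := d38_1 D388 (iv D266) D263
theorem F2142 : act 6 n388 = n388 := d41_1 D388 (iv D388) F1488
def n389 : Q := act 8 n264
theorem D389 : act 8 n264 = n389 := rfl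
theorem F2143 : act 0 n389 = n296 := d7_1 D389 (iv D296) (iv F1489)
theorem F2144 : act 2 n389 = n389 := d22_1 D389 (iv D389) F1490
theorem F2145 : act 4 n389 = n270 := d33_1 D389 (iv D270) (iv F1492)
theorem F2146 : act 6 n389 = n389 := d40_1 D389 (iv D389) F1493
theorem F2147 : act 7 n389 = n265 := d42_1 D389 (iv D265) D264
def n390 : Q := act 9 n264
theorem D390 : act 9 n264 = n390 := rfl
theorem F2148 : act 0 n390 = n297 := d8_1 D390 (iv D297) (iv F1489)
theorem F2149 : act 2 n390 = n390 := d23_1 D390 (iv D390) F1490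
theorem F2150 : act 3 n390 = n390 := d29_1 D390 (iv D390) F1491
theorem F2151 : act 4 n390 = n271 := d34_1 D390 (iv D271) (iv F1492)
theorem F2152 : act 6 n390 = n390 := d41_1 D390 (iv D390) F1493
theorem F2153 : act 7 n390 = n266 := d43_1 D390 (iv D266) D264
def n391 : Q := act 3 n265
theorem D391 : act 3 n265 = n391 := rfl
theorem F2154 : act 0 n391 = n298 := d2_1 D391 (iv D298) (iv F1494)
theorem F2155 : act 4 n391 = n391 := d24_2 (iv F1496) D391 (iv D391) F1496 F1068
theorem F2156 : act 6 n391 = n267 := d26_2 (iv F1497) D391 (iv D267)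
theorem F2157 : act 8 n391 = n391 := d28_2 D265 D391 (iv D391) (iv D265) F1048
def n392 : Q := act 9 n265
theorem D392 : act 9 n265 = n392 := rfl
theorem F2158 : act 0 n392 = n299 := d8_1 D392 (iv D299) (iv F1494)
theorem F2159 : act 2 n392 = n392 := d23_1 D392 (iv D392) F1495
theorem F2160 : act 4 n392 = n272 := d34_1 D392 (iv D272) (iv F1496)
theorem F2161 : act 6 n392 = n268 := d41_1 D392 (iv D268) (iv F1497)
def n393 : Q := act 8 n266
theorem D393 : act 8 n266 = n393 := rfl
theorem F2162 : act 0 n393 = n300 := d7_1 D393 (iv D300) (iv F1498)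
theorem F2163 : act 2 n393 = n393 := d22_1 D393 (iv D393) F1499
theorem F2164 : act 4 n393 = n273 := d33_1 D393 (iv D273) (iv F1501)
theorem F2165 : act 6 n393 = n269 := d40_1 D393 (iv D269) (iv F1502)
def n394 : Q := act 2 n267
theorem D394 : act 2 n267 = n394 := rfl
theorem F2166 : act 0 n394 = n301 := d1_1 D394 (iv D301) (iv F1503)
theorem F2167 : act 1 n394 = n394 := d9_1 D394 (iv D394) (iv F2007) F2008 F2007
theorem F2168 : act 3 n394 = n394 := d17_2 D267 D394 (iv D394) (iv D267) F1051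
theorem F2169 : act 4 n394 = n394 := d18_2 F1504 D394 (iv D394)
theorem F2170 : act 5 n394 = n394 := d19_2 F1505 D394 (iv D394)
theorem F2171 : act 7 n394 = n394 := d21_2 F1506 D394 (iv D394)
theorem F2172 : act 8 n394 = n394 := d22_2 F1507 D394 (iv D394)
def n395 : Q := act 9 n267
theorem D395 : act 9 n267 = n395 := rfl
theorem F2173 : act 0 n395 = n302 := d8_1 D395 (iv D302) (iv F1503)
theorem F2174 : act 3 n395 = n268 := d29_1 D395 (iv D268) D267
theorem F2175 : act 4 n395 = n395 := d34_1 D395 (iv D395) F1504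
theorem F2176 : act 5 n395 = n395 := d38_1 D395 (iv D395) F1505
theorem F2177 : act 7 n395 = n395 := d43_1 D395 (iv D395) F1506
def n396 : Q := act 8 n268
theorem D396 : act 8 n268 = n396 := rfl
theorem F2178 : act 0 n396 = n303 := d7_1 D396 (iv D303) (iv F1508)
theorem F2179 : act 2 n396 = n396 := d22_1 D396 (iv D396) F1509
theorem F2180 : act 4 n396 = n274 := d33_1 D396 (iv D274) (iv F1510)
theorem F2181 : act 5 n396 = n396 := d37_1 D396 (iv D396) F1511
theorem F2182 : act 7 n396 = n396 := d42_1 D396 (iv D396) F1512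
theorem F2183 : act 9 n396 = n269 := d44_2 D268 D396 (iv D269) (iv D182) D181
def n397 : Q := act 3 n269
theorem D397 : act 3 n269 = n397 := rfl
theorem F2184 : act 0 n397 = n304 := d2_1 D397 (iv D304) (iv F1513)
theorem F2185 : act 5 n397 = n397 := d25_2 F1516 D397 (iv D397)
theorem F2186 : act 7 n397 = n397 := d27_2 F1517 D397 (iv D397)
theorem F2187 : act 8 n397 = n397 := d28_2 D269 D397 (iv D397) (iv D269) F1057
def n398 : Q := act 9 n270
theorem D398 : act 9 n270 = n398 := rfl
theorem F2188 : act 0 n398 = n305 := d8_1 D398 (iv D305) (iv F1518)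
theorem F2189 : act 2 n398 = n398 := d23_1 D398 (iv D398) F1519
theorem F2190 : act 3 n398 = n398 := d29_1 D398 (iv D398) F1520
theorem F2191 : act 5 n398 = n398 := d38_1 D398 (iv D398) F1521
theorem F2192 : act 6 n398 = n398 := d41_1 D398 (iv D398) F1522
theorem F2193 : act 7 n398 = n272 := d43_1 D398 (iv D272) (iv F1523)
def n399 : Q := act 8 n271
theorem D399 : act 8 n271 = n399 := rfl
theorem F2194 : act 0 n399 = n306 := d7_1 D399 (iv D306) (iv F1524)
theorem F2195 : act 2 n399 = n399 := d22_1 D399 (iv D399) F1525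
theorem F2196 : act 5 n399 = n399 := d37_1 D399 (iv D399) F1527
theorem F2197 : act 6 n399 = n399 := d40_1 D399 (iv D399) F1528
theorem F2198 : act 7 n399 = n273 := d42_1 D399 (iv D273) (iv F1529)
def n400 : Q := act 8 n272
theorem D400 : act 8 n272 = n400 := rfl
theorem F2199 : act 0 n400 = n307 := d7_1 D400 (iv D307) (iv F1530)
theorem F2200 : act 2 n400 = n400 := d22_1 D400 (iv D400) F1531
theorem F2201 : act 5 n400 = n400 := d37_1 D400 (iv D400) F1533
theorem F2202 : act 6 n400 = n274 := d40_1 D400 (iv D274) (iv F1534)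
theorem F2203 : act 9 n400 = n273 := d44_2 D272 D400 (iv D273) (iv D185) D184
def n401 : Q := act 3 n273
theorem D401 : act 3 n273 = n401 := rfl
theorem F2204 : act 0 n401 = n308 := d2_1 D401 (iv D308) (iv F1535)
theorem F2205 : act 5 n401 = n401 := d25_2 F1537 D401 (iv D401)
theorem F2206 : act 6 n401 = n275 := d26_2 (iv F1538) D401 (iv D275)
theorem F2207 : act 8 n401 = n280 := d28_2 D273 D401 (iv D280) (iv D191) (iv F1073)
def n402 : Q := act 3 n274
theorem D402 : act 3 n274 = n402 := rfl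
theorem F2208 : act 0 n402 = n309 := d2_1 D402 (iv D309) (iv F1539)
theorem F2209 : act 5 n402 = n276 := d25_2 (iv F1541) D402 (iv D276)
theorem F2210 : act 7 n402 = n402 := d27_2 F1542 D402 (iv D402)
theorem F2211 : act 8 n402 = n402 := d28_2 D274 D402 (iv D402) (iv D274) F1078
theorem F2212 : act 9 n402 = n275 := d29_2 (iv F1543) D402 (iv D275)
def n403 : Q := act 2 n275
theorem D403 : act 2 n275 = n403 := rfl
theorem F2213 : act 0 n403 = n310 := d1_1 D403 (iv D310) (iv F1544)
theorem F2214 : act 3 n403 = n403 := d17_2 D275 D403 (iv D403) (iv D275) F1082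
theorem F2215 : act 5 n403 = n277 := d19_2 (iv F1545) D403 (iv D277)
theorem F2216 : act 7 n403 = n403 := d21_2 F1546 D403 (iv D403)
theorem F2217 : act 8 n403 = n281 := d22_2 (iv F1547) D403 (iv D281)
def n404 : Q := act 4 n275
theorem D404 : act 4 n275 = n404 := rfl
theorem F2218 : act 0 n404 = n311 := d3_1 D404 (iv D311) (iv F1544)
theorem F2219 : act 7 n404 = n404 := d32_2 F1546 D404 (iv D404)
theorem F2220 : act 8 n404 = n282 := d33_2 (iv F1547) D404 (iv D282)
def n405 : Q := act 2 n276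
theorem D405 : act 2 n276 = n405 := rfl
theorem F2221 : act 0 n405 = n312 := d1_1 D405 (iv D312) (iv F1548)
theorem F2222 : act 3 n405 = n405 := d17_2 D276 D405 (iv D405) (iv D276) F1086
theorem F2223 : act 6 n405 = n405 := d20_2 F1549 D405 (iv D405)
theorem F2224 : act 7 n405 = n405 := d21_2 F1550 D405 (iv D405)
theorem F2225 : act 8 n405 = n405 := d22_2 F1551 D405 (iv D405)
theorem F2226 : act 9 n405 = n277 := d23_2 (iv F1552) D405 (iv D277)
def n406 : Q := act 4 n276
theorem D406 : act 4 n276 = n406 := rfl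
theorem F2227 : act 0 n406 = n313 := d3_1 D406 (iv D313) (iv F1548)
theorem F2228 : act 3 n406 = n406 := d24_1 D406 (iv D406) (iv D276) F1087 D276
theorem F2229 : act 6 n406 = n406 := d31_2 F1549 D406 (iv D406)
theorem F2230 : act 7 n406 = n406 := d32_2 F1550 D406 (iv D406)
theorem F2231 : act 8 n406 = n406 := d33_2 F1551 D406 (iv D406)
theorem F2232 : act 9 n406 = n278 := d34_2 (iv F1552) D406 (iv D278)
def n407 : Q := act 1 n277
theorem D407 : act 1 n277 = n407 := rfl
theorem F2233 : act 3 n407 = n407 := d10_2 F1554 D407 (iv D407)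
theorem F2234 : act 6 n407 = n407 := d13_2 F1555 D407 (iv D407)
theorem F2235 : act 7 n407 = n407 := d14_2 F1556 D407 (iv D407)
theorem F2236 : act 8 n407 = n283 := d15_2 (iv F1557) D407 (iv D283)
def n408 : Q := act 4 n277
theorem D408 : act 4 n277 = n408 := rfl
theorem F2237 : act 0 n408 = n315 := d3_1 D408 (iv D315) (iv F1553)
theorem F2238 : act 2 n408 = n278 := d18_1 D408 (iv D278) D277
theorem F2239 : act 6 n408 = n408 := d31_2 F1555 D408 (iv D408)
theorem F2240 : act 7 n408 = n408 := d32_2 F1556 D408 (iv D408)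
theorem F2241 : act 8 n408 = n284 := d33_2 (iv F1557) D408 (iv D284)
def n409 : Q := act 5 n278
theorem D409 : act 5 n278 = n409 := rfl
theorem F2242 : act 0 n409 = n316 := d4_1 D409 (iv D316) (iv F1558)
theorem F2243 : act 3 n409 = n409 := d25_1 D409 (iv D409) F1559
theorem F2244 : act 7 n409 = n409 := d36_2 F1561 D409 (iv D409)
theorem F2245 : act 8 n409 = n285 := d37_2 (iv F1562) D409 (iv D285)
def n410 : Q := act 3 n279
theorem D410 : act 3 n279 = n410 := rfl
theorem F2246 : act 0 n410 = n317 := d2_1 D410 (iv D317) (iv F1563)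
theorem F2247 : act 5 n410 = n410 := d25_2 F1566 D410 (iv D410)
theorem F2248 : act 6 n410 = n410 := d26_2 F1567 D410 (iv D410)
theorem F2249 : act 7 n410 = n280 := d27_2 (iv F1568) D410 (iv D280)
theorem F2250 : act 9 n410 = n410 := d29_2 F1569 D410 (iv D410)
def n411 : Q := act 2 n280
theorem D411 : act 2 n280 = n411 := rfl
theorem F2251 : act 0 n411 = n318 := d1_1 D411 (iv D318) (iv F1570)
theorem F2252 : act 3 n411 = n288 := d17_2 D280 D411 (iv D288) (iv D197) (iv F1102)
theorem F2253 : act 5 n411 = n411 := d19_2 F1571 D411 (iv D411)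
theorem F2254 : act 6 n411 = n281 := d20_2 (iv F1572) D411 (iv D281)
theorem F2255 : act 9 n411 = n411 := d23_2 F1573 D411 (iv D411)
def n412 : Q := act 4 n280
theorem D412 : act 4 n280 = n412 := rfl
theorem F2256 : act 0 n412 = n319 := d3_1 D412 (iv D319) (iv F1570)
theorem F2257 : act 3 n412 = n412 := d24_1 D412 (iv D412) (iv D280) F1103 D280
theorem F2258 : act 6 n412 = n282 := d31_2 (iv F1572) D412 (iv D282)
theorem F2259 : act 9 n412 = n412 := d34_2 F1573 D412 (iv D412)
def n413 : Q := act 1 n281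
theorem D413 : act 1 n281 = n413 := rfl
theorem F2260 : act 3 n413 = n290 := d10_2 (iv F1575) D413 (iv D290)
theorem F2261 : act 5 n413 = n283 := d12_2 (iv F1576) D413 (iv D283)
theorem F2262 : act 7 n413 = n413 := d14_2 F1577 D413 (iv D413)
theorem F2263 : act 9 n413 = n413 := d16_2 F1578 D413 (iv D413)
def n414 : Q := act 4 n281
theorem D414 : act 4 n281 = n414 := rfl
theorem F2264 : act 0 n414 = n321 := d3_1 D414 (iv D321) (iv F1574)
theorem F2265 : act 2 n414 = n282 := d18_1 D414 (iv D282) D281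
theorem F2266 : act 7 n414 = n414 := d32_2 F1577 D414 (iv D414)
theorem F2267 : act 9 n414 = n414 := d34_2 F1578 D414 (iv D414)
def n415 : Q := act 5 n282
theorem D415 : act 5 n282 = n415 := rfl
theorem F2268 : act 0 n415 = n322 := d4_1 D415 (iv D322) (iv F1579)
theorem F2269 : act 3 n415 = n415 := d25_1 D415 (iv D415) F1580
theorem F2270 : act 4 n415 = n285 := d30_1 D415 (iv D285) (iv D194) (iv F1108) D282
theorem F2271 : act 7 n415 = n415 := d36_2 F1581 D415 (iv D415)
theorem F2272 : act 9 n415 = n415 := d38_2 F1582 D415 (iv D415)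
def n416 : Q := act 0 n283
theorem D416 : act 0 n283 = n416 := rfl
theorem F2273 : act 1 n416 = n323 := d0_2 D283 D416 (iv D323) (iv D221) (iv F1111)
theorem F2274 : act 3 n416 = n292 := d2_2 (iv F1583) D416 (iv D292)
theorem F2275 : act 6 n416 = n416 := d5_2 F1584 D416 (iv D416)
theorem F2276 : act 7 n416 = n416 := d6_2 F1585 D416 (iv D416)
theorem F2277 : act 9 n416 = n416 := d8_2 F1586 D416 (iv D416)
def n417 : Q := act 4 n283
theorem D417 : act 4 n283 = n417 := rfl
theorem F2278 : act 1 n417 = n284 := d11_1 D417 (iv D284) D283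
theorem F2279 : act 3 n417 = n417 := d24_1 D417 (iv D417) F1583 F1153 (iv F1583)
theorem F2280 : act 6 n417 = n417 := d31_2 F1584 D417 (iv D417)
theorem F2281 : act 7 n417 = n417 := d32_2 F1585 D417 (iv D417)
theorem F2282 : act 9 n417 = n417 := d34_2 F1586 D417 (iv D417)
def n418 : Q := act 5 n284
theorem D418 : act 5 n284 = n418 := rfl
theorem F2283 : act 0 n418 = n325 := d4_1 D418 (iv D325) (iv F1587)
theorem F2284 : act 2 n418 = n285 := d19_1 D418 (iv D285) (iv F1588)
theorem F2285 : act 3 n418 = n418 := d25_1 D418 (iv D418) F1589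
theorem F2286 : act 7 n418 = n418 := d36_2 F1591 D418 (iv D418)
theorem F2287 : act 9 n418 = n418 := d38_2 F1592 D418 (iv D418)
def n419 : Q := act 6 n285
theorem D419 : act 6 n285 = n419 := rfl
theorem F2288 : act 0 n419 = n326 := d5_1 D419 (iv D326) (iv F1593)
theorem F2289 : act 3 n419 = n286 := d26_1 D419 (iv D286) (iv F1594)
theorem F2290 : act 5 n419 = n419 := d35_1 D419 (iv D419) (iv D285) F1118 D285
theorem F2291 : act 9 n419 = n419 := d41_2 F1596 D419 (iv D419)
def n420 : Q := act 7 n286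
theorem D420 : act 7 n286 = n420 := rfl
theorem F2292 : act 0 n420 = n327 := d6_1 D420 (iv D327) (iv F1597)
theorem F2293 : act 2 n420 = n420 := d21_1 D420 (iv D420) F1598
theorem F2294 : act 4 n420 = n420 := d32_1 D420 (iv D420) F1599
theorem F2295 : act 5 n420 = n420 := d36_1 D420 (iv D420) F1600
theorem F2296 : act 6 n420 = n420 := d39_1 D420 (iv D420) (iv D286) F1124 D286
theorem F2297 : act 8 n420 = n420 := d42_2 F1601 D420 (iv D420)
theorem F2298 : act 9 n420 = n420 := d43_2 F1602 D420 (iv D420)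
def n421 : Q := act 2 n287
theorem D421 : act 2 n287 = n421 := rfl
theorem F2299 : act 0 n421 = n328 := d1_1 D421 (iv D328) (iv F1603)
theorem F2300 : act 5 n421 = n421 := d19_2 F1605 D421 (iv D421)
theorem F2301 : act 6 n421 = n421 := d20_2 F1606 D421 (iv D421)
theorem F2302 : act 7 n421 = n288 := d21_2 (iv F1607) D421 (iv D288)
theorem F2303 : act 8 n421 = n421 := d22_2 F1608 D421 (iv D421)
theorem F2304 : act 9 n421 = n421 := d23_2 F1609 D421 (iv D421)
def n422 : Q := act 4 n287
theorem D422 : act 4 n287 = n422 := rfl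
theorem F2305 : act 0 n422 = n329 := d3_1 D422 (iv D329) (iv F1603)
theorem F2306 : act 1 n422 = n422 := d11_1 D422 (iv D422) F1604
theorem F2307 : act 3 n422 = n422 := d24_1 D422 (iv D422) (iv D287) F1129 D287
theorem F2308 : act 6 n422 = n422 := d31_2 F1606 D422 (iv D422)
theorem F2309 : act 7 n422 = n289 := d32_2 (iv F1607) D422 (iv D289)
theorem F2310 : act 8 n422 = n422 := d33_2 F1608 D422 (iv D422)
theorem F2311 : act 9 n422 = n422 := d34_2 F1609 D422 (iv D422)
def n423 : Q := act 1 n288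
theorem D423 : act 1 n288 = n423 := rfl
theorem F2312 : act 2 n423 = n423 := d9_2 D288 D423 (iv D423) (iv D288) F1135
theorem F2313 : act 5 n423 = n423 := d12_2 F1611 D423 (iv D423)
theorem F2314 : act 6 n423 = n290 := d13_2 (iv F1612) D423 (iv D290)
theorem F2315 : act 8 n423 = n423 := d15_2 F1613 D423 (iv D423)
theorem F2316 : act 9 n423 = n423 := d16_2 F1614 D423 (iv D423)
def n424 : Q := act 4 n288
theorem D424 : act 4 n288 = n424 := rfl
theorem F2317 : act 0 n424 = n331 := d3_1 D424 (iv D331) (iv F1610)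
theorem F2318 : act 2 n424 = n289 := d18_1 D424 (iv D289) D288
theorem F2319 : act 6 n424 = n291 := d31_2 (iv F1612) D424 (iv D291)
theorem F2320 : act 8 n424 = n424 := d33_2 F1613 D424 (iv D424)
theorem F2321 : act 9 n424 = n424 := d34_2 F1614 D424 (iv D424)
def n425 : Q := act 5 n289
theorem D425 : act 5 n289 = n425 := rfl
theorem F2322 : act 0 n425 = n332 := d4_1 D425 (iv D332) (iv F1615)
theorem F2323 : act 1 n425 = n425 := d12_1 D425 (iv D425) F1616
theorem F2324 : act 3 n425 = n425 := d25_1 D425 (iv D425) F1617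
theorem F2325 : act 4 n425 = n425 := d30_1 D425 (iv D425) (iv D289) F1136 D289
theorem F2326 : act 6 n425 = n425 := d35_2 (iv F1618) D425 (iv D425) F1618 F1148
theorem F2327 : act 8 n425 = n425 := d37_2 F1619 D425 (iv D425)
theorem F2328 : act 9 n425 = n425 := d38_2 F1620 D425 (iv D425)
def n426 : Q := act 0 n290
theorem D426 : act 0 n290 = n426 := rfl
theorem F2329 : act 1 n426 = n333 := d0_2 D290 D426 (iv D333) (iv D228) (iv F1140)
theorem F2330 : act 2 n426 = n426 := d1_2 F1621 D426 (iv D426)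
theorem F2331 : act 5 n426 = n292 := d4_2 (iv F1622) D426 (iv D292)
theorem F2332 : act 7 n426 = n426 := d6_2 F1623 D426 (iv D426)
theorem F2333 : act 8 n426 = n426 := d7_2 F1624 D426 (iv D426)
theorem F2334 : act 9 n426 = n426 := d8_2 F1625 D426 (iv D426)
def n427 : Q := act 4 n290
theorem D427 : act 4 n290 = n427 := rfl
theorem F2335 : act 1 n427 = n291 := d11_1 D427 (iv D291) D290
theorem F2336 : act 2 n427 = n427 := d18_1 D427 (iv D427) F1621
theorem F2337 : act 5 n427 = n427 := d30_2 (iv F1622) D427 (iv D427) F1622 F1153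
theorem F2338 : act 7 n427 = n427 := d32_2 F1623 D427 (iv D427)
theorem F2339 : act 8 n427 = n427 := d33_2 F1624 D427 (iv D427)
theorem F2340 : act 9 n427 = n427 := d34_2 F1625 D427 (iv D427)
def n428 : Q := act 3 n291
theorem D428 : act 3 n291 = n428 := rfl
theorem F2341 : act 0 n428 = n335 := d2_1 D428 (iv D335) (iv F1626)
theorem F2342 : act 2 n428 = n428 := d17_1 D428 (iv D428) F1627 F1147 (iv F1627)
theorem F2343 : act 5 n428 = n428 := d25_2 F1628 D428 (iv D428)
theorem F2344 : act 7 n428 = n428 := d27_2 F1629 D428 (iv D428)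
theorem F2345 : act 9 n428 = n428 := d29_2 F1631 D428 (iv D428)
def n429 : Q := act 6 n293
theorem D429 : act 6 n293 = n429 := rfl
theorem F2346 : act 1 n429 = n429 := d13_1 D429 (iv D429) F1639
theorem F2347 : act 2 n429 = n429 := d20_1 D429 (iv D429) F1640
theorem F2348 : act 3 n429 = n429 := d26_1 D429 (iv D429) F1641
theorem F2349 : act 4 n429 = n429 := d31_1 D429 (iv D429) F1642
theorem F2350 : act 5 n429 = n429 := d35_1 D429 (iv D429) F1643 F1167 (iv F1643)
theorem F2351 : act 7 n429 = n429 := d39_2 D293 D429 (iv D429) (iv D293) F1162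
def n430 : Q := act 8 n293
theorem D430 : act 8 n293 = n430 := rfl
theorem F2352 : act 1 n430 = n430 := d15_1 D430 (iv D430) F1639
theorem F2353 : act 2 n430 = n430 := d22_1 D430 (iv D430) F1640
theorem F2354 : act 4 n430 = n430 := d33_1 D430 (iv D430) F1642
theorem F2355 : act 5 n430 = n296 := d37_1 D430 (iv D296) (iv F1643)
theorem F2356 : act 7 n430 = n294 := d42_1 D430 (iv D294) D293
def n431 : Q := act 9 n293
theorem D431 : act 9 n293 = n431 := rfl
theorem F2357 : act 1 n431 = n431 := d16_1 D431 (iv D431) F1639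
theorem F2358 : act 2 n431 = n431 := d23_1 D431 (iv D431) F1640
theorem F2359 : act 3 n431 = n431 := d29_1 D431 (iv D431) F1641
theorem F2360 : act 4 n431 = n431 := d34_1 D431 (iv D431) F1642
theorem F2361 : act 5 n431 = n297 := d38_1 D431 (iv D297) (iv F1643)
theorem F2362 : act 7 n431 = n295 := d43_1 D431 (iv D295) D293
def n432 : Q := act 3 n294
theorem D432 : act 3 n294 = n432 := rfl
theorem F2363 : act 1 n432 = n432 := d10_1 D432 (iv D432) F1644
theorem F2364 : act 5 n432 = n298 := d25_2 (iv F1647) D432 (iv D298)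
theorem F2365 : act 6 n432 = n432 := d26_2 F1648 D432 (iv D432)
theorem F2366 : act 8 n432 = n432 := d28_2 D294 D432 (iv D432) (iv D294) F1160
def n433 : Q := act 9 n294
theorem D433 : act 9 n294 = n433 := rfl
theorem F2367 : act 1 n433 = n433 := d16_1 D433 (iv D433) F1644
theorem F2368 : act 2 n433 = n433 := d23_1 D433 (iv D433) F1645
theorem F2369 : act 4 n433 = n433 := d34_1 D433 (iv D433) F1646
theorem F2370 : act 5 n433 = n299 := d38_1 D433 (iv D299) (iv F1647)
theorem F2371 : act 6 n433 = n433 := d41_1 D433 (iv D433) F1648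
def n434 : Q := act 8 n295
theorem D434 : act 8 n295 = n434 := rfl
theorem F2372 : act 1 n434 = n434 := d15_1 D434 (iv D434) F1649
theorem F2373 : act 2 n434 = n434 := d22_1 D434 (iv D434) F1650
theorem F2374 : act 4 n434 = n434 := d33_1 D434 (iv D434) F1652
theorem F2375 : act 5 n434 = n300 := d37_1 D434 (iv D300) (iv F1653)
theorem F2376 : act 6 n434 = n434 := d40_1 D434 (iv D434) F1654
def n435 : Q := act 3 n296
theorem D435 : act 3 n296 = n435 := rfl
theorem F2377 : act 1 n435 = n435 := d10_1 D435 (iv D435) F1655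
theorem F2378 : act 4 n435 = n435 := d24_2 (iv F1657) D435 (iv D435) F1657 F1194
theorem F2379 : act 6 n435 = n435 := d26_2 F1658 D435 (iv D435)
theorem F2380 : act 7 n435 = n298 := d27_2 (iv F1659) D435 (iv D298)
theorem F2381 : act 8 n435 = n435 := d28_2 D296 D435 (iv D435) (iv D296) F1165
def n436 : Q := act 9 n296
theorem D436 : act 9 n296 = n436 := rfl
theorem F2382 : act 1 n436 = n436 := d16_1 D436 (iv D436) F1655
theorem F2383 : act 2 n436 = n436 := d23_1 D436 (iv D436) F1656
theorem F2384 : act 4 n436 = n305 := d34_1 D436 (iv D305) (iv F1657)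
theorem F2385 : act 6 n436 = n436 := d41_1 D436 (iv D436) F1658
theorem F2386 : act 7 n436 = n299 := d43_1 D436 (iv D299) (iv F1659)
def n437 : Q := act 8 n297
theorem D437 : act 8 n297 = n437 := rfl
theorem F2387 : act 1 n437 = n437 := d15_1 D437 (iv D437) F1660
theorem F2388 : act 2 n437 = n437 := d22_1 D437 (iv D437) F1661
theorem F2389 : act 4 n437 = n306 := d33_1 D437 (iv D306) (iv F1663)
theorem F2390 : act 6 n437 = n437 := d40_1 D437 (iv D437) F1664
theorem F2391 : act 7 n437 = n300 := d42_1 D437 (iv D300) (iv F1665)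
def n438 : Q := act 2 n298
theorem D438 : act 2 n298 = n438 := rfl
theorem F2392 : act 3 n438 = n438 := d17_2 D298 D438 (iv D438) (iv D298) F1169
theorem F2393 : act 4 n438 = n438 := d18_2 F1667 D438 (iv D438)
theorem F2394 : act 6 n438 = n301 := d20_2 (iv F1668) D438 (iv D301)
theorem F2395 : act 8 n438 = n438 := d22_2 F1669 D438 (iv D438)
def n439 : Q := act 9 n298
theorem D439 : act 9 n298 = n439 := rfl
theorem F2396 : act 1 n439 = n439 := d16_1 D439 (iv D439) F1666
theorem F2397 : act 3 n439 = n299 := d29_1 D439 (iv D299) D298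
theorem F2398 : act 4 n439 = n439 := d34_1 D439 (iv D439) F1667
theorem F2399 : act 6 n439 = n302 := d41_1 D439 (iv D302) (iv F1668)
def n440 : Q := act 8 n299
theorem D440 : act 8 n299 = n440 := rfl
theorem F2400 : act 1 n440 = n440 := d15_1 D440 (iv D440) F1670
theorem F2401 : act 2 n440 = n440 := d22_1 D440 (iv D440) F1671
theorem F2402 : act 4 n440 = n307 := d33_1 D440 (iv D307) (iv F1672)
theorem F2403 : act 6 n440 = n303 := d40_1 D440 (iv D303) (iv F1673)
theorem F2404 : act 9 n440 = n300 := d44_2 D299 D440 (iv D300) (iv D204) D203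
def n441 : Q := act 3 n300
theorem D441 : act 3 n300 = n441 := rfl
theorem F2405 : act 1 n441 = n441 := d10_1 D441 (iv D441) F1674
theorem F2406 : act 6 n441 = n304 := d26_2 (iv F1677) D441 (iv D304)
theorem F2407 : act 8 n441 = n441 := d28_2 D300 D441 (iv D441) (iv D300) F1174
def n442 : Q := act 1 n301
theorem D442 : act 1 n301 = n442 := rfl
theorem F2408 : act 0 n442 = n442 := d0_1 D442 (iv D442) (iv F2166) F2167 F2166
theorem F2409 : act 2 n442 = n442 := d9_2 D301 D442 (iv D442) (iv D301) F1177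
theorem F2410 : act 3 n442 = n442 := d10_2 F1678 D442 (iv D442)
theorem F2411 : act 4 n442 = n442 := d11_2 F1679 D442 (iv D442)
theorem F2412 : act 5 n442 = n442 := d12_2 F1680 D442 (iv D442)
theorem F2413 : act 7 n442 = n442 := d14_2 F1681 D442 (iv D442)
theorem F2414 : act 8 n442 = n442 := d15_2 F1682 D442 (iv D442)
def n443 : Q := act 9 n301
theorem D443 : act 9 n301 = n443 := rfl
theorem F2415 : act 2 n443 = n302 := d23_1 D443 (iv D302) D301
theorem F2416 : act 3 n443 = n443 := d29_1 D443 (iv D443) F1678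
theorem F2417 : act 4 n443 = n443 := d34_1 D443 (iv D443) F1679
theorem F2418 : act 5 n443 = n443 := d38_1 D443 (iv D443) F1680
theorem F2419 : act 7 n443 = n443 := d43_1 D443 (iv D443) F1681
def n444 : Q := act 8 n302
theorem D444 : act 8 n302 = n444 := rfl
theorem F2420 : act 1 n444 = n444 := d15_1 D444 (iv D444) F1683
theorem F2421 : act 4 n444 = n444 := d33_1 D444 (iv D444) F1685
theorem F2422 : act 5 n444 = n444 := d37_1 D444 (iv D444) F1686
theorem F2423 : act 7 n444 = n444 := d42_1 D444 (iv D444) F1687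
theorem F2424 : act 9 n444 = n444 := d44_2 D302 D444 (iv D444) (iv D302) F1181
def n445 : Q := act 3 n303
theorem D445 : act 3 n303 = n445 := rfl
theorem F2425 : act 1 n445 = n445 := d10_1 D445 (iv D445) F1688
theorem F2426 : act 5 n445 = n445 := d25_2 F1691 D445 (iv D445)
theorem F2427 : act 7 n445 = n445 := d27_2 F1692 D445 (iv D445)
theorem F2428 : act 9 n445 = n304 := d29_2 (iv F1693) D445 (iv D304)
def n446 : Q := act 2 n304
theorem D446 : act 2 n304 = n446 := rfl
theorem F2429 : act 3 n446 = n446 := d17_2 D304 D446 (iv D446) (iv D304) F1188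
theorem F2430 : act 5 n446 = n446 := d19_2 F1695 D446 (iv D446)
theorem F2431 : act 7 n446 = n446 := d21_2 F1696 D446 (iv D446)
theorem F2432 : act 8 n446 = n446 := d22_2 F1697 D446 (iv D446)
def n447 : Q := act 4 n304
theorem D447 : act 4 n304 = n447 := rfl
theorem F2433 : act 1 n447 = n447 := d11_1 D447 (iv D447) F1694
theorem F2434 : act 3 n447 = n311 := d24_1 D447 (iv D311) (iv D213) (iv F1189) D304
theorem F2435 : act 7 n447 = n447 := d32_2 F1696 D447 (iv D447)
theorem F2436 : act 8 n447 = n447 := d33_2 F1697 D447 (iv D447)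
def n448 : Q := act 8 n305
theorem D448 : act 8 n305 = n448 := rfl
theorem F2437 : act 1 n448 = n448 := d15_1 D448 (iv D448) F1698
theorem F2438 : act 2 n448 = n448 := d22_1 D448 (iv D448) F1699
theorem F2439 : act 5 n448 = n448 := d37_1 D448 (iv D448) F1701
theorem F2440 : act 6 n448 = n448 := d40_1 D448 (iv D448) F1702
theorem F2441 : act 7 n448 = n307 := d42_1 D448 (iv D307) (iv F1703)
theorem F2442 : act 9 n448 = n306 := d44_2 D305 D448 (iv D306) (iv D209) D208
def n449 : Q := act 3 n306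
theorem D449 : act 3 n306 = n449 := rfl
theorem F2443 : act 1 n449 = n449 := d10_1 D449 (iv D449) F1704
theorem F2444 : act 5 n449 = n449 := d25_2 F1706 D449 (iv D449)
theorem F2445 : act 6 n449 = n449 := d26_2 F1707 D449 (iv D449)
theorem F2446 : act 7 n449 = n308 := d27_2 (iv F1708) D449 (iv D308)
theorem F2447 : act 8 n449 = n317 := d28_2 D306 D449 (iv D317) (iv D217) (iv F1200)
def n450 : Q := act 3 n307
theorem D450 : act 3 n307 = n450 := rfl
theorem F2448 : act 1 n450 = n450 := d10_1 D450 (iv D450) F1709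
theorem F2449 : act 5 n450 = n450 := d25_2 F1711 D450 (iv D450)
theorem F2450 : act 6 n450 = n309 := d26_2 (iv F1712) D450 (iv D309)
theorem F2451 : act 8 n450 = n450 := d28_2 D307 D450 (iv D450) (iv D307) F1206
theorem F2452 : act 9 n450 = n308 := d29_2 (iv F1713) D450 (iv D308)
def n451 : Q := act 2 n308
theorem D451 : act 2 n308 = n451 := rfl
theorem F2453 : act 3 n451 = n451 := d17_2 D308 D451 (iv D451) (iv D308) F1210
theorem F2454 : act 5 n451 = n451 := d19_2 F1715 D451 (iv D451)
theorem F2455 : act 6 n451 = n310 := d20_2 (iv F1716) D451 (iv D310)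
theorem F2456 : act 8 n451 = n318 := d22_2 (iv F1717) D451 (iv D318)
def n452 : Q := act 4 n308
theorem D452 : act 4 n308 = n452 := rfl
theorem F2457 : act 1 n452 = n452 := d11_1 D452 (iv D452) F1714
theorem F2458 : act 6 n452 = n311 := d31_2 (iv F1716) D452 (iv D311)
theorem F2459 : act 8 n452 = n319 := d33_2 (iv F1717) D452 (iv D319)
def n453 : Q := act 2 n309
theorem D453 : act 2 n309 = n453 := rfl
theorem F2460 : act 3 n453 = n453 := d17_2 D309 D453 (iv D453) (iv D309) F1214
theorem F2461 : act 5 n453 = n312 := d19_2 (iv F1719) D453 (iv D312)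
theorem F2462 : act 7 n453 = n453 := d21_2 F1720 D453 (iv D453)
theorem F2463 : act 8 n453 = n453 := d22_2 F1721 D453 (iv D453)
theorem F2464 : act 9 n453 = n310 := d23_2 (iv F1722) D453 (iv D310)
def n454 : Q := act 4 n309
theorem D454 : act 4 n309 = n454 := rfl
theorem F2465 : act 1 n454 = n454 := d11_1 D454 (iv D454) F1718
theorem F2466 : act 7 n454 = n454 := d32_2 F1720 D454 (iv D454)
theorem F2467 : act 8 n454 = n454 := d33_2 F1721 D454 (iv D454)
theorem F2468 : act 9 n454 = n311 := d34_2 (iv F1722) D454 (iv D311)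
def n455 : Q := act 1 n310
theorem D455 : act 1 n310 = n455 := rfl
theorem F2469 : act 2 n455 = n455 := d9_2 D310 D455 (iv D455) (iv D310) F1218
theorem F2470 : act 3 n455 = n455 := d10_2 F1723 D455 (iv D455)
theorem F2471 : act 5 n455 = n314 := d12_2 (iv F1724) D455 (iv D314)
theorem F2472 : act 7 n455 = n455 := d14_2 F1725 D455 (iv D455)
theorem F2473 : act 8 n455 = n320 := d15_2 (iv F1726) D455 (iv D320)
def n456 : Q := act 4 n310
theorem D456 : act 4 n310 = n456 := rfl
theorem F2474 : act 2 n456 = n311 := d18_1 D456 (iv D311) D310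
theorem F2475 : act 7 n456 = n456 := d32_2 F1725 D456 (iv D456)
theorem F2476 : act 8 n456 = n321 := d33_2 (iv F1726) D456 (iv D321)
def n457 : Q := act 5 n311
theorem D457 : act 5 n311 = n457 := rfl
theorem F2477 : act 1 n457 = n457 := d12_1 D457 (iv D457) F1727
theorem F2478 : act 4 n457 = n316 := d30_1 D457 (iv D316) (iv D216) (iv F1219) D311
theorem F2479 : act 7 n457 = n457 := d36_2 F1728 D457 (iv D457)
theorem F2480 : act 8 n457 = n322 := d37_2 (iv F1729) D457 (iv D322)
def n458 : Q := act 1 n312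
theorem D458 : act 1 n312 = n458 := rfl
theorem F2481 : act 2 n458 = n458 := d9_2 D312 D458 (iv D458) (iv D312) F1222
theorem F2482 : act 3 n458 = n458 := d10_2 F1730 D458 (iv D458)
theorem F2483 : act 6 n458 = n458 := d13_2 F1731 D458 (iv D458)
theorem F2484 : act 7 n458 = n458 := d14_2 F1732 D458 (iv D458)
theorem F2485 : act 8 n458 = n458 := d15_2 F1733 D458 (iv D458)
theorem F2486 : act 9 n458 = n314 := d16_2 (iv F1734) D458 (iv D314)
def n459 : Q := act 4 n312
theorem D459 : act 4 n312 = n459 := rfl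
theorem F2487 : act 2 n459 = n313 := d18_1 D459 (iv D313) D312
theorem F2488 : act 6 n459 = n459 := d31_2 F1731 D459 (iv D459)
theorem F2489 : act 7 n459 = n459 := d32_2 F1732 D459 (iv D459)
theorem F2490 : act 8 n459 = n459 := d33_2 F1733 D459 (iv D459)
theorem F2491 : act 9 n459 = n315 := d34_2 (iv F1734) D459 (iv D315)
def n460 : Q := act 5 n313
theorem D460 : act 5 n313 = n460 := rfl
theorem F2492 : act 1 n460 = n460 := d12_1 D460 (iv D460) F1735
theorem F2493 : act 3 n460 = n460 := d25_1 D460 (iv D460) F1736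
theorem F2494 : act 7 n460 = n460 := d36_2 F1738 D460 (iv D460)
theorem F2495 : act 8 n460 = n460 := d37_2 F1739 D460 (iv D460)
theorem F2496 : act 9 n460 = n316 := d38_2 (iv F1740) D460 (iv D316)
def n461 : Q := act 0 n314
theorem D461 : act 0 n314 = n461 := rfl
theorem F2497 : act 2 n461 = n461 := d1_2 F1741 D461 (iv D461)
theorem F2498 : act 3 n461 = n461 := d2_2 F1742 D461 (iv D461)
theorem F2499 : act 6 n461 = n461 := d5_2 F1743 D461 (iv D461)
theorem F2500 : act 7 n461 = n461 := d6_2 F1744 D461 (iv D461)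
theorem F2501 : act 8 n461 = n323 := d7_2 (iv F1745) D461 (iv D323)
def n462 : Q := act 4 n314
theorem D462 : act 4 n314 = n462 := rfl
theorem F2502 : act 1 n462 = n315 := d11_1 D462 (iv D315) D314
theorem F2503 : act 2 n462 = n462 := d18_1 D462 (iv D462) F1741
theorem F2504 : act 6 n462 = n462 := d31_2 F1743 D462 (iv D462)
theorem F2505 : act 7 n462 = n462 := d32_2 F1744 D462 (iv D462)
theorem F2506 : act 8 n462 = n324 := d33_2 (iv F1745) D462 (iv D324)
def n463 : Q := act 3 n315
theorem D463 : act 3 n315 = n463 := rfl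
theorem F2507 : act 2 n463 = n463 := d17_1 D463 (iv D463) F1746 F1232 (iv F1746)
theorem F2508 : act 4 n463 = n463 := d24_2 D315 D463 (iv D463) (iv D315) F1227
theorem F2509 : act 6 n463 = n463 := d26_2 F1747 D463 (iv D463)
theorem F2510 : act 7 n463 = n463 := d27_2 F1748 D463 (iv D463)
theorem F2511 : act 8 n463 = n463 := d28_2 (iv F1749) D463 (iv D463) F1749 F1261
def n464 : Q := act 5 n315
theorem D464 : act 5 n315 = n464 := rfl
theorem F2512 : act 2 n464 = n316 := d19_1 D464 (iv D316) (iv F1746)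
theorem F2513 : act 7 n464 = n464 := d36_2 F1748 D464 (iv D464)
theorem F2514 : act 8 n464 = n325 := d37_2 (iv F1749) D464 (iv D325)
def n465 : Q := act 6 n316
theorem D465 : act 6 n316 = n465 := rfl
theorem F2515 : act 1 n465 = n465 := d13_1 D465 (iv D465) F1750
theorem F2516 : act 3 n465 = n465 := d26_1 D465 (iv D465) F1751
theorem F2517 : act 5 n465 = n465 := d35_1 D465 (iv D465) (iv D316) F1233 D316
theorem F2518 : act 8 n465 = n326 := d40_2 (iv F1753) D465 (iv D326)
def n466 : Q := act 2 n317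
theorem D466 : act 2 n317 = n466 := rfl
theorem F2519 : act 3 n466 = n328 := d17_2 D317 D466 (iv D328) (iv D225) (iv F1237)
theorem F2520 : act 5 n466 = n466 := d19_2 F1755 D466 (iv D466)
theorem F2521 : act 6 n466 = n466 := d20_2 F1756 D466 (iv D466)
theorem F2522 : act 7 n466 = n318 := d21_2 (iv F1757) D466 (iv D318)
theorem F2523 : act 9 n466 = n466 := d23_2 F1758 D466 (iv D466)
def n467 : Q := act 4 n317
theorem D467 : act 4 n317 = n467 := rfl
theorem F2524 : act 1 n467 = n467 := d11_1 D467 (iv D467) F1754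
theorem F2525 : act 3 n467 = n467 := d24_1 D467 (iv D467) (iv D317) F1238 D317
theorem F2526 : act 6 n467 = n467 := d31_2 F1756 D467 (iv D467)
theorem F2527 : act 7 n467 = n319 := d32_2 (iv F1757) D467 (iv D319)
theorem F2528 : act 9 n467 = n467 := d34_2 F1758 D467 (iv D467)
def n468 : Q := act 1 n318
theorem D468 : act 1 n318 = n468 := rfl
theorem F2529 : act 2 n468 = n468 := d9_2 D318 D468 (iv D468) (iv D318) F1243
theorem F2530 : act 3 n468 = n330 := d10_2 (iv F1759) D468 (iv D330)
theorem F2531 : act 5 n468 = n468 := d12_2 F1760 D468 (iv D468)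
theorem F2532 : act 6 n468 = n320 := d13_2 (iv F1761) D468 (iv D320)
theorem F2533 : act 9 n468 = n468 := d16_2 F1762 D468 (iv D468)
def n469 : Q := act 4 n318
theorem D469 : act 4 n318 = n469 := rfl
theorem F2534 : act 2 n469 = n319 := d18_1 D469 (iv D319) D318
theorem F2535 : act 6 n469 = n321 := d31_2 (iv F1761) D469 (iv D321)
theorem F2536 : act 9 n469 = n469 := d34_2 F1762 D469 (iv D469)
def n470 : Q := act 5 n319
theorem D470 : act 5 n319 = n470 := rfl
theorem F2537 : act 1 n470 = n470 := d12_1 D470 (iv D470) F1763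
theorem F2538 : act 3 n470 = n470 := d25_1 D470 (iv D470) F1764
theorem F2539 : act 4 n470 = n470 := d30_1 D470 (iv D470) (iv D319) F1244 D319
theorem F2540 : act 9 n470 = n470 := d38_2 F1766 D470 (iv D470)
def n471 : Q := act 0 n320
theorem D471 : act 0 n320 = n471 := rfl
theorem F2541 : act 2 n471 = n471 := d1_2 F1767 D471 (iv D471)
theorem F2542 : act 3 n471 = n333 := d2_2 (iv F1768) D471 (iv D333)
theorem F2543 : act 5 n471 = n323 := d4_2 (iv F1769) D471 (iv D323)
theorem F2544 : act 7 n471 = n471 := d6_2 F1770 D471 (iv D471)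
theorem F2545 : act 9 n471 = n471 := d8_2 F1771 D471 (iv D471)
def n472 : Q := act 4 n320
theorem D472 : act 4 n320 = n472 := rfl
theorem F2546 : act 1 n472 = n321 := d11_1 D472 (iv D321) D320
theorem F2547 : act 2 n472 = n472 := d18_1 D472 (iv D472) F1767
theorem F2548 : act 7 n472 = n472 := d32_2 F1770 D472 (iv D472)
theorem F2549 : act 9 n472 = n472 := d34_2 F1771 D472 (iv D472)
def n473 : Q := act 3 n321
theorem D473 : act 3 n321 = n473 := rfl
theorem F2550 : act 2 n473 = n473 := d17_1 D473 (iv D473) F1772 F1252 (iv F1772)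
theorem F2551 : act 4 n473 = n335 := d24_2 D321 D473 (iv D335) (iv D229) (iv F1247)
theorem F2552 : act 7 n473 = n473 := d27_2 F1773 D473 (iv D473)
theorem F2553 : act 9 n473 = n473 := d29_2 F1774 D473 (iv D473)
def n474 : Q := act 5 n321
theorem D474 : act 5 n321 = n474 := rfl
theorem F2554 : act 2 n474 = n322 := d19_1 D474 (iv D322) (iv F1772)
theorem F2555 : act 4 n474 = n325 := d30_1 D474 (iv D325) (iv D222) (iv F1248) D321
theorem F2556 : act 7 n474 = n474 := d36_2 F1773 D474 (iv D474)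
theorem F2557 : act 9 n474 = n474 := d38_2 F1774 D474 (iv D474)
def n475 : Q := act 6 n322
theorem D475 : act 6 n322 = n475 := rfl
theorem F2558 : act 1 n475 = n475 := d13_1 D475 (iv D475) F1775
theorem F2559 : act 3 n475 = n475 := d26_1 D475 (iv D475) F1776
theorem F2560 : act 4 n475 = n326 := d31_1 D475 (iv D326) (iv F1777)
theorem F2561 : act 9 n475 = n475 := d41_2 F1779 D475 (iv D475)
def n476 : Q := act 4 n323
theorem D476 : act 4 n323 = n476 := rfl
theorem F2562 : act 0 n476 = n324 := d3_1 D476 (iv D324) D323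
theorem F2563 : act 2 n476 = n476 := d18_1 D476 (iv D476) F1780
theorem F2564 : act 3 n476 = n476 := d24_1 D476 (iv D476) F1781 F1301 (iv F1781)
theorem F2565 : act 6 n476 = n476 := d31_2 F1782 D476 (iv D476)
theorem F2566 : act 7 n476 = n476 := d32_2 F1783 D476 (iv D476)
theorem F2567 : act 9 n476 = n476 := d34_2 F1784 D476 (iv D476)
def n477 : Q := act 5 n324
theorem D477 : act 5 n324 = n477 := rfl
theorem F2568 : act 1 n477 = n325 := d12_1 D477 (iv D325) (iv F1785)
theorem F2569 : act 2 n477 = n477 := d19_1 D477 (iv D477) F1786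
theorem F2570 : act 3 n477 = n477 := d25_1 D477 (iv D477) F1787
theorem F2571 : act 7 n477 = n477 := d36_2 F1789 D477 (iv D477)
theorem F2572 : act 9 n477 = n477 := d38_2 F1790 D477 (iv D477)
def n478 : Q := act 6 n325
theorem D478 : act 6 n325 = n478 := rfl
theorem F2573 : act 2 n478 = n326 := d20_1 D478 (iv D326) (iv F1791)
theorem F2574 : act 3 n478 = n478 := d26_1 D478 (iv D478) F1792
theorem F2575 : act 5 n478 = n478 := d35_1 D478 (iv D478) (iv D325) F1262 D325
theorem F2576 : act 9 n478 = n478 := d41_2 F1794 D478 (iv D478)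
def n479 : Q := act 7 n326
theorem D479 : act 7 n326 = n479 := rfl
theorem F2577 : act 1 n479 = n479 := d14_1 D479 (iv D479) F1795
theorem F2578 : act 3 n479 = n327 := d27_1 D479 (iv D327) (iv F1796)
theorem F2579 : act 5 n479 = n479 := d36_1 D479 (iv D479) F1797
theorem F2580 : act 6 n479 = n479 := d39_1 D479 (iv D479) (iv D326) F1267 D326
theorem F2581 : act 9 n479 = n479 := d43_2 F1798 D479 (iv D479)
def n480 : Q := act 1 n328
theorem D480 : act 1 n328 = n480 := rfl
theorem F2582 : act 2 n480 = n336 := d9_2 D328 D480 (iv D336) (iv D231) (iv F1275)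
theorem F2583 : act 5 n480 = n480 := d12_2 F1806 D480 (iv D480)
theorem F2584 : act 6 n480 = n480 := d13_2 F1807 D480 (iv D480)
theorem F2585 : act 7 n480 = n330 := d14_2 (iv F1808) D480 (iv D330)
theorem F2586 : act 8 n480 = n480 := d15_2 F1809 D480 (iv D480)
theorem F2587 : act 9 n480 = n480 := d16_2 F1810 D480 (iv D480)
def n481 : Q := act 4 n328
theorem D481 : act 4 n328 = n481 := rfl
theorem F2588 : act 2 n481 = n329 := d18_1 D481 (iv D329) D328
theorem F2589 : act 6 n481 = n481 := d31_2 F1807 D481 (iv D481)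
theorem F2590 : act 7 n481 = n331 := d32_2 (iv F1808) D481 (iv D331)
theorem F2591 : act 8 n481 = n481 := d33_2 F1809 D481 (iv D481)
theorem F2592 : act 9 n481 = n481 := d34_2 F1810 D481 (iv D481)
def n482 : Q := act 5 n329
theorem D482 : act 5 n329 = n482 := rfl
theorem F2593 : act 1 n482 = n338 := d12_1 D482 (iv D338) (iv F1811)
theorem F2594 : act 3 n482 = n482 := d25_1 D482 (iv D482) F1812
theorem F2595 : act 4 n482 = n482 := d30_1 D482 (iv D482) (iv D329) F1276 D329
theorem F2596 : act 7 n482 = n332 := d36_2 (iv F1814) D482 (iv D332)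
theorem F2597 : act 8 n482 = n482 := d37_2 F1815 D482 (iv D482)
theorem F2598 : act 9 n482 = n482 := d38_2 F1816 D482 (iv D482)
def n483 : Q := act 0 n330
theorem D483 : act 0 n330 = n483 := rfl
theorem F2599 : act 2 n483 = n339 := d1_2 (iv F1817) D483 (iv D339)
theorem F2600 : act 5 n483 = n483 := d4_2 F1818 D483 (iv D483)
theorem F2601 : act 6 n483 = n333 := d5_2 (iv F1819) D483 (iv D333)
theorem F2602 : act 8 n483 = n483 := d7_2 F1820 D483 (iv D483)
theorem F2603 : act 9 n483 = n483 := d8_2 F1821 D483 (iv D483)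
def n484 : Q := act 4 n330
theorem D484 : act 4 n330 = n484 := rfl
theorem F2604 : act 1 n484 = n331 := d11_1 D484 (iv D331) D330
theorem F2605 : act 2 n484 = n340 := d18_1 D484 (iv D340) (iv F1817)
theorem F2606 : act 6 n484 = n334 := d31_2 (iv F1819) D484 (iv D334)
theorem F2607 : act 8 n484 = n484 := d33_2 F1820 D484 (iv D484)
theorem F2608 : act 9 n484 = n484 := d34_2 F1821 D484 (iv D484)
def n485 : Q := act 3 n331
theorem D485 : act 3 n331 = n485 := rfl
theorem F2609 : act 2 n485 = n485 := d17_1 D485 (iv D485) F1822 F1286 (iv F1822)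
theorem F2610 : act 6 n485 = n335 := d26_2 (iv F1823) D485 (iv D335)
theorem F2611 : act 9 n485 = n485 := d29_2 F1825 D485 (iv D485)
def n486 : Q := act 5 n331
theorem D486 : act 5 n331 = n486 := rfl
theorem F2612 : act 2 n486 = n332 := d19_1 D486 (iv D332) (iv F1822)
theorem F2613 : act 4 n486 = n486 := d30_1 D486 (iv D486) (iv D331) F1281 D331
theorem F2614 : act 6 n486 = n486 := d35_2 (iv F1823) D486 (iv D486) F1823 F1296
theorem F2615 : act 8 n486 = n486 := d37_2 F1824 D486 (iv D486)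
theorem F2616 : act 9 n486 = n486 := d38_2 F1825 D486 (iv D486)
def n487 : Q := act 4 n333
theorem D487 : act 4 n333 = n487 := rfl
theorem F2617 : act 0 n487 = n334 := d3_1 D487 (iv D334) D333
theorem F2618 : act 2 n487 = n343 := d18_1 D487 (iv D343) (iv F1832)
theorem F2619 : act 5 n487 = n487 := d30_2 (iv F1833) D487 (iv D487) F1833 F1301
theorem F2620 : act 7 n487 = n487 := d32_2 F1834 D487 (iv D487)
theorem F2621 : act 8 n487 = n487 := d33_2 F1835 D487 (iv D487)
theorem F2622 : act 9 n487 = n487 := d34_2 F1836 D487 (iv D487)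
def n488 : Q := act 3 n334
theorem D488 : act 3 n334 = n488 := rfl
theorem F2623 : act 1 n488 = n335 := d10_1 D488 (iv D335) (iv F1837)
theorem F2624 : act 5 n488 = n488 := d25_2 F1839 D488 (iv D488)
theorem F2625 : act 7 n488 = n488 := d27_2 F1840 D488 (iv D488)
theorem F2626 : act 9 n488 = n488 := d29_2 F1842 D488 (iv D488)
def n489 : Q := act 8 n335
theorem D489 : act 8 n335 = n489 := rfl
theorem F2627 : act 2 n489 = n489 := d22_1 D489 (iv D489) F1843
theorem F2628 : act 3 n489 = n489 := d28_1 D489 (iv D489) (iv D335) F1298 D335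
theorem F2629 : act 5 n489 = n489 := d37_1 D489 (iv D489) F1844
theorem F2630 : act 7 n489 = n489 := d42_1 D489 (iv D489) F1845
def n490 : Q := act 0 n336
theorem D490 : act 0 n336 = n490 := rfl
theorem F2631 : act 1 n490 = n490 := d0_2 D336 D490 (iv D490) (iv D336) F1306
theorem F2632 : act 3 n490 = n490 := d2_2 F1847 D490 (iv D490)
theorem F2633 : act 5 n490 = n490 := d4_2 F1848 D490 (iv D490)
theorem F2634 : act 6 n490 = n490 := d5_2 F1849 D490 (iv D490)
theorem F2635 : act 7 n490 = n339 := d6_2 (iv F1850) D490 (iv D339)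
theorem F2636 : act 8 n490 = n490 := d7_2 F1851 D490 (iv D490)
theorem F2637 : act 9 n490 = n490 := d8_2 F1852 D490 (iv D490)
def n491 : Q := act 4 n336
theorem D491 : act 4 n336 = n491 := rfl
theorem F2638 : act 1 n491 = n337 := d11_1 D491 (iv D337) D336
theorem F2639 : act 6 n491 = n491 := d31_2 F1849 D491 (iv D491)
theorem F2640 : act 7 n491 = n340 := d32_2 (iv F1850) D491 (iv D340)
theorem F2641 : act 8 n491 = n491 := d33_2 F1851 D491 (iv D491)
theorem F2642 : act 9 n491 = n491 := d34_2 F1852 D491 (iv D491)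
def n492 : Q := act 3 n337
theorem D492 : act 3 n337 = n492 := rfl
theorem F2643 : act 0 n492 = n492 := d2_1 D492 (iv D492) F1853
theorem F2644 : act 2 n492 = n492 := d17_1 D492 (iv D492) F1854 F1314 (iv F1854)
theorem F2645 : act 4 n492 = n492 := d24_2 D337 D492 (iv D492) (iv D337) F1307
theorem F2646 : act 6 n492 = n492 := d26_2 F1855 D492 (iv D492)
theorem F2647 : act 7 n492 = n341 := d27_2 (iv F1856) D492 (iv D341)
theorem F2648 : act 9 n492 = n492 := d29_2 F1858 D492 (iv D492)
def n493 : Q := act 5 n337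
theorem D493 : act 5 n337 = n493 := rfl
theorem F2649 : act 0 n493 = n493 := d4_1 D493 (iv D493) F1853
theorem F2650 : act 2 n493 = n338 := d19_1 D493 (iv D338) (iv F1854)
theorem F2651 : act 4 n493 = n493 := d30_1 D493 (iv D493) (iv D337) F1308 D337
theorem F2652 : act 7 n493 = n342 := d36_2 (iv F1856) D493 (iv D342)
theorem F2653 : act 8 n493 = n493 := d37_2 F1857 D493 (iv D493)
theorem F2654 : act 9 n493 = n493 := d38_2 F1858 D493 (iv D493)
def n494 : Q := act 6 n338
theorem D494 : act 6 n338 = n494 := rfl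
theorem F2655 : act 0 n494 = n494 := d5_1 D494 (iv D494) F1859
theorem F2656 : act 3 n494 = n494 := d26_1 D494 (iv D494) F1860
theorem F2657 : act 4 n494 = n494 := d31_1 D494 (iv D494) F1861
theorem F2658 : act 5 n494 = n494 := d35_1 D494 (iv D494) (iv D338) F1315 D338
theorem F2659 : act 7 n494 = n494 := d39_2 (iv F1862) D494 (iv D494) F1862 F1332
theorem F2660 : act 8 n494 = n494 := d40_2 F1863 D494 (iv D494)
theorem F2661 : act 9 n494 = n494 := d41_2 F1864 D494 (iv D494)
def n495 : Q := act 4 n339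
theorem D495 : act 4 n339 = n495 := rfl
theorem F2662 : act 0 n495 = n340 := d3_1 D495 (iv D340) D339
theorem F2663 : act 1 n495 = n495 := d11_1 D495 (iv D495) F1865
theorem F2664 : act 6 n495 = n343 := d31_2 (iv F1868) D495 (iv D343)
theorem F2665 : act 8 n495 = n495 := d33_2 F1869 D495 (iv D495)
theorem F2666 : act 9 n495 = n495 := d34_2 F1870 D495 (iv D495)
def n496 : Q := act 3 n340
theorem D496 : act 3 n340 = n496 := rfl
theorem F2667 : act 1 n496 = n341 := d10_1 D496 (iv D341) (iv F1871)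
theorem F2668 : act 4 n496 = n496 := d24_2 D340 D496 (iv D496) (iv D340) F1319
theorem F2669 : act 6 n496 = n344 := d26_2 (iv F1872) D496 (iv D344)
theorem F2670 : act 9 n496 = n496 := d29_2 F1874 D496 (iv D496)
def n497 : Q := act 5 n340
theorem D497 : act 5 n340 = n497 := rfl
theorem F2671 : act 1 n497 = n342 := d12_1 D497 (iv D342) (iv F1871)
theorem F2672 : act 4 n497 = n497 := d30_1 D497 (iv D497) (iv D340) F1320 D340
theorem F2673 : act 6 n497 = n497 := d35_2 (iv F1872) D497 (iv D497) F1872 F1342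
theorem F2674 : act 8 n497 = n497 := d37_2 F1873 D497 (iv D497)
theorem F2675 : act 9 n497 = n497 := d38_2 F1874 D497 (iv D497)
def n498 : Q := act 5 n341
theorem D498 : act 5 n341 = n498 := rfl
theorem F2676 : act 0 n498 = n498 := d4_1 D498 (iv D498) F1875
theorem F2677 : act 2 n498 = n498 := d19_1 D498 (iv D498) F1876
theorem F2678 : act 3 n498 = n342 := d25_1 D498 (iv D342) D341
theorem F2679 : act 6 n498 = n498 := d35_2 (iv F1878) D498 (iv D498) F1878 F1349
theorem F2680 : act 9 n498 = n498 := d38_2 F1879 D498 (iv D498)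
def n499 : Q := act 8 n341
theorem D499 : act 8 n341 = n499 := rfl
theorem F2681 : act 0 n499 = n499 := d7_1 D499 (iv D499) F1875
theorem F2682 : act 2 n499 = n499 := d22_1 D499 (iv D499) F1876
theorem F2683 : act 3 n499 = n499 := d28_1 D499 (iv D499) (iv D341) F1327 D341
theorem F2684 : act 4 n499 = n499 := d33_1 D499 (iv D499) F1877
theorem F2685 : act 6 n499 = n345 := d40_1 D499 (iv D345) (iv F1878)
def n500 : Q := act 3 n343
theorem D500 : act 3 n343 = n500 := rfl
theorem F2686 : act 0 n500 = n344 := d2_1 D500 (iv D344) (iv F1886)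
theorem F2687 : act 1 n500 = n500 := d10_1 D500 (iv D500) F1887
theorem F2688 : act 4 n500 = n500 := d24_2 D343 D500 (iv D500) (iv D343) F1336
theorem F2689 : act 5 n500 = n500 := d25_2 F1888 D500 (iv D500)
theorem F2690 : act 7 n500 = n500 := d27_2 F1889 D500 (iv D500)
theorem F2691 : act 9 n500 = n500 := d29_2 F1891 D500 (iv D500)
def n501 : Q := act 2 n344
theorem D501 : act 2 n344 = n501 := rfl
def n502 : Q := act 8 n344
theorem D502 : act 8 n344 = n502 := rfl
theorem F2697 : act 1 n502 = n345 := d15_1 D502 (iv D345) (iv F1892)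
def n503 : Q := act 9 n345
theorem D503 : act 9 n345 = n503 := rfl
def n504 : Q := act 6 n346
theorem D504 : act 6 n346 = n504 := rfl
theorem F2709 : act 0 n504 = n504 := d5_1 D504 (iv D504) F1903
theorem F2710 : act 1 n504 = n504 := d13_1 D504 (iv D504) F1904
theorem F2711 : act 2 n504 = n504 := d20_1 D504 (iv D504) F1905
theorem F2712 : act 3 n504 = n347 := d26_1 D504 (iv D347) D346
theorem F2713 : act 4 n504 = n504 := d31_1 D504 (iv D504) F1906
theorem F2714 : act 8 n504 = n504 := d40_2 F1909 D504 (iv D504)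
def n505 : Q := act 9 n346
theorem D505 : act 9 n346 = n505 := rfl
theorem F2715 : act 0 n505 = n505 := d8_1 D505 (iv D505) F1903
theorem F2716 : act 1 n505 = n505 := d16_1 D505 (iv D505) F1904
theorem F2717 : act 2 n505 = n505 := d23_1 D505 (iv D505) F1905
theorem F2718 : act 3 n505 = n349 := d29_1 D505 (iv D349) D346
theorem F2719 : act 4 n505 = n505 := d34_1 D505 (iv D505) F1906
theorem F2720 : act 5 n505 = n505 := d38_1 D505 (iv D505) F1907
theorem F2721 : act 7 n505 = n505 := d43_1 D505 (iv D505) F1908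
def n506 : Q := act 5 n347
theorem D506 : act 5 n347 = n506 := rfl
theorem F2722 : act 0 n506 = n506 := d4_1 D506 (iv D506) F1910
theorem F2723 : act 1 n506 = n506 := d12_1 D506 (iv D506) F1911
theorem F2724 : act 2 n506 = n360 := d19_1 D506 (iv D360) (iv F1912)
theorem F2725 : act 4 n506 = n506 := d30_1 D506 (iv D506) F1913 F1361 (iv F1913)
theorem F2726 : act 6 n506 = n506 := d35_2 D347 D506 (iv D506) (iv D347) F1355
def n507 : Q := act 7 n347
theorem D507 : act 7 n347 = n507 := rfl
theorem F2727 : act 0 n507 = n507 := d6_1 D507 (iv D507) F1910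
theorem F2728 : act 1 n507 = n507 := d14_1 D507 (iv D507) F1911
theorem F2729 : act 2 n507 = n361 := d21_1 D507 (iv D361) (iv F1912)
theorem F2730 : act 4 n507 = n350 := d32_1 D507 (iv D350) (iv F1913)
theorem F2731 : act 6 n507 = n507 := d39_1 D507 (iv D507) (iv D347) F1356 D347
def n508 : Q := act 8 n347
theorem D508 : act 8 n347 = n508 := rfl
theorem F2732 : act 0 n508 = n508 := d7_1 D508 (iv D508) F1910
theorem F2733 : act 1 n508 = n508 := d15_1 D508 (iv D508) F1911
theorem F2734 : act 2 n508 = n362 := d22_1 D508 (iv D362) (iv F1912)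
theorem F2735 : act 3 n508 = n508 := d28_1 D508 (iv D508) (iv F2712) F2714 F2712
theorem F2736 : act 4 n508 = n351 := d33_1 D508 (iv D351) (iv F1913)
theorem F2737 : act 6 n508 = n348 := d40_1 D508 (iv D348) D347
def n509 : Q := act 9 n347
theorem D509 : act 9 n347 = n509 := rfl
theorem F2738 : act 0 n509 = n509 := d8_1 D509 (iv D509) F1910
theorem F2739 : act 1 n509 = n509 := d16_1 D509 (iv D509) F1911
theorem F2740 : act 2 n509 = n363 := d23_1 D509 (iv D363) (iv F1912)
theorem F2741 : act 4 n509 = n352 := d34_1 D509 (iv D352) (iv F1913)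
theorem F2742 : act 6 n509 = n349 := d41_1 D509 (iv D349) D347
def n510 : Q := act 9 n348
theorem D510 : act 9 n348 = n510 := rfl
theorem F2743 : act 0 n510 = n510 := d8_1 D510 (iv D510) F1914
theorem F2744 : act 1 n510 = n510 := d16_1 D510 (iv D510) F1915
theorem F2745 : act 2 n510 = n365 := d23_1 D510 (iv D365) (iv F1916)
theorem F2746 : act 3 n510 = n510 := d29_1 D510 (iv D510) F1917
theorem F2747 : act 4 n510 = n354 := d34_1 D510 (iv D354) (iv F1918)
theorem F2748 : act 5 n510 = n510 := d38_1 D510 (iv D510) F1919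
theorem F2749 : act 7 n510 = n510 := d43_1 D510 (iv D510) F1920
def n511 : Q := act 8 n349
theorem D511 : act 8 n349 = n511 := rfl
theorem F2750 : act 0 n511 = n511 := d7_1 D511 (iv D511) F1921
theorem F2751 : act 1 n511 = n511 := d15_1 D511 (iv D511) F1922
theorem F2752 : act 2 n511 = n366 := d22_1 D511 (iv D366) (iv F1923)
theorem F2753 : act 4 n511 = n355 := d33_1 D511 (iv D355) (iv F1924)
theorem F2754 : act 5 n511 = n511 := d37_1 D511 (iv D511) F1925
theorem F2755 : act 7 n511 = n511 := d42_1 D511 (iv D511) F1926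
def n512 : Q := act 8 n350
theorem D512 : act 8 n350 = n512 := rfl
theorem F2756 : act 0 n512 = n512 := d7_1 D512 (iv D512) F1927
theorem F2757 : act 1 n512 = n512 := d15_1 D512 (iv D512) F1928
theorem F2758 : act 2 n512 = n367 := d22_1 D512 (iv D367) (iv F1929)
theorem F2759 : act 5 n512 = n512 := d37_1 D512 (iv D512) F1931
theorem F2760 : act 6 n512 = n512 := d40_1 D512 (iv D512) F1932
theorem F2761 : act 7 n512 = n351 := d42_1 D512 (iv D351) D350
def n513 : Q := act 9 n350
theorem D513 : act 9 n350 = n513 := rfl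
theorem F2762 : act 0 n513 = n513 := d8_1 D513 (iv D513) F1927
theorem F2763 : act 1 n513 = n513 := d16_1 D513 (iv D513) F1928
theorem F2764 : act 2 n513 = n368 := d23_1 D513 (iv D368) (iv F1929)
theorem F2765 : act 3 n513 = n513 := d29_1 D513 (iv D513) F1930
theorem F2766 : act 5 n513 = n513 := d38_1 D513 (iv D513) F1931
theorem F2767 : act 6 n513 = n513 := d41_1 D513 (iv D513) F1932
theorem F2768 : act 7 n513 = n352 := d43_1 D513 (iv D352) D350
def n514 : Q := act 3 n351
theorem D514 : act 3 n351 = n514 := rfl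
theorem F2769 : act 0 n514 = n514 := d2_1 D514 (iv D514) F1933
theorem F2770 : act 1 n514 = n514 := d10_1 D514 (iv D514) F1934
theorem F2771 : act 2 n514 = n514 := d17_1 D514 (iv D514) F1935 F1413 (iv F1935)
theorem F2772 : act 4 n514 = n514 := d24_2 F2736 D514 (iv D514) (iv F2736) F2735
theorem F2773 : act 5 n514 = n514 := d25_2 F1936 D514 (iv D514)
theorem F2774 : act 6 n514 = n353 := d26_2 (iv F1937) D514 (iv D353)
theorem F2775 : act 8 n514 = n514 := d28_2 D351 D514 (iv D514) (iv D351) F1360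
def n515 : Q := act 9 n351
theorem D515 : act 9 n351 = n515 := rfl
theorem F2776 : act 0 n515 = n515 := d8_1 D515 (iv D515) F1933
theorem F2777 : act 1 n515 = n515 := d16_1 D515 (iv D515) F1934
theorem F2778 : act 2 n515 = n369 := d23_1 D515 (iv D369) (iv F1935)
theorem F2779 : act 5 n515 = n515 := d38_1 D515 (iv D515) F1936
theorem F2780 : act 6 n515 = n354 := d41_1 D515 (iv D354) (iv F1937)
def n516 : Q := act 8 n352
theorem D516 : act 8 n352 = n516 := rfl
theorem F2781 : act 0 n516 = n516 := d7_1 D516 (iv D516) F1938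
theorem F2782 : act 1 n516 = n516 := d15_1 D516 (iv D516) F1939
theorem F2783 : act 2 n516 = n370 := d22_1 D516 (iv D370) (iv F1940)
theorem F2784 : act 5 n516 = n516 := d37_1 D516 (iv D516) F1942
theorem F2785 : act 6 n516 = n355 := d40_1 D516 (iv D355) (iv F1943)
def n517 : Q := act 9 n353
theorem D517 : act 9 n353 = n517 := rfl
theorem F2786 : act 0 n517 = n517 := d8_1 D517 (iv D517) F1944
theorem F2787 : act 1 n517 = n517 := d16_1 D517 (iv D517) F1945
theorem F2788 : act 2 n517 = n517 := d23_1 D517 (iv D517) F1946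
theorem F2789 : act 3 n517 = n354 := d29_1 D517 (iv D354) D353
theorem F2790 : act 4 n517 = n517 := d34_1 D517 (iv D517) F1947
theorem F2791 : act 5 n517 = n357 := d38_1 D517 (iv D357) (iv F1948)
theorem F2792 : act 7 n517 = n517 := d43_1 D517 (iv D517) F1949
def n518 : Q := act 8 n354
theorem D518 : act 8 n354 = n518 := rfl
theorem F2793 : act 0 n518 = n518 := d7_1 D518 (iv D518) F1951
theorem F2794 : act 1 n518 = n518 := d15_1 D518 (iv D518) F1952
theorem F2795 : act 2 n518 = n371 := d22_1 D518 (iv D371) (iv F1953)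
theorem F2796 : act 5 n518 = n358 := d37_1 D518 (iv D358) (iv F1954)
theorem F2797 : act 7 n518 = n518 := d42_1 D518 (iv D518) F1955
theorem F2798 : act 9 n518 = n355 := d44_2 D354 D518 (iv D355) (iv D242) D241
def n519 : Q := act 3 n355
theorem D519 : act 3 n355 = n519 := rfl
theorem F2799 : act 0 n519 = n519 := d2_1 D519 (iv D519) F1956
theorem F2800 : act 1 n519 = n519 := d10_1 D519 (iv D519) F1957
theorem F2801 : act 5 n519 = n359 := d25_2 (iv F1959) D519 (iv D359)
theorem F2802 : act 7 n519 = n519 := d27_2 F1960 D519 (iv D519)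
theorem F2803 : act 8 n519 = n519 := d28_2 D355 D519 (iv D519) (iv D355) F1370
def n520 : Q := act 9 n356
theorem D520 : act 9 n356 = n520 := rfl
theorem F2804 : act 0 n520 = n520 := d8_1 D520 (iv D520) F1961
theorem F2805 : act 1 n520 = n520 := d16_1 D520 (iv D520) F1962
theorem F2806 : act 2 n520 = n520 := d23_1 D520 (iv D520) F1963
theorem F2807 : act 3 n520 = n520 := d29_1 D520 (iv D520) F1964
theorem F2808 : act 4 n520 = n357 := d34_1 D520 (iv D357) D356
theorem F2809 : act 5 n520 = n520 := d38_1 D520 (iv D520) F1965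
theorem F2810 : act 6 n520 = n520 := d41_1 D520 (iv D520) F1966
theorem F2811 : act 7 n520 = n520 := d43_1 D520 (iv D520) F1967
def n521 : Q := act 8 n357
theorem D521 : act 8 n357 = n521 := rfl
theorem F2812 : act 0 n521 = n521 := d7_1 D521 (iv D521) F1969
theorem F2813 : act 1 n521 = n521 := d15_1 D521 (iv D521) F1970
theorem F2814 : act 2 n521 = n521 := d22_1 D521 (iv D521) F1971
theorem F2815 : act 6 n521 = n521 := d40_1 D521 (iv D521) F1973
theorem F2816 : act 7 n521 = n521 := d42_1 D521 (iv D521) F1974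
theorem F2817 : act 9 n521 = n521 := d44_2 D357 D521 (iv D521) (iv D357) F1378
def n522 : Q := act 3 n358
theorem D522 : act 3 n358 = n522 := rfl
theorem F2818 : act 0 n522 = n522 := d2_1 D522 (iv D522) F1975
theorem F2819 : act 1 n522 = n522 := d10_1 D522 (iv D522) F1976
theorem F2820 : act 6 n522 = n522 := d26_2 F1979 D522 (iv D522)
theorem F2821 : act 7 n522 = n522 := d27_2 F1980 D522 (iv D522)
theorem F2822 : act 9 n522 = n359 := d29_2 (iv F1981) D522 (iv D359)
def n523 : Q := act 2 n359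
theorem D523 : act 2 n359 = n523 := rfl
theorem F2823 : act 0 n523 = n523 := d1_1 D523 (iv D523) F1982
theorem F2824 : act 3 n523 = n374 := d17_2 D359 D523 (iv D374) (iv D255) (iv F1387)
theorem F2825 : act 6 n523 = n523 := d20_2 F1984 D523 (iv D523)
theorem F2826 : act 7 n523 = n523 := d21_2 F1985 D523 (iv D523)
theorem F2827 : act 8 n523 = n523 := d22_2 F1986 D523 (iv D523)
def n524 : Q := act 4 n359
theorem D524 : act 4 n359 = n524 := rfl
theorem F2828 : act 0 n524 = n524 := d3_1 D524 (iv D524) F1982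
theorem F2829 : act 1 n524 = n524 := d11_1 D524 (iv D524) F1983
theorem F2830 : act 3 n524 = n524 := d24_1 D524 (iv D524) (iv D359) F1388 D359
theorem F2831 : act 6 n524 = n524 := d31_2 F1984 D524 (iv D524)
theorem F2832 : act 7 n524 = n524 := d32_2 F1985 D524 (iv D524)
theorem F2833 : act 8 n524 = n524 := d33_2 F1986 D524 (iv D524)
def n525 : Q := act 7 n360
theorem D525 : act 7 n360 = n525 := rfl
theorem F2834 : act 0 n525 = n525 := d6_1 D525 (iv D525) F1987
theorem F2835 : act 1 n525 = n386 := d14_1 D525 (iv D386) (iv F1988)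
theorem F2836 : act 3 n525 = n525 := d27_1 D525 (iv D525) F1989
theorem F2837 : act 4 n525 = n525 := d32_1 D525 (iv D525) F1990
theorem F2838 : act 5 n525 = n361 := d36_1 D525 (iv D361) D360
def n526 : Q := act 8 n360
theorem D526 : act 8 n360 = n526 := rfl
theorem F2839 : act 0 n526 = n526 := d7_1 D526 (iv D526) F1987
theorem F2840 : act 1 n526 = n387 := d15_1 D526 (iv D387) (iv F1988)
theorem F2841 : act 4 n526 = n526 := d33_1 D526 (iv D526) F1990
theorem F2842 : act 5 n526 = n362 := d37_1 D526 (iv D362) D360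
theorem F2843 : act 6 n526 = n526 := d40_1 D526 (iv D526) F1991
def n527 : Q := act 9 n360
theorem D527 : act 9 n360 = n527 := rfl
theorem F2844 : act 0 n527 = n527 := d8_1 D527 (iv D527) F1987
theorem F2845 : act 1 n527 = n388 := d16_1 D527 (iv D388) (iv F1988)
theorem F2846 : act 3 n527 = n527 := d29_1 D527 (iv D527) F1989
theorem F2847 : act 4 n527 = n527 := d34_1 D527 (iv D527) F1990
theorem F2848 : act 5 n527 = n363 := d38_1 D527 (iv D363) D360
theorem F2849 : act 6 n527 = n527 := d41_1 D527 (iv D527) F1991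
def n528 : Q := act 8 n361
theorem D528 : act 8 n361 = n528 := rfl
theorem F2850 : act 0 n528 = n528 := d7_1 D528 (iv D528) F1992
theorem F2851 : act 1 n528 = n389 := d15_1 D528 (iv D389) (iv F1993)
theorem F2852 : act 4 n528 = n367 := d33_1 D528 (iv D367) (iv F1995)
theorem F2853 : act 6 n528 = n528 := d40_1 D528 (iv D528) F1996
theorem F2854 : act 7 n528 = n362 := d42_1 D528 (iv D362) D361
def n529 : Q := act 9 n361
theorem D529 : act 9 n361 = n529 := rfl
theorem F2855 : act 0 n529 = n529 := d8_1 D529 (iv D529) F1992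
theorem F2856 : act 1 n529 = n390 := d16_1 D529 (iv D390) (iv F1993)
theorem F2857 : act 3 n529 = n529 := d29_1 D529 (iv D529) F1994
theorem F2858 : act 4 n529 = n368 := d34_1 D529 (iv D368) (iv F1995)
theorem F2859 : act 6 n529 = n529 := d41_1 D529 (iv D529) F1996
theorem F2860 : act 7 n529 = n363 := d43_1 D529 (iv D363) D361
def n530 : Q := act 3 n362
theorem D530 : act 3 n362 = n530 := rfl
theorem F2861 : act 0 n530 = n530 := d2_1 D530 (iv D530) F1997
theorem F2862 : act 1 n530 = n391 := d10_1 D530 (iv D391) (iv F1998)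
theorem F2863 : act 2 n530 = n530 := d17_1 D530 (iv D530) (iv F2734) F2735 F2734
theorem F2864 : act 4 n530 = n530 := d24_2 (iv F1999) D530 (iv D530) F1999 F1413
theorem F2865 : act 6 n530 = n364 := d26_2 (iv F2000) D530 (iv D364)
theorem F2866 : act 8 n530 = n530 := d28_2 D362 D530 (iv D530) (iv D362) F1393
def n531 : Q := act 9 n362
theorem D531 : act 9 n362 = n531 := rfl
theorem F2867 : act 0 n531 = n531 := d8_1 D531 (iv D531) F1997
theorem F2868 : act 1 n531 = n392 := d16_1 D531 (iv D392) (iv F1998)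
theorem F2869 : act 4 n531 = n369 := d34_1 D531 (iv D369) (iv F1999)
theorem F2870 : act 6 n531 = n365 := d41_1 D531 (iv D365) (iv F2000)
def n532 : Q := act 8 n363
theorem D532 : act 8 n363 = n532 := rfl
theorem F2871 : act 0 n532 = n532 := d7_1 D532 (iv D532) F2001
theorem F2872 : act 1 n532 = n393 := d15_1 D532 (iv D393) (iv F2002)
theorem F2873 : act 4 n532 = n370 := d33_1 D532 (iv D370) (iv F2004)
theorem F2874 : act 6 n532 = n366 := d40_1 D532 (iv D366) (iv F2005)
def n533 : Q := act 9 n364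
theorem D533 : act 9 n364 = n533 := rfl
theorem F2875 : act 0 n533 = n533 := d8_1 D533 (iv D533) F2006
theorem F2876 : act 1 n533 = n395 := d16_1 D533 (iv D395) (iv F2007)
theorem F2877 : act 2 n533 = n533 := d23_1 D533 (iv D533) F2008
theorem F2878 : act 3 n533 = n365 := d29_1 D533 (iv D365) D364
theorem F2879 : act 4 n533 = n533 := d34_1 D533 (iv D533) F2009
theorem F2880 : act 5 n533 = n533 := d38_1 D533 (iv D533) F2010
theorem F2881 : act 7 n533 = n533 := d43_1 D533 (iv D533) F2011
def n534 : Q := act 8 n365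
theorem D534 : act 8 n365 = n534 := rfl
theorem F2882 : act 0 n534 = n534 := d7_1 D534 (iv D534) F2013
theorem F2883 : act 1 n534 = n396 := d15_1 D534 (iv D396) (iv F2014)
theorem F2884 : act 4 n534 = n371 := d33_1 D534 (iv D371) (iv F2015)
theorem F2885 : act 5 n534 = n534 := d37_1 D534 (iv D534) F2016
theorem F2886 : act 7 n534 = n534 := d42_1 D534 (iv D534) F2017
theorem F2887 : act 9 n534 = n366 := d44_2 D365 D534 (iv D366) (iv D248) D247
def n535 : Q := act 3 n366
theorem D535 : act 3 n366 = n535 := rfl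
theorem F2888 : act 0 n535 = n535 := d2_1 D535 (iv D535) F2018
theorem F2889 : act 1 n535 = n397 := d10_1 D535 (iv D397) (iv F2019)
theorem F2890 : act 5 n535 = n535 := d25_2 F2021 D535 (iv D535)
theorem F2891 : act 7 n535 = n535 := d27_2 F2022 D535 (iv D535)
theorem F2892 : act 8 n535 = n535 := d28_2 D366 D535 (iv D535) (iv D366) F1402
def n536 : Q := act 9 n367
theorem D536 : act 9 n367 = n536 := rfl
theorem F2893 : act 0 n536 = n536 := d8_1 D536 (iv D536) F2023
theorem F2894 : act 1 n536 = n398 := d16_1 D536 (iv D398) (iv F2024)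
theorem F2895 : act 3 n536 = n536 := d29_1 D536 (iv D536) F2025
theorem F2896 : act 5 n536 = n536 := d38_1 D536 (iv D536) F2026
theorem F2897 : act 6 n536 = n536 := d41_1 D536 (iv D536) F2027
theorem F2898 : act 7 n536 = n369 := d43_1 D536 (iv D369) (iv F2028)
def n537 : Q := act 8 n368
theorem D537 : act 8 n368 = n537 := rfl
theorem F2899 : act 0 n537 = n537 := d7_1 D537 (iv D537) F2029
theorem F2900 : act 1 n537 = n399 := d15_1 D537 (iv D399) (iv F2030)
theorem F2901 : act 5 n537 = n537 := d37_1 D537 (iv D537) F2032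
theorem F2902 : act 6 n537 = n537 := d40_1 D537 (iv D537) F2033
theorem F2903 : act 7 n537 = n370 := d42_1 D537 (iv D370) (iv F2034)
def n538 : Q := act 8 n369
theorem D538 : act 8 n369 = n538 := rfl
theorem F2904 : act 0 n538 = n538 := d7_1 D538 (iv D538) F2035
theorem F2905 : act 1 n538 = n400 := d15_1 D538 (iv D400) (iv F2036)
theorem F2906 : act 5 n538 = n538 := d37_1 D538 (iv D538) F2038
theorem F2907 : act 6 n538 = n371 := d40_1 D538 (iv D371) (iv F2039)
theorem F2908 : act 9 n538 = n370 := d44_2 D369 D538 (iv D370) (iv D251) D250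
def n539 : Q := act 3 n370
theorem D539 : act 3 n370 = n539 := rfl
theorem F2909 : act 0 n539 = n539 := d2_1 D539 (iv D539) F2040
theorem F2910 : act 1 n539 = n401 := d10_1 D539 (iv D401) (iv F2041)
theorem F2911 : act 5 n539 = n539 := d25_2 F2042 D539 (iv D539)
theorem F2912 : act 6 n539 = n372 := d26_2 (iv F2043) D539 (iv D372)
theorem F2913 : act 8 n539 = n377 := d28_2 D370 D539 (iv D377) (iv D257) (iv F1418)
def n540 : Q := act 3 n371
theorem D540 : act 3 n371 = n540 := rfl
theorem F2914 : act 0 n540 = n540 := d2_1 D540 (iv D540) F2044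
theorem F2915 : act 1 n540 = n402 := d10_1 D540 (iv D402) (iv F2045)
theorem F2916 : act 5 n540 = n373 := d25_2 (iv F2046) D540 (iv D373)
theorem F2917 : act 7 n540 = n540 := d27_2 F2047 D540 (iv D540)
theorem F2918 : act 8 n540 = n540 := d28_2 D371 D540 (iv D540) (iv D371) F1423
theorem F2919 : act 9 n540 = n372 := d29_2 (iv F2048) D540 (iv D372)
def n541 : Q := act 2 n372
theorem D541 : act 2 n372 = n541 := rfl
theorem F2920 : act 0 n541 = n541 := d1_1 D541 (iv D541) F2049
theorem F2921 : act 5 n541 = n374 := d19_2 (iv F2051) D541 (iv D374)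
theorem F2922 : act 7 n541 = n541 := d21_2 F2052 D541 (iv D541)
theorem F2923 : act 8 n541 = n378 := d22_2 (iv F2053) D541 (iv D378)
def n542 : Q := act 4 n372
theorem D542 : act 4 n372 = n542 := rfl
theorem F2924 : act 0 n542 = n542 := d3_1 D542 (iv D542) F2049
theorem F2925 : act 1 n542 = n404 := d11_1 D542 (iv D404) (iv F2050)
theorem F2926 : act 7 n542 = n542 := d32_2 F2052 D542 (iv D542)
theorem F2927 : act 8 n542 = n379 := d33_2 (iv F2053) D542 (iv D379)
def n543 : Q := act 2 n373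
theorem D543 : act 2 n373 = n543 := rfl
theorem F2928 : act 0 n543 = n543 := d1_1 D543 (iv D543) F2054
theorem F2929 : act 6 n543 = n543 := d20_2 F2056 D543 (iv D543)
theorem F2930 : act 7 n543 = n543 := d21_2 F2057 D543 (iv D543)
theorem F2931 : act 8 n543 = n543 := d22_2 F2058 D543 (iv D543)
theorem F2932 : act 9 n543 = n374 := d23_2 (iv F2059) D543 (iv D374)
def n544 : Q := act 4 n373
theorem D544 : act 4 n373 = n544 := rfl
theorem F2933 : act 0 n544 = n544 := d3_1 D544 (iv D544) F2054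
theorem F2934 : act 1 n544 = n406 := d11_1 D544 (iv D406) (iv F2055)
theorem F2935 : act 3 n544 = n544 := d24_1 D544 (iv D544) (iv D373) F1432 D373
theorem F2936 : act 6 n544 = n544 := d31_2 F2056 D544 (iv D544)
theorem F2937 : act 7 n544 = n544 := d32_2 F2057 D544 (iv D544)
theorem F2938 : act 8 n544 = n544 := d33_2 F2058 D544 (iv D544)
theorem F2939 : act 9 n544 = n375 := d34_2 (iv F2059) D544 (iv D375)
def n545 : Q := act 1 n374
theorem D545 : act 1 n374 = n545 := rfl
theorem F2940 : act 2 n545 = n407 := d9_2 D374 D545 (iv D407) (iv D277) (iv F1437)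
theorem F2941 : act 6 n545 = n545 := d13_2 F2061 D545 (iv D545)
theorem F2942 : act 7 n545 = n545 := d14_2 F2062 D545 (iv D545)
theorem F2943 : act 8 n545 = n380 := d15_2 (iv F2063) D545 (iv D380)
def n546 : Q := act 4 n374
theorem D546 : act 4 n374 = n546 := rfl
theorem F2944 : act 0 n546 = n546 := d3_1 D546 (iv D546) F2060
theorem F2945 : act 2 n546 = n375 := d18_1 D546 (iv D375) D374
theorem F2946 : act 6 n546 = n546 := d31_2 F2061 D546 (iv D546)
theorem F2947 : act 7 n546 = n546 := d32_2 F2062 D546 (iv D546)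
theorem F2948 : act 8 n546 = n381 := d33_2 (iv F2063) D546 (iv D381)
def n547 : Q := act 5 n375
theorem D547 : act 5 n375 = n547 := rfl
theorem F2949 : act 0 n547 = n547 := d4_1 D547 (iv D547) F2064
theorem F2950 : act 1 n547 = n409 := d12_1 D547 (iv D409) (iv F2065)
theorem F2951 : act 3 n547 = n547 := d25_1 D547 (iv D547) F2066
theorem F2952 : act 7 n547 = n547 := d36_2 F2068 D547 (iv D547)
theorem F2953 : act 8 n547 = n382 := d37_2 (iv F2069) D547 (iv D382)
def n548 : Q := act 3 n376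
theorem D548 : act 3 n376 = n548 := rfl
theorem F2954 : act 0 n548 = n548 := d2_1 D548 (iv D548) F2070
theorem F2955 : act 1 n548 = n410 := d10_1 D548 (iv D410) (iv F2071)
theorem F2956 : act 5 n548 = n548 := d25_2 F2074 D548 (iv D548)
theorem F2957 : act 6 n548 = n548 := d26_2 F2075 D548 (iv D548)
theorem F2958 : act 7 n548 = n377 := d27_2 (iv F2076) D548 (iv D377)
theorem F2959 : act 9 n548 = n548 := d29_2 F2077 D548 (iv D548)
def n549 : Q := act 2 n377
theorem D549 : act 2 n377 = n549 := rfl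
theorem F2960 : act 0 n549 = n549 := d1_1 D549 (iv D549) F2078
theorem F2961 : act 3 n549 = n549 := d17_2 D377 D549 (iv D549) (iv D377) F1450
theorem F2962 : act 5 n549 = n549 := d19_2 F2080 D549 (iv D549)
theorem F2963 : act 6 n549 = n378 := d20_2 (iv F2081) D549 (iv D378)
theorem F2964 : act 9 n549 = n549 := d23_2 F2082 D549 (iv D549)
def n550 : Q := act 4 n377
theorem D550 : act 4 n377 = n550 := rfl
theorem F2965 : act 0 n550 = n550 := d3_1 D550 (iv D550) F2078
theorem F2966 : act 1 n550 = n412 := d11_1 D550 (iv D412) (iv F2079)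
theorem F2967 : act 3 n550 = n550 := d24_1 D550 (iv D550) (iv D377) F1451 D377
theorem F2968 : act 6 n550 = n379 := d31_2 (iv F2081) D550 (iv D379)
theorem F2969 : act 9 n550 = n550 := d34_2 F2082 D550 (iv D550)
def n551 : Q := act 1 n378
theorem D551 : act 1 n378 = n551 := rfl
theorem F2970 : act 2 n551 = n413 := d9_2 D378 D551 (iv D413) (iv D281) (iv F1456)
theorem F2971 : act 3 n551 = n551 := d10_2 F2084 D551 (iv D551)
theorem F2972 : act 5 n551 = n380 := d12_2 (iv F2085) D551 (iv D380)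
theorem F2973 : act 7 n551 = n551 := d14_2 F2086 D551 (iv D551)
theorem F2974 : act 9 n551 = n551 := d16_2 F2087 D551 (iv D551)
def n552 : Q := act 4 n378
theorem D552 : act 4 n378 = n552 := rfl
theorem F2975 : act 0 n552 = n552 := d3_1 D552 (iv D552) F2083
theorem F2976 : act 2 n552 = n379 := d18_1 D552 (iv D379) D378
theorem F2977 : act 7 n552 = n552 := d32_2 F2086 D552 (iv D552)
theorem F2978 : act 9 n552 = n552 := d34_2 F2087 D552 (iv D552)
def n553 : Q := act 5 n379
theorem D553 : act 5 n379 = n553 := rfl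
theorem F2979 : act 0 n553 = n553 := d4_1 D553 (iv D553) F2088
theorem F2980 : act 1 n553 = n415 := d12_1 D553 (iv D415) (iv F2089)
theorem F2981 : act 3 n553 = n553 := d25_1 D553 (iv D553) F2090
theorem F2982 : act 4 n553 = n382 := d30_1 D553 (iv D382) (iv D260) (iv F1457) D379
theorem F2983 : act 7 n553 = n553 := d36_2 F2091 D553 (iv D553)
theorem F2984 : act 9 n553 = n553 := d38_2 F2092 D553 (iv D553)
def n554 : Q := act 0 n380
theorem D554 : act 0 n380 = n554 := rfl
theorem F2985 : act 1 n554 = n554 := d0_2 D380 D554 (iv D554) (iv D380) F1460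
theorem F2986 : act 2 n554 = n416 := d1_2 (iv F2093) D554 (iv D416)
theorem F2987 : act 3 n554 = n554 := d2_2 F2094 D554 (iv D554)
theorem F2988 : act 6 n554 = n554 := d5_2 F2095 D554 (iv D554)
theorem F2989 : act 7 n554 = n554 := d6_2 F2096 D554 (iv D554)
theorem F2990 : act 9 n554 = n554 := d8_2 F2097 D554 (iv D554)
def n555 : Q := act 4 n380
theorem D555 : act 4 n380 = n555 := rfl
theorem F2991 : act 1 n555 = n381 := d11_1 D555 (iv D381) D380
theorem F2992 : act 2 n555 = n417 := d18_1 D555 (iv D417) (iv F2093)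
theorem F2993 : act 6 n555 = n555 := d31_2 F2095 D555 (iv D555)
theorem F2994 : act 7 n555 = n555 := d32_2 F2096 D555 (iv D555)
theorem F2995 : act 9 n555 = n555 := d34_2 F2097 D555 (iv D555)
def n556 : Q := act 3 n381
theorem D556 : act 3 n381 = n556 := rfl
theorem F2996 : act 0 n556 = n556 := d2_1 D556 (iv D556) F2098
theorem F2997 : act 2 n556 = n383 := d17_1 D556 (iv D383) F1473 (iv F1467) (iv F2099)
theorem F2998 : act 4 n556 = n556 := d24_2 D381 D556 (iv D556) (iv D381) F1461
theorem F2999 : act 6 n556 = n556 := d26_2 F2100 D556 (iv D556)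
theorem F3000 : act 7 n556 = n556 := d27_2 F2101 D556 (iv D556)
theorem F3001 : act 9 n556 = n556 := d29_2 F2102 D556 (iv D556)
def n557 : Q := act 5 n381
theorem D557 : act 5 n381 = n557 := rfl
theorem F3002 : act 0 n557 = n557 := d4_1 D557 (iv D557) F2098
theorem F3003 : act 2 n557 = n382 := d19_1 D557 (iv D382) (iv F2099)
theorem F3004 : act 7 n557 = n557 := d36_2 F2101 D557 (iv D557)
theorem F3005 : act 9 n557 = n557 := d38_2 F2102 D557 (iv D557)
def n558 : Q := act 6 n382
theorem D558 : act 6 n382 = n558 := rfl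
theorem F3006 : act 0 n558 = n558 := d5_1 D558 (iv D558) F2103
theorem F3007 : act 1 n558 = n419 := d13_1 D558 (iv D419) (iv F2104)
theorem F3008 : act 3 n558 = n385 := d26_1 D558 (iv D385) (iv F2105)
theorem F3009 : act 5 n558 = n558 := d35_1 D558 (iv D558) (iv D382) F1468 D382
theorem F3010 : act 9 n558 = n558 := d41_2 F2107 D558 (iv D558)
def n559 : Q := act 5 n383
theorem D559 : act 5 n383 = n559 := rfl
theorem F3011 : act 0 n559 = n559 := d4_1 D559 (iv D559) F2108
theorem F3012 : act 1 n559 = n559 := d12_1 D559 (iv D559) F2109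
theorem F3013 : act 3 n559 = n384 := d25_1 D559 (iv D384) D383
theorem F3014 : act 7 n559 = n559 := d36_2 F2112 D559 (iv D559)
theorem F3015 : act 9 n559 = n559 := d38_2 F2113 D559 (iv D559)
def n560 : Q := act 8 n383
theorem D560 : act 8 n383 = n560 := rfl
theorem F3016 : act 0 n560 = n560 := d7_1 D560 (iv D560) F2108
theorem F3017 : act 1 n560 = n560 := d15_1 D560 (iv D560) F2109
theorem F3018 : act 3 n560 = n560 := d28_1 D560 (iv D560) (iv D383) F1476 D383
theorem F3019 : act 4 n560 = n560 := d33_1 D560 (iv D560) F2110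
theorem F3020 : act 6 n560 = n560 := d40_1 D560 (iv D560) F2111
theorem F3021 : act 7 n560 = n560 := d42_1 D560 (iv D560) F2112
def n561 : Q := act 6 n384
theorem D561 : act 6 n384 = n561 := rfl
theorem F3022 : act 0 n561 = n561 := d5_1 D561 (iv D561) F2114
theorem F3023 : act 1 n561 = n561 := d13_1 D561 (iv D561) F2115
theorem F3024 : act 2 n561 = n385 := d20_1 D561 (iv D385) (iv F2116)
theorem F3025 : act 4 n561 = n561 := d31_1 D561 (iv D561) F2117
theorem F3026 : act 5 n561 = n561 := d35_1 D561 (iv D561) (iv D384) F1474 D384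
theorem F3027 : act 8 n561 = n561 := d40_2 F2119 D561 (iv D561)
theorem F3028 : act 9 n561 = n561 := d41_2 F2120 D561 (iv D561)
def n562 : Q := act 7 n385
theorem D562 : act 7 n385 = n562 := rfl
theorem F3029 : act 0 n562 = n562 := d6_1 D562 (iv D562) F2121
theorem F3030 : act 1 n562 = n420 := d14_1 D562 (iv D420) (iv F2122)
theorem F3031 : act 4 n562 = n562 := d32_1 D562 (iv D562) F2123
theorem F3032 : act 5 n562 = n562 := d36_1 D562 (iv D562) F2124
theorem F3033 : act 6 n562 = n562 := d39_1 D562 (iv D562) (iv D385) F1481 D385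
theorem F3034 : act 8 n562 = n562 := d42_2 F2125 D562 (iv D562)
theorem F3035 : act 9 n562 = n562 := d43_2 F2126 D562 (iv D562)
def n563 : Q := act 6 n386
theorem D563 : act 6 n386 = n563 := rfl
theorem F3036 : act 0 n563 = n429 := d5_1 D563 (iv D429) (iv F2127)
theorem F3037 : act 2 n563 = n563 := d20_1 D563 (iv D563) F2128
theorem F3038 : act 3 n563 = n563 := d26_1 D563 (iv D563) F2129
theorem F3039 : act 4 n563 = n563 := d31_1 D563 (iv D563) F2130
theorem F3040 : act 5 n563 = n563 := d35_1 D563 (iv D563) F2131 F1493 (iv F2131)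
theorem F3041 : act 7 n563 = n563 := d39_2 D386 D563 (iv D563) (iv D386) F1488
def n564 : Q := act 8 n386
theorem D564 : act 8 n386 = n564 := rfl
theorem F3042 : act 0 n564 = n430 := d7_1 D564 (iv D430) (iv F2127)
theorem F3043 : act 2 n564 = n564 := d22_1 D564 (iv D564) F2128
theorem F3044 : act 4 n564 = n564 := d33_1 D564 (iv D564) F2130
theorem F3045 : act 5 n564 = n389 := d37_1 D564 (iv D389) (iv F2131)
theorem F3046 : act 7 n564 = n387 := d42_1 D564 (iv D387) D386
def n565 : Q := act 9 n386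
theorem D565 : act 9 n386 = n565 := rfl
theorem F3047 : act 0 n565 = n431 := d8_1 D565 (iv D431) (iv F2127)
theorem F3048 : act 2 n565 = n565 := d23_1 D565 (iv D565) F2128
theorem F3049 : act 3 n565 = n565 := d29_1 D565 (iv D565) F2129
theorem F3050 : act 4 n565 = n565 := d34_1 D565 (iv D565) F2130
theorem F3051 : act 5 n565 = n390 := d38_1 D565 (iv D390) (iv F2131)
theorem F3052 : act 7 n565 = n388 := d43_1 D565 (iv D388) D386
def n566 : Q := act 3 n387
theorem D566 : act 3 n387 = n566 := rfl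
theorem F3053 : act 0 n566 = n432 := d2_1 D566 (iv D432) (iv F2132)
theorem F3054 : act 5 n566 = n391 := d25_2 (iv F2135) D566 (iv D391)
theorem F3055 : act 6 n566 = n566 := d26_2 F2136 D566 (iv D566)
theorem F3056 : act 8 n566 = n566 := d28_2 D387 D566 (iv D566) (iv D387) F1486
def n567 : Q := act 9 n387
theorem D567 : act 9 n387 = n567 := rfl
theorem F3057 : act 0 n567 = n433 := d8_1 D567 (iv D433) (iv F2132)
theorem F3058 : act 2 n567 = n567 := d23_1 D567 (iv D567) F2133
theorem F3059 : act 4 n567 = n567 := d34_1 D567 (iv D567) F2134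
theorem F3060 : act 5 n567 = n392 := d38_1 D567 (iv D392) (iv F2135)
theorem F3061 : act 6 n567 = n567 := d41_1 D567 (iv D567) F2136
def n568 : Q := act 8 n388
theorem D568 : act 8 n388 = n568 := rfl
theorem F3062 : act 0 n568 = n434 := d7_1 D568 (iv D434) (iv F2137)
theorem F3063 : act 2 n568 = n568 := d22_1 D568 (iv D568) F2138
theorem F3064 : act 4 n568 = n568 := d33_1 D568 (iv D568) F2140
theorem F3065 : act 5 n568 = n393 := d37_1 D568 (iv D393) (iv F2141)
theorem F3066 : act 6 n568 = n568 := d40_1 D568 (iv D568) F2142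
def n569 : Q := act 3 n389
theorem D569 : act 3 n389 = n569 := rfl
theorem F3067 : act 0 n569 = n435 := d2_1 D569 (iv D435) (iv F2143)
theorem F3068 : act 4 n569 = n569 := d24_2 (iv F2145) D569 (iv D569) F2145 F1520
theorem F3069 : act 6 n569 = n569 := d26_2 F2146 D569 (iv D569)
theorem F3070 : act 7 n569 = n391 := d27_2 (iv F2147) D569 (iv D391)
theorem F3071 : act 8 n569 = n569 := d28_2 D389 D569 (iv D569) (iv D389) F1491
def n570 : Q := act 9 n389
theorem D570 : act 9 n389 = n570 := rfl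
theorem F3072 : act 0 n570 = n436 := d8_1 D570 (iv D436) (iv F2143)
theorem F3073 : act 2 n570 = n570 := d23_1 D570 (iv D570) F2144
theorem F3074 : act 4 n570 = n398 := d34_1 D570 (iv D398) (iv F2145)
theorem F3075 : act 6 n570 = n570 := d41_1 D570 (iv D570) F2146
theorem F3076 : act 7 n570 = n392 := d43_1 D570 (iv D392) (iv F2147)
def n571 : Q := act 8 n390
theorem D571 : act 8 n390 = n571 := rfl
theorem F3077 : act 0 n571 = n437 := d7_1 D571 (iv D437) (iv F2148)
theorem F3078 : act 2 n571 = n571 := d22_1 D571 (iv D571) F2149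
theorem F3079 : act 4 n571 = n399 := d33_1 D571 (iv D399) (iv F2151)
theorem F3080 : act 6 n571 = n571 := d40_1 D571 (iv D571) F2152
theorem F3081 : act 7 n571 = n393 := d42_1 D571 (iv D393) (iv F2153)
def n572 : Q := act 2 n391
theorem D572 : act 2 n391 = n572 := rfl
theorem F3082 : act 0 n572 = n438 := d1_1 D572 (iv D438) (iv F2154)
theorem F3083 : act 1 n572 = n572 := d9_1 D572 (iv D572) (iv F2862) F2863 F2862
theorem F3084 : act 3 n572 = n572 := d17_2 D391 D572 (iv D572) (iv D391) F1495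
theorem F3085 : act 4 n572 = n572 := d18_2 F2155 D572 (iv D572)
theorem F3086 : act 6 n572 = n394 := d20_2 (iv F2156) D572 (iv D394)
theorem F3087 : act 8 n572 = n572 := d22_2 F2157 D572 (iv D572)
def n573 : Q := act 9 n391
theorem D573 : act 9 n391 = n573 := rfl
theorem F3088 : act 0 n573 = n439 := d8_1 D573 (iv D439) (iv F2154)
theorem F3089 : act 3 n573 = n392 := d29_1 D573 (iv D392) D391
theorem F3090 : act 4 n573 = n573 := d34_1 D573 (iv D573) F2155
theorem F3091 : act 6 n573 = n395 := d41_1 D573 (iv D395) (iv F2156)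
def n574 : Q := act 8 n392
theorem D574 : act 8 n392 = n574 := rfl
theorem F3092 : act 0 n574 = n440 := d7_1 D574 (iv D440) (iv F2158)
theorem F3093 : act 2 n574 = n574 := d22_1 D574 (iv D574) F2159
theorem F3094 : act 4 n574 = n400 := d33_1 D574 (iv D400) (iv F2160)
theorem F3095 : act 6 n574 = n396 := d40_1 D574 (iv D396) (iv F2161)
theorem F3096 : act 9 n574 = n393 := d44_2 D392 D574 (iv D393) (iv D266) D265
def n575 : Q := act 3 n393
theorem D575 : act 3 n393 = n575 := rfl
theorem F3097 : act 0 n575 = n441 := d2_1 D575 (iv D441) (iv F2162)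
theorem F3098 : act 6 n575 = n397 := d26_2 (iv F2165) D575 (iv D397)
theorem F3099 : act 8 n575 = n575 := d28_2 D393 D575 (iv D575) (iv D393) F1500
def n576 : Q := act 9 n394
theorem D576 : act 9 n394 = n576 := rfl
theorem F3100 : act 0 n576 = n443 := d8_1 D576 (iv D443) (iv F2166)
theorem F3101 : act 1 n576 = n576 := d16_1 D576 (iv D576) F2167
theorem F3102 : act 2 n576 = n395 := d23_1 D576 (iv D395) D394
theorem F3103 : act 3 n576 = n576 := d29_1 D576 (iv D576) F2168
theorem F3104 : act 4 n576 = n576 := d34_1 D576 (iv D576) F2169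
theorem F3105 : act 5 n576 = n576 := d38_1 D576 (iv D576) F2170
theorem F3106 : act 7 n576 = n576 := d43_1 D576 (iv D576) F2171
def n577 : Q := act 8 n395
theorem D577 : act 8 n395 = n577 := rfl
theorem F3107 : act 0 n577 = n444 := d7_1 D577 (iv D444) (iv F2173)
theorem F3108 : act 4 n577 = n577 := d33_1 D577 (iv D577) F2175
theorem F3109 : act 5 n577 = n577 := d37_1 D577 (iv D577) F2176
theorem F3110 : act 7 n577 = n577 := d42_1 D577 (iv D577) F2177
theorem F3111 : act 9 n577 = n577 := d44_2 D395 D577 (iv D577) (iv D395) F1507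
def n578 : Q := act 3 n396
theorem D578 : act 3 n396 = n578 := rfl
theorem F3112 : act 0 n578 = n445 := d2_1 D578 (iv D445) (iv F2178)
theorem F3113 : act 5 n578 = n578 := d25_2 F2181 D578 (iv D578)
theorem F3114 : act 7 n578 = n578 := d27_2 F2182 D578 (iv D578)
theorem F3115 : act 9 n578 = n397 := d29_2 (iv F2183) D578 (iv D397)
def n579 : Q := act 2 n397
theorem D579 : act 2 n397 = n579 := rfl
theorem F3116 : act 0 n579 = n446 := d1_1 D579 (iv D446) (iv F2184)
theorem F3117 : act 3 n579 = n579 := d17_2 D397 D579 (iv D579) (iv D397) F1514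
theorem F3118 : act 5 n579 = n579 := d19_2 F2185 D579 (iv D579)
theorem F3119 : act 7 n579 = n579 := d21_2 F2186 D579 (iv D579)
theorem F3120 : act 8 n579 = n579 := d22_2 F2187 D579 (iv D579)
def n580 : Q := act 4 n397
theorem D580 : act 4 n397 = n580 := rfl
theorem F3121 : act 0 n580 = n447 := d3_1 D580 (iv D447) (iv F2184)
theorem F3122 : act 3 n580 = n404 := d24_1 D580 (iv D404) (iv D275) (iv F1515) D397
theorem F3123 : act 7 n580 = n580 := d32_2 F2186 D580 (iv D580)
theorem F3124 : act 8 n580 = n580 := d33_2 F2187 D580 (iv D580)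
def n581 : Q := act 8 n398
theorem D581 : act 8 n398 = n581 := rfl
theorem F3125 : act 0 n581 = n448 := d7_1 D581 (iv D448) (iv F2188)
theorem F3126 : act 2 n581 = n581 := d22_1 D581 (iv D581) F2189
theorem F3127 : act 5 n581 = n581 := d37_1 D581 (iv D581) F2191
theorem F3128 : act 6 n581 = n581 := d40_1 D581 (iv D581) F2192
theorem F3129 : act 7 n581 = n400 := d42_1 D581 (iv D400) (iv F2193)
theorem F3130 : act 9 n581 = n399 := d44_2 D398 D581 (iv D399) (iv D271) D270
def n582 : Q := act 3 n399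
theorem D582 : act 3 n399 = n582 := rfl
theorem F3131 : act 0 n582 = n449 := d2_1 D582 (iv D449) (iv F2194)
theorem F3132 : act 5 n582 = n582 := d25_2 F2196 D582 (iv D582)
theorem F3133 : act 6 n582 = n582 := d26_2 F2197 D582 (iv D582)
theorem F3134 : act 7 n582 = n401 := d27_2 (iv F2198) D582 (iv D401)
theorem F3135 : act 8 n582 = n410 := d28_2 D399 D582 (iv D410) (iv D279) (iv F1526)
def n583 : Q := act 3 n400
theorem D583 : act 3 n400 = n583 := rfl
theorem F3136 : act 0 n583 = n450 := d2_1 D583 (iv D450) (iv F2199)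
theorem F3137 : act 5 n583 = n583 := d25_2 F2201 D583 (iv D583)
theorem F3138 : act 6 n583 = n402 := d26_2 (iv F2202) D583 (iv D402)
theorem F3139 : act 8 n583 = n583 := d28_2 D400 D583 (iv D583) (iv D400) F1532
theorem F3140 : act 9 n583 = n401 := d29_2 (iv F2203) D583 (iv D401)
def n584 : Q := act 2 n401
theorem D584 : act 2 n401 = n584 := rfl
theorem F3141 : act 0 n584 = n451 := d1_1 D584 (iv D451) (iv F2204)
theorem F3142 : act 3 n584 = n584 := d17_2 D401 D584 (iv D584) (iv D401) F1536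
theorem F3143 : act 5 n584 = n584 := d19_2 F2205 D584 (iv D584)
theorem F3144 : act 6 n584 = n403 := d20_2 (iv F2206) D584 (iv D403)
theorem F3145 : act 8 n584 = n411 := d22_2 (iv F2207) D584 (iv D411)
def n585 : Q := act 4 n401
theorem D585 : act 4 n401 = n585 := rfl
theorem F3146 : act 0 n585 = n452 := d3_1 D585 (iv D452) (iv F2204)
theorem F3147 : act 6 n585 = n404 := d31_2 (iv F2206) D585 (iv D404)
theorem F3148 : act 8 n585 = n412 := d33_2 (iv F2207) D585 (iv D412)
def n586 : Q := act 2 n402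
theorem D586 : act 2 n402 = n586 := rfl
theorem F3149 : act 0 n586 = n453 := d1_1 D586 (iv D453) (iv F2208)
theorem F3150 : act 3 n586 = n586 := d17_2 D402 D586 (iv D586) (iv D402) F1540
theorem F3151 : act 5 n586 = n405 := d19_2 (iv F2209) D586 (iv D405)
theorem F3152 : act 7 n586 = n586 := d21_2 F2210 D586 (iv D586)
theorem F3153 : act 8 n586 = n586 := d22_2 F2211 D586 (iv D586)
theorem F3154 : act 9 n586 = n403 := d23_2 (iv F2212) D586 (iv D403)
def n587 : Q := act 4 n402
theorem D587 : act 4 n402 = n587 := rfl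
theorem F3155 : act 0 n587 = n454 := d3_1 D587 (iv D454) (iv F2208)
theorem F3156 : act 7 n587 = n587 := d32_2 F2210 D587 (iv D587)
theorem F3157 : act 8 n587 = n587 := d33_2 F2211 D587 (iv D587)
theorem F3158 : act 9 n587 = n404 := d34_2 (iv F2212) D587 (iv D404)
def n588 : Q := act 1 n403
theorem D588 : act 1 n403 = n588 := rfl
theorem F3159 : act 3 n588 = n588 := d10_2 F2214 D588 (iv D588)
theorem F3160 : act 5 n588 = n407 := d12_2 (iv F2215) D588 (iv D407)
theorem F3161 : act 7 n588 = n588 := d14_2 F2216 D588 (iv D588)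
theorem F3162 : act 8 n588 = n413 := d15_2 (iv F2217) D588 (iv D413)
def n589 : Q := act 4 n403
theorem D589 : act 4 n403 = n589 := rfl
theorem F3163 : act 0 n589 = n456 := d3_1 D589 (iv D456) (iv F2213)
theorem F3164 : act 2 n589 = n404 := d18_1 D589 (iv D404) D403
theorem F3165 : act 7 n589 = n589 := d32_2 F2216 D589 (iv D589)
theorem F3166 : act 8 n589 = n414 := d33_2 (iv F2217) D589 (iv D414)
def n590 : Q := act 5 n404
theorem D590 : act 5 n404 = n590 := rfl
theorem F3167 : act 0 n590 = n457 := d4_1 D590 (iv D457) (iv F2218)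
theorem F3168 : act 4 n590 = n409 := d30_1 D590 (iv D409) (iv D278) (iv F1545) D404
theorem F3169 : act 7 n590 = n590 := d36_2 F2219 D590 (iv D590)
theorem F3170 : act 8 n590 = n415 := d37_2 (iv F2220) D590 (iv D415)
def n591 : Q := act 1 n405
theorem D591 : act 1 n405 = n591 := rfl
theorem F3171 : act 3 n591 = n591 := d10_2 F2222 D591 (iv D591)
theorem F3172 : act 6 n591 = n591 := d13_2 F2223 D591 (iv D591)
theorem F3173 : act 7 n591 = n591 := d14_2 F2224 D591 (iv D591)
theorem F3174 : act 8 n591 = n591 := d15_2 F2225 D591 (iv D591)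
theorem F3175 : act 9 n591 = n407 := d16_2 (iv F2226) D591 (iv D407)
def n592 : Q := act 4 n405
theorem D592 : act 4 n405 = n592 := rfl
theorem F3176 : act 0 n592 = n459 := d3_1 D592 (iv D459) (iv F2221)
theorem F3177 : act 2 n592 = n406 := d18_1 D592 (iv D406) D405
theorem F3178 : act 6 n592 = n592 := d31_2 F2223 D592 (iv D592)
theorem F3179 : act 7 n592 = n592 := d32_2 F2224 D592 (iv D592)
theorem F3180 : act 8 n592 = n592 := d33_2 F2225 D592 (iv D592)
theorem F3181 : act 9 n592 = n408 := d34_2 (iv F2226) D592 (iv D408)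
def n593 : Q := act 5 n406
theorem D593 : act 5 n406 = n593 := rfl
theorem F3182 : act 0 n593 = n460 := d4_1 D593 (iv D460) (iv F2227)
theorem F3183 : act 3 n593 = n593 := d25_1 D593 (iv D593) F2228
theorem F3184 : act 7 n593 = n593 := d36_2 F2230 D593 (iv D593)
theorem F3185 : act 8 n593 = n593 := d37_2 F2231 D593 (iv D593)
theorem F3186 : act 9 n593 = n409 := d38_2 (iv F2232) D593 (iv D409)
def n594 : Q := act 0 n407
theorem D594 : act 0 n407 = n594 := rfl
theorem F3187 : act 1 n594 = n461 := d0_2 D407 D594 (iv D461) (iv D314) (iv F1553)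
theorem F3188 : act 3 n594 = n594 := d2_2 F2233 D594 (iv D594)
theorem F3189 : act 6 n594 = n594 := d5_2 F2234 D594 (iv D594)
theorem F3190 : act 7 n594 = n594 := d6_2 F2235 D594 (iv D594)
theorem F3191 : act 8 n594 = n416 := d7_2 (iv F2236) D594 (iv D416)
def n595 : Q := act 4 n407
theorem D595 : act 4 n407 = n595 := rfl
theorem F3192 : act 1 n595 = n408 := d11_1 D595 (iv D408) D407
theorem F3193 : act 6 n595 = n595 := d31_2 F2234 D595 (iv D595)
theorem F3194 : act 7 n595 = n595 := d32_2 F2235 D595 (iv D595)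
theorem F3195 : act 8 n595 = n417 := d33_2 (iv F2236) D595 (iv D417)
def n596 : Q := act 3 n408
theorem D596 : act 3 n408 = n596 := rfl
theorem F3196 : act 0 n596 = n463 := d2_1 D596 (iv D463) (iv F2237)
theorem F3197 : act 2 n596 = n596 := d17_1 D596 (iv D596) F2238 F1559 (iv F2238)
theorem F3198 : act 4 n596 = n596 := d24_2 D408 D596 (iv D596) (iv D408) F1554
theorem F3199 : act 6 n596 = n596 := d26_2 F2239 D596 (iv D596)
theorem F3200 : act 7 n596 = n596 := d27_2 F2240 D596 (iv D596)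
theorem F3201 : act 8 n596 = n596 := d28_2 (iv F2241) D596 (iv D596) F2241 F1589
def n597 : Q := act 5 n408
theorem D597 : act 5 n408 = n597 := rfl
theorem F3202 : act 0 n597 = n464 := d4_1 D597 (iv D464) (iv F2237)
theorem F3203 : act 2 n597 = n409 := d19_1 D597 (iv D409) (iv F2238)
theorem F3204 : act 7 n597 = n597 := d36_2 F2240 D597 (iv D597)
theorem F3205 : act 8 n597 = n418 := d37_2 (iv F2241) D597 (iv D418)
def n598 : Q := act 6 n409
theorem D598 : act 6 n409 = n598 := rfl
theorem F3206 : act 0 n598 = n465 := d5_1 D598 (iv D465) (iv F2242)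
theorem F3207 : act 3 n598 = n598 := d26_1 D598 (iv D598) F2243
theorem F3208 : act 5 n598 = n598 := d35_1 D598 (iv D598) (iv D409) F1560 D409
theorem F3209 : act 8 n598 = n419 := d40_2 (iv F2245) D598 (iv D419)
def n599 : Q := act 2 n410
theorem D599 : act 2 n410 = n599 := rfl
theorem F3210 : act 0 n599 = n466 := d1_1 D599 (iv D466) (iv F2246)
theorem F3211 : act 3 n599 = n421 := d17_2 D410 D599 (iv D421) (iv D287) (iv F1564)
theorem F3212 : act 5 n599 = n599 := d19_2 F2247 D599 (iv D599)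
theorem F3213 : act 6 n599 = n599 := d20_2 F2248 D599 (iv D599)
theorem F3214 : act 7 n599 = n411 := d21_2 (iv F2249) D599 (iv D411)
theorem F3215 : act 9 n599 = n599 := d23_2 F2250 D599 (iv D599)
def n600 : Q := act 4 n410
theorem D600 : act 4 n410 = n600 := rfl
theorem F3216 : act 0 n600 = n467 := d3_1 D600 (iv D467) (iv F2246)
theorem F3217 : act 3 n600 = n600 := d24_1 D600 (iv D600) (iv D410) F1565 D410
theorem F3218 : act 6 n600 = n600 := d31_2 F2248 D600 (iv D600)
theorem F3219 : act 7 n600 = n412 := d32_2 (iv F2249) D600 (iv D412)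
theorem F3220 : act 9 n600 = n600 := d34_2 F2250 D600 (iv D600)
def n601 : Q := act 1 n411
theorem D601 : act 1 n411 = n601 := rfl
theorem F3221 : act 3 n601 = n423 := d10_2 (iv F2252) D601 (iv D423)
theorem F3222 : act 5 n601 = n601 := d12_2 F2253 D601 (iv D601)
theorem F3223 : act 6 n601 = n413 := d13_2 (iv F2254) D601 (iv D413)
theorem F3224 : act 9 n601 = n601 := d16_2 F2255 D601 (iv D601)
def n602 : Q := act 4 n411
theorem D602 : act 4 n411 = n602 := rfl
theorem F3225 : act 0 n602 = n469 := d3_1 D602 (iv D469) (iv F2251)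
theorem F3226 : act 2 n602 = n412 := d18_1 D602 (iv D412) D411
theorem F3227 : act 6 n602 = n414 := d31_2 (iv F2254) D602 (iv D414)
theorem F3228 : act 9 n602 = n602 := d34_2 F2255 D602 (iv D602)
def n603 : Q := act 5 n412
theorem D603 : act 5 n412 = n603 := rfl
theorem F3229 : act 0 n603 = n470 := d4_1 D603 (iv D470) (iv F2256)
theorem F3230 : act 3 n603 = n603 := d25_1 D603 (iv D603) F2257
theorem F3231 : act 4 n603 = n603 := d30_1 D603 (iv D603) (iv D412) F1571 D412
theorem F3232 : act 9 n603 = n603 := d38_2 F2259 D603 (iv D603)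
def n604 : Q := act 0 n413
theorem D604 : act 0 n413 = n604 := rfl
theorem F3233 : act 1 n604 = n471 := d0_2 D413 D604 (iv D471) (iv D320) (iv F1574)
theorem F3234 : act 3 n604 = n426 := d2_2 (iv F2260) D604 (iv D426)
theorem F3235 : act 5 n604 = n416 := d4_2 (iv F2261) D604 (iv D416)
theorem F3236 : act 7 n604 = n604 := d6_2 F2262 D604 (iv D604)
theorem F3237 : act 9 n604 = n604 := d8_2 F2263 D604 (iv D604)
def n605 : Q := act 4 n413
theorem D605 : act 4 n413 = n605 := rfl
theorem F3238 : act 1 n605 = n414 := d11_1 D605 (iv D414) D413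
theorem F3239 : act 7 n605 = n605 := d32_2 F2262 D605 (iv D605)
theorem F3240 : act 9 n605 = n605 := d34_2 F2263 D605 (iv D605)
def n606 : Q := act 3 n414
theorem D606 : act 3 n414 = n606 := rfl
theorem F3241 : act 0 n606 = n473 := d2_1 D606 (iv D473) (iv F2264)
theorem F3242 : act 2 n606 = n606 := d17_1 D606 (iv D606) F2265 F1580 (iv F2265)
theorem F3243 : act 4 n606 = n428 := d24_2 D414 D606 (iv D428) (iv D291) (iv F1575)
theorem F3244 : act 7 n606 = n606 := d27_2 F2266 D606 (iv D606)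
theorem F3245 : act 9 n606 = n606 := d29_2 F2267 D606 (iv D606)
def n607 : Q := act 5 n414
theorem D607 : act 5 n414 = n607 := rfl
theorem F3246 : act 0 n607 = n474 := d4_1 D607 (iv D474) (iv F2264)
theorem F3247 : act 2 n607 = n415 := d19_1 D607 (iv D415) (iv F2265)
theorem F3248 : act 4 n607 = n418 := d30_1 D607 (iv D418) (iv D284) (iv F1576) D414
theorem F3249 : act 7 n607 = n607 := d36_2 F2266 D607 (iv D607)
theorem F3250 : act 9 n607 = n607 := d38_2 F2267 D607 (iv D607)
def n608 : Q := act 6 n415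
theorem D608 : act 6 n415 = n608 := rfl
theorem F3251 : act 0 n608 = n475 := d5_1 D608 (iv D475) (iv F2268)
theorem F3252 : act 3 n608 = n608 := d26_1 D608 (iv D608) F2269
theorem F3253 : act 4 n608 = n419 := d31_1 D608 (iv D419) (iv F2270)
theorem F3254 : act 9 n608 = n608 := d41_2 F2272 D608 (iv D608)
def n609 : Q := act 4 n416
theorem D609 : act 4 n416 = n609 := rfl
theorem F3255 : act 0 n609 = n417 := d3_1 D609 (iv D417) D416
theorem F3256 : act 1 n609 = n476 := d11_1 D609 (iv D476) (iv F2273)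
theorem F3257 : act 3 n609 = n609 := d24_1 D609 (iv D609) F2274 F1634 (iv F2274)
theorem F3258 : act 6 n609 = n609 := d31_2 F2275 D609 (iv D609)
theorem F3259 : act 7 n609 = n609 := d32_2 F2276 D609 (iv D609)
theorem F3260 : act 9 n609 = n609 := d34_2 F2277 D609 (iv D609)
def n610 : Q := act 5 n417
theorem D610 : act 5 n417 = n610 := rfl
theorem F3261 : act 1 n610 = n418 := d12_1 D610 (iv D418) (iv F2278)
theorem F3262 : act 3 n610 = n610 := d25_1 D610 (iv D610) F2279
theorem F3263 : act 7 n610 = n610 := d36_2 F2281 D610 (iv D610)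
theorem F3264 : act 9 n610 = n610 := d38_2 F2282 D610 (iv D610)
def n611 : Q := act 6 n418
theorem D611 : act 6 n418 = n611 := rfl
theorem F3265 : act 0 n611 = n478 := d5_1 D611 (iv D478) (iv F2283)
theorem F3266 : act 2 n611 = n419 := d20_1 D611 (iv D419) (iv F2284)
theorem F3267 : act 3 n611 = n611 := d26_1 D611 (iv D611) F2285
theorem F3268 : act 5 n611 = n611 := d35_1 D611 (iv D611) (iv D418) F1590 D418
theorem F3269 : act 9 n611 = n611 := d41_2 F2287 D611 (iv D611)
def n612 : Q := act 7 n419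
theorem D612 : act 7 n419 = n612 := rfl
theorem F3270 : act 0 n612 = n479 := d6_1 D612 (iv D479) (iv F2288)
theorem F3271 : act 3 n612 = n420 := d27_1 D612 (iv D420) (iv F2289)
theorem F3272 : act 5 n612 = n612 := d36_1 D612 (iv D612) F2290
theorem F3273 : act 6 n612 = n612 := d39_1 D612 (iv D612) (iv D419) F1595 D419
theorem F3274 : act 9 n612 = n612 := d43_2 F2291 D612 (iv D612)
def n613 : Q := act 1 n421
theorem D613 : act 1 n421 = n613 := rfl
theorem F3275 : act 2 n613 = n613 := d9_2 D421 D613 (iv D613) (iv D421) F1604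
theorem F3276 : act 5 n613 = n613 := d12_2 F2300 D613 (iv D613)
theorem F3277 : act 6 n613 = n613 := d13_2 F2301 D613 (iv D613)
theorem F3278 : act 7 n613 = n423 := d14_2 (iv F2302) D613 (iv D423)
theorem F3279 : act 8 n613 = n613 := d15_2 F2303 D613 (iv D613)
theorem F3280 : act 9 n613 = n613 := d16_2 F2304 D613 (iv D613)
def n614 : Q := act 4 n421
theorem D614 : act 4 n421 = n614 := rfl
theorem F3281 : act 0 n614 = n481 := d3_1 D614 (iv D481) (iv F2299)
theorem F3282 : act 2 n614 = n422 := d18_1 D614 (iv D422) D421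
theorem F3283 : act 6 n614 = n614 := d31_2 F2301 D614 (iv D614)
theorem F3284 : act 7 n614 = n424 := d32_2 (iv F2302) D614 (iv D424)
theorem F3285 : act 8 n614 = n614 := d33_2 F2303 D614 (iv D614)
theorem F3286 : act 9 n614 = n614 := d34_2 F2304 D614 (iv D614)
def n615 : Q := act 5 n422
theorem D615 : act 5 n422 = n615 := rfl
theorem F3287 : act 0 n615 = n482 := d4_1 D615 (iv D482) (iv F2305)
theorem F3288 : act 1 n615 = n615 := d12_1 D615 (iv D615) F2306
theorem F3289 : act 3 n615 = n615 := d25_1 D615 (iv D615) F2307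
theorem F3290 : act 4 n615 = n615 := d30_1 D615 (iv D615) (iv D422) F1605 D422
theorem F3291 : act 7 n615 = n425 := d36_2 (iv F2309) D615 (iv D425)
theorem F3292 : act 8 n615 = n615 := d37_2 F2310 D615 (iv D615)
theorem F3293 : act 9 n615 = n615 := d38_2 F2311 D615 (iv D615)
def n616 : Q := act 0 n423
theorem D616 : act 0 n423 = n616 := rfl
theorem F3294 : act 1 n616 = n483 := d0_2 D423 D616 (iv D483) (iv D330) (iv F1610)
theorem F3295 : act 2 n616 = n616 := d1_2 F2312 D616 (iv D616)
theorem F3296 : act 5 n616 = n616 := d4_2 F2313 D616 (iv D616)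
theorem F3297 : act 6 n616 = n426 := d5_2 (iv F2314) D616 (iv D426)
theorem F3298 : act 8 n616 = n616 := d7_2 F2315 D616 (iv D616)
theorem F3299 : act 9 n616 = n616 := d8_2 F2316 D616 (iv D616)
def n617 : Q := act 4 n423
theorem D617 : act 4 n423 = n617 := rfl
theorem F3300 : act 1 n617 = n424 := d11_1 D617 (iv D424) D423
theorem F3301 : act 2 n617 = n617 := d18_1 D617 (iv D617) F2312
theorem F3302 : act 6 n617 = n427 := d31_2 (iv F2314) D617 (iv D427)
theorem F3303 : act 8 n617 = n617 := d33_2 F2315 D617 (iv D617)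
theorem F3304 : act 9 n617 = n617 := d34_2 F2316 D617 (iv D617)
def n618 : Q := act 3 n424
theorem D618 : act 3 n424 = n618 := rfl
theorem F3305 : act 0 n618 = n485 := d2_1 D618 (iv D485) (iv F2317)
theorem F3306 : act 2 n618 = n618 := d17_1 D618 (iv D618) F2318 F1617 (iv F2318)
theorem F3307 : act 6 n618 = n428 := d26_2 (iv F2319) D618 (iv D428)
theorem F3308 : act 9 n618 = n618 := d29_2 F2321 D618 (iv D618)
def n619 : Q := act 5 n424
theorem D619 : act 5 n424 = n619 := rfl
theorem F3309 : act 0 n619 = n486 := d4_1 D619 (iv D486) (iv F2317)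
theorem F3310 : act 2 n619 = n425 := d19_1 D619 (iv D425) (iv F2318)
theorem F3311 : act 4 n619 = n619 := d30_1 D619 (iv D619) (iv D424) F1611 D424
theorem F3312 : act 6 n619 = n619 := d35_2 (iv F2319) D619 (iv D619) F2319 F1628
theorem F3313 : act 8 n619 = n619 := d37_2 F2320 D619 (iv D619)
theorem F3314 : act 9 n619 = n619 := d38_2 F2321 D619 (iv D619)
def n620 : Q := act 4 n426
theorem D620 : act 4 n426 = n620 := rfl
theorem F3315 : act 0 n620 = n427 := d3_1 D620 (iv D427) D426
theorem F3316 : act 1 n620 = n487 := d11_1 D620 (iv D487) (iv F2329)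
theorem F3317 : act 2 n620 = n620 := d18_1 D620 (iv D620) F2330
theorem F3318 : act 5 n620 = n620 := d30_2 (iv F2331) D620 (iv D620) F2331 F1634
theorem F3319 : act 7 n620 = n620 := d32_2 F2332 D620 (iv D620)
theorem F3320 : act 8 n620 = n620 := d33_2 F2333 D620 (iv D620)
theorem F3321 : act 9 n620 = n620 := d34_2 F2334 D620 (iv D620)
def n621 : Q := act 3 n427
theorem D621 : act 3 n427 = n621 := rfl
theorem F3322 : act 1 n621 = n428 := d10_1 D621 (iv D428) (iv F2335)
theorem F3323 : act 5 n621 = n621 := d25_2 F2337 D621 (iv D621)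
theorem F3324 : act 7 n621 = n621 := d27_2 F2338 D621 (iv D621)
theorem F3325 : act 9 n621 = n621 := d29_2 F2340 D621 (iv D621)
def n622 : Q := act 8 n428
theorem D622 : act 8 n428 = n622 := rfl
theorem F3326 : act 0 n622 = n489 := d7_1 D622 (iv D489) (iv F2341)
theorem F3327 : act 2 n622 = n622 := d22_1 D622 (iv D622) F2342
theorem F3328 : act 3 n622 = n622 := d28_1 D622 (iv D622) (iv D428) F1630 D428
theorem F3329 : act 5 n622 = n622 := d37_1 D622 (iv D622) F2343
theorem F3330 : act 7 n622 = n622 := d42_1 D622 (iv D622) F2344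
def n623 : Q := act 8 n429
theorem D623 : act 8 n429 = n623 := rfl
theorem F3331 : act 1 n623 = n623 := d15_1 D623 (iv D623) F2346
theorem F3332 : act 2 n623 = n623 := d22_1 D623 (iv D623) F2347
theorem F3333 : act 4 n623 = n623 := d33_1 D623 (iv D623) F2349
theorem F3334 : act 5 n623 = n623 := d37_1 D623 (iv D623) F2350
theorem F3335 : act 6 n623 = n430 := d40_1 D623 (iv D430) D429
theorem F3336 : act 7 n623 = n623 := d42_1 D623 (iv D623) F2351
def n624 : Q := act 9 n429
theorem D624 : act 9 n429 = n624 := rfl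
theorem F3337 : act 1 n624 = n624 := d16_1 D624 (iv D624) F2346
theorem F3338 : act 2 n624 = n624 := d23_1 D624 (iv D624) F2347
theorem F3339 : act 3 n624 = n624 := d29_1 D624 (iv D624) F2348
theorem F3340 : act 4 n624 = n624 := d34_1 D624 (iv D624) F2349
theorem F3341 : act 5 n624 = n624 := d38_1 D624 (iv D624) F2350
theorem F3342 : act 6 n624 = n431 := d41_1 D624 (iv D431) D429
theorem F3343 : act 7 n624 = n624 := d43_1 D624 (iv D624) F2351
def n625 : Q := act 3 n430
theorem D625 : act 3 n430 = n625 := rfl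
theorem F3344 : act 1 n625 = n625 := d10_1 D625 (iv D625) F2352
theorem F3345 : act 5 n625 = n435 := d25_2 (iv F2355) D625 (iv D435)
theorem F3346 : act 7 n625 = n432 := d27_2 (iv F2356) D625 (iv D432)
theorem F3347 : act 8 n625 = n625 := d28_2 D430 D625 (iv D625) (iv D430) F1641
def n626 : Q := act 9 n430
theorem D626 : act 9 n430 = n626 := rfl
theorem F3348 : act 1 n626 = n626 := d16_1 D626 (iv D626) F2352
theorem F3349 : act 2 n626 = n626 := d23_1 D626 (iv D626) F2353
theorem F3350 : act 4 n626 = n626 := d34_1 D626 (iv D626) F2354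
theorem F3351 : act 5 n626 = n436 := d38_1 D626 (iv D436) (iv F2355)
theorem F3352 : act 7 n626 = n433 := d43_1 D626 (iv D433) (iv F2356)
def n627 : Q := act 8 n431
theorem D627 : act 8 n431 = n627 := rfl
theorem F3353 : act 1 n627 = n627 := d15_1 D627 (iv D627) F2357
theorem F3354 : act 2 n627 = n627 := d22_1 D627 (iv D627) F2358
theorem F3355 : act 4 n627 = n627 := d33_1 D627 (iv D627) F2360
theorem F3356 : act 5 n627 = n437 := d37_1 D627 (iv D437) (iv F2361)
theorem F3357 : act 7 n627 = n434 := d42_1 D627 (iv D434) (iv F2362)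
def n628 : Q := act 2 n432
theorem D628 : act 2 n432 = n628 := rfl
theorem F3358 : act 3 n628 = n628 := d17_2 D432 D628 (iv D628) (iv D432) F1645
theorem F3359 : act 5 n628 = n438 := d19_2 (iv F2364) D628 (iv D438)
theorem F3360 : act 6 n628 = n628 := d20_2 F2365 D628 (iv D628)
theorem F3361 : act 8 n628 = n628 := d22_2 F2366 D628 (iv D628)
def n629 : Q := act 4 n432
theorem D629 : act 4 n432 = n629 := rfl
theorem F3362 : act 1 n629 = n629 := d11_1 D629 (iv D629) F2363
theorem F3363 : act 3 n629 = n629 := d24_1 D629 (iv D629) (iv D432) F1646 D432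
theorem F3364 : act 5 n629 = n629 := d30_2 (iv F2364) D629 (iv D629) F2364 F1667
theorem F3365 : act 6 n629 = n629 := d31_2 F2365 D629 (iv D629)
theorem F3366 : act 8 n629 = n629 := d33_2 F2366 D629 (iv D629)
def n630 : Q := act 9 n432
theorem D630 : act 9 n432 = n630 := rfl
theorem F3367 : act 1 n630 = n630 := d16_1 D630 (iv D630) F2363
theorem F3368 : act 3 n630 = n433 := d29_1 D630 (iv D433) D432
theorem F3369 : act 5 n630 = n439 := d38_1 D630 (iv D439) (iv F2364)
theorem F3370 : act 6 n630 = n630 := d41_1 D630 (iv D630) F2365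
def n631 : Q := act 8 n433
theorem D631 : act 8 n433 = n631 := rfl
theorem F3371 : act 1 n631 = n631 := d15_1 D631 (iv D631) F2367
theorem F3372 : act 2 n631 = n631 := d22_1 D631 (iv D631) F2368
theorem F3373 : act 4 n631 = n631 := d33_1 D631 (iv D631) F2369
theorem F3374 : act 5 n631 = n440 := d37_1 D631 (iv D440) (iv F2370)
theorem F3375 : act 6 n631 = n631 := d40_1 D631 (iv D631) F2371
theorem F3376 : act 9 n631 = n434 := d44_2 D433 D631 (iv D434) (iv D295) D294
def n632 : Q := act 3 n434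
theorem D632 : act 3 n434 = n632 := rfl
theorem F3377 : act 1 n632 = n632 := d10_1 D632 (iv D632) F2372
theorem F3378 : act 5 n632 = n441 := d25_2 (iv F2375) D632 (iv D441)
theorem F3379 : act 6 n632 = n632 := d26_2 F2376 D632 (iv D632)
theorem F3380 : act 8 n632 = n632 := d28_2 D434 D632 (iv D632) (iv D434) F1651
def n633 : Q := act 2 n435
theorem D633 : act 2 n435 = n633 := rfl
theorem F3381 : act 3 n633 = n633 := d17_2 D435 D633 (iv D633) (iv D435) F1656
theorem F3382 : act 4 n633 = n633 := d18_2 F2378 D633 (iv D633)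
theorem F3383 : act 6 n633 = n633 := d20_2 F2379 D633 (iv D633)
theorem F3384 : act 7 n633 = n438 := d21_2 (iv F2380) D633 (iv D438)
theorem F3385 : act 8 n633 = n633 := d22_2 F2381 D633 (iv D633)
def n634 : Q := act 9 n435
theorem D634 : act 9 n435 = n634 := rfl
theorem F3386 : act 1 n634 = n634 := d16_1 D634 (iv D634) F2377
theorem F3387 : act 3 n634 = n436 := d29_1 D634 (iv D436) D435
theorem F3388 : act 4 n634 = n634 := d34_1 D634 (iv D634) F2378
theorem F3389 : act 6 n634 = n634 := d41_1 D634 (iv D634) F2379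
theorem F3390 : act 7 n634 = n439 := d43_1 D634 (iv D439) (iv F2380)
def n635 : Q := act 8 n436
theorem D635 : act 8 n436 = n635 := rfl
theorem F3391 : act 1 n635 = n635 := d15_1 D635 (iv D635) F2382
theorem F3392 : act 2 n635 = n635 := d22_1 D635 (iv D635) F2383
theorem F3393 : act 4 n635 = n448 := d33_1 D635 (iv D448) (iv F2384)
theorem F3394 : act 6 n635 = n635 := d40_1 D635 (iv D635) F2385
theorem F3395 : act 7 n635 = n440 := d42_1 D635 (iv D440) (iv F2386)
theorem F3396 : act 9 n635 = n437 := d44_2 D436 D635 (iv D437) (iv D297) D296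
def n636 : Q := act 3 n437
theorem D636 : act 3 n437 = n636 := rfl
theorem F3397 : act 1 n636 = n636 := d10_1 D636 (iv D636) F2387
theorem F3398 : act 6 n636 = n636 := d26_2 F2390 D636 (iv D636)
theorem F3399 : act 7 n636 = n441 := d27_2 (iv F2391) D636 (iv D441)
theorem F3400 : act 8 n636 = n636 := d28_2 D437 D636 (iv D636) (iv D437) F1662
def n637 : Q := act 1 n438
theorem D637 : act 1 n438 = n637 := rfl
theorem F3401 : act 0 n637 = n637 := d0_1 D637 (iv D637) (iv F3082) F3083 F3082
theorem F3402 : act 2 n637 = n637 := d9_2 D438 D637 (iv D637) (iv D438) F1666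
theorem F3403 : act 3 n637 = n637 := d10_2 F2392 D637 (iv D637)
theorem F3404 : act 4 n637 = n637 := d11_2 F2393 D637 (iv D637)
theorem F3405 : act 6 n637 = n442 := d13_2 (iv F2394) D637 (iv D442)
theorem F3406 : act 8 n637 = n637 := d15_2 F2395 D637 (iv D637)
def n638 : Q := act 9 n438
theorem D638 : act 9 n438 = n638 := rfl
theorem F3407 : act 2 n638 = n439 := d23_1 D638 (iv D439) D438
theorem F3408 : act 3 n638 = n638 := d29_1 D638 (iv D638) F2392
theorem F3409 : act 4 n638 = n638 := d34_1 D638 (iv D638) F2393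
theorem F3410 : act 6 n638 = n443 := d41_1 D638 (iv D443) (iv F2394)
def n639 : Q := act 8 n439
theorem D639 : act 8 n439 = n639 := rfl
theorem F3411 : act 1 n639 = n639 := d15_1 D639 (iv D639) F2396
theorem F3412 : act 4 n639 = n639 := d33_1 D639 (iv D639) F2398
theorem F3413 : act 6 n639 = n444 := d40_1 D639 (iv D444) (iv F2399)
theorem F3414 : act 9 n639 = n639 := d44_2 D439 D639 (iv D639) (iv D439) F1669
def n640 : Q := act 3 n440
theorem D640 : act 3 n440 = n640 := rfl
theorem F3415 : act 1 n640 = n640 := d10_1 D640 (iv D640) F2400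
theorem F3416 : act 6 n640 = n445 := d26_2 (iv F2403) D640 (iv D445)
theorem F3417 : act 9 n640 = n441 := d29_2 (iv F2404) D640 (iv D441)
def n641 : Q := act 2 n441
theorem D641 : act 2 n441 = n641 := rfl
theorem F3418 : act 3 n641 = n641 := d17_2 D441 D641 (iv D641) (iv D441) F1675
theorem F3419 : act 6 n641 = n446 := d20_2 (iv F2406) D641 (iv D446)
theorem F3420 : act 8 n641 = n641 := d22_2 F2407 D641 (iv D641)
def n642 : Q := act 4 n441
theorem D642 : act 4 n441 = n642 := rfl
theorem F3421 : act 1 n642 = n642 := d11_1 D642 (iv D642) F2405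
theorem F3422 : act 3 n642 = n452 := d24_1 D642 (iv D452) (iv D308) (iv F1676) D441
theorem F3423 : act 6 n642 = n447 := d31_2 (iv F2406) D642 (iv D447)
theorem F3424 : act 8 n642 = n642 := d33_2 F2407 D642 (iv D642)
def n643 : Q := act 9 n442
theorem D643 : act 9 n442 = n643 := rfl
theorem F3426 : act 1 n643 = n443 := d16_1 D643 (iv D443) D442
def n644 : Q := act 8 n443
theorem D644 : act 8 n443 = n644 := rfl
theorem F3432 : act 2 n644 = n444 := d22_1 D644 (iv D444) (iv F2415)
def n645 : Q := act 3 n444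
theorem D645 : act 3 n444 = n645 := rfl
theorem F3437 : act 1 n645 = n645 := d10_1 D645 (iv D645) F2420
theorem F3438 : act 5 n645 = n645 := d25_2 F2422 D645 (iv D645)
theorem F3439 : act 7 n645 = n645 := d27_2 F2423 D645 (iv D645)
theorem F3440 : act 8 n645 = n445 := d28_2 D444 D645 (iv D445) (iv D303) (iv F1684)
theorem F3441 : act 9 n645 = n645 := d29_2 F2424 D645 (iv D645)
def n646 : Q := act 2 n445
theorem D646 : act 2 n445 = n646 := rfl
theorem F3442 : act 3 n646 = n646 := d17_2 D445 D646 (iv D646) (iv D445) F1689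
theorem F3443 : act 5 n646 = n646 := d19_2 F2426 D646 (iv D646)
theorem F3444 : act 7 n646 = n646 := d21_2 F2427 D646 (iv D646)
theorem F3445 : act 9 n646 = n446 := d23_2 (iv F2428) D646 (iv D446)
def n647 : Q := act 4 n445
theorem D647 : act 4 n445 = n647 := rfl
theorem F3446 : act 1 n647 = n647 := d11_1 D647 (iv D647) F2425
theorem F3447 : act 3 n647 = n454 := d24_1 D647 (iv D454) (iv D309) (iv F1690) D445
theorem F3448 : act 7 n647 = n647 := d32_2 F2427 D647 (iv D647)
theorem F3449 : act 9 n647 = n447 := d34_2 (iv F2428) D647 (iv D447)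
def n648 : Q := act 1 n446
theorem D648 : act 1 n446 = n648 := rfl
theorem F3450 : act 2 n648 = n648 := d9_2 D446 D648 (iv D648) (iv D446) F1694
theorem F3451 : act 3 n648 = n648 := d10_2 F2429 D648 (iv D648)
theorem F3452 : act 5 n648 = n648 := d12_2 F2430 D648 (iv D648)
theorem F3453 : act 7 n648 = n648 := d14_2 F2431 D648 (iv D648)
theorem F3454 : act 8 n648 = n648 := d15_2 F2432 D648 (iv D648)
def n649 : Q := act 4 n446
theorem D649 : act 4 n446 = n649 := rfl
theorem F3455 : act 2 n649 = n447 := d18_1 D649 (iv D447) D446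
theorem F3456 : act 7 n649 = n649 := d32_2 F2431 D649 (iv D649)
theorem F3457 : act 8 n649 = n649 := d33_2 F2432 D649 (iv D649)
def n650 : Q := act 5 n447
theorem D650 : act 5 n447 = n650 := rfl
theorem F3458 : act 1 n650 = n650 := d12_1 D650 (iv D650) F2433
theorem F3459 : act 3 n650 = n457 := d25_1 D650 (iv D457) (iv F2434)
theorem F3460 : act 4 n650 = n650 := d30_1 D650 (iv D650) (iv D447) F1695 D447
theorem F3461 : act 7 n650 = n650 := d36_2 F2435 D650 (iv D650)
theorem F3462 : act 8 n650 = n650 := d37_2 F2436 D650 (iv D650)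
def n651 : Q := act 3 n448
theorem D651 : act 3 n448 = n651 := rfl
theorem F3463 : act 1 n651 = n651 := d10_1 D651 (iv D651) F2437
theorem F3464 : act 5 n651 = n651 := d25_2 F2439 D651 (iv D651)
theorem F3465 : act 6 n651 = n651 := d26_2 F2440 D651 (iv D651)
theorem F3466 : act 7 n651 = n450 := d27_2 (iv F2441) D651 (iv D450)
theorem F3467 : act 8 n651 = n651 := d28_2 D448 D651 (iv D651) (iv D448) F1700
theorem F3468 : act 9 n651 = n449 := d29_2 (iv F2442) D651 (iv D449)
def n652 : Q := act 2 n449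
theorem D652 : act 2 n449 = n652 := rfl
theorem F3469 : act 3 n652 = n652 := d17_2 D449 D652 (iv D652) (iv D449) F1705
theorem F3470 : act 5 n652 = n652 := d19_2 F2444 D652 (iv D652)
theorem F3471 : act 6 n652 = n652 := d20_2 F2445 D652 (iv D652)
theorem F3472 : act 7 n652 = n451 := d21_2 (iv F2446) D652 (iv D451)
theorem F3473 : act 8 n652 = n466 := d22_2 (iv F2447) D652 (iv D466)
def n653 : Q := act 4 n449
theorem D653 : act 4 n449 = n653 := rfl
theorem F3474 : act 1 n653 = n653 := d11_1 D653 (iv D653) F2443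
theorem F3475 : act 6 n653 = n653 := d31_2 F2445 D653 (iv D653)
theorem F3476 : act 7 n653 = n452 := d32_2 (iv F2446) D653 (iv D452)
theorem F3477 : act 8 n653 = n467 := d33_2 (iv F2447) D653 (iv D467)
def n654 : Q := act 2 n450
theorem D654 : act 2 n450 = n654 := rfl
theorem F3478 : act 3 n654 = n654 := d17_2 D450 D654 (iv D654) (iv D450) F1710
theorem F3479 : act 5 n654 = n654 := d19_2 F2449 D654 (iv D654)
theorem F3480 : act 6 n654 = n453 := d20_2 (iv F2450) D654 (iv D453)
theorem F3481 : act 8 n654 = n654 := d22_2 F2451 D654 (iv D654)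
theorem F3482 : act 9 n654 = n451 := d23_2 (iv F2452) D654 (iv D451)
def n655 : Q := act 4 n450
theorem D655 : act 4 n450 = n655 := rfl
theorem F3483 : act 1 n655 = n655 := d11_1 D655 (iv D655) F2448
theorem F3484 : act 6 n655 = n454 := d31_2 (iv F2450) D655 (iv D454)
theorem F3485 : act 8 n655 = n655 := d33_2 F2451 D655 (iv D655)
theorem F3486 : act 9 n655 = n452 := d34_2 (iv F2452) D655 (iv D452)
def n656 : Q := act 1 n451
theorem D656 : act 1 n451 = n656 := rfl
theorem F3487 : act 2 n656 = n656 := d9_2 D451 D656 (iv D656) (iv D451) F1714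
theorem F3488 : act 3 n656 = n656 := d10_2 F2453 D656 (iv D656)
theorem F3489 : act 5 n656 = n656 := d12_2 F2454 D656 (iv D656)
theorem F3490 : act 6 n656 = n455 := d13_2 (iv F2455) D656 (iv D455)
theorem F3491 : act 8 n656 = n468 := d15_2 (iv F2456) D656 (iv D468)
def n657 : Q := act 4 n451
theorem D657 : act 4 n451 = n657 := rfl
theorem F3492 : act 2 n657 = n452 := d18_1 D657 (iv D452) D451
theorem F3493 : act 6 n657 = n456 := d31_2 (iv F2455) D657 (iv D456)
theorem F3494 : act 8 n657 = n469 := d33_2 (iv F2456) D657 (iv D469)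
def n658 : Q := act 5 n452
theorem D658 : act 5 n452 = n658 := rfl
theorem F3495 : act 1 n658 = n658 := d12_1 D658 (iv D658) F2457
theorem F3496 : act 4 n658 = n658 := d30_1 D658 (iv D658) (iv D452) F1715 D452
theorem F3497 : act 8 n658 = n470 := d37_2 (iv F2459) D658 (iv D470)
def n659 : Q := act 1 n453
theorem D659 : act 1 n453 = n659 := rfl
theorem F3498 : act 2 n659 = n659 := d9_2 D453 D659 (iv D659) (iv D453) F1718
theorem F3499 : act 3 n659 = n659 := d10_2 F2460 D659 (iv D659)
theorem F3500 : act 5 n659 = n458 := d12_2 (iv F2461) D659 (iv D458)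
theorem F3501 : act 7 n659 = n659 := d14_2 F2462 D659 (iv D659)
theorem F3502 : act 8 n659 = n659 := d15_2 F2463 D659 (iv D659)
theorem F3503 : act 9 n659 = n455 := d16_2 (iv F2464) D659 (iv D455)
def n660 : Q := act 4 n453
theorem D660 : act 4 n453 = n660 := rfl
theorem F3504 : act 2 n660 = n454 := d18_1 D660 (iv D454) D453
theorem F3505 : act 7 n660 = n660 := d32_2 F2462 D660 (iv D660)
theorem F3506 : act 8 n660 = n660 := d33_2 F2463 D660 (iv D660)
theorem F3507 : act 9 n660 = n456 := d34_2 (iv F2464) D660 (iv D456)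
def n661 : Q := act 5 n454
theorem D661 : act 5 n454 = n661 := rfl
theorem F3508 : act 1 n661 = n661 := d12_1 D661 (iv D661) F2465
theorem F3509 : act 4 n661 = n460 := d30_1 D661 (iv D460) (iv D313) (iv F1719) D454
theorem F3510 : act 7 n661 = n661 := d36_2 F2466 D661 (iv D661)
theorem F3511 : act 8 n661 = n661 := d37_2 F2467 D661 (iv D661)
theorem F3512 : act 9 n661 = n457 := d38_2 (iv F2468) D661 (iv D457)
def n662 : Q := act 0 n455
theorem D662 : act 0 n455 = n662 := rfl
theorem F3513 : act 2 n662 = n662 := d1_2 F2469 D662 (iv D662)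
theorem F3514 : act 3 n662 = n662 := d2_2 F2470 D662 (iv D662)
theorem F3515 : act 5 n662 = n461 := d4_2 (iv F2471) D662 (iv D461)
theorem F3516 : act 7 n662 = n662 := d6_2 F2472 D662 (iv D662)
theorem F3517 : act 8 n662 = n471 := d7_2 (iv F2473) D662 (iv D471)
def n663 : Q := act 4 n455
theorem D663 : act 4 n455 = n663 := rfl
theorem F3518 : act 1 n663 = n456 := d11_1 D663 (iv D456) D455
theorem F3519 : act 2 n663 = n663 := d18_1 D663 (iv D663) F2469
theorem F3520 : act 7 n663 = n663 := d32_2 F2472 D663 (iv D663)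
theorem F3521 : act 8 n663 = n472 := d33_2 (iv F2473) D663 (iv D472)
def n664 : Q := act 3 n456
theorem D664 : act 3 n456 = n664 := rfl
theorem F3522 : act 4 n664 = n664 := d24_2 D456 D664 (iv D664) (iv D456) F1723
theorem F3523 : act 7 n664 = n664 := d27_2 F2475 D664 (iv D664)
def n665 : Q := act 5 n456
theorem D665 : act 5 n456 = n665 := rfl
theorem F3524 : act 2 n665 = n457 := d19_1 D665 (iv D457) (iv F2474)
theorem F3525 : act 4 n665 = n464 := d30_1 D665 (iv D464) (iv D315) (iv F1724) D456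
theorem F3526 : act 7 n665 = n665 := d36_2 F2475 D665 (iv D665)
theorem F3527 : act 8 n665 = n474 := d37_2 (iv F2476) D665 (iv D474)
def n666 : Q := act 6 n457
theorem D666 : act 6 n457 = n666 := rfl
theorem F3528 : act 1 n666 = n666 := d13_1 D666 (iv D666) F2477
theorem F3529 : act 4 n666 = n465 := d31_1 D666 (iv D465) (iv F2478)
theorem F3530 : act 8 n666 = n475 := d40_2 (iv F2480) D666 (iv D475)
def n667 : Q := act 0 n458
theorem D667 : act 0 n458 = n667 := rfl
theorem F3531 : act 2 n667 = n667 := d1_2 F2481 D667 (iv D667)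
theorem F3532 : act 3 n667 = n667 := d2_2 F2482 D667 (iv D667)
theorem F3533 : act 6 n667 = n667 := d5_2 F2483 D667 (iv D667)
theorem F3534 : act 7 n667 = n667 := d6_2 F2484 D667 (iv D667)
theorem F3535 : act 8 n667 = n667 := d7_2 F2485 D667 (iv D667)
theorem F3536 : act 9 n667 = n461 := d8_2 (iv F2486) D667 (iv D461)
def n668 : Q := act 4 n458
theorem D668 : act 4 n458 = n668 := rfl
theorem F3537 : act 1 n668 = n459 := d11_1 D668 (iv D459) D458
theorem F3538 : act 2 n668 = n668 := d18_1 D668 (iv D668) F2481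
theorem F3539 : act 6 n668 = n668 := d31_2 F2483 D668 (iv D668)
theorem F3540 : act 7 n668 = n668 := d32_2 F2484 D668 (iv D668)
theorem F3541 : act 8 n668 = n668 := d33_2 F2485 D668 (iv D668)
theorem F3542 : act 9 n668 = n462 := d34_2 (iv F2486) D668 (iv D462)
def n669 : Q := act 3 n459
theorem D669 : act 3 n459 = n669 := rfl
theorem F3543 : act 2 n669 = n669 := d17_1 D669 (iv D669) F2487 F1736 (iv F2487)
theorem F3544 : act 4 n669 = n669 := d24_2 D459 D669 (iv D669) (iv D459) F1730
theorem F3545 : act 6 n669 = n669 := d26_2 F2488 D669 (iv D669)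
theorem F3546 : act 7 n669 = n669 := d27_2 F2489 D669 (iv D669)
theorem F3547 : act 9 n669 = n463 := d29_2 (iv F2491) D669 (iv D463)
def n670 : Q := act 5 n459
theorem D670 : act 5 n459 = n670 := rfl
theorem F3548 : act 2 n670 = n460 := d19_1 D670 (iv D460) (iv F2487)
theorem F3549 : act 7 n670 = n670 := d36_2 F2489 D670 (iv D670)
theorem F3550 : act 8 n670 = n670 := d37_2 F2490 D670 (iv D670)
theorem F3551 : act 9 n670 = n464 := d38_2 (iv F2491) D670 (iv D464)
def n671 : Q := act 6 n460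
theorem D671 : act 6 n460 = n671 := rfl
theorem F3552 : act 1 n671 = n671 := d13_1 D671 (iv D671) F2492
theorem F3553 : act 3 n671 = n671 := d26_1 D671 (iv D671) F2493
theorem F3554 : act 5 n671 = n671 := d35_1 D671 (iv D671) (iv D460) F1737 D460
theorem F3555 : act 8 n671 = n671 := d40_2 F2495 D671 (iv D671)
theorem F3556 : act 9 n671 = n465 := d41_2 (iv F2496) D671 (iv D465)
def n672 : Q := act 4 n461
theorem D672 : act 4 n461 = n672 := rfl
theorem F3557 : act 0 n672 = n462 := d3_1 D672 (iv D462) D461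
theorem F3558 : act 2 n672 = n672 := d18_1 D672 (iv D672) F2497
theorem F3559 : act 6 n672 = n672 := d31_2 F2499 D672 (iv D672)
theorem F3560 : act 7 n672 = n672 := d32_2 F2500 D672 (iv D672)
theorem F3561 : act 8 n672 = n476 := d33_2 (iv F2501) D672 (iv D476)
def n673 : Q := act 3 n462
theorem D673 : act 3 n462 = n673 := rfl
theorem F3562 : act 1 n673 = n463 := d10_1 D673 (iv D463) (iv F2502)
theorem F3563 : act 4 n673 = n673 := d24_2 D462 D673 (iv D673) (iv D462) F1742
theorem F3564 : act 6 n673 = n673 := d26_2 F2504 D673 (iv D673)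
theorem F3565 : act 7 n673 = n673 := d27_2 F2505 D673 (iv D673)
theorem F3566 : act 8 n673 = n673 := d28_2 (iv F2506) D673 (iv D673) F2506 F1787
def n674 : Q := act 5 n462
theorem D674 : act 5 n462 = n674 := rfl
theorem F3567 : act 1 n674 = n464 := d12_1 D674 (iv D464) (iv F2502)
theorem F3568 : act 2 n674 = n674 := d19_1 D674 (iv D674) F2503
theorem F3569 : act 7 n674 = n674 := d36_2 F2505 D674 (iv D674)
theorem F3570 : act 8 n674 = n477 := d37_2 (iv F2506) D674 (iv D477)
def n675 : Q := act 5 n463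
theorem D675 : act 5 n463 = n675 := rfl
theorem F3571 : act 2 n675 = n675 := d19_1 D675 (iv D675) F2507
theorem F3572 : act 3 n675 = n464 := d25_1 D675 (iv D464) D463
theorem F3573 : act 7 n675 = n675 := d36_2 F2510 D675 (iv D675)
theorem F3574 : act 8 n675 = n675 := d37_2 F2511 D675 (iv D675)
def n676 : Q := act 6 n464
theorem D676 : act 6 n464 = n676 := rfl
theorem F3575 : act 2 n676 = n465 := d20_1 D676 (iv D465) (iv F2512)
theorem F3576 : act 5 n676 = n676 := d35_1 D676 (iv D676) (iv D464) F1747 D464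
theorem F3577 : act 8 n676 = n478 := d40_2 (iv F2514) D676 (iv D478)
def n677 : Q := act 7 n465
theorem D677 : act 7 n465 = n677 := rfl
theorem F3578 : act 1 n677 = n677 := d14_1 D677 (iv D677) F2515
theorem F3579 : act 3 n677 = n677 := d27_1 D677 (iv D677) F2516
theorem F3580 : act 5 n677 = n677 := d36_1 D677 (iv D677) F2517
theorem F3581 : act 6 n677 = n677 := d39_1 D677 (iv D677) (iv D465) F1752 D465
theorem F3582 : act 8 n677 = n479 := d42_2 (iv F2518) D677 (iv D479)
def n678 : Q := act 1 n466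
theorem D678 : act 1 n466 = n678 := rfl
theorem F3583 : act 2 n678 = n678 := d9_2 D466 D678 (iv D678) (iv D466) F1754
theorem F3584 : act 3 n678 = n480 := d10_2 (iv F2519) D678 (iv D480)
theorem F3585 : act 5 n678 = n678 := d12_2 F2520 D678 (iv D678)
theorem F3586 : act 6 n678 = n678 := d13_2 F2521 D678 (iv D678)
theorem F3587 : act 7 n678 = n468 := d14_2 (iv F2522) D678 (iv D468)
theorem F3588 : act 9 n678 = n678 := d16_2 F2523 D678 (iv D678)
def n679 : Q := act 4 n466
theorem D679 : act 4 n466 = n679 := rfl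
theorem F3589 : act 2 n679 = n467 := d18_1 D679 (iv D467) D466
theorem F3590 : act 6 n679 = n679 := d31_2 F2521 D679 (iv D679)
theorem F3591 : act 7 n679 = n469 := d32_2 (iv F2522) D679 (iv D469)
theorem F3592 : act 9 n679 = n679 := d34_2 F2523 D679 (iv D679)
def n680 : Q := act 5 n467
theorem D680 : act 5 n467 = n680 := rfl
theorem F3593 : act 1 n680 = n680 := d12_1 D680 (iv D680) F2524
theorem F3594 : act 3 n680 = n680 := d25_1 D680 (iv D680) F2525
theorem F3595 : act 4 n680 = n680 := d30_1 D680 (iv D680) (iv D467) F1755 D467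
theorem F3596 : act 7 n680 = n470 := d36_2 (iv F2527) D680 (iv D470)
theorem F3597 : act 9 n680 = n680 := d38_2 F2528 D680 (iv D680)
def n681 : Q := act 0 n468
theorem D681 : act 0 n468 = n681 := rfl
theorem F3598 : act 2 n681 = n681 := d1_2 F2529 D681 (iv D681)
theorem F3599 : act 3 n681 = n483 := d2_2 (iv F2530) D681 (iv D483)
theorem F3600 : act 5 n681 = n681 := d4_2 F2531 D681 (iv D681)
theorem F3601 : act 6 n681 = n471 := d5_2 (iv F2532) D681 (iv D471)
theorem F3602 : act 9 n681 = n681 := d8_2 F2533 D681 (iv D681)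
def n682 : Q := act 4 n468
theorem D682 : act 4 n468 = n682 := rfl
theorem F3603 : act 1 n682 = n469 := d11_1 D682 (iv D469) D468
theorem F3604 : act 2 n682 = n682 := d18_1 D682 (iv D682) F2529
theorem F3605 : act 6 n682 = n472 := d31_2 (iv F2532) D682 (iv D472)
theorem F3606 : act 9 n682 = n682 := d34_2 F2533 D682 (iv D682)
def n683 : Q := act 3 n469
theorem D683 : act 3 n469 = n683 := rfl
theorem F3607 : act 2 n683 = n683 := d17_1 D683 (iv D683) F2534 F1764 (iv F2534)
theorem F3608 : act 4 n683 = n485 := d24_2 D469 D683 (iv D485) (iv D331) (iv F1759)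
theorem F3609 : act 6 n683 = n473 := d26_2 (iv F2535) D683 (iv D473)
theorem F3610 : act 9 n683 = n683 := d29_2 F2536 D683 (iv D683)
def n684 : Q := act 5 n469
theorem D684 : act 5 n469 = n684 := rfl
theorem F3611 : act 2 n684 = n470 := d19_1 D684 (iv D470) (iv F2534)
theorem F3612 : act 4 n684 = n684 := d30_1 D684 (iv D684) (iv D469) F1760 D469
theorem F3613 : act 9 n684 = n684 := d38_2 F2536 D684 (iv D684)
def n685 : Q := act 6 n470
theorem D685 : act 6 n470 = n685 := rfl
theorem F3614 : act 1 n685 = n685 := d13_1 D685 (iv D685) F2537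
theorem F3615 : act 3 n685 = n685 := d26_1 D685 (iv D685) F2538
theorem F3616 : act 4 n685 = n685 := d31_1 D685 (iv D685) F2539
theorem F3617 : act 5 n685 = n475 := d35_1 D685 (iv D475) (iv D322) (iv F1765) D470
theorem F3618 : act 9 n685 = n685 := d41_2 F2540 D685 (iv D685)
def n686 : Q := act 4 n471
theorem D686 : act 4 n471 = n686 := rfl
theorem F3619 : act 0 n686 = n472 := d3_1 D686 (iv D472) D471
theorem F3620 : act 2 n686 = n686 := d18_1 D686 (iv D686) F2541
theorem F3621 : act 7 n686 = n686 := d32_2 F2544 D686 (iv D686)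
theorem F3622 : act 9 n686 = n686 := d34_2 F2545 D686 (iv D686)
def n687 : Q := act 3 n472
theorem D687 : act 3 n472 = n687 := rfl
theorem F3623 : act 1 n687 = n473 := d10_1 D687 (iv D473) (iv F2546)
theorem F3624 : act 4 n687 = n488 := d24_2 D472 D687 (iv D488) (iv D334) (iv F1768)
theorem F3625 : act 7 n687 = n687 := d27_2 F2548 D687 (iv D687)
theorem F3626 : act 9 n687 = n687 := d29_2 F2549 D687 (iv D687)
def n688 : Q := act 5 n472
theorem D688 : act 5 n472 = n688 := rfl
theorem F3627 : act 1 n688 = n474 := d12_1 D688 (iv D474) (iv F2546)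
theorem F3628 : act 2 n688 = n688 := d19_1 D688 (iv D688) F2547
theorem F3629 : act 4 n688 = n477 := d30_1 D688 (iv D477) (iv D324) (iv F1769) D472
theorem F3630 : act 7 n688 = n688 := d36_2 F2548 D688 (iv D688)
theorem F3631 : act 9 n688 = n688 := d38_2 F2549 D688 (iv D688)
def n689 : Q := act 5 n473
theorem D689 : act 5 n473 = n689 := rfl
theorem F3632 : act 2 n689 = n689 := d19_1 D689 (iv D689) F2550
theorem F3633 : act 3 n689 = n474 := d25_1 D689 (iv D474) D473
theorem F3634 : act 4 n689 = n689 := d30_1 D689 (iv D689) F2551 F1844 (iv F2551)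
theorem F3635 : act 7 n689 = n689 := d36_2 F2552 D689 (iv D689)
theorem F3636 : act 9 n689 = n689 := d38_2 F2553 D689 (iv D689)
def n690 : Q := act 8 n473
theorem D690 : act 8 n473 = n690 := rfl
theorem F3637 : act 2 n690 = n690 := d22_1 D690 (iv D690) F2550
theorem F3638 : act 4 n690 = n489 := d33_1 D690 (iv D489) (iv F2551)
theorem F3639 : act 7 n690 = n690 := d42_1 D690 (iv D690) F2552
def n691 : Q := act 6 n474
theorem D691 : act 6 n474 = n691 := rfl
theorem F3640 : act 2 n691 = n475 := d20_1 D691 (iv D475) (iv F2554)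
theorem F3641 : act 4 n691 = n478 := d31_1 D691 (iv D478) (iv F2555)
theorem F3642 : act 9 n691 = n691 := d41_2 F2557 D691 (iv D691)
def n692 : Q := act 7 n475
theorem D692 : act 7 n475 = n692 := rfl
theorem F3643 : act 1 n692 = n692 := d14_1 D692 (iv D692) F2558
theorem F3644 : act 3 n692 = n692 := d27_1 D692 (iv D692) F2559
theorem F3645 : act 4 n692 = n479 := d32_1 D692 (iv D479) (iv F2560)
theorem F3646 : act 6 n692 = n692 := d39_1 D692 (iv D692) (iv D475) F1778 D475
theorem F3647 : act 9 n692 = n692 := d43_2 F2561 D692 (iv D692)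
def n693 : Q := act 5 n476
theorem D693 : act 5 n476 = n693 := rfl
theorem F3648 : act 0 n693 = n477 := d4_1 D693 (iv D477) (iv F2562)
theorem F3649 : act 2 n693 = n693 := d19_1 D693 (iv D693) F2563
theorem F3650 : act 3 n693 = n693 := d25_1 D693 (iv D693) F2564
theorem F3651 : act 7 n693 = n693 := d36_2 F2566 D693 (iv D693)
theorem F3652 : act 9 n693 = n693 := d38_2 F2567 D693 (iv D693)
def n694 : Q := act 6 n477
theorem D694 : act 6 n477 = n694 := rfl
theorem F3653 : act 1 n694 = n478 := d13_1 D694 (iv D478) (iv F2568)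
theorem F3654 : act 2 n694 = n694 := d20_1 D694 (iv D694) F2569
theorem F3655 : act 3 n694 = n694 := d26_1 D694 (iv D694) F2570
theorem F3656 : act 5 n694 = n694 := d35_1 D694 (iv D694) (iv D477) F1788 D477
theorem F3657 : act 9 n694 = n694 := d41_2 F2572 D694 (iv D694)
def n695 : Q := act 7 n478
theorem D695 : act 7 n478 = n695 := rfl
theorem F3658 : act 2 n695 = n479 := d21_1 D695 (iv D479) (iv F2573)
theorem F3659 : act 3 n695 = n695 := d27_1 D695 (iv D695) F2574
theorem F3660 : act 5 n695 = n695 := d36_1 D695 (iv D695) F2575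
theorem F3661 : act 6 n695 = n695 := d39_1 D695 (iv D695) (iv D478) F1793 D478
theorem F3662 : act 9 n695 = n695 := d43_2 F2576 D695 (iv D695)
def n696 : Q := act 0 n480
theorem D696 : act 0 n480 = n696 := rfl
theorem F3663 : act 2 n696 = n490 := d1_2 (iv F2582) D696 (iv D490)
theorem F3664 : act 5 n696 = n696 := d4_2 F2583 D696 (iv D696)
theorem F3665 : act 6 n696 = n696 := d5_2 F2584 D696 (iv D696)
theorem F3666 : act 7 n696 = n483 := d6_2 (iv F2585) D696 (iv D483)
theorem F3667 : act 8 n696 = n696 := d7_2 F2586 D696 (iv D696)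
theorem F3668 : act 9 n696 = n696 := d8_2 F2587 D696 (iv D696)
def n697 : Q := act 4 n480
theorem D697 : act 4 n480 = n697 := rfl
theorem F3669 : act 1 n697 = n481 := d11_1 D697 (iv D481) D480
theorem F3670 : act 2 n697 = n491 := d18_1 D697 (iv D491) (iv F2582)
theorem F3671 : act 6 n697 = n697 := d31_2 F2584 D697 (iv D697)
theorem F3672 : act 7 n697 = n484 := d32_2 (iv F2585) D697 (iv D484)
theorem F3673 : act 8 n697 = n697 := d33_2 F2586 D697 (iv D697)
theorem F3674 : act 9 n697 = n697 := d34_2 F2587 D697 (iv D697)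
def n698 : Q := act 3 n481
theorem D698 : act 3 n481 = n698 := rfl
theorem F3675 : act 2 n698 = n698 := d17_1 D698 (iv D698) F2588 F1812 (iv F2588)
theorem F3676 : act 6 n698 = n698 := d26_2 F2589 D698 (iv D698)
theorem F3677 : act 7 n698 = n485 := d27_2 (iv F2590) D698 (iv D485)
theorem F3678 : act 9 n698 = n698 := d29_2 F2592 D698 (iv D698)
def n699 : Q := act 5 n481
theorem D699 : act 5 n481 = n699 := rfl
theorem F3679 : act 2 n699 = n482 := d19_1 D699 (iv D482) (iv F2588)
theorem F3680 : act 4 n699 = n699 := d30_1 D699 (iv D699) (iv D481) F1806 D481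
theorem F3681 : act 7 n699 = n486 := d36_2 (iv F2590) D699 (iv D486)
theorem F3682 : act 8 n699 = n699 := d37_2 F2591 D699 (iv D699)
theorem F3683 : act 9 n699 = n699 := d38_2 F2592 D699 (iv D699)
def n700 : Q := act 6 n482
theorem D700 : act 6 n482 = n700 := rfl
theorem F3684 : act 1 n700 = n494 := d13_1 D700 (iv D494) (iv F2593)
theorem F3685 : act 3 n700 = n700 := d26_1 D700 (iv D700) F2594
theorem F3686 : act 4 n700 = n700 := d31_1 D700 (iv D700) F2595
theorem F3687 : act 5 n700 = n700 := d35_1 D700 (iv D700) (iv D482) F1813 D482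
theorem F3688 : act 7 n700 = n700 := d39_2 (iv F2596) D700 (iv D700) F2596 F1829
theorem F3689 : act 8 n700 = n700 := d40_2 F2597 D700 (iv D700)
theorem F3690 : act 9 n700 = n700 := d41_2 F2598 D700 (iv D700)
def n701 : Q := act 4 n483
theorem D701 : act 4 n483 = n701 := rfl
theorem F3691 : act 0 n701 = n484 := d3_1 D701 (iv D484) D483
theorem F3692 : act 2 n701 = n495 := d18_1 D701 (iv D495) (iv F2599)
theorem F3693 : act 6 n701 = n487 := d31_2 (iv F2601) D701 (iv D487)
theorem F3694 : act 8 n701 = n701 := d33_2 F2602 D701 (iv D701)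
theorem F3695 : act 9 n701 = n701 := d34_2 F2603 D701 (iv D701)
def n702 : Q := act 3 n484
theorem D702 : act 3 n484 = n702 := rfl
theorem F3696 : act 1 n702 = n485 := d10_1 D702 (iv D485) (iv F2604)
theorem F3697 : act 6 n702 = n488 := d26_2 (iv F2606) D702 (iv D488)
theorem F3698 : act 9 n702 = n702 := d29_2 F2608 D702 (iv D702)
def n703 : Q := act 5 n484
theorem D703 : act 5 n484 = n703 := rfl
theorem F3699 : act 1 n703 = n486 := d12_1 D703 (iv D486) (iv F2604)
theorem F3700 : act 2 n703 = n497 := d19_1 D703 (iv D497) (iv F2605)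
theorem F3701 : act 4 n703 = n703 := d30_1 D703 (iv D703) (iv D484) F1818 D484
theorem F3702 : act 6 n703 = n703 := d35_2 (iv F2606) D703 (iv D703) F2606 F1839
theorem F3703 : act 8 n703 = n703 := d37_2 F2607 D703 (iv D703)
theorem F3704 : act 9 n703 = n703 := d38_2 F2608 D703 (iv D703)
def n704 : Q := act 5 n485
theorem D704 : act 5 n485 = n704 := rfl
theorem F3705 : act 2 n704 = n704 := d19_1 D704 (iv D704) F2609
theorem F3706 : act 3 n704 = n486 := d25_1 D704 (iv D486) D485
theorem F3707 : act 6 n704 = n704 := d35_2 (iv F2610) D704 (iv D704) F2610 F1844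
theorem F3708 : act 9 n704 = n704 := d38_2 F2611 D704 (iv D704)
def n705 : Q := act 8 n485
theorem D705 : act 8 n485 = n705 := rfl
theorem F3709 : act 2 n705 = n705 := d22_1 D705 (iv D705) F2609
theorem F3710 : act 3 n705 = n705 := d28_1 D705 (iv D705) (iv D485) F1824 D485
theorem F3711 : act 6 n705 = n489 := d40_1 D705 (iv D489) (iv F2610)
def n706 : Q := act 3 n487
theorem D706 : act 3 n487 = n706 := rfl
theorem F3712 : act 0 n706 = n488 := d2_1 D706 (iv D488) (iv F2617)
theorem F3713 : act 5 n706 = n706 := d25_2 F2619 D706 (iv D706)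
theorem F3714 : act 7 n706 = n706 := d27_2 F2620 D706 (iv D706)
theorem F3715 : act 9 n706 = n706 := d29_2 F2622 D706 (iv D706)
def n707 : Q := act 2 n488
theorem D707 : act 2 n488 = n707 := rfl
theorem F3717 : act 3 n707 = n501 := d17_2 D488 D707 (iv D501) (iv D344) (iv F1838)
def n708 : Q := act 8 n488
theorem D708 : act 8 n488 = n708 := rfl
def n710 : Q := act 4 n490
theorem D710 : act 4 n490 = n710 := rfl
theorem F3730 : act 0 n710 = n491 := d3_1 D710 (iv D491) D490
theorem F3731 : act 1 n710 = n710 := d11_1 D710 (iv D710) F2631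
theorem F3732 : act 6 n710 = n710 := d31_2 F2634 D710 (iv D710)
theorem F3733 : act 7 n710 = n495 := d32_2 (iv F2635) D710 (iv D495)
theorem F3734 : act 8 n710 = n710 := d33_2 F2636 D710 (iv D710)
theorem F3735 : act 9 n710 = n710 := d34_2 F2637 D710 (iv D710)
def n711 : Q := act 3 n491
theorem D711 : act 3 n491 = n711 := rfl
theorem F3736 : act 1 n711 = n492 := d10_1 D711 (iv D492) (iv F2638)
theorem F3737 : act 4 n711 = n711 := d24_2 D491 D711 (iv D711) (iv D491) F1847
theorem F3738 : act 6 n711 = n711 := d26_2 F2639 D711 (iv D711)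
theorem F3739 : act 7 n711 = n496 := d27_2 (iv F2640) D711 (iv D496)
theorem F3740 : act 9 n711 = n711 := d29_2 F2642 D711 (iv D711)
def n712 : Q := act 5 n491
theorem D712 : act 5 n491 = n712 := rfl
theorem F3741 : act 1 n712 = n493 := d12_1 D712 (iv D493) (iv F2638)
theorem F3742 : act 4 n712 = n712 := d30_1 D712 (iv D712) (iv D491) F1848 D491
theorem F3743 : act 7 n712 = n497 := d36_2 (iv F2640) D712 (iv D497)
theorem F3744 : act 8 n712 = n712 := d37_2 F2641 D712 (iv D712)
theorem F3745 : act 9 n712 = n712 := d38_2 F2642 D712 (iv D712)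
def n713 : Q := act 5 n492
theorem D713 : act 5 n492 = n713 := rfl
theorem F3746 : act 0 n713 = n713 := d4_1 D713 (iv D713) F2643
theorem F3747 : act 2 n713 = n713 := d19_1 D713 (iv D713) F2644
theorem F3748 : act 3 n713 = n493 := d25_1 D713 (iv D493) D492
theorem F3749 : act 7 n713 = n498 := d36_2 (iv F2647) D713 (iv D498)
theorem F3750 : act 9 n713 = n713 := d38_2 F2648 D713 (iv D713)
def n714 : Q := act 8 n492
theorem D714 : act 8 n492 = n714 := rfl
theorem F3751 : act 0 n714 = n714 := d7_1 D714 (iv D714) F2643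
theorem F3752 : act 2 n714 = n714 := d22_1 D714 (iv D714) F2644
theorem F3753 : act 3 n714 = n714 := d28_1 D714 (iv D714) (iv D492) F1857 D492
theorem F3754 : act 4 n714 = n714 := d33_1 D714 (iv D714) F2645
theorem F3755 : act 6 n714 = n714 := d40_1 D714 (iv D714) F2646
theorem F3756 : act 7 n714 = n499 := d42_1 D714 (iv D499) (iv F2647)
def n715 : Q := act 6 n493
theorem D715 : act 6 n493 = n715 := rfl
theorem F3757 : act 0 n715 = n715 := d5_1 D715 (iv D715) F2649
theorem F3758 : act 2 n715 = n494 := d20_1 D715 (iv D494) (iv F2650)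
theorem F3759 : act 4 n715 = n715 := d31_1 D715 (iv D715) F2651
theorem F3760 : act 5 n715 = n715 := d35_1 D715 (iv D715) (iv D493) F1855 D493
theorem F3761 : act 7 n715 = n715 := d39_2 (iv F2652) D715 (iv D715) F2652 F1883
theorem F3762 : act 8 n715 = n715 := d40_2 F2653 D715 (iv D715)
theorem F3763 : act 9 n715 = n715 := d41_2 F2654 D715 (iv D715)
def n716 : Q := act 3 n495
theorem D716 : act 3 n495 = n716 := rfl
theorem F3764 : act 0 n716 = n496 := d2_1 D716 (iv D496) (iv F2662)
theorem F3765 : act 1 n716 = n716 := d10_1 D716 (iv D716) F2663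
theorem F3766 : act 4 n716 = n716 := d24_2 D495 D716 (iv D716) (iv D495) F1866
theorem F3767 : act 6 n716 = n500 := d26_2 (iv F2664) D716 (iv D500)
theorem F3768 : act 9 n716 = n716 := d29_2 F2666 D716 (iv D716)
def n717 : Q := act 5 n495
theorem D717 : act 5 n495 = n717 := rfl
theorem F3769 : act 0 n717 = n497 := d4_1 D717 (iv D497) (iv F2662)
theorem F3770 : act 1 n717 = n717 := d12_1 D717 (iv D717) F2663
theorem F3771 : act 4 n717 = n717 := d30_1 D717 (iv D717) (iv D495) F1867 D495
theorem F3772 : act 6 n717 = n717 := d35_2 (iv F2664) D717 (iv D717) F2664 F1888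
theorem F3773 : act 8 n717 = n717 := d37_2 F2665 D717 (iv D717)
theorem F3774 : act 9 n717 = n717 := d38_2 F2666 D717 (iv D717)
def n718 : Q := act 2 n496
theorem D718 : act 2 n496 = n718 := rfl
def n719 : Q := act 5 n496
theorem D719 : act 5 n496 = n719 := rfl
theorem F3779 : act 1 n719 = n498 := d12_1 D719 (iv D498) (iv F2667)
theorem F3780 : act 3 n719 = n497 := d25_1 D719 (iv D497) D496
theorem F3781 : act 6 n719 = n719 := d35_2 (iv F2669) D719 (iv D719) F2669 F1894
theorem F3782 : act 9 n719 = n719 := d38_2 F2670 D719 (iv D719)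
def n720 : Q := act 8 n496
theorem D720 : act 8 n496 = n720 := rfl
theorem F3783 : act 1 n720 = n499 := d15_1 D720 (iv D499) (iv F2667)
def n721 : Q := act 4 n498
theorem D721 : act 4 n498 = n721 := rfl
theorem F3787 : act 0 n721 = n721 := d3_1 D721 (iv D721) F2676
theorem F3788 : act 2 n721 = n721 := d18_1 D721 (iv D721) F2677
theorem F3789 : act 3 n721 = n721 := d24_1 D721 (iv D721) F2678 F1882 (iv F2678)
theorem F3790 : act 5 n721 = n721 := d30_2 D498 D721 (iv D721) (iv D498) F1877
theorem F3791 : act 6 n721 = n721 := d31_2 F2679 D721 (iv D721)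
theorem F3792 : act 9 n721 = n721 := d34_2 F2680 D721 (iv D721)
def n722 : Q := act 8 n498
theorem D722 : act 8 n498 = n722 := rfl
theorem F3793 : act 0 n722 = n722 := d7_1 D722 (iv D722) F2676
theorem F3794 : act 2 n722 = n722 := d22_1 D722 (iv D722) F2677
theorem F3795 : act 3 n722 = n722 := d28_1 D722 (iv D722) F2678 F1884 (iv F2678)
theorem F3796 : act 5 n722 = n499 := d37_1 D722 (iv D499) D498
theorem F3797 : act 6 n722 = n722 := d40_1 D722 (iv D722) F2679
def n723 : Q := act 9 n499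
theorem D723 : act 9 n499 = n723 := rfl
def n724 : Q := act 2 n500
theorem D724 : act 2 n500 = n724 := rfl
def n725 : Q := act 8 n500
theorem D725 : act 8 n500 = n725 := rfl
def n726 : Q := act 8 n501
theorem D726 : act 8 n501 = n726 := rfl
theorem F3816 : act 2 n726 = n502 := d22_1 D726 (iv D502) D501
def n727 : Q := act 9 n502
theorem D727 : act 9 n502 = n727 := rfl
theorem F3820 : act 1 n727 = n503 := d16_1 D727 (iv D503) (iv F2697)
def n728 : Q := act 5 n504
theorem D728 : act 5 n504 = n728 := rfl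
theorem F3826 : act 0 n728 = n728 := d4_1 D728 (iv D728) F2709
theorem F3827 : act 1 n728 = n728 := d12_1 D728 (iv D728) F2710
theorem F3828 : act 2 n728 = n728 := d19_1 D728 (iv D728) F2711
theorem F3829 : act 3 n728 = n506 := d25_1 D728 (iv D506) (iv F2712)
theorem F3830 : act 6 n728 = n728 := d35_2 D504 D728 (iv D728) (iv D504) F1907
theorem F3831 : act 8 n728 = n728 := d37_2 F2714 D728 (iv D728)
def n729 : Q := act 7 n504
theorem D729 : act 7 n504 = n729 := rfl
theorem F3832 : act 0 n729 = n729 := d6_1 D729 (iv D729) F2709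
theorem F3833 : act 1 n729 = n729 := d14_1 D729 (iv D729) F2710
theorem F3834 : act 2 n729 = n729 := d21_1 D729 (iv D729) F2711
theorem F3835 : act 3 n729 = n507 := d27_1 D729 (iv D507) (iv F2712)
theorem F3836 : act 4 n729 = n729 := d32_1 D729 (iv D729) F2713
theorem F3837 : act 6 n729 = n729 := d39_1 D729 (iv D729) (iv D504) F1908 D504
theorem F3838 : act 8 n729 = n729 := d42_2 F2714 D729 (iv D729)
def n730 : Q := act 9 n504
theorem D730 : act 9 n504 = n730 := rfl
theorem F3839 : act 0 n730 = n730 := d8_1 D730 (iv D730) F2709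
theorem F3840 : act 1 n730 = n730 := d16_1 D730 (iv D730) F2710
theorem F3841 : act 2 n730 = n730 := d23_1 D730 (iv D730) F2711
theorem F3842 : act 3 n730 = n509 := d29_1 D730 (iv D509) (iv F2712)
theorem F3843 : act 4 n730 = n730 := d34_1 D730 (iv D730) F2713
theorem F3844 : act 6 n730 = n505 := d41_1 D730 (iv D505) D504
def n731 : Q := act 8 n505
theorem D731 : act 8 n505 = n731 := rfl
theorem F3845 : act 0 n731 = n731 := d7_1 D731 (iv D731) F2715
theorem F3846 : act 1 n731 = n731 := d15_1 D731 (iv D731) F2716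
theorem F3847 : act 2 n731 = n731 := d22_1 D731 (iv D731) F2717
theorem F3848 : act 4 n731 = n731 := d33_1 D731 (iv D731) F2719
theorem F3849 : act 5 n731 = n731 := d37_1 D731 (iv D731) F2720
theorem F3850 : act 7 n731 = n731 := d42_1 D731 (iv D731) F2721
theorem F3851 : act 9 n731 = n731 := d44_2 D505 D731 (iv D731) (iv D505) F1909
def n732 : Q := act 7 n506
theorem D732 : act 7 n506 = n732 := rfl
theorem F3852 : act 0 n732 = n732 := d6_1 D732 (iv D732) F2722
theorem F3853 : act 1 n732 = n732 := d14_1 D732 (iv D732) F2723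
theorem F3854 : act 2 n732 = n525 := d21_1 D732 (iv D525) (iv F2724)
theorem F3855 : act 4 n732 = n732 := d32_1 D732 (iv D732) F2725
theorem F3856 : act 5 n732 = n507 := d36_1 D732 (iv D507) D506
def n733 : Q := act 8 n506
theorem D733 : act 8 n506 = n733 := rfl
theorem F3857 : act 0 n733 = n733 := d7_1 D733 (iv D733) F2722
theorem F3858 : act 1 n733 = n733 := d15_1 D733 (iv D733) F2723
theorem F3859 : act 2 n733 = n526 := d22_1 D733 (iv D526) (iv F2724)
theorem F3860 : act 3 n733 = n733 := d28_1 D733 (iv D733) (iv F3829) F3831 F3829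
theorem F3861 : act 4 n733 = n733 := d33_1 D733 (iv D733) F2725
theorem F3862 : act 5 n733 = n508 := d37_1 D733 (iv D508) D506
theorem F3863 : act 6 n733 = n733 := d40_1 D733 (iv D733) F2726
def n734 : Q := act 9 n506
theorem D734 : act 9 n506 = n734 := rfl
theorem F3864 : act 0 n734 = n734 := d8_1 D734 (iv D734) F2722
theorem F3865 : act 1 n734 = n734 := d16_1 D734 (iv D734) F2723
theorem F3866 : act 2 n734 = n527 := d23_1 D734 (iv D527) (iv F2724)
theorem F3867 : act 4 n734 = n734 := d34_1 D734 (iv D734) F2725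
theorem F3868 : act 5 n734 = n509 := d38_1 D734 (iv D509) D506
theorem F3869 : act 6 n734 = n734 := d41_1 D734 (iv D734) F2726
def n735 : Q := act 8 n507
theorem D735 : act 8 n507 = n735 := rfl
theorem F3870 : act 0 n735 = n735 := d7_1 D735 (iv D735) F2727
theorem F3871 : act 1 n735 = n735 := d15_1 D735 (iv D735) F2728
theorem F3872 : act 2 n735 = n528 := d22_1 D735 (iv D528) (iv F2729)
theorem F3873 : act 3 n735 = n735 := d28_1 D735 (iv D735) (iv F3835) F3838 F3835
theorem F3874 : act 4 n735 = n512 := d33_1 D735 (iv D512) (iv F2730)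
theorem F3875 : act 6 n735 = n735 := d40_1 D735 (iv D735) F2731
theorem F3876 : act 7 n735 = n508 := d42_1 D735 (iv D508) D507
def n736 : Q := act 9 n507
theorem D736 : act 9 n507 = n736 := rfl
theorem F3877 : act 0 n736 = n736 := d8_1 D736 (iv D736) F2727
theorem F3878 : act 1 n736 = n736 := d16_1 D736 (iv D736) F2728
theorem F3879 : act 2 n736 = n529 := d23_1 D736 (iv D529) (iv F2729)
theorem F3880 : act 4 n736 = n513 := d34_1 D736 (iv D513) (iv F2730)
theorem F3881 : act 6 n736 = n736 := d41_1 D736 (iv D736) F2731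
theorem F3882 : act 7 n736 = n509 := d43_1 D736 (iv D509) D507
def n737 : Q := act 9 n508
theorem D737 : act 9 n508 = n737 := rfl
theorem F3883 : act 0 n737 = n737 := d8_1 D737 (iv D737) F2732
theorem F3884 : act 1 n737 = n737 := d16_1 D737 (iv D737) F2733
theorem F3885 : act 2 n737 = n531 := d23_1 D737 (iv D531) (iv F2734)
theorem F3886 : act 3 n737 = n737 := d29_1 D737 (iv D737) F2735
theorem F3887 : act 4 n737 = n515 := d34_1 D737 (iv D515) (iv F2736)
theorem F3888 : act 6 n737 = n510 := d41_1 D737 (iv D510) (iv F2737)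
def n738 : Q := act 8 n509
theorem D738 : act 8 n509 = n738 := rfl
theorem F3889 : act 0 n738 = n738 := d7_1 D738 (iv D738) F2738
theorem F3890 : act 1 n738 = n738 := d15_1 D738 (iv D738) F2739
theorem F3891 : act 2 n738 = n532 := d22_1 D738 (iv D532) (iv F2740)
theorem F3892 : act 4 n738 = n516 := d33_1 D738 (iv D516) (iv F2741)
theorem F3893 : act 6 n738 = n511 := d40_1 D738 (iv D511) (iv F2742)
def n739 : Q := act 8 n510
theorem D739 : act 8 n510 = n739 := rfl
theorem F3894 : act 0 n739 = n739 := d7_1 D739 (iv D739) F2743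
theorem F3895 : act 1 n739 = n739 := d15_1 D739 (iv D739) F2744
theorem F3896 : act 2 n739 = n534 := d22_1 D739 (iv D534) (iv F2745)
theorem F3897 : act 4 n739 = n518 := d33_1 D739 (iv D518) (iv F2747)
theorem F3898 : act 5 n739 = n739 := d37_1 D739 (iv D739) F2748
theorem F3899 : act 7 n739 = n739 := d42_1 D739 (iv D739) F2749
theorem F3900 : act 9 n739 = n511 := d44_2 D510 D739 (iv D511) (iv D349) D348
def n740 : Q := act 3 n511
theorem D740 : act 3 n511 = n740 := rfl
theorem F3901 : act 0 n740 = n740 := d2_1 D740 (iv D740) F2750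
theorem F3902 : act 1 n740 = n740 := d10_1 D740 (iv D740) F2751
theorem F3903 : act 5 n740 = n740 := d25_2 F2754 D740 (iv D740)
theorem F3904 : act 7 n740 = n740 := d27_2 F2755 D740 (iv D740)
def n741 : Q := act 3 n512
theorem D741 : act 3 n512 = n741 := rfl
theorem F3905 : act 0 n741 = n741 := d2_1 D741 (iv D741) F2756
theorem F3906 : act 1 n741 = n741 := d10_1 D741 (iv D741) F2757
theorem F3907 : act 2 n741 = n741 := d17_1 D741 (iv D741) F2758 F2025 (iv F2758)
theorem F3908 : act 4 n741 = n741 := d24_2 F3874 D741 (iv D741) (iv F3874) F3873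
theorem F3909 : act 5 n741 = n741 := d25_2 F2759 D741 (iv D741)
theorem F3910 : act 6 n741 = n741 := d26_2 F2760 D741 (iv D741)
theorem F3911 : act 7 n741 = n514 := d27_2 (iv F2761) D741 (iv D514)
theorem F3912 : act 8 n741 = n741 := d28_2 D512 D741 (iv D741) (iv D512) F1930
def n742 : Q := act 9 n512
theorem D742 : act 9 n512 = n742 := rfl
theorem F3913 : act 0 n742 = n742 := d8_1 D742 (iv D742) F2756
theorem F3914 : act 1 n742 = n742 := d16_1 D742 (iv D742) F2757
theorem F3915 : act 2 n742 = n536 := d23_1 D742 (iv D536) (iv F2758)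
theorem F3916 : act 5 n742 = n742 := d38_1 D742 (iv D742) F2759
theorem F3917 : act 6 n742 = n742 := d41_1 D742 (iv D742) F2760
theorem F3918 : act 7 n742 = n515 := d43_1 D742 (iv D515) (iv F2761)
def n743 : Q := act 8 n513
theorem D743 : act 8 n513 = n743 := rfl
theorem F3919 : act 0 n743 = n743 := d7_1 D743 (iv D743) F2762
theorem F3920 : act 1 n743 = n743 := d15_1 D743 (iv D743) F2763
theorem F3921 : act 2 n743 = n537 := d22_1 D743 (iv D537) (iv F2764)
theorem F3922 : act 5 n743 = n743 := d37_1 D743 (iv D743) F2766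
theorem F3923 : act 6 n743 = n743 := d40_1 D743 (iv D743) F2767
theorem F3924 : act 7 n743 = n516 := d42_1 D743 (iv D516) (iv F2768)
def n744 : Q := act 9 n514
theorem D744 : act 9 n514 = n744 := rfl
theorem F3925 : act 0 n744 = n744 := d8_1 D744 (iv D744) F2769
theorem F3926 : act 1 n744 = n744 := d16_1 D744 (iv D744) F2770
theorem F3927 : act 2 n744 = n744 := d23_1 D744 (iv D744) F2771
theorem F3928 : act 3 n744 = n515 := d29_1 D744 (iv D515) D514
theorem F3929 : act 4 n744 = n744 := d34_1 D744 (iv D744) F2772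
theorem F3930 : act 5 n744 = n744 := d38_1 D744 (iv D744) F2773
theorem F3931 : act 6 n744 = n517 := d41_1 D744 (iv D517) (iv F2774)
def n745 : Q := act 8 n515
theorem D745 : act 8 n515 = n745 := rfl
theorem F3932 : act 0 n745 = n745 := d7_1 D745 (iv D745) F2776
theorem F3933 : act 1 n745 = n745 := d15_1 D745 (iv D745) F2777
theorem F3934 : act 2 n745 = n538 := d22_1 D745 (iv D538) (iv F2778)
theorem F3935 : act 5 n745 = n745 := d37_1 D745 (iv D745) F2779
theorem F3936 : act 6 n745 = n518 := d40_1 D745 (iv D518) (iv F2780)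
theorem F3937 : act 9 n745 = n516 := d44_2 D515 D745 (iv D516) (iv D352) D351
def n746 : Q := act 3 n516
theorem D746 : act 3 n516 = n746 := rfl
theorem F3938 : act 0 n746 = n746 := d2_1 D746 (iv D746) F2781
theorem F3939 : act 1 n746 = n746 := d10_1 D746 (iv D746) F2782
theorem F3940 : act 5 n746 = n746 := d25_2 F2784 D746 (iv D746)
theorem F3941 : act 6 n746 = n519 := d26_2 (iv F2785) D746 (iv D519)
theorem F3942 : act 8 n746 = n746 := d28_2 D516 D746 (iv D746) (iv D516) F1941
def n747 : Q := act 8 n517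
theorem D747 : act 8 n517 = n747 := rfl
theorem F3943 : act 0 n747 = n747 := d7_1 D747 (iv D747) F2786
theorem F3944 : act 1 n747 = n747 := d15_1 D747 (iv D747) F2787
theorem F3945 : act 2 n747 = n747 := d22_1 D747 (iv D747) F2788
theorem F3946 : act 4 n747 = n747 := d33_1 D747 (iv D747) F2790
theorem F3947 : act 5 n747 = n521 := d37_1 D747 (iv D521) (iv F2791)
theorem F3948 : act 7 n747 = n747 := d42_1 D747 (iv D747) F2792
theorem F3949 : act 9 n747 = n747 := d44_2 D517 D747 (iv D747) (iv D517) F1950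
def n748 : Q := act 3 n518
theorem D748 : act 3 n518 = n748 := rfl
theorem F3950 : act 0 n748 = n748 := d2_1 D748 (iv D748) F2793
theorem F3951 : act 1 n748 = n748 := d10_1 D748 (iv D748) F2794
theorem F3952 : act 5 n748 = n522 := d25_2 (iv F2796) D748 (iv D522)
theorem F3953 : act 7 n748 = n748 := d27_2 F2797 D748 (iv D748)
theorem F3954 : act 9 n748 = n519 := d29_2 (iv F2798) D748 (iv D519)
def n749 : Q := act 2 n519
theorem D749 : act 2 n519 = n749 := rfl
theorem F3955 : act 0 n749 = n749 := d1_1 D749 (iv D749) F2799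
theorem F3956 : act 3 n749 = n541 := d17_2 D519 D749 (iv D541) (iv D372) (iv F1958)
theorem F3957 : act 5 n749 = n523 := d19_2 (iv F2801) D749 (iv D523)
theorem F3958 : act 7 n749 = n749 := d21_2 F2802 D749 (iv D749)
theorem F3959 : act 8 n749 = n749 := d22_2 F2803 D749 (iv D749)
def n750 : Q := act 4 n519
theorem D750 : act 4 n519 = n750 := rfl
theorem F3960 : act 0 n750 = n750 := d3_1 D750 (iv D750) F2799
theorem F3961 : act 1 n750 = n750 := d11_1 D750 (iv D750) F2800
theorem F3962 : act 7 n750 = n750 := d32_2 F2802 D750 (iv D750)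
theorem F3963 : act 8 n750 = n750 := d33_2 F2803 D750 (iv D750)
def n751 : Q := act 8 n520
theorem D751 : act 8 n520 = n751 := rfl
theorem F3964 : act 0 n751 = n751 := d7_1 D751 (iv D751) F2804
theorem F3965 : act 1 n751 = n751 := d15_1 D751 (iv D751) F2805
theorem F3966 : act 2 n751 = n751 := d22_1 D751 (iv D751) F2806
theorem F3967 : act 4 n751 = n521 := d33_1 D751 (iv D521) (iv F2808)
theorem F3968 : act 5 n751 = n751 := d37_1 D751 (iv D751) F2809
theorem F3969 : act 6 n751 = n751 := d40_1 D751 (iv D751) F2810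
theorem F3970 : act 7 n751 = n751 := d42_1 D751 (iv D751) F2811
theorem F3971 : act 9 n751 = n751 := d44_2 D520 D751 (iv D751) (iv D520) F1968
def n752 : Q := act 3 n521
theorem D752 : act 3 n521 = n752 := rfl
theorem F3972 : act 0 n752 = n752 := d2_1 D752 (iv D752) F2812
theorem F3973 : act 1 n752 = n752 := d10_1 D752 (iv D752) F2813
theorem F3974 : act 6 n752 = n752 := d26_2 F2815 D752 (iv D752)
theorem F3975 : act 7 n752 = n752 := d27_2 F2816 D752 (iv D752)
theorem F3976 : act 8 n752 = n522 := d28_2 D521 D752 (iv D522) (iv D358) (iv F1972)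
theorem F3977 : act 9 n752 = n752 := d29_2 F2817 D752 (iv D752)
def n753 : Q := act 2 n522
theorem D753 : act 2 n522 = n753 := rfl
theorem F3978 : act 0 n753 = n753 := d1_1 D753 (iv D753) F2818
theorem F3979 : act 3 n753 = n543 := d17_2 D522 D753 (iv D543) (iv D373) (iv F1977)
theorem F3980 : act 6 n753 = n753 := d20_2 F2820 D753 (iv D753)
theorem F3981 : act 7 n753 = n753 := d21_2 F2821 D753 (iv D753)
theorem F3982 : act 9 n753 = n523 := d23_2 (iv F2822) D753 (iv D523)
def n754 : Q := act 4 n522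
theorem D754 : act 4 n522 = n754 := rfl
theorem F3983 : act 0 n754 = n754 := d3_1 D754 (iv D754) F2818
theorem F3984 : act 1 n754 = n754 := d11_1 D754 (iv D754) F2819
theorem F3985 : act 3 n754 = n754 := d24_1 D754 (iv D754) (iv D522) F1978 D522
theorem F3986 : act 6 n754 = n754 := d31_2 F2820 D754 (iv D754)
theorem F3987 : act 7 n754 = n754 := d32_2 F2821 D754 (iv D754)
theorem F3988 : act 9 n754 = n524 := d34_2 (iv F2822) D754 (iv D524)
def n755 : Q := act 1 n523
theorem D755 : act 1 n523 = n755 := rfl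
theorem F3989 : act 2 n755 = n755 := d9_2 D523 D755 (iv D755) (iv D523) F1983
theorem F3990 : act 3 n755 = n545 := d10_2 (iv F2824) D755 (iv D545)
theorem F3991 : act 6 n755 = n755 := d13_2 F2825 D755 (iv D755)
theorem F3992 : act 7 n755 = n755 := d14_2 F2826 D755 (iv D755)
theorem F3993 : act 8 n755 = n755 := d15_2 F2827 D755 (iv D755)
def n756 : Q := act 4 n523
theorem D756 : act 4 n523 = n756 := rfl
theorem F3994 : act 0 n756 = n756 := d3_1 D756 (iv D756) F2823
theorem F3995 : act 2 n756 = n524 := d18_1 D756 (iv D524) D523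
theorem F3996 : act 6 n756 = n756 := d31_2 F2825 D756 (iv D756)
theorem F3997 : act 7 n756 = n756 := d32_2 F2826 D756 (iv D756)
theorem F3998 : act 8 n756 = n756 := d33_2 F2827 D756 (iv D756)
def n757 : Q := act 5 n524
theorem D757 : act 5 n524 = n757 := rfl
theorem F3999 : act 0 n757 = n757 := d4_1 D757 (iv D757) F2828
theorem F4000 : act 1 n757 = n757 := d12_1 D757 (iv D757) F2829
theorem F4001 : act 3 n757 = n757 := d25_1 D757 (iv D757) F2830
theorem F4002 : act 7 n757 = n757 := d36_2 F2832 D757 (iv D757)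
theorem F4003 : act 8 n757 = n757 := d37_2 F2833 D757 (iv D757)
def n758 : Q := act 6 n525
theorem D758 : act 6 n525 = n758 := rfl
theorem F4004 : act 0 n758 = n758 := d5_1 D758 (iv D758) F2834
theorem F4005 : act 1 n758 = n563 := d13_1 D758 (iv D563) (iv F2835)
theorem F4006 : act 3 n758 = n758 := d26_1 D758 (iv D758) F2836
theorem F4007 : act 4 n758 = n758 := d31_1 D758 (iv D758) F2837
theorem F4008 : act 5 n758 = n758 := d35_1 D758 (iv D758) F2838 F1996 (iv F2838)
theorem F4009 : act 7 n758 = n758 := d39_2 D525 D758 (iv D758) (iv D525) F1991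
def n759 : Q := act 8 n525
theorem D759 : act 8 n525 = n759 := rfl
theorem F4010 : act 0 n759 = n759 := d7_1 D759 (iv D759) F2834
theorem F4011 : act 1 n759 = n564 := d15_1 D759 (iv D564) (iv F2835)
theorem F4012 : act 4 n759 = n759 := d33_1 D759 (iv D759) F2837
theorem F4013 : act 5 n759 = n528 := d37_1 D759 (iv D528) (iv F2838)
theorem F4014 : act 7 n759 = n526 := d42_1 D759 (iv D526) D525
def n760 : Q := act 9 n525
theorem D760 : act 9 n525 = n760 := rfl
theorem F4015 : act 0 n760 = n760 := d8_1 D760 (iv D760) F2834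
theorem F4016 : act 1 n760 = n565 := d16_1 D760 (iv D565) (iv F2835)
theorem F4017 : act 3 n760 = n760 := d29_1 D760 (iv D760) F2836
theorem F4018 : act 4 n760 = n760 := d34_1 D760 (iv D760) F2837
theorem F4019 : act 5 n760 = n529 := d38_1 D760 (iv D529) (iv F2838)
theorem F4020 : act 7 n760 = n527 := d43_1 D760 (iv D527) D525
def n761 : Q := act 3 n526
theorem D761 : act 3 n526 = n761 := rfl
theorem F4021 : act 0 n761 = n761 := d2_1 D761 (iv D761) F2839
theorem F4022 : act 1 n761 = n566 := d10_1 D761 (iv D566) (iv F2840)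
theorem F4023 : act 2 n761 = n761 := d17_1 D761 (iv D761) (iv F3859) F3860 F3859
theorem F4024 : act 5 n761 = n530 := d25_2 (iv F2842) D761 (iv D530)
theorem F4025 : act 6 n761 = n761 := d26_2 F2843 D761 (iv D761)
theorem F4026 : act 8 n761 = n761 := d28_2 D526 D761 (iv D761) (iv D526) F1989
def n762 : Q := act 9 n526
theorem D762 : act 9 n526 = n762 := rfl
theorem F4027 : act 0 n762 = n762 := d8_1 D762 (iv D762) F2839
theorem F4028 : act 1 n762 = n567 := d16_1 D762 (iv D567) (iv F2840)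
theorem F4029 : act 4 n762 = n762 := d34_1 D762 (iv D762) F2841
theorem F4030 : act 5 n762 = n531 := d38_1 D762 (iv D531) (iv F2842)
theorem F4031 : act 6 n762 = n762 := d41_1 D762 (iv D762) F2843
def n763 : Q := act 8 n527
theorem D763 : act 8 n527 = n763 := rfl
theorem F4032 : act 0 n763 = n763 := d7_1 D763 (iv D763) F2844
theorem F4033 : act 1 n763 = n568 := d15_1 D763 (iv D568) (iv F2845)
theorem F4034 : act 4 n763 = n763 := d33_1 D763 (iv D763) F2847
theorem F4035 : act 5 n763 = n532 := d37_1 D763 (iv D532) (iv F2848)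
theorem F4036 : act 6 n763 = n763 := d40_1 D763 (iv D763) F2849
def n764 : Q := act 3 n528
theorem D764 : act 3 n528 = n764 := rfl
theorem F4037 : act 0 n764 = n764 := d2_1 D764 (iv D764) F2850
theorem F4038 : act 1 n764 = n569 := d10_1 D764 (iv D569) (iv F2851)
theorem F4039 : act 2 n764 = n764 := d17_1 D764 (iv D764) (iv F3872) F3873 F3872
theorem F4040 : act 4 n764 = n764 := d24_2 (iv F2852) D764 (iv D764) F2852 F2025
theorem F4041 : act 6 n764 = n764 := d26_2 F2853 D764 (iv D764)
theorem F4042 : act 7 n764 = n530 := d27_2 (iv F2854) D764 (iv D530)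
theorem F4043 : act 8 n764 = n764 := d28_2 D528 D764 (iv D764) (iv D528) F1994
def n765 : Q := act 9 n528
theorem D765 : act 9 n528 = n765 := rfl
theorem F4044 : act 0 n765 = n765 := d8_1 D765 (iv D765) F2850
theorem F4045 : act 1 n765 = n570 := d16_1 D765 (iv D570) (iv F2851)
theorem F4046 : act 4 n765 = n536 := d34_1 D765 (iv D536) (iv F2852)
theorem F4047 : act 6 n765 = n765 := d41_1 D765 (iv D765) F2853
theorem F4048 : act 7 n765 = n531 := d43_1 D765 (iv D531) (iv F2854)
def n766 : Q := act 8 n529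
theorem D766 : act 8 n529 = n766 := rfl
theorem F4049 : act 0 n766 = n766 := d7_1 D766 (iv D766) F2855
theorem F4050 : act 1 n766 = n571 := d15_1 D766 (iv D571) (iv F2856)
theorem F4051 : act 4 n766 = n537 := d33_1 D766 (iv D537) (iv F2858)
theorem F4052 : act 6 n766 = n766 := d40_1 D766 (iv D766) F2859
theorem F4053 : act 7 n766 = n532 := d42_1 D766 (iv D532) (iv F2860)
def n767 : Q := act 9 n530
theorem D767 : act 9 n530 = n767 := rfl
theorem F4054 : act 0 n767 = n767 := d8_1 D767 (iv D767) F2861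
theorem F4055 : act 1 n767 = n573 := d16_1 D767 (iv D573) (iv F2862)
theorem F4056 : act 2 n767 = n767 := d23_1 D767 (iv D767) F2863
theorem F4057 : act 3 n767 = n531 := d29_1 D767 (iv D531) D530
theorem F4058 : act 4 n767 = n767 := d34_1 D767 (iv D767) F2864
theorem F4059 : act 6 n767 = n533 := d41_1 D767 (iv D533) (iv F2865)
def n768 : Q := act 8 n531
theorem D768 : act 8 n531 = n768 := rfl
theorem F4060 : act 0 n768 = n768 := d7_1 D768 (iv D768) F2867
theorem F4061 : act 1 n768 = n574 := d15_1 D768 (iv D574) (iv F2868)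
theorem F4062 : act 4 n768 = n538 := d33_1 D768 (iv D538) (iv F2869)
theorem F4063 : act 6 n768 = n534 := d40_1 D768 (iv D534) (iv F2870)
theorem F4064 : act 9 n768 = n532 := d44_2 D531 D768 (iv D532) (iv D363) D362
def n769 : Q := act 3 n532
theorem D769 : act 3 n532 = n769 := rfl
theorem F4065 : act 0 n769 = n769 := d2_1 D769 (iv D769) F2871
theorem F4066 : act 1 n769 = n575 := d10_1 D769 (iv D575) (iv F2872)
theorem F4067 : act 6 n769 = n535 := d26_2 (iv F2874) D769 (iv D535)
theorem F4068 : act 8 n769 = n769 := d28_2 D532 D769 (iv D769) (iv D532) F2003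
def n770 : Q := act 8 n533
theorem D770 : act 8 n533 = n770 := rfl
theorem F4069 : act 0 n770 = n770 := d7_1 D770 (iv D770) F2875
theorem F4070 : act 1 n770 = n577 := d15_1 D770 (iv D577) (iv F2876)
theorem F4071 : act 2 n770 = n770 := d22_1 D770 (iv D770) F2877
theorem F4072 : act 4 n770 = n770 := d33_1 D770 (iv D770) F2879
theorem F4073 : act 5 n770 = n770 := d37_1 D770 (iv D770) F2880
theorem F4074 : act 7 n770 = n770 := d42_1 D770 (iv D770) F2881
theorem F4075 : act 9 n770 = n770 := d44_2 D533 D770 (iv D770) (iv D533) F2012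
def n771 : Q := act 3 n534
theorem D771 : act 3 n534 = n771 := rfl
theorem F4076 : act 0 n771 = n771 := d2_1 D771 (iv D771) F2882
theorem F4077 : act 1 n771 = n578 := d10_1 D771 (iv D578) (iv F2883)
theorem F4078 : act 5 n771 = n771 := d25_2 F2885 D771 (iv D771)
theorem F4079 : act 7 n771 = n771 := d27_2 F2886 D771 (iv D771)
theorem F4080 : act 9 n771 = n535 := d29_2 (iv F2887) D771 (iv D535)
def n772 : Q := act 2 n535
theorem D772 : act 2 n535 = n772 := rfl
theorem F4081 : act 0 n772 = n772 := d1_1 D772 (iv D772) F2888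
theorem F4082 : act 5 n772 = n772 := d19_2 F2890 D772 (iv D772)
theorem F4083 : act 7 n772 = n772 := d21_2 F2891 D772 (iv D772)
theorem F4084 : act 8 n772 = n772 := d22_2 F2892 D772 (iv D772)
def n773 : Q := act 4 n535
theorem D773 : act 4 n535 = n773 := rfl
theorem F4085 : act 0 n773 = n773 := d3_1 D773 (iv D773) F2888
theorem F4086 : act 1 n773 = n580 := d11_1 D773 (iv D580) (iv F2889)
theorem F4087 : act 3 n773 = n542 := d24_1 D773 (iv D542) (iv D372) (iv F2020) D535
theorem F4088 : act 7 n773 = n773 := d32_2 F2891 D773 (iv D773)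
theorem F4089 : act 8 n773 = n773 := d33_2 F2892 D773 (iv D773)
def n774 : Q := act 8 n536
theorem D774 : act 8 n536 = n774 := rfl
theorem F4090 : act 0 n774 = n774 := d7_1 D774 (iv D774) F2893
theorem F4091 : act 1 n774 = n581 := d15_1 D774 (iv D581) (iv F2894)
theorem F4092 : act 5 n774 = n774 := d37_1 D774 (iv D774) F2896
theorem F4093 : act 6 n774 = n774 := d40_1 D774 (iv D774) F2897
theorem F4094 : act 7 n774 = n538 := d42_1 D774 (iv D538) (iv F2898)
theorem F4095 : act 9 n774 = n537 := d44_2 D536 D774 (iv D537) (iv D368) D367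
def n775 : Q := act 3 n537
theorem D775 : act 3 n537 = n775 := rfl
theorem F4096 : act 0 n775 = n775 := d2_1 D775 (iv D775) F2899
theorem F4097 : act 1 n775 = n582 := d10_1 D775 (iv D582) (iv F2900)
theorem F4098 : act 5 n775 = n775 := d25_2 F2901 D775 (iv D775)
theorem F4099 : act 6 n775 = n775 := d26_2 F2902 D775 (iv D775)
theorem F4100 : act 7 n775 = n539 := d27_2 (iv F2903) D775 (iv D539)
theorem F4101 : act 8 n775 = n548 := d28_2 D537 D775 (iv D548) (iv D376) (iv F2031)
def n776 : Q := act 3 n538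
theorem D776 : act 3 n538 = n776 := rfl
theorem F4102 : act 0 n776 = n776 := d2_1 D776 (iv D776) F2904
theorem F4103 : act 1 n776 = n583 := d10_1 D776 (iv D583) (iv F2905)
theorem F4104 : act 5 n776 = n776 := d25_2 F2906 D776 (iv D776)
theorem F4105 : act 6 n776 = n540 := d26_2 (iv F2907) D776 (iv D540)
theorem F4106 : act 8 n776 = n776 := d28_2 D538 D776 (iv D776) (iv D538) F2037
theorem F4107 : act 9 n776 = n539 := d29_2 (iv F2908) D776 (iv D539)
def n777 : Q := act 2 n539
theorem D777 : act 2 n539 = n777 := rfl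
theorem F4108 : act 0 n777 = n777 := d1_1 D777 (iv D777) F2909
theorem F4109 : act 5 n777 = n777 := d19_2 F2911 D777 (iv D777)
theorem F4110 : act 6 n777 = n541 := d20_2 (iv F2912) D777 (iv D541)
theorem F4111 : act 8 n777 = n549 := d22_2 (iv F2913) D777 (iv D549)
def n778 : Q := act 4 n539
theorem D778 : act 4 n539 = n778 := rfl
theorem F4112 : act 0 n778 = n778 := d3_1 D778 (iv D778) F2909
theorem F4113 : act 1 n778 = n585 := d11_1 D778 (iv D585) (iv F2910)
theorem F4114 : act 6 n778 = n542 := d31_2 (iv F2912) D778 (iv D542)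
theorem F4115 : act 8 n778 = n550 := d33_2 (iv F2913) D778 (iv D550)
def n779 : Q := act 2 n540
theorem D779 : act 2 n540 = n779 := rfl
theorem F4116 : act 0 n779 = n779 := d1_1 D779 (iv D779) F2914
theorem F4117 : act 5 n779 = n543 := d19_2 (iv F2916) D779 (iv D543)
theorem F4118 : act 7 n779 = n779 := d21_2 F2917 D779 (iv D779)
theorem F4119 : act 8 n779 = n779 := d22_2 F2918 D779 (iv D779)
theorem F4120 : act 9 n779 = n541 := d23_2 (iv F2919) D779 (iv D541)
def n780 : Q := act 4 n540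
theorem D780 : act 4 n540 = n780 := rfl
theorem F4121 : act 0 n780 = n780 := d3_1 D780 (iv D780) F2914
theorem F4122 : act 1 n780 = n587 := d11_1 D780 (iv D587) (iv F2915)
theorem F4123 : act 7 n780 = n780 := d32_2 F2917 D780 (iv D780)
theorem F4124 : act 8 n780 = n780 := d33_2 F2918 D780 (iv D780)
theorem F4125 : act 9 n780 = n542 := d34_2 (iv F2919) D780 (iv D542)
def n781 : Q := act 1 n541
theorem D781 : act 1 n541 = n781 := rfl
theorem F4126 : act 2 n781 = n588 := d9_2 D541 D781 (iv D588) (iv D403) (iv F2050)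
theorem F4127 : act 5 n781 = n545 := d12_2 (iv F2921) D781 (iv D545)
theorem F4128 : act 7 n781 = n781 := d14_2 F2922 D781 (iv D781)
theorem F4129 : act 8 n781 = n551 := d15_2 (iv F2923) D781 (iv D551)
def n782 : Q := act 4 n541
theorem D782 : act 4 n541 = n782 := rfl
theorem F4130 : act 0 n782 = n782 := d3_1 D782 (iv D782) F2920
theorem F4131 : act 2 n782 = n542 := d18_1 D782 (iv D542) D541
theorem F4132 : act 7 n782 = n782 := d32_2 F2922 D782 (iv D782)
theorem F4133 : act 8 n782 = n552 := d33_2 (iv F2923) D782 (iv D552)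
def n783 : Q := act 5 n542
theorem D783 : act 5 n542 = n783 := rfl
theorem F4134 : act 0 n783 = n783 := d4_1 D783 (iv D783) F2924
theorem F4135 : act 1 n783 = n590 := d12_1 D783 (iv D590) (iv F2925)
theorem F4136 : act 4 n783 = n547 := d30_1 D783 (iv D547) (iv D375) (iv F2051) D542
theorem F4137 : act 7 n783 = n783 := d36_2 F2926 D783 (iv D783)
theorem F4138 : act 8 n783 = n553 := d37_2 (iv F2927) D783 (iv D553)
def n784 : Q := act 1 n543
theorem D784 : act 1 n543 = n784 := rfl
theorem F4139 : act 2 n784 = n591 := d9_2 D543 D784 (iv D591) (iv D405) (iv F2055)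
theorem F4140 : act 6 n784 = n784 := d13_2 F2929 D784 (iv D784)
theorem F4141 : act 7 n784 = n784 := d14_2 F2930 D784 (iv D784)
theorem F4142 : act 8 n784 = n784 := d15_2 F2931 D784 (iv D784)
theorem F4143 : act 9 n784 = n545 := d16_2 (iv F2932) D784 (iv D545)
def n785 : Q := act 4 n543
theorem D785 : act 4 n543 = n785 := rfl
theorem F4144 : act 0 n785 = n785 := d3_1 D785 (iv D785) F2928
theorem F4145 : act 2 n785 = n544 := d18_1 D785 (iv D544) D543
theorem F4146 : act 6 n785 = n785 := d31_2 F2929 D785 (iv D785)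
theorem F4147 : act 7 n785 = n785 := d32_2 F2930 D785 (iv D785)
theorem F4148 : act 8 n785 = n785 := d33_2 F2931 D785 (iv D785)
theorem F4149 : act 9 n785 = n546 := d34_2 (iv F2932) D785 (iv D546)
def n786 : Q := act 5 n544
theorem D786 : act 5 n544 = n786 := rfl
theorem F4150 : act 0 n786 = n786 := d4_1 D786 (iv D786) F2933
theorem F4151 : act 1 n786 = n593 := d12_1 D786 (iv D593) (iv F2934)
theorem F4152 : act 3 n786 = n786 := d25_1 D786 (iv D786) F2935
theorem F4153 : act 7 n786 = n786 := d36_2 F2937 D786 (iv D786)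
theorem F4154 : act 8 n786 = n786 := d37_2 F2938 D786 (iv D786)
theorem F4155 : act 9 n786 = n547 := d38_2 (iv F2939) D786 (iv D547)
def n787 : Q := act 0 n545
theorem D787 : act 0 n545 = n787 := rfl
theorem F4156 : act 1 n787 = n787 := d0_2 D545 D787 (iv D787) (iv D545) F2060
theorem F4157 : act 2 n787 = n594 := d1_2 (iv F2940) D787 (iv D594)
theorem F4158 : act 6 n787 = n787 := d5_2 F2941 D787 (iv D787)
theorem F4159 : act 7 n787 = n787 := d6_2 F2942 D787 (iv D787)
theorem F4160 : act 8 n787 = n554 := d7_2 (iv F2943) D787 (iv D554)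
def n788 : Q := act 4 n545
theorem D788 : act 4 n545 = n788 := rfl
theorem F4161 : act 1 n788 = n546 := d11_1 D788 (iv D546) D545
theorem F4162 : act 2 n788 = n595 := d18_1 D788 (iv D595) (iv F2940)
theorem F4163 : act 6 n788 = n788 := d31_2 F2941 D788 (iv D788)
theorem F4164 : act 7 n788 = n788 := d32_2 F2942 D788 (iv D788)
theorem F4165 : act 8 n788 = n555 := d33_2 (iv F2943) D788 (iv D555)
def n789 : Q := act 3 n546
theorem D789 : act 3 n546 = n789 := rfl
theorem F4166 : act 0 n789 = n789 := d2_1 D789 (iv D789) F2944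
theorem F4167 : act 2 n789 = n789 := d17_1 D789 (iv D789) F2945 F2066 (iv F2945)
theorem F4168 : act 6 n789 = n789 := d26_2 F2946 D789 (iv D789)
theorem F4169 : act 7 n789 = n789 := d27_2 F2947 D789 (iv D789)
def n790 : Q := act 5 n546
theorem D790 : act 5 n546 = n790 := rfl
theorem F4170 : act 0 n790 = n790 := d4_1 D790 (iv D790) F2944
theorem F4171 : act 2 n790 = n547 := d19_1 D790 (iv D547) (iv F2945)
theorem F4172 : act 7 n790 = n790 := d36_2 F2947 D790 (iv D790)
theorem F4173 : act 8 n790 = n557 := d37_2 (iv F2948) D790 (iv D557)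
def n791 : Q := act 6 n547
theorem D791 : act 6 n547 = n791 := rfl
theorem F4174 : act 0 n791 = n791 := d5_1 D791 (iv D791) F2949
theorem F4175 : act 1 n791 = n598 := d13_1 D791 (iv D598) (iv F2950)
theorem F4176 : act 3 n791 = n791 := d26_1 D791 (iv D791) F2951
theorem F4177 : act 5 n791 = n791 := d35_1 D791 (iv D791) (iv D547) F2067 D547
theorem F4178 : act 8 n791 = n558 := d40_2 (iv F2953) D791 (iv D558)
def n792 : Q := act 2 n548
theorem D792 : act 2 n548 = n792 := rfl
theorem F4179 : act 0 n792 = n792 := d1_1 D792 (iv D792) F2954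
theorem F4180 : act 3 n792 = n792 := d17_2 D548 D792 (iv D792) (iv D548) F2072
theorem F4181 : act 5 n792 = n792 := d19_2 F2956 D792 (iv D792)
theorem F4182 : act 6 n792 = n792 := d20_2 F2957 D792 (iv D792)
theorem F4183 : act 7 n792 = n549 := d21_2 (iv F2958) D792 (iv D549)
theorem F4184 : act 9 n792 = n792 := d23_2 F2959 D792 (iv D792)
def n793 : Q := act 4 n548
theorem D793 : act 4 n548 = n793 := rfl
theorem F4185 : act 0 n793 = n793 := d3_1 D793 (iv D793) F2954
theorem F4186 : act 1 n793 = n600 := d11_1 D793 (iv D600) (iv F2955)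
theorem F4187 : act 3 n793 = n793 := d24_1 D793 (iv D793) (iv D548) F2073 D548
theorem F4188 : act 6 n793 = n793 := d31_2 F2957 D793 (iv D793)
theorem F4189 : act 7 n793 = n550 := d32_2 (iv F2958) D793 (iv D550)
theorem F4190 : act 9 n793 = n793 := d34_2 F2959 D793 (iv D793)
def n794 : Q := act 1 n549
theorem D794 : act 1 n549 = n794 := rfl
theorem F4191 : act 2 n794 = n601 := d9_2 D549 D794 (iv D601) (iv D411) (iv F2079)
theorem F4192 : act 3 n794 = n794 := d10_2 F2961 D794 (iv D794)
theorem F4193 : act 5 n794 = n794 := d12_2 F2962 D794 (iv D794)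
theorem F4194 : act 6 n794 = n551 := d13_2 (iv F2963) D794 (iv D551)
theorem F4195 : act 9 n794 = n794 := d16_2 F2964 D794 (iv D794)
def n795 : Q := act 4 n549
theorem D795 : act 4 n549 = n795 := rfl
theorem F4196 : act 0 n795 = n795 := d3_1 D795 (iv D795) F2960
theorem F4197 : act 2 n795 = n550 := d18_1 D795 (iv D550) D549
theorem F4198 : act 6 n795 = n552 := d31_2 (iv F2963) D795 (iv D552)
theorem F4199 : act 9 n795 = n795 := d34_2 F2964 D795 (iv D795)
def n796 : Q := act 5 n550
theorem D796 : act 5 n550 = n796 := rfl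
theorem F4200 : act 0 n796 = n796 := d4_1 D796 (iv D796) F2965
theorem F4201 : act 1 n796 = n603 := d12_1 D796 (iv D603) (iv F2966)
theorem F4202 : act 3 n796 = n796 := d25_1 D796 (iv D796) F2967
theorem F4203 : act 4 n796 = n796 := d30_1 D796 (iv D796) (iv D550) F2080 D550
theorem F4204 : act 9 n796 = n796 := d38_2 F2969 D796 (iv D796)
def n797 : Q := act 0 n551
theorem D797 : act 0 n551 = n797 := rfl
theorem F4205 : act 1 n797 = n797 := d0_2 D551 D797 (iv D797) (iv D551) F2083
theorem F4206 : act 2 n797 = n604 := d1_2 (iv F2970) D797 (iv D604)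
theorem F4207 : act 3 n797 = n797 := d2_2 F2971 D797 (iv D797)
theorem F4208 : act 5 n797 = n554 := d4_2 (iv F2972) D797 (iv D554)
theorem F4209 : act 7 n797 = n797 := d6_2 F2973 D797 (iv D797)
theorem F4210 : act 9 n797 = n797 := d8_2 F2974 D797 (iv D797)
def n798 : Q := act 4 n551
theorem D798 : act 4 n551 = n798 := rfl
theorem F4211 : act 1 n798 = n552 := d11_1 D798 (iv D552) D551
theorem F4212 : act 2 n798 = n605 := d18_1 D798 (iv D605) (iv F2970)
theorem F4213 : act 7 n798 = n798 := d32_2 F2973 D798 (iv D798)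
theorem F4214 : act 9 n798 = n798 := d34_2 F2974 D798 (iv D798)
def n799 : Q := act 3 n552
theorem D799 : act 3 n552 = n799 := rfl
theorem F4215 : act 0 n799 = n799 := d2_1 D799 (iv D799) F2975
theorem F4216 : act 2 n799 = n799 := d17_1 D799 (iv D799) F2976 F2090 (iv F2976)
theorem F4217 : act 4 n799 = n799 := d24_2 D552 D799 (iv D799) (iv D552) F2084
theorem F4218 : act 7 n799 = n799 := d27_2 F2977 D799 (iv D799)
theorem F4219 : act 9 n799 = n799 := d29_2 F2978 D799 (iv D799)
def n800 : Q := act 5 n552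
theorem D800 : act 5 n552 = n800 := rfl
theorem F4220 : act 0 n800 = n800 := d4_1 D800 (iv D800) F2975
theorem F4221 : act 2 n800 = n553 := d19_1 D800 (iv D553) (iv F2976)
theorem F4222 : act 4 n800 = n557 := d30_1 D800 (iv D557) (iv D381) (iv F2085) D552
theorem F4223 : act 7 n800 = n800 := d36_2 F2977 D800 (iv D800)
theorem F4224 : act 9 n800 = n800 := d38_2 F2978 D800 (iv D800)
def n801 : Q := act 6 n553
theorem D801 : act 6 n553 = n801 := rfl
theorem F4225 : act 0 n801 = n801 := d5_1 D801 (iv D801) F2979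
theorem F4226 : act 1 n801 = n608 := d13_1 D801 (iv D608) (iv F2980)
theorem F4227 : act 3 n801 = n801 := d26_1 D801 (iv D801) F2981
theorem F4228 : act 4 n801 = n558 := d31_1 D801 (iv D558) (iv F2982)
theorem F4229 : act 9 n801 = n801 := d41_2 F2984 D801 (iv D801)
def n802 : Q := act 4 n554
theorem D802 : act 4 n554 = n802 := rfl
theorem F4230 : act 0 n802 = n555 := d3_1 D802 (iv D555) D554
theorem F4231 : act 1 n802 = n802 := d11_1 D802 (iv D802) F2985
theorem F4232 : act 2 n802 = n609 := d18_1 D802 (iv D609) (iv F2986)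
theorem F4233 : act 6 n802 = n802 := d31_2 F2988 D802 (iv D802)
theorem F4234 : act 7 n802 = n802 := d32_2 F2989 D802 (iv D802)
theorem F4235 : act 9 n802 = n802 := d34_2 F2990 D802 (iv D802)
def n803 : Q := act 3 n555
theorem D803 : act 3 n555 = n803 := rfl
theorem F4236 : act 1 n803 = n556 := d10_1 D803 (iv D556) (iv F2991)
theorem F4237 : act 2 n803 = n803 := d17_1 D803 (iv D803) F2992 F2279 (iv F2992)
theorem F4238 : act 4 n803 = n803 := d24_2 D555 D803 (iv D803) (iv D555) F2094
theorem F4239 : act 6 n803 = n803 := d26_2 F2993 D803 (iv D803)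
theorem F4240 : act 7 n803 = n803 := d27_2 F2994 D803 (iv D803)
theorem F4241 : act 9 n803 = n803 := d29_2 F2995 D803 (iv D803)
def n804 : Q := act 5 n555
theorem D804 : act 5 n555 = n804 := rfl
theorem F4242 : act 1 n804 = n557 := d12_1 D804 (iv D557) (iv F2991)
theorem F4243 : act 2 n804 = n610 := d19_1 D804 (iv D610) (iv F2992)
theorem F4244 : act 7 n804 = n804 := d36_2 F2994 D804 (iv D804)
theorem F4245 : act 9 n804 = n804 := d38_2 F2995 D804 (iv D804)
def n805 : Q := act 5 n556
theorem D805 : act 5 n556 = n805 := rfl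
theorem F4246 : act 0 n805 = n805 := d4_1 D805 (iv D805) F2996
theorem F4247 : act 2 n805 = n559 := d19_1 D805 (iv D559) (iv F2997)
theorem F4248 : act 3 n805 = n557 := d25_1 D805 (iv D557) D556
theorem F4249 : act 7 n805 = n805 := d36_2 F3000 D805 (iv D805)
theorem F4250 : act 9 n805 = n805 := d38_2 F3001 D805 (iv D805)
def n806 : Q := act 8 n556
theorem D806 : act 8 n556 = n806 := rfl
theorem F4251 : act 0 n806 = n806 := d7_1 D806 (iv D806) F2996
theorem F4252 : act 2 n806 = n560 := d22_1 D806 (iv D560) (iv F2997)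
theorem F4253 : act 4 n806 = n806 := d33_1 D806 (iv D806) F2998
theorem F4254 : act 6 n806 = n806 := d40_1 D806 (iv D806) F2999
theorem F4255 : act 7 n806 = n806 := d42_1 D806 (iv D806) F3000
def n807 : Q := act 6 n557
theorem D807 : act 6 n557 = n807 := rfl
theorem F4256 : act 0 n807 = n807 := d5_1 D807 (iv D807) F3002
theorem F4257 : act 2 n807 = n558 := d20_1 D807 (iv D558) (iv F3003)
theorem F4258 : act 5 n807 = n807 := d35_1 D807 (iv D807) (iv D557) F2100 D557
theorem F4259 : act 9 n807 = n807 := d41_2 F3005 D807 (iv D807)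
def n808 : Q := act 7 n558
theorem D808 : act 7 n558 = n808 := rfl
theorem F4260 : act 0 n808 = n808 := d6_1 D808 (iv D808) F3006
theorem F4261 : act 1 n808 = n612 := d14_1 D808 (iv D612) (iv F3007)
theorem F4262 : act 3 n808 = n562 := d27_1 D808 (iv D562) (iv F3008)
theorem F4263 : act 5 n808 = n808 := d36_1 D808 (iv D808) F3009
theorem F4264 : act 6 n808 = n808 := d39_1 D808 (iv D808) (iv D558) F2106 D558
theorem F4265 : act 9 n808 = n808 := d43_2 F3010 D808 (iv D808)
def n809 : Q := act 4 n559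
theorem D809 : act 4 n559 = n809 := rfl
theorem F4266 : act 0 n809 = n809 := d3_1 D809 (iv D809) F3011
theorem F4267 : act 1 n809 = n809 := d11_1 D809 (iv D809) F3012
theorem F4268 : act 3 n809 = n809 := d24_1 D809 (iv D809) F3013 F2117 (iv F3013)
theorem F4269 : act 5 n809 = n809 := d30_2 D559 D809 (iv D809) (iv D559) F2110
theorem F4270 : act 7 n809 = n809 := d32_2 F3014 D809 (iv D809)
theorem F4271 : act 9 n809 = n809 := d34_2 F3015 D809 (iv D809)
def n810 : Q := act 6 n559
theorem D810 : act 6 n559 = n810 := rfl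
theorem F4272 : act 0 n810 = n810 := d5_1 D810 (iv D810) F3011
theorem F4273 : act 1 n810 = n810 := d13_1 D810 (iv D810) F3012
theorem F4274 : act 3 n810 = n561 := d26_1 D810 (iv D561) (iv F3013)
theorem F4275 : act 5 n810 = n810 := d35_1 D810 (iv D810) (iv D559) F2111 D559
theorem F4276 : act 9 n810 = n810 := d41_2 F3015 D810 (iv D810)
def n811 : Q := act 8 n559
theorem D811 : act 8 n559 = n811 := rfl
theorem F4277 : act 0 n811 = n811 := d7_1 D811 (iv D811) F3011
theorem F4278 : act 1 n811 = n811 := d15_1 D811 (iv D811) F3012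
theorem F4279 : act 3 n811 = n811 := d28_1 D811 (iv D811) F3013 F2119 (iv F3013)
theorem F4280 : act 5 n811 = n560 := d37_1 D811 (iv D560) D559
theorem F4281 : act 7 n811 = n811 := d42_1 D811 (iv D811) F3014
def n812 : Q := act 9 n560
theorem D812 : act 9 n560 = n812 := rfl
theorem F4282 : act 0 n812 = n812 := d8_1 D812 (iv D812) F3016
theorem F4283 : act 1 n812 = n812 := d16_1 D812 (iv D812) F3017
theorem F4284 : act 3 n812 = n812 := d29_1 D812 (iv D812) F3018
theorem F4285 : act 4 n812 = n812 := d34_1 D812 (iv D812) F3019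
theorem F4286 : act 6 n812 = n812 := d41_1 D812 (iv D812) F3020
theorem F4287 : act 7 n812 = n812 := d43_1 D812 (iv D812) F3021
theorem F4288 : act 8 n812 = n812 := d44_1 D812 (iv D812) (iv D560) F2113 D560
def n813 : Q := act 7 n561
theorem D813 : act 7 n561 = n813 := rfl
theorem F4289 : act 0 n813 = n813 := d6_1 D813 (iv D813) F3022
theorem F4290 : act 1 n813 = n813 := d14_1 D813 (iv D813) F3023
theorem F4291 : act 2 n813 = n562 := d21_1 D813 (iv D562) (iv F3024)
theorem F4292 : act 4 n813 = n813 := d32_1 D813 (iv D813) F3025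
theorem F4293 : act 5 n813 = n813 := d36_1 D813 (iv D813) F3026
theorem F4294 : act 6 n813 = n813 := d39_1 D813 (iv D813) (iv D561) F2118 D561
theorem F4295 : act 8 n813 = n813 := d42_2 F3027 D813 (iv D813)
theorem F4296 : act 9 n813 = n813 := d43_2 F3028 D813 (iv D813)
def n814 : Q := act 8 n563
theorem D814 : act 8 n563 = n814 := rfl
theorem F4297 : act 0 n814 = n623 := d7_1 D814 (iv D623) (iv F3036)
theorem F4298 : act 2 n814 = n814 := d22_1 D814 (iv D814) F3037
theorem F4299 : act 4 n814 = n814 := d33_1 D814 (iv D814) F3039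
theorem F4300 : act 5 n814 = n814 := d37_1 D814 (iv D814) F3040
theorem F4301 : act 6 n814 = n564 := d40_1 D814 (iv D564) D563
theorem F4302 : act 7 n814 = n814 := d42_1 D814 (iv D814) F3041
def n815 : Q := act 9 n563
theorem D815 : act 9 n563 = n815 := rfl
theorem F4303 : act 0 n815 = n624 := d8_1 D815 (iv D624) (iv F3036)
theorem F4304 : act 2 n815 = n815 := d23_1 D815 (iv D815) F3037
theorem F4305 : act 3 n815 = n815 := d29_1 D815 (iv D815) F3038
theorem F4306 : act 4 n815 = n815 := d34_1 D815 (iv D815) F3039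
theorem F4307 : act 5 n815 = n815 := d38_1 D815 (iv D815) F3040
theorem F4308 : act 6 n815 = n565 := d41_1 D815 (iv D565) D563
theorem F4309 : act 7 n815 = n815 := d43_1 D815 (iv D815) F3041
def n816 : Q := act 3 n564
theorem D816 : act 3 n564 = n816 := rfl
theorem F4310 : act 0 n816 = n625 := d2_1 D816 (iv D625) (iv F3042)
theorem F4311 : act 5 n816 = n569 := d25_2 (iv F3045) D816 (iv D569)
theorem F4312 : act 7 n816 = n566 := d27_2 (iv F3046) D816 (iv D566)
theorem F4313 : act 8 n816 = n816 := d28_2 D564 D816 (iv D816) (iv D564) F2129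
def n817 : Q := act 9 n564
theorem D817 : act 9 n564 = n817 := rfl
theorem F4314 : act 0 n817 = n626 := d8_1 D817 (iv D626) (iv F3042)
theorem F4315 : act 2 n817 = n817 := d23_1 D817 (iv D817) F3043
theorem F4316 : act 4 n817 = n817 := d34_1 D817 (iv D817) F3044
theorem F4317 : act 5 n817 = n570 := d38_1 D817 (iv D570) (iv F3045)
theorem F4318 : act 7 n817 = n567 := d43_1 D817 (iv D567) (iv F3046)
def n818 : Q := act 8 n565
theorem D818 : act 8 n565 = n818 := rfl
theorem F4319 : act 0 n818 = n627 := d7_1 D818 (iv D627) (iv F3047)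
theorem F4320 : act 2 n818 = n818 := d22_1 D818 (iv D818) F3048
theorem F4321 : act 4 n818 = n818 := d33_1 D818 (iv D818) F3050
theorem F4322 : act 5 n818 = n571 := d37_1 D818 (iv D571) (iv F3051)
theorem F4323 : act 7 n818 = n568 := d42_1 D818 (iv D568) (iv F3052)
def n819 : Q := act 2 n566
theorem D819 : act 2 n566 = n819 := rfl
theorem F4324 : act 0 n819 = n628 := d1_1 D819 (iv D628) (iv F3053)
theorem F4325 : act 1 n819 = n819 := d9_1 D819 (iv D819) (iv F4022) F4023 F4022
theorem F4326 : act 3 n819 = n819 := d17_2 D566 D819 (iv D819) (iv D566) F2133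
theorem F4327 : act 5 n819 = n572 := d19_2 (iv F3054) D819 (iv D572)
theorem F4328 : act 6 n819 = n819 := d20_2 F3055 D819 (iv D819)
theorem F4329 : act 8 n819 = n819 := d22_2 F3056 D819 (iv D819)
def n820 : Q := act 4 n566
theorem D820 : act 4 n566 = n820 := rfl
theorem F4330 : act 0 n820 = n629 := d3_1 D820 (iv D629) (iv F3053)
theorem F4331 : act 3 n820 = n820 := d24_1 D820 (iv D820) (iv D566) F2134 D566
theorem F4332 : act 5 n820 = n820 := d30_2 (iv F3054) D820 (iv D820) F3054 F2155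
theorem F4333 : act 6 n820 = n820 := d31_2 F3055 D820 (iv D820)
theorem F4334 : act 8 n820 = n820 := d33_2 F3056 D820 (iv D820)
def n821 : Q := act 9 n566
theorem D821 : act 9 n566 = n821 := rfl
theorem F4335 : act 0 n821 = n630 := d8_1 D821 (iv D630) (iv F3053)
theorem F4336 : act 3 n821 = n567 := d29_1 D821 (iv D567) D566
theorem F4337 : act 5 n821 = n573 := d38_1 D821 (iv D573) (iv F3054)
theorem F4338 : act 6 n821 = n821 := d41_1 D821 (iv D821) F3055
def n822 : Q := act 8 n567
theorem D822 : act 8 n567 = n822 := rfl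
theorem F4339 : act 0 n822 = n631 := d7_1 D822 (iv D631) (iv F3057)
theorem F4340 : act 2 n822 = n822 := d22_1 D822 (iv D822) F3058
theorem F4341 : act 4 n822 = n822 := d33_1 D822 (iv D822) F3059
theorem F4342 : act 5 n822 = n574 := d37_1 D822 (iv D574) (iv F3060)
theorem F4343 : act 6 n822 = n822 := d40_1 D822 (iv D822) F3061
theorem F4344 : act 9 n822 = n568 := d44_2 D567 D822 (iv D568) (iv D388) D387
def n823 : Q := act 3 n568
theorem D823 : act 3 n568 = n823 := rfl
theorem F4345 : act 0 n823 = n632 := d2_1 D823 (iv D632) (iv F3062)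
theorem F4346 : act 5 n823 = n575 := d25_2 (iv F3065) D823 (iv D575)
theorem F4347 : act 6 n823 = n823 := d26_2 F3066 D823 (iv D823)
theorem F4348 : act 8 n823 = n823 := d28_2 D568 D823 (iv D823) (iv D568) F2139
def n824 : Q := act 2 n569
theorem D824 : act 2 n569 = n824 := rfl
theorem F4349 : act 0 n824 = n633 := d1_1 D824 (iv D633) (iv F3067)
theorem F4350 : act 1 n824 = n824 := d9_1 D824 (iv D824) (iv F4038) F4039 F4038
theorem F4351 : act 3 n824 = n824 := d17_2 D569 D824 (iv D824) (iv D569) F2144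
theorem F4352 : act 4 n824 = n824 := d18_2 F3068 D824 (iv D824)
theorem F4353 : act 6 n824 = n824 := d20_2 F3069 D824 (iv D824)
theorem F4354 : act 7 n824 = n572 := d21_2 (iv F3070) D824 (iv D572)
theorem F4355 : act 8 n824 = n824 := d22_2 F3071 D824 (iv D824)
def n825 : Q := act 9 n569
theorem D825 : act 9 n569 = n825 := rfl
theorem F4356 : act 0 n825 = n634 := d8_1 D825 (iv D634) (iv F3067)
theorem F4357 : act 3 n825 = n570 := d29_1 D825 (iv D570) D569
theorem F4358 : act 4 n825 = n825 := d34_1 D825 (iv D825) F3068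
theorem F4359 : act 6 n825 = n825 := d41_1 D825 (iv D825) F3069
theorem F4360 : act 7 n825 = n573 := d43_1 D825 (iv D573) (iv F3070)
def n826 : Q := act 8 n570
theorem D826 : act 8 n570 = n826 := rfl
theorem F4361 : act 0 n826 = n635 := d7_1 D826 (iv D635) (iv F3072)
theorem F4362 : act 2 n826 = n826 := d22_1 D826 (iv D826) F3073
theorem F4363 : act 4 n826 = n581 := d33_1 D826 (iv D581) (iv F3074)
theorem F4364 : act 6 n826 = n826 := d40_1 D826 (iv D826) F3075
theorem F4365 : act 7 n826 = n574 := d42_1 D826 (iv D574) (iv F3076)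
theorem F4366 : act 9 n826 = n571 := d44_2 D570 D826 (iv D571) (iv D390) D389
def n827 : Q := act 3 n571
theorem D827 : act 3 n571 = n827 := rfl
theorem F4367 : act 0 n827 = n636 := d2_1 D827 (iv D636) (iv F3077)
theorem F4368 : act 6 n827 = n827 := d26_2 F3080 D827 (iv D827)
theorem F4369 : act 7 n827 = n575 := d27_2 (iv F3081) D827 (iv D575)
theorem F4370 : act 8 n827 = n827 := d28_2 D571 D827 (iv D827) (iv D571) F2150
def n828 : Q := act 9 n572
theorem D828 : act 9 n572 = n828 := rfl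
theorem F4371 : act 0 n828 = n638 := d8_1 D828 (iv D638) (iv F3082)
theorem F4372 : act 1 n828 = n828 := d16_1 D828 (iv D828) F3083
theorem F4373 : act 2 n828 = n573 := d23_1 D828 (iv D573) D572
theorem F4374 : act 3 n828 = n828 := d29_1 D828 (iv D828) F3084
theorem F4375 : act 4 n828 = n828 := d34_1 D828 (iv D828) F3085
theorem F4376 : act 6 n828 = n576 := d41_1 D828 (iv D576) (iv F3086)
def n829 : Q := act 8 n573
theorem D829 : act 8 n573 = n829 := rfl
theorem F4377 : act 0 n829 = n639 := d7_1 D829 (iv D639) (iv F3088)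
theorem F4378 : act 4 n829 = n829 := d33_1 D829 (iv D829) F3090
theorem F4379 : act 6 n829 = n577 := d40_1 D829 (iv D577) (iv F3091)
theorem F4380 : act 9 n829 = n829 := d44_2 D573 D829 (iv D829) (iv D573) F2157
def n830 : Q := act 3 n574
theorem D830 : act 3 n574 = n830 := rfl
theorem F4381 : act 0 n830 = n640 := d2_1 D830 (iv D640) (iv F3092)
theorem F4382 : act 6 n830 = n578 := d26_2 (iv F3095) D830 (iv D578)
theorem F4383 : act 9 n830 = n575 := d29_2 (iv F3096) D830 (iv D575)
def n831 : Q := act 2 n575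
theorem D831 : act 2 n575 = n831 := rfl
theorem F4384 : act 0 n831 = n641 := d1_1 D831 (iv D641) (iv F3097)
theorem F4385 : act 3 n831 = n831 := d17_2 D575 D831 (iv D831) (iv D575) F2163
theorem F4386 : act 6 n831 = n579 := d20_2 (iv F3098) D831 (iv D579)
theorem F4387 : act 8 n831 = n831 := d22_2 F3099 D831 (iv D831)
def n832 : Q := act 4 n575
theorem D832 : act 4 n575 = n832 := rfl
theorem F4388 : act 0 n832 = n642 := d3_1 D832 (iv D642) (iv F3097)
theorem F4389 : act 3 n832 = n585 := d24_1 D832 (iv D585) (iv D401) (iv F2164) D575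
theorem F4390 : act 6 n832 = n580 := d31_2 (iv F3098) D832 (iv D580)
theorem F4391 : act 8 n832 = n832 := d33_2 F3099 D832 (iv D832)
def n833 : Q := act 8 n576
theorem D833 : act 8 n576 = n833 := rfl
theorem F4394 : act 2 n833 = n577 := d22_1 D833 (iv D577) (iv F3102)
def n834 : Q := act 3 n577
theorem D834 : act 3 n577 = n834 := rfl
theorem F4399 : act 0 n834 = n645 := d2_1 D834 (iv D645) (iv F3107)
theorem F4400 : act 5 n834 = n834 := d25_2 F3109 D834 (iv D834)
theorem F4401 : act 7 n834 = n834 := d27_2 F3110 D834 (iv D834)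
theorem F4402 : act 8 n834 = n578 := d28_2 D577 D834 (iv D578) (iv D396) (iv F2174)
theorem F4403 : act 9 n834 = n834 := d29_2 F3111 D834 (iv D834)
def n835 : Q := act 2 n578
theorem D835 : act 2 n578 = n835 := rfl
theorem F4404 : act 0 n835 = n646 := d1_1 D835 (iv D646) (iv F3112)
theorem F4405 : act 3 n835 = n835 := d17_2 D578 D835 (iv D835) (iv D578) F2179
theorem F4406 : act 5 n835 = n835 := d19_2 F3113 D835 (iv D835)
theorem F4407 : act 7 n835 = n835 := d21_2 F3114 D835 (iv D835)
theorem F4408 : act 9 n835 = n579 := d23_2 (iv F3115) D835 (iv D579)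
def n836 : Q := act 4 n578
theorem D836 : act 4 n578 = n836 := rfl
theorem F4409 : act 0 n836 = n647 := d3_1 D836 (iv D647) (iv F3112)
theorem F4410 : act 3 n836 = n587 := d24_1 D836 (iv D587) (iv D402) (iv F2180) D578
theorem F4411 : act 7 n836 = n836 := d32_2 F3114 D836 (iv D836)
theorem F4412 : act 9 n836 = n580 := d34_2 (iv F3115) D836 (iv D580)
def n837 : Q := act 1 n579
theorem D837 : act 1 n579 = n837 := rfl
theorem F4413 : act 3 n837 = n837 := d10_2 F3117 D837 (iv D837)
theorem F4414 : act 5 n837 = n837 := d12_2 F3118 D837 (iv D837)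
theorem F4415 : act 7 n837 = n837 := d14_2 F3119 D837 (iv D837)
theorem F4416 : act 8 n837 = n837 := d15_2 F3120 D837 (iv D837)
def n838 : Q := act 4 n579
theorem D838 : act 4 n579 = n838 := rfl
theorem F4417 : act 0 n838 = n649 := d3_1 D838 (iv D649) (iv F3116)
theorem F4418 : act 2 n838 = n580 := d18_1 D838 (iv D580) D579
theorem F4419 : act 7 n838 = n838 := d32_2 F3119 D838 (iv D838)
theorem F4420 : act 8 n838 = n838 := d33_2 F3120 D838 (iv D838)
def n839 : Q := act 5 n580
theorem D839 : act 5 n580 = n839 := rfl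
theorem F4421 : act 0 n839 = n650 := d4_1 D839 (iv D650) (iv F3121)
theorem F4422 : act 3 n839 = n590 := d25_1 D839 (iv D590) (iv F3122)
theorem F4423 : act 4 n839 = n839 := d30_1 D839 (iv D839) (iv D580) F2185 D580
theorem F4424 : act 7 n839 = n839 := d36_2 F3123 D839 (iv D839)
theorem F4425 : act 8 n839 = n839 := d37_2 F3124 D839 (iv D839)
def n840 : Q := act 3 n581
theorem D840 : act 3 n581 = n840 := rfl
theorem F4426 : act 0 n840 = n651 := d2_1 D840 (iv D651) (iv F3125)
theorem F4427 : act 5 n840 = n840 := d25_2 F3127 D840 (iv D840)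
theorem F4428 : act 6 n840 = n840 := d26_2 F3128 D840 (iv D840)
theorem F4429 : act 7 n840 = n583 := d27_2 (iv F3129) D840 (iv D583)
theorem F4430 : act 8 n840 = n840 := d28_2 D581 D840 (iv D840) (iv D581) F2190
theorem F4431 : act 9 n840 = n582 := d29_2 (iv F3130) D840 (iv D582)
def n841 : Q := act 2 n582
theorem D841 : act 2 n582 = n841 := rfl
theorem F4432 : act 0 n841 = n652 := d1_1 D841 (iv D652) (iv F3131)
theorem F4433 : act 3 n841 = n841 := d17_2 D582 D841 (iv D841) (iv D582) F2195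
theorem F4434 : act 5 n841 = n841 := d19_2 F3132 D841 (iv D841)
theorem F4435 : act 6 n841 = n841 := d20_2 F3133 D841 (iv D841)
theorem F4436 : act 7 n841 = n584 := d21_2 (iv F3134) D841 (iv D584)
theorem F4437 : act 8 n841 = n599 := d22_2 (iv F3135) D841 (iv D599)
def n842 : Q := act 4 n582
theorem D842 : act 4 n582 = n842 := rfl
theorem F4438 : act 0 n842 = n653 := d3_1 D842 (iv D653) (iv F3131)
theorem F4439 : act 6 n842 = n842 := d31_2 F3133 D842 (iv D842)
theorem F4440 : act 7 n842 = n585 := d32_2 (iv F3134) D842 (iv D585)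
theorem F4441 : act 8 n842 = n600 := d33_2 (iv F3135) D842 (iv D600)
def n843 : Q := act 2 n583
theorem D843 : act 2 n583 = n843 := rfl
theorem F4442 : act 0 n843 = n654 := d1_1 D843 (iv D654) (iv F3136)
theorem F4443 : act 3 n843 = n843 := d17_2 D583 D843 (iv D843) (iv D583) F2200
theorem F4444 : act 5 n843 = n843 := d19_2 F3137 D843 (iv D843)
theorem F4445 : act 6 n843 = n586 := d20_2 (iv F3138) D843 (iv D586)
theorem F4446 : act 8 n843 = n843 := d22_2 F3139 D843 (iv D843)
theorem F4447 : act 9 n843 = n584 := d23_2 (iv F3140) D843 (iv D584)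
def n844 : Q := act 4 n583
theorem D844 : act 4 n583 = n844 := rfl
theorem F4448 : act 0 n844 = n655 := d3_1 D844 (iv D655) (iv F3136)
theorem F4449 : act 6 n844 = n587 := d31_2 (iv F3138) D844 (iv D587)
theorem F4450 : act 8 n844 = n844 := d33_2 F3139 D844 (iv D844)
theorem F4451 : act 9 n844 = n585 := d34_2 (iv F3140) D844 (iv D585)
def n845 : Q := act 1 n584
theorem D845 : act 1 n584 = n845 := rfl
theorem F4452 : act 3 n845 = n845 := d10_2 F3142 D845 (iv D845)
theorem F4453 : act 5 n845 = n845 := d12_2 F3143 D845 (iv D845)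
theorem F4454 : act 6 n845 = n588 := d13_2 (iv F3144) D845 (iv D588)
theorem F4455 : act 8 n845 = n601 := d15_2 (iv F3145) D845 (iv D601)
def n846 : Q := act 4 n584
theorem D846 : act 4 n584 = n846 := rfl
theorem F4456 : act 0 n846 = n657 := d3_1 D846 (iv D657) (iv F3141)
theorem F4457 : act 2 n846 = n585 := d18_1 D846 (iv D585) D584
theorem F4458 : act 6 n846 = n589 := d31_2 (iv F3144) D846 (iv D589)
theorem F4459 : act 8 n846 = n602 := d33_2 (iv F3145) D846 (iv D602)
def n847 : Q := act 5 n585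
theorem D847 : act 5 n585 = n847 := rfl
theorem F4460 : act 0 n847 = n658 := d4_1 D847 (iv D658) (iv F3146)
theorem F4461 : act 4 n847 = n847 := d30_1 D847 (iv D847) (iv D585) F2205 D585
theorem F4462 : act 8 n847 = n603 := d37_2 (iv F3148) D847 (iv D603)
def n848 : Q := act 1 n586
theorem D848 : act 1 n586 = n848 := rfl
theorem F4463 : act 3 n848 = n848 := d10_2 F3150 D848 (iv D848)
theorem F4464 : act 5 n848 = n591 := d12_2 (iv F3151) D848 (iv D591)
theorem F4465 : act 7 n848 = n848 := d14_2 F3152 D848 (iv D848)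
theorem F4466 : act 8 n848 = n848 := d15_2 F3153 D848 (iv D848)
theorem F4467 : act 9 n848 = n588 := d16_2 (iv F3154) D848 (iv D588)
def n849 : Q := act 4 n586
theorem D849 : act 4 n586 = n849 := rfl
theorem F4468 : act 0 n849 = n660 := d3_1 D849 (iv D660) (iv F3149)
theorem F4469 : act 2 n849 = n587 := d18_1 D849 (iv D587) D586
theorem F4470 : act 7 n849 = n849 := d32_2 F3152 D849 (iv D849)
theorem F4471 : act 8 n849 = n849 := d33_2 F3153 D849 (iv D849)
theorem F4472 : act 9 n849 = n589 := d34_2 (iv F3154) D849 (iv D589)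
def n850 : Q := act 5 n587
theorem D850 : act 5 n587 = n850 := rfl
theorem F4473 : act 0 n850 = n661 := d4_1 D850 (iv D661) (iv F3155)
theorem F4474 : act 4 n850 = n593 := d30_1 D850 (iv D593) (iv D406) (iv F2209) D587
theorem F4475 : act 7 n850 = n850 := d36_2 F3156 D850 (iv D850)
theorem F4476 : act 8 n850 = n850 := d37_2 F3157 D850 (iv D850)
theorem F4477 : act 9 n850 = n590 := d38_2 (iv F3158) D850 (iv D590)
def n851 : Q := act 0 n588
theorem D851 : act 0 n588 = n851 := rfl
theorem F4478 : act 1 n851 = n662 := d0_2 D588 D851 (iv D662) (iv D455) (iv F2213)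
theorem F4479 : act 3 n851 = n851 := d2_2 F3159 D851 (iv D851)
theorem F4480 : act 5 n851 = n594 := d4_2 (iv F3160) D851 (iv D594)
theorem F4481 : act 7 n851 = n851 := d6_2 F3161 D851 (iv D851)
theorem F4482 : act 8 n851 = n604 := d7_2 (iv F3162) D851 (iv D604)
def n852 : Q := act 4 n588
theorem D852 : act 4 n588 = n852 := rfl
theorem F4483 : act 1 n852 = n589 := d11_1 D852 (iv D589) D588
theorem F4484 : act 7 n852 = n852 := d32_2 F3161 D852 (iv D852)
theorem F4485 : act 8 n852 = n605 := d33_2 (iv F3162) D852 (iv D605)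
def n853 : Q := act 3 n589
theorem D853 : act 3 n589 = n853 := rfl
theorem F4486 : act 0 n853 = n664 := d2_1 D853 (iv D664) (iv F3163)
theorem F4487 : act 4 n853 = n853 := d24_2 D589 D853 (iv D853) (iv D589) F2214
theorem F4488 : act 7 n853 = n853 := d27_2 F3165 D853 (iv D853)
def n854 : Q := act 5 n589
theorem D854 : act 5 n589 = n854 := rfl
theorem F4489 : act 0 n854 = n665 := d4_1 D854 (iv D665) (iv F3163)
theorem F4490 : act 2 n854 = n590 := d19_1 D854 (iv D590) (iv F3164)
theorem F4491 : act 4 n854 = n597 := d30_1 D854 (iv D597) (iv D408) (iv F2215) D589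
theorem F4492 : act 7 n854 = n854 := d36_2 F3165 D854 (iv D854)
theorem F4493 : act 8 n854 = n607 := d37_2 (iv F3166) D854 (iv D607)
def n855 : Q := act 6 n590
theorem D855 : act 6 n590 = n855 := rfl
theorem F4494 : act 0 n855 = n666 := d5_1 D855 (iv D666) (iv F3167)
theorem F4495 : act 4 n855 = n598 := d31_1 D855 (iv D598) (iv F3168)
theorem F4496 : act 8 n855 = n608 := d40_2 (iv F3170) D855 (iv D608)
def n856 : Q := act 0 n591
theorem D856 : act 0 n591 = n856 := rfl
theorem F4497 : act 1 n856 = n667 := d0_2 D591 D856 (iv D667) (iv D458) (iv F2221)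
theorem F4498 : act 3 n856 = n856 := d2_2 F3171 D856 (iv D856)
theorem F4499 : act 6 n856 = n856 := d5_2 F3172 D856 (iv D856)
theorem F4500 : act 7 n856 = n856 := d6_2 F3173 D856 (iv D856)
theorem F4501 : act 8 n856 = n856 := d7_2 F3174 D856 (iv D856)
theorem F4502 : act 9 n856 = n594 := d8_2 (iv F3175) D856 (iv D594)
def n857 : Q := act 4 n591
theorem D857 : act 4 n591 = n857 := rfl
theorem F4503 : act 1 n857 = n592 := d11_1 D857 (iv D592) D591
theorem F4504 : act 6 n857 = n857 := d31_2 F3172 D857 (iv D857)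
theorem F4505 : act 7 n857 = n857 := d32_2 F3173 D857 (iv D857)
theorem F4506 : act 8 n857 = n857 := d33_2 F3174 D857 (iv D857)
theorem F4507 : act 9 n857 = n595 := d34_2 (iv F3175) D857 (iv D595)
def n858 : Q := act 3 n592
theorem D858 : act 3 n592 = n858 := rfl
theorem F4508 : act 0 n858 = n669 := d2_1 D858 (iv D669) (iv F3176)
theorem F4509 : act 2 n858 = n858 := d17_1 D858 (iv D858) F3177 F2228 (iv F3177)
theorem F4510 : act 4 n858 = n858 := d24_2 D592 D858 (iv D858) (iv D592) F2222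
theorem F4511 : act 6 n858 = n858 := d26_2 F3178 D858 (iv D858)
theorem F4512 : act 7 n858 = n858 := d27_2 F3179 D858 (iv D858)
theorem F4513 : act 9 n858 = n596 := d29_2 (iv F3181) D858 (iv D596)
def n859 : Q := act 5 n592
theorem D859 : act 5 n592 = n859 := rfl
theorem F4514 : act 0 n859 = n670 := d4_1 D859 (iv D670) (iv F3176)
theorem F4515 : act 2 n859 = n593 := d19_1 D859 (iv D593) (iv F3177)
theorem F4516 : act 7 n859 = n859 := d36_2 F3179 D859 (iv D859)
theorem F4517 : act 8 n859 = n859 := d37_2 F3180 D859 (iv D859)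
theorem F4518 : act 9 n859 = n597 := d38_2 (iv F3181) D859 (iv D597)
def n860 : Q := act 6 n593
theorem D860 : act 6 n593 = n860 := rfl
theorem F4519 : act 0 n860 = n671 := d5_1 D860 (iv D671) (iv F3182)
theorem F4520 : act 3 n860 = n860 := d26_1 D860 (iv D860) F3183
theorem F4521 : act 5 n860 = n860 := d35_1 D860 (iv D860) (iv D593) F2229 D593
theorem F4522 : act 8 n860 = n860 := d40_2 F3185 D860 (iv D860)
theorem F4523 : act 9 n860 = n598 := d41_2 (iv F3186) D860 (iv D598)
def n861 : Q := act 4 n594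
theorem D861 : act 4 n594 = n861 := rfl
theorem F4524 : act 0 n861 = n595 := d3_1 D861 (iv D595) D594
theorem F4525 : act 1 n861 = n672 := d11_1 D861 (iv D672) (iv F3187)
theorem F4526 : act 6 n861 = n861 := d31_2 F3189 D861 (iv D861)
theorem F4527 : act 7 n861 = n861 := d32_2 F3190 D861 (iv D861)
theorem F4528 : act 8 n861 = n609 := d33_2 (iv F3191) D861 (iv D609)
def n862 : Q := act 3 n595
theorem D862 : act 3 n595 = n862 := rfl
theorem F4529 : act 1 n862 = n596 := d10_1 D862 (iv D596) (iv F3192)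
theorem F4530 : act 4 n862 = n862 := d24_2 D595 D862 (iv D862) (iv D595) F2233
theorem F4531 : act 6 n862 = n862 := d26_2 F3193 D862 (iv D862)
theorem F4532 : act 7 n862 = n862 := d27_2 F3194 D862 (iv D862)
theorem F4533 : act 8 n862 = n862 := d28_2 (iv F3195) D862 (iv D862) F3195 F2279
def n863 : Q := act 5 n595
theorem D863 : act 5 n595 = n863 := rfl
theorem F4534 : act 1 n863 = n597 := d12_1 D863 (iv D597) (iv F3192)
theorem F4535 : act 7 n863 = n863 := d36_2 F3194 D863 (iv D863)
theorem F4536 : act 8 n863 = n610 := d37_2 (iv F3195) D863 (iv D610)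
def n864 : Q := act 5 n596
theorem D864 : act 5 n596 = n864 := rfl
theorem F4537 : act 0 n864 = n675 := d4_1 D864 (iv D675) (iv F3196)
theorem F4538 : act 2 n864 = n864 := d19_1 D864 (iv D864) F3197
theorem F4539 : act 3 n864 = n597 := d25_1 D864 (iv D597) D596
theorem F4540 : act 7 n864 = n864 := d36_2 F3200 D864 (iv D864)
theorem F4541 : act 8 n864 = n864 := d37_2 F3201 D864 (iv D864)
def n865 : Q := act 6 n597
theorem D865 : act 6 n597 = n865 := rfl
theorem F4542 : act 0 n865 = n676 := d5_1 D865 (iv D676) (iv F3202)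
theorem F4543 : act 2 n865 = n598 := d20_1 D865 (iv D598) (iv F3203)
theorem F4544 : act 5 n865 = n865 := d35_1 D865 (iv D865) (iv D597) F2239 D597
theorem F4545 : act 8 n865 = n611 := d40_2 (iv F3205) D865 (iv D611)
def n866 : Q := act 7 n598
theorem D866 : act 7 n598 = n866 := rfl
theorem F4546 : act 0 n866 = n677 := d6_1 D866 (iv D677) (iv F3206)
theorem F4547 : act 3 n866 = n866 := d27_1 D866 (iv D866) F3207
theorem F4548 : act 5 n866 = n866 := d36_1 D866 (iv D866) F3208
theorem F4549 : act 6 n866 = n866 := d39_1 D866 (iv D866) (iv D598) F2244 D598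
theorem F4550 : act 8 n866 = n612 := d42_2 (iv F3209) D866 (iv D612)
def n867 : Q := act 1 n599
theorem D867 : act 1 n599 = n867 := rfl
theorem F4551 : act 3 n867 = n613 := d10_2 (iv F3211) D867 (iv D613)
theorem F4552 : act 5 n867 = n867 := d12_2 F3212 D867 (iv D867)
theorem F4553 : act 6 n867 = n867 := d13_2 F3213 D867 (iv D867)
theorem F4554 : act 7 n867 = n601 := d14_2 (iv F3214) D867 (iv D601)
theorem F4555 : act 9 n867 = n867 := d16_2 F3215 D867 (iv D867)
def n868 : Q := act 4 n599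
theorem D868 : act 4 n599 = n868 := rfl
theorem F4556 : act 0 n868 = n679 := d3_1 D868 (iv D679) (iv F3210)
theorem F4557 : act 2 n868 = n600 := d18_1 D868 (iv D600) D599
theorem F4558 : act 6 n868 = n868 := d31_2 F3213 D868 (iv D868)
theorem F4559 : act 7 n868 = n602 := d32_2 (iv F3214) D868 (iv D602)
theorem F4560 : act 9 n868 = n868 := d34_2 F3215 D868 (iv D868)
def n869 : Q := act 5 n600
theorem D869 : act 5 n600 = n869 := rfl
theorem F4561 : act 0 n869 = n680 := d4_1 D869 (iv D680) (iv F3216)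
theorem F4562 : act 3 n869 = n869 := d25_1 D869 (iv D869) F3217
theorem F4563 : act 4 n869 = n869 := d30_1 D869 (iv D869) (iv D600) F2247 D600
theorem F4564 : act 7 n869 = n603 := d36_2 (iv F3219) D869 (iv D603)
theorem F4565 : act 9 n869 = n869 := d38_2 F3220 D869 (iv D869)
def n870 : Q := act 0 n601
theorem D870 : act 0 n601 = n870 := rfl
theorem F4566 : act 1 n870 = n681 := d0_2 D601 D870 (iv D681) (iv D468) (iv F2251)
theorem F4567 : act 3 n870 = n616 := d2_2 (iv F3221) D870 (iv D616)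
theorem F4568 : act 5 n870 = n870 := d4_2 F3222 D870 (iv D870)
theorem F4569 : act 6 n870 = n604 := d5_2 (iv F3223) D870 (iv D604)
theorem F4570 : act 9 n870 = n870 := d8_2 F3224 D870 (iv D870)
def n871 : Q := act 4 n601
theorem D871 : act 4 n601 = n871 := rfl
theorem F4571 : act 1 n871 = n602 := d11_1 D871 (iv D602) D601
theorem F4572 : act 6 n871 = n605 := d31_2 (iv F3223) D871 (iv D605)
theorem F4573 : act 9 n871 = n871 := d34_2 F3224 D871 (iv D871)
def n872 : Q := act 3 n602
theorem D872 : act 3 n602 = n872 := rfl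
theorem F4574 : act 0 n872 = n683 := d2_1 D872 (iv D683) (iv F3225)
theorem F4575 : act 2 n872 = n872 := d17_1 D872 (iv D872) F3226 F2257 (iv F3226)
theorem F4576 : act 4 n872 = n618 := d24_2 D602 D872 (iv D618) (iv D424) (iv F2252)
theorem F4577 : act 6 n872 = n606 := d26_2 (iv F3227) D872 (iv D606)
theorem F4578 : act 9 n872 = n872 := d29_2 F3228 D872 (iv D872)
def n873 : Q := act 5 n602
theorem D873 : act 5 n602 = n873 := rfl
theorem F4579 : act 0 n873 = n684 := d4_1 D873 (iv D684) (iv F3225)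
theorem F4580 : act 2 n873 = n603 := d19_1 D873 (iv D603) (iv F3226)
theorem F4581 : act 4 n873 = n873 := d30_1 D873 (iv D873) (iv D602) F2253 D602
theorem F4582 : act 9 n873 = n873 := d38_2 F3228 D873 (iv D873)
def n874 : Q := act 6 n603
theorem D874 : act 6 n603 = n874 := rfl
theorem F4583 : act 0 n874 = n685 := d5_1 D874 (iv D685) (iv F3229)
theorem F4584 : act 3 n874 = n874 := d26_1 D874 (iv D874) F3230
theorem F4585 : act 4 n874 = n874 := d31_1 D874 (iv D874) F3231
theorem F4586 : act 5 n874 = n608 := d35_1 D874 (iv D608) (iv D415) (iv F2258) D603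
theorem F4587 : act 9 n874 = n874 := d41_2 F3232 D874 (iv D874)
def n875 : Q := act 4 n604
theorem D875 : act 4 n604 = n875 := rfl
theorem F4588 : act 0 n875 = n605 := d3_1 D875 (iv D605) D604
theorem F4589 : act 1 n875 = n686 := d11_1 D875 (iv D686) (iv F3233)
theorem F4590 : act 7 n875 = n875 := d32_2 F3236 D875 (iv D875)
theorem F4591 : act 9 n875 = n875 := d34_2 F3237 D875 (iv D875)
def n876 : Q := act 3 n605
theorem D876 : act 3 n605 = n876 := rfl
theorem F4592 : act 1 n876 = n606 := d10_1 D876 (iv D606) (iv F3238)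
theorem F4593 : act 4 n876 = n621 := d24_2 D605 D876 (iv D621) (iv D427) (iv F2260)
theorem F4594 : act 7 n876 = n876 := d27_2 F3239 D876 (iv D876)
theorem F4595 : act 9 n876 = n876 := d29_2 F3240 D876 (iv D876)
def n877 : Q := act 5 n605
theorem D877 : act 5 n605 = n877 := rfl
theorem F4596 : act 1 n877 = n607 := d12_1 D877 (iv D607) (iv F3238)
theorem F4597 : act 4 n877 = n610 := d30_1 D877 (iv D610) (iv D417) (iv F2261) D605
theorem F4598 : act 7 n877 = n877 := d36_2 F3239 D877 (iv D877)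
theorem F4599 : act 9 n877 = n877 := d38_2 F3240 D877 (iv D877)
def n878 : Q := act 5 n606
theorem D878 : act 5 n606 = n878 := rfl
theorem F4600 : act 0 n878 = n689 := d4_1 D878 (iv D689) (iv F3241)
theorem F4601 : act 2 n878 = n878 := d19_1 D878 (iv D878) F3242
theorem F4602 : act 3 n878 = n607 := d25_1 D878 (iv D607) D606
theorem F4603 : act 4 n878 = n878 := d30_1 D878 (iv D878) F3243 F2343 (iv F3243)
theorem F4604 : act 7 n878 = n878 := d36_2 F3244 D878 (iv D878)
theorem F4605 : act 9 n878 = n878 := d38_2 F3245 D878 (iv D878)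
def n879 : Q := act 8 n606
theorem D879 : act 8 n606 = n879 := rfl
theorem F4606 : act 0 n879 = n690 := d7_1 D879 (iv D690) (iv F3241)
theorem F4607 : act 2 n879 = n879 := d22_1 D879 (iv D879) F3242
theorem F4608 : act 4 n879 = n622 := d33_1 D879 (iv D622) (iv F3243)
theorem F4609 : act 7 n879 = n879 := d42_1 D879 (iv D879) F3244
def n880 : Q := act 6 n607
theorem D880 : act 6 n607 = n880 := rfl
theorem F4610 : act 0 n880 = n691 := d5_1 D880 (iv D691) (iv F3246)
theorem F4611 : act 2 n880 = n608 := d20_1 D880 (iv D608) (iv F3247)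
theorem F4612 : act 4 n880 = n611 := d31_1 D880 (iv D611) (iv F3248)
theorem F4613 : act 9 n880 = n880 := d41_2 F3250 D880 (iv D880)
def n881 : Q := act 7 n608
theorem D881 : act 7 n608 = n881 := rfl
theorem F4614 : act 0 n881 = n692 := d6_1 D881 (iv D692) (iv F3251)
theorem F4615 : act 3 n881 = n881 := d27_1 D881 (iv D881) F3252
theorem F4616 : act 4 n881 = n612 := d32_1 D881 (iv D612) (iv F3253)
theorem F4617 : act 6 n881 = n881 := d39_1 D881 (iv D881) (iv D608) F2271 D608
theorem F4618 : act 9 n881 = n881 := d43_2 F3254 D881 (iv D881)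
def n882 : Q := act 5 n609
theorem D882 : act 5 n609 = n882 := rfl
theorem F4619 : act 0 n882 = n610 := d4_1 D882 (iv D610) (iv F3255)
theorem F4620 : act 1 n882 = n693 := d12_1 D882 (iv D693) (iv F3256)
theorem F4621 : act 3 n882 = n882 := d25_1 D882 (iv D882) F3257
theorem F4622 : act 7 n882 = n882 := d36_2 F3259 D882 (iv D882)
theorem F4623 : act 9 n882 = n882 := d38_2 F3260 D882 (iv D882)
def n883 : Q := act 6 n610
theorem D883 : act 6 n610 = n883 := rfl
theorem F4624 : act 1 n883 = n611 := d13_1 D883 (iv D611) (iv F3261)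
theorem F4625 : act 3 n883 = n883 := d26_1 D883 (iv D883) F3262
theorem F4626 : act 5 n883 = n883 := d35_1 D883 (iv D883) (iv D610) F2280 D610
theorem F4627 : act 9 n883 = n883 := d41_2 F3264 D883 (iv D883)
def n884 : Q := act 7 n611
theorem D884 : act 7 n611 = n884 := rfl
theorem F4628 : act 0 n884 = n695 := d6_1 D884 (iv D695) (iv F3265)
theorem F4629 : act 2 n884 = n612 := d21_1 D884 (iv D612) (iv F3266)
theorem F4630 : act 3 n884 = n884 := d27_1 D884 (iv D884) F3267
theorem F4631 : act 5 n884 = n884 := d36_1 D884 (iv D884) F3268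
theorem F4632 : act 6 n884 = n884 := d39_1 D884 (iv D884) (iv D611) F2286 D611
theorem F4633 : act 9 n884 = n884 := d43_2 F3269 D884 (iv D884)
def n885 : Q := act 0 n613
theorem D885 : act 0 n613 = n885 := rfl
theorem F4634 : act 1 n885 = n696 := d0_2 D613 D885 (iv D696) (iv D480) (iv F2299)
theorem F4635 : act 2 n885 = n885 := d1_2 F3275 D885 (iv D885)
theorem F4636 : act 5 n885 = n885 := d4_2 F3276 D885 (iv D885)
theorem F4637 : act 6 n885 = n885 := d5_2 F3277 D885 (iv D885)
theorem F4638 : act 7 n885 = n616 := d6_2 (iv F3278) D885 (iv D616)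
theorem F4639 : act 8 n885 = n885 := d7_2 F3279 D885 (iv D885)
theorem F4640 : act 9 n885 = n885 := d8_2 F3280 D885 (iv D885)
def n886 : Q := act 4 n613
theorem D886 : act 4 n613 = n886 := rfl
theorem F4641 : act 1 n886 = n614 := d11_1 D886 (iv D614) D613
theorem F4642 : act 2 n886 = n886 := d18_1 D886 (iv D886) F3275
theorem F4643 : act 6 n886 = n886 := d31_2 F3277 D886 (iv D886)
theorem F4644 : act 7 n886 = n617 := d32_2 (iv F3278) D886 (iv D617)
theorem F4645 : act 8 n886 = n886 := d33_2 F3279 D886 (iv D886)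
theorem F4646 : act 9 n886 = n886 := d34_2 F3280 D886 (iv D886)
def n887 : Q := act 3 n614
theorem D887 : act 3 n614 = n887 := rfl
theorem F4647 : act 0 n887 = n698 := d2_1 D887 (iv D698) (iv F3281)
theorem F4648 : act 2 n887 = n887 := d17_1 D887 (iv D887) F3282 F2307 (iv F3282)
theorem F4649 : act 6 n887 = n887 := d26_2 F3283 D887 (iv D887)
theorem F4650 : act 7 n887 = n618 := d27_2 (iv F3284) D887 (iv D618)
theorem F4651 : act 9 n887 = n887 := d29_2 F3286 D887 (iv D887)
def n888 : Q := act 5 n614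
theorem D888 : act 5 n614 = n888 := rfl
theorem F4652 : act 0 n888 = n699 := d4_1 D888 (iv D699) (iv F3281)
theorem F4653 : act 2 n888 = n615 := d19_1 D888 (iv D615) (iv F3282)
theorem F4654 : act 4 n888 = n888 := d30_1 D888 (iv D888) (iv D614) F2300 D614
theorem F4655 : act 7 n888 = n619 := d36_2 (iv F3284) D888 (iv D619)
theorem F4656 : act 8 n888 = n888 := d37_2 F3285 D888 (iv D888)
theorem F4657 : act 9 n888 = n888 := d38_2 F3286 D888 (iv D888)
def n889 : Q := act 6 n615
theorem D889 : act 6 n615 = n889 := rfl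
theorem F4658 : act 0 n889 = n700 := d5_1 D889 (iv D700) (iv F3287)
theorem F4659 : act 1 n889 = n889 := d13_1 D889 (iv D889) F3288
theorem F4660 : act 3 n889 = n889 := d26_1 D889 (iv D889) F3289
theorem F4661 : act 4 n889 = n889 := d31_1 D889 (iv D889) F3290
theorem F4662 : act 5 n889 = n889 := d35_1 D889 (iv D889) (iv D615) F2308 D615
theorem F4663 : act 7 n889 = n889 := d39_2 (iv F3291) D889 (iv D889) F3291 F2326
theorem F4664 : act 8 n889 = n889 := d40_2 F3292 D889 (iv D889)
theorem F4665 : act 9 n889 = n889 := d41_2 F3293 D889 (iv D889)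
def n890 : Q := act 4 n616
theorem D890 : act 4 n616 = n890 := rfl
theorem F4666 : act 0 n890 = n617 := d3_1 D890 (iv D617) D616
theorem F4667 : act 1 n890 = n701 := d11_1 D890 (iv D701) (iv F3294)
theorem F4668 : act 2 n890 = n890 := d18_1 D890 (iv D890) F3295
theorem F4669 : act 6 n890 = n620 := d31_2 (iv F3297) D890 (iv D620)
theorem F4670 : act 8 n890 = n890 := d33_2 F3298 D890 (iv D890)
theorem F4671 : act 9 n890 = n890 := d34_2 F3299 D890 (iv D890)
def n891 : Q := act 3 n617
theorem D891 : act 3 n617 = n891 := rfl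
theorem F4672 : act 1 n891 = n618 := d10_1 D891 (iv D618) (iv F3300)
theorem F4673 : act 6 n891 = n621 := d26_2 (iv F3302) D891 (iv D621)
theorem F4674 : act 9 n891 = n891 := d29_2 F3304 D891 (iv D891)
def n892 : Q := act 5 n617
theorem D892 : act 5 n617 = n892 := rfl
theorem F4675 : act 1 n892 = n619 := d12_1 D892 (iv D619) (iv F3300)
theorem F4676 : act 2 n892 = n892 := d19_1 D892 (iv D892) F3301
theorem F4677 : act 4 n892 = n892 := d30_1 D892 (iv D892) (iv D617) F2313 D617
theorem F4678 : act 6 n892 = n892 := d35_2 (iv F3302) D892 (iv D892) F3302 F2337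
theorem F4679 : act 8 n892 = n892 := d37_2 F3303 D892 (iv D892)
theorem F4680 : act 9 n892 = n892 := d38_2 F3304 D892 (iv D892)
def n893 : Q := act 5 n618
theorem D893 : act 5 n618 = n893 := rfl
theorem F4681 : act 0 n893 = n704 := d4_1 D893 (iv D704) (iv F3305)
theorem F4682 : act 2 n893 = n893 := d19_1 D893 (iv D893) F3306
theorem F4683 : act 3 n893 = n619 := d25_1 D893 (iv D619) D618
theorem F4684 : act 6 n893 = n893 := d35_2 (iv F3307) D893 (iv D893) F3307 F2343
theorem F4685 : act 9 n893 = n893 := d38_2 F3308 D893 (iv D893)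
def n894 : Q := act 8 n618
theorem D894 : act 8 n618 = n894 := rfl
theorem F4686 : act 0 n894 = n705 := d7_1 D894 (iv D705) (iv F3305)
theorem F4687 : act 2 n894 = n894 := d22_1 D894 (iv D894) F3306
theorem F4688 : act 3 n894 = n894 := d28_1 D894 (iv D894) (iv D618) F2320 D618
theorem F4689 : act 6 n894 = n622 := d40_1 D894 (iv D622) (iv F3307)
def n895 : Q := act 3 n620
theorem D895 : act 3 n620 = n895 := rfl
theorem F4690 : act 0 n895 = n621 := d2_1 D895 (iv D621) (iv F3315)
theorem F4691 : act 1 n895 = n706 := d10_1 D895 (iv D706) (iv F3316)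
theorem F4692 : act 5 n895 = n895 := d25_2 F3318 D895 (iv D895)
theorem F4693 : act 7 n895 = n895 := d27_2 F3319 D895 (iv D895)
theorem F4694 : act 9 n895 = n895 := d29_2 F3321 D895 (iv D895)
def n896 : Q := act 2 n621
theorem D896 : act 2 n621 = n896 := rfl
theorem F4695 : act 1 n896 = n896 := d9_1 D896 (iv D896) F3322 F2342 (iv F3322)
theorem F4696 : act 3 n896 = n896 := d17_2 D621 D896 (iv D896) (iv D621) F2336
theorem F4697 : act 5 n896 = n896 := d19_2 F3323 D896 (iv D896)
theorem F4698 : act 7 n896 = n896 := d21_2 F3324 D896 (iv D896)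
theorem F4699 : act 9 n896 = n896 := d23_2 F3325 D896 (iv D896)
def n897 : Q := act 8 n621
theorem D897 : act 8 n621 = n897 := rfl
theorem F4700 : act 1 n897 = n622 := d15_1 D897 (iv D622) (iv F3322)
theorem F4701 : act 3 n897 = n897 := d28_1 D897 (iv D897) (iv D621) F2339 D621
theorem F4702 : act 5 n897 = n897 := d37_1 D897 (iv D897) F3323
theorem F4703 : act 7 n897 = n897 := d42_1 D897 (iv D897) F3324
def n898 : Q := act 9 n622
theorem D898 : act 9 n622 = n898 := rfl
theorem F4705 : act 2 n898 = n898 := d23_1 D898 (iv D898) F3327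
theorem F4706 : act 3 n898 = n898 := d29_1 D898 (iv D898) F3328
theorem F4707 : act 5 n898 = n898 := d38_1 D898 (iv D898) F3329
theorem F4708 : act 7 n898 = n898 := d43_1 D898 (iv D898) F3330
theorem F4709 : act 8 n898 = n898 := d44_1 D898 (iv D898) (iv D622) F2345 D622
def n899 : Q := act 3 n623
theorem D899 : act 3 n623 = n899 := rfl
theorem F4710 : act 1 n899 = n899 := d10_1 D899 (iv D899) F3331
theorem F4711 : act 5 n899 = n899 := d25_2 F3334 D899 (iv D899)
theorem F4712 : act 6 n899 = n625 := d26_2 (iv F3335) D899 (iv D625)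
theorem F4713 : act 7 n899 = n899 := d27_2 F3336 D899 (iv D899)
theorem F4714 : act 8 n899 = n899 := d28_2 D623 D899 (iv D899) (iv D623) F2348
def n900 : Q := act 9 n623
theorem D900 : act 9 n623 = n900 := rfl
theorem F4715 : act 1 n900 = n900 := d16_1 D900 (iv D900) F3331
theorem F4716 : act 2 n900 = n900 := d23_1 D900 (iv D900) F3332
theorem F4717 : act 4 n900 = n900 := d34_1 D900 (iv D900) F3333
theorem F4718 : act 5 n900 = n900 := d38_1 D900 (iv D900) F3334
theorem F4719 : act 6 n900 = n626 := d41_1 D900 (iv D626) (iv F3335)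
theorem F4720 : act 7 n900 = n900 := d43_1 D900 (iv D900) F3336
def n901 : Q := act 8 n624
theorem D901 : act 8 n624 = n901 := rfl
theorem F4721 : act 1 n901 = n901 := d15_1 D901 (iv D901) F3337
theorem F4722 : act 2 n901 = n901 := d22_1 D901 (iv D901) F3338
theorem F4723 : act 4 n901 = n901 := d33_1 D901 (iv D901) F3340
theorem F4724 : act 5 n901 = n901 := d37_1 D901 (iv D901) F3341
theorem F4725 : act 6 n901 = n627 := d40_1 D901 (iv D627) (iv F3342)
theorem F4726 : act 7 n901 = n901 := d42_1 D901 (iv D901) F3343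
def n902 : Q := act 2 n625
theorem D902 : act 2 n625 = n902 := rfl
theorem F4727 : act 3 n902 = n902 := d17_2 D625 D902 (iv D902) (iv D625) F2353
theorem F4728 : act 5 n902 = n633 := d19_2 (iv F3345) D902 (iv D633)
theorem F4729 : act 7 n902 = n628 := d21_2 (iv F3346) D902 (iv D628)
theorem F4730 : act 8 n902 = n902 := d22_2 F3347 D902 (iv D902)
def n903 : Q := act 4 n625
theorem D903 : act 4 n625 = n903 := rfl
theorem F4731 : act 1 n903 = n903 := d11_1 D903 (iv D903) F3344
theorem F4732 : act 3 n903 = n903 := d24_1 D903 (iv D903) (iv D625) F2354 D625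
theorem F4733 : act 5 n903 = n903 := d30_2 (iv F3345) D903 (iv D903) F3345 F2378
theorem F4734 : act 7 n903 = n629 := d32_2 (iv F3346) D903 (iv D629)
theorem F4735 : act 8 n903 = n903 := d33_2 F3347 D903 (iv D903)
def n904 : Q := act 9 n625
theorem D904 : act 9 n625 = n904 := rfl
theorem F4736 : act 1 n904 = n904 := d16_1 D904 (iv D904) F3344
theorem F4737 : act 3 n904 = n626 := d29_1 D904 (iv D626) D625
theorem F4738 : act 5 n904 = n634 := d38_1 D904 (iv D634) (iv F3345)
theorem F4739 : act 7 n904 = n630 := d43_1 D904 (iv D630) (iv F3346)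
def n905 : Q := act 8 n626
theorem D905 : act 8 n626 = n905 := rfl
theorem F4740 : act 1 n905 = n905 := d15_1 D905 (iv D905) F3348
theorem F4741 : act 2 n905 = n905 := d22_1 D905 (iv D905) F3349
theorem F4742 : act 4 n905 = n905 := d33_1 D905 (iv D905) F3350
theorem F4743 : act 5 n905 = n635 := d37_1 D905 (iv D635) (iv F3351)
theorem F4744 : act 7 n905 = n631 := d42_1 D905 (iv D631) (iv F3352)
theorem F4745 : act 9 n905 = n627 := d44_2 D626 D905 (iv D627) (iv D431) D430
def n906 : Q := act 3 n627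
theorem D906 : act 3 n627 = n906 := rfl
theorem F4746 : act 1 n906 = n906 := d10_1 D906 (iv D906) F3353
theorem F4747 : act 5 n906 = n636 := d25_2 (iv F3356) D906 (iv D636)
theorem F4748 : act 7 n906 = n632 := d27_2 (iv F3357) D906 (iv D632)
theorem F4749 : act 8 n906 = n906 := d28_2 D627 D906 (iv D906) (iv D627) F2359
def n907 : Q := act 1 n628
theorem D907 : act 1 n628 = n907 := rfl
theorem F4750 : act 0 n907 = n907 := d0_1 D907 (iv D907) (iv F4324) F4325 F4324
theorem F4751 : act 2 n907 = n907 := d9_2 D628 D907 (iv D907) (iv D628) F2363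
theorem F4752 : act 3 n907 = n907 := d10_2 F3358 D907 (iv D907)
theorem F4753 : act 5 n907 = n637 := d12_2 (iv F3359) D907 (iv D637)
theorem F4754 : act 6 n907 = n907 := d13_2 F3360 D907 (iv D907)
theorem F4755 : act 8 n907 = n907 := d15_2 F3361 D907 (iv D907)
def n908 : Q := act 4 n628
theorem D908 : act 4 n628 = n908 := rfl
theorem F4756 : act 2 n908 = n629 := d18_1 D908 (iv D629) D628
theorem F4757 : act 5 n908 = n908 := d30_2 (iv F3359) D908 (iv D908) F3359 F2393
theorem F4758 : act 6 n908 = n908 := d31_2 F3360 D908 (iv D908)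
theorem F4759 : act 8 n908 = n908 := d33_2 F3361 D908 (iv D908)
def n909 : Q := act 9 n628
theorem D909 : act 9 n628 = n909 := rfl
theorem F4760 : act 2 n909 = n630 := d23_1 D909 (iv D630) D628
theorem F4761 : act 3 n909 = n909 := d29_1 D909 (iv D909) F3358
theorem F4762 : act 5 n909 = n638 := d38_1 D909 (iv D638) (iv F3359)
theorem F4763 : act 6 n909 = n909 := d41_1 D909 (iv D909) F3360
def n910 : Q := act 9 n629
theorem D910 : act 9 n629 = n910 := rfl
theorem F4764 : act 1 n910 = n910 := d16_1 D910 (iv D910) F3362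
theorem F4765 : act 3 n910 = n910 := d29_1 D910 (iv D910) F3363
theorem F4766 : act 4 n910 = n630 := d34_1 D910 (iv D630) D629
theorem F4767 : act 5 n910 = n910 := d38_1 D910 (iv D910) F3364
theorem F4768 : act 6 n910 = n910 := d41_1 D910 (iv D910) F3365
def n911 : Q := act 8 n630
theorem D911 : act 8 n630 = n911 := rfl
theorem F4769 : act 1 n911 = n911 := d15_1 D911 (iv D911) F3367
theorem F4770 : act 5 n911 = n639 := d37_1 D911 (iv D639) (iv F3369)
theorem F4771 : act 6 n911 = n911 := d40_1 D911 (iv D911) F3370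
theorem F4772 : act 9 n911 = n911 := d44_2 D630 D911 (iv D911) (iv D630) F2366
def n912 : Q := act 3 n631
theorem D912 : act 3 n631 = n912 := rfl
theorem F4773 : act 1 n912 = n912 := d10_1 D912 (iv D912) F3371
theorem F4774 : act 5 n912 = n640 := d25_2 (iv F3374) D912 (iv D640)
theorem F4775 : act 6 n912 = n912 := d26_2 F3375 D912 (iv D912)
theorem F4776 : act 9 n912 = n632 := d29_2 (iv F3376) D912 (iv D632)
def n913 : Q := act 2 n632
theorem D913 : act 2 n632 = n913 := rfl
theorem F4777 : act 3 n913 = n913 := d17_2 D632 D913 (iv D913) (iv D632) F2373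
theorem F4778 : act 5 n913 = n641 := d19_2 (iv F3378) D913 (iv D641)
theorem F4779 : act 6 n913 = n913 := d20_2 F3379 D913 (iv D913)
theorem F4780 : act 8 n913 = n913 := d22_2 F3380 D913 (iv D913)
def n914 : Q := act 4 n632
theorem D914 : act 4 n632 = n914 := rfl
theorem F4781 : act 1 n914 = n914 := d11_1 D914 (iv D914) F3377
theorem F4782 : act 3 n914 = n914 := d24_1 D914 (iv D914) (iv D632) F2374 D632
theorem F4783 : act 6 n914 = n914 := d31_2 F3379 D914 (iv D914)
theorem F4784 : act 8 n914 = n914 := d33_2 F3380 D914 (iv D914)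
def n915 : Q := act 1 n633
theorem D915 : act 1 n633 = n915 := rfl
theorem F4785 : act 0 n915 = n915 := d0_1 D915 (iv D915) (iv F4349) F4350 F4349
theorem F4786 : act 2 n915 = n915 := d9_2 D633 D915 (iv D915) (iv D633) F2377
theorem F4787 : act 3 n915 = n915 := d10_2 F3381 D915 (iv D915)
theorem F4788 : act 4 n915 = n915 := d11_2 F3382 D915 (iv D915)
theorem F4789 : act 6 n915 = n915 := d13_2 F3383 D915 (iv D915)
theorem F4790 : act 7 n915 = n637 := d14_2 (iv F3384) D915 (iv D637)
theorem F4791 : act 8 n915 = n915 := d15_2 F3385 D915 (iv D915)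
def n916 : Q := act 9 n633
theorem D916 : act 9 n633 = n916 := rfl
theorem F4792 : act 2 n916 = n634 := d23_1 D916 (iv D634) D633
theorem F4793 : act 3 n916 = n916 := d29_1 D916 (iv D916) F3381
theorem F4794 : act 4 n916 = n916 := d34_1 D916 (iv D916) F3382
theorem F4795 : act 6 n916 = n916 := d41_1 D916 (iv D916) F3383
theorem F4796 : act 7 n916 = n638 := d43_1 D916 (iv D638) (iv F3384)
def n917 : Q := act 8 n634
theorem D917 : act 8 n634 = n917 := rfl
theorem F4797 : act 1 n917 = n917 := d15_1 D917 (iv D917) F3386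
theorem F4798 : act 4 n917 = n917 := d33_1 D917 (iv D917) F3388
theorem F4799 : act 6 n917 = n917 := d40_1 D917 (iv D917) F3389
theorem F4800 : act 7 n917 = n639 := d42_1 D917 (iv D639) (iv F3390)
theorem F4801 : act 9 n917 = n917 := d44_2 D634 D917 (iv D917) (iv D634) F2381
def n918 : Q := act 3 n635
theorem D918 : act 3 n635 = n918 := rfl
theorem F4802 : act 1 n918 = n918 := d10_1 D918 (iv D918) F3391
theorem F4803 : act 6 n918 = n918 := d26_2 F3394 D918 (iv D918)
theorem F4804 : act 7 n918 = n640 := d27_2 (iv F3395) D918 (iv D640)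
theorem F4805 : act 9 n918 = n636 := d29_2 (iv F3396) D918 (iv D636)
def n919 : Q := act 2 n636
theorem D919 : act 2 n636 = n919 := rfl
theorem F4806 : act 3 n919 = n919 := d17_2 D636 D919 (iv D919) (iv D636) F2388
theorem F4807 : act 6 n919 = n919 := d20_2 F3398 D919 (iv D919)
theorem F4808 : act 7 n919 = n641 := d21_2 (iv F3399) D919 (iv D641)
theorem F4809 : act 8 n919 = n919 := d22_2 F3400 D919 (iv D919)
def n920 : Q := act 4 n636
theorem D920 : act 4 n636 = n920 := rfl
theorem F4810 : act 1 n920 = n920 := d11_1 D920 (iv D920) F3397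
theorem F4811 : act 3 n920 = n653 := d24_1 D920 (iv D653) (iv D449) (iv F2389) D636
theorem F4812 : act 6 n920 = n920 := d31_2 F3398 D920 (iv D920)
theorem F4813 : act 7 n920 = n642 := d32_2 (iv F3399) D920 (iv D642)
theorem F4814 : act 8 n920 = n920 := d33_2 F3400 D920 (iv D920)
def n921 : Q := act 9 n637
theorem D921 : act 9 n637 = n921 := rfl
theorem F4816 : act 1 n921 = n638 := d16_1 D921 (iv D638) D637
def n922 : Q := act 8 n638
theorem D922 : act 8 n638 = n922 := rfl
theorem F4821 : act 2 n922 = n639 := d22_1 D922 (iv D639) (iv F3407)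
theorem F4823 : act 6 n922 = n644 := d40_1 D922 (iv D644) (iv F3410)
def n923 : Q := act 3 n639
theorem D923 : act 3 n639 = n923 := rfl
theorem F4825 : act 1 n923 = n923 := d10_1 D923 (iv D923) F3411
theorem F4826 : act 6 n923 = n645 := d26_2 (iv F3413) D923 (iv D645)
theorem F4827 : act 8 n923 = n640 := d28_2 D639 D923 (iv D640) (iv D440) (iv F2397)
theorem F4828 : act 9 n923 = n923 := d29_2 F3414 D923 (iv D923)
def n924 : Q := act 2 n640
theorem D924 : act 2 n640 = n924 := rfl
theorem F4829 : act 3 n924 = n924 := d17_2 D640 D924 (iv D924) (iv D640) F2401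
theorem F4830 : act 6 n924 = n646 := d20_2 (iv F3416) D924 (iv D646)
theorem F4831 : act 9 n924 = n641 := d23_2 (iv F3417) D924 (iv D641)
def n925 : Q := act 4 n640
theorem D925 : act 4 n640 = n925 := rfl
theorem F4832 : act 1 n925 = n925 := d11_1 D925 (iv D925) F3415
theorem F4833 : act 3 n925 = n655 := d24_1 D925 (iv D655) (iv D450) (iv F2402) D640
theorem F4834 : act 6 n925 = n647 := d31_2 (iv F3416) D925 (iv D647)
theorem F4835 : act 9 n925 = n642 := d34_2 (iv F3417) D925 (iv D642)
def n926 : Q := act 1 n641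
theorem D926 : act 1 n641 = n926 := rfl
theorem F4836 : act 2 n926 = n926 := d9_2 D641 D926 (iv D926) (iv D641) F2405
theorem F4837 : act 3 n926 = n926 := d10_2 F3418 D926 (iv D926)
theorem F4838 : act 6 n926 = n648 := d13_2 (iv F3419) D926 (iv D648)
theorem F4839 : act 8 n926 = n926 := d15_2 F3420 D926 (iv D926)
def n927 : Q := act 4 n641
theorem D927 : act 4 n641 = n927 := rfl
theorem F4840 : act 2 n927 = n642 := d18_1 D927 (iv D642) D641
theorem F4841 : act 6 n927 = n649 := d31_2 (iv F3419) D927 (iv D649)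
theorem F4842 : act 8 n927 = n927 := d33_2 F3420 D927 (iv D927)
def n928 : Q := act 5 n642
theorem D928 : act 5 n642 = n928 := rfl
theorem F4843 : act 1 n928 = n928 := d12_1 D928 (iv D928) F3421
theorem F4844 : act 3 n928 = n658 := d25_1 D928 (iv D658) (iv F3422)
theorem F4845 : act 8 n928 = n928 := d37_2 F3424 D928 (iv D928)
def n930 : Q := act 3 n644
theorem D930 : act 3 n644 = n930 := rfl
def n931 : Q := act 2 n645
theorem D931 : act 2 n645 = n931 := rfl
theorem F4859 : act 8 n931 = n646 := d22_2 (iv F3440) D931 (iv D646)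
def n932 : Q := act 4 n645
theorem D932 : act 4 n645 = n932 := rfl
theorem F4861 : act 1 n932 = n932 := d11_1 D932 (iv D932) F3437
theorem F4862 : act 3 n932 = n932 := d24_1 D932 (iv D932) (iv D645) F2421 D645
theorem F4863 : act 7 n932 = n932 := d32_2 F3439 D932 (iv D932)
theorem F4864 : act 8 n932 = n647 := d33_2 (iv F3440) D932 (iv D647)
theorem F4865 : act 9 n932 = n932 := d34_2 F3441 D932 (iv D932)
def n933 : Q := act 1 n646
theorem D933 : act 1 n646 = n933 := rfl
theorem F4870 : act 9 n933 = n648 := d16_2 (iv F3445) D933 (iv D648)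
def n934 : Q := act 4 n646
theorem D934 : act 4 n646 = n934 := rfl
theorem F4871 : act 2 n934 = n647 := d18_1 D934 (iv D647) D646
theorem F4872 : act 7 n934 = n934 := d32_2 F3444 D934 (iv D934)
theorem F4873 : act 9 n934 = n649 := d34_2 (iv F3445) D934 (iv D649)
def n935 : Q := act 5 n647
theorem D935 : act 5 n647 = n935 := rfl
theorem F4874 : act 1 n935 = n935 := d12_1 D935 (iv D935) F3446
theorem F4875 : act 3 n935 = n661 := d25_1 D935 (iv D661) (iv F3447)
theorem F4876 : act 4 n935 = n935 := d30_1 D935 (iv D935) (iv D647) F2426 D647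
theorem F4877 : act 7 n935 = n935 := d36_2 F3448 D935 (iv D935)
theorem F4878 : act 9 n935 = n650 := d38_2 (iv F3449) D935 (iv D650)
def n936 : Q := act 0 n648
theorem D936 : act 0 n648 = n936 := rfl
def n937 : Q := act 4 n648
theorem D937 : act 4 n648 = n937 := rfl
theorem F4884 : act 1 n937 = n649 := d11_1 D937 (iv D649) D648
theorem F4885 : act 2 n937 = n937 := d18_1 D937 (iv D937) F3450
theorem F4886 : act 7 n937 = n937 := d32_2 F3453 D937 (iv D937)
theorem F4887 : act 8 n937 = n937 := d33_2 F3454 D937 (iv D937)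
def n938 : Q := act 3 n649
theorem D938 : act 3 n649 = n938 := rfl
theorem F4888 : act 2 n938 = n664 := d17_1 D938 (iv D664) F2474 (iv F2434) (iv F3455)
theorem F4889 : act 4 n938 = n938 := d24_2 D649 D938 (iv D938) (iv D649) F2429
theorem F4890 : act 7 n938 = n938 := d27_2 F3456 D938 (iv D938)
def n939 : Q := act 5 n649
theorem D939 : act 5 n649 = n939 := rfl
theorem F4891 : act 2 n939 = n650 := d19_1 D939 (iv D650) (iv F3455)
theorem F4892 : act 4 n939 = n939 := d30_1 D939 (iv D939) (iv D649) F2430 D649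
theorem F4893 : act 7 n939 = n939 := d36_2 F3456 D939 (iv D939)
theorem F4894 : act 8 n939 = n939 := d37_2 F3457 D939 (iv D939)
def n940 : Q := act 6 n650
theorem D940 : act 6 n650 = n940 := rfl
theorem F4895 : act 1 n940 = n940 := d13_1 D940 (iv D940) F3458
theorem F4896 : act 3 n940 = n666 := d26_1 D940 (iv D666) (iv F3459)
theorem F4897 : act 4 n940 = n940 := d31_1 D940 (iv D940) F3460
theorem F4898 : act 8 n940 = n940 := d40_2 F3462 D940 (iv D940)
def n941 : Q := act 2 n651
theorem D941 : act 2 n651 = n941 := rfl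
theorem F4899 : act 3 n941 = n941 := d17_2 D651 D941 (iv D941) (iv D651) F2438
theorem F4900 : act 5 n941 = n941 := d19_2 F3464 D941 (iv D941)
theorem F4901 : act 6 n941 = n941 := d20_2 F3465 D941 (iv D941)
theorem F4902 : act 7 n941 = n654 := d21_2 (iv F3466) D941 (iv D654)
theorem F4903 : act 8 n941 = n941 := d22_2 F3467 D941 (iv D941)
theorem F4904 : act 9 n941 = n652 := d23_2 (iv F3468) D941 (iv D652)
def n942 : Q := act 4 n651
theorem D942 : act 4 n651 = n942 := rfl
theorem F4905 : act 1 n942 = n942 := d11_1 D942 (iv D942) F3463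
theorem F4906 : act 6 n942 = n942 := d31_2 F3465 D942 (iv D942)
theorem F4907 : act 7 n942 = n655 := d32_2 (iv F3466) D942 (iv D655)
theorem F4908 : act 8 n942 = n942 := d33_2 F3467 D942 (iv D942)
theorem F4909 : act 9 n942 = n653 := d34_2 (iv F3468) D942 (iv D653)
def n943 : Q := act 1 n652
theorem D943 : act 1 n652 = n943 := rfl
theorem F4910 : act 2 n943 = n943 := d9_2 D652 D943 (iv D943) (iv D652) F2443
theorem F4911 : act 3 n943 = n943 := d10_2 F3469 D943 (iv D943)
theorem F4912 : act 5 n943 = n943 := d12_2 F3470 D943 (iv D943)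
theorem F4913 : act 6 n943 = n943 := d13_2 F3471 D943 (iv D943)
theorem F4914 : act 7 n943 = n656 := d14_2 (iv F3472) D943 (iv D656)
theorem F4915 : act 8 n943 = n678 := d15_2 (iv F3473) D943 (iv D678)
def n944 : Q := act 4 n652
theorem D944 : act 4 n652 = n944 := rfl
theorem F4916 : act 2 n944 = n653 := d18_1 D944 (iv D653) D652
theorem F4917 : act 6 n944 = n944 := d31_2 F3471 D944 (iv D944)
theorem F4918 : act 7 n944 = n657 := d32_2 (iv F3472) D944 (iv D657)
theorem F4919 : act 8 n944 = n679 := d33_2 (iv F3473) D944 (iv D679)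
def n945 : Q := act 5 n653
theorem D945 : act 5 n653 = n945 := rfl
theorem F4920 : act 1 n945 = n945 := d12_1 D945 (iv D945) F3474
theorem F4921 : act 4 n945 = n945 := d30_1 D945 (iv D945) (iv D653) F2444 D653
theorem F4922 : act 7 n945 = n658 := d36_2 (iv F3476) D945 (iv D658)
theorem F4923 : act 8 n945 = n680 := d37_2 (iv F3477) D945 (iv D680)
def n946 : Q := act 1 n654
theorem D946 : act 1 n654 = n946 := rfl
theorem F4924 : act 2 n946 = n946 := d9_2 D654 D946 (iv D946) (iv D654) F2448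
theorem F4925 : act 3 n946 = n946 := d10_2 F3478 D946 (iv D946)
theorem F4926 : act 5 n946 = n946 := d12_2 F3479 D946 (iv D946)
theorem F4927 : act 6 n946 = n659 := d13_2 (iv F3480) D946 (iv D659)
theorem F4928 : act 8 n946 = n946 := d15_2 F3481 D946 (iv D946)
theorem F4929 : act 9 n946 = n656 := d16_2 (iv F3482) D946 (iv D656)
def n947 : Q := act 4 n654
theorem D947 : act 4 n654 = n947 := rfl
theorem F4930 : act 2 n947 = n655 := d18_1 D947 (iv D655) D654
theorem F4931 : act 6 n947 = n660 := d31_2 (iv F3480) D947 (iv D660)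
theorem F4932 : act 8 n947 = n947 := d33_2 F3481 D947 (iv D947)
theorem F4933 : act 9 n947 = n657 := d34_2 (iv F3482) D947 (iv D657)
def n948 : Q := act 5 n655
theorem D948 : act 5 n655 = n948 := rfl
theorem F4934 : act 1 n948 = n948 := d12_1 D948 (iv D948) F3483
theorem F4935 : act 4 n948 = n948 := d30_1 D948 (iv D948) (iv D655) F2449 D655
theorem F4936 : act 8 n948 = n948 := d37_2 F3485 D948 (iv D948)
theorem F4937 : act 9 n948 = n658 := d38_2 (iv F3486) D948 (iv D658)
def n949 : Q := act 0 n656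
theorem D949 : act 0 n656 = n949 := rfl
theorem F4938 : act 2 n949 = n949 := d1_2 F3487 D949 (iv D949)
theorem F4939 : act 3 n949 = n949 := d2_2 F3488 D949 (iv D949)
theorem F4940 : act 5 n949 = n949 := d4_2 F3489 D949 (iv D949)
theorem F4941 : act 6 n949 = n662 := d5_2 (iv F3490) D949 (iv D662)
theorem F4942 : act 8 n949 = n681 := d7_2 (iv F3491) D949 (iv D681)
def n950 : Q := act 4 n656
theorem D950 : act 4 n656 = n950 := rfl
theorem F4943 : act 1 n950 = n657 := d11_1 D950 (iv D657) D656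
theorem F4944 : act 2 n950 = n950 := d18_1 D950 (iv D950) F3487
theorem F4945 : act 6 n950 = n663 := d31_2 (iv F3490) D950 (iv D663)
theorem F4946 : act 8 n950 = n682 := d33_2 (iv F3491) D950 (iv D682)
def n951 : Q := act 3 n657
theorem D951 : act 3 n657 = n951 := rfl
theorem F4947 : act 4 n951 = n951 := d24_2 D657 D951 (iv D951) (iv D657) F2453
theorem F4948 : act 6 n951 = n664 := d26_2 (iv F3493) D951 (iv D664)
def n952 : Q := act 5 n657
theorem D952 : act 5 n657 = n952 := rfl
theorem F4949 : act 2 n952 = n658 := d19_1 D952 (iv D658) (iv F3492)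
theorem F4950 : act 4 n952 = n952 := d30_1 D952 (iv D952) (iv D657) F2454 D657
theorem F4951 : act 8 n952 = n684 := d37_2 (iv F3494) D952 (iv D684)
def n953 : Q := act 6 n658
theorem D953 : act 6 n658 = n953 := rfl
theorem F4952 : act 1 n953 = n953 := d13_1 D953 (iv D953) F3495
theorem F4953 : act 4 n953 = n953 := d31_1 D953 (iv D953) F3496
theorem F4954 : act 5 n953 = n666 := d35_1 D953 (iv D666) (iv D457) (iv F2458) D658
theorem F4955 : act 8 n953 = n685 := d40_2 (iv F3497) D953 (iv D685)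
def n954 : Q := act 0 n659
theorem D954 : act 0 n659 = n954 := rfl
theorem F4956 : act 2 n954 = n954 := d1_2 F3498 D954 (iv D954)
theorem F4957 : act 3 n954 = n954 := d2_2 F3499 D954 (iv D954)
theorem F4958 : act 5 n954 = n667 := d4_2 (iv F3500) D954 (iv D667)
theorem F4959 : act 7 n954 = n954 := d6_2 F3501 D954 (iv D954)
theorem F4960 : act 8 n954 = n954 := d7_2 F3502 D954 (iv D954)
theorem F4961 : act 9 n954 = n662 := d8_2 (iv F3503) D954 (iv D662)
def n955 : Q := act 4 n659
theorem D955 : act 4 n659 = n955 := rfl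
theorem F4962 : act 1 n955 = n660 := d11_1 D955 (iv D660) D659
theorem F4963 : act 2 n955 = n955 := d18_1 D955 (iv D955) F3498
theorem F4964 : act 7 n955 = n955 := d32_2 F3501 D955 (iv D955)
theorem F4965 : act 8 n955 = n955 := d33_2 F3502 D955 (iv D955)
theorem F4966 : act 9 n955 = n663 := d34_2 (iv F3503) D955 (iv D663)
def n956 : Q := act 3 n660
theorem D956 : act 3 n660 = n956 := rfl
theorem F4967 : act 4 n956 = n956 := d24_2 D660 D956 (iv D956) (iv D660) F2460
theorem F4968 : act 7 n956 = n956 := d27_2 F3505 D956 (iv D956)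
theorem F4969 : act 9 n956 = n664 := d29_2 (iv F3507) D956 (iv D664)
def n957 : Q := act 5 n660
theorem D957 : act 5 n660 = n957 := rfl
theorem F4970 : act 2 n957 = n661 := d19_1 D957 (iv D661) (iv F3504)
theorem F4971 : act 4 n957 = n670 := d30_1 D957 (iv D670) (iv D459) (iv F2461) D660
theorem F4972 : act 7 n957 = n957 := d36_2 F3505 D957 (iv D957)
theorem F4973 : act 8 n957 = n957 := d37_2 F3506 D957 (iv D957)
theorem F4974 : act 9 n957 = n665 := d38_2 (iv F3507) D957 (iv D665)
def n958 : Q := act 6 n661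
theorem D958 : act 6 n661 = n958 := rfl
theorem F4975 : act 1 n958 = n958 := d13_1 D958 (iv D958) F3508
theorem F4976 : act 4 n958 = n671 := d31_1 D958 (iv D671) (iv F3509)
theorem F4977 : act 8 n958 = n958 := d40_2 F3511 D958 (iv D958)
theorem F4978 : act 9 n958 = n666 := d41_2 (iv F3512) D958 (iv D666)
def n959 : Q := act 4 n662
theorem D959 : act 4 n662 = n959 := rfl
theorem F4979 : act 0 n959 = n663 := d3_1 D959 (iv D663) D662
theorem F4980 : act 2 n959 = n959 := d18_1 D959 (iv D959) F3513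
theorem F4981 : act 7 n959 = n959 := d32_2 F3516 D959 (iv D959)
theorem F4982 : act 8 n959 = n686 := d33_2 (iv F3517) D959 (iv D686)
def n960 : Q := act 3 n663
theorem D960 : act 3 n663 = n960 := rfl
theorem F4983 : act 1 n960 = n664 := d10_1 D960 (iv D664) (iv F3518)
theorem F4984 : act 4 n960 = n960 := d24_2 D663 D960 (iv D960) (iv D663) F2470
theorem F4985 : act 7 n960 = n960 := d27_2 F3520 D960 (iv D960)
def n961 : Q := act 5 n663
theorem D961 : act 5 n663 = n961 := rfl
theorem F4986 : act 1 n961 = n665 := d12_1 D961 (iv D665) (iv F3518)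
theorem F4987 : act 2 n961 = n961 := d19_1 D961 (iv D961) F3519
theorem F4988 : act 4 n961 = n674 := d30_1 D961 (iv D674) (iv D462) (iv F2471) D663
theorem F4989 : act 7 n961 = n961 := d36_2 F3520 D961 (iv D961)
theorem F4990 : act 8 n961 = n688 := d37_2 (iv F3521) D961 (iv D688)
def n962 : Q := act 5 n664
theorem D962 : act 5 n664 = n962 := rfl
theorem F4991 : act 3 n962 = n665 := d25_1 D962 (iv D665) D664
theorem F4992 : act 7 n962 = n962 := d36_2 F3523 D962 (iv D962)
def n963 : Q := act 8 n664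
theorem D963 : act 8 n664 = n963 := rfl
theorem F4993 : act 3 n963 = n690 := d28_1 D963 (iv D690) (iv D473) (iv F2476) D664
theorem F4994 : act 4 n963 = n963 := d33_1 D963 (iv D963) F3522
theorem F4995 : act 7 n963 = n963 := d42_1 D963 (iv D963) F3523
def n964 : Q := act 6 n665
theorem D964 : act 6 n665 = n964 := rfl
theorem F4996 : act 2 n964 = n666 := d20_1 D964 (iv D666) (iv F3524)
theorem F4997 : act 4 n964 = n676 := d31_1 D964 (iv D676) (iv F3525)
theorem F4998 : act 8 n964 = n691 := d40_2 (iv F3527) D964 (iv D691)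
def n965 : Q := act 7 n666
theorem D965 : act 7 n666 = n965 := rfl
theorem F4999 : act 1 n965 = n965 := d14_1 D965 (iv D965) F3528
theorem F5000 : act 4 n965 = n677 := d32_1 D965 (iv D677) (iv F3529)
theorem F5001 : act 6 n965 = n965 := d39_1 D965 (iv D965) (iv D666) F2479 D666
theorem F5002 : act 8 n965 = n692 := d42_2 (iv F3530) D965 (iv D692)
def n966 : Q := act 4 n667
theorem D966 : act 4 n667 = n966 := rfl
theorem F5003 : act 0 n966 = n668 := d3_1 D966 (iv D668) D667
theorem F5004 : act 2 n966 = n966 := d18_1 D966 (iv D966) F3531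
theorem F5005 : act 6 n966 = n966 := d31_2 F3533 D966 (iv D966)
theorem F5006 : act 7 n966 = n966 := d32_2 F3534 D966 (iv D966)
theorem F5007 : act 8 n966 = n966 := d33_2 F3535 D966 (iv D966)
theorem F5008 : act 9 n966 = n672 := d34_2 (iv F3536) D966 (iv D672)
def n967 : Q := act 3 n668
theorem D967 : act 3 n668 = n967 := rfl
theorem F5009 : act 1 n967 = n669 := d10_1 D967 (iv D669) (iv F3537)
theorem F5010 : act 4 n967 = n967 := d24_2 D668 D967 (iv D967) (iv D668) F2482
theorem F5011 : act 6 n967 = n967 := d26_2 F3539 D967 (iv D967)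
theorem F5012 : act 7 n967 = n967 := d27_2 F3540 D967 (iv D967)
theorem F5013 : act 9 n967 = n673 := d29_2 (iv F3542) D967 (iv D673)
def n968 : Q := act 5 n668
theorem D968 : act 5 n668 = n968 := rfl
theorem F5014 : act 1 n968 = n670 := d12_1 D968 (iv D670) (iv F3537)
theorem F5015 : act 2 n968 = n968 := d19_1 D968 (iv D968) F3538
theorem F5016 : act 7 n968 = n968 := d36_2 F3540 D968 (iv D968)
theorem F5017 : act 8 n968 = n968 := d37_2 F3541 D968 (iv D968)
theorem F5018 : act 9 n968 = n674 := d38_2 (iv F3542) D968 (iv D674)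
def n969 : Q := act 5 n669
theorem D969 : act 5 n669 = n969 := rfl
theorem F5019 : act 2 n969 = n969 := d19_1 D969 (iv D969) F3543
theorem F5020 : act 3 n969 = n670 := d25_1 D969 (iv D670) D669
theorem F5021 : act 7 n969 = n969 := d36_2 F3546 D969 (iv D969)
theorem F5022 : act 9 n969 = n675 := d38_2 (iv F3547) D969 (iv D675)
def n970 : Q := act 8 n669
theorem D970 : act 8 n669 = n970 := rfl
theorem F5023 : act 2 n970 = n970 := d22_1 D970 (iv D970) F3543
theorem F5024 : act 3 n970 = n970 := d28_1 D970 (iv D970) (iv D669) F2490 D669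
theorem F5025 : act 4 n970 = n970 := d33_1 D970 (iv D970) F3544
theorem F5026 : act 6 n970 = n970 := d40_1 D970 (iv D970) F3545
theorem F5027 : act 7 n970 = n970 := d42_1 D970 (iv D970) F3546
theorem F5028 : act 9 n970 = n970 := d44_2 (iv F3547) D970 (iv D970) F3547 F2511
def n971 : Q := act 6 n670
theorem D971 : act 6 n670 = n971 := rfl
theorem F5029 : act 2 n971 = n671 := d20_1 D971 (iv D671) (iv F3548)
theorem F5030 : act 5 n971 = n971 := d35_1 D971 (iv D971) (iv D670) F2488 D670
theorem F5031 : act 8 n971 = n971 := d40_2 F3550 D971 (iv D971)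
theorem F5032 : act 9 n971 = n676 := d41_2 (iv F3551) D971 (iv D676)
def n972 : Q := act 7 n671
theorem D972 : act 7 n671 = n972 := rfl
theorem F5033 : act 1 n972 = n972 := d14_1 D972 (iv D972) F3552
theorem F5034 : act 3 n972 = n972 := d27_1 D972 (iv D972) F3553
theorem F5035 : act 5 n972 = n972 := d36_1 D972 (iv D972) F3554
theorem F5036 : act 6 n972 = n972 := d39_1 D972 (iv D972) (iv D671) F2494 D671
theorem F5037 : act 8 n972 = n972 := d42_2 F3555 D972 (iv D972)
theorem F5038 : act 9 n972 = n677 := d43_2 (iv F3556) D972 (iv D677)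
def n973 : Q := act 3 n672
theorem D973 : act 3 n672 = n973 := rfl
theorem F5039 : act 0 n973 = n673 := d2_1 D973 (iv D673) (iv F3557)
theorem F5040 : act 4 n973 = n973 := d24_2 D672 D973 (iv D973) (iv D672) F2498
theorem F5041 : act 6 n973 = n973 := d26_2 F3559 D973 (iv D973)
theorem F5042 : act 7 n973 = n973 := d27_2 F3560 D973 (iv D973)
theorem F5043 : act 8 n973 = n973 := d28_2 (iv F3561) D973 (iv D973) F3561 F2564
def n974 : Q := act 5 n672
theorem D974 : act 5 n672 = n974 := rfl
theorem F5044 : act 0 n974 = n674 := d4_1 D974 (iv D674) (iv F3557)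
theorem F5045 : act 2 n974 = n974 := d19_1 D974 (iv D974) F3558
theorem F5046 : act 7 n974 = n974 := d36_2 F3560 D974 (iv D974)
theorem F5047 : act 8 n974 = n693 := d37_2 (iv F3561) D974 (iv D693)
def n975 : Q := act 2 n673
theorem D975 : act 2 n673 = n975 := rfl
theorem F5048 : act 1 n975 = n975 := d9_1 D975 (iv D975) F3562 F2507 (iv F3562)
theorem F5049 : act 3 n975 = n975 := d17_2 D673 D975 (iv D975) (iv D673) F2503
theorem F5050 : act 4 n975 = n975 := d18_2 F3563 D975 (iv D975)
theorem F5051 : act 6 n975 = n975 := d20_2 F3564 D975 (iv D975)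
theorem F5052 : act 7 n975 = n975 := d21_2 F3565 D975 (iv D975)
theorem F5053 : act 8 n975 = n975 := d22_2 F3566 D975 (iv D975)
def n976 : Q := act 5 n673
theorem D976 : act 5 n673 = n976 := rfl
theorem F5054 : act 1 n976 = n675 := d12_1 D976 (iv D675) (iv F3562)
theorem F5055 : act 3 n976 = n674 := d25_1 D976 (iv D674) D673
theorem F5056 : act 7 n976 = n976 := d36_2 F3565 D976 (iv D976)
theorem F5057 : act 8 n976 = n976 := d37_2 F3566 D976 (iv D976)
def n977 : Q := act 6 n674
theorem D977 : act 6 n674 = n977 := rfl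
theorem F5058 : act 1 n977 = n676 := d13_1 D977 (iv D676) (iv F3567)
theorem F5059 : act 2 n977 = n977 := d20_1 D977 (iv D977) F3568
theorem F5060 : act 5 n977 = n977 := d35_1 D977 (iv D977) (iv D674) F2504 D674
theorem F5061 : act 8 n977 = n694 := d40_2 (iv F3570) D977 (iv D694)
def n978 : Q := act 4 n675
theorem D978 : act 4 n675 = n978 := rfl
theorem F5062 : act 2 n978 = n978 := d18_1 D978 (iv D978) F3571
theorem F5063 : act 5 n978 = n978 := d30_2 D675 D978 (iv D978) (iv D675) F2508
theorem F5064 : act 7 n978 = n978 := d32_2 F3573 D978 (iv D978)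
theorem F5065 : act 8 n978 = n978 := d33_2 F3574 D978 (iv D978)
def n979 : Q := act 6 n675
theorem D979 : act 6 n675 = n979 := rfl
theorem F5066 : act 2 n979 = n979 := d20_1 D979 (iv D979) F3571
theorem F5067 : act 3 n979 = n676 := d26_1 D979 (iv D676) (iv F3572)
theorem F5068 : act 5 n979 = n979 := d35_1 D979 (iv D979) (iv D675) F2509 D675
theorem F5069 : act 8 n979 = n979 := d40_2 F3574 D979 (iv D979)
def n980 : Q := act 7 n676
theorem D980 : act 7 n676 = n980 := rfl
theorem F5070 : act 2 n980 = n677 := d21_1 D980 (iv D677) (iv F3575)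
theorem F5071 : act 5 n980 = n980 := d36_1 D980 (iv D980) F3576
theorem F5072 : act 6 n980 = n980 := d39_1 D980 (iv D980) (iv D676) F2513 D676
theorem F5073 : act 8 n980 = n695 := d42_2 (iv F3577) D980 (iv D695)
def n981 : Q := act 0 n678
theorem D981 : act 0 n678 = n981 := rfl
theorem F5074 : act 2 n981 = n981 := d1_2 F3583 D981 (iv D981)
theorem F5075 : act 3 n981 = n696 := d2_2 (iv F3584) D981 (iv D696)
theorem F5076 : act 5 n981 = n981 := d4_2 F3585 D981 (iv D981)
theorem F5077 : act 6 n981 = n981 := d5_2 F3586 D981 (iv D981)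
theorem F5078 : act 7 n981 = n681 := d6_2 (iv F3587) D981 (iv D681)
theorem F5079 : act 9 n981 = n981 := d8_2 F3588 D981 (iv D981)
def n982 : Q := act 4 n678
theorem D982 : act 4 n678 = n982 := rfl
theorem F5080 : act 1 n982 = n679 := d11_1 D982 (iv D679) D678
theorem F5081 : act 2 n982 = n982 := d18_1 D982 (iv D982) F3583
theorem F5082 : act 6 n982 = n982 := d31_2 F3586 D982 (iv D982)
theorem F5083 : act 7 n982 = n682 := d32_2 (iv F3587) D982 (iv D682)
theorem F5084 : act 9 n982 = n982 := d34_2 F3588 D982 (iv D982)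
def n983 : Q := act 3 n679
theorem D983 : act 3 n679 = n983 := rfl
theorem F5085 : act 2 n983 = n983 := d17_1 D983 (iv D983) F3589 F2525 (iv F3589)
theorem F5086 : act 4 n983 = n698 := d24_2 D679 D983 (iv D698) (iv D481) (iv F2519)
theorem F5087 : act 6 n983 = n983 := d26_2 F3590 D983 (iv D983)
theorem F5088 : act 7 n983 = n683 := d27_2 (iv F3591) D983 (iv D683)
theorem F5089 : act 9 n983 = n983 := d29_2 F3592 D983 (iv D983)
def n984 : Q := act 5 n679
theorem D984 : act 5 n679 = n984 := rfl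
theorem F5090 : act 2 n984 = n680 := d19_1 D984 (iv D680) (iv F3589)
theorem F5091 : act 4 n984 = n984 := d30_1 D984 (iv D984) (iv D679) F2520 D679
theorem F5092 : act 7 n984 = n684 := d36_2 (iv F3591) D984 (iv D684)
theorem F5093 : act 9 n984 = n984 := d38_2 F3592 D984 (iv D984)
def n985 : Q := act 6 n680
theorem D985 : act 6 n680 = n985 := rfl
theorem F5094 : act 1 n985 = n985 := d13_1 D985 (iv D985) F3593
theorem F5095 : act 3 n985 = n985 := d26_1 D985 (iv D985) F3594
theorem F5096 : act 4 n985 = n985 := d31_1 D985 (iv D985) F3595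
theorem F5097 : act 5 n985 = n985 := d35_1 D985 (iv D985) (iv D680) F2526 D680
theorem F5098 : act 9 n985 = n985 := d41_2 F3597 D985 (iv D985)
def n986 : Q := act 4 n681
theorem D986 : act 4 n681 = n986 := rfl
theorem F5099 : act 0 n986 = n682 := d3_1 D986 (iv D682) D681
theorem F5100 : act 2 n986 = n986 := d18_1 D986 (iv D986) F3598
theorem F5101 : act 6 n986 = n686 := d31_2 (iv F3601) D986 (iv D686)
theorem F5102 : act 9 n986 = n986 := d34_2 F3602 D986 (iv D986)
def n987 : Q := act 3 n682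
theorem D987 : act 3 n682 = n987 := rfl
theorem F5103 : act 1 n987 = n683 := d10_1 D987 (iv D683) (iv F3603)
theorem F5104 : act 4 n987 = n702 := d24_2 D682 D987 (iv D702) (iv D484) (iv F2530)
theorem F5105 : act 6 n987 = n687 := d26_2 (iv F3605) D987 (iv D687)
theorem F5106 : act 9 n987 = n987 := d29_2 F3606 D987 (iv D987)
def n988 : Q := act 5 n682
theorem D988 : act 5 n682 = n988 := rfl
theorem F5107 : act 1 n988 = n684 := d12_1 D988 (iv D684) (iv F3603)
theorem F5108 : act 2 n988 = n988 := d19_1 D988 (iv D988) F3604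
theorem F5109 : act 4 n988 = n988 := d30_1 D988 (iv D988) (iv D682) F2531 D682
theorem F5110 : act 9 n988 = n988 := d38_2 F3606 D988 (iv D988)
def n989 : Q := act 5 n683
theorem D989 : act 5 n683 = n989 := rfl
theorem F5111 : act 2 n989 = n989 := d19_1 D989 (iv D989) F3607
theorem F5112 : act 3 n989 = n684 := d25_1 D989 (iv D684) D683
theorem F5113 : act 9 n989 = n989 := d38_2 F3610 D989 (iv D989)
def n990 : Q := act 8 n683
theorem D990 : act 8 n683 = n990 := rfl
theorem F5114 : act 2 n990 = n990 := d22_1 D990 (iv D990) F3607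
theorem F5115 : act 4 n990 = n705 := d33_1 D990 (iv D705) (iv F3608)
theorem F5116 : act 6 n990 = n690 := d40_1 D990 (iv D690) (iv F3609)
def n991 : Q := act 6 n684
theorem D991 : act 6 n684 = n991 := rfl
theorem F5117 : act 2 n991 = n685 := d20_1 D991 (iv D685) (iv F3611)
theorem F5118 : act 4 n991 = n991 := d31_1 D991 (iv D991) F3612
theorem F5119 : act 5 n991 = n691 := d35_1 D991 (iv D691) (iv D474) (iv F2535) D684
theorem F5120 : act 9 n991 = n991 := d41_2 F3613 D991 (iv D991)
def n992 : Q := act 7 n685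
theorem D992 : act 7 n685 = n992 := rfl
theorem F5121 : act 1 n992 = n992 := d14_1 D992 (iv D992) F3614
theorem F5122 : act 3 n992 = n992 := d27_1 D992 (iv D992) F3615
theorem F5123 : act 4 n992 = n992 := d32_1 D992 (iv D992) F3616
theorem F5124 : act 5 n992 = n692 := d36_1 D992 (iv D692) (iv F3617)
theorem F5125 : act 9 n992 = n992 := d43_2 F3618 D992 (iv D992)
def n993 : Q := act 3 n686
theorem D993 : act 3 n686 = n993 := rfl
theorem F5126 : act 0 n993 = n687 := d2_1 D993 (iv D687) (iv F3619)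
theorem F5127 : act 4 n993 = n706 := d24_2 D686 D993 (iv D706) (iv D487) (iv F2542)
theorem F5128 : act 7 n993 = n993 := d27_2 F3621 D993 (iv D993)
theorem F5129 : act 9 n993 = n993 := d29_2 F3622 D993 (iv D993)
def n994 : Q := act 5 n686
theorem D994 : act 5 n686 = n994 := rfl
theorem F5130 : act 0 n994 = n688 := d4_1 D994 (iv D688) (iv F3619)
theorem F5131 : act 2 n994 = n994 := d19_1 D994 (iv D994) F3620
theorem F5132 : act 4 n994 = n693 := d30_1 D994 (iv D693) (iv D476) (iv F2543) D686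
theorem F5133 : act 7 n994 = n994 := d36_2 F3621 D994 (iv D994)
theorem F5134 : act 9 n994 = n994 := d38_2 F3622 D994 (iv D994)
def n995 : Q := act 2 n687
theorem D995 : act 2 n687 = n995 := rfl
def n996 : Q := act 5 n687
theorem D996 : act 5 n687 = n996 := rfl
theorem F5140 : act 1 n996 = n689 := d12_1 D996 (iv D689) (iv F3623)
theorem F5141 : act 3 n996 = n688 := d25_1 D996 (iv D688) D687
theorem F5142 : act 4 n996 = n996 := d30_1 D996 (iv D996) F3624 F2624 (iv F3624)
theorem F5143 : act 7 n996 = n996 := d36_2 F3625 D996 (iv D996)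
theorem F5144 : act 9 n996 = n996 := d38_2 F3626 D996 (iv D996)
def n997 : Q := act 8 n687
theorem D997 : act 8 n687 = n997 := rfl
theorem F5145 : act 1 n997 = n690 := d15_1 D997 (iv D690) (iv F3623)
def n998 : Q := act 6 n688
theorem D998 : act 6 n688 = n998 := rfl
theorem F5148 : act 1 n998 = n691 := d13_1 D998 (iv D691) (iv F3627)
theorem F5149 : act 2 n998 = n998 := d20_1 D998 (iv D998) F3628
theorem F5150 : act 4 n998 = n694 := d31_1 D998 (iv D694) (iv F3629)
theorem F5151 : act 9 n998 = n998 := d41_2 F3631 D998 (iv D998)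
def n999 : Q := act 6 n689
theorem D999 : act 6 n689 = n999 := rfl
theorem F5152 : act 2 n999 = n999 := d20_1 D999 (iv D999) F3632
theorem F5153 : act 3 n999 = n691 := d26_1 D999 (iv D691) (iv F3633)
theorem F5154 : act 4 n999 = n999 := d31_1 D999 (iv D999) F3634
theorem F5155 : act 9 n999 = n999 := d41_2 F3636 D999 (iv D999)
def n1000 : Q := act 8 n689
theorem D1000 : act 8 n689 = n1000 := rfl
theorem F5156 : act 2 n1000 = n1000 := d22_1 D1000 (iv D1000) F3632
theorem F5157 : act 4 n1000 = n1000 := d33_1 D1000 (iv D1000) F3634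
theorem F5158 : act 5 n1000 = n690 := d37_1 D1000 (iv D690) D689
theorem F5159 : act 7 n1000 = n1000 := d42_1 D1000 (iv D1000) F3635
def n1001 : Q := act 9 n690
theorem D1001 : act 9 n690 = n1001 := rfl
def n1002 : Q := act 7 n691
theorem D1002 : act 7 n691 = n1002 := rfl
theorem F5164 : act 2 n1002 = n692 := d21_1 D1002 (iv D692) (iv F3640)
theorem F5165 : act 4 n1002 = n695 := d32_1 D1002 (iv D695) (iv F3641)
theorem F5166 : act 6 n1002 = n1002 := d39_1 D1002 (iv D1002) (iv D691) F2556 D691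
theorem F5167 : act 9 n1002 = n1002 := d43_2 F3642 D1002 (iv D1002)
def n1003 : Q := act 6 n693
theorem D1003 : act 6 n693 = n1003 := rfl
theorem F5168 : act 0 n1003 = n694 := d5_1 D1003 (iv D694) (iv F3648)
theorem F5169 : act 2 n1003 = n1003 := d20_1 D1003 (iv D1003) F3649
theorem F5170 : act 3 n1003 = n1003 := d26_1 D1003 (iv D1003) F3650
theorem F5171 : act 5 n1003 = n1003 := d35_1 D1003 (iv D1003) (iv D693) F2565 D693
theorem F5172 : act 9 n1003 = n1003 := d41_2 F3652 D1003 (iv D1003)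
def n1004 : Q := act 7 n694
theorem D1004 : act 7 n694 = n1004 := rfl
theorem F5173 : act 1 n1004 = n695 := d14_1 D1004 (iv D695) (iv F3653)
theorem F5174 : act 2 n1004 = n1004 := d21_1 D1004 (iv D1004) F3654
theorem F5175 : act 3 n1004 = n1004 := d27_1 D1004 (iv D1004) F3655
theorem F5176 : act 5 n1004 = n1004 := d36_1 D1004 (iv D1004) F3656
theorem F5177 : act 6 n1004 = n1004 := d39_1 D1004 (iv D1004) (iv D694) F2571 D694
theorem F5178 : act 9 n1004 = n1004 := d43_2 F3657 D1004 (iv D1004)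
def n1005 : Q := act 4 n696
theorem D1005 : act 4 n696 = n1005 := rfl
theorem F5179 : act 0 n1005 = n697 := d3_1 D1005 (iv D697) D696
theorem F5180 : act 2 n1005 = n710 := d18_1 D1005 (iv D710) (iv F3663)
theorem F5181 : act 6 n1005 = n1005 := d31_2 F3665 D1005 (iv D1005)
theorem F5182 : act 7 n1005 = n701 := d32_2 (iv F3666) D1005 (iv D701)
theorem F5183 : act 8 n1005 = n1005 := d33_2 F3667 D1005 (iv D1005)
theorem F5184 : act 9 n1005 = n1005 := d34_2 F3668 D1005 (iv D1005)
def n1006 : Q := act 3 n697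
theorem D1006 : act 3 n697 = n1006 := rfl
theorem F5185 : act 1 n1006 = n698 := d10_1 D1006 (iv D698) (iv F3669)
theorem F5186 : act 6 n1006 = n1006 := d26_2 F3671 D1006 (iv D1006)
theorem F5187 : act 7 n1006 = n702 := d27_2 (iv F3672) D1006 (iv D702)
theorem F5188 : act 9 n1006 = n1006 := d29_2 F3674 D1006 (iv D1006)
def n1007 : Q := act 5 n697
theorem D1007 : act 5 n697 = n1007 := rfl
theorem F5189 : act 1 n1007 = n699 := d12_1 D1007 (iv D699) (iv F3669)
theorem F5190 : act 2 n1007 = n712 := d19_1 D1007 (iv D712) (iv F3670)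
theorem F5191 : act 4 n1007 = n1007 := d30_1 D1007 (iv D1007) (iv D697) F2583 D697
theorem F5192 : act 7 n1007 = n703 := d36_2 (iv F3672) D1007 (iv D703)
theorem F5193 : act 8 n1007 = n1007 := d37_2 F3673 D1007 (iv D1007)
theorem F5194 : act 9 n1007 = n1007 := d38_2 F3674 D1007 (iv D1007)
def n1008 : Q := act 5 n698
theorem D1008 : act 5 n698 = n1008 := rfl
theorem F5195 : act 2 n1008 = n1008 := d19_1 D1008 (iv D1008) F3675
theorem F5196 : act 3 n1008 = n699 := d25_1 D1008 (iv D699) D698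
theorem F5197 : act 7 n1008 = n704 := d36_2 (iv F3677) D1008 (iv D704)
theorem F5198 : act 9 n1008 = n1008 := d38_2 F3678 D1008 (iv D1008)
def n1009 : Q := act 8 n698
theorem D1009 : act 8 n698 = n1009 := rfl
theorem F5199 : act 2 n1009 = n1009 := d22_1 D1009 (iv D1009) F3675
theorem F5200 : act 3 n1009 = n1009 := d28_1 D1009 (iv D1009) (iv D698) F2591 D698
theorem F5201 : act 6 n1009 = n1009 := d40_1 D1009 (iv D1009) F3676
theorem F5202 : act 7 n1009 = n705 := d42_1 D1009 (iv D705) (iv F3677)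
def n1010 : Q := act 6 n699
theorem D1010 : act 6 n699 = n1010 := rfl
theorem F5203 : act 2 n1010 = n700 := d20_1 D1010 (iv D700) (iv F3679)
theorem F5204 : act 4 n1010 = n1010 := d31_1 D1010 (iv D1010) F3680
theorem F5205 : act 5 n1010 = n1010 := d35_1 D1010 (iv D1010) (iv D699) F2589 D699
theorem F5206 : act 7 n1010 = n1010 := d39_2 (iv F3681) D1010 (iv D1010) F3681 F2614
theorem F5207 : act 8 n1010 = n1010 := d40_2 F3682 D1010 (iv D1010)
theorem F5208 : act 9 n1010 = n1010 := d41_2 F3683 D1010 (iv D1010)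
def n1011 : Q := act 3 n701
theorem D1011 : act 3 n701 = n1011 := rfl
theorem F5209 : act 0 n1011 = n702 := d2_1 D1011 (iv D702) (iv F3691)
theorem F5210 : act 6 n1011 = n706 := d26_2 (iv F3693) D1011 (iv D706)
theorem F5211 : act 9 n1011 = n1011 := d29_2 F3695 D1011 (iv D1011)
def n1012 : Q := act 5 n701
theorem D1012 : act 5 n701 = n1012 := rfl
theorem F5212 : act 0 n1012 = n703 := d4_1 D1012 (iv D703) (iv F3691)
theorem F5213 : act 2 n1012 = n717 := d19_1 D1012 (iv D717) (iv F3692)
theorem F5214 : act 4 n1012 = n1012 := d30_1 D1012 (iv D1012) (iv D701) F2600 D701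
theorem F5215 : act 6 n1012 = n1012 := d35_2 (iv F3693) D1012 (iv D1012) F3693 F2619
theorem F5216 : act 8 n1012 = n1012 := d37_2 F3694 D1012 (iv D1012)
theorem F5217 : act 9 n1012 = n1012 := d38_2 F3695 D1012 (iv D1012)
def n1013 : Q := act 2 n702
theorem D1013 : act 2 n702 = n1013 := rfl
theorem F5219 : act 3 n1013 = n718 := d17_2 D702 D1013 (iv D718) (iv D496) (iv F2605)
theorem F5220 : act 6 n1013 = n707 := d20_2 (iv F3697) D1013 (iv D707)
def n1014 : Q := act 5 n702
theorem D1014 : act 5 n702 = n1014 := rfl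
theorem F5222 : act 1 n1014 = n704 := d12_1 D1014 (iv D704) (iv F3696)
theorem F5223 : act 3 n1014 = n703 := d25_1 D1014 (iv D703) D702
theorem F5224 : act 6 n1014 = n1014 := d35_2 (iv F3697) D1014 (iv D1014) F3697 F2624
theorem F5225 : act 9 n1014 = n1014 := d38_2 F3698 D1014 (iv D1014)
def n1015 : Q := act 8 n702
theorem D1015 : act 8 n702 = n1015 := rfl
theorem F5228 : act 6 n1015 = n708 := d40_1 D1015 (iv D708) (iv F3697)
def n1016 : Q := act 4 n704
theorem D1016 : act 4 n704 = n1016 := rfl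
theorem F5229 : act 2 n1016 = n1016 := d18_1 D1016 (iv D1016) F3705
theorem F5230 : act 3 n1016 = n1016 := d24_1 D1016 (iv D1016) F3706 F2613 (iv F3706)
theorem F5231 : act 6 n1016 = n1016 := d31_2 F3707 D1016 (iv D1016)
theorem F5232 : act 9 n1016 = n1016 := d34_2 F3708 D1016 (iv D1016)
def n1017 : Q := act 8 n704
theorem D1017 : act 8 n704 = n1017 := rfl
theorem F5233 : act 2 n1017 = n1017 := d22_1 D1017 (iv D1017) F3705
theorem F5234 : act 3 n1017 = n1017 := d28_1 D1017 (iv D1017) F3706 F2615 (iv F3706)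
theorem F5235 : act 5 n1017 = n705 := d37_1 D1017 (iv D705) D704
theorem F5236 : act 6 n1017 = n1017 := d40_1 D1017 (iv D1017) F3707
def n1019 : Q := act 2 n706
theorem D1019 : act 2 n706 = n1019 := rfl
theorem F5242 : act 3 n1019 = n724 := d17_2 D706 D1019 (iv D724) (iv D500) (iv F2618)
def n1020 : Q := act 8 n706
theorem D1020 : act 8 n706 = n1020 := rfl
def n1021 : Q := act 8 n707
theorem D1021 : act 8 n707 = n1021 := rfl
def n1023 : Q := act 3 n710
theorem D1023 : act 3 n710 = n1023 := rfl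
theorem F5259 : act 0 n1023 = n711 := d2_1 D1023 (iv D711) (iv F3730)
theorem F5260 : act 1 n1023 = n1023 := d10_1 D1023 (iv D1023) F3731
theorem F5261 : act 4 n1023 = n1023 := d24_2 D710 D1023 (iv D1023) (iv D710) F2632
theorem F5262 : act 6 n1023 = n1023 := d26_2 F3732 D1023 (iv D1023)
theorem F5263 : act 7 n1023 = n716 := d27_2 (iv F3733) D1023 (iv D716)
theorem F5264 : act 9 n1023 = n1023 := d29_2 F3735 D1023 (iv D1023)
def n1024 : Q := act 5 n710
theorem D1024 : act 5 n710 = n1024 := rfl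
theorem F5265 : act 0 n1024 = n712 := d4_1 D1024 (iv D712) (iv F3730)
theorem F5266 : act 1 n1024 = n1024 := d12_1 D1024 (iv D1024) F3731
theorem F5267 : act 4 n1024 = n1024 := d30_1 D1024 (iv D1024) (iv D710) F2633 D710
theorem F5268 : act 7 n1024 = n717 := d36_2 (iv F3733) D1024 (iv D717)
theorem F5269 : act 8 n1024 = n1024 := d37_2 F3734 D1024 (iv D1024)
theorem F5270 : act 9 n1024 = n1024 := d38_2 F3735 D1024 (iv D1024)
def n1025 : Q := act 2 n711
theorem D1025 : act 2 n711 = n1025 := rfl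
theorem F5271 : act 1 n1025 = n1025 := d9_1 D1025 (iv D1025) F3736 F2644 (iv F3736)
theorem F5273 : act 6 n1025 = n1025 := d20_2 F3738 D1025 (iv D1025)
theorem F5275 : act 9 n1025 = n1025 := d23_2 F3740 D1025 (iv D1025)
def n1026 : Q := act 5 n711
theorem D1026 : act 5 n711 = n1026 := rfl
theorem F5276 : act 1 n1026 = n713 := d12_1 D1026 (iv D713) (iv F3736)
theorem F5277 : act 3 n1026 = n712 := d25_1 D1026 (iv D712) D711
theorem F5278 : act 7 n1026 = n719 := d36_2 (iv F3739) D1026 (iv D719)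
theorem F5279 : act 9 n1026 = n1026 := d38_2 F3740 D1026 (iv D1026)
def n1027 : Q := act 8 n711
theorem D1027 : act 8 n711 = n1027 := rfl
theorem F5280 : act 1 n1027 = n714 := d15_1 D1027 (iv D714) (iv F3736)
def n1028 : Q := act 6 n712
theorem D1028 : act 6 n712 = n1028 := rfl
theorem F5285 : act 1 n1028 = n715 := d13_1 D1028 (iv D715) (iv F3741)
theorem F5286 : act 4 n1028 = n1028 := d31_1 D1028 (iv D1028) F3742
theorem F5287 : act 5 n1028 = n1028 := d35_1 D1028 (iv D1028) (iv D712) F2639 D712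
theorem F5288 : act 7 n1028 = n1028 := d39_2 (iv F3743) D1028 (iv D1028) F3743 F2673
theorem F5289 : act 8 n1028 = n1028 := d40_2 F3744 D1028 (iv D1028)
theorem F5290 : act 9 n1028 = n1028 := d41_2 F3745 D1028 (iv D1028)
def n1029 : Q := act 4 n713
theorem D1029 : act 4 n713 = n1029 := rfl
theorem F5291 : act 0 n1029 = n1029 := d3_1 D1029 (iv D1029) F3746
theorem F5292 : act 2 n1029 = n1029 := d18_1 D1029 (iv D1029) F3747
theorem F5293 : act 3 n1029 = n1029 := d24_1 D1029 (iv D1029) F3748 F2651 (iv F3748)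
theorem F5294 : act 5 n1029 = n1029 := d30_2 D713 D1029 (iv D1029) (iv D713) F2645
theorem F5295 : act 7 n1029 = n721 := d32_2 (iv F3749) D1029 (iv D721)
theorem F5296 : act 9 n1029 = n1029 := d34_2 F3750 D1029 (iv D1029)
def n1030 : Q := act 6 n713
theorem D1030 : act 6 n713 = n1030 := rfl
theorem F5297 : act 0 n1030 = n1030 := d5_1 D1030 (iv D1030) F3746
theorem F5298 : act 2 n1030 = n1030 := d20_1 D1030 (iv D1030) F3747
theorem F5299 : act 3 n1030 = n715 := d26_1 D1030 (iv D715) (iv F3748)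
theorem F5300 : act 5 n1030 = n1030 := d35_1 D1030 (iv D1030) (iv D713) F2646 D713
theorem F5301 : act 7 n1030 = n1030 := d39_2 (iv F3749) D1030 (iv D1030) F3749 F2679
theorem F5302 : act 9 n1030 = n1030 := d41_2 F3750 D1030 (iv D1030)
def n1031 : Q := act 8 n713
theorem D1031 : act 8 n713 = n1031 := rfl
theorem F5303 : act 0 n1031 = n1031 := d7_1 D1031 (iv D1031) F3746
theorem F5304 : act 2 n1031 = n1031 := d22_1 D1031 (iv D1031) F3747
theorem F5305 : act 3 n1031 = n1031 := d28_1 D1031 (iv D1031) F3748 F2653 (iv F3748)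
theorem F5306 : act 5 n1031 = n714 := d37_1 D1031 (iv D714) D713
theorem F5307 : act 7 n1031 = n722 := d42_1 D1031 (iv D722) (iv F3749)
def n1032 : Q := act 9 n714
theorem D1032 : act 9 n714 = n1032 := rfl
def n1033 : Q := act 2 n716
theorem D1033 : act 2 n716 = n1033 := rfl
def n1034 : Q := act 5 n716
theorem D1034 : act 5 n716 = n1034 := rfl
theorem F5319 : act 0 n1034 = n719 := d4_1 D1034 (iv D719) (iv F3764)
theorem F5320 : act 1 n1034 = n1034 := d12_1 D1034 (iv D1034) F3765
theorem F5321 : act 3 n1034 = n717 := d25_1 D1034 (iv D717) D716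
theorem F5322 : act 6 n1034 = n1034 := d35_2 (iv F3767) D1034 (iv D1034) F3767 F2689
theorem F5323 : act 9 n1034 = n1034 := d38_2 F3768 D1034 (iv D1034)
def n1035 : Q := act 8 n716
theorem D1035 : act 8 n716 = n1035 := rfl
def n1036 : Q := act 5 n718
theorem D1036 : act 5 n718 = n1036 := rfl
theorem F5330 : act 2 n1036 = n719 := d19_1 D1036 (iv D719) D718
def n1037 : Q := act 8 n718
theorem D1037 : act 8 n718 = n1037 := rfl
theorem F5334 : act 2 n1037 = n720 := d22_1 D1037 (iv D720) D718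
def n1038 : Q := act 4 n719
theorem D1038 : act 4 n719 = n1038 := rfl
theorem F5337 : act 1 n1038 = n721 := d11_1 D1038 (iv D721) (iv F3779)
theorem F5338 : act 3 n1038 = n1038 := d24_1 D1038 (iv D1038) F3780 F2672 (iv F3780)
theorem F5339 : act 5 n1038 = n1038 := d30_2 D719 D1038 (iv D1038) (iv D719) F2668
theorem F5340 : act 6 n1038 = n1038 := d31_2 F3781 D1038 (iv D1038)
theorem F5341 : act 9 n1038 = n1038 := d34_2 F3782 D1038 (iv D1038)
def n1039 : Q := act 8 n719
theorem D1039 : act 8 n719 = n1039 := rfl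
theorem F5342 : act 1 n1039 = n722 := d15_1 D1039 (iv D722) (iv F3779)
def n1040 : Q := act 9 n720
theorem D1040 : act 9 n720 = n1040 := rfl
theorem F5346 : act 1 n1040 = n723 := d16_1 D1040 (iv D723) (iv F3783)
def n1041 : Q := act 8 n721
theorem D1041 : act 8 n721 = n1041 := rfl
theorem F5351 : act 0 n1041 = n1041 := d7_1 D1041 (iv D1041) F3787
theorem F5352 : act 2 n1041 = n1041 := d22_1 D1041 (iv D1041) F3788
theorem F5353 : act 4 n1041 = n722 := d33_1 D1041 (iv D722) D721
theorem F5354 : act 5 n1041 = n1041 := d37_1 D1041 (iv D1041) F3790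
theorem F5355 : act 6 n1041 = n1041 := d40_1 D1041 (iv D1041) F3791
def n1042 : Q := act 9 n722
theorem D1042 : act 9 n722 = n1042 := rfl
def n1044 : Q := act 8 n724
theorem D1044 : act 8 n724 = n1044 := rfl
theorem F5369 : act 2 n1044 = n725 := d22_1 D1044 (iv D725) D724
def n1046 : Q := act 3 n726
theorem D1046 : act 3 n726 = n1046 := rfl
def n1047 : Q := act 9 n726
theorem D1047 : act 9 n726 = n1047 := rfl
theorem F5385 : act 2 n1047 = n727 := d23_1 D1047 (iv D727) (iv F3816)
def n1048 : Q := act 4 n728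
theorem D1048 : act 4 n728 = n1048 := rfl
theorem F5390 : act 0 n1048 = n1048 := d3_1 D1048 (iv D1048) F3826
theorem F5391 : act 1 n1048 = n1048 := d11_1 D1048 (iv D1048) F3827
theorem F5392 : act 2 n1048 = n1048 := d18_1 D1048 (iv D1048) F3828
theorem F5393 : act 3 n1048 = n1048 := d24_1 D1048 (iv D1048) F3829 F2725 (iv F3829)
theorem F5394 : act 5 n1048 = n1048 := d30_2 D728 D1048 (iv D1048) (iv D728) F2713
theorem F5395 : act 6 n1048 = n1048 := d31_2 F3830 D1048 (iv D1048)
theorem F5396 : act 8 n1048 = n1048 := d33_2 F3831 D1048 (iv D1048)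
def n1049 : Q := act 7 n728
theorem D1049 : act 7 n728 = n1049 := rfl
theorem F5397 : act 0 n1049 = n1049 := d6_1 D1049 (iv D1049) F3826
theorem F5398 : act 1 n1049 = n1049 := d14_1 D1049 (iv D1049) F3827
theorem F5399 : act 2 n1049 = n1049 := d21_1 D1049 (iv D1049) F3828
theorem F5400 : act 3 n1049 = n732 := d27_1 D1049 (iv D732) (iv F3829)
theorem F5401 : act 5 n1049 = n729 := d36_1 D1049 (iv D729) D728
theorem F5402 : act 8 n1049 = n1049 := d42_2 F3831 D1049 (iv D1049)
def n1050 : Q := act 9 n728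
theorem D1050 : act 9 n728 = n1050 := rfl
theorem F5403 : act 0 n1050 = n1050 := d8_1 D1050 (iv D1050) F3826
theorem F5404 : act 1 n1050 = n1050 := d16_1 D1050 (iv D1050) F3827
theorem F5405 : act 2 n1050 = n1050 := d23_1 D1050 (iv D1050) F3828
theorem F5406 : act 3 n1050 = n734 := d29_1 D1050 (iv D734) (iv F3829)
theorem F5407 : act 5 n1050 = n730 := d38_1 D1050 (iv D730) D728
theorem F5408 : act 6 n1050 = n1050 := d41_1 D1050 (iv D1050) F3830
def n1051 : Q := act 9 n729
theorem D1051 : act 9 n729 = n1051 := rfl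
theorem F5409 : act 0 n1051 = n1051 := d8_1 D1051 (iv D1051) F3832
theorem F5410 : act 1 n1051 = n1051 := d16_1 D1051 (iv D1051) F3833
theorem F5411 : act 2 n1051 = n1051 := d23_1 D1051 (iv D1051) F3834
theorem F5412 : act 3 n1051 = n736 := d29_1 D1051 (iv D736) (iv F3835)
theorem F5413 : act 4 n1051 = n1051 := d34_1 D1051 (iv D1051) F3836
theorem F5414 : act 6 n1051 = n1051 := d41_1 D1051 (iv D1051) F3837
theorem F5415 : act 7 n1051 = n730 := d43_1 D1051 (iv D730) D729
def n1052 : Q := act 8 n730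
theorem D1052 : act 8 n730 = n1052 := rfl
theorem F5416 : act 0 n1052 = n1052 := d7_1 D1052 (iv D1052) F3839
theorem F5417 : act 1 n1052 = n1052 := d15_1 D1052 (iv D1052) F3840
theorem F5418 : act 2 n1052 = n1052 := d22_1 D1052 (iv D1052) F3841
theorem F5419 : act 4 n1052 = n1052 := d33_1 D1052 (iv D1052) F3843
theorem F5420 : act 6 n1052 = n731 := d40_1 D1052 (iv D731) (iv F3844)
theorem F5421 : act 9 n1052 = n1052 := d44_2 D730 D1052 (iv D1052) (iv D730) F2714
def n1053 : Q := act 3 n731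
theorem D1053 : act 3 n731 = n1053 := rfl
theorem F5422 : act 0 n1053 = n1053 := d2_1 D1053 (iv D1053) F3845
theorem F5423 : act 1 n1053 = n1053 := d10_1 D1053 (iv D1053) F3846
theorem F5424 : act 5 n1053 = n1053 := d25_2 F3849 D1053 (iv D1053)
theorem F5425 : act 7 n1053 = n1053 := d27_2 F3850 D1053 (iv D1053)
theorem F5426 : act 8 n1053 = n740 := d28_2 D731 D1053 (iv D740) (iv D511) (iv F2718)
theorem F5427 : act 9 n1053 = n1053 := d29_2 F3851 D1053 (iv D1053)
def n1054 : Q := act 6 n732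
theorem D1054 : act 6 n732 = n1054 := rfl
theorem F5428 : act 0 n1054 = n1054 := d5_1 D1054 (iv D1054) F3852
theorem F5429 : act 1 n1054 = n1054 := d13_1 D1054 (iv D1054) F3853
theorem F5430 : act 2 n1054 = n758 := d20_1 D1054 (iv D758) (iv F3854)
theorem F5431 : act 4 n1054 = n1054 := d31_1 D1054 (iv D1054) F3855
theorem F5432 : act 5 n1054 = n1054 := d35_1 D1054 (iv D1054) F3856 F2731 (iv F3856)
theorem F5433 : act 7 n1054 = n1054 := d39_2 D732 D1054 (iv D1054) (iv D732) F2726
def n1055 : Q := act 8 n732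
theorem D1055 : act 8 n732 = n1055 := rfl
theorem F5434 : act 0 n1055 = n1055 := d7_1 D1055 (iv D1055) F3852
theorem F5435 : act 1 n1055 = n1055 := d15_1 D1055 (iv D1055) F3853
theorem F5436 : act 2 n1055 = n759 := d22_1 D1055 (iv D759) (iv F3854)
theorem F5437 : act 3 n1055 = n1055 := d28_1 D1055 (iv D1055) (iv F5400) F5402 F5400
theorem F5438 : act 4 n1055 = n1055 := d33_1 D1055 (iv D1055) F3855
theorem F5439 : act 5 n1055 = n735 := d37_1 D1055 (iv D735) (iv F3856)
theorem F5440 : act 7 n1055 = n733 := d42_1 D1055 (iv D733) D732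
def n1056 : Q := act 9 n732
theorem D1056 : act 9 n732 = n1056 := rfl
theorem F5441 : act 0 n1056 = n1056 := d8_1 D1056 (iv D1056) F3852
theorem F5442 : act 1 n1056 = n1056 := d16_1 D1056 (iv D1056) F3853
theorem F5443 : act 2 n1056 = n760 := d23_1 D1056 (iv D760) (iv F3854)
theorem F5444 : act 4 n1056 = n1056 := d34_1 D1056 (iv D1056) F3855
theorem F5445 : act 5 n1056 = n736 := d38_1 D1056 (iv D736) (iv F3856)
theorem F5446 : act 7 n1056 = n734 := d43_1 D1056 (iv D734) D732
def n1057 : Q := act 9 n733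
theorem D1057 : act 9 n733 = n1057 := rfl
theorem F5447 : act 0 n1057 = n1057 := d8_1 D1057 (iv D1057) F3857
theorem F5448 : act 1 n1057 = n1057 := d16_1 D1057 (iv D1057) F3858
theorem F5449 : act 2 n1057 = n762 := d23_1 D1057 (iv D762) (iv F3859)
theorem F5450 : act 3 n1057 = n1057 := d29_1 D1057 (iv D1057) F3860
theorem F5451 : act 4 n1057 = n1057 := d34_1 D1057 (iv D1057) F3861
theorem F5452 : act 5 n1057 = n737 := d38_1 D1057 (iv D737) (iv F3862)
theorem F5453 : act 6 n1057 = n1057 := d41_1 D1057 (iv D1057) F3863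
def n1058 : Q := act 8 n734
theorem D1058 : act 8 n734 = n1058 := rfl
theorem F5454 : act 0 n1058 = n1058 := d7_1 D1058 (iv D1058) F3864
theorem F5455 : act 1 n1058 = n1058 := d15_1 D1058 (iv D1058) F3865
theorem F5456 : act 2 n1058 = n763 := d22_1 D1058 (iv D763) (iv F3866)
theorem F5457 : act 4 n1058 = n1058 := d33_1 D1058 (iv D1058) F3867
theorem F5458 : act 5 n1058 = n738 := d37_1 D1058 (iv D738) (iv F3868)
theorem F5459 : act 6 n1058 = n1058 := d40_1 D1058 (iv D1058) F3869
def n1059 : Q := act 9 n735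
theorem D1059 : act 9 n735 = n1059 := rfl
theorem F5460 : act 0 n1059 = n1059 := d8_1 D1059 (iv D1059) F3870
theorem F5461 : act 1 n1059 = n1059 := d16_1 D1059 (iv D1059) F3871
theorem F5462 : act 2 n1059 = n765 := d23_1 D1059 (iv D765) (iv F3872)
theorem F5463 : act 3 n1059 = n1059 := d29_1 D1059 (iv D1059) F3873
theorem F5464 : act 4 n1059 = n742 := d34_1 D1059 (iv D742) (iv F3874)
theorem F5465 : act 6 n1059 = n1059 := d41_1 D1059 (iv D1059) F3875
theorem F5466 : act 7 n1059 = n737 := d43_1 D1059 (iv D737) (iv F3876)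
def n1060 : Q := act 8 n736
theorem D1060 : act 8 n736 = n1060 := rfl
theorem F5467 : act 0 n1060 = n1060 := d7_1 D1060 (iv D1060) F3877
theorem F5468 : act 1 n1060 = n1060 := d15_1 D1060 (iv D1060) F3878
theorem F5469 : act 2 n1060 = n766 := d22_1 D1060 (iv D766) (iv F3879)
theorem F5470 : act 4 n1060 = n743 := d33_1 D1060 (iv D743) (iv F3880)
theorem F5471 : act 6 n1060 = n1060 := d40_1 D1060 (iv D1060) F3881
theorem F5472 : act 7 n1060 = n738 := d42_1 D1060 (iv D738) (iv F3882)
def n1061 : Q := act 8 n737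
theorem D1061 : act 8 n737 = n1061 := rfl
theorem F5473 : act 0 n1061 = n1061 := d7_1 D1061 (iv D1061) F3883
theorem F5474 : act 1 n1061 = n1061 := d15_1 D1061 (iv D1061) F3884
theorem F5475 : act 2 n1061 = n768 := d22_1 D1061 (iv D768) (iv F3885)
theorem F5476 : act 4 n1061 = n745 := d33_1 D1061 (iv D745) (iv F3887)
theorem F5477 : act 6 n1061 = n739 := d40_1 D1061 (iv D739) (iv F3888)
theorem F5478 : act 9 n1061 = n738 := d44_2 D737 D1061 (iv D738) (iv D509) D508
def n1062 : Q := act 3 n738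
theorem D1062 : act 3 n738 = n1062 := rfl
theorem F5479 : act 0 n1062 = n1062 := d2_1 D1062 (iv D1062) F3889
theorem F5480 : act 1 n1062 = n1062 := d10_1 D1062 (iv D1062) F3890
theorem F5481 : act 6 n1062 = n740 := d26_2 (iv F3893) D1062 (iv D740)
def n1063 : Q := act 3 n739
theorem D1063 : act 3 n739 = n1063 := rfl
theorem F5482 : act 0 n1063 = n1063 := d2_1 D1063 (iv D1063) F3894
theorem F5483 : act 1 n1063 = n1063 := d10_1 D1063 (iv D1063) F3895
theorem F5484 : act 5 n1063 = n1063 := d25_2 F3898 D1063 (iv D1063)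
theorem F5485 : act 7 n1063 = n1063 := d27_2 F3899 D1063 (iv D1063)
theorem F5486 : act 8 n1063 = n1063 := d28_2 D739 D1063 (iv D1063) (iv D739) F2746
theorem F5487 : act 9 n1063 = n740 := d29_2 (iv F3900) D1063 (iv D740)
def n1064 : Q := act 2 n740
theorem D1064 : act 2 n740 = n1064 := rfl
theorem F5488 : act 0 n1064 = n1064 := d1_1 D1064 (iv D1064) F3901
theorem F5489 : act 3 n1064 = n772 := d17_2 D740 D1064 (iv D772) (iv D535) (iv F2752)
theorem F5490 : act 5 n1064 = n1064 := d19_2 F3903 D1064 (iv D1064)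
theorem F5491 : act 7 n1064 = n1064 := d21_2 F3904 D1064 (iv D1064)
def n1065 : Q := act 4 n740
theorem D1065 : act 4 n740 = n1065 := rfl
theorem F5492 : act 0 n1065 = n1065 := d3_1 D1065 (iv D1065) F3901
theorem F5493 : act 1 n1065 = n1065 := d11_1 D1065 (iv D1065) F3902
theorem F5494 : act 3 n1065 = n750 := d24_1 D1065 (iv D750) (iv D519) (iv F2753) D740
theorem F5495 : act 7 n1065 = n1065 := d32_2 F3904 D1065 (iv D1065)
def n1066 : Q := act 9 n741
theorem D1066 : act 9 n741 = n1066 := rfl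
theorem F5496 : act 0 n1066 = n1066 := d8_1 D1066 (iv D1066) F3905
theorem F5497 : act 1 n1066 = n1066 := d16_1 D1066 (iv D1066) F3906
theorem F5498 : act 2 n1066 = n1066 := d23_1 D1066 (iv D1066) F3907
theorem F5499 : act 3 n1066 = n742 := d29_1 D1066 (iv D742) D741
theorem F5500 : act 4 n1066 = n1066 := d34_1 D1066 (iv D1066) F3908
theorem F5501 : act 5 n1066 = n1066 := d38_1 D1066 (iv D1066) F3909
theorem F5502 : act 6 n1066 = n1066 := d41_1 D1066 (iv D1066) F3910
theorem F5503 : act 7 n1066 = n744 := d43_1 D1066 (iv D744) (iv F3911)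
def n1067 : Q := act 8 n742
theorem D1067 : act 8 n742 = n1067 := rfl
theorem F5504 : act 0 n1067 = n1067 := d7_1 D1067 (iv D1067) F3913
theorem F5505 : act 1 n1067 = n1067 := d15_1 D1067 (iv D1067) F3914
theorem F5506 : act 2 n1067 = n774 := d22_1 D1067 (iv D774) (iv F3915)
theorem F5507 : act 5 n1067 = n1067 := d37_1 D1067 (iv D1067) F3916
theorem F5508 : act 6 n1067 = n1067 := d40_1 D1067 (iv D1067) F3917
theorem F5509 : act 7 n1067 = n745 := d42_1 D1067 (iv D745) (iv F3918)
theorem F5510 : act 9 n1067 = n743 := d44_2 D742 D1067 (iv D743) (iv D513) D512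
def n1068 : Q := act 3 n743
theorem D1068 : act 3 n743 = n1068 := rfl
theorem F5511 : act 0 n1068 = n1068 := d2_1 D1068 (iv D1068) F3919
theorem F5512 : act 1 n1068 = n1068 := d10_1 D1068 (iv D1068) F3920
theorem F5513 : act 5 n1068 = n1068 := d25_2 F3922 D1068 (iv D1068)
theorem F5514 : act 6 n1068 = n1068 := d26_2 F3923 D1068 (iv D1068)
theorem F5515 : act 7 n1068 = n746 := d27_2 (iv F3924) D1068 (iv D746)
theorem F5516 : act 8 n1068 = n1068 := d28_2 D743 D1068 (iv D1068) (iv D743) F2765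
def n1069 : Q := act 8 n744
theorem D1069 : act 8 n744 = n1069 := rfl
theorem F5517 : act 0 n1069 = n1069 := d7_1 D1069 (iv D1069) F3925
theorem F5518 : act 1 n1069 = n1069 := d15_1 D1069 (iv D1069) F3926
theorem F5519 : act 2 n1069 = n1069 := d22_1 D1069 (iv D1069) F3927
theorem F5520 : act 4 n1069 = n1069 := d33_1 D1069 (iv D1069) F3929
theorem F5521 : act 5 n1069 = n1069 := d37_1 D1069 (iv D1069) F3930
theorem F5522 : act 6 n1069 = n747 := d40_1 D1069 (iv D747) (iv F3931)
theorem F5523 : act 9 n1069 = n1069 := d44_2 D744 D1069 (iv D1069) (iv D744) F2775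
def n1070 : Q := act 3 n745
theorem D1070 : act 3 n745 = n1070 := rfl
theorem F5524 : act 0 n1070 = n1070 := d2_1 D1070 (iv D1070) F3932
theorem F5525 : act 1 n1070 = n1070 := d10_1 D1070 (iv D1070) F3933
theorem F5526 : act 5 n1070 = n1070 := d25_2 F3935 D1070 (iv D1070)
theorem F5527 : act 6 n1070 = n748 := d26_2 (iv F3936) D1070 (iv D748)
theorem F5528 : act 9 n1070 = n746 := d29_2 (iv F3937) D1070 (iv D746)
def n1071 : Q := act 2 n746
theorem D1071 : act 2 n746 = n1071 := rfl
theorem F5529 : act 0 n1071 = n1071 := d1_1 D1071 (iv D1071) F3938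
theorem F5530 : act 3 n1071 = n777 := d17_2 D746 D1071 (iv D777) (iv D539) (iv F2783)
theorem F5531 : act 5 n1071 = n1071 := d19_2 F3940 D1071 (iv D1071)
theorem F5532 : act 6 n1071 = n749 := d20_2 (iv F3941) D1071 (iv D749)
theorem F5533 : act 8 n1071 = n1071 := d22_2 F3942 D1071 (iv D1071)
def n1072 : Q := act 4 n746
theorem D1072 : act 4 n746 = n1072 := rfl
theorem F5534 : act 0 n1072 = n1072 := d3_1 D1072 (iv D1072) F3938
theorem F5535 : act 1 n1072 = n1072 := d11_1 D1072 (iv D1072) F3939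
theorem F5536 : act 6 n1072 = n750 := d31_2 (iv F3941) D1072 (iv D750)
theorem F5537 : act 8 n1072 = n1072 := d33_2 F3942 D1072 (iv D1072)
def n1073 : Q := act 3 n747
theorem D1073 : act 3 n747 = n1073 := rfl
theorem F5538 : act 0 n1073 = n1073 := d2_1 D1073 (iv D1073) F3943
theorem F5539 : act 1 n1073 = n1073 := d10_1 D1073 (iv D1073) F3944
theorem F5540 : act 5 n1073 = n752 := d25_2 (iv F3947) D1073 (iv D752)
theorem F5541 : act 7 n1073 = n1073 := d27_2 F3948 D1073 (iv D1073)
theorem F5542 : act 8 n1073 = n748 := d28_2 D747 D1073 (iv D748) (iv D518) (iv F2789)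
theorem F5543 : act 9 n1073 = n1073 := d29_2 F3949 D1073 (iv D1073)
def n1074 : Q := act 2 n748
theorem D1074 : act 2 n748 = n1074 := rfl
theorem F5544 : act 0 n1074 = n1074 := d1_1 D1074 (iv D1074) F3950
theorem F5545 : act 3 n1074 = n779 := d17_2 D748 D1074 (iv D779) (iv D540) (iv F2795)
theorem F5546 : act 5 n1074 = n753 := d19_2 (iv F3952) D1074 (iv D753)
theorem F5547 : act 7 n1074 = n1074 := d21_2 F3953 D1074 (iv D1074)
theorem F5548 : act 9 n1074 = n749 := d23_2 (iv F3954) D1074 (iv D749)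
def n1075 : Q := act 4 n748
theorem D1075 : act 4 n748 = n1075 := rfl
theorem F5549 : act 0 n1075 = n1075 := d3_1 D1075 (iv D1075) F3950
theorem F5550 : act 1 n1075 = n1075 := d11_1 D1075 (iv D1075) F3951
theorem F5551 : act 7 n1075 = n1075 := d32_2 F3953 D1075 (iv D1075)
theorem F5552 : act 9 n1075 = n750 := d34_2 (iv F3954) D1075 (iv D750)
def n1076 : Q := act 1 n749
theorem D1076 : act 1 n749 = n1076 := rfl
theorem F5553 : act 2 n1076 = n1076 := d9_2 D749 D1076 (iv D1076) (iv D749) F2800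
theorem F5554 : act 3 n1076 = n781 := d10_2 (iv F3956) D1076 (iv D781)
theorem F5555 : act 5 n1076 = n755 := d12_2 (iv F3957) D1076 (iv D755)
theorem F5556 : act 7 n1076 = n1076 := d14_2 F3958 D1076 (iv D1076)
theorem F5557 : act 8 n1076 = n1076 := d15_2 F3959 D1076 (iv D1076)
def n1077 : Q := act 4 n749
theorem D1077 : act 4 n749 = n1077 := rfl
theorem F5558 : act 0 n1077 = n1077 := d3_1 D1077 (iv D1077) F3955
theorem F5559 : act 2 n1077 = n750 := d18_1 D1077 (iv D750) D749
theorem F5560 : act 7 n1077 = n1077 := d32_2 F3958 D1077 (iv D1077)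
theorem F5561 : act 8 n1077 = n1077 := d33_2 F3959 D1077 (iv D1077)
def n1078 : Q := act 5 n750
theorem D1078 : act 5 n750 = n1078 := rfl
theorem F5562 : act 0 n1078 = n1078 := d4_1 D1078 (iv D1078) F3960
theorem F5563 : act 1 n1078 = n1078 := d12_1 D1078 (iv D1078) F3961
theorem F5564 : act 4 n1078 = n757 := d30_1 D1078 (iv D757) (iv D524) (iv F2801) D750
theorem F5565 : act 7 n1078 = n1078 := d36_2 F3962 D1078 (iv D1078)
theorem F5566 : act 8 n1078 = n1078 := d37_2 F3963 D1078 (iv D1078)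
def n1079 : Q := act 3 n751
theorem D1079 : act 3 n751 = n1079 := rfl
theorem F5567 : act 0 n1079 = n1079 := d2_1 D1079 (iv D1079) F3964
theorem F5568 : act 1 n1079 = n1079 := d10_1 D1079 (iv D1079) F3965
theorem F5569 : act 5 n1079 = n1079 := d25_2 F3968 D1079 (iv D1079)
theorem F5570 : act 6 n1079 = n1079 := d26_2 F3969 D1079 (iv D1079)
theorem F5571 : act 7 n1079 = n1079 := d27_2 F3970 D1079 (iv D1079)
theorem F5572 : act 8 n1079 = n1079 := d28_2 D751 D1079 (iv D1079) (iv D751) F2807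
theorem F5573 : act 9 n1079 = n1079 := d29_2 F3971 D1079 (iv D1079)
def n1080 : Q := act 2 n752
theorem D1080 : act 2 n752 = n1080 := rfl
theorem F5574 : act 0 n1080 = n1080 := d1_1 D1080 (iv D1080) F3972
theorem F5575 : act 3 n1080 = n1080 := d17_2 D752 D1080 (iv D1080) (iv D752) F2814
theorem F5576 : act 6 n1080 = n1080 := d20_2 F3974 D1080 (iv D1080)
theorem F5577 : act 7 n1080 = n1080 := d21_2 F3975 D1080 (iv D1080)
theorem F5578 : act 8 n1080 = n753 := d22_2 (iv F3976) D1080 (iv D753)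
theorem F5579 : act 9 n1080 = n1080 := d23_2 F3977 D1080 (iv D1080)
def n1081 : Q := act 4 n752
theorem D1081 : act 4 n752 = n1081 := rfl
theorem F5580 : act 0 n1081 = n1081 := d3_1 D1081 (iv D1081) F3972
theorem F5581 : act 1 n1081 = n1081 := d11_1 D1081 (iv D1081) F3973
theorem F5582 : act 6 n1081 = n1081 := d31_2 F3974 D1081 (iv D1081)
theorem F5583 : act 7 n1081 = n1081 := d32_2 F3975 D1081 (iv D1081)
theorem F5584 : act 8 n1081 = n754 := d33_2 (iv F3976) D1081 (iv D754)
theorem F5585 : act 9 n1081 = n1081 := d34_2 F3977 D1081 (iv D1081)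
def n1082 : Q := act 1 n753
theorem D1082 : act 1 n753 = n1082 := rfl
theorem F5586 : act 2 n1082 = n1082 := d9_2 D753 D1082 (iv D1082) (iv D753) F2819
theorem F5587 : act 3 n1082 = n784 := d10_2 (iv F3979) D1082 (iv D784)
theorem F5588 : act 6 n1082 = n1082 := d13_2 F3980 D1082 (iv D1082)
theorem F5589 : act 7 n1082 = n1082 := d14_2 F3981 D1082 (iv D1082)
theorem F5590 : act 9 n1082 = n755 := d16_2 (iv F3982) D1082 (iv D755)
def n1083 : Q := act 4 n753
theorem D1083 : act 4 n753 = n1083 := rfl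
theorem F5591 : act 0 n1083 = n1083 := d3_1 D1083 (iv D1083) F3978
theorem F5592 : act 2 n1083 = n754 := d18_1 D1083 (iv D754) D753
theorem F5593 : act 6 n1083 = n1083 := d31_2 F3980 D1083 (iv D1083)
theorem F5594 : act 7 n1083 = n1083 := d32_2 F3981 D1083 (iv D1083)
theorem F5595 : act 9 n1083 = n756 := d34_2 (iv F3982) D1083 (iv D756)
def n1084 : Q := act 5 n754
theorem D1084 : act 5 n754 = n1084 := rfl
theorem F5596 : act 0 n1084 = n1084 := d4_1 D1084 (iv D1084) F3983
theorem F5597 : act 1 n1084 = n1084 := d12_1 D1084 (iv D1084) F3984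
theorem F5598 : act 3 n1084 = n1084 := d25_1 D1084 (iv D1084) F3985
theorem F5599 : act 7 n1084 = n1084 := d36_2 F3987 D1084 (iv D1084)
theorem F5600 : act 9 n1084 = n757 := d38_2 (iv F3988) D1084 (iv D757)
def n1085 : Q := act 0 n755
theorem D1085 : act 0 n755 = n1085 := rfl
theorem F5601 : act 1 n1085 = n1085 := d0_2 D755 D1085 (iv D1085) (iv D755) F2823
theorem F5602 : act 2 n1085 = n1085 := d1_2 F3989 D1085 (iv D1085)
theorem F5603 : act 3 n1085 = n787 := d2_2 (iv F3990) D1085 (iv D787)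
theorem F5604 : act 6 n1085 = n1085 := d5_2 F3991 D1085 (iv D1085)
theorem F5605 : act 7 n1085 = n1085 := d6_2 F3992 D1085 (iv D1085)
theorem F5606 : act 8 n1085 = n1085 := d7_2 F3993 D1085 (iv D1085)
def n1086 : Q := act 4 n755
theorem D1086 : act 4 n755 = n1086 := rfl
theorem F5607 : act 1 n1086 = n756 := d11_1 D1086 (iv D756) D755
theorem F5608 : act 2 n1086 = n1086 := d18_1 D1086 (iv D1086) F3989
theorem F5609 : act 6 n1086 = n1086 := d31_2 F3991 D1086 (iv D1086)
theorem F5610 : act 7 n1086 = n1086 := d32_2 F3992 D1086 (iv D1086)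
theorem F5611 : act 8 n1086 = n1086 := d33_2 F3993 D1086 (iv D1086)
def n1087 : Q := act 3 n756
theorem D1087 : act 3 n756 = n1087 := rfl
theorem F5612 : act 0 n1087 = n1087 := d2_1 D1087 (iv D1087) F3994
theorem F5613 : act 2 n1087 = n1087 := d17_1 D1087 (iv D1087) F3995 F2830 (iv F3995)
theorem F5614 : act 4 n1087 = n789 := d24_2 D756 D1087 (iv D789) (iv D546) (iv F2824)
theorem F5615 : act 6 n1087 = n1087 := d26_2 F3996 D1087 (iv D1087)
theorem F5616 : act 7 n1087 = n1087 := d27_2 F3997 D1087 (iv D1087)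
def n1088 : Q := act 5 n756
theorem D1088 : act 5 n756 = n1088 := rfl
theorem F5617 : act 0 n1088 = n1088 := d4_1 D1088 (iv D1088) F3994
theorem F5618 : act 2 n1088 = n757 := d19_1 D1088 (iv D757) (iv F3995)
theorem F5619 : act 7 n1088 = n1088 := d36_2 F3997 D1088 (iv D1088)
theorem F5620 : act 8 n1088 = n1088 := d37_2 F3998 D1088 (iv D1088)
def n1089 : Q := act 6 n757
theorem D1089 : act 6 n757 = n1089 := rfl
theorem F5621 : act 0 n1089 = n1089 := d5_1 D1089 (iv D1089) F3999
theorem F5622 : act 1 n1089 = n1089 := d13_1 D1089 (iv D1089) F4000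
theorem F5623 : act 3 n1089 = n1089 := d26_1 D1089 (iv D1089) F4001
theorem F5624 : act 5 n1089 = n1089 := d35_1 D1089 (iv D1089) (iv D757) F2831 D757
theorem F5625 : act 8 n1089 = n1089 := d40_2 F4003 D1089 (iv D1089)
def n1090 : Q := act 8 n758
theorem D1090 : act 8 n758 = n1090 := rfl
theorem F5626 : act 0 n1090 = n1090 := d7_1 D1090 (iv D1090) F4004
theorem F5627 : act 1 n1090 = n814 := d15_1 D1090 (iv D814) (iv F4005)
theorem F5628 : act 4 n1090 = n1090 := d33_1 D1090 (iv D1090) F4007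
theorem F5629 : act 5 n1090 = n1090 := d37_1 D1090 (iv D1090) F4008
theorem F5630 : act 6 n1090 = n759 := d40_1 D1090 (iv D759) D758
theorem F5631 : act 7 n1090 = n1090 := d42_1 D1090 (iv D1090) F4009
def n1091 : Q := act 9 n758
theorem D1091 : act 9 n758 = n1091 := rfl
theorem F5632 : act 0 n1091 = n1091 := d8_1 D1091 (iv D1091) F4004
theorem F5633 : act 1 n1091 = n815 := d16_1 D1091 (iv D815) (iv F4005)
theorem F5634 : act 3 n1091 = n1091 := d29_1 D1091 (iv D1091) F4006
theorem F5635 : act 4 n1091 = n1091 := d34_1 D1091 (iv D1091) F4007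
theorem F5636 : act 5 n1091 = n1091 := d38_1 D1091 (iv D1091) F4008
theorem F5637 : act 6 n1091 = n760 := d41_1 D1091 (iv D760) D758
theorem F5638 : act 7 n1091 = n1091 := d43_1 D1091 (iv D1091) F4009
def n1092 : Q := act 3 n759
theorem D1092 : act 3 n759 = n1092 := rfl
theorem F5639 : act 0 n1092 = n1092 := d2_1 D1092 (iv D1092) F4010
theorem F5640 : act 1 n1092 = n816 := d10_1 D1092 (iv D816) (iv F4011)
theorem F5641 : act 2 n1092 = n1092 := d17_1 D1092 (iv D1092) (iv F5436) F5437 F5436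
theorem F5642 : act 5 n1092 = n764 := d25_2 (iv F4013) D1092 (iv D764)
theorem F5643 : act 7 n1092 = n761 := d27_2 (iv F4014) D1092 (iv D761)
theorem F5644 : act 8 n1092 = n1092 := d28_2 D759 D1092 (iv D1092) (iv D759) F2836
def n1093 : Q := act 9 n759
theorem D1093 : act 9 n759 = n1093 := rfl
theorem F5645 : act 0 n1093 = n1093 := d8_1 D1093 (iv D1093) F4010
theorem F5646 : act 1 n1093 = n817 := d16_1 D1093 (iv D817) (iv F4011)
theorem F5647 : act 4 n1093 = n1093 := d34_1 D1093 (iv D1093) F4012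
theorem F5648 : act 5 n1093 = n765 := d38_1 D1093 (iv D765) (iv F4013)
theorem F5649 : act 7 n1093 = n762 := d43_1 D1093 (iv D762) (iv F4014)
def n1094 : Q := act 8 n760
theorem D1094 : act 8 n760 = n1094 := rfl
theorem F5650 : act 0 n1094 = n1094 := d7_1 D1094 (iv D1094) F4015
theorem F5651 : act 1 n1094 = n818 := d15_1 D1094 (iv D818) (iv F4016)
theorem F5652 : act 4 n1094 = n1094 := d33_1 D1094 (iv D1094) F4018
theorem F5653 : act 5 n1094 = n766 := d37_1 D1094 (iv D766) (iv F4019)
theorem F5654 : act 7 n1094 = n763 := d42_1 D1094 (iv D763) (iv F4020)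
def n1095 : Q := act 4 n761
theorem D1095 : act 4 n761 = n1095 := rfl
theorem F5655 : act 0 n1095 = n1095 := d3_1 D1095 (iv D1095) F4021
theorem F5656 : act 1 n1095 = n820 := d11_1 D1095 (iv D820) (iv F4022)
theorem F5657 : act 2 n1095 = n1095 := d18_1 D1095 (iv D1095) F4023
theorem F5658 : act 3 n1095 = n1095 := d24_1 D1095 (iv D1095) (iv D761) F2841 D761
theorem F5659 : act 5 n1095 = n1095 := d30_2 (iv F4024) D1095 (iv D1095) F4024 F2864
theorem F5660 : act 6 n1095 = n1095 := d31_2 F4025 D1095 (iv D1095)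
theorem F5661 : act 8 n1095 = n1095 := d33_2 F4026 D1095 (iv D1095)
def n1096 : Q := act 9 n761
theorem D1096 : act 9 n761 = n1096 := rfl
theorem F5662 : act 0 n1096 = n1096 := d8_1 D1096 (iv D1096) F4021
theorem F5663 : act 1 n1096 = n821 := d16_1 D1096 (iv D821) (iv F4022)
theorem F5664 : act 2 n1096 = n1096 := d23_1 D1096 (iv D1096) F4023
theorem F5665 : act 3 n1096 = n762 := d29_1 D1096 (iv D762) D761
theorem F5666 : act 5 n1096 = n767 := d38_1 D1096 (iv D767) (iv F4024)
theorem F5667 : act 6 n1096 = n1096 := d41_1 D1096 (iv D1096) F4025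
def n1097 : Q := act 8 n762
theorem D1097 : act 8 n762 = n1097 := rfl
theorem F5668 : act 0 n1097 = n1097 := d7_1 D1097 (iv D1097) F4027
theorem F5669 : act 1 n1097 = n822 := d15_1 D1097 (iv D822) (iv F4028)
theorem F5670 : act 4 n1097 = n1097 := d33_1 D1097 (iv D1097) F4029
theorem F5671 : act 5 n1097 = n768 := d37_1 D1097 (iv D768) (iv F4030)
theorem F5672 : act 6 n1097 = n1097 := d40_1 D1097 (iv D1097) F4031
theorem F5673 : act 9 n1097 = n763 := d44_2 D762 D1097 (iv D763) (iv D527) D526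
def n1098 : Q := act 3 n763
theorem D1098 : act 3 n763 = n1098 := rfl
theorem F5674 : act 0 n1098 = n1098 := d2_1 D1098 (iv D1098) F4032
theorem F5675 : act 1 n1098 = n823 := d10_1 D1098 (iv D823) (iv F4033)
theorem F5676 : act 5 n1098 = n769 := d25_2 (iv F4035) D1098 (iv D769)
theorem F5677 : act 6 n1098 = n1098 := d26_2 F4036 D1098 (iv D1098)
theorem F5678 : act 8 n1098 = n1098 := d28_2 D763 D1098 (iv D1098) (iv D763) F2846
def n1099 : Q := act 9 n764
theorem D1099 : act 9 n764 = n1099 := rfl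
theorem F5679 : act 0 n1099 = n1099 := d8_1 D1099 (iv D1099) F4037
theorem F5680 : act 1 n1099 = n825 := d16_1 D1099 (iv D825) (iv F4038)
theorem F5681 : act 2 n1099 = n1099 := d23_1 D1099 (iv D1099) F4039
theorem F5682 : act 3 n1099 = n765 := d29_1 D1099 (iv D765) D764
theorem F5683 : act 4 n1099 = n1099 := d34_1 D1099 (iv D1099) F4040
theorem F5684 : act 6 n1099 = n1099 := d41_1 D1099 (iv D1099) F4041
theorem F5685 : act 7 n1099 = n767 := d43_1 D1099 (iv D767) (iv F4042)
def n1100 : Q := act 8 n765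
theorem D1100 : act 8 n765 = n1100 := rfl
theorem F5686 : act 0 n1100 = n1100 := d7_1 D1100 (iv D1100) F4044
theorem F5687 : act 1 n1100 = n826 := d15_1 D1100 (iv D826) (iv F4045)
theorem F5688 : act 4 n1100 = n774 := d33_1 D1100 (iv D774) (iv F4046)
theorem F5689 : act 6 n1100 = n1100 := d40_1 D1100 (iv D1100) F4047
theorem F5690 : act 7 n1100 = n768 := d42_1 D1100 (iv D768) (iv F4048)
theorem F5691 : act 9 n1100 = n766 := d44_2 D765 D1100 (iv D766) (iv D529) D528
def n1101 : Q := act 3 n766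
theorem D1101 : act 3 n766 = n1101 := rfl
theorem F5692 : act 0 n1101 = n1101 := d2_1 D1101 (iv D1101) F4049
theorem F5693 : act 1 n1101 = n827 := d10_1 D1101 (iv D827) (iv F4050)
theorem F5694 : act 6 n1101 = n1101 := d26_2 F4052 D1101 (iv D1101)
theorem F5695 : act 7 n1101 = n769 := d27_2 (iv F4053) D1101 (iv D769)
theorem F5696 : act 8 n1101 = n1101 := d28_2 D766 D1101 (iv D1101) (iv D766) F2857
def n1102 : Q := act 8 n767
theorem D1102 : act 8 n767 = n1102 := rfl
theorem F5697 : act 0 n1102 = n1102 := d7_1 D1102 (iv D1102) F4054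
theorem F5698 : act 1 n1102 = n829 := d15_1 D1102 (iv D829) (iv F4055)
theorem F5699 : act 2 n1102 = n1102 := d22_1 D1102 (iv D1102) F4056
theorem F5700 : act 4 n1102 = n1102 := d33_1 D1102 (iv D1102) F4058
theorem F5701 : act 6 n1102 = n770 := d40_1 D1102 (iv D770) (iv F4059)
theorem F5702 : act 9 n1102 = n1102 := d44_2 D767 D1102 (iv D1102) (iv D767) F2866
def n1103 : Q := act 3 n768
theorem D1103 : act 3 n768 = n1103 := rfl
theorem F5703 : act 0 n1103 = n1103 := d2_1 D1103 (iv D1103) F4060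
theorem F5704 : act 1 n1103 = n830 := d10_1 D1103 (iv D830) (iv F4061)
theorem F5705 : act 6 n1103 = n771 := d26_2 (iv F4063) D1103 (iv D771)
theorem F5706 : act 9 n1103 = n769 := d29_2 (iv F4064) D1103 (iv D769)
def n1104 : Q := act 2 n769
theorem D1104 : act 2 n769 = n1104 := rfl
theorem F5707 : act 0 n1104 = n1104 := d1_1 D1104 (iv D1104) F4065
theorem F5708 : act 6 n1104 = n772 := d20_2 (iv F4067) D1104 (iv D772)
theorem F5709 : act 8 n1104 = n1104 := d22_2 F4068 D1104 (iv D1104)
def n1105 : Q := act 4 n769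
theorem D1105 : act 4 n769 = n1105 := rfl
theorem F5710 : act 0 n1105 = n1105 := d3_1 D1105 (iv D1105) F4065
theorem F5711 : act 1 n1105 = n832 := d11_1 D1105 (iv D832) (iv F4066)
theorem F5712 : act 3 n1105 = n778 := d24_1 D1105 (iv D778) (iv D539) (iv F2873) D769
theorem F5713 : act 6 n1105 = n773 := d31_2 (iv F4067) D1105 (iv D773)
theorem F5714 : act 8 n1105 = n1105 := d33_2 F4068 D1105 (iv D1105)
def n1106 : Q := act 3 n770
theorem D1106 : act 3 n770 = n1106 := rfl
theorem F5715 : act 0 n1106 = n1106 := d2_1 D1106 (iv D1106) F4069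
theorem F5716 : act 1 n1106 = n834 := d10_1 D1106 (iv D834) (iv F4070)
theorem F5717 : act 5 n1106 = n1106 := d25_2 F4073 D1106 (iv D1106)
theorem F5718 : act 7 n1106 = n1106 := d27_2 F4074 D1106 (iv D1106)
theorem F5719 : act 8 n1106 = n771 := d28_2 D770 D1106 (iv D771) (iv D534) (iv F2878)
theorem F5720 : act 9 n1106 = n1106 := d29_2 F4075 D1106 (iv D1106)
def n1107 : Q := act 2 n771
theorem D1107 : act 2 n771 = n1107 := rfl
theorem F5721 : act 0 n1107 = n1107 := d1_1 D1107 (iv D1107) F4076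
theorem F5722 : act 5 n1107 = n1107 := d19_2 F4078 D1107 (iv D1107)
theorem F5723 : act 7 n1107 = n1107 := d21_2 F4079 D1107 (iv D1107)
theorem F5724 : act 9 n1107 = n772 := d23_2 (iv F4080) D1107 (iv D772)
def n1108 : Q := act 4 n771
theorem D1108 : act 4 n771 = n1108 := rfl
theorem F5725 : act 0 n1108 = n1108 := d3_1 D1108 (iv D1108) F4076
theorem F5726 : act 1 n1108 = n836 := d11_1 D1108 (iv D836) (iv F4077)
theorem F5727 : act 3 n1108 = n780 := d24_1 D1108 (iv D780) (iv D540) (iv F2884) D771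
theorem F5728 : act 7 n1108 = n1108 := d32_2 F4079 D1108 (iv D1108)
theorem F5729 : act 9 n1108 = n773 := d34_2 (iv F4080) D1108 (iv D773)
def n1109 : Q := act 1 n772
theorem D1109 : act 1 n772 = n1109 := rfl
theorem F5730 : act 2 n1109 = n837 := d9_2 D772 D1109 (iv D837) (iv D579) (iv F2889)
theorem F5731 : act 5 n1109 = n1109 := d12_2 F4082 D1109 (iv D1109)
theorem F5732 : act 7 n1109 = n1109 := d14_2 F4083 D1109 (iv D1109)
theorem F5733 : act 8 n1109 = n1109 := d15_2 F4084 D1109 (iv D1109)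
def n1110 : Q := act 4 n772
theorem D1110 : act 4 n772 = n1110 := rfl
theorem F5734 : act 0 n1110 = n1110 := d3_1 D1110 (iv D1110) F4081
theorem F5735 : act 2 n1110 = n773 := d18_1 D1110 (iv D773) D772
theorem F5736 : act 7 n1110 = n1110 := d32_2 F4083 D1110 (iv D1110)
theorem F5737 : act 8 n1110 = n1110 := d33_2 F4084 D1110 (iv D1110)
def n1111 : Q := act 5 n773
theorem D1111 : act 5 n773 = n1111 := rfl
theorem F5738 : act 0 n1111 = n1111 := d4_1 D1111 (iv D1111) F4085
theorem F5739 : act 1 n1111 = n839 := d12_1 D1111 (iv D839) (iv F4086)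
theorem F5740 : act 3 n1111 = n783 := d25_1 D1111 (iv D783) (iv F4087)
theorem F5741 : act 4 n1111 = n1111 := d30_1 D1111 (iv D1111) (iv D773) F2890 D773
theorem F5742 : act 7 n1111 = n1111 := d36_2 F4088 D1111 (iv D1111)
theorem F5743 : act 8 n1111 = n1111 := d37_2 F4089 D1111 (iv D1111)
def n1112 : Q := act 3 n774
theorem D1112 : act 3 n774 = n1112 := rfl
theorem F5744 : act 0 n1112 = n1112 := d2_1 D1112 (iv D1112) F4090
theorem F5745 : act 1 n1112 = n840 := d10_1 D1112 (iv D840) (iv F4091)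
theorem F5746 : act 5 n1112 = n1112 := d25_2 F4092 D1112 (iv D1112)
theorem F5747 : act 6 n1112 = n1112 := d26_2 F4093 D1112 (iv D1112)
theorem F5748 : act 7 n1112 = n776 := d27_2 (iv F4094) D1112 (iv D776)
theorem F5749 : act 8 n1112 = n1112 := d28_2 D774 D1112 (iv D1112) (iv D774) F2895
theorem F5750 : act 9 n1112 = n775 := d29_2 (iv F4095) D1112 (iv D775)
def n1113 : Q := act 2 n775
theorem D1113 : act 2 n775 = n1113 := rfl
theorem F5751 : act 0 n1113 = n1113 := d1_1 D1113 (iv D1113) F4096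
theorem F5752 : act 5 n1113 = n1113 := d19_2 F4098 D1113 (iv D1113)
theorem F5753 : act 6 n1113 = n1113 := d20_2 F4099 D1113 (iv D1113)
theorem F5754 : act 7 n1113 = n777 := d21_2 (iv F4100) D1113 (iv D777)
theorem F5755 : act 8 n1113 = n792 := d22_2 (iv F4101) D1113 (iv D792)
def n1114 : Q := act 4 n775
theorem D1114 : act 4 n775 = n1114 := rfl
theorem F5756 : act 0 n1114 = n1114 := d3_1 D1114 (iv D1114) F4096
theorem F5757 : act 1 n1114 = n842 := d11_1 D1114 (iv D842) (iv F4097)
theorem F5758 : act 6 n1114 = n1114 := d31_2 F4099 D1114 (iv D1114)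
theorem F5759 : act 7 n1114 = n778 := d32_2 (iv F4100) D1114 (iv D778)
theorem F5760 : act 8 n1114 = n793 := d33_2 (iv F4101) D1114 (iv D793)
def n1115 : Q := act 2 n776
theorem D1115 : act 2 n776 = n1115 := rfl
theorem F5761 : act 0 n1115 = n1115 := d1_1 D1115 (iv D1115) F4102
theorem F5762 : act 5 n1115 = n1115 := d19_2 F4104 D1115 (iv D1115)
theorem F5763 : act 6 n1115 = n779 := d20_2 (iv F4105) D1115 (iv D779)
theorem F5764 : act 8 n1115 = n1115 := d22_2 F4106 D1115 (iv D1115)
theorem F5765 : act 9 n1115 = n777 := d23_2 (iv F4107) D1115 (iv D777)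
def n1116 : Q := act 4 n776
theorem D1116 : act 4 n776 = n1116 := rfl
theorem F5766 : act 0 n1116 = n1116 := d3_1 D1116 (iv D1116) F4102
theorem F5767 : act 1 n1116 = n844 := d11_1 D1116 (iv D844) (iv F4103)
theorem F5768 : act 6 n1116 = n780 := d31_2 (iv F4105) D1116 (iv D780)
theorem F5769 : act 8 n1116 = n1116 := d33_2 F4106 D1116 (iv D1116)
theorem F5770 : act 9 n1116 = n778 := d34_2 (iv F4107) D1116 (iv D778)
def n1117 : Q := act 1 n777
theorem D1117 : act 1 n777 = n1117 := rfl
theorem F5771 : act 2 n1117 = n845 := d9_2 D777 D1117 (iv D845) (iv D584) (iv F2910)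
theorem F5772 : act 5 n1117 = n1117 := d12_2 F4109 D1117 (iv D1117)
theorem F5773 : act 6 n1117 = n781 := d13_2 (iv F4110) D1117 (iv D781)
theorem F5774 : act 8 n1117 = n794 := d15_2 (iv F4111) D1117 (iv D794)
def n1118 : Q := act 4 n777
theorem D1118 : act 4 n777 = n1118 := rfl
theorem F5775 : act 0 n1118 = n1118 := d3_1 D1118 (iv D1118) F4108
theorem F5776 : act 2 n1118 = n778 := d18_1 D1118 (iv D778) D777
theorem F5777 : act 6 n1118 = n782 := d31_2 (iv F4110) D1118 (iv D782)
theorem F5778 : act 8 n1118 = n795 := d33_2 (iv F4111) D1118 (iv D795)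
def n1119 : Q := act 5 n778
theorem D1119 : act 5 n778 = n1119 := rfl
theorem F5779 : act 0 n1119 = n1119 := d4_1 D1119 (iv D1119) F4112
theorem F5780 : act 1 n1119 = n847 := d12_1 D1119 (iv D847) (iv F4113)
theorem F5781 : act 4 n1119 = n1119 := d30_1 D1119 (iv D1119) (iv D778) F2911 D778
theorem F5782 : act 8 n1119 = n796 := d37_2 (iv F4115) D1119 (iv D796)
def n1120 : Q := act 1 n779
theorem D1120 : act 1 n779 = n1120 := rfl
theorem F5783 : act 2 n1120 = n848 := d9_2 D779 D1120 (iv D848) (iv D586) (iv F2915)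
theorem F5784 : act 5 n1120 = n784 := d12_2 (iv F4117) D1120 (iv D784)
theorem F5785 : act 7 n1120 = n1120 := d14_2 F4118 D1120 (iv D1120)
theorem F5786 : act 8 n1120 = n1120 := d15_2 F4119 D1120 (iv D1120)
theorem F5787 : act 9 n1120 = n781 := d16_2 (iv F4120) D1120 (iv D781)
def n1121 : Q := act 4 n779
theorem D1121 : act 4 n779 = n1121 := rfl
theorem F5788 : act 0 n1121 = n1121 := d3_1 D1121 (iv D1121) F4116
theorem F5789 : act 2 n1121 = n780 := d18_1 D1121 (iv D780) D779
theorem F5790 : act 7 n1121 = n1121 := d32_2 F4118 D1121 (iv D1121)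
theorem F5791 : act 8 n1121 = n1121 := d33_2 F4119 D1121 (iv D1121)
theorem F5792 : act 9 n1121 = n782 := d34_2 (iv F4120) D1121 (iv D782)
def n1122 : Q := act 5 n780
theorem D1122 : act 5 n780 = n1122 := rfl
theorem F5793 : act 0 n1122 = n1122 := d4_1 D1122 (iv D1122) F4121
theorem F5794 : act 1 n1122 = n850 := d12_1 D1122 (iv D850) (iv F4122)
theorem F5795 : act 4 n1122 = n786 := d30_1 D1122 (iv D786) (iv D544) (iv F2916) D780
theorem F5796 : act 7 n1122 = n1122 := d36_2 F4123 D1122 (iv D1122)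
theorem F5797 : act 8 n1122 = n1122 := d37_2 F4124 D1122 (iv D1122)
theorem F5798 : act 9 n1122 = n783 := d38_2 (iv F4125) D1122 (iv D783)
def n1123 : Q := act 0 n781
theorem D1123 : act 0 n781 = n1123 := rfl
theorem F5799 : act 1 n1123 = n1123 := d0_2 D781 D1123 (iv D1123) (iv D781) F2920
theorem F5800 : act 2 n1123 = n851 := d1_2 (iv F4126) D1123 (iv D851)
theorem F5801 : act 5 n1123 = n787 := d4_2 (iv F4127) D1123 (iv D787)
theorem F5802 : act 7 n1123 = n1123 := d6_2 F4128 D1123 (iv D1123)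
theorem F5803 : act 8 n1123 = n797 := d7_2 (iv F4129) D1123 (iv D797)
def n1124 : Q := act 4 n781
theorem D1124 : act 4 n781 = n1124 := rfl
theorem F5804 : act 1 n1124 = n782 := d11_1 D1124 (iv D782) D781
theorem F5805 : act 2 n1124 = n852 := d18_1 D1124 (iv D852) (iv F4126)
theorem F5806 : act 7 n1124 = n1124 := d32_2 F4128 D1124 (iv D1124)
theorem F5807 : act 8 n1124 = n798 := d33_2 (iv F4129) D1124 (iv D798)
def n1125 : Q := act 3 n782
theorem D1125 : act 3 n782 = n1125 := rfl
theorem F5808 : act 0 n1125 = n1125 := d2_1 D1125 (iv D1125) F4130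
theorem F5809 : act 7 n1125 = n1125 := d27_2 F4132 D1125 (iv D1125)
def n1126 : Q := act 5 n782
theorem D1126 : act 5 n782 = n1126 := rfl
theorem F5810 : act 0 n1126 = n1126 := d4_1 D1126 (iv D1126) F4130
theorem F5811 : act 2 n1126 = n783 := d19_1 D1126 (iv D783) (iv F4131)
theorem F5812 : act 4 n1126 = n790 := d30_1 D1126 (iv D790) (iv D546) (iv F2921) D782
theorem F5813 : act 7 n1126 = n1126 := d36_2 F4132 D1126 (iv D1126)
theorem F5814 : act 8 n1126 = n800 := d37_2 (iv F4133) D1126 (iv D800)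
def n1127 : Q := act 6 n783
theorem D1127 : act 6 n783 = n1127 := rfl
theorem F5815 : act 0 n1127 = n1127 := d5_1 D1127 (iv D1127) F4134
theorem F5816 : act 1 n1127 = n855 := d13_1 D1127 (iv D855) (iv F4135)
theorem F5817 : act 4 n1127 = n791 := d31_1 D1127 (iv D791) (iv F4136)
theorem F5818 : act 8 n1127 = n801 := d40_2 (iv F4138) D1127 (iv D801)
def n1128 : Q := act 0 n784
theorem D1128 : act 0 n784 = n1128 := rfl
theorem F5819 : act 1 n1128 = n1128 := d0_2 D784 D1128 (iv D1128) (iv D784) F2928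
theorem F5820 : act 2 n1128 = n856 := d1_2 (iv F4139) D1128 (iv D856)
theorem F5821 : act 6 n1128 = n1128 := d5_2 F4140 D1128 (iv D1128)
theorem F5822 : act 7 n1128 = n1128 := d6_2 F4141 D1128 (iv D1128)
theorem F5823 : act 8 n1128 = n1128 := d7_2 F4142 D1128 (iv D1128)
theorem F5824 : act 9 n1128 = n787 := d8_2 (iv F4143) D1128 (iv D787)
def n1129 : Q := act 4 n784
theorem D1129 : act 4 n784 = n1129 := rfl
theorem F5825 : act 1 n1129 = n785 := d11_1 D1129 (iv D785) D784
theorem F5826 : act 2 n1129 = n857 := d18_1 D1129 (iv D857) (iv F4139)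
theorem F5827 : act 6 n1129 = n1129 := d31_2 F4140 D1129 (iv D1129)
theorem F5828 : act 7 n1129 = n1129 := d32_2 F4141 D1129 (iv D1129)
theorem F5829 : act 8 n1129 = n1129 := d33_2 F4142 D1129 (iv D1129)
theorem F5830 : act 9 n1129 = n788 := d34_2 (iv F4143) D1129 (iv D788)
def n1130 : Q := act 3 n785
theorem D1130 : act 3 n785 = n1130 := rfl
theorem F5831 : act 0 n1130 = n1130 := d2_1 D1130 (iv D1130) F4144
theorem F5832 : act 2 n1130 = n1130 := d17_1 D1130 (iv D1130) F4145 F2935 (iv F4145)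
theorem F5833 : act 6 n1130 = n1130 := d26_2 F4146 D1130 (iv D1130)
theorem F5834 : act 7 n1130 = n1130 := d27_2 F4147 D1130 (iv D1130)
theorem F5835 : act 9 n1130 = n789 := d29_2 (iv F4149) D1130 (iv D789)
def n1131 : Q := act 5 n785
theorem D1131 : act 5 n785 = n1131 := rfl
theorem F5836 : act 0 n1131 = n1131 := d4_1 D1131 (iv D1131) F4144
theorem F5837 : act 2 n1131 = n786 := d19_1 D1131 (iv D786) (iv F4145)
theorem F5838 : act 7 n1131 = n1131 := d36_2 F4147 D1131 (iv D1131)
theorem F5839 : act 8 n1131 = n1131 := d37_2 F4148 D1131 (iv D1131)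
theorem F5840 : act 9 n1131 = n790 := d38_2 (iv F4149) D1131 (iv D790)
def n1132 : Q := act 6 n786
theorem D1132 : act 6 n786 = n1132 := rfl
theorem F5841 : act 0 n1132 = n1132 := d5_1 D1132 (iv D1132) F4150
theorem F5842 : act 1 n1132 = n860 := d13_1 D1132 (iv D860) (iv F4151)
theorem F5843 : act 3 n1132 = n1132 := d26_1 D1132 (iv D1132) F4152
theorem F5844 : act 5 n1132 = n1132 := d35_1 D1132 (iv D1132) (iv D786) F2936 D786
theorem F5845 : act 8 n1132 = n1132 := d40_2 F4154 D1132 (iv D1132)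
theorem F5846 : act 9 n1132 = n791 := d41_2 (iv F4155) D1132 (iv D791)
def n1133 : Q := act 4 n787
theorem D1133 : act 4 n787 = n1133 := rfl
theorem F5847 : act 0 n1133 = n788 := d3_1 D1133 (iv D788) D787
theorem F5848 : act 1 n1133 = n1133 := d11_1 D1133 (iv D1133) F4156
theorem F5849 : act 2 n1133 = n861 := d18_1 D1133 (iv D861) (iv F4157)
theorem F5850 : act 6 n1133 = n1133 := d31_2 F4158 D1133 (iv D1133)
theorem F5851 : act 7 n1133 = n1133 := d32_2 F4159 D1133 (iv D1133)
theorem F5852 : act 8 n1133 = n802 := d33_2 (iv F4160) D1133 (iv D802)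
def n1134 : Q := act 3 n788
theorem D1134 : act 3 n788 = n1134 := rfl
theorem F5853 : act 1 n1134 = n789 := d10_1 D1134 (iv D789) (iv F4161)
theorem F5854 : act 6 n1134 = n1134 := d26_2 F4163 D1134 (iv D1134)
theorem F5855 : act 7 n1134 = n1134 := d27_2 F4164 D1134 (iv D1134)
def n1135 : Q := act 5 n788
theorem D1135 : act 5 n788 = n1135 := rfl
theorem F5856 : act 1 n1135 = n790 := d12_1 D1135 (iv D790) (iv F4161)
theorem F5857 : act 2 n1135 = n863 := d19_1 D1135 (iv D863) (iv F4162)
theorem F5858 : act 7 n1135 = n1135 := d36_2 F4164 D1135 (iv D1135)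
theorem F5859 : act 8 n1135 = n804 := d37_2 (iv F4165) D1135 (iv D804)
def n1136 : Q := act 5 n789
theorem D1136 : act 5 n789 = n1136 := rfl
theorem F5860 : act 0 n1136 = n1136 := d4_1 D1136 (iv D1136) F4166
theorem F5861 : act 2 n1136 = n1136 := d19_1 D1136 (iv D1136) F4167
theorem F5862 : act 3 n1136 = n790 := d25_1 D1136 (iv D790) D789
theorem F5863 : act 7 n1136 = n1136 := d36_2 F4169 D1136 (iv D1136)
def n1137 : Q := act 8 n789
theorem D1137 : act 8 n789 = n1137 := rfl
theorem F5864 : act 0 n1137 = n1137 := d7_1 D1137 (iv D1137) F4166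
theorem F5865 : act 2 n1137 = n1137 := d22_1 D1137 (iv D1137) F4167
theorem F5866 : act 3 n1137 = n806 := d28_1 D1137 (iv D806) (iv D556) (iv F2948) D789
theorem F5867 : act 6 n1137 = n1137 := d40_1 D1137 (iv D1137) F4168
theorem F5868 : act 7 n1137 = n1137 := d42_1 D1137 (iv D1137) F4169
def n1138 : Q := act 6 n790
theorem D1138 : act 6 n790 = n1138 := rfl
theorem F5869 : act 0 n1138 = n1138 := d5_1 D1138 (iv D1138) F4170
theorem F5870 : act 2 n1138 = n791 := d20_1 D1138 (iv D791) (iv F4171)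
theorem F5871 : act 5 n1138 = n1138 := d35_1 D1138 (iv D1138) (iv D790) F2946 D790
theorem F5872 : act 8 n1138 = n807 := d40_2 (iv F4173) D1138 (iv D807)
def n1139 : Q := act 7 n791
theorem D1139 : act 7 n791 = n1139 := rfl
theorem F5873 : act 0 n1139 = n1139 := d6_1 D1139 (iv D1139) F4174
theorem F5874 : act 1 n1139 = n866 := d14_1 D1139 (iv D866) (iv F4175)
theorem F5875 : act 3 n1139 = n1139 := d27_1 D1139 (iv D1139) F4176
theorem F5876 : act 5 n1139 = n1139 := d36_1 D1139 (iv D1139) F4177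
theorem F5877 : act 6 n1139 = n1139 := d39_1 D1139 (iv D1139) (iv D791) F2952 D791
theorem F5878 : act 8 n1139 = n808 := d42_2 (iv F4178) D1139 (iv D808)
def n1140 : Q := act 1 n792
theorem D1140 : act 1 n792 = n1140 := rfl
theorem F5879 : act 2 n1140 = n867 := d9_2 D792 D1140 (iv D867) (iv D599) (iv F2955)
theorem F5880 : act 3 n1140 = n1140 := d10_2 F4180 D1140 (iv D1140)
theorem F5881 : act 5 n1140 = n1140 := d12_2 F4181 D1140 (iv D1140)
theorem F5882 : act 6 n1140 = n1140 := d13_2 F4182 D1140 (iv D1140)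
theorem F5883 : act 7 n1140 = n794 := d14_2 (iv F4183) D1140 (iv D794)
theorem F5884 : act 9 n1140 = n1140 := d16_2 F4184 D1140 (iv D1140)
def n1141 : Q := act 4 n792
theorem D1141 : act 4 n792 = n1141 := rfl
theorem F5885 : act 0 n1141 = n1141 := d3_1 D1141 (iv D1141) F4179
theorem F5886 : act 2 n1141 = n793 := d18_1 D1141 (iv D793) D792
theorem F5887 : act 6 n1141 = n1141 := d31_2 F4182 D1141 (iv D1141)
theorem F5888 : act 7 n1141 = n795 := d32_2 (iv F4183) D1141 (iv D795)
theorem F5889 : act 9 n1141 = n1141 := d34_2 F4184 D1141 (iv D1141)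
def n1142 : Q := act 5 n793
theorem D1142 : act 5 n793 = n1142 := rfl
theorem F5890 : act 0 n1142 = n1142 := d4_1 D1142 (iv D1142) F4185
theorem F5891 : act 1 n1142 = n869 := d12_1 D1142 (iv D869) (iv F4186)
theorem F5892 : act 3 n1142 = n1142 := d25_1 D1142 (iv D1142) F4187
theorem F5893 : act 4 n1142 = n1142 := d30_1 D1142 (iv D1142) (iv D793) F2956 D793
theorem F5894 : act 7 n1142 = n796 := d36_2 (iv F4189) D1142 (iv D796)
theorem F5895 : act 9 n1142 = n1142 := d38_2 F4190 D1142 (iv D1142)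
def n1143 : Q := act 0 n794
theorem D1143 : act 0 n794 = n1143 := rfl
theorem F5896 : act 1 n1143 = n1143 := d0_2 D794 D1143 (iv D1143) (iv D794) F2960
theorem F5897 : act 2 n1143 = n870 := d1_2 (iv F4191) D1143 (iv D870)
theorem F5898 : act 3 n1143 = n1143 := d2_2 F4192 D1143 (iv D1143)
theorem F5899 : act 5 n1143 = n1143 := d4_2 F4193 D1143 (iv D1143)
theorem F5900 : act 6 n1143 = n797 := d5_2 (iv F4194) D1143 (iv D797)
theorem F5901 : act 9 n1143 = n1143 := d8_2 F4195 D1143 (iv D1143)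
def n1144 : Q := act 4 n794
theorem D1144 : act 4 n794 = n1144 := rfl
theorem F5902 : act 1 n1144 = n795 := d11_1 D1144 (iv D795) D794
theorem F5903 : act 2 n1144 = n871 := d18_1 D1144 (iv D871) (iv F4191)
theorem F5904 : act 6 n1144 = n798 := d31_2 (iv F4194) D1144 (iv D798)
theorem F5905 : act 9 n1144 = n1144 := d34_2 F4195 D1144 (iv D1144)
def n1145 : Q := act 3 n795
theorem D1145 : act 3 n795 = n1145 := rfl
theorem F5906 : act 0 n1145 = n1145 := d2_1 D1145 (iv D1145) F4196
theorem F5907 : act 2 n1145 = n1145 := d17_1 D1145 (iv D1145) F4197 F2967 (iv F4197)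
theorem F5908 : act 4 n1145 = n1145 := d24_2 D795 D1145 (iv D1145) (iv D795) F2961
theorem F5909 : act 6 n1145 = n799 := d26_2 (iv F4198) D1145 (iv D799)
theorem F5910 : act 9 n1145 = n1145 := d29_2 F4199 D1145 (iv D1145)
def n1146 : Q := act 5 n795
theorem D1146 : act 5 n795 = n1146 := rfl
theorem F5911 : act 0 n1146 = n1146 := d4_1 D1146 (iv D1146) F4196
theorem F5912 : act 2 n1146 = n796 := d19_1 D1146 (iv D796) (iv F4197)
theorem F5913 : act 4 n1146 = n1146 := d30_1 D1146 (iv D1146) (iv D795) F2962 D795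
theorem F5914 : act 9 n1146 = n1146 := d38_2 F4199 D1146 (iv D1146)
def n1147 : Q := act 6 n796
theorem D1147 : act 6 n796 = n1147 := rfl
theorem F5915 : act 0 n1147 = n1147 := d5_1 D1147 (iv D1147) F4200
theorem F5916 : act 1 n1147 = n874 := d13_1 D1147 (iv D874) (iv F4201)
theorem F5917 : act 3 n1147 = n1147 := d26_1 D1147 (iv D1147) F4202
theorem F5918 : act 4 n1147 = n1147 := d31_1 D1147 (iv D1147) F4203
theorem F5919 : act 5 n1147 = n801 := d35_1 D1147 (iv D801) (iv D553) (iv F2968) D796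
theorem F5920 : act 9 n1147 = n1147 := d41_2 F4204 D1147 (iv D1147)
def n1148 : Q := act 4 n797
theorem D1148 : act 4 n797 = n1148 := rfl
theorem F5921 : act 0 n1148 = n798 := d3_1 D1148 (iv D798) D797
theorem F5922 : act 1 n1148 = n1148 := d11_1 D1148 (iv D1148) F4205
theorem F5923 : act 2 n1148 = n875 := d18_1 D1148 (iv D875) (iv F4206)
theorem F5924 : act 7 n1148 = n1148 := d32_2 F4209 D1148 (iv D1148)
theorem F5925 : act 9 n1148 = n1148 := d34_2 F4210 D1148 (iv D1148)
def n1149 : Q := act 3 n798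
theorem D1149 : act 3 n798 = n1149 := rfl
theorem F5926 : act 1 n1149 = n799 := d10_1 D1149 (iv D799) (iv F4211)
theorem F5927 : act 4 n1149 = n1149 := d24_2 D798 D1149 (iv D1149) (iv D798) F2971
theorem F5928 : act 7 n1149 = n1149 := d27_2 F4213 D1149 (iv D1149)
theorem F5929 : act 9 n1149 = n1149 := d29_2 F4214 D1149 (iv D1149)
def n1150 : Q := act 5 n798
theorem D1150 : act 5 n798 = n1150 := rfl
theorem F5930 : act 1 n1150 = n800 := d12_1 D1150 (iv D800) (iv F4211)
theorem F5931 : act 2 n1150 = n877 := d19_1 D1150 (iv D877) (iv F4212)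
theorem F5932 : act 4 n1150 = n804 := d30_1 D1150 (iv D804) (iv D555) (iv F2972) D798
theorem F5933 : act 7 n1150 = n1150 := d36_2 F4213 D1150 (iv D1150)
theorem F5934 : act 9 n1150 = n1150 := d38_2 F4214 D1150 (iv D1150)
def n1151 : Q := act 5 n799
theorem D1151 : act 5 n799 = n1151 := rfl
theorem F5935 : act 0 n1151 = n1151 := d4_1 D1151 (iv D1151) F4215
theorem F5936 : act 2 n1151 = n1151 := d19_1 D1151 (iv D1151) F4216
theorem F5937 : act 3 n1151 = n800 := d25_1 D1151 (iv D800) D799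
theorem F5938 : act 7 n1151 = n1151 := d36_2 F4218 D1151 (iv D1151)
theorem F5939 : act 9 n1151 = n1151 := d38_2 F4219 D1151 (iv D1151)
def n1152 : Q := act 8 n799
theorem D1152 : act 8 n799 = n1152 := rfl
theorem F5940 : act 0 n1152 = n1152 := d7_1 D1152 (iv D1152) F4215
theorem F5941 : act 2 n1152 = n1152 := d22_1 D1152 (iv D1152) F4216
theorem F5942 : act 4 n1152 = n1152 := d33_1 D1152 (iv D1152) F4217
theorem F5943 : act 7 n1152 = n1152 := d42_1 D1152 (iv D1152) F4218
def n1153 : Q := act 6 n800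
theorem D1153 : act 6 n800 = n1153 := rfl
theorem F5944 : act 0 n1153 = n1153 := d5_1 D1153 (iv D1153) F4220
theorem F5945 : act 2 n1153 = n801 := d20_1 D1153 (iv D801) (iv F4221)
theorem F5946 : act 4 n1153 = n807 := d31_1 D1153 (iv D807) (iv F4222)
theorem F5947 : act 9 n1153 = n1153 := d41_2 F4224 D1153 (iv D1153)
def n1154 : Q := act 7 n801
theorem D1154 : act 7 n801 = n1154 := rfl
theorem F5948 : act 0 n1154 = n1154 := d6_1 D1154 (iv D1154) F4225
theorem F5949 : act 1 n1154 = n881 := d14_1 D1154 (iv D881) (iv F4226)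
theorem F5950 : act 3 n1154 = n1154 := d27_1 D1154 (iv D1154) F4227
theorem F5951 : act 4 n1154 = n808 := d32_1 D1154 (iv D808) (iv F4228)
theorem F5952 : act 6 n1154 = n1154 := d39_1 D1154 (iv D1154) (iv D801) F2983 D801
theorem F5953 : act 9 n1154 = n1154 := d43_2 F4229 D1154 (iv D1154)
def n1155 : Q := act 3 n802
theorem D1155 : act 3 n802 = n1155 := rfl
theorem F5954 : act 0 n1155 = n803 := d2_1 D1155 (iv D803) (iv F4230)
theorem F5955 : act 1 n1155 = n1155 := d10_1 D1155 (iv D1155) F4231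
theorem F5956 : act 2 n1155 = n1155 := d17_1 D1155 (iv D1155) F4232 F3257 (iv F4232)
theorem F5957 : act 4 n1155 = n1155 := d24_2 D802 D1155 (iv D1155) (iv D802) F2987
theorem F5958 : act 6 n1155 = n1155 := d26_2 F4233 D1155 (iv D1155)
theorem F5959 : act 7 n1155 = n1155 := d27_2 F4234 D1155 (iv D1155)
theorem F5960 : act 9 n1155 = n1155 := d29_2 F4235 D1155 (iv D1155)
def n1156 : Q := act 5 n802
theorem D1156 : act 5 n802 = n1156 := rfl
theorem F5961 : act 0 n1156 = n804 := d4_1 D1156 (iv D804) (iv F4230)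
theorem F5962 : act 1 n1156 = n1156 := d12_1 D1156 (iv D1156) F4231
theorem F5963 : act 2 n1156 = n882 := d19_1 D1156 (iv D882) (iv F4232)
theorem F5964 : act 7 n1156 = n1156 := d36_2 F4234 D1156 (iv D1156)
theorem F5965 : act 9 n1156 = n1156 := d38_2 F4235 D1156 (iv D1156)
def n1157 : Q := act 5 n803
theorem D1157 : act 5 n803 = n1157 := rfl
theorem F5966 : act 1 n1157 = n805 := d12_1 D1157 (iv D805) (iv F4236)
theorem F5967 : act 2 n1157 = n1157 := d19_1 D1157 (iv D1157) F4237
theorem F5968 : act 3 n1157 = n804 := d25_1 D1157 (iv D804) D803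
theorem F5969 : act 7 n1157 = n1157 := d36_2 F4240 D1157 (iv D1157)
theorem F5970 : act 9 n1157 = n1157 := d38_2 F4241 D1157 (iv D1157)
def n1158 : Q := act 8 n803
theorem D1158 : act 8 n803 = n1158 := rfl
theorem F5971 : act 1 n1158 = n806 := d15_1 D1158 (iv D806) (iv F4236)
theorem F5972 : act 2 n1158 = n1158 := d22_1 D1158 (iv D1158) F4237
theorem F5973 : act 4 n1158 = n1158 := d33_1 D1158 (iv D1158) F4238
theorem F5974 : act 6 n1158 = n1158 := d40_1 D1158 (iv D1158) F4239
theorem F5975 : act 7 n1158 = n1158 := d42_1 D1158 (iv D1158) F4240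
def n1159 : Q := act 6 n804
theorem D1159 : act 6 n804 = n1159 := rfl
theorem F5976 : act 1 n1159 = n807 := d13_1 D1159 (iv D807) (iv F4242)
theorem F5977 : act 2 n1159 = n883 := d20_1 D1159 (iv D883) (iv F4243)
theorem F5978 : act 5 n1159 = n1159 := d35_1 D1159 (iv D1159) (iv D804) F2993 D804
theorem F5979 : act 9 n1159 = n1159 := d41_2 F4245 D1159 (iv D1159)
def n1160 : Q := act 4 n805
theorem D1160 : act 4 n805 = n1160 := rfl
theorem F5980 : act 0 n1160 = n1160 := d3_1 D1160 (iv D1160) F4246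
theorem F5981 : act 2 n1160 = n809 := d18_1 D1160 (iv D809) (iv F4247)
theorem F5982 : act 5 n1160 = n1160 := d30_2 D805 D1160 (iv D1160) (iv D805) F2998
theorem F5983 : act 7 n1160 = n1160 := d32_2 F4249 D1160 (iv D1160)
theorem F5984 : act 9 n1160 = n1160 := d34_2 F4250 D1160 (iv D1160)
def n1161 : Q := act 6 n805
theorem D1161 : act 6 n805 = n1161 := rfl
theorem F5985 : act 0 n1161 = n1161 := d5_1 D1161 (iv D1161) F4246
theorem F5986 : act 2 n1161 = n810 := d20_1 D1161 (iv D810) (iv F4247)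
theorem F5987 : act 3 n1161 = n807 := d26_1 D1161 (iv D807) (iv F4248)
theorem F5988 : act 5 n1161 = n1161 := d35_1 D1161 (iv D1161) (iv D805) F2999 D805
theorem F5989 : act 9 n1161 = n1161 := d41_2 F4250 D1161 (iv D1161)
def n1162 : Q := act 8 n805
theorem D1162 : act 8 n805 = n1162 := rfl
theorem F5990 : act 0 n1162 = n1162 := d7_1 D1162 (iv D1162) F4246
theorem F5991 : act 2 n1162 = n811 := d22_1 D1162 (iv D811) (iv F4247)
theorem F5992 : act 5 n1162 = n806 := d37_1 D1162 (iv D806) D805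
theorem F5993 : act 7 n1162 = n1162 := d42_1 D1162 (iv D1162) F4249
def n1163 : Q := act 9 n806
theorem D1163 : act 9 n806 = n1163 := rfl
theorem F5994 : act 0 n1163 = n1163 := d8_1 D1163 (iv D1163) F4251
theorem F5995 : act 2 n1163 = n812 := d23_1 D1163 (iv D812) (iv F4252)
theorem F5996 : act 4 n1163 = n1163 := d34_1 D1163 (iv D1163) F4253
theorem F5997 : act 6 n1163 = n1163 := d41_1 D1163 (iv D1163) F4254
theorem F5998 : act 7 n1163 = n1163 := d43_1 D1163 (iv D1163) F4255
theorem F5999 : act 8 n1163 = n1163 := d44_1 D1163 (iv D1163) (iv D806) F3001 D806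
def n1164 : Q := act 7 n807
theorem D1164 : act 7 n807 = n1164 := rfl
theorem F6000 : act 0 n1164 = n1164 := d6_1 D1164 (iv D1164) F4256
theorem F6001 : act 2 n1164 = n808 := d21_1 D1164 (iv D808) (iv F4257)
theorem F6002 : act 5 n1164 = n1164 := d36_1 D1164 (iv D1164) F4258
theorem F6003 : act 6 n1164 = n1164 := d39_1 D1164 (iv D1164) (iv D807) F3004 D807
theorem F6004 : act 9 n1164 = n1164 := d43_2 F4259 D1164 (iv D1164)
def n1165 : Q := act 6 n809
theorem D1165 : act 6 n809 = n1165 := rfl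
theorem F6005 : act 0 n1165 = n1165 := d5_1 D1165 (iv D1165) F4266
theorem F6006 : act 1 n1165 = n1165 := d13_1 D1165 (iv D1165) F4267
theorem F6007 : act 3 n1165 = n1165 := d26_1 D1165 (iv D1165) F4268
theorem F6008 : act 4 n1165 = n810 := d31_1 D1165 (iv D810) D809
theorem F6009 : act 9 n1165 = n1165 := d41_2 F4271 D1165 (iv D1165)
def n1166 : Q := act 8 n809
theorem D1166 : act 8 n809 = n1166 := rfl
theorem F6010 : act 0 n1166 = n1166 := d7_1 D1166 (iv D1166) F4266
theorem F6011 : act 1 n1166 = n1166 := d15_1 D1166 (iv D1166) F4267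
theorem F6012 : act 4 n1166 = n811 := d33_1 D1166 (iv D811) D809
theorem F6013 : act 5 n1166 = n1166 := d37_1 D1166 (iv D1166) F4269
theorem F6014 : act 7 n1166 = n1166 := d42_1 D1166 (iv D1166) F4270
def n1167 : Q := act 7 n810
theorem D1167 : act 7 n810 = n1167 := rfl
theorem F6015 : act 0 n1167 = n1167 := d6_1 D1167 (iv D1167) F4272
theorem F6016 : act 1 n1167 = n1167 := d14_1 D1167 (iv D1167) F4273
theorem F6017 : act 3 n1167 = n813 := d27_1 D1167 (iv D813) (iv F4274)
theorem F6018 : act 5 n1167 = n1167 := d36_1 D1167 (iv D1167) F4275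
theorem F6019 : act 6 n1167 = n1167 := d39_1 D1167 (iv D1167) (iv D810) F3014 D810
theorem F6020 : act 9 n1167 = n1167 := d43_2 F4276 D1167 (iv D1167)
def n1168 : Q := act 8 n810
theorem D1168 : act 8 n810 = n1168 := rfl
theorem F6021 : act 0 n1168 = n1168 := d7_1 D1168 (iv D1168) F4272
theorem F6022 : act 1 n1168 = n1168 := d15_1 D1168 (iv D1168) F4273
theorem F6023 : act 3 n1168 = n1168 := d28_1 D1168 (iv D1168) F4274 F3027 (iv F4274)
theorem F6024 : act 5 n1168 = n1168 := d37_1 D1168 (iv D1168) F4275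
theorem F6025 : act 6 n1168 = n811 := d40_1 D1168 (iv D811) D810
def n1169 : Q := act 9 n811
theorem D1169 : act 9 n811 = n1169 := rfl
theorem F6026 : act 0 n1169 = n1169 := d8_1 D1169 (iv D1169) F4277
theorem F6027 : act 1 n1169 = n1169 := d16_1 D1169 (iv D1169) F4278
theorem F6028 : act 3 n1169 = n1169 := d29_1 D1169 (iv D1169) F4279
theorem F6029 : act 5 n1169 = n812 := d38_1 D1169 (iv D812) (iv F4280)
theorem F6030 : act 7 n1169 = n1169 := d43_1 D1169 (iv D1169) F4281
theorem F6031 : act 8 n1169 = n1169 := d44_1 D1169 (iv D1169) (iv D811) F3015 D811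
def n1170 : Q := act 3 n814
theorem D1170 : act 3 n814 = n1170 := rfl
theorem F6032 : act 0 n1170 = n899 := d2_1 D1170 (iv D899) (iv F4297)
theorem F6033 : act 5 n1170 = n1170 := d25_2 F4300 D1170 (iv D1170)
theorem F6034 : act 6 n1170 = n816 := d26_2 (iv F4301) D1170 (iv D816)
theorem F6035 : act 7 n1170 = n1170 := d27_2 F4302 D1170 (iv D1170)
theorem F6036 : act 8 n1170 = n1170 := d28_2 D814 D1170 (iv D1170) (iv D814) F3038
def n1171 : Q := act 9 n814
theorem D1171 : act 9 n814 = n1171 := rfl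
theorem F6037 : act 0 n1171 = n900 := d8_1 D1171 (iv D900) (iv F4297)
theorem F6038 : act 2 n1171 = n1171 := d23_1 D1171 (iv D1171) F4298
theorem F6039 : act 4 n1171 = n1171 := d34_1 D1171 (iv D1171) F4299
theorem F6040 : act 5 n1171 = n1171 := d38_1 D1171 (iv D1171) F4300
theorem F6041 : act 6 n1171 = n817 := d41_1 D1171 (iv D817) (iv F4301)
theorem F6042 : act 7 n1171 = n1171 := d43_1 D1171 (iv D1171) F4302
def n1172 : Q := act 8 n815
theorem D1172 : act 8 n815 = n1172 := rfl
theorem F6043 : act 0 n1172 = n901 := d7_1 D1172 (iv D901) (iv F4303)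
theorem F6044 : act 2 n1172 = n1172 := d22_1 D1172 (iv D1172) F4304
theorem F6045 : act 4 n1172 = n1172 := d33_1 D1172 (iv D1172) F4306
theorem F6046 : act 5 n1172 = n1172 := d37_1 D1172 (iv D1172) F4307
theorem F6047 : act 6 n1172 = n818 := d40_1 D1172 (iv D818) (iv F4308)
theorem F6048 : act 7 n1172 = n1172 := d42_1 D1172 (iv D1172) F4309
def n1173 : Q := act 2 n816
theorem D1173 : act 2 n816 = n1173 := rfl
theorem F6049 : act 0 n1173 = n902 := d1_1 D1173 (iv D902) (iv F4310)
theorem F6050 : act 1 n1173 = n1173 := d9_1 D1173 (iv D1173) (iv F5640) F5641 F5640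
theorem F6051 : act 3 n1173 = n1173 := d17_2 D816 D1173 (iv D1173) (iv D816) F3043
theorem F6052 : act 5 n1173 = n824 := d19_2 (iv F4311) D1173 (iv D824)
theorem F6053 : act 7 n1173 = n819 := d21_2 (iv F4312) D1173 (iv D819)
theorem F6054 : act 8 n1173 = n1173 := d22_2 F4313 D1173 (iv D1173)
def n1174 : Q := act 4 n816
theorem D1174 : act 4 n816 = n1174 := rfl
theorem F6055 : act 0 n1174 = n903 := d3_1 D1174 (iv D903) (iv F4310)
theorem F6056 : act 3 n1174 = n1174 := d24_1 D1174 (iv D1174) (iv D816) F3044 D816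
theorem F6057 : act 5 n1174 = n1174 := d30_2 (iv F4311) D1174 (iv D1174) F4311 F3068
theorem F6058 : act 7 n1174 = n820 := d32_2 (iv F4312) D1174 (iv D820)
theorem F6059 : act 8 n1174 = n1174 := d33_2 F4313 D1174 (iv D1174)
def n1175 : Q := act 9 n816
theorem D1175 : act 9 n816 = n1175 := rfl
theorem F6060 : act 0 n1175 = n904 := d8_1 D1175 (iv D904) (iv F4310)
theorem F6061 : act 3 n1175 = n817 := d29_1 D1175 (iv D817) D816
theorem F6062 : act 5 n1175 = n825 := d38_1 D1175 (iv D825) (iv F4311)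
theorem F6063 : act 7 n1175 = n821 := d43_1 D1175 (iv D821) (iv F4312)
def n1176 : Q := act 8 n817
theorem D1176 : act 8 n817 = n1176 := rfl
theorem F6064 : act 0 n1176 = n905 := d7_1 D1176 (iv D905) (iv F4314)
theorem F6065 : act 2 n1176 = n1176 := d22_1 D1176 (iv D1176) F4315
theorem F6066 : act 4 n1176 = n1176 := d33_1 D1176 (iv D1176) F4316
theorem F6067 : act 5 n1176 = n826 := d37_1 D1176 (iv D826) (iv F4317)
theorem F6068 : act 7 n1176 = n822 := d42_1 D1176 (iv D822) (iv F4318)
theorem F6069 : act 9 n1176 = n818 := d44_2 D817 D1176 (iv D818) (iv D565) D564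
def n1177 : Q := act 3 n818
theorem D1177 : act 3 n818 = n1177 := rfl
theorem F6070 : act 0 n1177 = n906 := d2_1 D1177 (iv D906) (iv F4319)
theorem F6071 : act 5 n1177 = n827 := d25_2 (iv F4322) D1177 (iv D827)
theorem F6072 : act 7 n1177 = n823 := d27_2 (iv F4323) D1177 (iv D823)
theorem F6073 : act 8 n1177 = n1177 := d28_2 D818 D1177 (iv D1177) (iv D818) F3049
def n1178 : Q := act 4 n819
theorem D1178 : act 4 n819 = n1178 := rfl
theorem F6074 : act 0 n1178 = n908 := d3_1 D1178 (iv D908) (iv F4324)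
theorem F6075 : act 1 n1178 = n1178 := d11_1 D1178 (iv D1178) F4325
theorem F6076 : act 2 n1178 = n820 := d18_1 D1178 (iv D820) D819
theorem F6077 : act 5 n1178 = n1178 := d30_2 (iv F4327) D1178 (iv D1178) F4327 F3085
theorem F6078 : act 6 n1178 = n1178 := d31_2 F4328 D1178 (iv D1178)
theorem F6079 : act 8 n1178 = n1178 := d33_2 F4329 D1178 (iv D1178)
def n1179 : Q := act 9 n819
theorem D1179 : act 9 n819 = n1179 := rfl
theorem F6080 : act 0 n1179 = n909 := d8_1 D1179 (iv D909) (iv F4324)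
theorem F6081 : act 1 n1179 = n1179 := d16_1 D1179 (iv D1179) F4325
theorem F6082 : act 2 n1179 = n821 := d23_1 D1179 (iv D821) D819
theorem F6083 : act 3 n1179 = n1179 := d29_1 D1179 (iv D1179) F4326
theorem F6084 : act 5 n1179 = n828 := d38_1 D1179 (iv D828) (iv F4327)
theorem F6085 : act 6 n1179 = n1179 := d41_1 D1179 (iv D1179) F4328
def n1180 : Q := act 9 n820
theorem D1180 : act 9 n820 = n1180 := rfl
theorem F6086 : act 0 n1180 = n910 := d8_1 D1180 (iv D910) (iv F4330)
theorem F6087 : act 3 n1180 = n1180 := d29_1 D1180 (iv D1180) F4331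
theorem F6088 : act 4 n1180 = n821 := d34_1 D1180 (iv D821) D820
theorem F6089 : act 5 n1180 = n1180 := d38_1 D1180 (iv D1180) F4332
theorem F6090 : act 6 n1180 = n1180 := d41_1 D1180 (iv D1180) F4333
def n1181 : Q := act 8 n821
theorem D1181 : act 8 n821 = n1181 := rfl
theorem F6091 : act 0 n1181 = n911 := d7_1 D1181 (iv D911) (iv F4335)
theorem F6092 : act 5 n1181 = n829 := d37_1 D1181 (iv D829) (iv F4337)
theorem F6093 : act 6 n1181 = n1181 := d40_1 D1181 (iv D1181) F4338
theorem F6094 : act 9 n1181 = n1181 := d44_2 D821 D1181 (iv D1181) (iv D821) F3056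
def n1182 : Q := act 3 n822
theorem D1182 : act 3 n822 = n1182 := rfl
theorem F6095 : act 0 n1182 = n912 := d2_1 D1182 (iv D912) (iv F4339)
theorem F6096 : act 5 n1182 = n830 := d25_2 (iv F4342) D1182 (iv D830)
theorem F6097 : act 6 n1182 = n1182 := d26_2 F4343 D1182 (iv D1182)
theorem F6098 : act 9 n1182 = n823 := d29_2 (iv F4344) D1182 (iv D823)
def n1183 : Q := act 2 n823
theorem D1183 : act 2 n823 = n1183 := rfl
theorem F6099 : act 0 n1183 = n913 := d1_1 D1183 (iv D913) (iv F4345)
theorem F6100 : act 3 n1183 = n1183 := d17_2 D823 D1183 (iv D1183) (iv D823) F3063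
theorem F6101 : act 5 n1183 = n831 := d19_2 (iv F4346) D1183 (iv D831)
theorem F6102 : act 6 n1183 = n1183 := d20_2 F4347 D1183 (iv D1183)
theorem F6103 : act 8 n1183 = n1183 := d22_2 F4348 D1183 (iv D1183)
def n1184 : Q := act 4 n823
theorem D1184 : act 4 n823 = n1184 := rfl
theorem F6104 : act 0 n1184 = n914 := d3_1 D1184 (iv D914) (iv F4345)
theorem F6105 : act 3 n1184 = n1184 := d24_1 D1184 (iv D1184) (iv D823) F3064 D823
theorem F6106 : act 6 n1184 = n1184 := d31_2 F4347 D1184 (iv D1184)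
theorem F6107 : act 8 n1184 = n1184 := d33_2 F4348 D1184 (iv D1184)
def n1185 : Q := act 9 n824
theorem D1185 : act 9 n824 = n1185 := rfl
theorem F6108 : act 0 n1185 = n916 := d8_1 D1185 (iv D916) (iv F4349)
theorem F6109 : act 1 n1185 = n1185 := d16_1 D1185 (iv D1185) F4350
theorem F6110 : act 2 n1185 = n825 := d23_1 D1185 (iv D825) D824
theorem F6111 : act 3 n1185 = n1185 := d29_1 D1185 (iv D1185) F4351
theorem F6112 : act 4 n1185 = n1185 := d34_1 D1185 (iv D1185) F4352
theorem F6113 : act 6 n1185 = n1185 := d41_1 D1185 (iv D1185) F4353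
theorem F6114 : act 7 n1185 = n828 := d43_1 D1185 (iv D828) (iv F4354)
def n1186 : Q := act 8 n825
theorem D1186 : act 8 n825 = n1186 := rfl
theorem F6115 : act 0 n1186 = n917 := d7_1 D1186 (iv D917) (iv F4356)
theorem F6116 : act 4 n1186 = n1186 := d33_1 D1186 (iv D1186) F4358
theorem F6117 : act 6 n1186 = n1186 := d40_1 D1186 (iv D1186) F4359
theorem F6118 : act 7 n1186 = n829 := d42_1 D1186 (iv D829) (iv F4360)
theorem F6119 : act 9 n1186 = n1186 := d44_2 D825 D1186 (iv D1186) (iv D825) F3071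
def n1187 : Q := act 3 n826
theorem D1187 : act 3 n826 = n1187 := rfl
theorem F6120 : act 0 n1187 = n918 := d2_1 D1187 (iv D918) (iv F4361)
theorem F6121 : act 6 n1187 = n1187 := d26_2 F4364 D1187 (iv D1187)
theorem F6122 : act 7 n1187 = n830 := d27_2 (iv F4365) D1187 (iv D830)
theorem F6123 : act 9 n1187 = n827 := d29_2 (iv F4366) D1187 (iv D827)
def n1188 : Q := act 2 n827
theorem D1188 : act 2 n827 = n1188 := rfl
theorem F6124 : act 0 n1188 = n919 := d1_1 D1188 (iv D919) (iv F4367)
theorem F6125 : act 3 n1188 = n1188 := d17_2 D827 D1188 (iv D1188) (iv D827) F3078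
theorem F6126 : act 6 n1188 = n1188 := d20_2 F4368 D1188 (iv D1188)
theorem F6127 : act 7 n1188 = n831 := d21_2 (iv F4369) D1188 (iv D831)
theorem F6128 : act 8 n1188 = n1188 := d22_2 F4370 D1188 (iv D1188)
def n1189 : Q := act 4 n827
theorem D1189 : act 4 n827 = n1189 := rfl
theorem F6129 : act 0 n1189 = n920 := d3_1 D1189 (iv D920) (iv F4367)
theorem F6130 : act 3 n1189 = n842 := d24_1 D1189 (iv D842) (iv D582) (iv F3079) D827
theorem F6131 : act 6 n1189 = n1189 := d31_2 F4368 D1189 (iv D1189)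
theorem F6132 : act 7 n1189 = n832 := d32_2 (iv F4369) D1189 (iv D832)
theorem F6133 : act 8 n1189 = n1189 := d33_2 F4370 D1189 (iv D1189)
def n1190 : Q := act 8 n828
theorem D1190 : act 8 n828 = n1190 := rfl
theorem F6136 : act 2 n1190 = n829 := d22_1 D1190 (iv D829) (iv F4373)
theorem F6138 : act 6 n1190 = n833 := d40_1 D1190 (iv D833) (iv F4376)
def n1191 : Q := act 3 n829
theorem D1191 : act 3 n829 = n1191 := rfl
theorem F6140 : act 0 n1191 = n923 := d2_1 D1191 (iv D923) (iv F4377)
theorem F6141 : act 6 n1191 = n834 := d26_2 (iv F4379) D1191 (iv D834)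
theorem F6142 : act 8 n1191 = n830 := d28_2 D829 D1191 (iv D830) (iv D574) (iv F3089)
theorem F6143 : act 9 n1191 = n1191 := d29_2 F4380 D1191 (iv D1191)
def n1192 : Q := act 2 n830
theorem D1192 : act 2 n830 = n1192 := rfl
theorem F6144 : act 0 n1192 = n924 := d1_1 D1192 (iv D924) (iv F4381)
theorem F6145 : act 3 n1192 = n1192 := d17_2 D830 D1192 (iv D1192) (iv D830) F3093
theorem F6146 : act 6 n1192 = n835 := d20_2 (iv F4382) D1192 (iv D835)
theorem F6147 : act 9 n1192 = n831 := d23_2 (iv F4383) D1192 (iv D831)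
def n1193 : Q := act 4 n830
theorem D1193 : act 4 n830 = n1193 := rfl
theorem F6148 : act 0 n1193 = n925 := d3_1 D1193 (iv D925) (iv F4381)
theorem F6149 : act 3 n1193 = n844 := d24_1 D1193 (iv D844) (iv D583) (iv F3094) D830
theorem F6150 : act 6 n1193 = n836 := d31_2 (iv F4382) D1193 (iv D836)
theorem F6151 : act 9 n1193 = n832 := d34_2 (iv F4383) D1193 (iv D832)
def n1194 : Q := act 1 n831
theorem D1194 : act 1 n831 = n1194 := rfl
theorem F6152 : act 3 n1194 = n1194 := d10_2 F4385 D1194 (iv D1194)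
theorem F6153 : act 6 n1194 = n837 := d13_2 (iv F4386) D1194 (iv D837)
theorem F6154 : act 8 n1194 = n1194 := d15_2 F4387 D1194 (iv D1194)
def n1195 : Q := act 4 n831
theorem D1195 : act 4 n831 = n1195 := rfl
theorem F6155 : act 0 n1195 = n927 := d3_1 D1195 (iv D927) (iv F4384)
theorem F6156 : act 2 n1195 = n832 := d18_1 D1195 (iv D832) D831
theorem F6157 : act 6 n1195 = n838 := d31_2 (iv F4386) D1195 (iv D838)
theorem F6158 : act 8 n1195 = n1195 := d33_2 F4387 D1195 (iv D1195)
def n1196 : Q := act 5 n832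
theorem D1196 : act 5 n832 = n1196 := rfl
theorem F6159 : act 0 n1196 = n928 := d4_1 D1196 (iv D928) (iv F4388)
theorem F6160 : act 3 n1196 = n847 := d25_1 D1196 (iv D847) (iv F4389)
theorem F6161 : act 8 n1196 = n1196 := d37_2 F4391 D1196 (iv D1196)
def n1197 : Q := act 3 n833
theorem D1197 : act 3 n833 = n1197 := rfl
def n1198 : Q := act 2 n834
theorem D1198 : act 2 n834 = n1198 := rfl
theorem F6168 : act 0 n1198 = n931 := d1_1 D1198 (iv D931) (iv F4399)
theorem F6171 : act 8 n1198 = n835 := d22_2 (iv F4402) D1198 (iv D835)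
def n1199 : Q := act 4 n834
theorem D1199 : act 4 n834 = n1199 := rfl
theorem F6173 : act 0 n1199 = n932 := d3_1 D1199 (iv D932) (iv F4399)
theorem F6174 : act 3 n1199 = n1199 := d24_1 D1199 (iv D1199) (iv D834) F3108 D834
theorem F6175 : act 7 n1199 = n1199 := d32_2 F4401 D1199 (iv D1199)
theorem F6176 : act 8 n1199 = n836 := d33_2 (iv F4402) D1199 (iv D836)
theorem F6177 : act 9 n1199 = n1199 := d34_2 F4403 D1199 (iv D1199)
def n1200 : Q := act 1 n835
theorem D1200 : act 1 n835 = n1200 := rfl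
theorem F6178 : act 3 n1200 = n1200 := d10_2 F4405 D1200 (iv D1200)
theorem F6179 : act 5 n1200 = n1200 := d12_2 F4406 D1200 (iv D1200)
theorem F6180 : act 7 n1200 = n1200 := d14_2 F4407 D1200 (iv D1200)
theorem F6181 : act 9 n1200 = n837 := d16_2 (iv F4408) D1200 (iv D837)
def n1201 : Q := act 4 n835
theorem D1201 : act 4 n835 = n1201 := rfl
theorem F6182 : act 0 n1201 = n934 := d3_1 D1201 (iv D934) (iv F4404)
theorem F6183 : act 2 n1201 = n836 := d18_1 D1201 (iv D836) D835
theorem F6184 : act 7 n1201 = n1201 := d32_2 F4407 D1201 (iv D1201)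
theorem F6185 : act 9 n1201 = n838 := d34_2 (iv F4408) D1201 (iv D838)
def n1202 : Q := act 5 n836
theorem D1202 : act 5 n836 = n1202 := rfl
theorem F6186 : act 0 n1202 = n935 := d4_1 D1202 (iv D935) (iv F4409)
theorem F6187 : act 3 n1202 = n850 := d25_1 D1202 (iv D850) (iv F4410)
theorem F6188 : act 4 n1202 = n1202 := d30_1 D1202 (iv D1202) (iv D836) F3113 D836
theorem F6189 : act 7 n1202 = n1202 := d36_2 F4411 D1202 (iv D1202)
theorem F6190 : act 9 n1202 = n839 := d38_2 (iv F4412) D1202 (iv D839)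
def n1203 : Q := act 0 n837
theorem D1203 : act 0 n837 = n1203 := rfl
theorem F6191 : act 1 n1203 = n936 := d0_2 D837 D1203 (iv D936) (iv D648) (iv F3116)
theorem F6192 : act 3 n1203 = n1203 := d2_2 F4413 D1203 (iv D1203)
theorem F6193 : act 5 n1203 = n1203 := d4_2 F4414 D1203 (iv D1203)
theorem F6194 : act 7 n1203 = n1203 := d6_2 F4415 D1203 (iv D1203)
theorem F6195 : act 8 n1203 = n1203 := d7_2 F4416 D1203 (iv D1203)
def n1204 : Q := act 4 n837
theorem D1204 : act 4 n837 = n1204 := rfl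
theorem F6196 : act 1 n1204 = n838 := d11_1 D1204 (iv D838) D837
theorem F6197 : act 7 n1204 = n1204 := d32_2 F4415 D1204 (iv D1204)
theorem F6198 : act 8 n1204 = n1204 := d33_2 F4416 D1204 (iv D1204)
def n1205 : Q := act 3 n838
theorem D1205 : act 3 n838 = n1205 := rfl
theorem F6199 : act 0 n1205 = n938 := d2_1 D1205 (iv D938) (iv F4417)
theorem F6200 : act 2 n1205 = n853 := d17_1 D1205 (iv D853) F3164 (iv F3122) (iv F4418)
theorem F6201 : act 4 n1205 = n1205 := d24_2 D838 D1205 (iv D1205) (iv D838) F3117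
theorem F6202 : act 7 n1205 = n1205 := d27_2 F4419 D1205 (iv D1205)
def n1206 : Q := act 5 n838
theorem D1206 : act 5 n838 = n1206 := rfl
theorem F6203 : act 0 n1206 = n939 := d4_1 D1206 (iv D939) (iv F4417)
theorem F6204 : act 2 n1206 = n839 := d19_1 D1206 (iv D839) (iv F4418)
theorem F6205 : act 4 n1206 = n1206 := d30_1 D1206 (iv D1206) (iv D838) F3118 D838
theorem F6206 : act 7 n1206 = n1206 := d36_2 F4419 D1206 (iv D1206)
theorem F6207 : act 8 n1206 = n1206 := d37_2 F4420 D1206 (iv D1206)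
def n1207 : Q := act 6 n839
theorem D1207 : act 6 n839 = n1207 := rfl
theorem F6208 : act 0 n1207 = n940 := d5_1 D1207 (iv D940) (iv F4421)
theorem F6209 : act 3 n1207 = n855 := d26_1 D1207 (iv D855) (iv F4422)
theorem F6210 : act 4 n1207 = n1207 := d31_1 D1207 (iv D1207) F4423
theorem F6211 : act 8 n1207 = n1207 := d40_2 F4425 D1207 (iv D1207)
def n1208 : Q := act 2 n840
theorem D1208 : act 2 n840 = n1208 := rfl
theorem F6212 : act 0 n1208 = n941 := d1_1 D1208 (iv D941) (iv F4426)
theorem F6213 : act 3 n1208 = n1208 := d17_2 D840 D1208 (iv D1208) (iv D840) F3126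
theorem F6214 : act 5 n1208 = n1208 := d19_2 F4427 D1208 (iv D1208)
theorem F6215 : act 6 n1208 = n1208 := d20_2 F4428 D1208 (iv D1208)
theorem F6216 : act 7 n1208 = n843 := d21_2 (iv F4429) D1208 (iv D843)
theorem F6217 : act 8 n1208 = n1208 := d22_2 F4430 D1208 (iv D1208)
theorem F6218 : act 9 n1208 = n841 := d23_2 (iv F4431) D1208 (iv D841)
def n1209 : Q := act 4 n840
theorem D1209 : act 4 n840 = n1209 := rfl
theorem F6219 : act 0 n1209 = n942 := d3_1 D1209 (iv D942) (iv F4426)
theorem F6220 : act 6 n1209 = n1209 := d31_2 F4428 D1209 (iv D1209)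
theorem F6221 : act 7 n1209 = n844 := d32_2 (iv F4429) D1209 (iv D844)
theorem F6222 : act 8 n1209 = n1209 := d33_2 F4430 D1209 (iv D1209)
theorem F6223 : act 9 n1209 = n842 := d34_2 (iv F4431) D1209 (iv D842)
def n1210 : Q := act 1 n841
theorem D1210 : act 1 n841 = n1210 := rfl
theorem F6224 : act 3 n1210 = n1210 := d10_2 F4433 D1210 (iv D1210)
theorem F6225 : act 5 n1210 = n1210 := d12_2 F4434 D1210 (iv D1210)
theorem F6226 : act 6 n1210 = n1210 := d13_2 F4435 D1210 (iv D1210)
theorem F6227 : act 7 n1210 = n845 := d14_2 (iv F4436) D1210 (iv D845)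
theorem F6228 : act 8 n1210 = n867 := d15_2 (iv F4437) D1210 (iv D867)
def n1211 : Q := act 4 n841
theorem D1211 : act 4 n841 = n1211 := rfl
theorem F6229 : act 0 n1211 = n944 := d3_1 D1211 (iv D944) (iv F4432)
theorem F6230 : act 2 n1211 = n842 := d18_1 D1211 (iv D842) D841
theorem F6231 : act 6 n1211 = n1211 := d31_2 F4435 D1211 (iv D1211)
theorem F6232 : act 7 n1211 = n846 := d32_2 (iv F4436) D1211 (iv D846)
theorem F6233 : act 8 n1211 = n868 := d33_2 (iv F4437) D1211 (iv D868)
def n1212 : Q := act 5 n842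
theorem D1212 : act 5 n842 = n1212 := rfl
theorem F6234 : act 0 n1212 = n945 := d4_1 D1212 (iv D945) (iv F4438)
theorem F6235 : act 4 n1212 = n1212 := d30_1 D1212 (iv D1212) (iv D842) F3132 D842
theorem F6236 : act 7 n1212 = n847 := d36_2 (iv F4440) D1212 (iv D847)
theorem F6237 : act 8 n1212 = n869 := d37_2 (iv F4441) D1212 (iv D869)
def n1213 : Q := act 1 n843
theorem D1213 : act 1 n843 = n1213 := rfl
theorem F6238 : act 3 n1213 = n1213 := d10_2 F4443 D1213 (iv D1213)
theorem F6239 : act 5 n1213 = n1213 := d12_2 F4444 D1213 (iv D1213)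
theorem F6240 : act 6 n1213 = n848 := d13_2 (iv F4445) D1213 (iv D848)
theorem F6241 : act 8 n1213 = n1213 := d15_2 F4446 D1213 (iv D1213)
theorem F6242 : act 9 n1213 = n845 := d16_2 (iv F4447) D1213 (iv D845)
def n1214 : Q := act 4 n843
theorem D1214 : act 4 n843 = n1214 := rfl
theorem F6243 : act 0 n1214 = n947 := d3_1 D1214 (iv D947) (iv F4442)
theorem F6244 : act 2 n1214 = n844 := d18_1 D1214 (iv D844) D843
theorem F6245 : act 6 n1214 = n849 := d31_2 (iv F4445) D1214 (iv D849)
theorem F6246 : act 8 n1214 = n1214 := d33_2 F4446 D1214 (iv D1214)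
theorem F6247 : act 9 n1214 = n846 := d34_2 (iv F4447) D1214 (iv D846)
def n1215 : Q := act 5 n844
theorem D1215 : act 5 n844 = n1215 := rfl
theorem F6248 : act 0 n1215 = n948 := d4_1 D1215 (iv D948) (iv F4448)
theorem F6249 : act 4 n1215 = n1215 := d30_1 D1215 (iv D1215) (iv D844) F3137 D844
theorem F6250 : act 8 n1215 = n1215 := d37_2 F4450 D1215 (iv D1215)
theorem F6251 : act 9 n1215 = n847 := d38_2 (iv F4451) D1215 (iv D847)
def n1216 : Q := act 0 n845
theorem D1216 : act 0 n845 = n1216 := rfl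
theorem F6252 : act 1 n1216 = n949 := d0_2 D845 D1216 (iv D949) (iv D656) (iv F3141)
theorem F6253 : act 3 n1216 = n1216 := d2_2 F4452 D1216 (iv D1216)
theorem F6254 : act 5 n1216 = n1216 := d4_2 F4453 D1216 (iv D1216)
theorem F6255 : act 6 n1216 = n851 := d5_2 (iv F4454) D1216 (iv D851)
theorem F6256 : act 8 n1216 = n870 := d7_2 (iv F4455) D1216 (iv D870)
def n1217 : Q := act 4 n845
theorem D1217 : act 4 n845 = n1217 := rfl
theorem F6257 : act 1 n1217 = n846 := d11_1 D1217 (iv D846) D845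
theorem F6258 : act 6 n1217 = n852 := d31_2 (iv F4454) D1217 (iv D852)
theorem F6259 : act 8 n1217 = n871 := d33_2 (iv F4455) D1217 (iv D871)
def n1218 : Q := act 3 n846
theorem D1218 : act 3 n846 = n1218 := rfl
theorem F6260 : act 0 n1218 = n951 := d2_1 D1218 (iv D951) (iv F4456)
theorem F6261 : act 4 n1218 = n1218 := d24_2 D846 D1218 (iv D1218) (iv D846) F3142
theorem F6262 : act 6 n1218 = n853 := d26_2 (iv F4458) D1218 (iv D853)
def n1219 : Q := act 5 n846
theorem D1219 : act 5 n846 = n1219 := rfl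
theorem F6263 : act 0 n1219 = n952 := d4_1 D1219 (iv D952) (iv F4456)
theorem F6264 : act 2 n1219 = n847 := d19_1 D1219 (iv D847) (iv F4457)
theorem F6265 : act 4 n1219 = n1219 := d30_1 D1219 (iv D1219) (iv D846) F3143 D846
theorem F6266 : act 8 n1219 = n873 := d37_2 (iv F4459) D1219 (iv D873)
def n1220 : Q := act 6 n847
theorem D1220 : act 6 n847 = n1220 := rfl
theorem F6267 : act 0 n1220 = n953 := d5_1 D1220 (iv D953) (iv F4460)
theorem F6268 : act 4 n1220 = n1220 := d31_1 D1220 (iv D1220) F4461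
theorem F6269 : act 5 n1220 = n855 := d35_1 D1220 (iv D855) (iv D590) (iv F3147) D847
theorem F6270 : act 8 n1220 = n874 := d40_2 (iv F4462) D1220 (iv D874)
def n1221 : Q := act 0 n848
theorem D1221 : act 0 n848 = n1221 := rfl
theorem F6271 : act 1 n1221 = n954 := d0_2 D848 D1221 (iv D954) (iv D659) (iv F3149)
theorem F6272 : act 3 n1221 = n1221 := d2_2 F4463 D1221 (iv D1221)
theorem F6273 : act 5 n1221 = n856 := d4_2 (iv F4464) D1221 (iv D856)
theorem F6274 : act 7 n1221 = n1221 := d6_2 F4465 D1221 (iv D1221)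
theorem F6275 : act 8 n1221 = n1221 := d7_2 F4466 D1221 (iv D1221)
theorem F6276 : act 9 n1221 = n851 := d8_2 (iv F4467) D1221 (iv D851)
def n1222 : Q := act 4 n848
theorem D1222 : act 4 n848 = n1222 := rfl
theorem F6277 : act 1 n1222 = n849 := d11_1 D1222 (iv D849) D848
theorem F6278 : act 7 n1222 = n1222 := d32_2 F4465 D1222 (iv D1222)
theorem F6279 : act 8 n1222 = n1222 := d33_2 F4466 D1222 (iv D1222)
theorem F6280 : act 9 n1222 = n852 := d34_2 (iv F4467) D1222 (iv D852)
def n1223 : Q := act 3 n849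
theorem D1223 : act 3 n849 = n1223 := rfl
theorem F6281 : act 0 n1223 = n956 := d2_1 D1223 (iv D956) (iv F4468)
theorem F6282 : act 4 n1223 = n1223 := d24_2 D849 D1223 (iv D1223) (iv D849) F3150
theorem F6283 : act 7 n1223 = n1223 := d27_2 F4470 D1223 (iv D1223)
theorem F6284 : act 9 n1223 = n853 := d29_2 (iv F4472) D1223 (iv D853)
def n1224 : Q := act 5 n849
theorem D1224 : act 5 n849 = n1224 := rfl
theorem F6285 : act 0 n1224 = n957 := d4_1 D1224 (iv D957) (iv F4468)
theorem F6286 : act 2 n1224 = n850 := d19_1 D1224 (iv D850) (iv F4469)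
theorem F6287 : act 4 n1224 = n859 := d30_1 D1224 (iv D859) (iv D592) (iv F3151) D849
theorem F6288 : act 7 n1224 = n1224 := d36_2 F4470 D1224 (iv D1224)
theorem F6289 : act 8 n1224 = n1224 := d37_2 F4471 D1224 (iv D1224)
theorem F6290 : act 9 n1224 = n854 := d38_2 (iv F4472) D1224 (iv D854)
def n1225 : Q := act 6 n850
theorem D1225 : act 6 n850 = n1225 := rfl
theorem F6291 : act 0 n1225 = n958 := d5_1 D1225 (iv D958) (iv F4473)
theorem F6292 : act 4 n1225 = n860 := d31_1 D1225 (iv D860) (iv F4474)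
theorem F6293 : act 8 n1225 = n1225 := d40_2 F4476 D1225 (iv D1225)
theorem F6294 : act 9 n1225 = n855 := d41_2 (iv F4477) D1225 (iv D855)
def n1226 : Q := act 4 n851
theorem D1226 : act 4 n851 = n1226 := rfl
theorem F6295 : act 0 n1226 = n852 := d3_1 D1226 (iv D852) D851
theorem F6296 : act 1 n1226 = n959 := d11_1 D1226 (iv D959) (iv F4478)
theorem F6297 : act 7 n1226 = n1226 := d32_2 F4481 D1226 (iv D1226)
theorem F6298 : act 8 n1226 = n875 := d33_2 (iv F4482) D1226 (iv D875)
def n1227 : Q := act 3 n852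
theorem D1227 : act 3 n852 = n1227 := rfl
theorem F6299 : act 1 n1227 = n853 := d10_1 D1227 (iv D853) (iv F4483)
theorem F6300 : act 4 n1227 = n1227 := d24_2 D852 D1227 (iv D1227) (iv D852) F3159
theorem F6301 : act 7 n1227 = n1227 := d27_2 F4484 D1227 (iv D1227)
def n1228 : Q := act 5 n852
theorem D1228 : act 5 n852 = n1228 := rfl
theorem F6302 : act 1 n1228 = n854 := d12_1 D1228 (iv D854) (iv F4483)
theorem F6303 : act 4 n1228 = n863 := d30_1 D1228 (iv D863) (iv D595) (iv F3160) D852
theorem F6304 : act 7 n1228 = n1228 := d36_2 F4484 D1228 (iv D1228)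
theorem F6305 : act 8 n1228 = n877 := d37_2 (iv F4485) D1228 (iv D877)
def n1229 : Q := act 5 n853
theorem D1229 : act 5 n853 = n1229 := rfl
theorem F6306 : act 0 n1229 = n962 := d4_1 D1229 (iv D962) (iv F4486)
theorem F6307 : act 3 n1229 = n854 := d25_1 D1229 (iv D854) D853
theorem F6308 : act 7 n1229 = n1229 := d36_2 F4488 D1229 (iv D1229)
def n1230 : Q := act 8 n853
theorem D1230 : act 8 n853 = n1230 := rfl
theorem F6309 : act 0 n1230 = n963 := d7_1 D1230 (iv D963) (iv F4486)
theorem F6310 : act 3 n1230 = n879 := d28_1 D1230 (iv D879) (iv D606) (iv F3166) D853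
theorem F6311 : act 4 n1230 = n1230 := d33_1 D1230 (iv D1230) F4487
theorem F6312 : act 7 n1230 = n1230 := d42_1 D1230 (iv D1230) F4488
def n1231 : Q := act 6 n854
theorem D1231 : act 6 n854 = n1231 := rfl
theorem F6313 : act 0 n1231 = n964 := d5_1 D1231 (iv D964) (iv F4489)
theorem F6314 : act 2 n1231 = n855 := d20_1 D1231 (iv D855) (iv F4490)
theorem F6315 : act 4 n1231 = n865 := d31_1 D1231 (iv D865) (iv F4491)
theorem F6316 : act 8 n1231 = n880 := d40_2 (iv F4493) D1231 (iv D880)
def n1232 : Q := act 7 n855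
theorem D1232 : act 7 n855 = n1232 := rfl
theorem F6317 : act 0 n1232 = n965 := d6_1 D1232 (iv D965) (iv F4494)
theorem F6318 : act 4 n1232 = n866 := d32_1 D1232 (iv D866) (iv F4495)
theorem F6319 : act 6 n1232 = n1232 := d39_1 D1232 (iv D1232) (iv D855) F3169 D855
theorem F6320 : act 8 n1232 = n881 := d42_2 (iv F4496) D1232 (iv D881)
def n1233 : Q := act 4 n856
theorem D1233 : act 4 n856 = n1233 := rfl
theorem F6321 : act 0 n1233 = n857 := d3_1 D1233 (iv D857) D856
theorem F6322 : act 1 n1233 = n966 := d11_1 D1233 (iv D966) (iv F4497)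
theorem F6323 : act 6 n1233 = n1233 := d31_2 F4499 D1233 (iv D1233)
theorem F6324 : act 7 n1233 = n1233 := d32_2 F4500 D1233 (iv D1233)
theorem F6325 : act 8 n1233 = n1233 := d33_2 F4501 D1233 (iv D1233)
theorem F6326 : act 9 n1233 = n861 := d34_2 (iv F4502) D1233 (iv D861)
def n1234 : Q := act 3 n857
theorem D1234 : act 3 n857 = n1234 := rfl
theorem F6327 : act 1 n1234 = n858 := d10_1 D1234 (iv D858) (iv F4503)
theorem F6328 : act 4 n1234 = n1234 := d24_2 D857 D1234 (iv D1234) (iv D857) F3171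
theorem F6329 : act 6 n1234 = n1234 := d26_2 F4504 D1234 (iv D1234)
theorem F6330 : act 7 n1234 = n1234 := d27_2 F4505 D1234 (iv D1234)
theorem F6331 : act 9 n1234 = n862 := d29_2 (iv F4507) D1234 (iv D862)
def n1235 : Q := act 5 n857
theorem D1235 : act 5 n857 = n1235 := rfl
theorem F6332 : act 1 n1235 = n859 := d12_1 D1235 (iv D859) (iv F4503)
theorem F6333 : act 7 n1235 = n1235 := d36_2 F4505 D1235 (iv D1235)
theorem F6334 : act 8 n1235 = n1235 := d37_2 F4506 D1235 (iv D1235)
theorem F6335 : act 9 n1235 = n863 := d38_2 (iv F4507) D1235 (iv D863)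
def n1236 : Q := act 5 n858
theorem D1236 : act 5 n858 = n1236 := rfl
theorem F6336 : act 0 n1236 = n969 := d4_1 D1236 (iv D969) (iv F4508)
theorem F6337 : act 2 n1236 = n1236 := d19_1 D1236 (iv D1236) F4509
theorem F6338 : act 3 n1236 = n859 := d25_1 D1236 (iv D859) D858
theorem F6339 : act 7 n1236 = n1236 := d36_2 F4512 D1236 (iv D1236)
theorem F6340 : act 9 n1236 = n864 := d38_2 (iv F4513) D1236 (iv D864)
def n1237 : Q := act 8 n858
theorem D1237 : act 8 n858 = n1237 := rfl
theorem F6341 : act 0 n1237 = n970 := d7_1 D1237 (iv D970) (iv F4508)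
theorem F6342 : act 2 n1237 = n1237 := d22_1 D1237 (iv D1237) F4509
theorem F6343 : act 3 n1237 = n1237 := d28_1 D1237 (iv D1237) (iv D858) F3180 D858
theorem F6344 : act 4 n1237 = n1237 := d33_1 D1237 (iv D1237) F4510
theorem F6345 : act 6 n1237 = n1237 := d40_1 D1237 (iv D1237) F4511
theorem F6346 : act 7 n1237 = n1237 := d42_1 D1237 (iv D1237) F4512
theorem F6347 : act 9 n1237 = n1237 := d44_2 (iv F4513) D1237 (iv D1237) F4513 F3201
def n1238 : Q := act 6 n859
theorem D1238 : act 6 n859 = n1238 := rfl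
theorem F6348 : act 0 n1238 = n971 := d5_1 D1238 (iv D971) (iv F4514)
theorem F6349 : act 2 n1238 = n860 := d20_1 D1238 (iv D860) (iv F4515)
theorem F6350 : act 5 n1238 = n1238 := d35_1 D1238 (iv D1238) (iv D859) F3178 D859
theorem F6351 : act 8 n1238 = n1238 := d40_2 F4517 D1238 (iv D1238)
theorem F6352 : act 9 n1238 = n865 := d41_2 (iv F4518) D1238 (iv D865)
def n1239 : Q := act 7 n860
theorem D1239 : act 7 n860 = n1239 := rfl
theorem F6353 : act 0 n1239 = n972 := d6_1 D1239 (iv D972) (iv F4519)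
theorem F6354 : act 3 n1239 = n1239 := d27_1 D1239 (iv D1239) F4520
theorem F6355 : act 5 n1239 = n1239 := d36_1 D1239 (iv D1239) F4521
theorem F6356 : act 6 n1239 = n1239 := d39_1 D1239 (iv D1239) (iv D860) F3184 D860
theorem F6357 : act 8 n1239 = n1239 := d42_2 F4522 D1239 (iv D1239)
theorem F6358 : act 9 n1239 = n866 := d43_2 (iv F4523) D1239 (iv D866)
def n1240 : Q := act 3 n861
theorem D1240 : act 3 n861 = n1240 := rfl
theorem F6359 : act 0 n1240 = n862 := d2_1 D1240 (iv D862) (iv F4524)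
theorem F6360 : act 1 n1240 = n973 := d10_1 D1240 (iv D973) (iv F4525)
theorem F6361 : act 4 n1240 = n1240 := d24_2 D861 D1240 (iv D1240) (iv D861) F3188
theorem F6362 : act 6 n1240 = n1240 := d26_2 F4526 D1240 (iv D1240)
theorem F6363 : act 7 n1240 = n1240 := d27_2 F4527 D1240 (iv D1240)
theorem F6364 : act 8 n1240 = n1240 := d28_2 (iv F4528) D1240 (iv D1240) F4528 F3257
def n1241 : Q := act 5 n861
theorem D1241 : act 5 n861 = n1241 := rfl
theorem F6365 : act 0 n1241 = n863 := d4_1 D1241 (iv D863) (iv F4524)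
theorem F6366 : act 1 n1241 = n974 := d12_1 D1241 (iv D974) (iv F4525)
theorem F6367 : act 7 n1241 = n1241 := d36_2 F4527 D1241 (iv D1241)
theorem F6368 : act 8 n1241 = n882 := d37_2 (iv F4528) D1241 (iv D882)
def n1242 : Q := act 2 n862
theorem D1242 : act 2 n862 = n1242 := rfl
theorem F6369 : act 1 n1242 = n1242 := d9_1 D1242 (iv D1242) F4529 F3197 (iv F4529)
theorem F6370 : act 4 n1242 = n1242 := d18_2 F4530 D1242 (iv D1242)
theorem F6371 : act 6 n1242 = n1242 := d20_2 F4531 D1242 (iv D1242)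
theorem F6372 : act 7 n1242 = n1242 := d21_2 F4532 D1242 (iv D1242)
theorem F6373 : act 8 n1242 = n1242 := d22_2 F4533 D1242 (iv D1242)
def n1243 : Q := act 5 n862
theorem D1243 : act 5 n862 = n1243 := rfl
theorem F6374 : act 1 n1243 = n864 := d12_1 D1243 (iv D864) (iv F4529)
theorem F6375 : act 3 n1243 = n863 := d25_1 D1243 (iv D863) D862
theorem F6376 : act 7 n1243 = n1243 := d36_2 F4532 D1243 (iv D1243)
theorem F6377 : act 8 n1243 = n1243 := d37_2 F4533 D1243 (iv D1243)
def n1244 : Q := act 6 n863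
theorem D1244 : act 6 n863 = n1244 := rfl
theorem F6378 : act 1 n1244 = n865 := d13_1 D1244 (iv D865) (iv F4534)
theorem F6379 : act 5 n1244 = n1244 := d35_1 D1244 (iv D1244) (iv D863) F3193 D863
theorem F6380 : act 8 n1244 = n883 := d40_2 (iv F4536) D1244 (iv D883)
def n1245 : Q := act 4 n864
theorem D1245 : act 4 n864 = n1245 := rfl
theorem F6381 : act 0 n1245 = n978 := d3_1 D1245 (iv D978) (iv F4537)
theorem F6382 : act 2 n1245 = n1245 := d18_1 D1245 (iv D1245) F4538
theorem F6383 : act 5 n1245 = n1245 := d30_2 D864 D1245 (iv D1245) (iv D864) F3198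
theorem F6384 : act 7 n1245 = n1245 := d32_2 F4540 D1245 (iv D1245)
theorem F6385 : act 8 n1245 = n1245 := d33_2 F4541 D1245 (iv D1245)
def n1246 : Q := act 6 n864
theorem D1246 : act 6 n864 = n1246 := rfl
theorem F6386 : act 0 n1246 = n979 := d5_1 D1246 (iv D979) (iv F4537)
theorem F6387 : act 2 n1246 = n1246 := d20_1 D1246 (iv D1246) F4538
theorem F6388 : act 3 n1246 = n865 := d26_1 D1246 (iv D865) (iv F4539)
theorem F6389 : act 5 n1246 = n1246 := d35_1 D1246 (iv D1246) (iv D864) F3199 D864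
theorem F6390 : act 8 n1246 = n1246 := d40_2 F4541 D1246 (iv D1246)
def n1247 : Q := act 7 n865
theorem D1247 : act 7 n865 = n1247 := rfl
theorem F6391 : act 0 n1247 = n980 := d6_1 D1247 (iv D980) (iv F4542)
theorem F6392 : act 2 n1247 = n866 := d21_1 D1247 (iv D866) (iv F4543)
theorem F6393 : act 5 n1247 = n1247 := d36_1 D1247 (iv D1247) F4544
theorem F6394 : act 6 n1247 = n1247 := d39_1 D1247 (iv D1247) (iv D865) F3204 D865
theorem F6395 : act 8 n1247 = n884 := d42_2 (iv F4545) D1247 (iv D884)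
def n1248 : Q := act 0 n867
theorem D1248 : act 0 n867 = n1248 := rfl
theorem F6396 : act 1 n1248 = n981 := d0_2 D867 D1248 (iv D981) (iv D678) (iv F3210)
theorem F6397 : act 3 n1248 = n885 := d2_2 (iv F4551) D1248 (iv D885)
theorem F6398 : act 5 n1248 = n1248 := d4_2 F4552 D1248 (iv D1248)
theorem F6399 : act 6 n1248 = n1248 := d5_2 F4553 D1248 (iv D1248)
theorem F6400 : act 7 n1248 = n870 := d6_2 (iv F4554) D1248 (iv D870)
theorem F6401 : act 9 n1248 = n1248 := d8_2 F4555 D1248 (iv D1248)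
def n1249 : Q := act 4 n867
theorem D1249 : act 4 n867 = n1249 := rfl
theorem F6402 : act 1 n1249 = n868 := d11_1 D1249 (iv D868) D867
theorem F6403 : act 6 n1249 = n1249 := d31_2 F4553 D1249 (iv D1249)
theorem F6404 : act 7 n1249 = n871 := d32_2 (iv F4554) D1249 (iv D871)
theorem F6405 : act 9 n1249 = n1249 := d34_2 F4555 D1249 (iv D1249)
def n1250 : Q := act 3 n868
theorem D1250 : act 3 n868 = n1250 := rfl
theorem F6406 : act 0 n1250 = n983 := d2_1 D1250 (iv D983) (iv F4556)
theorem F6407 : act 2 n1250 = n1250 := d17_1 D1250 (iv D1250) F4557 F3217 (iv F4557)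
theorem F6408 : act 4 n1250 = n887 := d24_2 D868 D1250 (iv D887) (iv D614) (iv F3211)
theorem F6409 : act 6 n1250 = n1250 := d26_2 F4558 D1250 (iv D1250)
theorem F6410 : act 7 n1250 = n872 := d27_2 (iv F4559) D1250 (iv D872)
theorem F6411 : act 9 n1250 = n1250 := d29_2 F4560 D1250 (iv D1250)
def n1251 : Q := act 5 n868
theorem D1251 : act 5 n868 = n1251 := rfl
theorem F6412 : act 0 n1251 = n984 := d4_1 D1251 (iv D984) (iv F4556)
theorem F6413 : act 2 n1251 = n869 := d19_1 D1251 (iv D869) (iv F4557)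
theorem F6414 : act 4 n1251 = n1251 := d30_1 D1251 (iv D1251) (iv D868) F3212 D868
theorem F6415 : act 7 n1251 = n873 := d36_2 (iv F4559) D1251 (iv D873)
theorem F6416 : act 9 n1251 = n1251 := d38_2 F4560 D1251 (iv D1251)
def n1252 : Q := act 6 n869
theorem D1252 : act 6 n869 = n1252 := rfl
theorem F6417 : act 0 n1252 = n985 := d5_1 D1252 (iv D985) (iv F4561)
theorem F6418 : act 3 n1252 = n1252 := d26_1 D1252 (iv D1252) F4562
theorem F6419 : act 4 n1252 = n1252 := d31_1 D1252 (iv D1252) F4563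
theorem F6420 : act 5 n1252 = n1252 := d35_1 D1252 (iv D1252) (iv D869) F3218 D869
theorem F6421 : act 9 n1252 = n1252 := d41_2 F4565 D1252 (iv D1252)
def n1253 : Q := act 4 n870
theorem D1253 : act 4 n870 = n1253 := rfl
theorem F6422 : act 0 n1253 = n871 := d3_1 D1253 (iv D871) D870
theorem F6423 : act 1 n1253 = n986 := d11_1 D1253 (iv D986) (iv F4566)
theorem F6424 : act 6 n1253 = n875 := d31_2 (iv F4569) D1253 (iv D875)
theorem F6425 : act 9 n1253 = n1253 := d34_2 F4570 D1253 (iv D1253)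
def n1254 : Q := act 3 n871
theorem D1254 : act 3 n871 = n1254 := rfl
theorem F6426 : act 1 n1254 = n872 := d10_1 D1254 (iv D872) (iv F4571)
theorem F6427 : act 4 n1254 = n891 := d24_2 D871 D1254 (iv D891) (iv D617) (iv F3221)
theorem F6428 : act 6 n1254 = n876 := d26_2 (iv F4572) D1254 (iv D876)
theorem F6429 : act 9 n1254 = n1254 := d29_2 F4573 D1254 (iv D1254)
def n1255 : Q := act 5 n871
theorem D1255 : act 5 n871 = n1255 := rfl
theorem F6430 : act 1 n1255 = n873 := d12_1 D1255 (iv D873) (iv F4571)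
theorem F6431 : act 4 n1255 = n1255 := d30_1 D1255 (iv D1255) (iv D871) F3222 D871
theorem F6432 : act 9 n1255 = n1255 := d38_2 F4573 D1255 (iv D1255)
def n1256 : Q := act 5 n872
theorem D1256 : act 5 n872 = n1256 := rfl
theorem F6433 : act 0 n1256 = n989 := d4_1 D1256 (iv D989) (iv F4574)
theorem F6434 : act 2 n1256 = n1256 := d19_1 D1256 (iv D1256) F4575
theorem F6435 : act 3 n1256 = n873 := d25_1 D1256 (iv D873) D872
theorem F6436 : act 9 n1256 = n1256 := d38_2 F4578 D1256 (iv D1256)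
def n1257 : Q := act 8 n872
theorem D1257 : act 8 n872 = n1257 := rfl
theorem F6437 : act 0 n1257 = n990 := d7_1 D1257 (iv D990) (iv F4574)
theorem F6438 : act 2 n1257 = n1257 := d22_1 D1257 (iv D1257) F4575
theorem F6439 : act 4 n1257 = n894 := d33_1 D1257 (iv D894) (iv F4576)
theorem F6440 : act 6 n1257 = n879 := d40_1 D1257 (iv D879) (iv F4577)
def n1258 : Q := act 6 n873
theorem D1258 : act 6 n873 = n1258 := rfl
theorem F6441 : act 0 n1258 = n991 := d5_1 D1258 (iv D991) (iv F4579)
theorem F6442 : act 2 n1258 = n874 := d20_1 D1258 (iv D874) (iv F4580)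
theorem F6443 : act 4 n1258 = n1258 := d31_1 D1258 (iv D1258) F4581
theorem F6444 : act 5 n1258 = n880 := d35_1 D1258 (iv D880) (iv D607) (iv F3227) D873
theorem F6445 : act 9 n1258 = n1258 := d41_2 F4582 D1258 (iv D1258)
def n1259 : Q := act 7 n874
theorem D1259 : act 7 n874 = n1259 := rfl
theorem F6446 : act 0 n1259 = n992 := d6_1 D1259 (iv D992) (iv F4583)
theorem F6447 : act 3 n1259 = n1259 := d27_1 D1259 (iv D1259) F4584
theorem F6448 : act 4 n1259 = n1259 := d32_1 D1259 (iv D1259) F4585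
theorem F6449 : act 5 n1259 = n881 := d36_1 D1259 (iv D881) (iv F4586)
theorem F6450 : act 9 n1259 = n1259 := d43_2 F4587 D1259 (iv D1259)
def n1260 : Q := act 3 n875
theorem D1260 : act 3 n875 = n1260 := rfl
theorem F6451 : act 0 n1260 = n876 := d2_1 D1260 (iv D876) (iv F4588)
theorem F6452 : act 1 n1260 = n993 := d10_1 D1260 (iv D993) (iv F4589)
theorem F6453 : act 4 n1260 = n895 := d24_2 D875 D1260 (iv D895) (iv D620) (iv F3234)
theorem F6454 : act 7 n1260 = n1260 := d27_2 F4590 D1260 (iv D1260)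
theorem F6455 : act 9 n1260 = n1260 := d29_2 F4591 D1260 (iv D1260)
def n1261 : Q := act 5 n875
theorem D1261 : act 5 n875 = n1261 := rfl
theorem F6456 : act 0 n1261 = n877 := d4_1 D1261 (iv D877) (iv F4588)
theorem F6457 : act 1 n1261 = n994 := d12_1 D1261 (iv D994) (iv F4589)
theorem F6458 : act 4 n1261 = n882 := d30_1 D1261 (iv D882) (iv D609) (iv F3235) D875
theorem F6459 : act 7 n1261 = n1261 := d36_2 F4590 D1261 (iv D1261)
theorem F6460 : act 9 n1261 = n1261 := d38_2 F4591 D1261 (iv D1261)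
def n1262 : Q := act 2 n876
theorem D1262 : act 2 n876 = n1262 := rfl
theorem F6461 : act 1 n1262 = n1262 := d9_1 D1262 (iv D1262) F4592 F3242 (iv F4592)
theorem F6462 : act 4 n1262 = n896 := d18_2 (iv F4593) D1262 (iv D896)
theorem F6463 : act 7 n1262 = n1262 := d21_2 F4594 D1262 (iv D1262)
theorem F6464 : act 9 n1262 = n1262 := d23_2 F4595 D1262 (iv D1262)
def n1263 : Q := act 5 n876
theorem D1263 : act 5 n876 = n1263 := rfl
theorem F6465 : act 1 n1263 = n878 := d12_1 D1263 (iv D878) (iv F4592)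
theorem F6466 : act 3 n1263 = n877 := d25_1 D1263 (iv D877) D876
theorem F6467 : act 4 n1263 = n1263 := d30_1 D1263 (iv D1263) F4593 F3323 (iv F4593)
theorem F6468 : act 7 n1263 = n1263 := d36_2 F4594 D1263 (iv D1263)
theorem F6469 : act 9 n1263 = n1263 := d38_2 F4595 D1263 (iv D1263)
def n1264 : Q := act 8 n876
theorem D1264 : act 8 n876 = n1264 := rfl
theorem F6470 : act 1 n1264 = n879 := d15_1 D1264 (iv D879) (iv F4592)
theorem F6471 : act 4 n1264 = n897 := d33_1 D1264 (iv D897) (iv F4593)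
theorem F6472 : act 7 n1264 = n1264 := d42_1 D1264 (iv D1264) F4594
def n1265 : Q := act 6 n877
theorem D1265 : act 6 n877 = n1265 := rfl
theorem F6473 : act 1 n1265 = n880 := d13_1 D1265 (iv D880) (iv F4596)
theorem F6474 : act 4 n1265 = n883 := d31_1 D1265 (iv D883) (iv F4597)
theorem F6475 : act 9 n1265 = n1265 := d41_2 F4599 D1265 (iv D1265)
def n1266 : Q := act 6 n878
theorem D1266 : act 6 n878 = n1266 := rfl
theorem F6476 : act 0 n1266 = n999 := d5_1 D1266 (iv D999) (iv F4600)
theorem F6477 : act 2 n1266 = n1266 := d20_1 D1266 (iv D1266) F4601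
theorem F6478 : act 3 n1266 = n880 := d26_1 D1266 (iv D880) (iv F4602)
theorem F6479 : act 4 n1266 = n1266 := d31_1 D1266 (iv D1266) F4603
theorem F6480 : act 9 n1266 = n1266 := d41_2 F4605 D1266 (iv D1266)
def n1267 : Q := act 8 n878
theorem D1267 : act 8 n878 = n1267 := rfl
theorem F6481 : act 0 n1267 = n1000 := d7_1 D1267 (iv D1000) (iv F4600)
theorem F6482 : act 2 n1267 = n1267 := d22_1 D1267 (iv D1267) F4601
theorem F6483 : act 4 n1267 = n1267 := d33_1 D1267 (iv D1267) F4603
theorem F6484 : act 5 n1267 = n879 := d37_1 D1267 (iv D879) D878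
theorem F6485 : act 7 n1267 = n1267 := d42_1 D1267 (iv D1267) F4604
def n1268 : Q := act 9 n879
theorem D1268 : act 9 n879 = n1268 := rfl
theorem F6486 : act 0 n1268 = n1001 := d8_1 D1268 (iv D1001) (iv F4606)
theorem F6487 : act 2 n1268 = n1268 := d23_1 D1268 (iv D1268) F4607
theorem F6488 : act 4 n1268 = n898 := d34_1 D1268 (iv D898) (iv F4608)
theorem F6489 : act 7 n1268 = n1268 := d43_1 D1268 (iv D1268) F4609
theorem F6490 : act 8 n1268 = n1268 := d44_1 D1268 (iv D1268) (iv D879) F3245 D879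
def n1269 : Q := act 7 n880
theorem D1269 : act 7 n880 = n1269 := rfl
theorem F6491 : act 0 n1269 = n1002 := d6_1 D1269 (iv D1002) (iv F4610)
theorem F6492 : act 2 n1269 = n881 := d21_1 D1269 (iv D881) (iv F4611)
theorem F6493 : act 4 n1269 = n884 := d32_1 D1269 (iv D884) (iv F4612)
theorem F6494 : act 6 n1269 = n1269 := d39_1 D1269 (iv D1269) (iv D880) F3249 D880
theorem F6495 : act 9 n1269 = n1269 := d43_2 F4613 D1269 (iv D1269)
def n1270 : Q := act 6 n882
theorem D1270 : act 6 n882 = n1270 := rfl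
theorem F6496 : act 0 n1270 = n883 := d5_1 D1270 (iv D883) (iv F4619)
theorem F6497 : act 1 n1270 = n1003 := d13_1 D1270 (iv D1003) (iv F4620)
theorem F6498 : act 3 n1270 = n1270 := d26_1 D1270 (iv D1270) F4621
theorem F6499 : act 5 n1270 = n1270 := d35_1 D1270 (iv D1270) (iv D882) F3258 D882
theorem F6500 : act 9 n1270 = n1270 := d41_2 F4623 D1270 (iv D1270)
def n1271 : Q := act 7 n883
theorem D1271 : act 7 n883 = n1271 := rfl
theorem F6501 : act 1 n1271 = n884 := d14_1 D1271 (iv D884) (iv F4624)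
theorem F6502 : act 3 n1271 = n1271 := d27_1 D1271 (iv D1271) F4625
theorem F6503 : act 5 n1271 = n1271 := d36_1 D1271 (iv D1271) F4626
theorem F6504 : act 6 n1271 = n1271 := d39_1 D1271 (iv D1271) (iv D883) F3263 D883
theorem F6505 : act 9 n1271 = n1271 := d43_2 F4627 D1271 (iv D1271)
def n1272 : Q := act 4 n885
theorem D1272 : act 4 n885 = n1272 := rfl
theorem F6506 : act 0 n1272 = n886 := d3_1 D1272 (iv D886) D885
theorem F6507 : act 1 n1272 = n1005 := d11_1 D1272 (iv D1005) (iv F4634)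
theorem F6508 : act 2 n1272 = n1272 := d18_1 D1272 (iv D1272) F4635
theorem F6509 : act 6 n1272 = n1272 := d31_2 F4637 D1272 (iv D1272)
theorem F6510 : act 7 n1272 = n890 := d32_2 (iv F4638) D1272 (iv D890)
theorem F6511 : act 8 n1272 = n1272 := d33_2 F4639 D1272 (iv D1272)
theorem F6512 : act 9 n1272 = n1272 := d34_2 F4640 D1272 (iv D1272)
def n1273 : Q := act 3 n886
theorem D1273 : act 3 n886 = n1273 := rfl
theorem F6513 : act 1 n1273 = n887 := d10_1 D1273 (iv D887) (iv F4641)
theorem F6514 : act 6 n1273 = n1273 := d26_2 F4643 D1273 (iv D1273)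
theorem F6515 : act 7 n1273 = n891 := d27_2 (iv F4644) D1273 (iv D891)
theorem F6516 : act 9 n1273 = n1273 := d29_2 F4646 D1273 (iv D1273)
def n1274 : Q := act 5 n886
theorem D1274 : act 5 n886 = n1274 := rfl
theorem F6517 : act 1 n1274 = n888 := d12_1 D1274 (iv D888) (iv F4641)
theorem F6518 : act 2 n1274 = n1274 := d19_1 D1274 (iv D1274) F4642
theorem F6519 : act 4 n1274 = n1274 := d30_1 D1274 (iv D1274) (iv D886) F3276 D886
theorem F6520 : act 7 n1274 = n892 := d36_2 (iv F4644) D1274 (iv D892)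
theorem F6521 : act 8 n1274 = n1274 := d37_2 F4645 D1274 (iv D1274)
theorem F6522 : act 9 n1274 = n1274 := d38_2 F4646 D1274 (iv D1274)
def n1275 : Q := act 5 n887
theorem D1275 : act 5 n887 = n1275 := rfl
theorem F6523 : act 0 n1275 = n1008 := d4_1 D1275 (iv D1008) (iv F4647)
theorem F6524 : act 2 n1275 = n1275 := d19_1 D1275 (iv D1275) F4648
theorem F6525 : act 3 n1275 = n888 := d25_1 D1275 (iv D888) D887
theorem F6526 : act 7 n1275 = n893 := d36_2 (iv F4650) D1275 (iv D893)
theorem F6527 : act 9 n1275 = n1275 := d38_2 F4651 D1275 (iv D1275)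
def n1276 : Q := act 8 n887
theorem D1276 : act 8 n887 = n1276 := rfl
theorem F6528 : act 0 n1276 = n1009 := d7_1 D1276 (iv D1009) (iv F4647)
theorem F6529 : act 2 n1276 = n1276 := d22_1 D1276 (iv D1276) F4648
theorem F6530 : act 3 n1276 = n1276 := d28_1 D1276 (iv D1276) (iv D887) F3285 D887
theorem F6531 : act 6 n1276 = n1276 := d40_1 D1276 (iv D1276) F4649
theorem F6532 : act 7 n1276 = n894 := d42_1 D1276 (iv D894) (iv F4650)
def n1277 : Q := act 6 n888
theorem D1277 : act 6 n888 = n1277 := rfl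
theorem F6533 : act 0 n1277 = n1010 := d5_1 D1277 (iv D1010) (iv F4652)
theorem F6534 : act 2 n1277 = n889 := d20_1 D1277 (iv D889) (iv F4653)
theorem F6535 : act 4 n1277 = n1277 := d31_1 D1277 (iv D1277) F4654
theorem F6536 : act 5 n1277 = n1277 := d35_1 D1277 (iv D1277) (iv D888) F3283 D888
theorem F6537 : act 7 n1277 = n1277 := d39_2 (iv F4655) D1277 (iv D1277) F4655 F3312
theorem F6538 : act 8 n1277 = n1277 := d40_2 F4656 D1277 (iv D1277)
theorem F6539 : act 9 n1277 = n1277 := d41_2 F4657 D1277 (iv D1277)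
def n1278 : Q := act 3 n890
theorem D1278 : act 3 n890 = n1278 := rfl
theorem F6540 : act 0 n1278 = n891 := d2_1 D1278 (iv D891) (iv F4666)
theorem F6541 : act 1 n1278 = n1011 := d10_1 D1278 (iv D1011) (iv F4667)
theorem F6542 : act 6 n1278 = n895 := d26_2 (iv F4669) D1278 (iv D895)
theorem F6543 : act 9 n1278 = n1278 := d29_2 F4671 D1278 (iv D1278)
def n1279 : Q := act 5 n890
theorem D1279 : act 5 n890 = n1279 := rfl
theorem F6544 : act 0 n1279 = n892 := d4_1 D1279 (iv D892) (iv F4666)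
theorem F6545 : act 1 n1279 = n1012 := d12_1 D1279 (iv D1012) (iv F4667)
theorem F6546 : act 2 n1279 = n1279 := d19_1 D1279 (iv D1279) F4668
theorem F6547 : act 4 n1279 = n1279 := d30_1 D1279 (iv D1279) (iv D890) F3296 D890
theorem F6548 : act 6 n1279 = n1279 := d35_2 (iv F4669) D1279 (iv D1279) F4669 F3318
theorem F6549 : act 8 n1279 = n1279 := d37_2 F4670 D1279 (iv D1279)
theorem F6550 : act 9 n1279 = n1279 := d38_2 F4671 D1279 (iv D1279)
def n1280 : Q := act 2 n891
theorem D1280 : act 2 n891 = n1280 := rfl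
theorem F6551 : act 1 n1280 = n1280 := d9_1 D1280 (iv D1280) F4672 F3306 (iv F4672)
theorem F6552 : act 3 n1280 = n1280 := d17_2 D891 D1280 (iv D1280) (iv D891) F3301
theorem F6553 : act 6 n1280 = n896 := d20_2 (iv F4673) D1280 (iv D896)
theorem F6554 : act 9 n1280 = n1280 := d23_2 F4674 D1280 (iv D1280)
def n1281 : Q := act 5 n891
theorem D1281 : act 5 n891 = n1281 := rfl
theorem F6555 : act 1 n1281 = n893 := d12_1 D1281 (iv D893) (iv F4672)
theorem F6556 : act 3 n1281 = n892 := d25_1 D1281 (iv D892) D891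
theorem F6557 : act 6 n1281 = n1281 := d35_2 (iv F4673) D1281 (iv D1281) F4673 F3323
theorem F6558 : act 9 n1281 = n1281 := d38_2 F4674 D1281 (iv D1281)
def n1282 : Q := act 8 n891
theorem D1282 : act 8 n891 = n1282 := rfl
theorem F6559 : act 1 n1282 = n894 := d15_1 D1282 (iv D894) (iv F4672)
theorem F6560 : act 3 n1282 = n1282 := d28_1 D1282 (iv D1282) (iv D891) F3303 D891
theorem F6561 : act 6 n1282 = n897 := d40_1 D1282 (iv D897) (iv F4673)
def n1283 : Q := act 4 n893
theorem D1283 : act 4 n893 = n1283 := rfl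
theorem F6562 : act 0 n1283 = n1016 := d3_1 D1283 (iv D1016) (iv F4681)
theorem F6563 : act 2 n1283 = n1283 := d18_1 D1283 (iv D1283) F4682
theorem F6564 : act 3 n1283 = n1283 := d24_1 D1283 (iv D1283) F4683 F3311 (iv F4683)
theorem F6565 : act 6 n1283 = n1283 := d31_2 F4684 D1283 (iv D1283)
theorem F6566 : act 9 n1283 = n1283 := d34_2 F4685 D1283 (iv D1283)
def n1284 : Q := act 8 n893
theorem D1284 : act 8 n893 = n1284 := rfl
theorem F6567 : act 0 n1284 = n1017 := d7_1 D1284 (iv D1017) (iv F4681)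
theorem F6568 : act 2 n1284 = n1284 := d22_1 D1284 (iv D1284) F4682
theorem F6569 : act 3 n1284 = n1284 := d28_1 D1284 (iv D1284) F4683 F3313 (iv F4683)
theorem F6570 : act 5 n1284 = n894 := d37_1 D1284 (iv D894) D893
theorem F6571 : act 6 n1284 = n1284 := d40_1 D1284 (iv D1284) F4684
def n1285 : Q := act 9 n894
theorem D1285 : act 9 n894 = n1285 := rfl
theorem F6573 : act 2 n1285 = n1285 := d23_1 D1285 (iv D1285) F4687
theorem F6574 : act 3 n1285 = n1285 := d29_1 D1285 (iv D1285) F4688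
theorem F6575 : act 6 n1285 = n898 := d41_1 D1285 (iv D898) (iv F4689)
theorem F6576 : act 8 n1285 = n1285 := d44_1 D1285 (iv D1285) (iv D894) F3308 D894
def n1286 : Q := act 2 n895
theorem D1286 : act 2 n895 = n1286 := rfl
theorem F6577 : act 0 n1286 = n896 := d1_1 D1286 (iv D896) (iv F4690)
theorem F6578 : act 3 n1286 = n1286 := d17_2 D895 D1286 (iv D1286) (iv D895) F3317
theorem F6579 : act 5 n1286 = n1286 := d19_2 F4692 D1286 (iv D1286)
theorem F6580 : act 7 n1286 = n1286 := d21_2 F4693 D1286 (iv D1286)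
theorem F6581 : act 9 n1286 = n1286 := d23_2 F4694 D1286 (iv D1286)
def n1287 : Q := act 8 n895
theorem D1287 : act 8 n895 = n1287 := rfl
def n1288 : Q := act 8 n896
theorem D1288 : act 8 n896 = n1288 := rfl
theorem F6587 : act 1 n1288 = n1288 := d15_1 D1288 (iv D1288) F4695
theorem F6588 : act 2 n1288 = n897 := d22_1 D1288 (iv D897) D896
theorem F6589 : act 5 n1288 = n1288 := d37_1 D1288 (iv D1288) F4697
theorem F6590 : act 7 n1288 = n1288 := d42_1 D1288 (iv D1288) F4698
def n1289 : Q := act 9 n897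
theorem D1289 : act 9 n897 = n1289 := rfl
theorem F6591 : act 1 n1289 = n898 := d16_1 D1289 (iv D898) (iv F4700)
def n1290 : Q := act 2 n899
theorem D1290 : act 2 n899 = n1290 := rfl
theorem F6596 : act 3 n1290 = n1290 := d17_2 D899 D1290 (iv D1290) (iv D899) F3332
theorem F6597 : act 5 n1290 = n1290 := d19_2 F4711 D1290 (iv D1290)
theorem F6598 : act 6 n1290 = n902 := d20_2 (iv F4712) D1290 (iv D902)
theorem F6599 : act 7 n1290 = n1290 := d21_2 F4713 D1290 (iv D1290)
theorem F6600 : act 8 n1290 = n1290 := d22_2 F4714 D1290 (iv D1290)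
def n1291 : Q := act 4 n899
theorem D1291 : act 4 n899 = n1291 := rfl
theorem F6601 : act 1 n1291 = n1291 := d11_1 D1291 (iv D1291) F4710
theorem F6602 : act 3 n1291 = n1291 := d24_1 D1291 (iv D1291) (iv D899) F3333 D899
theorem F6603 : act 6 n1291 = n903 := d31_2 (iv F4712) D1291 (iv D903)
theorem F6604 : act 7 n1291 = n1291 := d32_2 F4713 D1291 (iv D1291)
theorem F6605 : act 8 n1291 = n1291 := d33_2 F4714 D1291 (iv D1291)
def n1292 : Q := act 9 n899
theorem D1292 : act 9 n899 = n1292 := rfl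
theorem F6606 : act 1 n1292 = n1292 := d16_1 D1292 (iv D1292) F4710
theorem F6607 : act 3 n1292 = n900 := d29_1 D1292 (iv D900) D899
theorem F6608 : act 5 n1292 = n1292 := d38_1 D1292 (iv D1292) F4711
theorem F6609 : act 6 n1292 = n904 := d41_1 D1292 (iv D904) (iv F4712)
theorem F6610 : act 7 n1292 = n1292 := d43_1 D1292 (iv D1292) F4713
def n1293 : Q := act 8 n900
theorem D1293 : act 8 n900 = n1293 := rfl
theorem F6611 : act 1 n1293 = n1293 := d15_1 D1293 (iv D1293) F4715
theorem F6612 : act 2 n1293 = n1293 := d22_1 D1293 (iv D1293) F4716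
theorem F6613 : act 4 n1293 = n1293 := d33_1 D1293 (iv D1293) F4717
theorem F6614 : act 5 n1293 = n1293 := d37_1 D1293 (iv D1293) F4718
theorem F6615 : act 6 n1293 = n905 := d40_1 D1293 (iv D905) (iv F4719)
theorem F6616 : act 7 n1293 = n1293 := d42_1 D1293 (iv D1293) F4720
theorem F6617 : act 9 n1293 = n901 := d44_2 D900 D1293 (iv D901) (iv D624) D623
def n1294 : Q := act 3 n901
theorem D1294 : act 3 n901 = n1294 := rfl
theorem F6618 : act 1 n1294 = n1294 := d10_1 D1294 (iv D1294) F4721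
theorem F6619 : act 5 n1294 = n1294 := d25_2 F4724 D1294 (iv D1294)
theorem F6620 : act 6 n1294 = n906 := d26_2 (iv F4725) D1294 (iv D906)
theorem F6621 : act 7 n1294 = n1294 := d27_2 F4726 D1294 (iv D1294)
theorem F6622 : act 8 n1294 = n1294 := d28_2 D901 D1294 (iv D1294) (iv D901) F3339
def n1295 : Q := act 1 n902
theorem D1295 : act 1 n902 = n1295 := rfl
theorem F6623 : act 0 n1295 = n1295 := d0_1 D1295 (iv D1295) (iv F6049) F6050 F6049
theorem F6624 : act 2 n1295 = n1295 := d9_2 D902 D1295 (iv D1295) (iv D902) F3344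
theorem F6625 : act 3 n1295 = n1295 := d10_2 F4727 D1295 (iv D1295)
theorem F6626 : act 5 n1295 = n915 := d12_2 (iv F4728) D1295 (iv D915)
theorem F6627 : act 7 n1295 = n907 := d14_2 (iv F4729) D1295 (iv D907)
theorem F6628 : act 8 n1295 = n1295 := d15_2 F4730 D1295 (iv D1295)
def n1296 : Q := act 4 n902
theorem D1296 : act 4 n902 = n1296 := rfl
theorem F6629 : act 2 n1296 = n903 := d18_1 D1296 (iv D903) D902
theorem F6630 : act 5 n1296 = n1296 := d30_2 (iv F4728) D1296 (iv D1296) F4728 F3382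
theorem F6631 : act 7 n1296 = n908 := d32_2 (iv F4729) D1296 (iv D908)
theorem F6632 : act 8 n1296 = n1296 := d33_2 F4730 D1296 (iv D1296)
def n1297 : Q := act 9 n902
theorem D1297 : act 9 n902 = n1297 := rfl
theorem F6633 : act 2 n1297 = n904 := d23_1 D1297 (iv D904) D902
theorem F6634 : act 3 n1297 = n1297 := d29_1 D1297 (iv D1297) F4727
theorem F6635 : act 5 n1297 = n916 := d38_1 D1297 (iv D916) (iv F4728)
theorem F6636 : act 7 n1297 = n909 := d43_1 D1297 (iv D909) (iv F4729)
def n1298 : Q := act 9 n903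
theorem D1298 : act 9 n903 = n1298 := rfl
theorem F6637 : act 1 n1298 = n1298 := d16_1 D1298 (iv D1298) F4731
theorem F6638 : act 3 n1298 = n1298 := d29_1 D1298 (iv D1298) F4732
theorem F6639 : act 4 n1298 = n904 := d34_1 D1298 (iv D904) D903
theorem F6640 : act 5 n1298 = n1298 := d38_1 D1298 (iv D1298) F4733
theorem F6641 : act 7 n1298 = n910 := d43_1 D1298 (iv D910) (iv F4734)
def n1299 : Q := act 8 n904
theorem D1299 : act 8 n904 = n1299 := rfl
theorem F6642 : act 1 n1299 = n1299 := d15_1 D1299 (iv D1299) F4736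
theorem F6643 : act 5 n1299 = n917 := d37_1 D1299 (iv D917) (iv F4738)
theorem F6644 : act 7 n1299 = n911 := d42_1 D1299 (iv D911) (iv F4739)
theorem F6645 : act 9 n1299 = n1299 := d44_2 D904 D1299 (iv D1299) (iv D904) F3347
def n1300 : Q := act 3 n905
theorem D1300 : act 3 n905 = n1300 := rfl
theorem F6646 : act 1 n1300 = n1300 := d10_1 D1300 (iv D1300) F4740
theorem F6647 : act 5 n1300 = n918 := d25_2 (iv F4743) D1300 (iv D918)
theorem F6648 : act 7 n1300 = n912 := d27_2 (iv F4744) D1300 (iv D912)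
theorem F6649 : act 9 n1300 = n906 := d29_2 (iv F4745) D1300 (iv D906)
def n1301 : Q := act 2 n906
theorem D1301 : act 2 n906 = n1301 := rfl
theorem F6650 : act 3 n1301 = n1301 := d17_2 D906 D1301 (iv D1301) (iv D906) F3354
theorem F6651 : act 5 n1301 = n919 := d19_2 (iv F4747) D1301 (iv D919)
theorem F6652 : act 7 n1301 = n913 := d21_2 (iv F4748) D1301 (iv D913)
theorem F6653 : act 8 n1301 = n1301 := d22_2 F4749 D1301 (iv D1301)
def n1302 : Q := act 4 n906
theorem D1302 : act 4 n906 = n1302 := rfl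
theorem F6654 : act 1 n1302 = n1302 := d11_1 D1302 (iv D1302) F4746
theorem F6655 : act 3 n1302 = n1302 := d24_1 D1302 (iv D1302) (iv D906) F3355 D906
theorem F6656 : act 7 n1302 = n914 := d32_2 (iv F4748) D1302 (iv D914)
theorem F6657 : act 8 n1302 = n1302 := d33_2 F4749 D1302 (iv D1302)
def n1303 : Q := act 4 n907
theorem D1303 : act 4 n907 = n1303 := rfl
theorem F6658 : act 0 n1303 = n1303 := d3_1 D1303 (iv D1303) F4750
theorem F6659 : act 1 n1303 = n908 := d11_1 D1303 (iv D908) D907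
theorem F6660 : act 2 n1303 = n1303 := d18_1 D1303 (iv D1303) F4751
theorem F6661 : act 5 n1303 = n1303 := d30_2 (iv F4753) D1303 (iv D1303) F4753 F3404
theorem F6662 : act 6 n1303 = n1303 := d31_2 F4754 D1303 (iv D1303)
theorem F6663 : act 8 n1303 = n1303 := d33_2 F4755 D1303 (iv D1303)
def n1304 : Q := act 9 n907
theorem D1304 : act 9 n907 = n1304 := rfl
theorem F6665 : act 1 n1304 = n909 := d16_1 D1304 (iv D909) D907
theorem F6668 : act 5 n1304 = n921 := d38_1 D1304 (iv D921) (iv F4753)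
def n1305 : Q := act 3 n908
theorem D1305 : act 3 n908 = n1305 := rfl
theorem F6670 : act 2 n1305 = n1305 := d17_1 D1305 (iv D1305) F4756 F3363 (iv F4756)
theorem F6671 : act 4 n1305 = n1305 := d24_2 D908 D1305 (iv D1305) (iv D908) F3358
theorem F6672 : act 5 n1305 = n1305 := d25_2 F4757 D1305 (iv D1305)
theorem F6673 : act 6 n1305 = n1305 := d26_2 F4758 D1305 (iv D1305)
def n1306 : Q := act 9 n908
theorem D1306 : act 9 n908 = n1306 := rfl
theorem F6674 : act 2 n1306 = n910 := d23_1 D1306 (iv D910) (iv F4756)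
theorem F6675 : act 4 n1306 = n909 := d34_1 D1306 (iv D909) D908
theorem F6676 : act 5 n1306 = n1306 := d38_1 D1306 (iv D1306) F4757
theorem F6677 : act 6 n1306 = n1306 := d41_1 D1306 (iv D1306) F4758
def n1307 : Q := act 8 n909
theorem D1307 : act 8 n909 = n1307 := rfl
theorem F6678 : act 2 n1307 = n911 := d22_1 D1307 (iv D911) (iv F4760)
theorem F6679 : act 5 n1307 = n922 := d37_1 D1307 (iv D922) (iv F4762)
def n1308 : Q := act 8 n910
theorem D1308 : act 8 n910 = n1308 := rfl
theorem F6682 : act 1 n1308 = n1308 := d15_1 D1308 (iv D1308) F4764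
theorem F6683 : act 4 n1308 = n911 := d33_1 D1308 (iv D911) (iv F4766)
theorem F6684 : act 5 n1308 = n1308 := d37_1 D1308 (iv D1308) F4767
theorem F6685 : act 6 n1308 = n1308 := d40_1 D1308 (iv D1308) F4768
theorem F6686 : act 9 n1308 = n1308 := d44_2 D910 D1308 (iv D1308) (iv D910) F3366
def n1309 : Q := act 3 n911
theorem D1309 : act 3 n911 = n1309 := rfl
theorem F6687 : act 1 n1309 = n1309 := d10_1 D1309 (iv D1309) F4769
theorem F6688 : act 5 n1309 = n923 := d25_2 (iv F4770) D1309 (iv D923)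
theorem F6689 : act 6 n1309 = n1309 := d26_2 F4771 D1309 (iv D1309)
theorem F6690 : act 8 n1309 = n912 := d28_2 D911 D1309 (iv D912) (iv D631) (iv F3368)
theorem F6691 : act 9 n1309 = n1309 := d29_2 F4772 D1309 (iv D1309)
def n1310 : Q := act 2 n912
theorem D1310 : act 2 n912 = n1310 := rfl
theorem F6692 : act 3 n1310 = n1310 := d17_2 D912 D1310 (iv D1310) (iv D912) F3372
theorem F6693 : act 5 n1310 = n924 := d19_2 (iv F4774) D1310 (iv D924)
theorem F6694 : act 6 n1310 = n1310 := d20_2 F4775 D1310 (iv D1310)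
theorem F6695 : act 9 n1310 = n913 := d23_2 (iv F4776) D1310 (iv D913)
def n1311 : Q := act 4 n912
theorem D1311 : act 4 n912 = n1311 := rfl
theorem F6696 : act 1 n1311 = n1311 := d11_1 D1311 (iv D1311) F4773
theorem F6697 : act 3 n1311 = n1311 := d24_1 D1311 (iv D1311) (iv D912) F3373 D912
theorem F6698 : act 6 n1311 = n1311 := d31_2 F4775 D1311 (iv D1311)
theorem F6699 : act 9 n1311 = n914 := d34_2 (iv F4776) D1311 (iv D914)
def n1312 : Q := act 1 n913
theorem D1312 : act 1 n913 = n1312 := rfl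
theorem F6700 : act 2 n1312 = n1312 := d9_2 D913 D1312 (iv D1312) (iv D913) F3377
theorem F6701 : act 3 n1312 = n1312 := d10_2 F4777 D1312 (iv D1312)
theorem F6702 : act 5 n1312 = n926 := d12_2 (iv F4778) D1312 (iv D926)
theorem F6703 : act 6 n1312 = n1312 := d13_2 F4779 D1312 (iv D1312)
theorem F6704 : act 8 n1312 = n1312 := d15_2 F4780 D1312 (iv D1312)
def n1313 : Q := act 4 n913
theorem D1313 : act 4 n913 = n1313 := rfl
theorem F6705 : act 2 n1313 = n914 := d18_1 D1313 (iv D914) D913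
theorem F6706 : act 6 n1313 = n1313 := d31_2 F4779 D1313 (iv D1313)
theorem F6707 : act 8 n1313 = n1313 := d33_2 F4780 D1313 (iv D1313)
def n1314 : Q := act 5 n914
theorem D1314 : act 5 n914 = n1314 := rfl
theorem F6708 : act 1 n1314 = n1314 := d12_1 D1314 (iv D1314) F4781
theorem F6709 : act 3 n1314 = n1314 := d25_1 D1314 (iv D1314) F4782
theorem F6710 : act 4 n1314 = n928 := d30_1 D1314 (iv D928) (iv D642) (iv F3378) D914
theorem F6711 : act 8 n1314 = n1314 := d37_2 F4784 D1314 (iv D1314)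
def n1315 : Q := act 9 n915
theorem D1315 : act 9 n915 = n1315 := rfl
theorem F6713 : act 1 n1315 = n916 := d16_1 D1315 (iv D916) D915
def n1316 : Q := act 8 n916
theorem D1316 : act 8 n916 = n1316 := rfl
theorem F6719 : act 2 n1316 = n917 := d22_1 D1316 (iv D917) (iv F4792)
theorem F6722 : act 7 n1316 = n922 := d42_1 D1316 (iv D922) (iv F4796)
def n1317 : Q := act 3 n917
theorem D1317 : act 3 n917 = n1317 := rfl
theorem F6724 : act 1 n1317 = n1317 := d10_1 D1317 (iv D1317) F4797
theorem F6725 : act 6 n1317 = n1317 := d26_2 F4799 D1317 (iv D1317)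
theorem F6726 : act 7 n1317 = n923 := d27_2 (iv F4800) D1317 (iv D923)
theorem F6727 : act 8 n1317 = n918 := d28_2 D917 D1317 (iv D918) (iv D635) (iv F3387)
theorem F6728 : act 9 n1317 = n1317 := d29_2 F4801 D1317 (iv D1317)
def n1318 : Q := act 2 n918
theorem D1318 : act 2 n918 = n1318 := rfl
theorem F6729 : act 3 n1318 = n1318 := d17_2 D918 D1318 (iv D1318) (iv D918) F3392
theorem F6730 : act 6 n1318 = n1318 := d20_2 F4803 D1318 (iv D1318)
theorem F6731 : act 7 n1318 = n924 := d21_2 (iv F4804) D1318 (iv D924)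
theorem F6732 : act 9 n1318 = n919 := d23_2 (iv F4805) D1318 (iv D919)
def n1319 : Q := act 4 n918
theorem D1319 : act 4 n918 = n1319 := rfl
theorem F6733 : act 1 n1319 = n1319 := d11_1 D1319 (iv D1319) F4802
theorem F6734 : act 3 n1319 = n942 := d24_1 D1319 (iv D942) (iv D651) (iv F3393) D918
theorem F6735 : act 6 n1319 = n1319 := d31_2 F4803 D1319 (iv D1319)
theorem F6736 : act 7 n1319 = n925 := d32_2 (iv F4804) D1319 (iv D925)
theorem F6737 : act 9 n1319 = n920 := d34_2 (iv F4805) D1319 (iv D920)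
def n1320 : Q := act 1 n919
theorem D1320 : act 1 n919 = n1320 := rfl
theorem F6738 : act 2 n1320 = n1320 := d9_2 D919 D1320 (iv D1320) (iv D919) F3397
theorem F6739 : act 3 n1320 = n1320 := d10_2 F4806 D1320 (iv D1320)
theorem F6740 : act 6 n1320 = n1320 := d13_2 F4807 D1320 (iv D1320)
theorem F6741 : act 7 n1320 = n926 := d14_2 (iv F4808) D1320 (iv D926)
theorem F6742 : act 8 n1320 = n1320 := d15_2 F4809 D1320 (iv D1320)
def n1321 : Q := act 4 n919
theorem D1321 : act 4 n919 = n1321 := rfl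
theorem F6743 : act 2 n1321 = n920 := d18_1 D1321 (iv D920) D919
theorem F6744 : act 6 n1321 = n1321 := d31_2 F4807 D1321 (iv D1321)
theorem F6745 : act 7 n1321 = n927 := d32_2 (iv F4808) D1321 (iv D927)
theorem F6746 : act 8 n1321 = n1321 := d33_2 F4809 D1321 (iv D1321)
def n1322 : Q := act 5 n920
theorem D1322 : act 5 n920 = n1322 := rfl
theorem F6747 : act 1 n1322 = n1322 := d12_1 D1322 (iv D1322) F4810
theorem F6748 : act 3 n1322 = n945 := d25_1 D1322 (iv D945) (iv F4811)
theorem F6749 : act 7 n1322 = n928 := d36_2 (iv F4813) D1322 (iv D928)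
theorem F6750 : act 8 n1322 = n1322 := d37_2 F4814 D1322 (iv D1322)
def n1323 : Q := act 8 n921
theorem D1323 : act 8 n921 = n1323 := rfl
theorem F6752 : act 1 n1323 = n922 := d15_1 D1323 (iv D922) (iv F4816)
def n1324 : Q := act 3 n922
theorem D1324 : act 3 n922 = n1324 := rfl
theorem F6757 : act 6 n1324 = n930 := d26_2 (iv F4823) D1324 (iv D930)
def n1325 : Q := act 2 n923
theorem D1325 : act 2 n923 = n1325 := rfl
theorem F6760 : act 6 n1325 = n931 := d20_2 (iv F4826) D1325 (iv D931)
theorem F6761 : act 8 n1325 = n924 := d22_2 (iv F4827) D1325 (iv D924)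
def n1326 : Q := act 4 n923
theorem D1326 : act 4 n923 = n1326 := rfl
theorem F6763 : act 1 n1326 = n1326 := d11_1 D1326 (iv D1326) F4825
theorem F6764 : act 3 n1326 = n1326 := d24_1 D1326 (iv D1326) (iv D923) F3412 D923
theorem F6765 : act 6 n1326 = n932 := d31_2 (iv F4826) D1326 (iv D932)
theorem F6766 : act 8 n1326 = n925 := d33_2 (iv F4827) D1326 (iv D925)
theorem F6767 : act 9 n1326 = n1326 := d34_2 F4828 D1326 (iv D1326)
def n1327 : Q := act 1 n924
theorem D1327 : act 1 n924 = n1327 := rfl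
theorem F6770 : act 6 n1327 = n933 := d13_2 (iv F4830) D1327 (iv D933)
theorem F6771 : act 9 n1327 = n926 := d16_2 (iv F4831) D1327 (iv D926)
def n1328 : Q := act 4 n924
theorem D1328 : act 4 n924 = n1328 := rfl
theorem F6772 : act 2 n1328 = n925 := d18_1 D1328 (iv D925) D924
theorem F6773 : act 6 n1328 = n934 := d31_2 (iv F4830) D1328 (iv D934)
theorem F6774 : act 9 n1328 = n927 := d34_2 (iv F4831) D1328 (iv D927)
def n1329 : Q := act 5 n925
theorem D1329 : act 5 n925 = n1329 := rfl
theorem F6775 : act 1 n1329 = n1329 := d12_1 D1329 (iv D1329) F4832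
theorem F6776 : act 3 n1329 = n948 := d25_1 D1329 (iv D948) (iv F4833)
theorem F6777 : act 9 n1329 = n928 := d38_2 (iv F4835) D1329 (iv D928)
def n1330 : Q := act 0 n926
theorem D1330 : act 0 n926 = n1330 := rfl
theorem F6780 : act 6 n1330 = n936 := d5_2 (iv F4838) D1330 (iv D936)
def n1331 : Q := act 4 n926
theorem D1331 : act 4 n926 = n1331 := rfl
theorem F6782 : act 1 n1331 = n927 := d11_1 D1331 (iv D927) D926
theorem F6783 : act 2 n1331 = n1331 := d18_1 D1331 (iv D1331) F4836
theorem F6784 : act 6 n1331 = n937 := d31_2 (iv F4838) D1331 (iv D937)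
theorem F6785 : act 8 n1331 = n1331 := d33_2 F4839 D1331 (iv D1331)
def n1332 : Q := act 3 n927
theorem D1332 : act 3 n927 = n1332 := rfl
theorem F6786 : act 2 n1332 = n951 := d17_1 D1332 (iv D951) F3492 (iv F3422) (iv F4840)
theorem F6787 : act 4 n1332 = n1332 := d24_2 D927 D1332 (iv D1332) (iv D927) F3418
theorem F6788 : act 6 n1332 = n938 := d26_2 (iv F4841) D1332 (iv D938)
def n1333 : Q := act 5 n927
theorem D1333 : act 5 n927 = n1333 := rfl
theorem F6789 : act 2 n1333 = n928 := d19_1 D1333 (iv D928) (iv F4840)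
theorem F6790 : act 8 n1333 = n1333 := d37_2 F4842 D1333 (iv D1333)
def n1334 : Q := act 6 n928
theorem D1334 : act 6 n928 = n1334 := rfl
theorem F6791 : act 1 n1334 = n1334 := d13_1 D1334 (iv D1334) F4843
theorem F6792 : act 3 n1334 = n953 := d26_1 D1334 (iv D953) (iv F4844)
theorem F6793 : act 5 n1334 = n940 := d35_1 D1334 (iv D940) (iv D650) (iv F3423) D928
theorem F6794 : act 8 n1334 = n1334 := d40_2 F4845 D1334 (iv D1334)
def n1336 : Q := act 2 n930
theorem D1336 : act 2 n930 = n1336 := rfl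
theorem F6801 : act 3 n1336 = n931 := d17_2 D930 D1336 (iv D931) (iv D645) (iv F3432)
def n1338 : Q := act 1 n931
theorem D1338 : act 1 n931 = n1338 := rfl
theorem F6813 : act 8 n1338 = n933 := d15_2 (iv F4859) D1338 (iv D933)
def n1339 : Q := act 4 n931
theorem D1339 : act 4 n931 = n1339 := rfl
theorem F6815 : act 2 n1339 = n932 := d18_1 D1339 (iv D932) D931
theorem F6817 : act 8 n1339 = n934 := d33_2 (iv F4859) D1339 (iv D934)
def n1340 : Q := act 5 n932
theorem D1340 : act 5 n932 = n1340 := rfl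
theorem F6819 : act 1 n1340 = n1340 := d12_1 D1340 (iv D1340) F4861
theorem F6820 : act 3 n1340 = n1340 := d25_1 D1340 (iv D1340) F4862
theorem F6821 : act 4 n1340 = n1340 := d30_1 D1340 (iv D1340) (iv D932) F3438 D932
theorem F6822 : act 7 n1340 = n1340 := d36_2 F4863 D1340 (iv D1340)
theorem F6823 : act 8 n1340 = n935 := d37_2 (iv F4864) D1340 (iv D935)
theorem F6824 : act 9 n1340 = n1340 := d38_2 F4865 D1340 (iv D1340)
def n1341 : Q := act 0 n933
theorem D1341 : act 0 n933 = n1341 := rfl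
theorem F6829 : act 9 n1341 = n936 := d8_2 (iv F4870) D1341 (iv D936)
def n1342 : Q := act 4 n933
theorem D1342 : act 4 n933 = n1342 := rfl
theorem F6830 : act 1 n1342 = n934 := d11_1 D1342 (iv D934) D933
theorem F6833 : act 9 n1342 = n937 := d34_2 (iv F4870) D1342 (iv D937)
def n1343 : Q := act 3 n934
theorem D1343 : act 3 n934 = n1343 := rfl
theorem F6834 : act 2 n1343 = n956 := d17_1 D1343 (iv D956) F3504 (iv F3447) (iv F4871)
theorem F6835 : act 4 n1343 = n1343 := d24_2 D934 D1343 (iv D1343) (iv D934) F3442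
theorem F6836 : act 7 n1343 = n1343 := d27_2 F4872 D1343 (iv D1343)
theorem F6837 : act 9 n1343 = n938 := d29_2 (iv F4873) D1343 (iv D938)
def n1344 : Q := act 5 n934
theorem D1344 : act 5 n934 = n1344 := rfl
theorem F6838 : act 2 n1344 = n935 := d19_1 D1344 (iv D935) (iv F4871)
theorem F6839 : act 4 n1344 = n1344 := d30_1 D1344 (iv D1344) (iv D934) F3443 D934
theorem F6840 : act 7 n1344 = n1344 := d36_2 F4872 D1344 (iv D1344)
theorem F6841 : act 9 n1344 = n939 := d38_2 (iv F4873) D1344 (iv D939)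
def n1345 : Q := act 6 n935
theorem D1345 : act 6 n935 = n1345 := rfl
theorem F6842 : act 1 n1345 = n1345 := d13_1 D1345 (iv D1345) F4874
theorem F6843 : act 3 n1345 = n958 := d26_1 D1345 (iv D958) (iv F4875)
theorem F6844 : act 4 n1345 = n1345 := d31_1 D1345 (iv D1345) F4876
theorem F6845 : act 9 n1345 = n940 := d41_2 (iv F4878) D1345 (iv D940)
def n1346 : Q := act 4 n936
theorem D1346 : act 4 n936 = n1346 := rfl
theorem F6846 : act 0 n1346 = n937 := d3_1 D1346 (iv D937) D936
def n1347 : Q := act 3 n937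
theorem D1347 : act 3 n937 = n1347 := rfl
theorem F6850 : act 1 n1347 = n938 := d10_1 D1347 (iv D938) (iv F4884)
theorem F6851 : act 4 n1347 = n1347 := d24_2 D937 D1347 (iv D1347) (iv D937) F3451
theorem F6852 : act 7 n1347 = n1347 := d27_2 F4886 D1347 (iv D1347)
def n1348 : Q := act 5 n937
theorem D1348 : act 5 n937 = n1348 := rfl
theorem F6853 : act 1 n1348 = n939 := d12_1 D1348 (iv D939) (iv F4884)
theorem F6854 : act 2 n1348 = n1348 := d19_1 D1348 (iv D1348) F4885
theorem F6855 : act 4 n1348 = n1348 := d30_1 D1348 (iv D1348) (iv D937) F3452 D937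
theorem F6856 : act 7 n1348 = n1348 := d36_2 F4886 D1348 (iv D1348)
theorem F6857 : act 8 n1348 = n1348 := d37_2 F4887 D1348 (iv D1348)
def n1349 : Q := act 5 n938
theorem D1349 : act 5 n938 = n1349 := rfl
theorem F6858 : act 2 n1349 = n962 := d19_1 D1349 (iv D962) (iv F4888)
theorem F6859 : act 3 n1349 = n939 := d25_1 D1349 (iv D939) D938
theorem F6860 : act 7 n1349 = n1349 := d36_2 F4890 D1349 (iv D1349)
def n1350 : Q := act 8 n938
theorem D1350 : act 8 n938 = n1350 := rfl
theorem F6861 : act 2 n1350 = n963 := d22_1 D1350 (iv D963) (iv F4888)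
theorem F6862 : act 3 n1350 = n1350 := d28_1 D1350 (iv D1350) (iv D938) F3457 D938
theorem F6863 : act 4 n1350 = n1350 := d33_1 D1350 (iv D1350) F4889
theorem F6864 : act 7 n1350 = n1350 := d42_1 D1350 (iv D1350) F4890
def n1351 : Q := act 6 n939
theorem D1351 : act 6 n939 = n1351 := rfl
theorem F6865 : act 2 n1351 = n940 := d20_1 D1351 (iv D940) (iv F4891)
theorem F6866 : act 4 n1351 = n1351 := d31_1 D1351 (iv D1351) F4892
theorem F6867 : act 8 n1351 = n1351 := d40_2 F4894 D1351 (iv D1351)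
def n1352 : Q := act 7 n940
theorem D1352 : act 7 n940 = n1352 := rfl
theorem F6868 : act 1 n1352 = n1352 := d14_1 D1352 (iv D1352) F4895
theorem F6869 : act 3 n1352 = n965 := d27_1 D1352 (iv D965) (iv F4896)
theorem F6870 : act 4 n1352 = n1352 := d32_1 D1352 (iv D1352) F4897
theorem F6871 : act 6 n1352 = n1352 := d39_1 D1352 (iv D1352) (iv D940) F3461 D940
theorem F6872 : act 8 n1352 = n1352 := d42_2 F4898 D1352 (iv D1352)
def n1353 : Q := act 1 n941
theorem D1353 : act 1 n941 = n1353 := rfl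
theorem F6873 : act 2 n1353 = n1353 := d9_2 D941 D1353 (iv D1353) (iv D941) F3463
theorem F6874 : act 3 n1353 = n1353 := d10_2 F4899 D1353 (iv D1353)
theorem F6875 : act 5 n1353 = n1353 := d12_2 F4900 D1353 (iv D1353)
theorem F6876 : act 6 n1353 = n1353 := d13_2 F4901 D1353 (iv D1353)
theorem F6877 : act 7 n1353 = n946 := d14_2 (iv F4902) D1353 (iv D946)
theorem F6878 : act 8 n1353 = n1353 := d15_2 F4903 D1353 (iv D1353)
theorem F6879 : act 9 n1353 = n943 := d16_2 (iv F4904) D1353 (iv D943)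
def n1354 : Q := act 4 n941
theorem D1354 : act 4 n941 = n1354 := rfl
theorem F6880 : act 2 n1354 = n942 := d18_1 D1354 (iv D942) D941
theorem F6881 : act 6 n1354 = n1354 := d31_2 F4901 D1354 (iv D1354)
theorem F6882 : act 7 n1354 = n947 := d32_2 (iv F4902) D1354 (iv D947)
theorem F6883 : act 8 n1354 = n1354 := d33_2 F4903 D1354 (iv D1354)
theorem F6884 : act 9 n1354 = n944 := d34_2 (iv F4904) D1354 (iv D944)
def n1355 : Q := act 5 n942
theorem D1355 : act 5 n942 = n1355 := rfl
theorem F6885 : act 1 n1355 = n1355 := d12_1 D1355 (iv D1355) F4905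
theorem F6886 : act 4 n1355 = n1355 := d30_1 D1355 (iv D1355) (iv D942) F3464 D942
theorem F6887 : act 7 n1355 = n948 := d36_2 (iv F4907) D1355 (iv D948)
theorem F6888 : act 8 n1355 = n1355 := d37_2 F4908 D1355 (iv D1355)
theorem F6889 : act 9 n1355 = n945 := d38_2 (iv F4909) D1355 (iv D945)
def n1356 : Q := act 0 n943
theorem D1356 : act 0 n943 = n1356 := rfl
theorem F6890 : act 2 n1356 = n1356 := d1_2 F4910 D1356 (iv D1356)
theorem F6891 : act 3 n1356 = n1356 := d2_2 F4911 D1356 (iv D1356)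
theorem F6892 : act 5 n1356 = n1356 := d4_2 F4912 D1356 (iv D1356)
theorem F6893 : act 6 n1356 = n1356 := d5_2 F4913 D1356 (iv D1356)
theorem F6894 : act 7 n1356 = n949 := d6_2 (iv F4914) D1356 (iv D949)
theorem F6895 : act 8 n1356 = n981 := d7_2 (iv F4915) D1356 (iv D981)
def n1357 : Q := act 4 n943
theorem D1357 : act 4 n943 = n1357 := rfl
theorem F6896 : act 1 n1357 = n944 := d11_1 D1357 (iv D944) D943
theorem F6897 : act 2 n1357 = n1357 := d18_1 D1357 (iv D1357) F4910
theorem F6898 : act 6 n1357 = n1357 := d31_2 F4913 D1357 (iv D1357)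
theorem F6899 : act 7 n1357 = n950 := d32_2 (iv F4914) D1357 (iv D950)
theorem F6900 : act 8 n1357 = n982 := d33_2 (iv F4915) D1357 (iv D982)
def n1358 : Q := act 3 n944
theorem D1358 : act 3 n944 = n1358 := rfl
theorem F6901 : act 4 n1358 = n1358 := d24_2 D944 D1358 (iv D1358) (iv D944) F3469
theorem F6902 : act 6 n1358 = n1358 := d26_2 F4917 D1358 (iv D1358)
theorem F6903 : act 7 n1358 = n951 := d27_2 (iv F4918) D1358 (iv D951)
def n1359 : Q := act 5 n944
theorem D1359 : act 5 n944 = n1359 := rfl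
theorem F6904 : act 2 n1359 = n945 := d19_1 D1359 (iv D945) (iv F4916)
theorem F6905 : act 4 n1359 = n1359 := d30_1 D1359 (iv D1359) (iv D944) F3470 D944
theorem F6906 : act 7 n1359 = n952 := d36_2 (iv F4918) D1359 (iv D952)
theorem F6907 : act 8 n1359 = n984 := d37_2 (iv F4919) D1359 (iv D984)
def n1360 : Q := act 6 n945
theorem D1360 : act 6 n945 = n1360 := rfl
theorem F6908 : act 1 n1360 = n1360 := d13_1 D1360 (iv D1360) F4920
theorem F6909 : act 4 n1360 = n1360 := d31_1 D1360 (iv D1360) F4921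
theorem F6910 : act 5 n1360 = n1360 := d35_1 D1360 (iv D1360) (iv D945) F3475 D945
theorem F6911 : act 8 n1360 = n985 := d40_2 (iv F4923) D1360 (iv D985)
def n1361 : Q := act 0 n946
theorem D1361 : act 0 n946 = n1361 := rfl
theorem F6912 : act 2 n1361 = n1361 := d1_2 F4924 D1361 (iv D1361)
theorem F6913 : act 3 n1361 = n1361 := d2_2 F4925 D1361 (iv D1361)
theorem F6914 : act 5 n1361 = n1361 := d4_2 F4926 D1361 (iv D1361)
theorem F6915 : act 6 n1361 = n954 := d5_2 (iv F4927) D1361 (iv D954)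
theorem F6916 : act 8 n1361 = n1361 := d7_2 F4928 D1361 (iv D1361)
theorem F6917 : act 9 n1361 = n949 := d8_2 (iv F4929) D1361 (iv D949)
def n1362 : Q := act 4 n946
theorem D1362 : act 4 n946 = n1362 := rfl
theorem F6918 : act 1 n1362 = n947 := d11_1 D1362 (iv D947) D946
theorem F6919 : act 2 n1362 = n1362 := d18_1 D1362 (iv D1362) F4924
theorem F6920 : act 6 n1362 = n955 := d31_2 (iv F4927) D1362 (iv D955)
theorem F6921 : act 8 n1362 = n1362 := d33_2 F4928 D1362 (iv D1362)
theorem F6922 : act 9 n1362 = n950 := d34_2 (iv F4929) D1362 (iv D950)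
def n1363 : Q := act 3 n947
theorem D1363 : act 3 n947 = n1363 := rfl
theorem F6923 : act 4 n1363 = n1363 := d24_2 D947 D1363 (iv D1363) (iv D947) F3478
theorem F6924 : act 6 n1363 = n956 := d26_2 (iv F4931) D1363 (iv D956)
theorem F6925 : act 9 n1363 = n951 := d29_2 (iv F4933) D1363 (iv D951)
def n1364 : Q := act 5 n947
theorem D1364 : act 5 n947 = n1364 := rfl
theorem F6926 : act 2 n1364 = n948 := d19_1 D1364 (iv D948) (iv F4930)
theorem F6927 : act 4 n1364 = n1364 := d30_1 D1364 (iv D1364) (iv D947) F3479 D947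
theorem F6928 : act 8 n1364 = n1364 := d37_2 F4932 D1364 (iv D1364)
theorem F6929 : act 9 n1364 = n952 := d38_2 (iv F4933) D1364 (iv D952)
def n1365 : Q := act 6 n948
theorem D1365 : act 6 n948 = n1365 := rfl
theorem F6930 : act 1 n1365 = n1365 := d13_1 D1365 (iv D1365) F4934
theorem F6931 : act 4 n1365 = n1365 := d31_1 D1365 (iv D1365) F4935
theorem F6932 : act 5 n1365 = n958 := d35_1 D1365 (iv D958) (iv D661) (iv F3484) D948
theorem F6933 : act 8 n1365 = n1365 := d40_2 F4936 D1365 (iv D1365)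
theorem F6934 : act 9 n1365 = n953 := d41_2 (iv F4937) D1365 (iv D953)
def n1366 : Q := act 4 n949
theorem D1366 : act 4 n949 = n1366 := rfl
theorem F6935 : act 0 n1366 = n950 := d3_1 D1366 (iv D950) D949
theorem F6936 : act 2 n1366 = n1366 := d18_1 D1366 (iv D1366) F4938
theorem F6937 : act 6 n1366 = n959 := d31_2 (iv F4941) D1366 (iv D959)
theorem F6938 : act 8 n1366 = n986 := d33_2 (iv F4942) D1366 (iv D986)
def n1367 : Q := act 3 n950
theorem D1367 : act 3 n950 = n1367 := rfl
theorem F6939 : act 1 n1367 = n951 := d10_1 D1367 (iv D951) (iv F4943)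
theorem F6940 : act 4 n1367 = n1367 := d24_2 D950 D1367 (iv D1367) (iv D950) F3488
theorem F6941 : act 6 n1367 = n960 := d26_2 (iv F4945) D1367 (iv D960)
def n1368 : Q := act 5 n950
theorem D1368 : act 5 n950 = n1368 := rfl
theorem F6942 : act 1 n1368 = n952 := d12_1 D1368 (iv D952) (iv F4943)
theorem F6943 : act 2 n1368 = n1368 := d19_1 D1368 (iv D1368) F4944
theorem F6944 : act 4 n1368 = n1368 := d30_1 D1368 (iv D1368) (iv D950) F3489 D950
theorem F6945 : act 8 n1368 = n988 := d37_2 (iv F4946) D1368 (iv D988)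
def n1369 : Q := act 5 n951
theorem D1369 : act 5 n951 = n1369 := rfl
theorem F6946 : act 3 n1369 = n952 := d25_1 D1369 (iv D952) D951
def n1370 : Q := act 8 n951
theorem D1370 : act 8 n951 = n1370 := rfl
theorem F6947 : act 3 n1370 = n990 := d28_1 D1370 (iv D990) (iv D683) (iv F3494) D951
theorem F6948 : act 4 n1370 = n1370 := d33_1 D1370 (iv D1370) F4947
theorem F6949 : act 6 n1370 = n963 := d40_1 D1370 (iv D963) (iv F4948)
def n1371 : Q := act 6 n952
theorem D1371 : act 6 n952 = n1371 := rfl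
theorem F6950 : act 2 n1371 = n953 := d20_1 D1371 (iv D953) (iv F4949)
theorem F6951 : act 4 n1371 = n1371 := d31_1 D1371 (iv D1371) F4950
theorem F6952 : act 5 n1371 = n964 := d35_1 D1371 (iv D964) (iv D665) (iv F3493) D952
theorem F6953 : act 8 n1371 = n991 := d40_2 (iv F4951) D1371 (iv D991)
def n1372 : Q := act 7 n953
theorem D1372 : act 7 n953 = n1372 := rfl
theorem F6954 : act 1 n1372 = n1372 := d14_1 D1372 (iv D1372) F4952
theorem F6955 : act 4 n1372 = n1372 := d32_1 D1372 (iv D1372) F4953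
theorem F6956 : act 5 n1372 = n965 := d36_1 D1372 (iv D965) (iv F4954)
theorem F6957 : act 8 n1372 = n992 := d42_2 (iv F4955) D1372 (iv D992)
def n1373 : Q := act 4 n954
theorem D1373 : act 4 n954 = n1373 := rfl
theorem F6958 : act 0 n1373 = n955 := d3_1 D1373 (iv D955) D954
theorem F6959 : act 2 n1373 = n1373 := d18_1 D1373 (iv D1373) F4956
theorem F6960 : act 7 n1373 = n1373 := d32_2 F4959 D1373 (iv D1373)
theorem F6961 : act 8 n1373 = n1373 := d33_2 F4960 D1373 (iv D1373)
theorem F6962 : act 9 n1373 = n959 := d34_2 (iv F4961) D1373 (iv D959)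
def n1374 : Q := act 3 n955
theorem D1374 : act 3 n955 = n1374 := rfl
theorem F6963 : act 1 n1374 = n956 := d10_1 D1374 (iv D956) (iv F4962)
theorem F6964 : act 4 n1374 = n1374 := d24_2 D955 D1374 (iv D1374) (iv D955) F3499
theorem F6965 : act 7 n1374 = n1374 := d27_2 F4964 D1374 (iv D1374)
theorem F6966 : act 9 n1374 = n960 := d29_2 (iv F4966) D1374 (iv D960)
def n1375 : Q := act 5 n955
theorem D1375 : act 5 n955 = n1375 := rfl
theorem F6967 : act 1 n1375 = n957 := d12_1 D1375 (iv D957) (iv F4962)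
theorem F6968 : act 2 n1375 = n1375 := d19_1 D1375 (iv D1375) F4963
theorem F6969 : act 4 n1375 = n968 := d30_1 D1375 (iv D968) (iv D668) (iv F3500) D955
theorem F6970 : act 7 n1375 = n1375 := d36_2 F4964 D1375 (iv D1375)
theorem F6971 : act 8 n1375 = n1375 := d37_2 F4965 D1375 (iv D1375)
theorem F6972 : act 9 n1375 = n961 := d38_2 (iv F4966) D1375 (iv D961)
def n1376 : Q := act 5 n956
theorem D1376 : act 5 n956 = n1376 := rfl
theorem F6973 : act 3 n1376 = n957 := d25_1 D1376 (iv D957) D956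
theorem F6974 : act 7 n1376 = n1376 := d36_2 F4968 D1376 (iv D1376)
theorem F6975 : act 9 n1376 = n962 := d38_2 (iv F4969) D1376 (iv D962)
def n1377 : Q := act 8 n956
theorem D1377 : act 8 n956 = n1377 := rfl
theorem F6976 : act 3 n1377 = n1377 := d28_1 D1377 (iv D1377) (iv D956) F3506 D956
theorem F6977 : act 4 n1377 = n1377 := d33_1 D1377 (iv D1377) F4967
theorem F6978 : act 7 n1377 = n1377 := d42_1 D1377 (iv D1377) F4968
def n1378 : Q := act 6 n957
theorem D1378 : act 6 n957 = n1378 := rfl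
theorem F6979 : act 2 n1378 = n958 := d20_1 D1378 (iv D958) (iv F4970)
theorem F6980 : act 4 n1378 = n971 := d31_1 D1378 (iv D971) (iv F4971)
theorem F6981 : act 8 n1378 = n1378 := d40_2 F4973 D1378 (iv D1378)
theorem F6982 : act 9 n1378 = n964 := d41_2 (iv F4974) D1378 (iv D964)
def n1379 : Q := act 7 n958
theorem D1379 : act 7 n958 = n1379 := rfl
theorem F6983 : act 1 n1379 = n1379 := d14_1 D1379 (iv D1379) F4975
theorem F6984 : act 4 n1379 = n972 := d32_1 D1379 (iv D972) (iv F4976)
theorem F6985 : act 6 n1379 = n1379 := d39_1 D1379 (iv D1379) (iv D958) F3510 D958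
theorem F6986 : act 8 n1379 = n1379 := d42_2 F4977 D1379 (iv D1379)
theorem F6987 : act 9 n1379 = n965 := d43_2 (iv F4978) D1379 (iv D965)
def n1380 : Q := act 3 n959
theorem D1380 : act 3 n959 = n1380 := rfl
theorem F6988 : act 0 n1380 = n960 := d2_1 D1380 (iv D960) (iv F4979)
theorem F6989 : act 4 n1380 = n1380 := d24_2 D959 D1380 (iv D1380) (iv D959) F3514
theorem F6990 : act 7 n1380 = n1380 := d27_2 F4981 D1380 (iv D1380)
def n1381 : Q := act 5 n959
theorem D1381 : act 5 n959 = n1381 := rfl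
theorem F6991 : act 0 n1381 = n961 := d4_1 D1381 (iv D961) (iv F4979)
theorem F6992 : act 2 n1381 = n1381 := d19_1 D1381 (iv D1381) F4980
theorem F6993 : act 4 n1381 = n974 := d30_1 D1381 (iv D974) (iv D672) (iv F3515) D959
theorem F6994 : act 7 n1381 = n1381 := d36_2 F4981 D1381 (iv D1381)
theorem F6995 : act 8 n1381 = n994 := d37_2 (iv F4982) D1381 (iv D994)
def n1382 : Q := act 2 n960
theorem D1382 : act 2 n960 = n1382 := rfl
def n1383 : Q := act 5 n960
theorem D1383 : act 5 n960 = n1383 := rfl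
theorem F6999 : act 1 n1383 = n962 := d12_1 D1383 (iv D962) (iv F4983)
theorem F7000 : act 3 n1383 = n961 := d25_1 D1383 (iv D961) D960
theorem F7001 : act 7 n1383 = n1383 := d36_2 F4985 D1383 (iv D1383)
def n1384 : Q := act 8 n960
theorem D1384 : act 8 n960 = n1384 := rfl
theorem F7002 : act 1 n1384 = n963 := d15_1 D1384 (iv D963) (iv F4983)
theorem F7003 : act 3 n1384 = n997 := d28_1 D1384 (iv D997) (iv D687) (iv F3521) D960
def n1385 : Q := act 6 n961
theorem D1385 : act 6 n961 = n1385 := rfl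
theorem F7006 : act 1 n1385 = n964 := d13_1 D1385 (iv D964) (iv F4986)
theorem F7007 : act 2 n1385 = n1385 := d20_1 D1385 (iv D1385) F4987
theorem F7008 : act 4 n1385 = n977 := d31_1 D1385 (iv D977) (iv F4988)
theorem F7009 : act 8 n1385 = n998 := d40_2 (iv F4990) D1385 (iv D998)
def n1386 : Q := act 4 n962
theorem D1386 : act 4 n962 = n1386 := rfl
theorem F7010 : act 3 n1386 = n978 := d24_1 D1386 (iv D978) F3572 (iv F3525) (iv F4991)
theorem F7011 : act 5 n1386 = n1386 := d30_2 D962 D1386 (iv D1386) (iv D962) F3522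
theorem F7012 : act 7 n1386 = n1386 := d32_2 F4992 D1386 (iv D1386)
def n1387 : Q := act 6 n962
theorem D1387 : act 6 n962 = n1387 := rfl
theorem F7013 : act 3 n1387 = n964 := d26_1 D1387 (iv D964) (iv F4991)
def n1388 : Q := act 8 n962
theorem D1388 : act 8 n962 = n1388 := rfl
theorem F7014 : act 3 n1388 = n1000 := d28_1 D1388 (iv D1000) F3633 (iv F3527) (iv F4991)
theorem F7015 : act 5 n1388 = n963 := d37_1 D1388 (iv D963) D962
theorem F7016 : act 7 n1388 = n1388 := d42_1 D1388 (iv D1388) F4992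
def n1389 : Q := act 9 n963
theorem D1389 : act 9 n963 = n1389 := rfl
def n1390 : Q := act 7 n964
theorem D1390 : act 7 n964 = n1390 := rfl
theorem F7020 : act 2 n1390 = n965 := d21_1 D1390 (iv D965) (iv F4996)
theorem F7021 : act 4 n1390 = n980 := d32_1 D1390 (iv D980) (iv F4997)
theorem F7022 : act 6 n1390 = n1390 := d39_1 D1390 (iv D1390) (iv D964) F3526 D964
theorem F7023 : act 8 n1390 = n1002 := d42_2 (iv F4998) D1390 (iv D1002)
def n1391 : Q := act 3 n966
theorem D1391 : act 3 n966 = n1391 := rfl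
theorem F7024 : act 0 n1391 = n967 := d2_1 D1391 (iv D967) (iv F5003)
theorem F7025 : act 4 n1391 = n1391 := d24_2 D966 D1391 (iv D1391) (iv D966) F3532
theorem F7026 : act 6 n1391 = n1391 := d26_2 F5005 D1391 (iv D1391)
theorem F7027 : act 7 n1391 = n1391 := d27_2 F5006 D1391 (iv D1391)
theorem F7028 : act 9 n1391 = n973 := d29_2 (iv F5008) D1391 (iv D973)
def n1392 : Q := act 5 n966
theorem D1392 : act 5 n966 = n1392 := rfl
theorem F7029 : act 0 n1392 = n968 := d4_1 D1392 (iv D968) (iv F5003)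
theorem F7030 : act 2 n1392 = n1392 := d19_1 D1392 (iv D1392) F5004
theorem F7031 : act 7 n1392 = n1392 := d36_2 F5006 D1392 (iv D1392)
theorem F7032 : act 8 n1392 = n1392 := d37_2 F5007 D1392 (iv D1392)
theorem F7033 : act 9 n1392 = n974 := d38_2 (iv F5008) D1392 (iv D974)
def n1393 : Q := act 2 n967
theorem D1393 : act 2 n967 = n1393 := rfl
theorem F7034 : act 1 n1393 = n1393 := d9_1 D1393 (iv D1393) F5009 F3543 (iv F5009)
theorem F7035 : act 3 n1393 = n1393 := d17_2 D967 D1393 (iv D1393) (iv D967) F3538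
theorem F7036 : act 4 n1393 = n1393 := d18_2 F5010 D1393 (iv D1393)
theorem F7037 : act 6 n1393 = n1393 := d20_2 F5011 D1393 (iv D1393)
theorem F7038 : act 7 n1393 = n1393 := d21_2 F5012 D1393 (iv D1393)
theorem F7039 : act 9 n1393 = n975 := d23_2 (iv F5013) D1393 (iv D975)
def n1394 : Q := act 5 n967
theorem D1394 : act 5 n967 = n1394 := rfl
theorem F7040 : act 1 n1394 = n969 := d12_1 D1394 (iv D969) (iv F5009)
theorem F7041 : act 3 n1394 = n968 := d25_1 D1394 (iv D968) D967
theorem F7042 : act 7 n1394 = n1394 := d36_2 F5012 D1394 (iv D1394)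
theorem F7043 : act 9 n1394 = n976 := d38_2 (iv F5013) D1394 (iv D976)
def n1395 : Q := act 8 n967
theorem D1395 : act 8 n967 = n1395 := rfl
theorem F7044 : act 1 n1395 = n970 := d15_1 D1395 (iv D970) (iv F5009)
theorem F7045 : act 3 n1395 = n1395 := d28_1 D1395 (iv D1395) (iv D967) F3541 D967
theorem F7046 : act 4 n1395 = n1395 := d33_1 D1395 (iv D1395) F5010
theorem F7047 : act 6 n1395 = n1395 := d40_1 D1395 (iv D1395) F5011
theorem F7048 : act 7 n1395 = n1395 := d42_1 D1395 (iv D1395) F5012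
theorem F7049 : act 9 n1395 = n1395 := d44_2 (iv F5013) D1395 (iv D1395) F5013 F3566
def n1396 : Q := act 6 n968
theorem D1396 : act 6 n968 = n1396 := rfl
theorem F7050 : act 1 n1396 = n971 := d13_1 D1396 (iv D971) (iv F5014)
theorem F7051 : act 2 n1396 = n1396 := d20_1 D1396 (iv D1396) F5015
theorem F7052 : act 5 n1396 = n1396 := d35_1 D1396 (iv D1396) (iv D968) F3539 D968
theorem F7053 : act 8 n1396 = n1396 := d40_2 F5017 D1396 (iv D1396)
theorem F7054 : act 9 n1396 = n977 := d41_2 (iv F5018) D1396 (iv D977)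
def n1397 : Q := act 4 n969
theorem D1397 : act 4 n969 = n1397 := rfl
theorem F7055 : act 2 n1397 = n1397 := d18_1 D1397 (iv D1397) F5019
theorem F7056 : act 5 n1397 = n1397 := d30_2 D969 D1397 (iv D1397) (iv D969) F3544
theorem F7057 : act 7 n1397 = n1397 := d32_2 F5021 D1397 (iv D1397)
theorem F7058 : act 9 n1397 = n978 := d34_2 (iv F5022) D1397 (iv D978)
def n1398 : Q := act 6 n969
theorem D1398 : act 6 n969 = n1398 := rfl
theorem F7059 : act 2 n1398 = n1398 := d20_1 D1398 (iv D1398) F5019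
theorem F7060 : act 3 n1398 = n971 := d26_1 D1398 (iv D971) (iv F5020)
theorem F7061 : act 5 n1398 = n1398 := d35_1 D1398 (iv D1398) (iv D969) F3545 D969
theorem F7062 : act 9 n1398 = n979 := d41_2 (iv F5022) D1398 (iv D979)
def n1399 : Q := act 8 n969
theorem D1399 : act 8 n969 = n1399 := rfl
theorem F7063 : act 2 n1399 = n1399 := d22_1 D1399 (iv D1399) F5019
theorem F7064 : act 3 n1399 = n1399 := d28_1 D1399 (iv D1399) F5020 F3550 (iv F5020)
theorem F7065 : act 5 n1399 = n970 := d37_1 D1399 (iv D970) D969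
theorem F7066 : act 7 n1399 = n1399 := d42_1 D1399 (iv D1399) F5021
theorem F7067 : act 9 n1399 = n1399 := d44_2 (iv F5022) D1399 (iv D1399) F5022 F3574
def n1400 : Q := act 7 n971
theorem D1400 : act 7 n971 = n1400 := rfl
theorem F7068 : act 2 n1400 = n972 := d21_1 D1400 (iv D972) (iv F5029)
theorem F7069 : act 5 n1400 = n1400 := d36_1 D1400 (iv D1400) F5030
theorem F7070 : act 6 n1400 = n1400 := d39_1 D1400 (iv D1400) (iv D971) F3549 D971
theorem F7071 : act 8 n1400 = n1400 := d42_2 F5031 D1400 (iv D1400)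
theorem F7072 : act 9 n1400 = n980 := d43_2 (iv F5032) D1400 (iv D980)
def n1401 : Q := act 2 n973
theorem D1401 : act 2 n973 = n1401 := rfl
theorem F7073 : act 0 n1401 = n975 := d1_1 D1401 (iv D975) (iv F5039)
theorem F7074 : act 3 n1401 = n1401 := d17_2 D973 D1401 (iv D1401) (iv D973) F3558
theorem F7075 : act 4 n1401 = n1401 := d18_2 F5040 D1401 (iv D1401)
theorem F7076 : act 6 n1401 = n1401 := d20_2 F5041 D1401 (iv D1401)
theorem F7077 : act 7 n1401 = n1401 := d21_2 F5042 D1401 (iv D1401)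
theorem F7078 : act 8 n1401 = n1401 := d22_2 F5043 D1401 (iv D1401)
def n1402 : Q := act 5 n973
theorem D1402 : act 5 n973 = n1402 := rfl
theorem F7079 : act 0 n1402 = n976 := d4_1 D1402 (iv D976) (iv F5039)
theorem F7080 : act 3 n1402 = n974 := d25_1 D1402 (iv D974) D973
theorem F7081 : act 7 n1402 = n1402 := d36_2 F5042 D1402 (iv D1402)
theorem F7082 : act 8 n1402 = n1402 := d37_2 F5043 D1402 (iv D1402)
def n1403 : Q := act 6 n974
theorem D1403 : act 6 n974 = n1403 := rfl
theorem F7083 : act 0 n1403 = n977 := d5_1 D1403 (iv D977) (iv F5044)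
theorem F7084 : act 2 n1403 = n1403 := d20_1 D1403 (iv D1403) F5045
theorem F7085 : act 5 n1403 = n1403 := d35_1 D1403 (iv D1403) (iv D974) F3559 D974
theorem F7086 : act 8 n1403 = n1003 := d40_2 (iv F5047) D1403 (iv D1003)
def n1404 : Q := act 5 n975
theorem D1404 : act 5 n975 = n1404 := rfl
theorem F7087 : act 1 n1404 = n1404 := d12_1 D1404 (iv D1404) F5048
theorem F7088 : act 2 n1404 = n976 := d19_1 D1404 (iv D976) D975
theorem F7089 : act 3 n1404 = n1404 := d25_1 D1404 (iv D1404) F5049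
theorem F7090 : act 7 n1404 = n1404 := d36_2 F5052 D1404 (iv D1404)
theorem F7091 : act 8 n1404 = n1404 := d37_2 F5053 D1404 (iv D1404)
def n1405 : Q := act 4 n976
theorem D1405 : act 4 n976 = n1405 := rfl
theorem F7092 : act 1 n1405 = n978 := d11_1 D1405 (iv D978) (iv F5054)
theorem F7093 : act 5 n1405 = n1405 := d30_2 D976 D1405 (iv D1405) (iv D976) F3563
theorem F7094 : act 7 n1405 = n1405 := d32_2 F5056 D1405 (iv D1405)
theorem F7095 : act 8 n1405 = n1405 := d33_2 F5057 D1405 (iv D1405)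
def n1406 : Q := act 6 n976
theorem D1406 : act 6 n976 = n1406 := rfl
theorem F7096 : act 1 n1406 = n979 := d13_1 D1406 (iv D979) (iv F5054)
theorem F7097 : act 3 n1406 = n977 := d26_1 D1406 (iv D977) (iv F5055)
theorem F7098 : act 5 n1406 = n1406 := d35_1 D1406 (iv D1406) (iv D976) F3564 D976
theorem F7099 : act 8 n1406 = n1406 := d40_2 F5057 D1406 (iv D1406)
def n1407 : Q := act 7 n977
theorem D1407 : act 7 n977 = n1407 := rfl
theorem F7100 : act 1 n1407 = n980 := d14_1 D1407 (iv D980) (iv F5058)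
theorem F7101 : act 2 n1407 = n1407 := d21_1 D1407 (iv D1407) F5059
theorem F7102 : act 5 n1407 = n1407 := d36_1 D1407 (iv D1407) F5060
theorem F7103 : act 6 n1407 = n1407 := d39_1 D1407 (iv D1407) (iv D977) F3569 D977
theorem F7104 : act 8 n1407 = n1004 := d42_2 (iv F5061) D1407 (iv D1004)
def n1408 : Q := act 6 n978
theorem D1408 : act 6 n978 = n1408 := rfl
theorem F7105 : act 2 n1408 = n1408 := d20_1 D1408 (iv D1408) F5062
theorem F7106 : act 4 n1408 = n979 := d31_1 D1408 (iv D979) D978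
theorem F7107 : act 8 n1408 = n1408 := d40_2 F5065 D1408 (iv D1408)
def n1409 : Q := act 7 n979
theorem D1409 : act 7 n979 = n1409 := rfl
theorem F7108 : act 2 n1409 = n1409 := d21_1 D1409 (iv D1409) F5066
theorem F7109 : act 3 n1409 = n980 := d27_1 D1409 (iv D980) (iv F5067)
theorem F7110 : act 5 n1409 = n1409 := d36_1 D1409 (iv D1409) F5068
theorem F7111 : act 6 n1409 = n1409 := d39_1 D1409 (iv D1409) (iv D979) F3573 D979
theorem F7112 : act 8 n1409 = n1409 := d42_2 F5069 D1409 (iv D1409)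
def n1410 : Q := act 4 n981
theorem D1410 : act 4 n981 = n1410 := rfl
theorem F7113 : act 0 n1410 = n982 := d3_1 D1410 (iv D982) D981
theorem F7114 : act 2 n1410 = n1410 := d18_1 D1410 (iv D1410) F5074
theorem F7115 : act 6 n1410 = n1410 := d31_2 F5077 D1410 (iv D1410)
theorem F7116 : act 7 n1410 = n986 := d32_2 (iv F5078) D1410 (iv D986)
theorem F7117 : act 9 n1410 = n1410 := d34_2 F5079 D1410 (iv D1410)
def n1411 : Q := act 3 n982
theorem D1411 : act 3 n982 = n1411 := rfl
theorem F7118 : act 1 n1411 = n983 := d10_1 D1411 (iv D983) (iv F5080)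
theorem F7119 : act 4 n1411 = n1006 := d24_2 D982 D1411 (iv D1006) (iv D697) (iv F3584)
theorem F7120 : act 6 n1411 = n1411 := d26_2 F5082 D1411 (iv D1411)
theorem F7121 : act 7 n1411 = n987 := d27_2 (iv F5083) D1411 (iv D987)
theorem F7122 : act 9 n1411 = n1411 := d29_2 F5084 D1411 (iv D1411)
def n1412 : Q := act 5 n982
theorem D1412 : act 5 n982 = n1412 := rfl
theorem F7123 : act 1 n1412 = n984 := d12_1 D1412 (iv D984) (iv F5080)
theorem F7124 : act 2 n1412 = n1412 := d19_1 D1412 (iv D1412) F5081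
theorem F7125 : act 4 n1412 = n1412 := d30_1 D1412 (iv D1412) (iv D982) F3585 D982
theorem F7126 : act 7 n1412 = n988 := d36_2 (iv F5083) D1412 (iv D988)
theorem F7127 : act 9 n1412 = n1412 := d38_2 F5084 D1412 (iv D1412)
def n1413 : Q := act 5 n983
theorem D1413 : act 5 n983 = n1413 := rfl
theorem F7128 : act 2 n1413 = n1413 := d19_1 D1413 (iv D1413) F5085
theorem F7129 : act 3 n1413 = n984 := d25_1 D1413 (iv D984) D983
theorem F7130 : act 7 n1413 = n989 := d36_2 (iv F5088) D1413 (iv D989)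
theorem F7131 : act 9 n1413 = n1413 := d38_2 F5089 D1413 (iv D1413)
def n1414 : Q := act 8 n983
theorem D1414 : act 8 n983 = n1414 := rfl
theorem F7132 : act 2 n1414 = n1414 := d22_1 D1414 (iv D1414) F5085
theorem F7133 : act 4 n1414 = n1009 := d33_1 D1414 (iv D1009) (iv F5086)
theorem F7134 : act 6 n1414 = n1414 := d40_1 D1414 (iv D1414) F5087
theorem F7135 : act 7 n1414 = n990 := d42_1 D1414 (iv D990) (iv F5088)
def n1415 : Q := act 6 n984
theorem D1415 : act 6 n984 = n1415 := rfl
theorem F7136 : act 2 n1415 = n985 := d20_1 D1415 (iv D985) (iv F5090)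
theorem F7137 : act 4 n1415 = n1415 := d31_1 D1415 (iv D1415) F5091
theorem F7138 : act 5 n1415 = n1415 := d35_1 D1415 (iv D1415) (iv D984) F3590 D984
theorem F7139 : act 9 n1415 = n1415 := d41_2 F5093 D1415 (iv D1415)
def n1416 : Q := act 7 n985
theorem D1416 : act 7 n985 = n1416 := rfl
theorem F7140 : act 1 n1416 = n1416 := d14_1 D1416 (iv D1416) F5094
theorem F7141 : act 3 n1416 = n1416 := d27_1 D1416 (iv D1416) F5095
theorem F7142 : act 4 n1416 = n1416 := d32_1 D1416 (iv D1416) F5096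
theorem F7143 : act 5 n1416 = n1416 := d36_1 D1416 (iv D1416) F5097
theorem F7144 : act 6 n1416 = n992 := d39_1 D1416 (iv D992) (iv D685) (iv F3596) D985
theorem F7145 : act 9 n1416 = n1416 := d43_2 F5098 D1416 (iv D1416)
def n1417 : Q := act 3 n986
theorem D1417 : act 3 n986 = n1417 := rfl
theorem F7146 : act 0 n1417 = n987 := d2_1 D1417 (iv D987) (iv F5099)
theorem F7147 : act 4 n1417 = n1011 := d24_2 D986 D1417 (iv D1011) (iv D701) (iv F3599)
theorem F7148 : act 6 n1417 = n993 := d26_2 (iv F5101) D1417 (iv D993)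
theorem F7149 : act 9 n1417 = n1417 := d29_2 F5102 D1417 (iv D1417)
def n1418 : Q := act 5 n986
theorem D1418 : act 5 n986 = n1418 := rfl
theorem F7150 : act 0 n1418 = n988 := d4_1 D1418 (iv D988) (iv F5099)
theorem F7151 : act 2 n1418 = n1418 := d19_1 D1418 (iv D1418) F5100
theorem F7152 : act 4 n1418 = n1418 := d30_1 D1418 (iv D1418) (iv D986) F3600 D986
theorem F7153 : act 9 n1418 = n1418 := d38_2 F5102 D1418 (iv D1418)
def n1419 : Q := act 2 n987
theorem D1419 : act 2 n987 = n1419 := rfl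
theorem F7156 : act 4 n1419 = n1013 := d18_2 (iv F5104) D1419 (iv D1013)
theorem F7157 : act 6 n1419 = n995 := d20_2 (iv F5105) D1419 (iv D995)
def n1420 : Q := act 5 n987
theorem D1420 : act 5 n987 = n1420 := rfl
theorem F7159 : act 1 n1420 = n989 := d12_1 D1420 (iv D989) (iv F5103)
theorem F7160 : act 3 n1420 = n988 := d25_1 D1420 (iv D988) D987
theorem F7161 : act 9 n1420 = n1420 := d38_2 F5106 D1420 (iv D1420)
def n1421 : Q := act 8 n987
theorem D1421 : act 8 n987 = n1421 := rfl
theorem F7162 : act 1 n1421 = n990 := d15_1 D1421 (iv D990) (iv F5103)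
theorem F7163 : act 4 n1421 = n1015 := d33_1 D1421 (iv D1015) (iv F5104)
theorem F7164 : act 6 n1421 = n997 := d40_1 D1421 (iv D997) (iv F5105)
def n1422 : Q := act 6 n988
theorem D1422 : act 6 n988 = n1422 := rfl
theorem F7165 : act 1 n1422 = n991 := d13_1 D1422 (iv D991) (iv F5107)
theorem F7166 : act 2 n1422 = n1422 := d20_1 D1422 (iv D1422) F5108
theorem F7167 : act 4 n1422 = n1422 := d31_1 D1422 (iv D1422) F5109
theorem F7168 : act 5 n1422 = n998 := d35_1 D1422 (iv D998) (iv D688) (iv F3605) D988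
theorem F7169 : act 9 n1422 = n1422 := d41_2 F5110 D1422 (iv D1422)
def n1423 : Q := act 4 n989
theorem D1423 : act 4 n989 = n1423 := rfl
theorem F7170 : act 2 n1423 = n1423 := d18_1 D1423 (iv D1423) F5111
theorem F7171 : act 3 n1423 = n1423 := d24_1 D1423 (iv D1423) F5112 F3612 (iv F5112)
theorem F7172 : act 5 n1423 = n1016 := d30_2 D989 D1423 (iv D1016) (iv D704) (iv F3608)
theorem F7173 : act 9 n1423 = n1423 := d34_2 F5113 D1423 (iv D1423)
def n1424 : Q := act 6 n989
theorem D1424 : act 6 n989 = n1424 := rfl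
theorem F7174 : act 2 n1424 = n1424 := d20_1 D1424 (iv D1424) F5111
theorem F7175 : act 3 n1424 = n991 := d26_1 D1424 (iv D991) (iv F5112)
theorem F7176 : act 5 n1424 = n999 := d35_1 D1424 (iv D999) (iv D689) (iv F3609) D989
theorem F7177 : act 9 n1424 = n1424 := d41_2 F5113 D1424 (iv D1424)
def n1425 : Q := act 8 n989
theorem D1425 : act 8 n989 = n1425 := rfl
theorem F7178 : act 2 n1425 = n1425 := d22_1 D1425 (iv D1425) F5111
theorem F7179 : act 5 n1425 = n990 := d37_1 D1425 (iv D990) D989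
def n1426 : Q := act 9 n990
theorem D1426 : act 9 n990 = n1426 := rfl
def n1427 : Q := act 7 n991
theorem D1427 : act 7 n991 = n1427 := rfl
theorem F7184 : act 2 n1427 = n992 := d21_1 D1427 (iv D992) (iv F5117)
theorem F7185 : act 4 n1427 = n1427 := d32_1 D1427 (iv D1427) F5118
theorem F7186 : act 5 n1427 = n1002 := d36_1 D1427 (iv D1002) (iv F5119)
theorem F7187 : act 9 n1427 = n1427 := d43_2 F5120 D1427 (iv D1427)
def n1428 : Q := act 2 n993
theorem D1428 : act 2 n993 = n1428 := rfl
def n1429 : Q := act 5 n993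
theorem D1429 : act 5 n993 = n1429 := rfl
theorem F7193 : act 0 n1429 = n996 := d4_1 D1429 (iv D996) (iv F5126)
theorem F7194 : act 3 n1429 = n994 := d25_1 D1429 (iv D994) D993
theorem F7195 : act 4 n1429 = n1429 := d30_1 D1429 (iv D1429) F5127 F3713 (iv F5127)
theorem F7196 : act 7 n1429 = n1429 := d36_2 F5128 D1429 (iv D1429)
theorem F7197 : act 9 n1429 = n1429 := d38_2 F5129 D1429 (iv D1429)
def n1430 : Q := act 8 n993
theorem D1430 : act 8 n993 = n1430 := rfl
def n1431 : Q := act 6 n994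
theorem D1431 : act 6 n994 = n1431 := rfl
theorem F7201 : act 0 n1431 = n998 := d5_1 D1431 (iv D998) (iv F5130)
theorem F7202 : act 2 n1431 = n1431 := d20_1 D1431 (iv D1431) F5131
theorem F7203 : act 4 n1431 = n1003 := d31_1 D1431 (iv D1003) (iv F5132)
theorem F7204 : act 9 n1431 = n1431 := d41_2 F5134 D1431 (iv D1431)
def n1432 : Q := act 5 n995
theorem D1432 : act 5 n995 = n1432 := rfl
theorem F7206 : act 2 n1432 = n996 := d19_1 D1432 (iv D996) D995
def n1433 : Q := act 8 n995
theorem D1433 : act 8 n995 = n1433 := rfl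
theorem F7212 : act 2 n1433 = n997 := d22_1 D1433 (iv D997) D995
def n1434 : Q := act 6 n996
theorem D1434 : act 6 n996 = n1434 := rfl
theorem F7215 : act 1 n1434 = n999 := d13_1 D1434 (iv D999) (iv F5140)
theorem F7216 : act 3 n1434 = n998 := d26_1 D1434 (iv D998) (iv F5141)
theorem F7217 : act 4 n1434 = n1434 := d31_1 D1434 (iv D1434) F5142
theorem F7218 : act 9 n1434 = n1434 := d41_2 F5144 D1434 (iv D1434)
def n1435 : Q := act 8 n996
theorem D1435 : act 8 n996 = n1435 := rfl
theorem F7219 : act 1 n1435 = n1000 := d15_1 D1435 (iv D1000) (iv F5140)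
theorem F7221 : act 5 n1435 = n997 := d37_1 D1435 (iv D997) D996
def n1436 : Q := act 9 n997
theorem D1436 : act 9 n997 = n1436 := rfl
theorem F7223 : act 1 n1436 = n1001 := d16_1 D1436 (iv D1001) (iv F5145)
def n1437 : Q := act 7 n998
theorem D1437 : act 7 n998 = n1437 := rfl
theorem F7227 : act 1 n1437 = n1002 := d14_1 D1437 (iv D1002) (iv F5148)
theorem F7228 : act 2 n1437 = n1437 := d21_1 D1437 (iv D1437) F5149
theorem F7229 : act 4 n1437 = n1004 := d32_1 D1437 (iv D1004) (iv F5150)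
theorem F7230 : act 6 n1437 = n1437 := d39_1 D1437 (iv D1437) (iv D998) F3630 D998
theorem F7231 : act 9 n1437 = n1437 := d43_2 F5151 D1437 (iv D1437)
def n1438 : Q := act 7 n999
theorem D1438 : act 7 n999 = n1438 := rfl
theorem F7232 : act 2 n1438 = n1438 := d21_1 D1438 (iv D1438) F5152
theorem F7233 : act 3 n1438 = n1002 := d27_1 D1438 (iv D1002) (iv F5153)
theorem F7234 : act 4 n1438 = n1438 := d32_1 D1438 (iv D1438) F5154
theorem F7235 : act 6 n1438 = n1438 := d39_1 D1438 (iv D1438) (iv D999) F3635 D999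
theorem F7236 : act 9 n1438 = n1438 := d43_2 F5155 D1438 (iv D1438)
def n1439 : Q := act 8 n999
theorem D1439 : act 8 n999 = n1439 := rfl
theorem F7237 : act 2 n1439 = n1439 := d22_1 D1439 (iv D1439) F5152
theorem F7238 : act 4 n1439 = n1439 := d33_1 D1439 (iv D1439) F5154
theorem F7239 : act 6 n1439 = n1000 := d40_1 D1439 (iv D1000) D999
def n1440 : Q := act 9 n1000
theorem D1440 : act 9 n1000 = n1440 := rfl
def n1441 : Q := act 7 n1003
theorem D1441 : act 7 n1003 = n1441 := rfl
theorem F7245 : act 0 n1441 = n1004 := d6_1 D1441 (iv D1004) (iv F5168)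
theorem F7246 : act 2 n1441 = n1441 := d21_1 D1441 (iv D1441) F5169
theorem F7247 : act 3 n1441 = n1441 := d27_1 D1441 (iv D1441) F5170
theorem F7248 : act 5 n1441 = n1441 := d36_1 D1441 (iv D1441) F5171
theorem F7249 : act 6 n1441 = n1441 := d39_1 D1441 (iv D1441) (iv D1003) F3651 D1003
theorem F7250 : act 9 n1441 = n1441 := d43_2 F5172 D1441 (iv D1441)
def n1442 : Q := act 3 n1005
theorem D1442 : act 3 n1005 = n1442 := rfl
theorem F7251 : act 0 n1442 = n1006 := d2_1 D1442 (iv D1006) (iv F5179)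
theorem F7252 : act 6 n1442 = n1442 := d26_2 F5181 D1442 (iv D1442)
theorem F7253 : act 7 n1442 = n1011 := d27_2 (iv F5182) D1442 (iv D1011)
theorem F7254 : act 9 n1442 = n1442 := d29_2 F5184 D1442 (iv D1442)
def n1443 : Q := act 5 n1005
theorem D1443 : act 5 n1005 = n1443 := rfl
theorem F7255 : act 0 n1443 = n1007 := d4_1 D1443 (iv D1007) (iv F5179)
theorem F7256 : act 2 n1443 = n1024 := d19_1 D1443 (iv D1024) (iv F5180)
theorem F7257 : act 4 n1443 = n1443 := d30_1 D1443 (iv D1443) (iv D1005) F3664 D1005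
theorem F7258 : act 7 n1443 = n1012 := d36_2 (iv F5182) D1443 (iv D1012)
theorem F7259 : act 8 n1443 = n1443 := d37_2 F5183 D1443 (iv D1443)
theorem F7260 : act 9 n1443 = n1443 := d38_2 F5184 D1443 (iv D1443)
def n1444 : Q := act 2 n1006
theorem D1444 : act 2 n1006 = n1444 := rfl
theorem F7261 : act 1 n1444 = n1444 := d9_1 D1444 (iv D1444) F5185 F3675 (iv F5185)
theorem F7262 : act 3 n1444 = n1025 := d17_2 D1006 D1444 (iv D1025) (iv D711) (iv F3670)
theorem F7264 : act 7 n1444 = n1013 := d21_2 (iv F5187) D1444 (iv D1013)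
def n1445 : Q := act 5 n1006
theorem D1445 : act 5 n1006 = n1445 := rfl
theorem F7266 : act 1 n1445 = n1008 := d12_1 D1445 (iv D1008) (iv F5185)
theorem F7267 : act 3 n1445 = n1007 := d25_1 D1445 (iv D1007) D1006
theorem F7268 : act 7 n1445 = n1014 := d36_2 (iv F5187) D1445 (iv D1014)
theorem F7269 : act 9 n1445 = n1445 := d38_2 F5188 D1445 (iv D1445)
def n1446 : Q := act 8 n1006
theorem D1446 : act 8 n1006 = n1446 := rfl
def n1447 : Q := act 6 n1007
theorem D1447 : act 6 n1007 = n1447 := rfl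
theorem F7274 : act 1 n1447 = n1010 := d13_1 D1447 (iv D1010) (iv F5189)
theorem F7275 : act 2 n1447 = n1028 := d20_1 D1447 (iv D1028) (iv F5190)
theorem F7276 : act 4 n1447 = n1447 := d31_1 D1447 (iv D1447) F5191
theorem F7277 : act 5 n1447 = n1447 := d35_1 D1447 (iv D1447) (iv D1007) F3671 D1007
theorem F7278 : act 7 n1447 = n1447 := d39_2 (iv F5192) D1447 (iv D1447) F5192 F3702
theorem F7279 : act 8 n1447 = n1447 := d40_2 F5193 D1447 (iv D1447)
theorem F7280 : act 9 n1447 = n1447 := d41_2 F5194 D1447 (iv D1447)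
def n1448 : Q := act 4 n1008
theorem D1448 : act 4 n1008 = n1448 := rfl
theorem F7281 : act 2 n1448 = n1448 := d18_1 D1448 (iv D1448) F5195
theorem F7282 : act 3 n1448 = n1448 := d24_1 D1448 (iv D1448) F5196 F3680 (iv F5196)
theorem F7283 : act 7 n1448 = n1016 := d32_2 (iv F5197) D1448 (iv D1016)
theorem F7284 : act 9 n1448 = n1448 := d34_2 F5198 D1448 (iv D1448)
def n1449 : Q := act 6 n1008
theorem D1449 : act 6 n1008 = n1449 := rfl
theorem F7285 : act 2 n1449 = n1449 := d20_1 D1449 (iv D1449) F5195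
theorem F7286 : act 3 n1449 = n1010 := d26_1 D1449 (iv D1010) (iv F5196)
theorem F7287 : act 5 n1449 = n1449 := d35_1 D1449 (iv D1449) (iv D1008) F3676 D1008
theorem F7288 : act 7 n1449 = n1449 := d39_2 (iv F5197) D1449 (iv D1449) F5197 F3707
theorem F7289 : act 9 n1449 = n1449 := d41_2 F5198 D1449 (iv D1449)
def n1450 : Q := act 8 n1008
theorem D1450 : act 8 n1008 = n1450 := rfl
theorem F7290 : act 2 n1450 = n1450 := d22_1 D1450 (iv D1450) F5195
theorem F7291 : act 3 n1450 = n1450 := d28_1 D1450 (iv D1450) F5196 F3682 (iv F5196)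
theorem F7292 : act 5 n1450 = n1009 := d37_1 D1450 (iv D1009) D1008
theorem F7293 : act 7 n1450 = n1017 := d42_1 D1450 (iv D1017) (iv F5197)
def n1452 : Q := act 2 n1011
theorem D1452 : act 2 n1011 = n1452 := rfl
theorem F7300 : act 3 n1452 = n1033 := d17_2 D1011 D1452 (iv D1033) (iv D716) (iv F3692)
theorem F7301 : act 6 n1452 = n1019 := d20_2 (iv F5210) D1452 (iv D1019)
def n1453 : Q := act 5 n1011
theorem D1453 : act 5 n1011 = n1453 := rfl
theorem F7303 : act 0 n1453 = n1014 := d4_1 D1453 (iv D1014) (iv F5209)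
theorem F7304 : act 3 n1453 = n1012 := d25_1 D1453 (iv D1012) D1011
theorem F7305 : act 6 n1453 = n1453 := d35_2 (iv F5210) D1453 (iv D1453) F5210 F3713
theorem F7306 : act 9 n1453 = n1453 := d38_2 F5211 D1453 (iv D1453)
def n1454 : Q := act 8 n1011
theorem D1454 : act 8 n1011 = n1454 := rfl
theorem F7309 : act 6 n1454 = n1020 := d40_1 D1454 (iv D1020) (iv F5210)
def n1455 : Q := act 5 n1013
theorem D1455 : act 5 n1013 = n1455 := rfl
theorem F7312 : act 3 n1455 = n1036 := d25_1 D1455 (iv D1036) (iv F5219)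
def n1456 : Q := act 8 n1013
theorem D1456 : act 8 n1013 = n1456 := rfl
theorem F7317 : act 6 n1456 = n1021 := d40_1 D1456 (iv D1021) (iv F5220)
def n1457 : Q := act 4 n1014
theorem D1457 : act 4 n1014 = n1457 := rfl
theorem F7318 : act 1 n1457 = n1016 := d11_1 D1457 (iv D1016) (iv F5222)
theorem F7319 : act 3 n1457 = n1457 := d24_1 D1457 (iv D1457) F5223 F3701 (iv F5223)
theorem F7320 : act 6 n1457 = n1457 := d31_2 F5224 D1457 (iv D1457)
theorem F7321 : act 9 n1457 = n1457 := d34_2 F5225 D1457 (iv D1457)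
def n1458 : Q := act 8 n1014
theorem D1458 : act 8 n1014 = n1458 := rfl
theorem F7324 : act 5 n1458 = n1015 := d37_1 D1458 (iv D1015) D1014
def n1460 : Q := act 8 n1016
theorem D1460 : act 8 n1016 = n1460 := rfl
theorem F7330 : act 2 n1460 = n1460 := d22_1 D1460 (iv D1460) F5229
theorem F7331 : act 4 n1460 = n1017 := d33_1 D1460 (iv D1017) D1016
theorem F7332 : act 6 n1460 = n1460 := d40_1 D1460 (iv D1460) F5231
def n1463 : Q := act 8 n1019
theorem D1463 : act 8 n1019 = n1463 := rfl
def n1464 : Q := act 9 n1020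
theorem D1464 : act 9 n1020 = n1464 := rfl
def n1465 : Q := act 3 n1021
theorem D1465 : act 3 n1021 = n1465 := rfl
theorem F7356 : act 8 n1465 = n1046 := d28_2 D1021 D1465 (iv D1046) (iv D726) (iv F3717)
def n1467 : Q := act 2 n1023
theorem D1467 : act 2 n1023 = n1467 := rfl
def n1468 : Q := act 5 n1023
theorem D1468 : act 5 n1023 = n1468 := rfl
theorem F7367 : act 0 n1468 = n1026 := d4_1 D1468 (iv D1026) (iv F5259)
theorem F7368 : act 1 n1468 = n1468 := d12_1 D1468 (iv D1468) F5260
theorem F7369 : act 3 n1468 = n1024 := d25_1 D1468 (iv D1024) D1023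
theorem F7370 : act 7 n1468 = n1034 := d36_2 (iv F5263) D1468 (iv D1034)
theorem F7371 : act 9 n1468 = n1468 := d38_2 F5264 D1468 (iv D1468)
def n1469 : Q := act 8 n1023
theorem D1469 : act 8 n1023 = n1469 := rfl
def n1470 : Q := act 6 n1024
theorem D1470 : act 6 n1024 = n1470 := rfl
theorem F7378 : act 0 n1470 = n1028 := d5_1 D1470 (iv D1028) (iv F5265)
theorem F7379 : act 1 n1470 = n1470 := d13_1 D1470 (iv D1470) F5266
theorem F7380 : act 4 n1470 = n1470 := d31_1 D1470 (iv D1470) F5267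
theorem F7381 : act 5 n1470 = n1470 := d35_1 D1470 (iv D1470) (iv D1024) F3732 D1024
theorem F7382 : act 7 n1470 = n1470 := d39_2 (iv F5268) D1470 (iv D1470) F5268 F3772
theorem F7383 : act 8 n1470 = n1470 := d40_2 F5269 D1470 (iv D1470)
theorem F7384 : act 9 n1470 = n1470 := d41_2 F5270 D1470 (iv D1470)
def n1471 : Q := act 5 n1025
theorem D1471 : act 5 n1025 = n1471 := rfl
theorem F7385 : act 1 n1471 = n1471 := d12_1 D1471 (iv D1471) F5271
theorem F7386 : act 2 n1471 = n1026 := d19_1 D1471 (iv D1026) D1025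
theorem F7388 : act 9 n1471 = n1471 := d38_2 F5275 D1471 (iv D1471)
def n1472 : Q := act 8 n1025
theorem D1472 : act 8 n1025 = n1472 := rfl
theorem F7390 : act 2 n1472 = n1027 := d22_1 D1472 (iv D1027) D1025
def n1473 : Q := act 4 n1026
theorem D1473 : act 4 n1026 = n1473 := rfl
theorem F7394 : act 1 n1473 = n1029 := d11_1 D1473 (iv D1029) (iv F5276)
theorem F7395 : act 3 n1473 = n1473 := d24_1 D1473 (iv D1473) F5277 F3742 (iv F5277)
theorem F7396 : act 5 n1473 = n1473 := d30_2 D1026 D1473 (iv D1473) (iv D1026) F3737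
theorem F7397 : act 7 n1473 = n1038 := d32_2 (iv F5278) D1473 (iv D1038)
theorem F7398 : act 9 n1473 = n1473 := d34_2 F5279 D1473 (iv D1473)
def n1474 : Q := act 6 n1026
theorem D1474 : act 6 n1026 = n1474 := rfl
theorem F7399 : act 1 n1474 = n1030 := d13_1 D1474 (iv D1030) (iv F5276)
theorem F7400 : act 3 n1474 = n1028 := d26_1 D1474 (iv D1028) (iv F5277)
theorem F7401 : act 5 n1474 = n1474 := d35_1 D1474 (iv D1474) (iv D1026) F3738 D1026
theorem F7402 : act 7 n1474 = n1474 := d39_2 (iv F5278) D1474 (iv D1474) F5278 F3781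
theorem F7403 : act 9 n1474 = n1474 := d41_2 F5279 D1474 (iv D1474)
def n1475 : Q := act 8 n1026
theorem D1475 : act 8 n1026 = n1475 := rfl
theorem F7404 : act 1 n1475 = n1031 := d15_1 D1475 (iv D1031) (iv F5276)
def n1477 : Q := act 6 n1029
theorem D1477 : act 6 n1029 = n1477 := rfl
theorem F7414 : act 0 n1477 = n1477 := d5_1 D1477 (iv D1477) F5291
theorem F7415 : act 2 n1477 = n1477 := d20_1 D1477 (iv D1477) F5292
theorem F7416 : act 3 n1477 = n1477 := d26_1 D1477 (iv D1477) F5293
theorem F7417 : act 4 n1477 = n1030 := d31_1 D1477 (iv D1030) D1029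
theorem F7418 : act 7 n1477 = n1477 := d39_2 (iv F5295) D1477 (iv D1477) F5295 F3791
theorem F7419 : act 9 n1477 = n1477 := d41_2 F5296 D1477 (iv D1477)
def n1478 : Q := act 8 n1029
theorem D1478 : act 8 n1029 = n1478 := rfl
theorem F7420 : act 0 n1478 = n1478 := d7_1 D1478 (iv D1478) F5291
theorem F7421 : act 2 n1478 = n1478 := d22_1 D1478 (iv D1478) F5292
theorem F7422 : act 4 n1478 = n1031 := d33_1 D1478 (iv D1031) D1029
theorem F7423 : act 5 n1478 = n1478 := d37_1 D1478 (iv D1478) F5294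
theorem F7424 : act 7 n1478 = n1041 := d42_1 D1478 (iv D1041) (iv F5295)
def n1479 : Q := act 8 n1030
theorem D1479 : act 8 n1030 = n1479 := rfl
theorem F7425 : act 0 n1479 = n1479 := d7_1 D1479 (iv D1479) F5297
theorem F7426 : act 2 n1479 = n1479 := d22_1 D1479 (iv D1479) F5298
theorem F7427 : act 3 n1479 = n1479 := d28_1 D1479 (iv D1479) F5299 F3762 (iv F5299)
theorem F7428 : act 5 n1479 = n1479 := d37_1 D1479 (iv D1479) F5300
theorem F7429 : act 6 n1479 = n1031 := d40_1 D1479 (iv D1031) D1030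
theorem F7430 : act 7 n1479 = n1479 := d42_1 D1479 (iv D1479) F5301
def n1480 : Q := act 9 n1031
theorem D1480 : act 9 n1031 = n1480 := rfl
def n1482 : Q := act 5 n1033
theorem D1482 : act 5 n1033 = n1482 := rfl
theorem F7443 : act 2 n1482 = n1034 := d19_1 D1482 (iv D1034) D1033
def n1483 : Q := act 8 n1033
theorem D1483 : act 8 n1033 = n1483 := rfl
theorem F7447 : act 2 n1483 = n1035 := d22_1 D1483 (iv D1035) D1033
def n1484 : Q := act 4 n1034
theorem D1484 : act 4 n1034 = n1484 := rfl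
theorem F7450 : act 0 n1484 = n1038 := d3_1 D1484 (iv D1038) (iv F5319)
theorem F7451 : act 1 n1484 = n1484 := d11_1 D1484 (iv D1484) F5320
theorem F7452 : act 3 n1484 = n1484 := d24_1 D1484 (iv D1484) F5321 F3771 (iv F5321)
theorem F7453 : act 5 n1484 = n1484 := d30_2 D1034 D1484 (iv D1484) (iv D1034) F3766
theorem F7454 : act 6 n1484 = n1484 := d31_2 F5322 D1484 (iv D1484)
theorem F7455 : act 9 n1484 = n1484 := d34_2 F5323 D1484 (iv D1484)
def n1485 : Q := act 8 n1034
theorem D1485 : act 8 n1034 = n1485 := rfl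
def n1487 : Q := act 4 n1036
theorem D1487 : act 4 n1036 = n1487 := rfl
theorem F7468 : act 2 n1487 = n1038 := d18_1 D1487 (iv D1038) (iv F5330)
def n1488 : Q := act 8 n1036
theorem D1488 : act 8 n1036 = n1488 := rfl
theorem F7473 : act 2 n1488 = n1039 := d22_1 D1488 (iv D1039) (iv F5330)
def n1489 : Q := act 3 n1037
theorem D1489 : act 3 n1037 = n1489 := rfl
def n1490 : Q := act 9 n1037
theorem D1490 : act 9 n1037 = n1490 := rfl
theorem F7480 : act 2 n1490 = n1040 := d23_1 D1490 (iv D1040) (iv F5334)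
def n1491 : Q := act 8 n1038
theorem D1491 : act 8 n1038 = n1491 := rfl
theorem F7484 : act 1 n1491 = n1041 := d15_1 D1491 (iv D1041) (iv F5337)
theorem F7485 : act 4 n1491 = n1039 := d33_1 D1491 (iv D1039) D1038
def n1492 : Q := act 9 n1039
theorem D1492 : act 9 n1039 = n1492 := rfl
theorem F7488 : act 1 n1492 = n1042 := d16_1 D1492 (iv D1042) (iv F5342)
def n1493 : Q := act 3 n1041
theorem D1493 : act 3 n1041 = n1493 := rfl
theorem F7493 : act 0 n1493 = n1493 := d2_1 D1493 (iv D1493) F5351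
theorem F7494 : act 4 n1493 = n1493 := d24_2 (iv F5353) D1493 (iv D1493) F5353 F3795
theorem F7495 : act 5 n1493 = n1493 := d25_2 F5354 D1493 (iv D1493)
theorem F7496 : act 6 n1493 = n1493 := d26_2 F5355 D1493 (iv D1493)
theorem F7497 : act 8 n1493 = n1493 := d28_2 D1041 D1493 (iv D1493) (iv D1041) F3789
def n1494 : Q := act 9 n1041
theorem D1494 : act 9 n1041 = n1494 := rfl
theorem F7500 : act 4 n1494 = n1042 := d34_1 D1494 (iv D1042) (iv F5353)
def n1496 : Q := act 3 n1044
theorem D1496 : act 3 n1044 = n1496 := rfl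
def n1499 : Q := act 9 n1046
theorem D1499 : act 9 n1046 = n1499 := rfl
theorem F7526 : act 3 n1499 = n1047 := d29_1 D1499 (iv D1047) D1046
def n1500 : Q := act 7 n1048
theorem D1500 : act 7 n1048 = n1500 := rfl
theorem F7529 : act 0 n1500 = n1500 := d6_1 D1500 (iv D1500) F5390
theorem F7530 : act 1 n1500 = n1500 := d14_1 D1500 (iv D1500) F5391
theorem F7531 : act 2 n1500 = n1500 := d21_1 D1500 (iv D1500) F5392
theorem F7532 : act 3 n1500 = n1500 := d27_1 D1500 (iv D1500) F5393
theorem F7533 : act 4 n1500 = n1049 := d32_1 D1500 (iv D1049) D1048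
theorem F7534 : act 5 n1500 = n1500 := d36_1 D1500 (iv D1500) F5394
theorem F7535 : act 8 n1500 = n1500 := d42_2 F5396 D1500 (iv D1500)
def n1501 : Q := act 9 n1048
theorem D1501 : act 9 n1048 = n1501 := rfl
theorem F7536 : act 0 n1501 = n1501 := d8_1 D1501 (iv D1501) F5390
theorem F7537 : act 1 n1501 = n1501 := d16_1 D1501 (iv D1501) F5391
theorem F7538 : act 2 n1501 = n1501 := d23_1 D1501 (iv D1501) F5392
theorem F7539 : act 3 n1501 = n1501 := d29_1 D1501 (iv D1501) F5393
theorem F7540 : act 4 n1501 = n1050 := d34_1 D1501 (iv D1050) D1048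
theorem F7541 : act 5 n1501 = n1501 := d38_1 D1501 (iv D1501) F5394
theorem F7542 : act 6 n1501 = n1501 := d41_1 D1501 (iv D1501) F5395
def n1502 : Q := act 6 n1049
theorem D1502 : act 6 n1049 = n1502 := rfl
theorem F7543 : act 0 n1502 = n1502 := d5_1 D1502 (iv D1502) F5397
theorem F7544 : act 1 n1502 = n1502 := d13_1 D1502 (iv D1502) F5398
theorem F7545 : act 2 n1502 = n1502 := d20_1 D1502 (iv D1502) F5399
theorem F7546 : act 3 n1502 = n1054 := d26_1 D1502 (iv D1054) (iv F5400)
theorem F7547 : act 5 n1502 = n1502 := d35_1 D1502 (iv D1502) F5401 F3837 (iv F5401)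
theorem F7548 : act 7 n1502 = n1502 := d39_2 D1049 D1502 (iv D1502) (iv D1049) F3830
theorem F7549 : act 8 n1502 = n1502 := d40_2 F5402 D1502 (iv D1502)
def n1503 : Q := act 9 n1049
theorem D1503 : act 9 n1049 = n1503 := rfl
theorem F7550 : act 0 n1503 = n1503 := d8_1 D1503 (iv D1503) F5397
theorem F7551 : act 1 n1503 = n1503 := d16_1 D1503 (iv D1503) F5398
theorem F7552 : act 2 n1503 = n1503 := d23_1 D1503 (iv D1503) F5399
theorem F7553 : act 3 n1503 = n1056 := d29_1 D1503 (iv D1056) (iv F5400)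
theorem F7554 : act 5 n1503 = n1051 := d38_1 D1503 (iv D1051) (iv F5401)
theorem F7555 : act 7 n1503 = n1050 := d43_1 D1503 (iv D1050) D1049
def n1504 : Q := act 8 n1050
theorem D1504 : act 8 n1050 = n1504 := rfl
theorem F7556 : act 0 n1504 = n1504 := d7_1 D1504 (iv D1504) F5403
theorem F7557 : act 1 n1504 = n1504 := d15_1 D1504 (iv D1504) F5404
theorem F7558 : act 2 n1504 = n1504 := d22_1 D1504 (iv D1504) F5405
theorem F7559 : act 5 n1504 = n1052 := d37_1 D1504 (iv D1052) (iv F5407)
theorem F7560 : act 6 n1504 = n1504 := d40_1 D1504 (iv D1504) F5408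
theorem F7561 : act 9 n1504 = n1504 := d44_2 D1050 D1504 (iv D1504) (iv D1050) F3831
def n1505 : Q := act 8 n1051
theorem D1505 : act 8 n1051 = n1505 := rfl
theorem F7562 : act 0 n1505 = n1505 := d7_1 D1505 (iv D1505) F5409
theorem F7563 : act 1 n1505 = n1505 := d15_1 D1505 (iv D1505) F5410
theorem F7564 : act 2 n1505 = n1505 := d22_1 D1505 (iv D1505) F5411
theorem F7565 : act 4 n1505 = n1505 := d33_1 D1505 (iv D1505) F5413
theorem F7566 : act 6 n1505 = n1505 := d40_1 D1505 (iv D1505) F5414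
theorem F7567 : act 7 n1505 = n1052 := d42_1 D1505 (iv D1052) (iv F5415)
theorem F7568 : act 9 n1505 = n1505 := d44_2 D1051 D1505 (iv D1505) (iv D1051) F3838
def n1506 : Q := act 3 n1052
theorem D1506 : act 3 n1052 = n1506 := rfl
theorem F7569 : act 0 n1506 = n1506 := d2_1 D1506 (iv D1506) F5416
theorem F7570 : act 1 n1506 = n1506 := d10_1 D1506 (iv D1506) F5417
theorem F7571 : act 6 n1506 = n1053 := d26_2 (iv F5420) D1506 (iv D1053)
theorem F7572 : act 8 n1506 = n1062 := d28_2 D1052 D1506 (iv D1062) (iv D738) (iv F3842)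
theorem F7573 : act 9 n1506 = n1506 := d29_2 F5421 D1506 (iv D1506)
def n1507 : Q := act 2 n1053
theorem D1507 : act 2 n1053 = n1507 := rfl
theorem F7574 : act 0 n1507 = n1507 := d1_1 D1507 (iv D1507) F5422
theorem F7575 : act 3 n1507 = n1507 := d17_2 D1053 D1507 (iv D1507) (iv D1053) F3847
theorem F7576 : act 5 n1507 = n1507 := d19_2 F5424 D1507 (iv D1507)
theorem F7577 : act 7 n1507 = n1507 := d21_2 F5425 D1507 (iv D1507)
theorem F7578 : act 8 n1507 = n1064 := d22_2 (iv F5426) D1507 (iv D1064)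
theorem F7579 : act 9 n1507 = n1507 := d23_2 F5427 D1507 (iv D1507)
def n1508 : Q := act 4 n1053
theorem D1508 : act 4 n1053 = n1508 := rfl
theorem F7580 : act 0 n1508 = n1508 := d3_1 D1508 (iv D1508) F5422
theorem F7581 : act 1 n1508 = n1508 := d11_1 D1508 (iv D1508) F5423
theorem F7582 : act 3 n1508 = n1508 := d24_1 D1508 (iv D1508) (iv D1053) F3848 D1053
theorem F7583 : act 7 n1508 = n1508 := d32_2 F5425 D1508 (iv D1508)
theorem F7584 : act 8 n1508 = n1065 := d33_2 (iv F5426) D1508 (iv D1065)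
theorem F7585 : act 9 n1508 = n1508 := d34_2 F5427 D1508 (iv D1508)
def n1509 : Q := act 8 n1054
theorem D1509 : act 8 n1054 = n1509 := rfl
theorem F7586 : act 0 n1509 = n1509 := d7_1 D1509 (iv D1509) F5428
theorem F7587 : act 1 n1509 = n1509 := d15_1 D1509 (iv D1509) F5429
theorem F7588 : act 2 n1509 = n1090 := d22_1 D1509 (iv D1090) (iv F5430)
theorem F7589 : act 3 n1509 = n1509 := d28_1 D1509 (iv D1509) (iv F7546) F7549 F7546
theorem F7590 : act 4 n1509 = n1509 := d33_1 D1509 (iv D1509) F5431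
theorem F7591 : act 5 n1509 = n1509 := d37_1 D1509 (iv D1509) F5432
theorem F7592 : act 6 n1509 = n1055 := d40_1 D1509 (iv D1055) D1054
theorem F7593 : act 7 n1509 = n1509 := d42_1 D1509 (iv D1509) F5433
def n1510 : Q := act 9 n1054
theorem D1510 : act 9 n1054 = n1510 := rfl
theorem F7594 : act 0 n1510 = n1510 := d8_1 D1510 (iv D1510) F5428
theorem F7595 : act 1 n1510 = n1510 := d16_1 D1510 (iv D1510) F5429
theorem F7596 : act 2 n1510 = n1091 := d23_1 D1510 (iv D1091) (iv F5430)
theorem F7597 : act 4 n1510 = n1510 := d34_1 D1510 (iv D1510) F5431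
theorem F7598 : act 5 n1510 = n1510 := d38_1 D1510 (iv D1510) F5432
theorem F7599 : act 6 n1510 = n1056 := d41_1 D1510 (iv D1056) D1054
theorem F7600 : act 7 n1510 = n1510 := d43_1 D1510 (iv D1510) F5433
def n1511 : Q := act 9 n1055
theorem D1511 : act 9 n1055 = n1511 := rfl
theorem F7601 : act 0 n1511 = n1511 := d8_1 D1511 (iv D1511) F5434
theorem F7602 : act 1 n1511 = n1511 := d16_1 D1511 (iv D1511) F5435
theorem F7603 : act 2 n1511 = n1093 := d23_1 D1511 (iv D1093) (iv F5436)
theorem F7604 : act 3 n1511 = n1511 := d29_1 D1511 (iv D1511) F5437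
theorem F7605 : act 4 n1511 = n1511 := d34_1 D1511 (iv D1511) F5438
theorem F7606 : act 5 n1511 = n1059 := d38_1 D1511 (iv D1059) (iv F5439)
theorem F7607 : act 7 n1511 = n1057 := d43_1 D1511 (iv D1057) (iv F5440)
def n1512 : Q := act 8 n1056
theorem D1512 : act 8 n1056 = n1512 := rfl
theorem F7608 : act 0 n1512 = n1512 := d7_1 D1512 (iv D1512) F5441
theorem F7609 : act 1 n1512 = n1512 := d15_1 D1512 (iv D1512) F5442
theorem F7610 : act 2 n1512 = n1094 := d22_1 D1512 (iv D1094) (iv F5443)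
theorem F7611 : act 4 n1512 = n1512 := d33_1 D1512 (iv D1512) F5444
theorem F7612 : act 5 n1512 = n1060 := d37_1 D1512 (iv D1060) (iv F5445)
theorem F7613 : act 7 n1512 = n1058 := d42_1 D1512 (iv D1058) (iv F5446)
def n1513 : Q := act 8 n1057
theorem D1513 : act 8 n1057 = n1513 := rfl
theorem F7614 : act 0 n1513 = n1513 := d7_1 D1513 (iv D1513) F5447
theorem F7615 : act 1 n1513 = n1513 := d15_1 D1513 (iv D1513) F5448
theorem F7616 : act 2 n1513 = n1097 := d22_1 D1513 (iv D1097) (iv F5449)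
theorem F7617 : act 4 n1513 = n1513 := d33_1 D1513 (iv D1513) F5451
theorem F7618 : act 5 n1513 = n1061 := d37_1 D1513 (iv D1061) (iv F5452)
theorem F7619 : act 6 n1513 = n1513 := d40_1 D1513 (iv D1513) F5453
theorem F7620 : act 9 n1513 = n1058 := d44_2 D1057 D1513 (iv D1058) (iv D734) D733
def n1514 : Q := act 3 n1058
theorem D1514 : act 3 n1058 = n1514 := rfl
theorem F7621 : act 0 n1514 = n1514 := d2_1 D1514 (iv D1514) F5454
theorem F7622 : act 1 n1514 = n1514 := d10_1 D1514 (iv D1514) F5455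
theorem F7623 : act 5 n1514 = n1062 := d25_2 (iv F5458) D1514 (iv D1062)
theorem F7624 : act 6 n1514 = n1514 := d26_2 F5459 D1514 (iv D1514)
def n1515 : Q := act 8 n1059
theorem D1515 : act 8 n1059 = n1515 := rfl
theorem F7625 : act 0 n1515 = n1515 := d7_1 D1515 (iv D1515) F5460
theorem F7626 : act 1 n1515 = n1515 := d15_1 D1515 (iv D1515) F5461
theorem F7627 : act 2 n1515 = n1100 := d22_1 D1515 (iv D1100) (iv F5462)
theorem F7628 : act 4 n1515 = n1067 := d33_1 D1515 (iv D1067) (iv F5464)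
theorem F7629 : act 6 n1515 = n1515 := d40_1 D1515 (iv D1515) F5465
theorem F7630 : act 7 n1515 = n1061 := d42_1 D1515 (iv D1061) (iv F5466)
theorem F7631 : act 9 n1515 = n1060 := d44_2 D1059 D1515 (iv D1060) (iv D736) D735
def n1516 : Q := act 3 n1060
theorem D1516 : act 3 n1060 = n1516 := rfl
theorem F7632 : act 0 n1516 = n1516 := d2_1 D1516 (iv D1516) F5467
theorem F7633 : act 1 n1516 = n1516 := d10_1 D1516 (iv D1516) F5468
theorem F7634 : act 6 n1516 = n1516 := d26_2 F5471 D1516 (iv D1516)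
theorem F7635 : act 7 n1516 = n1062 := d27_2 (iv F5472) D1516 (iv D1062)
def n1517 : Q := act 3 n1061
theorem D1517 : act 3 n1061 = n1517 := rfl
theorem F7636 : act 0 n1517 = n1517 := d2_1 D1517 (iv D1517) F5473
theorem F7637 : act 1 n1517 = n1517 := d10_1 D1517 (iv D1517) F5474
theorem F7638 : act 6 n1517 = n1063 := d26_2 (iv F5477) D1517 (iv D1063)
theorem F7639 : act 8 n1517 = n1517 := d28_2 D1061 D1517 (iv D1517) (iv D1061) F3886
theorem F7640 : act 9 n1517 = n1062 := d29_2 (iv F5478) D1517 (iv D1062)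
def n1518 : Q := act 2 n1062
theorem D1518 : act 2 n1062 = n1518 := rfl
theorem F7641 : act 0 n1518 = n1518 := d1_1 D1518 (iv D1518) F5479
theorem F7642 : act 3 n1518 = n1104 := d17_2 D1062 D1518 (iv D1104) (iv D769) (iv F3891)
theorem F7643 : act 6 n1518 = n1064 := d20_2 (iv F5481) D1518 (iv D1064)
def n1519 : Q := act 4 n1062
theorem D1519 : act 4 n1062 = n1519 := rfl
theorem F7644 : act 0 n1519 = n1519 := d3_1 D1519 (iv D1519) F5479
theorem F7645 : act 1 n1519 = n1519 := d11_1 D1519 (iv D1519) F5480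
theorem F7646 : act 3 n1519 = n1072 := d24_1 D1519 (iv D1072) (iv D746) (iv F3892) D1062
theorem F7647 : act 6 n1519 = n1065 := d31_2 (iv F5481) D1519 (iv D1065)
def n1520 : Q := act 2 n1063
theorem D1520 : act 2 n1063 = n1520 := rfl
theorem F7648 : act 0 n1520 = n1520 := d1_1 D1520 (iv D1520) F5482
theorem F7649 : act 3 n1520 = n1107 := d17_2 D1063 D1520 (iv D1107) (iv D771) (iv F3896)
theorem F7650 : act 5 n1520 = n1520 := d19_2 F5484 D1520 (iv D1520)
theorem F7651 : act 7 n1520 = n1520 := d21_2 F5485 D1520 (iv D1520)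
theorem F7652 : act 8 n1520 = n1520 := d22_2 F5486 D1520 (iv D1520)
theorem F7653 : act 9 n1520 = n1064 := d23_2 (iv F5487) D1520 (iv D1064)
def n1521 : Q := act 4 n1063
theorem D1521 : act 4 n1063 = n1521 := rfl
theorem F7654 : act 0 n1521 = n1521 := d3_1 D1521 (iv D1521) F5482
theorem F7655 : act 1 n1521 = n1521 := d11_1 D1521 (iv D1521) F5483
theorem F7656 : act 3 n1521 = n1075 := d24_1 D1521 (iv D1075) (iv D748) (iv F3897) D1063
theorem F7657 : act 7 n1521 = n1521 := d32_2 F5485 D1521 (iv D1521)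
theorem F7658 : act 8 n1521 = n1521 := d33_2 F5486 D1521 (iv D1521)
theorem F7659 : act 9 n1521 = n1065 := d34_2 (iv F5487) D1521 (iv D1065)
def n1522 : Q := act 1 n1064
theorem D1522 : act 1 n1064 = n1522 := rfl
theorem F7660 : act 2 n1522 = n1522 := d9_2 D1064 D1522 (iv D1522) (iv D1064) F3902
theorem F7661 : act 3 n1522 = n1109 := d10_2 (iv F5489) D1522 (iv D1109)
theorem F7662 : act 5 n1522 = n1522 := d12_2 F5490 D1522 (iv D1522)
theorem F7663 : act 7 n1522 = n1522 := d14_2 F5491 D1522 (iv D1522)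
def n1523 : Q := act 4 n1064
theorem D1523 : act 4 n1064 = n1523 := rfl
theorem F7664 : act 0 n1523 = n1523 := d3_1 D1523 (iv D1523) F5488
theorem F7665 : act 2 n1523 = n1065 := d18_1 D1523 (iv D1065) D1064
theorem F7666 : act 7 n1523 = n1523 := d32_2 F5491 D1523 (iv D1523)
def n1524 : Q := act 5 n1065
theorem D1524 : act 5 n1065 = n1524 := rfl
theorem F7667 : act 0 n1524 = n1524 := d4_1 D1524 (iv D1524) F5492
theorem F7668 : act 1 n1524 = n1524 := d12_1 D1524 (iv D1524) F5493
theorem F7669 : act 3 n1524 = n1078 := d25_1 D1524 (iv D1078) (iv F5494)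
theorem F7670 : act 4 n1524 = n1524 := d30_1 D1524 (iv D1524) (iv D1065) F3903 D1065
theorem F7671 : act 7 n1524 = n1524 := d36_2 F5495 D1524 (iv D1524)
def n1525 : Q := act 8 n1066
theorem D1525 : act 8 n1066 = n1525 := rfl
theorem F7672 : act 0 n1525 = n1525 := d7_1 D1525 (iv D1525) F5496
theorem F7673 : act 1 n1525 = n1525 := d15_1 D1525 (iv D1525) F5497
theorem F7674 : act 2 n1525 = n1525 := d22_1 D1525 (iv D1525) F5498
theorem F7675 : act 4 n1525 = n1525 := d33_1 D1525 (iv D1525) F5500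
theorem F7676 : act 5 n1525 = n1525 := d37_1 D1525 (iv D1525) F5501
theorem F7677 : act 6 n1525 = n1525 := d40_1 D1525 (iv D1525) F5502
theorem F7678 : act 7 n1525 = n1069 := d42_1 D1525 (iv D1069) (iv F5503)
theorem F7679 : act 9 n1525 = n1525 := d44_2 D1066 D1525 (iv D1525) (iv D1066) F3912
def n1526 : Q := act 3 n1067
theorem D1526 : act 3 n1067 = n1526 := rfl
theorem F7680 : act 0 n1526 = n1526 := d2_1 D1526 (iv D1526) F5504
theorem F7681 : act 1 n1526 = n1526 := d10_1 D1526 (iv D1526) F5505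
theorem F7682 : act 5 n1526 = n1526 := d25_2 F5507 D1526 (iv D1526)
theorem F7683 : act 6 n1526 = n1526 := d26_2 F5508 D1526 (iv D1526)
theorem F7684 : act 7 n1526 = n1070 := d27_2 (iv F5509) D1526 (iv D1070)
theorem F7685 : act 9 n1526 = n1068 := d29_2 (iv F5510) D1526 (iv D1068)
def n1527 : Q := act 2 n1068
theorem D1527 : act 2 n1068 = n1527 := rfl
theorem F7686 : act 0 n1527 = n1527 := d1_1 D1527 (iv D1527) F5511
theorem F7687 : act 3 n1527 = n1113 := d17_2 D1068 D1527 (iv D1113) (iv D775) (iv F3921)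
theorem F7688 : act 5 n1527 = n1527 := d19_2 F5513 D1527 (iv D1527)
theorem F7689 : act 6 n1527 = n1527 := d20_2 F5514 D1527 (iv D1527)
theorem F7690 : act 7 n1527 = n1071 := d21_2 (iv F5515) D1527 (iv D1071)
theorem F7691 : act 8 n1527 = n1527 := d22_2 F5516 D1527 (iv D1527)
def n1528 : Q := act 4 n1068
theorem D1528 : act 4 n1068 = n1528 := rfl
theorem F7692 : act 0 n1528 = n1528 := d3_1 D1528 (iv D1528) F5511
theorem F7693 : act 1 n1528 = n1528 := d11_1 D1528 (iv D1528) F5512
theorem F7694 : act 6 n1528 = n1528 := d31_2 F5514 D1528 (iv D1528)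
theorem F7695 : act 7 n1528 = n1072 := d32_2 (iv F5515) D1528 (iv D1072)
theorem F7696 : act 8 n1528 = n1528 := d33_2 F5516 D1528 (iv D1528)
def n1529 : Q := act 3 n1069
theorem D1529 : act 3 n1069 = n1529 := rfl
theorem F7697 : act 0 n1529 = n1529 := d2_1 D1529 (iv D1529) F5517
theorem F7698 : act 1 n1529 = n1529 := d10_1 D1529 (iv D1529) F5518
theorem F7699 : act 5 n1529 = n1529 := d25_2 F5521 D1529 (iv D1529)
theorem F7700 : act 6 n1529 = n1073 := d26_2 (iv F5522) D1529 (iv D1073)
theorem F7701 : act 8 n1529 = n1070 := d28_2 D1069 D1529 (iv D1070) (iv D745) (iv F3928)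
theorem F7702 : act 9 n1529 = n1529 := d29_2 F5523 D1529 (iv D1529)
def n1530 : Q := act 2 n1070
theorem D1530 : act 2 n1070 = n1530 := rfl
theorem F7703 : act 0 n1530 = n1530 := d1_1 D1530 (iv D1530) F5524
theorem F7704 : act 3 n1530 = n1115 := d17_2 D1070 D1530 (iv D1115) (iv D776) (iv F3934)
theorem F7705 : act 5 n1530 = n1530 := d19_2 F5526 D1530 (iv D1530)
theorem F7706 : act 6 n1530 = n1074 := d20_2 (iv F5527) D1530 (iv D1074)
theorem F7707 : act 9 n1530 = n1071 := d23_2 (iv F5528) D1530 (iv D1071)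
def n1531 : Q := act 4 n1070
theorem D1531 : act 4 n1070 = n1531 := rfl
theorem F7708 : act 0 n1531 = n1531 := d3_1 D1531 (iv D1531) F5524
theorem F7709 : act 1 n1531 = n1531 := d11_1 D1531 (iv D1531) F5525
theorem F7710 : act 6 n1531 = n1075 := d31_2 (iv F5527) D1531 (iv D1075)
theorem F7711 : act 9 n1531 = n1072 := d34_2 (iv F5528) D1531 (iv D1072)
def n1532 : Q := act 1 n1071
theorem D1532 : act 1 n1071 = n1532 := rfl
theorem F7712 : act 2 n1532 = n1532 := d9_2 D1071 D1532 (iv D1532) (iv D1071) F3939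
theorem F7713 : act 3 n1532 = n1117 := d10_2 (iv F5530) D1532 (iv D1117)
theorem F7714 : act 5 n1532 = n1532 := d12_2 F5531 D1532 (iv D1532)
theorem F7715 : act 6 n1532 = n1076 := d13_2 (iv F5532) D1532 (iv D1076)
theorem F7716 : act 8 n1532 = n1532 := d15_2 F5533 D1532 (iv D1532)
def n1533 : Q := act 4 n1071
theorem D1533 : act 4 n1071 = n1533 := rfl
theorem F7717 : act 0 n1533 = n1533 := d3_1 D1533 (iv D1533) F5529
theorem F7718 : act 2 n1533 = n1072 := d18_1 D1533 (iv D1072) D1071
theorem F7719 : act 6 n1533 = n1077 := d31_2 (iv F5532) D1533 (iv D1077)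
theorem F7720 : act 8 n1533 = n1533 := d33_2 F5533 D1533 (iv D1533)
def n1534 : Q := act 5 n1072
theorem D1534 : act 5 n1072 = n1534 := rfl
theorem F7721 : act 0 n1534 = n1534 := d4_1 D1534 (iv D1534) F5534
theorem F7722 : act 1 n1534 = n1534 := d12_1 D1534 (iv D1534) F5535
theorem F7723 : act 4 n1534 = n1534 := d30_1 D1534 (iv D1534) (iv D1072) F3940 D1072
theorem F7724 : act 8 n1534 = n1534 := d37_2 F5537 D1534 (iv D1534)
def n1535 : Q := act 2 n1073
theorem D1535 : act 2 n1073 = n1535 := rfl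
theorem F7725 : act 0 n1535 = n1535 := d1_1 D1535 (iv D1535) F5538
theorem F7726 : act 3 n1535 = n1535 := d17_2 D1073 D1535 (iv D1535) (iv D1073) F3945
theorem F7727 : act 5 n1535 = n1080 := d19_2 (iv F5540) D1535 (iv D1080)
theorem F7728 : act 7 n1535 = n1535 := d21_2 F5541 D1535 (iv D1535)
theorem F7729 : act 8 n1535 = n1074 := d22_2 (iv F5542) D1535 (iv D1074)
theorem F7730 : act 9 n1535 = n1535 := d23_2 F5543 D1535 (iv D1535)
def n1536 : Q := act 4 n1073
theorem D1536 : act 4 n1073 = n1536 := rfl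
theorem F7731 : act 0 n1536 = n1536 := d3_1 D1536 (iv D1536) F5538
theorem F7732 : act 1 n1536 = n1536 := d11_1 D1536 (iv D1536) F5539
theorem F7733 : act 3 n1536 = n1536 := d24_1 D1536 (iv D1536) (iv D1073) F3946 D1073
theorem F7734 : act 7 n1536 = n1536 := d32_2 F5541 D1536 (iv D1536)
theorem F7735 : act 8 n1536 = n1075 := d33_2 (iv F5542) D1536 (iv D1075)
theorem F7736 : act 9 n1536 = n1536 := d34_2 F5543 D1536 (iv D1536)
def n1537 : Q := act 1 n1074
theorem D1537 : act 1 n1074 = n1537 := rfl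
theorem F7737 : act 2 n1537 = n1537 := d9_2 D1074 D1537 (iv D1537) (iv D1074) F3951
theorem F7738 : act 3 n1537 = n1120 := d10_2 (iv F5545) D1537 (iv D1120)
theorem F7739 : act 5 n1537 = n1082 := d12_2 (iv F5546) D1537 (iv D1082)
theorem F7740 : act 7 n1537 = n1537 := d14_2 F5547 D1537 (iv D1537)
theorem F7741 : act 9 n1537 = n1076 := d16_2 (iv F5548) D1537 (iv D1076)
def n1538 : Q := act 4 n1074
theorem D1538 : act 4 n1074 = n1538 := rfl
theorem F7742 : act 0 n1538 = n1538 := d3_1 D1538 (iv D1538) F5544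
theorem F7743 : act 2 n1538 = n1075 := d18_1 D1538 (iv D1075) D1074
theorem F7744 : act 7 n1538 = n1538 := d32_2 F5547 D1538 (iv D1538)
theorem F7745 : act 9 n1538 = n1077 := d34_2 (iv F5548) D1538 (iv D1077)
def n1539 : Q := act 5 n1075
theorem D1539 : act 5 n1075 = n1539 := rfl
theorem F7746 : act 0 n1539 = n1539 := d4_1 D1539 (iv D1539) F5549
theorem F7747 : act 1 n1539 = n1539 := d12_1 D1539 (iv D1539) F5550
theorem F7748 : act 4 n1539 = n1084 := d30_1 D1539 (iv D1084) (iv D754) (iv F3952) D1075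
theorem F7749 : act 7 n1539 = n1539 := d36_2 F5551 D1539 (iv D1539)
theorem F7750 : act 9 n1539 = n1078 := d38_2 (iv F5552) D1539 (iv D1078)
def n1540 : Q := act 0 n1076
theorem D1540 : act 0 n1076 = n1540 := rfl
theorem F7751 : act 1 n1540 = n1540 := d0_2 D1076 D1540 (iv D1540) (iv D1076) F3955
theorem F7752 : act 2 n1540 = n1540 := d1_2 F5553 D1540 (iv D1540)
theorem F7753 : act 3 n1540 = n1123 := d2_2 (iv F5554) D1540 (iv D1123)
theorem F7754 : act 5 n1540 = n1085 := d4_2 (iv F5555) D1540 (iv D1085)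
theorem F7755 : act 7 n1540 = n1540 := d6_2 F5556 D1540 (iv D1540)
theorem F7756 : act 8 n1540 = n1540 := d7_2 F5557 D1540 (iv D1540)
def n1541 : Q := act 4 n1076
theorem D1541 : act 4 n1076 = n1541 := rfl
theorem F7757 : act 1 n1541 = n1077 := d11_1 D1541 (iv D1077) D1076
theorem F7758 : act 2 n1541 = n1541 := d18_1 D1541 (iv D1541) F5553
theorem F7759 : act 7 n1541 = n1541 := d32_2 F5556 D1541 (iv D1541)
theorem F7760 : act 8 n1541 = n1541 := d33_2 F5557 D1541 (iv D1541)
def n1542 : Q := act 3 n1077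
theorem D1542 : act 3 n1077 = n1542 := rfl
theorem F7761 : act 0 n1542 = n1542 := d2_1 D1542 (iv D1542) F5558
theorem F7762 : act 4 n1542 = n1125 := d24_2 D1077 D1542 (iv D1125) (iv D782) (iv F3956)
theorem F7763 : act 7 n1542 = n1542 := d27_2 F5560 D1542 (iv D1542)
def n1543 : Q := act 5 n1077
theorem D1543 : act 5 n1077 = n1543 := rfl
theorem F7764 : act 0 n1543 = n1543 := d4_1 D1543 (iv D1543) F5558
theorem F7765 : act 2 n1543 = n1078 := d19_1 D1543 (iv D1078) (iv F5559)
theorem F7766 : act 4 n1543 = n1088 := d30_1 D1543 (iv D1088) (iv D756) (iv F3957) D1077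
theorem F7767 : act 7 n1543 = n1543 := d36_2 F5560 D1543 (iv D1543)
theorem F7768 : act 8 n1543 = n1543 := d37_2 F5561 D1543 (iv D1543)
def n1544 : Q := act 6 n1078
theorem D1544 : act 6 n1078 = n1544 := rfl
theorem F7769 : act 0 n1544 = n1544 := d5_1 D1544 (iv D1544) F5562
theorem F7770 : act 1 n1544 = n1544 := d13_1 D1544 (iv D1544) F5563
theorem F7771 : act 4 n1544 = n1089 := d31_1 D1544 (iv D1089) (iv F5564)
theorem F7772 : act 8 n1544 = n1544 := d40_2 F5566 D1544 (iv D1544)
def n1545 : Q := act 2 n1079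
theorem D1545 : act 2 n1079 = n1545 := rfl
theorem F7773 : act 0 n1545 = n1545 := d1_1 D1545 (iv D1545) F5567
theorem F7774 : act 3 n1545 = n1545 := d17_2 D1079 D1545 (iv D1545) (iv D1079) F3966
theorem F7775 : act 5 n1545 = n1545 := d19_2 F5569 D1545 (iv D1545)
theorem F7776 : act 6 n1545 = n1545 := d20_2 F5570 D1545 (iv D1545)
theorem F7777 : act 7 n1545 = n1545 := d21_2 F5571 D1545 (iv D1545)
theorem F7778 : act 8 n1545 = n1545 := d22_2 F5572 D1545 (iv D1545)
theorem F7779 : act 9 n1545 = n1545 := d23_2 F5573 D1545 (iv D1545)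
def n1546 : Q := act 4 n1079
theorem D1546 : act 4 n1079 = n1546 := rfl
theorem F7780 : act 0 n1546 = n1546 := d3_1 D1546 (iv D1546) F5567
theorem F7781 : act 1 n1546 = n1546 := d11_1 D1546 (iv D1546) F5568
theorem F7782 : act 3 n1546 = n1081 := d24_1 D1546 (iv D1081) (iv D752) (iv F3967) D1079
theorem F7783 : act 6 n1546 = n1546 := d31_2 F5570 D1546 (iv D1546)
theorem F7784 : act 7 n1546 = n1546 := d32_2 F5571 D1546 (iv D1546)
theorem F7785 : act 8 n1546 = n1546 := d33_2 F5572 D1546 (iv D1546)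
theorem F7786 : act 9 n1546 = n1546 := d34_2 F5573 D1546 (iv D1546)
def n1547 : Q := act 1 n1080
theorem D1547 : act 1 n1080 = n1547 := rfl
theorem F7787 : act 2 n1547 = n1547 := d9_2 D1080 D1547 (iv D1547) (iv D1080) F3973
theorem F7788 : act 3 n1547 = n1547 := d10_2 F5575 D1547 (iv D1547)
theorem F7789 : act 6 n1547 = n1547 := d13_2 F5576 D1547 (iv D1547)
theorem F7790 : act 7 n1547 = n1547 := d14_2 F5577 D1547 (iv D1547)
theorem F7791 : act 8 n1547 = n1082 := d15_2 (iv F5578) D1547 (iv D1082)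
theorem F7792 : act 9 n1547 = n1547 := d16_2 F5579 D1547 (iv D1547)
def n1548 : Q := act 4 n1080
theorem D1548 : act 4 n1080 = n1548 := rfl
theorem F7793 : act 0 n1548 = n1548 := d3_1 D1548 (iv D1548) F5574
theorem F7794 : act 2 n1548 = n1081 := d18_1 D1548 (iv D1081) D1080
theorem F7795 : act 6 n1548 = n1548 := d31_2 F5576 D1548 (iv D1548)
theorem F7796 : act 7 n1548 = n1548 := d32_2 F5577 D1548 (iv D1548)
theorem F7797 : act 8 n1548 = n1083 := d33_2 (iv F5578) D1548 (iv D1083)
theorem F7798 : act 9 n1548 = n1548 := d34_2 F5579 D1548 (iv D1548)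
def n1549 : Q := act 5 n1081
theorem D1549 : act 5 n1081 = n1549 := rfl
theorem F7799 : act 0 n1549 = n1549 := d4_1 D1549 (iv D1549) F5580
theorem F7800 : act 1 n1549 = n1549 := d12_1 D1549 (iv D1549) F5581
theorem F7801 : act 7 n1549 = n1549 := d36_2 F5583 D1549 (iv D1549)
theorem F7802 : act 8 n1549 = n1084 := d37_2 (iv F5584) D1549 (iv D1084)
theorem F7803 : act 9 n1549 = n1549 := d38_2 F5585 D1549 (iv D1549)
def n1550 : Q := act 0 n1082
theorem D1550 : act 0 n1082 = n1550 := rfl
theorem F7804 : act 1 n1550 = n1550 := d0_2 D1082 D1550 (iv D1550) (iv D1082) F3978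
theorem F7805 : act 2 n1550 = n1550 := d1_2 F5586 D1550 (iv D1550)
theorem F7806 : act 3 n1550 = n1128 := d2_2 (iv F5587) D1550 (iv D1128)
theorem F7807 : act 6 n1550 = n1550 := d5_2 F5588 D1550 (iv D1550)
theorem F7808 : act 7 n1550 = n1550 := d6_2 F5589 D1550 (iv D1550)
theorem F7809 : act 9 n1550 = n1085 := d8_2 (iv F5590) D1550 (iv D1085)
def n1551 : Q := act 4 n1082
theorem D1551 : act 4 n1082 = n1551 := rfl
theorem F7810 : act 1 n1551 = n1083 := d11_1 D1551 (iv D1083) D1082
theorem F7811 : act 2 n1551 = n1551 := d18_1 D1551 (iv D1551) F5586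
theorem F7812 : act 6 n1551 = n1551 := d31_2 F5588 D1551 (iv D1551)
theorem F7813 : act 7 n1551 = n1551 := d32_2 F5589 D1551 (iv D1551)
theorem F7814 : act 9 n1551 = n1086 := d34_2 (iv F5590) D1551 (iv D1086)
def n1552 : Q := act 3 n1083
theorem D1552 : act 3 n1083 = n1552 := rfl
theorem F7815 : act 0 n1552 = n1552 := d2_1 D1552 (iv D1552) F5591
theorem F7816 : act 2 n1552 = n1552 := d17_1 D1552 (iv D1552) F5592 F3985 (iv F5592)
theorem F7817 : act 4 n1552 = n1130 := d24_2 D1083 D1552 (iv D1130) (iv D785) (iv F3979)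
theorem F7818 : act 6 n1552 = n1552 := d26_2 F5593 D1552 (iv D1552)
theorem F7819 : act 7 n1552 = n1552 := d27_2 F5594 D1552 (iv D1552)
theorem F7820 : act 9 n1552 = n1087 := d29_2 (iv F5595) D1552 (iv D1087)
def n1553 : Q := act 5 n1083
theorem D1553 : act 5 n1083 = n1553 := rfl
theorem F7821 : act 0 n1553 = n1553 := d4_1 D1553 (iv D1553) F5591
theorem F7822 : act 2 n1553 = n1084 := d19_1 D1553 (iv D1084) (iv F5592)
theorem F7823 : act 7 n1553 = n1553 := d36_2 F5594 D1553 (iv D1553)
theorem F7824 : act 9 n1553 = n1088 := d38_2 (iv F5595) D1553 (iv D1088)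
def n1554 : Q := act 6 n1084
theorem D1554 : act 6 n1084 = n1554 := rfl
theorem F7825 : act 0 n1554 = n1554 := d5_1 D1554 (iv D1554) F5596
theorem F7826 : act 1 n1554 = n1554 := d13_1 D1554 (iv D1554) F5597
theorem F7827 : act 3 n1554 = n1554 := d26_1 D1554 (iv D1554) F5598
theorem F7828 : act 5 n1554 = n1554 := d35_1 D1554 (iv D1554) (iv D1084) F3986 D1084
theorem F7829 : act 9 n1554 = n1089 := d41_2 (iv F5600) D1554 (iv D1089)
def n1555 : Q := act 4 n1085
theorem D1555 : act 4 n1085 = n1555 := rfl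
theorem F7830 : act 0 n1555 = n1086 := d3_1 D1555 (iv D1086) D1085
theorem F7831 : act 1 n1555 = n1555 := d11_1 D1555 (iv D1555) F5601
theorem F7832 : act 2 n1555 = n1555 := d18_1 D1555 (iv D1555) F5602
theorem F7833 : act 6 n1555 = n1555 := d31_2 F5604 D1555 (iv D1555)
theorem F7834 : act 7 n1555 = n1555 := d32_2 F5605 D1555 (iv D1555)
theorem F7835 : act 8 n1555 = n1555 := d33_2 F5606 D1555 (iv D1555)
def n1556 : Q := act 3 n1086
theorem D1556 : act 3 n1086 = n1556 := rfl
theorem F7836 : act 1 n1556 = n1087 := d10_1 D1556 (iv D1087) (iv F5607)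
theorem F7837 : act 4 n1556 = n1134 := d24_2 D1086 D1556 (iv D1134) (iv D788) (iv F3990)
theorem F7838 : act 6 n1556 = n1556 := d26_2 F5609 D1556 (iv D1556)
theorem F7839 : act 7 n1556 = n1556 := d27_2 F5610 D1556 (iv D1556)
def n1557 : Q := act 5 n1086
theorem D1557 : act 5 n1086 = n1557 := rfl
theorem F7840 : act 1 n1557 = n1088 := d12_1 D1557 (iv D1088) (iv F5607)
theorem F7841 : act 2 n1557 = n1557 := d19_1 D1557 (iv D1557) F5608
theorem F7842 : act 7 n1557 = n1557 := d36_2 F5610 D1557 (iv D1557)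
theorem F7843 : act 8 n1557 = n1557 := d37_2 F5611 D1557 (iv D1557)
def n1558 : Q := act 5 n1087
theorem D1558 : act 5 n1087 = n1558 := rfl
theorem F7844 : act 0 n1558 = n1558 := d4_1 D1558 (iv D1558) F5612
theorem F7845 : act 2 n1558 = n1558 := d19_1 D1558 (iv D1558) F5613
theorem F7846 : act 3 n1558 = n1088 := d25_1 D1558 (iv D1088) D1087
theorem F7847 : act 7 n1558 = n1558 := d36_2 F5616 D1558 (iv D1558)
def n1559 : Q := act 8 n1087
theorem D1559 : act 8 n1087 = n1559 := rfl
theorem F7848 : act 0 n1559 = n1559 := d7_1 D1559 (iv D1559) F5612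
theorem F7849 : act 2 n1559 = n1559 := d22_1 D1559 (iv D1559) F5613
theorem F7850 : act 3 n1559 = n1559 := d28_1 D1559 (iv D1559) (iv D1087) F3998 D1087
theorem F7851 : act 4 n1559 = n1137 := d33_1 D1559 (iv D1137) (iv F5614)
theorem F7852 : act 6 n1559 = n1559 := d40_1 D1559 (iv D1559) F5615
theorem F7853 : act 7 n1559 = n1559 := d42_1 D1559 (iv D1559) F5616
def n1560 : Q := act 6 n1088
theorem D1560 : act 6 n1088 = n1560 := rfl
theorem F7854 : act 0 n1560 = n1560 := d5_1 D1560 (iv D1560) F5617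
theorem F7855 : act 2 n1560 = n1089 := d20_1 D1560 (iv D1089) (iv F5618)
theorem F7856 : act 5 n1560 = n1560 := d35_1 D1560 (iv D1560) (iv D1088) F3996 D1088
theorem F7857 : act 8 n1560 = n1560 := d40_2 F5620 D1560 (iv D1560)
def n1561 : Q := act 7 n1089
theorem D1561 : act 7 n1089 = n1561 := rfl
theorem F7858 : act 0 n1561 = n1561 := d6_1 D1561 (iv D1561) F5621
theorem F7859 : act 1 n1561 = n1561 := d14_1 D1561 (iv D1561) F5622
theorem F7860 : act 3 n1561 = n1561 := d27_1 D1561 (iv D1561) F5623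
theorem F7861 : act 5 n1561 = n1561 := d36_1 D1561 (iv D1561) F5624
theorem F7862 : act 6 n1561 = n1561 := d39_1 D1561 (iv D1561) (iv D1089) F4002 D1089
theorem F7863 : act 8 n1561 = n1561 := d42_2 F5625 D1561 (iv D1561)
def n1562 : Q := act 3 n1090
theorem D1562 : act 3 n1090 = n1562 := rfl
theorem F7864 : act 0 n1562 = n1562 := d2_1 D1562 (iv D1562) F5626
theorem F7865 : act 1 n1562 = n1170 := d10_1 D1562 (iv D1170) (iv F5627)
theorem F7866 : act 2 n1562 = n1562 := d17_1 D1562 (iv D1562) (iv F7588) F7589 F7588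
theorem F7867 : act 5 n1562 = n1562 := d25_2 F5629 D1562 (iv D1562)
theorem F7868 : act 6 n1562 = n1092 := d26_2 (iv F5630) D1562 (iv D1092)
theorem F7869 : act 7 n1562 = n1562 := d27_2 F5631 D1562 (iv D1562)
theorem F7870 : act 8 n1562 = n1562 := d28_2 D1090 D1562 (iv D1562) (iv D1090) F4006
def n1563 : Q := act 9 n1090
theorem D1563 : act 9 n1090 = n1563 := rfl
theorem F7871 : act 0 n1563 = n1563 := d8_1 D1563 (iv D1563) F5626
theorem F7872 : act 1 n1563 = n1171 := d16_1 D1563 (iv D1171) (iv F5627)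
theorem F7873 : act 4 n1563 = n1563 := d34_1 D1563 (iv D1563) F5628
theorem F7874 : act 5 n1563 = n1563 := d38_1 D1563 (iv D1563) F5629
theorem F7875 : act 6 n1563 = n1093 := d41_1 D1563 (iv D1093) (iv F5630)
theorem F7876 : act 7 n1563 = n1563 := d43_1 D1563 (iv D1563) F5631
def n1564 : Q := act 8 n1091
theorem D1564 : act 8 n1091 = n1564 := rfl
theorem F7877 : act 0 n1564 = n1564 := d7_1 D1564 (iv D1564) F5632
theorem F7878 : act 1 n1564 = n1172 := d15_1 D1564 (iv D1172) (iv F5633)
theorem F7879 : act 4 n1564 = n1564 := d33_1 D1564 (iv D1564) F5635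
theorem F7880 : act 5 n1564 = n1564 := d37_1 D1564 (iv D1564) F5636
theorem F7881 : act 6 n1564 = n1094 := d40_1 D1564 (iv D1094) (iv F5637)
theorem F7882 : act 7 n1564 = n1564 := d42_1 D1564 (iv D1564) F5638
def n1565 : Q := act 4 n1092
theorem D1565 : act 4 n1092 = n1565 := rfl
theorem F7883 : act 0 n1565 = n1565 := d3_1 D1565 (iv D1565) F5639
theorem F7884 : act 1 n1565 = n1174 := d11_1 D1565 (iv D1174) (iv F5640)
theorem F7885 : act 2 n1565 = n1565 := d18_1 D1565 (iv D1565) F5641
theorem F7886 : act 3 n1565 = n1565 := d24_1 D1565 (iv D1565) (iv D1092) F4012 D1092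
theorem F7887 : act 5 n1565 = n1565 := d30_2 (iv F5642) D1565 (iv D1565) F5642 F4040
theorem F7888 : act 7 n1565 = n1095 := d32_2 (iv F5643) D1565 (iv D1095)
theorem F7889 : act 8 n1565 = n1565 := d33_2 F5644 D1565 (iv D1565)
def n1566 : Q := act 9 n1092
theorem D1566 : act 9 n1092 = n1566 := rfl
theorem F7890 : act 0 n1566 = n1566 := d8_1 D1566 (iv D1566) F5639
theorem F7891 : act 1 n1566 = n1175 := d16_1 D1566 (iv D1175) (iv F5640)
theorem F7892 : act 2 n1566 = n1566 := d23_1 D1566 (iv D1566) F5641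
theorem F7893 : act 3 n1566 = n1093 := d29_1 D1566 (iv D1093) D1092
theorem F7894 : act 5 n1566 = n1099 := d38_1 D1566 (iv D1099) (iv F5642)
theorem F7895 : act 7 n1566 = n1096 := d43_1 D1566 (iv D1096) (iv F5643)
def n1567 : Q := act 8 n1093
theorem D1567 : act 8 n1093 = n1567 := rfl
theorem F7896 : act 0 n1567 = n1567 := d7_1 D1567 (iv D1567) F5645
theorem F7897 : act 1 n1567 = n1176 := d15_1 D1567 (iv D1176) (iv F5646)
theorem F7898 : act 4 n1567 = n1567 := d33_1 D1567 (iv D1567) F5647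
theorem F7899 : act 5 n1567 = n1100 := d37_1 D1567 (iv D1100) (iv F5648)
theorem F7900 : act 7 n1567 = n1097 := d42_1 D1567 (iv D1097) (iv F5649)
theorem F7901 : act 9 n1567 = n1094 := d44_2 D1093 D1567 (iv D1094) (iv D760) D759
def n1568 : Q := act 3 n1094
theorem D1568 : act 3 n1094 = n1568 := rfl
theorem F7902 : act 0 n1568 = n1568 := d2_1 D1568 (iv D1568) F5650
theorem F7903 : act 1 n1568 = n1177 := d10_1 D1568 (iv D1177) (iv F5651)
theorem F7904 : act 5 n1568 = n1101 := d25_2 (iv F5653) D1568 (iv D1101)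
theorem F7905 : act 7 n1568 = n1098 := d27_2 (iv F5654) D1568 (iv D1098)
theorem F7906 : act 8 n1568 = n1568 := d28_2 D1094 D1568 (iv D1568) (iv D1094) F4017
def n1569 : Q := act 9 n1095
theorem D1569 : act 9 n1095 = n1569 := rfl
theorem F7907 : act 0 n1569 = n1569 := d8_1 D1569 (iv D1569) F5655
theorem F7908 : act 1 n1569 = n1180 := d16_1 D1569 (iv D1180) (iv F5656)
theorem F7909 : act 2 n1569 = n1569 := d23_1 D1569 (iv D1569) F5657
theorem F7910 : act 3 n1569 = n1569 := d29_1 D1569 (iv D1569) F5658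
theorem F7911 : act 4 n1569 = n1096 := d34_1 D1569 (iv D1096) D1095
theorem F7912 : act 5 n1569 = n1569 := d38_1 D1569 (iv D1569) F5659
theorem F7913 : act 6 n1569 = n1569 := d41_1 D1569 (iv D1569) F5660
def n1570 : Q := act 8 n1096
theorem D1570 : act 8 n1096 = n1570 := rfl
theorem F7914 : act 0 n1570 = n1570 := d7_1 D1570 (iv D1570) F5662
theorem F7915 : act 1 n1570 = n1181 := d15_1 D1570 (iv D1181) (iv F5663)
theorem F7916 : act 2 n1570 = n1570 := d22_1 D1570 (iv D1570) F5664
theorem F7917 : act 5 n1570 = n1102 := d37_1 D1570 (iv D1102) (iv F5666)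
theorem F7918 : act 6 n1570 = n1570 := d40_1 D1570 (iv D1570) F5667
theorem F7919 : act 9 n1570 = n1570 := d44_2 D1096 D1570 (iv D1570) (iv D1096) F4026
def n1571 : Q := act 3 n1097
theorem D1571 : act 3 n1097 = n1571 := rfl
theorem F7920 : act 0 n1571 = n1571 := d2_1 D1571 (iv D1571) F5668
theorem F7921 : act 1 n1571 = n1182 := d10_1 D1571 (iv D1182) (iv F5669)
theorem F7922 : act 5 n1571 = n1103 := d25_2 (iv F5671) D1571 (iv D1103)
theorem F7923 : act 6 n1571 = n1571 := d26_2 F5672 D1571 (iv D1571)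
theorem F7924 : act 9 n1571 = n1098 := d29_2 (iv F5673) D1571 (iv D1098)
def n1572 : Q := act 2 n1098
theorem D1572 : act 2 n1098 = n1572 := rfl
theorem F7925 : act 0 n1572 = n1572 := d1_1 D1572 (iv D1572) F5674
theorem F7926 : act 5 n1572 = n1104 := d19_2 (iv F5676) D1572 (iv D1104)
theorem F7927 : act 6 n1572 = n1572 := d20_2 F5677 D1572 (iv D1572)
theorem F7928 : act 8 n1572 = n1572 := d22_2 F5678 D1572 (iv D1572)
def n1573 : Q := act 4 n1098
theorem D1573 : act 4 n1098 = n1573 := rfl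
theorem F7929 : act 0 n1573 = n1573 := d3_1 D1573 (iv D1573) F5674
theorem F7930 : act 1 n1573 = n1184 := d11_1 D1573 (iv D1184) (iv F5675)
theorem F7931 : act 3 n1573 = n1573 := d24_1 D1573 (iv D1573) (iv D1098) F4034 D1098
theorem F7932 : act 6 n1573 = n1573 := d31_2 F5677 D1573 (iv D1573)
theorem F7933 : act 8 n1573 = n1573 := d33_2 F5678 D1573 (iv D1573)
def n1574 : Q := act 8 n1099
theorem D1574 : act 8 n1099 = n1574 := rfl
theorem F7934 : act 0 n1574 = n1574 := d7_1 D1574 (iv D1574) F5679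
theorem F7935 : act 1 n1574 = n1186 := d15_1 D1574 (iv D1186) (iv F5680)
theorem F7936 : act 2 n1574 = n1574 := d22_1 D1574 (iv D1574) F5681
theorem F7937 : act 4 n1574 = n1574 := d33_1 D1574 (iv D1574) F5683
theorem F7938 : act 6 n1574 = n1574 := d40_1 D1574 (iv D1574) F5684
theorem F7939 : act 7 n1574 = n1102 := d42_1 D1574 (iv D1102) (iv F5685)
theorem F7940 : act 9 n1574 = n1574 := d44_2 D1099 D1574 (iv D1574) (iv D1099) F4043
def n1575 : Q := act 3 n1100
theorem D1575 : act 3 n1100 = n1575 := rfl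
theorem F7941 : act 0 n1575 = n1575 := d2_1 D1575 (iv D1575) F5686
theorem F7942 : act 1 n1575 = n1187 := d10_1 D1575 (iv D1187) (iv F5687)
theorem F7943 : act 6 n1575 = n1575 := d26_2 F5689 D1575 (iv D1575)
theorem F7944 : act 7 n1575 = n1103 := d27_2 (iv F5690) D1575 (iv D1103)
theorem F7945 : act 9 n1575 = n1101 := d29_2 (iv F5691) D1575 (iv D1101)
def n1576 : Q := act 2 n1101
theorem D1576 : act 2 n1101 = n1576 := rfl
theorem F7946 : act 0 n1576 = n1576 := d1_1 D1576 (iv D1576) F5692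
theorem F7947 : act 6 n1576 = n1576 := d20_2 F5694 D1576 (iv D1576)
theorem F7948 : act 7 n1576 = n1104 := d21_2 (iv F5695) D1576 (iv D1104)
theorem F7949 : act 8 n1576 = n1576 := d22_2 F5696 D1576 (iv D1576)
def n1577 : Q := act 4 n1101
theorem D1577 : act 4 n1101 = n1577 := rfl
theorem F7950 : act 0 n1577 = n1577 := d3_1 D1577 (iv D1577) F5692
theorem F7951 : act 1 n1577 = n1189 := d11_1 D1577 (iv D1189) (iv F5693)
theorem F7952 : act 3 n1577 = n1114 := d24_1 D1577 (iv D1114) (iv D775) (iv F4051) D1101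
theorem F7953 : act 6 n1577 = n1577 := d31_2 F5694 D1577 (iv D1577)
theorem F7954 : act 7 n1577 = n1105 := d32_2 (iv F5695) D1577 (iv D1105)
theorem F7955 : act 8 n1577 = n1577 := d33_2 F5696 D1577 (iv D1577)
def n1578 : Q := act 3 n1102
theorem D1578 : act 3 n1102 = n1578 := rfl
theorem F7956 : act 0 n1578 = n1578 := d2_1 D1578 (iv D1578) F5697
theorem F7957 : act 1 n1578 = n1191 := d10_1 D1578 (iv D1191) (iv F5698)
theorem F7958 : act 6 n1578 = n1106 := d26_2 (iv F5701) D1578 (iv D1106)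
theorem F7959 : act 8 n1578 = n1103 := d28_2 D1102 D1578 (iv D1103) (iv D768) (iv F4057)
theorem F7960 : act 9 n1578 = n1578 := d29_2 F5702 D1578 (iv D1578)
def n1579 : Q := act 2 n1103
theorem D1579 : act 2 n1103 = n1579 := rfl
theorem F7961 : act 0 n1579 = n1579 := d1_1 D1579 (iv D1579) F5703
theorem F7962 : act 6 n1579 = n1107 := d20_2 (iv F5705) D1579 (iv D1107)
theorem F7963 : act 9 n1579 = n1104 := d23_2 (iv F5706) D1579 (iv D1104)
def n1580 : Q := act 4 n1103
theorem D1580 : act 4 n1103 = n1580 := rfl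
theorem F7964 : act 0 n1580 = n1580 := d3_1 D1580 (iv D1580) F5703
theorem F7965 : act 1 n1580 = n1193 := d11_1 D1580 (iv D1193) (iv F5704)
theorem F7966 : act 3 n1580 = n1116 := d24_1 D1580 (iv D1116) (iv D776) (iv F4062) D1103
theorem F7967 : act 6 n1580 = n1108 := d31_2 (iv F5705) D1580 (iv D1108)
theorem F7968 : act 9 n1580 = n1105 := d34_2 (iv F5706) D1580 (iv D1105)
def n1581 : Q := act 1 n1104
theorem D1581 : act 1 n1104 = n1581 := rfl
theorem F7969 : act 2 n1581 = n1194 := d9_2 D1104 D1581 (iv D1194) (iv D831) (iv F4066)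
theorem F7970 : act 6 n1581 = n1109 := d13_2 (iv F5708) D1581 (iv D1109)
theorem F7971 : act 8 n1581 = n1581 := d15_2 F5709 D1581 (iv D1581)
def n1582 : Q := act 4 n1104
theorem D1582 : act 4 n1104 = n1582 := rfl
theorem F7972 : act 0 n1582 = n1582 := d3_1 D1582 (iv D1582) F5707
theorem F7973 : act 2 n1582 = n1105 := d18_1 D1582 (iv D1105) D1104
theorem F7974 : act 6 n1582 = n1110 := d31_2 (iv F5708) D1582 (iv D1110)
theorem F7975 : act 8 n1582 = n1582 := d33_2 F5709 D1582 (iv D1582)
def n1583 : Q := act 5 n1105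
theorem D1583 : act 5 n1105 = n1583 := rfl
theorem F7976 : act 0 n1583 = n1583 := d4_1 D1583 (iv D1583) F5710
theorem F7977 : act 1 n1583 = n1196 := d12_1 D1583 (iv D1196) (iv F5711)
theorem F7978 : act 3 n1583 = n1119 := d25_1 D1583 (iv D1119) (iv F5712)
theorem F7979 : act 8 n1583 = n1583 := d37_2 F5714 D1583 (iv D1583)
def n1584 : Q := act 2 n1106
theorem D1584 : act 2 n1106 = n1584 := rfl
theorem F7980 : act 0 n1584 = n1584 := d1_1 D1584 (iv D1584) F5715
theorem F7981 : act 3 n1584 = n1584 := d17_2 D1106 D1584 (iv D1584) (iv D1106) F4071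
theorem F7982 : act 5 n1584 = n1584 := d19_2 F5717 D1584 (iv D1584)
theorem F7983 : act 7 n1584 = n1584 := d21_2 F5718 D1584 (iv D1584)
theorem F7984 : act 8 n1584 = n1107 := d22_2 (iv F5719) D1584 (iv D1107)
theorem F7985 : act 9 n1584 = n1584 := d23_2 F5720 D1584 (iv D1584)
def n1585 : Q := act 4 n1106
theorem D1585 : act 4 n1106 = n1585 := rfl
theorem F7986 : act 0 n1585 = n1585 := d3_1 D1585 (iv D1585) F5715
theorem F7987 : act 1 n1585 = n1199 := d11_1 D1585 (iv D1199) (iv F5716)
theorem F7988 : act 3 n1585 = n1585 := d24_1 D1585 (iv D1585) (iv D1106) F4072 D1106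
theorem F7989 : act 7 n1585 = n1585 := d32_2 F5718 D1585 (iv D1585)
theorem F7990 : act 8 n1585 = n1108 := d33_2 (iv F5719) D1585 (iv D1108)
theorem F7991 : act 9 n1585 = n1585 := d34_2 F5720 D1585 (iv D1585)
def n1586 : Q := act 1 n1107
theorem D1586 : act 1 n1107 = n1586 := rfl
theorem F7992 : act 2 n1586 = n1200 := d9_2 D1107 D1586 (iv D1200) (iv D835) (iv F4077)
theorem F7993 : act 5 n1586 = n1586 := d12_2 F5722 D1586 (iv D1586)
theorem F7994 : act 7 n1586 = n1586 := d14_2 F5723 D1586 (iv D1586)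
theorem F7995 : act 9 n1586 = n1109 := d16_2 (iv F5724) D1586 (iv D1109)
def n1587 : Q := act 4 n1107
theorem D1587 : act 4 n1107 = n1587 := rfl
theorem F7996 : act 0 n1587 = n1587 := d3_1 D1587 (iv D1587) F5721
theorem F7997 : act 2 n1587 = n1108 := d18_1 D1587 (iv D1108) D1107
theorem F7998 : act 7 n1587 = n1587 := d32_2 F5723 D1587 (iv D1587)
theorem F7999 : act 9 n1587 = n1110 := d34_2 (iv F5724) D1587 (iv D1110)
def n1588 : Q := act 5 n1108
theorem D1588 : act 5 n1108 = n1588 := rfl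
theorem F8000 : act 0 n1588 = n1588 := d4_1 D1588 (iv D1588) F5725
theorem F8001 : act 1 n1588 = n1202 := d12_1 D1588 (iv D1202) (iv F5726)
theorem F8002 : act 3 n1588 = n1122 := d25_1 D1588 (iv D1122) (iv F5727)
theorem F8003 : act 4 n1588 = n1588 := d30_1 D1588 (iv D1588) (iv D1108) F4078 D1108
theorem F8004 : act 7 n1588 = n1588 := d36_2 F5728 D1588 (iv D1588)
theorem F8005 : act 9 n1588 = n1111 := d38_2 (iv F5729) D1588 (iv D1111)
def n1589 : Q := act 0 n1109
theorem D1589 : act 0 n1109 = n1589 := rfl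
theorem F8006 : act 1 n1589 = n1589 := d0_2 D1109 D1589 (iv D1589) (iv D1109) F4081
theorem F8007 : act 2 n1589 = n1203 := d1_2 (iv F5730) D1589 (iv D1203)
theorem F8008 : act 5 n1589 = n1589 := d4_2 F5731 D1589 (iv D1589)
theorem F8009 : act 7 n1589 = n1589 := d6_2 F5732 D1589 (iv D1589)
theorem F8010 : act 8 n1589 = n1589 := d7_2 F5733 D1589 (iv D1589)
def n1590 : Q := act 4 n1109
theorem D1590 : act 4 n1109 = n1590 := rfl
theorem F8011 : act 1 n1590 = n1110 := d11_1 D1590 (iv D1110) D1109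
theorem F8012 : act 2 n1590 = n1204 := d18_1 D1590 (iv D1204) (iv F5730)
theorem F8013 : act 7 n1590 = n1590 := d32_2 F5732 D1590 (iv D1590)
theorem F8014 : act 8 n1590 = n1590 := d33_2 F5733 D1590 (iv D1590)
def n1591 : Q := act 3 n1110
theorem D1591 : act 3 n1110 = n1591 := rfl
theorem F8015 : act 0 n1591 = n1591 := d2_1 D1591 (iv D1591) F5734
theorem F8016 : act 2 n1591 = n1125 := d17_1 D1591 (iv D1125) F4131 (iv F4087) (iv F5735)
theorem F8017 : act 7 n1591 = n1591 := d27_2 F5736 D1591 (iv D1591)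
def n1592 : Q := act 5 n1110
theorem D1592 : act 5 n1110 = n1592 := rfl
theorem F8018 : act 0 n1592 = n1592 := d4_1 D1592 (iv D1592) F5734
theorem F8019 : act 2 n1592 = n1111 := d19_1 D1592 (iv D1111) (iv F5735)
theorem F8020 : act 4 n1592 = n1592 := d30_1 D1592 (iv D1592) (iv D1110) F4082 D1110
theorem F8021 : act 7 n1592 = n1592 := d36_2 F5736 D1592 (iv D1592)
theorem F8022 : act 8 n1592 = n1592 := d37_2 F5737 D1592 (iv D1592)
def n1593 : Q := act 6 n1111
theorem D1593 : act 6 n1111 = n1593 := rfl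
theorem F8023 : act 0 n1593 = n1593 := d5_1 D1593 (iv D1593) F5738
theorem F8024 : act 1 n1593 = n1207 := d13_1 D1593 (iv D1207) (iv F5739)
theorem F8025 : act 3 n1593 = n1127 := d26_1 D1593 (iv D1127) (iv F5740)
theorem F8026 : act 4 n1593 = n1593 := d31_1 D1593 (iv D1593) F5741
theorem F8027 : act 8 n1593 = n1593 := d40_2 F5743 D1593 (iv D1593)
def n1594 : Q := act 2 n1112
theorem D1594 : act 2 n1112 = n1594 := rfl
theorem F8028 : act 0 n1594 = n1594 := d1_1 D1594 (iv D1594) F5744
theorem F8029 : act 5 n1594 = n1594 := d19_2 F5746 D1594 (iv D1594)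
theorem F8030 : act 6 n1594 = n1594 := d20_2 F5747 D1594 (iv D1594)
theorem F8031 : act 7 n1594 = n1115 := d21_2 (iv F5748) D1594 (iv D1115)
theorem F8032 : act 8 n1594 = n1594 := d22_2 F5749 D1594 (iv D1594)
theorem F8033 : act 9 n1594 = n1113 := d23_2 (iv F5750) D1594 (iv D1113)
def n1595 : Q := act 4 n1112
theorem D1595 : act 4 n1112 = n1595 := rfl
theorem F8034 : act 0 n1595 = n1595 := d3_1 D1595 (iv D1595) F5744
theorem F8035 : act 1 n1595 = n1209 := d11_1 D1595 (iv D1209) (iv F5745)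
theorem F8036 : act 6 n1595 = n1595 := d31_2 F5747 D1595 (iv D1595)
theorem F8037 : act 7 n1595 = n1116 := d32_2 (iv F5748) D1595 (iv D1116)
theorem F8038 : act 8 n1595 = n1595 := d33_2 F5749 D1595 (iv D1595)
theorem F8039 : act 9 n1595 = n1114 := d34_2 (iv F5750) D1595 (iv D1114)
def n1596 : Q := act 1 n1113
theorem D1596 : act 1 n1113 = n1596 := rfl
theorem F8040 : act 2 n1596 = n1210 := d9_2 D1113 D1596 (iv D1210) (iv D841) (iv F4097)
theorem F8041 : act 5 n1596 = n1596 := d12_2 F5752 D1596 (iv D1596)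
theorem F8042 : act 6 n1596 = n1596 := d13_2 F5753 D1596 (iv D1596)
theorem F8043 : act 7 n1596 = n1117 := d14_2 (iv F5754) D1596 (iv D1117)
theorem F8044 : act 8 n1596 = n1140 := d15_2 (iv F5755) D1596 (iv D1140)
def n1597 : Q := act 4 n1113
theorem D1597 : act 4 n1113 = n1597 := rfl
theorem F8045 : act 0 n1597 = n1597 := d3_1 D1597 (iv D1597) F5751
theorem F8046 : act 2 n1597 = n1114 := d18_1 D1597 (iv D1114) D1113
theorem F8047 : act 6 n1597 = n1597 := d31_2 F5753 D1597 (iv D1597)
theorem F8048 : act 7 n1597 = n1118 := d32_2 (iv F5754) D1597 (iv D1118)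
theorem F8049 : act 8 n1597 = n1141 := d33_2 (iv F5755) D1597 (iv D1141)
def n1598 : Q := act 5 n1114
theorem D1598 : act 5 n1114 = n1598 := rfl
theorem F8050 : act 0 n1598 = n1598 := d4_1 D1598 (iv D1598) F5756
theorem F8051 : act 1 n1598 = n1212 := d12_1 D1598 (iv D1212) (iv F5757)
theorem F8052 : act 4 n1598 = n1598 := d30_1 D1598 (iv D1598) (iv D1114) F4098 D1114
theorem F8053 : act 7 n1598 = n1119 := d36_2 (iv F5759) D1598 (iv D1119)
theorem F8054 : act 8 n1598 = n1142 := d37_2 (iv F5760) D1598 (iv D1142)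
def n1599 : Q := act 1 n1115
theorem D1599 : act 1 n1115 = n1599 := rfl
theorem F8055 : act 2 n1599 = n1213 := d9_2 D1115 D1599 (iv D1213) (iv D843) (iv F4103)
theorem F8056 : act 5 n1599 = n1599 := d12_2 F5762 D1599 (iv D1599)
theorem F8057 : act 6 n1599 = n1120 := d13_2 (iv F5763) D1599 (iv D1120)
theorem F8058 : act 8 n1599 = n1599 := d15_2 F5764 D1599 (iv D1599)
theorem F8059 : act 9 n1599 = n1117 := d16_2 (iv F5765) D1599 (iv D1117)
def n1600 : Q := act 4 n1115
theorem D1600 : act 4 n1115 = n1600 := rfl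
theorem F8060 : act 0 n1600 = n1600 := d3_1 D1600 (iv D1600) F5761
theorem F8061 : act 2 n1600 = n1116 := d18_1 D1600 (iv D1116) D1115
theorem F8062 : act 6 n1600 = n1121 := d31_2 (iv F5763) D1600 (iv D1121)
theorem F8063 : act 8 n1600 = n1600 := d33_2 F5764 D1600 (iv D1600)
theorem F8064 : act 9 n1600 = n1118 := d34_2 (iv F5765) D1600 (iv D1118)
def n1601 : Q := act 5 n1116
theorem D1601 : act 5 n1116 = n1601 := rfl
theorem F8065 : act 0 n1601 = n1601 := d4_1 D1601 (iv D1601) F5766
theorem F8066 : act 1 n1601 = n1215 := d12_1 D1601 (iv D1215) (iv F5767)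
theorem F8067 : act 4 n1601 = n1601 := d30_1 D1601 (iv D1601) (iv D1116) F4104 D1116
theorem F8068 : act 8 n1601 = n1601 := d37_2 F5769 D1601 (iv D1601)
theorem F8069 : act 9 n1601 = n1119 := d38_2 (iv F5770) D1601 (iv D1119)
def n1602 : Q := act 0 n1117
theorem D1602 : act 0 n1117 = n1602 := rfl
theorem F8070 : act 1 n1602 = n1602 := d0_2 D1117 D1602 (iv D1602) (iv D1117) F4108
theorem F8071 : act 2 n1602 = n1216 := d1_2 (iv F5771) D1602 (iv D1216)
theorem F8072 : act 5 n1602 = n1602 := d4_2 F5772 D1602 (iv D1602)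
theorem F8073 : act 6 n1602 = n1123 := d5_2 (iv F5773) D1602 (iv D1123)
theorem F8074 : act 8 n1602 = n1143 := d7_2 (iv F5774) D1602 (iv D1143)
def n1603 : Q := act 4 n1117
theorem D1603 : act 4 n1117 = n1603 := rfl
theorem F8075 : act 1 n1603 = n1118 := d11_1 D1603 (iv D1118) D1117
theorem F8076 : act 2 n1603 = n1217 := d18_1 D1603 (iv D1217) (iv F5771)
theorem F8077 : act 6 n1603 = n1124 := d31_2 (iv F5773) D1603 (iv D1124)
theorem F8078 : act 8 n1603 = n1144 := d33_2 (iv F5774) D1603 (iv D1144)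
def n1604 : Q := act 3 n1118
theorem D1604 : act 3 n1118 = n1604 := rfl
theorem F8079 : act 0 n1604 = n1604 := d2_1 D1604 (iv D1604) F5775
theorem F8080 : act 6 n1604 = n1125 := d26_2 (iv F5777) D1604 (iv D1125)
def n1605 : Q := act 5 n1118
theorem D1605 : act 5 n1118 = n1605 := rfl
theorem F8081 : act 0 n1605 = n1605 := d4_1 D1605 (iv D1605) F5775
theorem F8082 : act 2 n1605 = n1119 := d19_1 D1605 (iv D1119) (iv F5776)
theorem F8083 : act 4 n1605 = n1605 := d30_1 D1605 (iv D1605) (iv D1118) F4109 D1118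
theorem F8084 : act 8 n1605 = n1146 := d37_2 (iv F5778) D1605 (iv D1146)
def n1606 : Q := act 6 n1119
theorem D1606 : act 6 n1119 = n1606 := rfl
theorem F8085 : act 0 n1606 = n1606 := d5_1 D1606 (iv D1606) F5779
theorem F8086 : act 1 n1606 = n1220 := d13_1 D1606 (iv D1220) (iv F5780)
theorem F8087 : act 4 n1606 = n1606 := d31_1 D1606 (iv D1606) F5781
theorem F8088 : act 5 n1606 = n1127 := d35_1 D1606 (iv D1127) (iv D783) (iv F4114) D1119
theorem F8089 : act 8 n1606 = n1147 := d40_2 (iv F5782) D1606 (iv D1147)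
def n1607 : Q := act 0 n1120
theorem D1607 : act 0 n1120 = n1607 := rfl
theorem F8090 : act 1 n1607 = n1607 := d0_2 D1120 D1607 (iv D1607) (iv D1120) F4116
theorem F8091 : act 2 n1607 = n1221 := d1_2 (iv F5783) D1607 (iv D1221)
theorem F8092 : act 5 n1607 = n1128 := d4_2 (iv F5784) D1607 (iv D1128)
theorem F8093 : act 7 n1607 = n1607 := d6_2 F5785 D1607 (iv D1607)
theorem F8094 : act 8 n1607 = n1607 := d7_2 F5786 D1607 (iv D1607)
theorem F8095 : act 9 n1607 = n1123 := d8_2 (iv F5787) D1607 (iv D1123)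
def n1608 : Q := act 4 n1120
theorem D1608 : act 4 n1120 = n1608 := rfl
theorem F8096 : act 1 n1608 = n1121 := d11_1 D1608 (iv D1121) D1120
theorem F8097 : act 2 n1608 = n1222 := d18_1 D1608 (iv D1222) (iv F5783)
theorem F8098 : act 7 n1608 = n1608 := d32_2 F5785 D1608 (iv D1608)
theorem F8099 : act 8 n1608 = n1608 := d33_2 F5786 D1608 (iv D1608)
theorem F8100 : act 9 n1608 = n1124 := d34_2 (iv F5787) D1608 (iv D1124)
def n1609 : Q := act 3 n1121
theorem D1609 : act 3 n1121 = n1609 := rfl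
theorem F8101 : act 0 n1609 = n1609 := d2_1 D1609 (iv D1609) F5788
theorem F8102 : act 7 n1609 = n1609 := d27_2 F5790 D1609 (iv D1609)
theorem F8103 : act 9 n1609 = n1125 := d29_2 (iv F5792) D1609 (iv D1125)
def n1610 : Q := act 5 n1121
theorem D1610 : act 5 n1121 = n1610 := rfl
theorem F8104 : act 0 n1610 = n1610 := d4_1 D1610 (iv D1610) F5788
theorem F8105 : act 2 n1610 = n1122 := d19_1 D1610 (iv D1122) (iv F5789)
theorem F8106 : act 4 n1610 = n1131 := d30_1 D1610 (iv D1131) (iv D785) (iv F4117) D1121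
theorem F8107 : act 7 n1610 = n1610 := d36_2 F5790 D1610 (iv D1610)
theorem F8108 : act 8 n1610 = n1610 := d37_2 F5791 D1610 (iv D1610)
theorem F8109 : act 9 n1610 = n1126 := d38_2 (iv F5792) D1610 (iv D1126)
def n1611 : Q := act 6 n1122
theorem D1611 : act 6 n1122 = n1611 := rfl
theorem F8110 : act 0 n1611 = n1611 := d5_1 D1611 (iv D1611) F5793
theorem F8111 : act 1 n1611 = n1225 := d13_1 D1611 (iv D1225) (iv F5794)
theorem F8112 : act 4 n1611 = n1132 := d31_1 D1611 (iv D1132) (iv F5795)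
theorem F8113 : act 8 n1611 = n1611 := d40_2 F5797 D1611 (iv D1611)
theorem F8114 : act 9 n1611 = n1127 := d41_2 (iv F5798) D1611 (iv D1127)
def n1612 : Q := act 4 n1123
theorem D1612 : act 4 n1123 = n1612 := rfl
theorem F8115 : act 0 n1612 = n1124 := d3_1 D1612 (iv D1124) D1123
theorem F8116 : act 1 n1612 = n1612 := d11_1 D1612 (iv D1612) F5799
theorem F8117 : act 2 n1612 = n1226 := d18_1 D1612 (iv D1226) (iv F5800)
theorem F8118 : act 7 n1612 = n1612 := d32_2 F5802 D1612 (iv D1612)
theorem F8119 : act 8 n1612 = n1148 := d33_2 (iv F5803) D1612 (iv D1148)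
def n1613 : Q := act 3 n1124
theorem D1613 : act 3 n1124 = n1613 := rfl
theorem F8120 : act 1 n1613 = n1125 := d10_1 D1613 (iv D1125) (iv F5804)
theorem F8121 : act 7 n1613 = n1613 := d27_2 F5806 D1613 (iv D1613)
def n1614 : Q := act 5 n1124
theorem D1614 : act 5 n1124 = n1614 := rfl
theorem F8122 : act 1 n1614 = n1126 := d12_1 D1614 (iv D1126) (iv F5804)
theorem F8123 : act 2 n1614 = n1228 := d19_1 D1614 (iv D1228) (iv F5805)
theorem F8124 : act 4 n1614 = n1135 := d30_1 D1614 (iv D1135) (iv D788) (iv F4127) D1124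
theorem F8125 : act 7 n1614 = n1614 := d36_2 F5806 D1614 (iv D1614)
theorem F8126 : act 8 n1614 = n1150 := d37_2 (iv F5807) D1614 (iv D1150)
def n1615 : Q := act 5 n1125
theorem D1615 : act 5 n1125 = n1615 := rfl
theorem F8127 : act 0 n1615 = n1615 := d4_1 D1615 (iv D1615) F5808
theorem F8128 : act 3 n1615 = n1126 := d25_1 D1615 (iv D1126) D1125
theorem F8129 : act 7 n1615 = n1615 := d36_2 F5809 D1615 (iv D1615)
def n1616 : Q := act 8 n1125
theorem D1616 : act 8 n1125 = n1616 := rfl
theorem F8130 : act 0 n1616 = n1616 := d7_1 D1616 (iv D1616) F5808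
theorem F8131 : act 3 n1616 = n1152 := d28_1 D1616 (iv D1152) (iv D799) (iv F4133) D1125
theorem F8132 : act 7 n1616 = n1616 := d42_1 D1616 (iv D1616) F5809
def n1617 : Q := act 6 n1126
theorem D1617 : act 6 n1126 = n1617 := rfl
theorem F8133 : act 0 n1617 = n1617 := d5_1 D1617 (iv D1617) F5810
theorem F8134 : act 2 n1617 = n1127 := d20_1 D1617 (iv D1127) (iv F5811)
theorem F8135 : act 4 n1617 = n1138 := d31_1 D1617 (iv D1138) (iv F5812)
theorem F8136 : act 8 n1617 = n1153 := d40_2 (iv F5814) D1617 (iv D1153)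
def n1618 : Q := act 7 n1127
theorem D1618 : act 7 n1127 = n1618 := rfl
theorem F8137 : act 0 n1618 = n1618 := d6_1 D1618 (iv D1618) F5815
theorem F8138 : act 1 n1618 = n1232 := d14_1 D1618 (iv D1232) (iv F5816)
theorem F8139 : act 4 n1618 = n1139 := d32_1 D1618 (iv D1139) (iv F5817)
theorem F8140 : act 6 n1618 = n1618 := d39_1 D1618 (iv D1618) (iv D1127) F4137 D1127
theorem F8141 : act 8 n1618 = n1154 := d42_2 (iv F5818) D1618 (iv D1154)
def n1619 : Q := act 4 n1128
theorem D1619 : act 4 n1128 = n1619 := rfl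
theorem F8142 : act 0 n1619 = n1129 := d3_1 D1619 (iv D1129) D1128
theorem F8143 : act 1 n1619 = n1619 := d11_1 D1619 (iv D1619) F5819
theorem F8144 : act 2 n1619 = n1233 := d18_1 D1619 (iv D1233) (iv F5820)
theorem F8145 : act 6 n1619 = n1619 := d31_2 F5821 D1619 (iv D1619)
theorem F8146 : act 7 n1619 = n1619 := d32_2 F5822 D1619 (iv D1619)
theorem F8147 : act 8 n1619 = n1619 := d33_2 F5823 D1619 (iv D1619)
theorem F8148 : act 9 n1619 = n1133 := d34_2 (iv F5824) D1619 (iv D1133)
def n1620 : Q := act 3 n1129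
theorem D1620 : act 3 n1129 = n1620 := rfl
theorem F8149 : act 1 n1620 = n1130 := d10_1 D1620 (iv D1130) (iv F5825)
theorem F8150 : act 6 n1620 = n1620 := d26_2 F5827 D1620 (iv D1620)
theorem F8151 : act 7 n1620 = n1620 := d27_2 F5828 D1620 (iv D1620)
theorem F8152 : act 9 n1620 = n1134 := d29_2 (iv F5830) D1620 (iv D1134)
def n1621 : Q := act 5 n1129
theorem D1621 : act 5 n1129 = n1621 := rfl
theorem F8153 : act 1 n1621 = n1131 := d12_1 D1621 (iv D1131) (iv F5825)
theorem F8154 : act 2 n1621 = n1235 := d19_1 D1621 (iv D1235) (iv F5826)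
theorem F8155 : act 7 n1621 = n1621 := d36_2 F5828 D1621 (iv D1621)
theorem F8156 : act 8 n1621 = n1621 := d37_2 F5829 D1621 (iv D1621)
theorem F8157 : act 9 n1621 = n1135 := d38_2 (iv F5830) D1621 (iv D1135)
def n1622 : Q := act 5 n1130
theorem D1622 : act 5 n1130 = n1622 := rfl
theorem F8158 : act 0 n1622 = n1622 := d4_1 D1622 (iv D1622) F5831
theorem F8159 : act 2 n1622 = n1622 := d19_1 D1622 (iv D1622) F5832
theorem F8160 : act 3 n1622 = n1131 := d25_1 D1622 (iv D1131) D1130
theorem F8161 : act 7 n1622 = n1622 := d36_2 F5834 D1622 (iv D1622)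
theorem F8162 : act 9 n1622 = n1136 := d38_2 (iv F5835) D1622 (iv D1136)
def n1623 : Q := act 8 n1130
theorem D1623 : act 8 n1130 = n1623 := rfl
theorem F8163 : act 0 n1623 = n1623 := d7_1 D1623 (iv D1623) F5831
theorem F8164 : act 2 n1623 = n1623 := d22_1 D1623 (iv D1623) F5832
theorem F8165 : act 3 n1623 = n1623 := d28_1 D1623 (iv D1623) (iv D1130) F4148 D1130
theorem F8166 : act 6 n1623 = n1623 := d40_1 D1623 (iv D1623) F5833
theorem F8167 : act 7 n1623 = n1623 := d42_1 D1623 (iv D1623) F5834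
def n1624 : Q := act 6 n1131
theorem D1624 : act 6 n1131 = n1624 := rfl
theorem F8168 : act 0 n1624 = n1624 := d5_1 D1624 (iv D1624) F5836
theorem F8169 : act 2 n1624 = n1132 := d20_1 D1624 (iv D1132) (iv F5837)
theorem F8170 : act 5 n1624 = n1624 := d35_1 D1624 (iv D1624) (iv D1131) F4146 D1131
theorem F8171 : act 8 n1624 = n1624 := d40_2 F5839 D1624 (iv D1624)
theorem F8172 : act 9 n1624 = n1138 := d41_2 (iv F5840) D1624 (iv D1138)
def n1625 : Q := act 7 n1132
theorem D1625 : act 7 n1132 = n1625 := rfl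
theorem F8173 : act 0 n1625 = n1625 := d6_1 D1625 (iv D1625) F5841
theorem F8174 : act 1 n1625 = n1239 := d14_1 D1625 (iv D1239) (iv F5842)
theorem F8175 : act 3 n1625 = n1625 := d27_1 D1625 (iv D1625) F5843
theorem F8176 : act 5 n1625 = n1625 := d36_1 D1625 (iv D1625) F5844
theorem F8177 : act 6 n1625 = n1625 := d39_1 D1625 (iv D1625) (iv D1132) F4153 D1132
theorem F8178 : act 8 n1625 = n1625 := d42_2 F5845 D1625 (iv D1625)
theorem F8179 : act 9 n1625 = n1139 := d43_2 (iv F5846) D1625 (iv D1139)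
def n1626 : Q := act 3 n1133
theorem D1626 : act 3 n1133 = n1626 := rfl
theorem F8180 : act 0 n1626 = n1134 := d2_1 D1626 (iv D1134) (iv F5847)
theorem F8181 : act 1 n1626 = n1626 := d10_1 D1626 (iv D1626) F5848
theorem F8182 : act 6 n1626 = n1626 := d26_2 F5850 D1626 (iv D1626)
theorem F8183 : act 7 n1626 = n1626 := d27_2 F5851 D1626 (iv D1626)
def n1627 : Q := act 5 n1133
theorem D1627 : act 5 n1133 = n1627 := rfl
theorem F8184 : act 0 n1627 = n1135 := d4_1 D1627 (iv D1135) (iv F5847)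
theorem F8185 : act 1 n1627 = n1627 := d12_1 D1627 (iv D1627) F5848
theorem F8186 : act 2 n1627 = n1241 := d19_1 D1627 (iv D1241) (iv F5849)
theorem F8187 : act 7 n1627 = n1627 := d36_2 F5851 D1627 (iv D1627)
theorem F8188 : act 8 n1627 = n1156 := d37_2 (iv F5852) D1627 (iv D1156)
def n1628 : Q := act 2 n1134
theorem D1628 : act 2 n1134 = n1628 := rfl
theorem F8189 : act 1 n1628 = n1628 := d9_1 D1628 (iv D1628) F5853 F4167 (iv F5853)
theorem F8190 : act 3 n1628 = n1242 := d17_2 D1134 D1628 (iv D1242) (iv D862) (iv F4162)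
theorem F8191 : act 6 n1628 = n1628 := d20_2 F5854 D1628 (iv D1628)
theorem F8192 : act 7 n1628 = n1628 := d21_2 F5855 D1628 (iv D1628)
def n1629 : Q := act 5 n1134
theorem D1629 : act 5 n1134 = n1629 := rfl
theorem F8193 : act 1 n1629 = n1136 := d12_1 D1629 (iv D1136) (iv F5853)
theorem F8194 : act 3 n1629 = n1135 := d25_1 D1629 (iv D1135) D1134
theorem F8195 : act 7 n1629 = n1629 := d36_2 F5855 D1629 (iv D1629)
def n1630 : Q := act 8 n1134
theorem D1630 : act 8 n1134 = n1630 := rfl
theorem F8196 : act 1 n1630 = n1137 := d15_1 D1630 (iv D1137) (iv F5853)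
theorem F8197 : act 3 n1630 = n1158 := d28_1 D1630 (iv D1158) (iv D803) (iv F4165) D1134
theorem F8198 : act 6 n1630 = n1630 := d40_1 D1630 (iv D1630) F5854
theorem F8199 : act 7 n1630 = n1630 := d42_1 D1630 (iv D1630) F5855
def n1631 : Q := act 6 n1135
theorem D1631 : act 6 n1135 = n1631 := rfl
theorem F8200 : act 1 n1631 = n1138 := d13_1 D1631 (iv D1138) (iv F5856)
theorem F8201 : act 2 n1631 = n1244 := d20_1 D1631 (iv D1244) (iv F5857)
theorem F8202 : act 5 n1631 = n1631 := d35_1 D1631 (iv D1631) (iv D1135) F4163 D1135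
theorem F8203 : act 8 n1631 = n1159 := d40_2 (iv F5859) D1631 (iv D1159)
def n1632 : Q := act 4 n1136
theorem D1632 : act 4 n1136 = n1632 := rfl
theorem F8204 : act 0 n1632 = n1632 := d3_1 D1632 (iv D1632) F5860
theorem F8205 : act 2 n1632 = n1632 := d18_1 D1632 (iv D1632) F5861
theorem F8206 : act 7 n1632 = n1632 := d32_2 F5863 D1632 (iv D1632)
def n1633 : Q := act 6 n1136
theorem D1633 : act 6 n1136 = n1633 := rfl
theorem F8207 : act 0 n1633 = n1633 := d5_1 D1633 (iv D1633) F5860
theorem F8208 : act 2 n1633 = n1633 := d20_1 D1633 (iv D1633) F5861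
theorem F8209 : act 3 n1633 = n1138 := d26_1 D1633 (iv D1138) (iv F5862)
theorem F8210 : act 5 n1633 = n1633 := d35_1 D1633 (iv D1633) (iv D1136) F4168 D1136
def n1634 : Q := act 8 n1136
theorem D1634 : act 8 n1136 = n1634 := rfl
theorem F8211 : act 0 n1634 = n1634 := d7_1 D1634 (iv D1634) F5860
theorem F8212 : act 2 n1634 = n1634 := d22_1 D1634 (iv D1634) F5861
theorem F8213 : act 3 n1634 = n1162 := d28_1 D1634 (iv D1162) F4248 (iv F4173) (iv F5862)
theorem F8214 : act 5 n1634 = n1137 := d37_1 D1634 (iv D1137) D1136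
theorem F8215 : act 7 n1634 = n1634 := d42_1 D1634 (iv D1634) F5863
def n1635 : Q := act 9 n1137
theorem D1635 : act 9 n1137 = n1635 := rfl
theorem F8216 : act 0 n1635 = n1635 := d8_1 D1635 (iv D1635) F5864
theorem F8217 : act 2 n1635 = n1635 := d23_1 D1635 (iv D1635) F5865
theorem F8218 : act 3 n1635 = n1163 := d29_1 D1635 (iv D1163) (iv F5866)
theorem F8219 : act 6 n1635 = n1635 := d41_1 D1635 (iv D1635) F5867
theorem F8220 : act 7 n1635 = n1635 := d43_1 D1635 (iv D1635) F5868
def n1636 : Q := act 7 n1138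
theorem D1636 : act 7 n1138 = n1636 := rfl
theorem F8221 : act 0 n1636 = n1636 := d6_1 D1636 (iv D1636) F5869
theorem F8222 : act 2 n1636 = n1139 := d21_1 D1636 (iv D1139) (iv F5870)
theorem F8223 : act 5 n1636 = n1636 := d36_1 D1636 (iv D1636) F5871
theorem F8224 : act 6 n1636 = n1636 := d39_1 D1636 (iv D1636) (iv D1138) F4172 D1138
theorem F8225 : act 8 n1636 = n1164 := d42_2 (iv F5872) D1636 (iv D1164)
def n1637 : Q := act 0 n1140
theorem D1637 : act 0 n1140 = n1637 := rfl
theorem F8226 : act 1 n1637 = n1637 := d0_2 D1140 D1637 (iv D1637) (iv D1140) F4179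
theorem F8227 : act 2 n1637 = n1248 := d1_2 (iv F5879) D1637 (iv D1248)
theorem F8228 : act 3 n1637 = n1637 := d2_2 F5880 D1637 (iv D1637)
theorem F8229 : act 5 n1637 = n1637 := d4_2 F5881 D1637 (iv D1637)
theorem F8230 : act 6 n1637 = n1637 := d5_2 F5882 D1637 (iv D1637)
theorem F8231 : act 7 n1637 = n1143 := d6_2 (iv F5883) D1637 (iv D1143)
theorem F8232 : act 9 n1637 = n1637 := d8_2 F5884 D1637 (iv D1637)
def n1638 : Q := act 4 n1140
theorem D1638 : act 4 n1140 = n1638 := rfl
theorem F8233 : act 1 n1638 = n1141 := d11_1 D1638 (iv D1141) D1140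
theorem F8234 : act 2 n1638 = n1249 := d18_1 D1638 (iv D1249) (iv F5879)
theorem F8235 : act 6 n1638 = n1638 := d31_2 F5882 D1638 (iv D1638)
theorem F8236 : act 7 n1638 = n1144 := d32_2 (iv F5883) D1638 (iv D1144)
theorem F8237 : act 9 n1638 = n1638 := d34_2 F5884 D1638 (iv D1638)
def n1639 : Q := act 3 n1141
theorem D1639 : act 3 n1141 = n1639 := rfl
theorem F8238 : act 0 n1639 = n1639 := d2_1 D1639 (iv D1639) F5885
theorem F8239 : act 2 n1639 = n1639 := d17_1 D1639 (iv D1639) F5886 F4187 (iv F5886)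
theorem F8240 : act 4 n1639 = n1639 := d24_2 D1141 D1639 (iv D1639) (iv D1141) F4180
theorem F8241 : act 6 n1639 = n1639 := d26_2 F5887 D1639 (iv D1639)
theorem F8242 : act 7 n1639 = n1145 := d27_2 (iv F5888) D1639 (iv D1145)
theorem F8243 : act 9 n1639 = n1639 := d29_2 F5889 D1639 (iv D1639)
def n1640 : Q := act 5 n1141
theorem D1640 : act 5 n1141 = n1640 := rfl
theorem F8244 : act 0 n1640 = n1640 := d4_1 D1640 (iv D1640) F5885
theorem F8245 : act 2 n1640 = n1142 := d19_1 D1640 (iv D1142) (iv F5886)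
theorem F8246 : act 4 n1640 = n1640 := d30_1 D1640 (iv D1640) (iv D1141) F4181 D1141
theorem F8247 : act 7 n1640 = n1146 := d36_2 (iv F5888) D1640 (iv D1146)
theorem F8248 : act 9 n1640 = n1640 := d38_2 F5889 D1640 (iv D1640)
def n1641 : Q := act 6 n1142
theorem D1641 : act 6 n1142 = n1641 := rfl
theorem F8249 : act 0 n1641 = n1641 := d5_1 D1641 (iv D1641) F5890
theorem F8250 : act 1 n1641 = n1252 := d13_1 D1641 (iv D1252) (iv F5891)
theorem F8251 : act 3 n1641 = n1641 := d26_1 D1641 (iv D1641) F5892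
theorem F8252 : act 4 n1641 = n1641 := d31_1 D1641 (iv D1641) F5893
theorem F8253 : act 5 n1641 = n1641 := d35_1 D1641 (iv D1641) (iv D1142) F4188 D1142
theorem F8254 : act 9 n1641 = n1641 := d41_2 F5895 D1641 (iv D1641)
def n1642 : Q := act 4 n1143
theorem D1642 : act 4 n1143 = n1642 := rfl
theorem F8255 : act 0 n1642 = n1144 := d3_1 D1642 (iv D1144) D1143
theorem F8256 : act 1 n1642 = n1642 := d11_1 D1642 (iv D1642) F5896
theorem F8257 : act 2 n1642 = n1253 := d18_1 D1642 (iv D1253) (iv F5897)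
theorem F8258 : act 6 n1642 = n1148 := d31_2 (iv F5900) D1642 (iv D1148)
theorem F8259 : act 9 n1642 = n1642 := d34_2 F5901 D1642 (iv D1642)
def n1643 : Q := act 3 n1144
theorem D1643 : act 3 n1144 = n1643 := rfl
theorem F8260 : act 1 n1643 = n1145 := d10_1 D1643 (iv D1145) (iv F5902)
theorem F8261 : act 4 n1643 = n1643 := d24_2 D1144 D1643 (iv D1643) (iv D1144) F4192
theorem F8262 : act 6 n1643 = n1149 := d26_2 (iv F5904) D1643 (iv D1149)
theorem F8263 : act 9 n1643 = n1643 := d29_2 F5905 D1643 (iv D1643)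
def n1644 : Q := act 5 n1144
theorem D1644 : act 5 n1144 = n1644 := rfl
theorem F8264 : act 1 n1644 = n1146 := d12_1 D1644 (iv D1146) (iv F5902)
theorem F8265 : act 2 n1644 = n1255 := d19_1 D1644 (iv D1255) (iv F5903)
theorem F8266 : act 4 n1644 = n1644 := d30_1 D1644 (iv D1644) (iv D1144) F4193 D1144
theorem F8267 : act 9 n1644 = n1644 := d38_2 F5905 D1644 (iv D1644)
def n1645 : Q := act 5 n1145
theorem D1645 : act 5 n1145 = n1645 := rfl
theorem F8268 : act 0 n1645 = n1645 := d4_1 D1645 (iv D1645) F5906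
theorem F8269 : act 2 n1645 = n1645 := d19_1 D1645 (iv D1645) F5907
theorem F8270 : act 3 n1645 = n1146 := d25_1 D1645 (iv D1146) D1145
theorem F8271 : act 9 n1645 = n1645 := d38_2 F5910 D1645 (iv D1645)
def n1646 : Q := act 8 n1145
theorem D1646 : act 8 n1145 = n1646 := rfl
theorem F8272 : act 0 n1646 = n1646 := d7_1 D1646 (iv D1646) F5906
theorem F8273 : act 2 n1646 = n1646 := d22_1 D1646 (iv D1646) F5907
theorem F8274 : act 4 n1646 = n1646 := d33_1 D1646 (iv D1646) F5908
theorem F8275 : act 6 n1646 = n1152 := d40_1 D1646 (iv D1152) (iv F5909)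
def n1647 : Q := act 6 n1146
theorem D1647 : act 6 n1146 = n1647 := rfl
theorem F8276 : act 0 n1647 = n1647 := d5_1 D1647 (iv D1647) F5911
theorem F8277 : act 2 n1647 = n1147 := d20_1 D1647 (iv D1147) (iv F5912)
theorem F8278 : act 4 n1647 = n1647 := d31_1 D1647 (iv D1647) F5913
theorem F8279 : act 5 n1647 = n1153 := d35_1 D1647 (iv D1153) (iv D800) (iv F4198) D1146
theorem F8280 : act 9 n1647 = n1647 := d41_2 F5914 D1647 (iv D1647)
def n1648 : Q := act 7 n1147
theorem D1648 : act 7 n1147 = n1648 := rfl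
theorem F8281 : act 0 n1648 = n1648 := d6_1 D1648 (iv D1648) F5915
theorem F8282 : act 1 n1648 = n1259 := d14_1 D1648 (iv D1259) (iv F5916)
theorem F8283 : act 3 n1648 = n1648 := d27_1 D1648 (iv D1648) F5917
theorem F8284 : act 4 n1648 = n1648 := d32_1 D1648 (iv D1648) F5918
theorem F8285 : act 5 n1648 = n1154 := d36_1 D1648 (iv D1154) (iv F5919)
theorem F8286 : act 9 n1648 = n1648 := d43_2 F5920 D1648 (iv D1648)
def n1649 : Q := act 3 n1148
theorem D1649 : act 3 n1148 = n1649 := rfl
theorem F8287 : act 0 n1649 = n1149 := d2_1 D1649 (iv D1149) (iv F5921)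
theorem F8288 : act 1 n1649 = n1649 := d10_1 D1649 (iv D1649) F5922
theorem F8289 : act 4 n1649 = n1649 := d24_2 D1148 D1649 (iv D1649) (iv D1148) F4207
theorem F8290 : act 7 n1649 = n1649 := d27_2 F5924 D1649 (iv D1649)
theorem F8291 : act 9 n1649 = n1649 := d29_2 F5925 D1649 (iv D1649)
def n1650 : Q := act 5 n1148
theorem D1650 : act 5 n1148 = n1650 := rfl
theorem F8292 : act 0 n1650 = n1150 := d4_1 D1650 (iv D1150) (iv F5921)
theorem F8293 : act 1 n1650 = n1650 := d12_1 D1650 (iv D1650) F5922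
theorem F8294 : act 2 n1650 = n1261 := d19_1 D1650 (iv D1261) (iv F5923)
theorem F8295 : act 4 n1650 = n1156 := d30_1 D1650 (iv D1156) (iv D802) (iv F4208) D1148
theorem F8296 : act 7 n1650 = n1650 := d36_2 F5924 D1650 (iv D1650)
theorem F8297 : act 9 n1650 = n1650 := d38_2 F5925 D1650 (iv D1650)
def n1651 : Q := act 2 n1149
theorem D1651 : act 2 n1149 = n1651 := rfl
theorem F8298 : act 1 n1651 = n1651 := d9_1 D1651 (iv D1651) F5926 F4216 (iv F5926)
theorem F8299 : act 3 n1651 = n1262 := d17_2 D1149 D1651 (iv D1262) (iv D876) (iv F4212)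
theorem F8300 : act 4 n1651 = n1651 := d18_2 F5927 D1651 (iv D1651)
theorem F8301 : act 7 n1651 = n1651 := d21_2 F5928 D1651 (iv D1651)
theorem F8302 : act 9 n1651 = n1651 := d23_2 F5929 D1651 (iv D1651)
def n1652 : Q := act 5 n1149
theorem D1652 : act 5 n1149 = n1652 := rfl
theorem F8303 : act 1 n1652 = n1151 := d12_1 D1652 (iv D1151) (iv F5926)
theorem F8304 : act 3 n1652 = n1150 := d25_1 D1652 (iv D1150) D1149
theorem F8305 : act 7 n1652 = n1652 := d36_2 F5928 D1652 (iv D1652)
theorem F8306 : act 9 n1652 = n1652 := d38_2 F5929 D1652 (iv D1652)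
def n1653 : Q := act 8 n1149
theorem D1653 : act 8 n1149 = n1653 := rfl
theorem F8307 : act 1 n1653 = n1152 := d15_1 D1653 (iv D1152) (iv F5926)
theorem F8308 : act 4 n1653 = n1653 := d33_1 D1653 (iv D1653) F5927
theorem F8309 : act 7 n1653 = n1653 := d42_1 D1653 (iv D1653) F5928
def n1654 : Q := act 6 n1150
theorem D1654 : act 6 n1150 = n1654 := rfl
theorem F8310 : act 1 n1654 = n1153 := d13_1 D1654 (iv D1153) (iv F5930)
theorem F8311 : act 2 n1654 = n1265 := d20_1 D1654 (iv D1265) (iv F5931)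
theorem F8312 : act 4 n1654 = n1159 := d31_1 D1654 (iv D1159) (iv F5932)
theorem F8313 : act 9 n1654 = n1654 := d41_2 F5934 D1654 (iv D1654)
def n1655 : Q := act 4 n1151
theorem D1655 : act 4 n1151 = n1655 := rfl
theorem F8314 : act 0 n1655 = n1655 := d3_1 D1655 (iv D1655) F5935
theorem F8315 : act 2 n1655 = n1655 := d18_1 D1655 (iv D1655) F5936
theorem F8316 : act 3 n1655 = n1160 := d24_1 D1655 (iv D1160) F4248 (iv F4222) (iv F5937)
theorem F8317 : act 5 n1655 = n1655 := d30_2 D1151 D1655 (iv D1655) (iv D1151) F4217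
theorem F8318 : act 7 n1655 = n1655 := d32_2 F5938 D1655 (iv D1655)
theorem F8319 : act 9 n1655 = n1655 := d34_2 F5939 D1655 (iv D1655)
def n1656 : Q := act 6 n1151
theorem D1656 : act 6 n1151 = n1656 := rfl
theorem F8320 : act 0 n1656 = n1656 := d5_1 D1656 (iv D1656) F5935
theorem F8321 : act 2 n1656 = n1656 := d20_1 D1656 (iv D1656) F5936
theorem F8322 : act 3 n1656 = n1153 := d26_1 D1656 (iv D1153) (iv F5937)
theorem F8323 : act 9 n1656 = n1656 := d41_2 F5939 D1656 (iv D1656)
def n1657 : Q := act 8 n1151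
theorem D1657 : act 8 n1151 = n1657 := rfl
theorem F8324 : act 0 n1657 = n1657 := d7_1 D1657 (iv D1657) F5935
theorem F8325 : act 2 n1657 = n1657 := d22_1 D1657 (iv D1657) F5936
theorem F8326 : act 5 n1657 = n1152 := d37_1 D1657 (iv D1152) D1151
theorem F8327 : act 7 n1657 = n1657 := d42_1 D1657 (iv D1657) F5938
def n1658 : Q := act 9 n1152
theorem D1658 : act 9 n1152 = n1658 := rfl
theorem F8328 : act 0 n1658 = n1658 := d8_1 D1658 (iv D1658) F5940
theorem F8329 : act 2 n1658 = n1658 := d23_1 D1658 (iv D1658) F5941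
theorem F8330 : act 4 n1658 = n1658 := d34_1 D1658 (iv D1658) F5942
theorem F8331 : act 7 n1658 = n1658 := d43_1 D1658 (iv D1658) F5943
theorem F8332 : act 8 n1658 = n1658 := d44_1 D1658 (iv D1658) (iv D1152) F4219 D1152
def n1659 : Q := act 7 n1153
theorem D1659 : act 7 n1153 = n1659 := rfl
theorem F8333 : act 0 n1659 = n1659 := d6_1 D1659 (iv D1659) F5944
theorem F8334 : act 2 n1659 = n1154 := d21_1 D1659 (iv D1154) (iv F5945)
theorem F8335 : act 4 n1659 = n1164 := d32_1 D1659 (iv D1164) (iv F5946)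
theorem F8336 : act 6 n1659 = n1659 := d39_1 D1659 (iv D1659) (iv D1153) F4223 D1153
theorem F8337 : act 9 n1659 = n1659 := d43_2 F5947 D1659 (iv D1659)
def n1660 : Q := act 5 n1155
theorem D1660 : act 5 n1155 = n1660 := rfl
theorem F8338 : act 0 n1660 = n1157 := d4_1 D1660 (iv D1157) (iv F5954)
theorem F8339 : act 1 n1660 = n1660 := d12_1 D1660 (iv D1660) F5955
theorem F8340 : act 2 n1660 = n1660 := d19_1 D1660 (iv D1660) F5956
theorem F8341 : act 3 n1660 = n1156 := d25_1 D1660 (iv D1156) D1155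
theorem F8342 : act 7 n1660 = n1660 := d36_2 F5959 D1660 (iv D1660)
theorem F8343 : act 9 n1660 = n1660 := d38_2 F5960 D1660 (iv D1660)
def n1661 : Q := act 8 n1155
theorem D1661 : act 8 n1155 = n1661 := rfl
theorem F8344 : act 0 n1661 = n1158 := d7_1 D1661 (iv D1158) (iv F5954)
theorem F8345 : act 1 n1661 = n1661 := d15_1 D1661 (iv D1661) F5955
theorem F8346 : act 2 n1661 = n1661 := d22_1 D1661 (iv D1661) F5956
theorem F8347 : act 4 n1661 = n1661 := d33_1 D1661 (iv D1661) F5957
theorem F8348 : act 6 n1661 = n1661 := d40_1 D1661 (iv D1661) F5958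
theorem F8349 : act 7 n1661 = n1661 := d42_1 D1661 (iv D1661) F5959
def n1662 : Q := act 6 n1156
theorem D1662 : act 6 n1156 = n1662 := rfl
theorem F8350 : act 0 n1662 = n1159 := d5_1 D1662 (iv D1159) (iv F5961)
theorem F8351 : act 1 n1662 = n1662 := d13_1 D1662 (iv D1662) F5962
theorem F8352 : act 2 n1662 = n1270 := d20_1 D1662 (iv D1270) (iv F5963)
theorem F8353 : act 5 n1662 = n1662 := d35_1 D1662 (iv D1662) (iv D1156) F4233 D1156
theorem F8354 : act 9 n1662 = n1662 := d41_2 F5965 D1662 (iv D1662)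
def n1663 : Q := act 4 n1157
theorem D1663 : act 4 n1157 = n1663 := rfl
theorem F8355 : act 1 n1663 = n1160 := d11_1 D1663 (iv D1160) (iv F5966)
theorem F8356 : act 2 n1663 = n1663 := d18_1 D1663 (iv D1663) F5967
theorem F8357 : act 5 n1663 = n1663 := d30_2 D1157 D1663 (iv D1663) (iv D1157) F4238
theorem F8358 : act 7 n1663 = n1663 := d32_2 F5969 D1663 (iv D1663)
theorem F8359 : act 9 n1663 = n1663 := d34_2 F5970 D1663 (iv D1663)
def n1664 : Q := act 6 n1157
theorem D1664 : act 6 n1157 = n1664 := rfl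
theorem F8360 : act 1 n1664 = n1161 := d13_1 D1664 (iv D1161) (iv F5966)
theorem F8361 : act 2 n1664 = n1664 := d20_1 D1664 (iv D1664) F5967
theorem F8362 : act 3 n1664 = n1159 := d26_1 D1664 (iv D1159) (iv F5968)
theorem F8363 : act 5 n1664 = n1664 := d35_1 D1664 (iv D1664) (iv D1157) F4239 D1157
theorem F8364 : act 9 n1664 = n1664 := d41_2 F5970 D1664 (iv D1664)
def n1665 : Q := act 8 n1157
theorem D1665 : act 8 n1157 = n1665 := rfl
theorem F8365 : act 1 n1665 = n1162 := d15_1 D1665 (iv D1162) (iv F5966)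
theorem F8366 : act 2 n1665 = n1665 := d22_1 D1665 (iv D1665) F5967
theorem F8367 : act 5 n1665 = n1158 := d37_1 D1665 (iv D1158) D1157
theorem F8368 : act 7 n1665 = n1665 := d42_1 D1665 (iv D1665) F5969
def n1666 : Q := act 9 n1158
theorem D1666 : act 9 n1158 = n1666 := rfl
theorem F8369 : act 1 n1666 = n1163 := d16_1 D1666 (iv D1163) (iv F5971)
theorem F8370 : act 2 n1666 = n1666 := d23_1 D1666 (iv D1666) F5972
theorem F8371 : act 4 n1666 = n1666 := d34_1 D1666 (iv D1666) F5973
theorem F8372 : act 6 n1666 = n1666 := d41_1 D1666 (iv D1666) F5974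
theorem F8373 : act 7 n1666 = n1666 := d43_1 D1666 (iv D1666) F5975
theorem F8374 : act 8 n1666 = n1666 := d44_1 D1666 (iv D1666) (iv D1158) F4241 D1158
def n1667 : Q := act 7 n1159
theorem D1667 : act 7 n1159 = n1667 := rfl
theorem F8375 : act 1 n1667 = n1164 := d14_1 D1667 (iv D1164) (iv F5976)
theorem F8376 : act 2 n1667 = n1271 := d21_1 D1667 (iv D1271) (iv F5977)
theorem F8377 : act 5 n1667 = n1667 := d36_1 D1667 (iv D1667) F5978
theorem F8378 : act 6 n1667 = n1667 := d39_1 D1667 (iv D1667) (iv D1159) F4244 D1159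
theorem F8379 : act 9 n1667 = n1667 := d43_2 F5979 D1667 (iv D1667)
def n1668 : Q := act 6 n1160
theorem D1668 : act 6 n1160 = n1668 := rfl
theorem F8380 : act 0 n1668 = n1668 := d5_1 D1668 (iv D1668) F5980
theorem F8381 : act 2 n1668 = n1165 := d20_1 D1668 (iv D1165) (iv F5981)
theorem F8382 : act 4 n1668 = n1161 := d31_1 D1668 (iv D1161) D1160
theorem F8383 : act 9 n1668 = n1668 := d41_2 F5984 D1668 (iv D1668)
def n1669 : Q := act 8 n1160
theorem D1669 : act 8 n1160 = n1669 := rfl
theorem F8384 : act 0 n1669 = n1669 := d7_1 D1669 (iv D1669) F5980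
theorem F8385 : act 2 n1669 = n1166 := d22_1 D1669 (iv D1166) (iv F5981)
theorem F8386 : act 4 n1669 = n1162 := d33_1 D1669 (iv D1162) D1160
theorem F8387 : act 5 n1669 = n1669 := d37_1 D1669 (iv D1669) F5982
theorem F8388 : act 7 n1669 = n1669 := d42_1 D1669 (iv D1669) F5983
def n1670 : Q := act 7 n1161
theorem D1670 : act 7 n1161 = n1670 := rfl
theorem F8389 : act 0 n1670 = n1670 := d6_1 D1670 (iv D1670) F5985
theorem F8390 : act 2 n1670 = n1167 := d21_1 D1670 (iv D1167) (iv F5986)
theorem F8391 : act 3 n1670 = n1164 := d27_1 D1670 (iv D1164) (iv F5987)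
theorem F8392 : act 5 n1670 = n1670 := d36_1 D1670 (iv D1670) F5988
theorem F8393 : act 6 n1670 = n1670 := d39_1 D1670 (iv D1670) (iv D1161) F4249 D1161
theorem F8394 : act 9 n1670 = n1670 := d43_2 F5989 D1670 (iv D1670)
def n1671 : Q := act 8 n1161
theorem D1671 : act 8 n1161 = n1671 := rfl
theorem F8395 : act 0 n1671 = n1671 := d7_1 D1671 (iv D1671) F5985
theorem F8396 : act 2 n1671 = n1168 := d22_1 D1671 (iv D1168) (iv F5986)
theorem F8397 : act 5 n1671 = n1671 := d37_1 D1671 (iv D1671) F5988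
theorem F8398 : act 6 n1671 = n1162 := d40_1 D1671 (iv D1162) D1161
def n1672 : Q := act 9 n1162
theorem D1672 : act 9 n1162 = n1672 := rfl
theorem F8399 : act 0 n1672 = n1672 := d8_1 D1672 (iv D1672) F5990
theorem F8400 : act 2 n1672 = n1169 := d23_1 D1672 (iv D1169) (iv F5991)
theorem F8401 : act 5 n1672 = n1163 := d38_1 D1672 (iv D1163) (iv F5992)
theorem F8402 : act 7 n1672 = n1672 := d43_1 D1672 (iv D1672) F5993
theorem F8403 : act 8 n1672 = n1672 := d44_1 D1672 (iv D1672) (iv D1162) F4250 D1162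
def n1673 : Q := act 5 n1165
theorem D1673 : act 5 n1165 = n1673 := rfl
theorem F8404 : act 0 n1673 = n1673 := d4_1 D1673 (iv D1673) F6005
theorem F8405 : act 1 n1673 = n1673 := d12_1 D1673 (iv D1673) F6006
theorem F8406 : act 3 n1673 = n1673 := d25_1 D1673 (iv D1673) F6007
theorem F8407 : act 4 n1673 = n1673 := d30_1 D1673 (iv D1673) F6008 F4275 (iv F6008)
theorem F8408 : act 6 n1673 = n1673 := d35_2 D1165 D1673 (iv D1673) (iv D1165) F4269
theorem F8409 : act 9 n1673 = n1673 := d38_2 F6009 D1673 (iv D1673)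
def n1674 : Q := act 7 n1165
theorem D1674 : act 7 n1165 = n1674 := rfl
theorem F8410 : act 0 n1674 = n1674 := d6_1 D1674 (iv D1674) F6005
theorem F8411 : act 1 n1674 = n1674 := d14_1 D1674 (iv D1674) F6006
theorem F8412 : act 3 n1674 = n1674 := d27_1 D1674 (iv D1674) F6007
theorem F8413 : act 4 n1674 = n1167 := d32_1 D1674 (iv D1167) (iv F6008)
theorem F8414 : act 6 n1674 = n1674 := d39_1 D1674 (iv D1674) (iv D1165) F4270 D1165
theorem F8415 : act 9 n1674 = n1674 := d43_2 F6009 D1674 (iv D1674)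
def n1675 : Q := act 8 n1165
theorem D1675 : act 8 n1165 = n1675 := rfl
theorem F8416 : act 0 n1675 = n1675 := d7_1 D1675 (iv D1675) F6005
theorem F8417 : act 1 n1675 = n1675 := d15_1 D1675 (iv D1675) F6006
theorem F8418 : act 4 n1675 = n1168 := d33_1 D1675 (iv D1168) (iv F6008)
theorem F8419 : act 6 n1675 = n1166 := d40_1 D1675 (iv D1166) D1165
def n1676 : Q := act 3 n1166
theorem D1676 : act 3 n1166 = n1676 := rfl
theorem F8420 : act 0 n1676 = n1676 := d2_1 D1676 (iv D1676) F6010
theorem F8421 : act 1 n1676 = n1676 := d10_1 D1676 (iv D1676) F6011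
theorem F8422 : act 4 n1676 = n1676 := d24_2 (iv F6012) D1676 (iv D1676) F6012 F4279
theorem F8423 : act 5 n1676 = n1676 := d25_2 F6013 D1676 (iv D1676)
theorem F8424 : act 7 n1676 = n1676 := d27_2 F6014 D1676 (iv D1676)
theorem F8425 : act 8 n1676 = n1676 := d28_2 D1166 D1676 (iv D1676) (iv D1166) F4268
def n1677 : Q := act 9 n1166
theorem D1677 : act 9 n1166 = n1677 := rfl
theorem F8426 : act 0 n1677 = n1677 := d8_1 D1677 (iv D1677) F6010
theorem F8427 : act 1 n1677 = n1677 := d16_1 D1677 (iv D1677) F6011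
theorem F8428 : act 4 n1677 = n1169 := d34_1 D1677 (iv D1169) (iv F6012)
theorem F8429 : act 5 n1677 = n1677 := d38_1 D1677 (iv D1677) F6013
theorem F8430 : act 7 n1677 = n1677 := d43_1 D1677 (iv D1677) F6014
theorem F8431 : act 8 n1677 = n1677 := d44_1 D1677 (iv D1677) (iv D1166) F4271 D1166
def n1678 : Q := act 8 n1167
theorem D1678 : act 8 n1167 = n1678 := rfl
theorem F8432 : act 0 n1678 = n1678 := d7_1 D1678 (iv D1678) F6015
theorem F8433 : act 1 n1678 = n1678 := d15_1 D1678 (iv D1678) F6016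
theorem F8434 : act 3 n1678 = n1678 := d28_1 D1678 (iv D1678) F6017 F4295 (iv F6017)
theorem F8435 : act 5 n1678 = n1678 := d37_1 D1678 (iv D1678) F6018
theorem F8436 : act 6 n1678 = n1678 := d40_1 D1678 (iv D1678) F6019
theorem F8437 : act 7 n1678 = n1168 := d42_1 D1678 (iv D1168) D1167
def n1679 : Q := act 9 n1168
theorem D1679 : act 9 n1168 = n1679 := rfl
theorem F8438 : act 0 n1679 = n1679 := d8_1 D1679 (iv D1679) F6021
theorem F8439 : act 1 n1679 = n1679 := d16_1 D1679 (iv D1679) F6022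
theorem F8440 : act 3 n1679 = n1679 := d29_1 D1679 (iv D1679) F6023
theorem F8441 : act 5 n1679 = n1679 := d38_1 D1679 (iv D1679) F6024
theorem F8442 : act 6 n1679 = n1169 := d41_1 D1679 (iv D1169) (iv F6025)
theorem F8443 : act 8 n1679 = n1679 := d44_1 D1679 (iv D1679) (iv D1168) F4276 D1168
def n1680 : Q := act 2 n1170
theorem D1680 : act 2 n1170 = n1680 := rfl
theorem F8444 : act 0 n1680 = n1290 := d1_1 D1680 (iv D1290) (iv F6032)
theorem F8445 : act 1 n1680 = n1680 := d9_1 D1680 (iv D1680) (iv F7865) F7866 F7865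
theorem F8446 : act 3 n1680 = n1680 := d17_2 D1170 D1680 (iv D1680) (iv D1170) F4298
theorem F8447 : act 5 n1680 = n1680 := d19_2 F6033 D1680 (iv D1680)
theorem F8448 : act 6 n1680 = n1173 := d20_2 (iv F6034) D1680 (iv D1173)
theorem F8449 : act 7 n1680 = n1680 := d21_2 F6035 D1680 (iv D1680)
theorem F8450 : act 8 n1680 = n1680 := d22_2 F6036 D1680 (iv D1680)
def n1681 : Q := act 4 n1170
theorem D1681 : act 4 n1170 = n1681 := rfl
theorem F8451 : act 0 n1681 = n1291 := d3_1 D1681 (iv D1291) (iv F6032)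
theorem F8452 : act 3 n1681 = n1681 := d24_1 D1681 (iv D1681) (iv D1170) F4299 D1170
theorem F8453 : act 6 n1681 = n1174 := d31_2 (iv F6034) D1681 (iv D1174)
theorem F8454 : act 7 n1681 = n1681 := d32_2 F6035 D1681 (iv D1681)
theorem F8455 : act 8 n1681 = n1681 := d33_2 F6036 D1681 (iv D1681)
def n1682 : Q := act 9 n1170
theorem D1682 : act 9 n1170 = n1682 := rfl
theorem F8456 : act 0 n1682 = n1292 := d8_1 D1682 (iv D1292) (iv F6032)
theorem F8457 : act 3 n1682 = n1171 := d29_1 D1682 (iv D1171) D1170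
theorem F8458 : act 5 n1682 = n1682 := d38_1 D1682 (iv D1682) F6033
theorem F8459 : act 6 n1682 = n1175 := d41_1 D1682 (iv D1175) (iv F6034)
theorem F8460 : act 7 n1682 = n1682 := d43_1 D1682 (iv D1682) F6035
def n1683 : Q := act 8 n1171
theorem D1683 : act 8 n1171 = n1683 := rfl
theorem F8461 : act 0 n1683 = n1293 := d7_1 D1683 (iv D1293) (iv F6037)
theorem F8462 : act 2 n1683 = n1683 := d22_1 D1683 (iv D1683) F6038
theorem F8463 : act 4 n1683 = n1683 := d33_1 D1683 (iv D1683) F6039
theorem F8464 : act 5 n1683 = n1683 := d37_1 D1683 (iv D1683) F6040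
theorem F8465 : act 6 n1683 = n1176 := d40_1 D1683 (iv D1176) (iv F6041)
theorem F8466 : act 7 n1683 = n1683 := d42_1 D1683 (iv D1683) F6042
theorem F8467 : act 9 n1683 = n1172 := d44_2 D1171 D1683 (iv D1172) (iv D815) D814
def n1684 : Q := act 3 n1172
theorem D1684 : act 3 n1172 = n1684 := rfl
theorem F8468 : act 0 n1684 = n1294 := d2_1 D1684 (iv D1294) (iv F6043)
theorem F8469 : act 5 n1684 = n1684 := d25_2 F6046 D1684 (iv D1684)
theorem F8470 : act 6 n1684 = n1177 := d26_2 (iv F6047) D1684 (iv D1177)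
theorem F8471 : act 7 n1684 = n1684 := d27_2 F6048 D1684 (iv D1684)
theorem F8472 : act 8 n1684 = n1684 := d28_2 D1172 D1684 (iv D1684) (iv D1172) F4305
def n1685 : Q := act 4 n1173
theorem D1685 : act 4 n1173 = n1685 := rfl
theorem F8473 : act 0 n1685 = n1296 := d3_1 D1685 (iv D1296) (iv F6049)
theorem F8474 : act 1 n1685 = n1685 := d11_1 D1685 (iv D1685) F6050
theorem F8475 : act 2 n1685 = n1174 := d18_1 D1685 (iv D1174) D1173
theorem F8476 : act 5 n1685 = n1685 := d30_2 (iv F6052) D1685 (iv D1685) F6052 F4352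
theorem F8477 : act 7 n1685 = n1178 := d32_2 (iv F6053) D1685 (iv D1178)
theorem F8478 : act 8 n1685 = n1685 := d33_2 F6054 D1685 (iv D1685)
def n1686 : Q := act 9 n1173
theorem D1686 : act 9 n1173 = n1686 := rfl
theorem F8479 : act 0 n1686 = n1297 := d8_1 D1686 (iv D1297) (iv F6049)
theorem F8480 : act 1 n1686 = n1686 := d16_1 D1686 (iv D1686) F6050
theorem F8481 : act 2 n1686 = n1175 := d23_1 D1686 (iv D1175) D1173
theorem F8482 : act 3 n1686 = n1686 := d29_1 D1686 (iv D1686) F6051
theorem F8483 : act 5 n1686 = n1185 := d38_1 D1686 (iv D1185) (iv F6052)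
theorem F8484 : act 7 n1686 = n1179 := d43_1 D1686 (iv D1179) (iv F6053)
def n1687 : Q := act 9 n1174
theorem D1687 : act 9 n1174 = n1687 := rfl
theorem F8485 : act 0 n1687 = n1298 := d8_1 D1687 (iv D1298) (iv F6055)
theorem F8486 : act 3 n1687 = n1687 := d29_1 D1687 (iv D1687) F6056
theorem F8487 : act 4 n1687 = n1175 := d34_1 D1687 (iv D1175) D1174
theorem F8488 : act 5 n1687 = n1687 := d38_1 D1687 (iv D1687) F6057
theorem F8489 : act 7 n1687 = n1180 := d43_1 D1687 (iv D1180) (iv F6058)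
def n1688 : Q := act 8 n1175
theorem D1688 : act 8 n1175 = n1688 := rfl
theorem F8490 : act 0 n1688 = n1299 := d7_1 D1688 (iv D1299) (iv F6060)
theorem F8491 : act 5 n1688 = n1186 := d37_1 D1688 (iv D1186) (iv F6062)
theorem F8492 : act 7 n1688 = n1181 := d42_1 D1688 (iv D1181) (iv F6063)
theorem F8493 : act 9 n1688 = n1688 := d44_2 D1175 D1688 (iv D1688) (iv D1175) F4313
def n1689 : Q := act 3 n1176
theorem D1689 : act 3 n1176 = n1689 := rfl
theorem F8494 : act 0 n1689 = n1300 := d2_1 D1689 (iv D1300) (iv F6064)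
theorem F8495 : act 5 n1689 = n1187 := d25_2 (iv F6067) D1689 (iv D1187)
theorem F8496 : act 7 n1689 = n1182 := d27_2 (iv F6068) D1689 (iv D1182)
theorem F8497 : act 9 n1689 = n1177 := d29_2 (iv F6069) D1689 (iv D1177)
def n1690 : Q := act 2 n1177
theorem D1690 : act 2 n1177 = n1690 := rfl
theorem F8498 : act 0 n1690 = n1301 := d1_1 D1690 (iv D1301) (iv F6070)
theorem F8499 : act 3 n1690 = n1690 := d17_2 D1177 D1690 (iv D1690) (iv D1177) F4320
theorem F8500 : act 5 n1690 = n1188 := d19_2 (iv F6071) D1690 (iv D1188)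
theorem F8501 : act 7 n1690 = n1183 := d21_2 (iv F6072) D1690 (iv D1183)
theorem F8502 : act 8 n1690 = n1690 := d22_2 F6073 D1690 (iv D1690)
def n1691 : Q := act 4 n1177
theorem D1691 : act 4 n1177 = n1691 := rfl
theorem F8503 : act 0 n1691 = n1302 := d3_1 D1691 (iv D1302) (iv F6070)
theorem F8504 : act 3 n1691 = n1691 := d24_1 D1691 (iv D1691) (iv D1177) F4321 D1177
theorem F8505 : act 7 n1691 = n1184 := d32_2 (iv F6072) D1691 (iv D1184)
theorem F8506 : act 8 n1691 = n1691 := d33_2 F6073 D1691 (iv D1691)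
def n1692 : Q := act 3 n1178
theorem D1692 : act 3 n1178 = n1692 := rfl
theorem F8507 : act 0 n1692 = n1305 := d2_1 D1692 (iv D1305) (iv F6074)
theorem F8508 : act 1 n1692 = n1692 := d10_1 D1692 (iv D1692) F6075
theorem F8509 : act 2 n1692 = n1692 := d17_1 D1692 (iv D1692) F6076 F4331 (iv F6076)
theorem F8510 : act 4 n1692 = n1692 := d24_2 D1178 D1692 (iv D1692) (iv D1178) F4326
theorem F8511 : act 5 n1692 = n1692 := d25_2 F6077 D1692 (iv D1692)
theorem F8512 : act 6 n1692 = n1692 := d26_2 F6078 D1692 (iv D1692)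
def n1693 : Q := act 9 n1178
theorem D1693 : act 9 n1178 = n1693 := rfl
theorem F8513 : act 0 n1693 = n1306 := d8_1 D1693 (iv D1306) (iv F6074)
theorem F8514 : act 1 n1693 = n1693 := d16_1 D1693 (iv D1693) F6075
theorem F8515 : act 2 n1693 = n1180 := d23_1 D1693 (iv D1180) (iv F6076)
theorem F8516 : act 4 n1693 = n1179 := d34_1 D1693 (iv D1179) D1178
theorem F8517 : act 5 n1693 = n1693 := d38_1 D1693 (iv D1693) F6077
theorem F8518 : act 6 n1693 = n1693 := d41_1 D1693 (iv D1693) F6078
def n1694 : Q := act 8 n1179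
theorem D1694 : act 8 n1179 = n1694 := rfl
theorem F8521 : act 2 n1694 = n1181 := d22_1 D1694 (iv D1181) (iv F6082)
theorem F8522 : act 5 n1694 = n1190 := d37_1 D1694 (iv D1190) (iv F6084)
def n1695 : Q := act 8 n1180
theorem D1695 : act 8 n1180 = n1695 := rfl
theorem F8525 : act 0 n1695 = n1308 := d7_1 D1695 (iv D1308) (iv F6086)
theorem F8526 : act 4 n1695 = n1181 := d33_1 D1695 (iv D1181) (iv F6088)
theorem F8527 : act 5 n1695 = n1695 := d37_1 D1695 (iv D1695) F6089
theorem F8528 : act 6 n1695 = n1695 := d40_1 D1695 (iv D1695) F6090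
theorem F8529 : act 9 n1695 = n1695 := d44_2 D1180 D1695 (iv D1695) (iv D1180) F4334
def n1696 : Q := act 3 n1181
theorem D1696 : act 3 n1181 = n1696 := rfl
theorem F8530 : act 0 n1696 = n1309 := d2_1 D1696 (iv D1309) (iv F6091)
theorem F8531 : act 5 n1696 = n1191 := d25_2 (iv F6092) D1696 (iv D1191)
theorem F8532 : act 6 n1696 = n1696 := d26_2 F6093 D1696 (iv D1696)
theorem F8533 : act 8 n1696 = n1182 := d28_2 D1181 D1696 (iv D1182) (iv D822) (iv F4336)
theorem F8534 : act 9 n1696 = n1696 := d29_2 F6094 D1696 (iv D1696)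
def n1697 : Q := act 2 n1182
theorem D1697 : act 2 n1182 = n1697 := rfl
theorem F8535 : act 0 n1697 = n1310 := d1_1 D1697 (iv D1310) (iv F6095)
theorem F8536 : act 3 n1697 = n1697 := d17_2 D1182 D1697 (iv D1697) (iv D1182) F4340
theorem F8537 : act 5 n1697 = n1192 := d19_2 (iv F6096) D1697 (iv D1192)
theorem F8538 : act 6 n1697 = n1697 := d20_2 F6097 D1697 (iv D1697)
theorem F8539 : act 9 n1697 = n1183 := d23_2 (iv F6098) D1697 (iv D1183)
def n1698 : Q := act 4 n1182
theorem D1698 : act 4 n1182 = n1698 := rfl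
theorem F8540 : act 0 n1698 = n1311 := d3_1 D1698 (iv D1311) (iv F6095)
theorem F8541 : act 3 n1698 = n1698 := d24_1 D1698 (iv D1698) (iv D1182) F4341 D1182
theorem F8542 : act 6 n1698 = n1698 := d31_2 F6097 D1698 (iv D1698)
theorem F8543 : act 9 n1698 = n1184 := d34_2 (iv F6098) D1698 (iv D1184)
def n1699 : Q := act 1 n1183
theorem D1699 : act 1 n1183 = n1699 := rfl
theorem F8544 : act 3 n1699 = n1699 := d10_2 F6100 D1699 (iv D1699)
theorem F8545 : act 5 n1699 = n1194 := d12_2 (iv F6101) D1699 (iv D1194)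
theorem F8546 : act 6 n1699 = n1699 := d13_2 F6102 D1699 (iv D1699)
theorem F8547 : act 8 n1699 = n1699 := d15_2 F6103 D1699 (iv D1699)
def n1700 : Q := act 4 n1183
theorem D1700 : act 4 n1183 = n1700 := rfl
theorem F8548 : act 0 n1700 = n1313 := d3_1 D1700 (iv D1313) (iv F6099)
theorem F8549 : act 2 n1700 = n1184 := d18_1 D1700 (iv D1184) D1183
theorem F8550 : act 6 n1700 = n1700 := d31_2 F6102 D1700 (iv D1700)
theorem F8551 : act 8 n1700 = n1700 := d33_2 F6103 D1700 (iv D1700)
def n1701 : Q := act 5 n1184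
theorem D1701 : act 5 n1184 = n1701 := rfl
theorem F8552 : act 0 n1701 = n1314 := d4_1 D1701 (iv D1314) (iv F6104)
theorem F8553 : act 3 n1701 = n1701 := d25_1 D1701 (iv D1701) F6105
theorem F8554 : act 4 n1701 = n1196 := d30_1 D1701 (iv D1196) (iv D832) (iv F4346) D1184
theorem F8555 : act 8 n1701 = n1701 := d37_2 F6107 D1701 (iv D1701)
def n1702 : Q := act 8 n1185
theorem D1702 : act 8 n1185 = n1702 := rfl
theorem F8558 : act 2 n1702 = n1186 := d22_1 D1702 (iv D1186) (iv F6110)
theorem F8561 : act 7 n1702 = n1190 := d42_1 D1702 (iv D1190) (iv F6114)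
def n1703 : Q := act 3 n1186
theorem D1703 : act 3 n1186 = n1703 := rfl
theorem F8563 : act 0 n1703 = n1317 := d2_1 D1703 (iv D1317) (iv F6115)
theorem F8564 : act 6 n1703 = n1703 := d26_2 F6117 D1703 (iv D1703)
theorem F8565 : act 7 n1703 = n1191 := d27_2 (iv F6118) D1703 (iv D1191)
theorem F8566 : act 8 n1703 = n1187 := d28_2 D1186 D1703 (iv D1187) (iv D826) (iv F4357)
theorem F8567 : act 9 n1703 = n1703 := d29_2 F6119 D1703 (iv D1703)
def n1704 : Q := act 2 n1187
theorem D1704 : act 2 n1187 = n1704 := rfl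
theorem F8568 : act 0 n1704 = n1318 := d1_1 D1704 (iv D1318) (iv F6120)
theorem F8569 : act 3 n1704 = n1704 := d17_2 D1187 D1704 (iv D1704) (iv D1187) F4362
theorem F8570 : act 6 n1704 = n1704 := d20_2 F6121 D1704 (iv D1704)
theorem F8571 : act 7 n1704 = n1192 := d21_2 (iv F6122) D1704 (iv D1192)
theorem F8572 : act 9 n1704 = n1188 := d23_2 (iv F6123) D1704 (iv D1188)
def n1705 : Q := act 4 n1187
theorem D1705 : act 4 n1187 = n1705 := rfl
theorem F8573 : act 0 n1705 = n1319 := d3_1 D1705 (iv D1319) (iv F6120)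
theorem F8574 : act 3 n1705 = n1209 := d24_1 D1705 (iv D1209) (iv D840) (iv F4363) D1187
theorem F8575 : act 6 n1705 = n1705 := d31_2 F6121 D1705 (iv D1705)
theorem F8576 : act 7 n1705 = n1193 := d32_2 (iv F6122) D1705 (iv D1193)
theorem F8577 : act 9 n1705 = n1189 := d34_2 (iv F6123) D1705 (iv D1189)
def n1706 : Q := act 1 n1188
theorem D1706 : act 1 n1188 = n1706 := rfl
theorem F8578 : act 3 n1706 = n1706 := d10_2 F6125 D1706 (iv D1706)
theorem F8579 : act 6 n1706 = n1706 := d13_2 F6126 D1706 (iv D1706)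
theorem F8580 : act 7 n1706 = n1194 := d14_2 (iv F6127) D1706 (iv D1194)
theorem F8581 : act 8 n1706 = n1706 := d15_2 F6128 D1706 (iv D1706)
def n1707 : Q := act 4 n1188
theorem D1707 : act 4 n1188 = n1707 := rfl
theorem F8582 : act 0 n1707 = n1321 := d3_1 D1707 (iv D1321) (iv F6124)
theorem F8583 : act 2 n1707 = n1189 := d18_1 D1707 (iv D1189) D1188
theorem F8584 : act 6 n1707 = n1707 := d31_2 F6126 D1707 (iv D1707)
theorem F8585 : act 7 n1707 = n1195 := d32_2 (iv F6127) D1707 (iv D1195)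
theorem F8586 : act 8 n1707 = n1707 := d33_2 F6128 D1707 (iv D1707)
def n1708 : Q := act 5 n1189
theorem D1708 : act 5 n1189 = n1708 := rfl
theorem F8587 : act 0 n1708 = n1322 := d4_1 D1708 (iv D1322) (iv F6129)
theorem F8588 : act 3 n1708 = n1212 := d25_1 D1708 (iv D1212) (iv F6130)
theorem F8589 : act 7 n1708 = n1196 := d36_2 (iv F6132) D1708 (iv D1196)
theorem F8590 : act 8 n1708 = n1708 := d37_2 F6133 D1708 (iv D1708)
def n1709 : Q := act 3 n1190
theorem D1709 : act 3 n1190 = n1709 := rfl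
theorem F8593 : act 6 n1709 = n1197 := d26_2 (iv F6138) D1709 (iv D1197)
def n1710 : Q := act 2 n1191
theorem D1710 : act 2 n1191 = n1710 := rfl
theorem F8596 : act 0 n1710 = n1325 := d1_1 D1710 (iv D1325) (iv F6140)
theorem F8597 : act 6 n1710 = n1198 := d20_2 (iv F6141) D1710 (iv D1198)
theorem F8598 : act 8 n1710 = n1192 := d22_2 (iv F6142) D1710 (iv D1192)
def n1711 : Q := act 4 n1191
theorem D1711 : act 4 n1191 = n1711 := rfl
theorem F8600 : act 0 n1711 = n1326 := d3_1 D1711 (iv D1326) (iv F6140)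
theorem F8601 : act 3 n1711 = n1711 := d24_1 D1711 (iv D1711) (iv D1191) F4378 D1191
theorem F8602 : act 6 n1711 = n1199 := d31_2 (iv F6141) D1711 (iv D1199)
theorem F8603 : act 8 n1711 = n1193 := d33_2 (iv F6142) D1711 (iv D1193)
theorem F8604 : act 9 n1711 = n1711 := d34_2 F6143 D1711 (iv D1711)
def n1712 : Q := act 1 n1192
theorem D1712 : act 1 n1192 = n1712 := rfl
theorem F8605 : act 3 n1712 = n1712 := d10_2 F6145 D1712 (iv D1712)
theorem F8606 : act 6 n1712 = n1200 := d13_2 (iv F6146) D1712 (iv D1200)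
theorem F8607 : act 9 n1712 = n1194 := d16_2 (iv F6147) D1712 (iv D1194)
def n1713 : Q := act 4 n1192
theorem D1713 : act 4 n1192 = n1713 := rfl
theorem F8608 : act 0 n1713 = n1328 := d3_1 D1713 (iv D1328) (iv F6144)
theorem F8609 : act 2 n1713 = n1193 := d18_1 D1713 (iv D1193) D1192
theorem F8610 : act 6 n1713 = n1201 := d31_2 (iv F6146) D1713 (iv D1201)
theorem F8611 : act 9 n1713 = n1195 := d34_2 (iv F6147) D1713 (iv D1195)
def n1714 : Q := act 5 n1193
theorem D1714 : act 5 n1193 = n1714 := rfl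
theorem F8612 : act 0 n1714 = n1329 := d4_1 D1714 (iv D1329) (iv F6148)
theorem F8613 : act 3 n1714 = n1215 := d25_1 D1714 (iv D1215) (iv F6149)
theorem F8614 : act 9 n1714 = n1196 := d38_2 (iv F6151) D1714 (iv D1196)
def n1715 : Q := act 0 n1194
theorem D1715 : act 0 n1194 = n1715 := rfl
theorem F8615 : act 1 n1715 = n1330 := d0_2 D1194 D1715 (iv D1330) (iv D926) (iv F4384)
theorem F8616 : act 3 n1715 = n1715 := d2_2 F6152 D1715 (iv D1715)
theorem F8617 : act 6 n1715 = n1203 := d5_2 (iv F6153) D1715 (iv D1203)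
theorem F8618 : act 8 n1715 = n1715 := d7_2 F6154 D1715 (iv D1715)
def n1716 : Q := act 4 n1194
theorem D1716 : act 4 n1194 = n1716 := rfl
theorem F8619 : act 1 n1716 = n1195 := d11_1 D1716 (iv D1195) D1194
theorem F8620 : act 6 n1716 = n1204 := d31_2 (iv F6153) D1716 (iv D1204)
theorem F8621 : act 8 n1716 = n1716 := d33_2 F6154 D1716 (iv D1716)
def n1717 : Q := act 3 n1195
theorem D1717 : act 3 n1195 = n1717 := rfl
theorem F8622 : act 0 n1717 = n1332 := d2_1 D1717 (iv D1332) (iv F6155)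
theorem F8623 : act 2 n1717 = n1218 := d17_1 D1717 (iv D1218) F4457 (iv F4389) (iv F6156)
theorem F8624 : act 4 n1717 = n1717 := d24_2 D1195 D1717 (iv D1717) (iv D1195) F4385
theorem F8625 : act 6 n1717 = n1205 := d26_2 (iv F6157) D1717 (iv D1205)
def n1718 : Q := act 5 n1195
theorem D1718 : act 5 n1195 = n1718 := rfl
theorem F8626 : act 0 n1718 = n1333 := d4_1 D1718 (iv D1333) (iv F6155)
theorem F8627 : act 2 n1718 = n1196 := d19_1 D1718 (iv D1196) (iv F6156)
theorem F8628 : act 8 n1718 = n1718 := d37_2 F6158 D1718 (iv D1718)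
def n1719 : Q := act 6 n1196
theorem D1719 : act 6 n1196 = n1719 := rfl
theorem F8629 : act 0 n1719 = n1334 := d5_1 D1719 (iv D1334) (iv F6159)
theorem F8630 : act 3 n1719 = n1220 := d26_1 D1719 (iv D1220) (iv F6160)
theorem F8631 : act 5 n1719 = n1207 := d35_1 D1719 (iv D1207) (iv D839) (iv F4390) D1196
theorem F8632 : act 8 n1719 = n1719 := d40_2 F6161 D1719 (iv D1719)
def n1720 : Q := act 2 n1197
theorem D1720 : act 2 n1197 = n1720 := rfl
theorem F8634 : act 3 n1720 = n1198 := d17_2 D1197 D1720 (iv D1198) (iv D834) (iv F4394)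
def n1722 : Q := act 1 n1198
theorem D1722 : act 1 n1198 = n1722 := rfl
theorem F8647 : act 8 n1722 = n1200 := d15_2 (iv F6171) D1722 (iv D1200)
def n1723 : Q := act 4 n1198
theorem D1723 : act 4 n1198 = n1723 := rfl
theorem F8649 : act 0 n1723 = n1339 := d3_1 D1723 (iv D1339) (iv F6168)
theorem F8650 : act 2 n1723 = n1199 := d18_1 D1723 (iv D1199) D1198
theorem F8652 : act 8 n1723 = n1201 := d33_2 (iv F6171) D1723 (iv D1201)
def n1724 : Q := act 5 n1199
theorem D1724 : act 5 n1199 = n1724 := rfl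
theorem F8654 : act 0 n1724 = n1340 := d4_1 D1724 (iv D1340) (iv F6173)
theorem F8655 : act 3 n1724 = n1724 := d25_1 D1724 (iv D1724) F6174
theorem F8656 : act 4 n1724 = n1724 := d30_1 D1724 (iv D1724) (iv D1199) F4400 D1199
theorem F8657 : act 7 n1724 = n1724 := d36_2 F6175 D1724 (iv D1724)
theorem F8658 : act 8 n1724 = n1202 := d37_2 (iv F6176) D1724 (iv D1202)
theorem F8659 : act 9 n1724 = n1724 := d38_2 F6177 D1724 (iv D1724)
def n1725 : Q := act 0 n1200
theorem D1725 : act 0 n1200 = n1725 := rfl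
theorem F8660 : act 1 n1725 = n1341 := d0_2 D1200 D1725 (iv D1341) (iv D933) (iv F4404)
theorem F8664 : act 9 n1725 = n1203 := d8_2 (iv F6181) D1725 (iv D1203)
def n1726 : Q := act 4 n1200
theorem D1726 : act 4 n1200 = n1726 := rfl
theorem F8665 : act 1 n1726 = n1201 := d11_1 D1726 (iv D1201) D1200
theorem F8666 : act 7 n1726 = n1726 := d32_2 F6180 D1726 (iv D1726)
theorem F8667 : act 9 n1726 = n1204 := d34_2 (iv F6181) D1726 (iv D1204)
def n1727 : Q := act 3 n1201
theorem D1727 : act 3 n1201 = n1727 := rfl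
theorem F8668 : act 0 n1727 = n1343 := d2_1 D1727 (iv D1343) (iv F6182)
theorem F8669 : act 2 n1727 = n1223 := d17_1 D1727 (iv D1223) F4469 (iv F4410) (iv F6183)
theorem F8670 : act 4 n1727 = n1727 := d24_2 D1201 D1727 (iv D1727) (iv D1201) F4405
theorem F8671 : act 7 n1727 = n1727 := d27_2 F6184 D1727 (iv D1727)
theorem F8672 : act 9 n1727 = n1205 := d29_2 (iv F6185) D1727 (iv D1205)
def n1728 : Q := act 5 n1201
theorem D1728 : act 5 n1201 = n1728 := rfl
theorem F8673 : act 0 n1728 = n1344 := d4_1 D1728 (iv D1344) (iv F6182)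
theorem F8674 : act 2 n1728 = n1202 := d19_1 D1728 (iv D1202) (iv F6183)
theorem F8675 : act 4 n1728 = n1728 := d30_1 D1728 (iv D1728) (iv D1201) F4406 D1201
theorem F8676 : act 7 n1728 = n1728 := d36_2 F6184 D1728 (iv D1728)
theorem F8677 : act 9 n1728 = n1206 := d38_2 (iv F6185) D1728 (iv D1206)
def n1729 : Q := act 6 n1202
theorem D1729 : act 6 n1202 = n1729 := rfl
theorem F8678 : act 0 n1729 = n1345 := d5_1 D1729 (iv D1345) (iv F6186)
theorem F8679 : act 3 n1729 = n1225 := d26_1 D1729 (iv D1225) (iv F6187)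
theorem F8680 : act 4 n1729 = n1729 := d31_1 D1729 (iv D1729) F6188
theorem F8681 : act 9 n1729 = n1207 := d41_2 (iv F6190) D1729 (iv D1207)
def n1730 : Q := act 4 n1203
theorem D1730 : act 4 n1203 = n1730 := rfl
theorem F8682 : act 0 n1730 = n1204 := d3_1 D1730 (iv D1204) D1203
theorem F8683 : act 1 n1730 = n1346 := d11_1 D1730 (iv D1346) (iv F6191)
theorem F8684 : act 7 n1730 = n1730 := d32_2 F6194 D1730 (iv D1730)
theorem F8685 : act 8 n1730 = n1730 := d33_2 F6195 D1730 (iv D1730)
def n1731 : Q := act 3 n1204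
theorem D1731 : act 3 n1204 = n1731 := rfl
theorem F8686 : act 1 n1731 = n1205 := d10_1 D1731 (iv D1205) (iv F6196)
theorem F8687 : act 4 n1731 = n1731 := d24_2 D1204 D1731 (iv D1731) (iv D1204) F4413
theorem F8688 : act 7 n1731 = n1731 := d27_2 F6197 D1731 (iv D1731)
def n1732 : Q := act 5 n1204
theorem D1732 : act 5 n1204 = n1732 := rfl
theorem F8689 : act 1 n1732 = n1206 := d12_1 D1732 (iv D1206) (iv F6196)
theorem F8690 : act 4 n1732 = n1732 := d30_1 D1732 (iv D1732) (iv D1204) F4414 D1204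
theorem F8691 : act 7 n1732 = n1732 := d36_2 F6197 D1732 (iv D1732)
theorem F8692 : act 8 n1732 = n1732 := d37_2 F6198 D1732 (iv D1732)
def n1733 : Q := act 5 n1205
theorem D1733 : act 5 n1205 = n1733 := rfl
theorem F8693 : act 0 n1733 = n1349 := d4_1 D1733 (iv D1349) (iv F6199)
theorem F8694 : act 2 n1733 = n1229 := d19_1 D1733 (iv D1229) (iv F6200)
theorem F8695 : act 3 n1733 = n1206 := d25_1 D1733 (iv D1206) D1205
theorem F8696 : act 7 n1733 = n1733 := d36_2 F6202 D1733 (iv D1733)
def n1734 : Q := act 8 n1205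
theorem D1734 : act 8 n1205 = n1734 := rfl
theorem F8697 : act 0 n1734 = n1350 := d7_1 D1734 (iv D1350) (iv F6199)
theorem F8698 : act 2 n1734 = n1230 := d22_1 D1734 (iv D1230) (iv F6200)
theorem F8699 : act 3 n1734 = n1734 := d28_1 D1734 (iv D1734) (iv D1205) F4420 D1205
theorem F8700 : act 4 n1734 = n1734 := d33_1 D1734 (iv D1734) F6201
theorem F8701 : act 7 n1734 = n1734 := d42_1 D1734 (iv D1734) F6202
def n1735 : Q := act 6 n1206
theorem D1735 : act 6 n1206 = n1735 := rfl
theorem F8702 : act 0 n1735 = n1351 := d5_1 D1735 (iv D1351) (iv F6203)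
theorem F8703 : act 2 n1735 = n1207 := d20_1 D1735 (iv D1207) (iv F6204)
theorem F8704 : act 4 n1735 = n1735 := d31_1 D1735 (iv D1735) F6205
theorem F8705 : act 8 n1735 = n1735 := d40_2 F6207 D1735 (iv D1735)
def n1736 : Q := act 7 n1207
theorem D1736 : act 7 n1207 = n1736 := rfl
theorem F8706 : act 0 n1736 = n1352 := d6_1 D1736 (iv D1352) (iv F6208)
theorem F8707 : act 3 n1736 = n1232 := d27_1 D1736 (iv D1232) (iv F6209)
theorem F8708 : act 4 n1736 = n1736 := d32_1 D1736 (iv D1736) F6210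
theorem F8709 : act 6 n1736 = n1736 := d39_1 D1736 (iv D1736) (iv D1207) F4424 D1207
theorem F8710 : act 8 n1736 = n1736 := d42_2 F6211 D1736 (iv D1736)
def n1737 : Q := act 1 n1208
theorem D1737 : act 1 n1208 = n1737 := rfl
theorem F8711 : act 3 n1737 = n1737 := d10_2 F6213 D1737 (iv D1737)
theorem F8712 : act 5 n1737 = n1737 := d12_2 F6214 D1737 (iv D1737)
theorem F8713 : act 6 n1737 = n1737 := d13_2 F6215 D1737 (iv D1737)
theorem F8714 : act 7 n1737 = n1213 := d14_2 (iv F6216) D1737 (iv D1213)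
theorem F8715 : act 8 n1737 = n1737 := d15_2 F6217 D1737 (iv D1737)
theorem F8716 : act 9 n1737 = n1210 := d16_2 (iv F6218) D1737 (iv D1210)
def n1738 : Q := act 4 n1208
theorem D1738 : act 4 n1208 = n1738 := rfl
theorem F8717 : act 0 n1738 = n1354 := d3_1 D1738 (iv D1354) (iv F6212)
theorem F8718 : act 2 n1738 = n1209 := d18_1 D1738 (iv D1209) D1208
theorem F8719 : act 6 n1738 = n1738 := d31_2 F6215 D1738 (iv D1738)
theorem F8720 : act 7 n1738 = n1214 := d32_2 (iv F6216) D1738 (iv D1214)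
theorem F8721 : act 8 n1738 = n1738 := d33_2 F6217 D1738 (iv D1738)
theorem F8722 : act 9 n1738 = n1211 := d34_2 (iv F6218) D1738 (iv D1211)
def n1739 : Q := act 5 n1209
theorem D1739 : act 5 n1209 = n1739 := rfl
theorem F8723 : act 0 n1739 = n1355 := d4_1 D1739 (iv D1355) (iv F6219)
theorem F8724 : act 4 n1739 = n1739 := d30_1 D1739 (iv D1739) (iv D1209) F4427 D1209
theorem F8725 : act 7 n1739 = n1215 := d36_2 (iv F6221) D1739 (iv D1215)
theorem F8726 : act 8 n1739 = n1739 := d37_2 F6222 D1739 (iv D1739)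
theorem F8727 : act 9 n1739 = n1212 := d38_2 (iv F6223) D1739 (iv D1212)
def n1740 : Q := act 0 n1210
theorem D1740 : act 0 n1210 = n1740 := rfl
theorem F8728 : act 1 n1740 = n1356 := d0_2 D1210 D1740 (iv D1356) (iv D943) (iv F4432)
theorem F8729 : act 3 n1740 = n1740 := d2_2 F6224 D1740 (iv D1740)
theorem F8730 : act 5 n1740 = n1740 := d4_2 F6225 D1740 (iv D1740)
theorem F8731 : act 6 n1740 = n1740 := d5_2 F6226 D1740 (iv D1740)
theorem F8732 : act 7 n1740 = n1216 := d6_2 (iv F6227) D1740 (iv D1216)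
theorem F8733 : act 8 n1740 = n1248 := d7_2 (iv F6228) D1740 (iv D1248)
def n1741 : Q := act 4 n1210
theorem D1741 : act 4 n1210 = n1741 := rfl
theorem F8734 : act 1 n1741 = n1211 := d11_1 D1741 (iv D1211) D1210
theorem F8735 : act 6 n1741 = n1741 := d31_2 F6226 D1741 (iv D1741)
theorem F8736 : act 7 n1741 = n1217 := d32_2 (iv F6227) D1741 (iv D1217)
theorem F8737 : act 8 n1741 = n1249 := d33_2 (iv F6228) D1741 (iv D1249)
def n1742 : Q := act 3 n1211
theorem D1742 : act 3 n1211 = n1742 := rfl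
theorem F8738 : act 0 n1742 = n1358 := d2_1 D1742 (iv D1358) (iv F6229)
theorem F8739 : act 4 n1742 = n1742 := d24_2 D1211 D1742 (iv D1742) (iv D1211) F4433
theorem F8740 : act 6 n1742 = n1742 := d26_2 F6231 D1742 (iv D1742)
theorem F8741 : act 7 n1742 = n1218 := d27_2 (iv F6232) D1742 (iv D1218)
def n1743 : Q := act 5 n1211
theorem D1743 : act 5 n1211 = n1743 := rfl
theorem F8742 : act 0 n1743 = n1359 := d4_1 D1743 (iv D1359) (iv F6229)
theorem F8743 : act 2 n1743 = n1212 := d19_1 D1743 (iv D1212) (iv F6230)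
theorem F8744 : act 4 n1743 = n1743 := d30_1 D1743 (iv D1743) (iv D1211) F4434 D1211
theorem F8745 : act 7 n1743 = n1219 := d36_2 (iv F6232) D1743 (iv D1219)
theorem F8746 : act 8 n1743 = n1251 := d37_2 (iv F6233) D1743 (iv D1251)
def n1744 : Q := act 6 n1212
theorem D1744 : act 6 n1212 = n1744 := rfl
theorem F8747 : act 0 n1744 = n1360 := d5_1 D1744 (iv D1360) (iv F6234)
theorem F8748 : act 4 n1744 = n1744 := d31_1 D1744 (iv D1744) F6235
theorem F8749 : act 5 n1744 = n1744 := d35_1 D1744 (iv D1744) (iv D1212) F4439 D1212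
theorem F8750 : act 8 n1744 = n1252 := d40_2 (iv F6237) D1744 (iv D1252)
def n1745 : Q := act 0 n1213
theorem D1745 : act 0 n1213 = n1745 := rfl
theorem F8751 : act 1 n1745 = n1361 := d0_2 D1213 D1745 (iv D1361) (iv D946) (iv F4442)
theorem F8752 : act 3 n1745 = n1745 := d2_2 F6238 D1745 (iv D1745)
theorem F8753 : act 5 n1745 = n1745 := d4_2 F6239 D1745 (iv D1745)
theorem F8754 : act 6 n1745 = n1221 := d5_2 (iv F6240) D1745 (iv D1221)
theorem F8755 : act 8 n1745 = n1745 := d7_2 F6241 D1745 (iv D1745)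
theorem F8756 : act 9 n1745 = n1216 := d8_2 (iv F6242) D1745 (iv D1216)
def n1746 : Q := act 4 n1213
theorem D1746 : act 4 n1213 = n1746 := rfl
theorem F8757 : act 1 n1746 = n1214 := d11_1 D1746 (iv D1214) D1213
theorem F8758 : act 6 n1746 = n1222 := d31_2 (iv F6240) D1746 (iv D1222)
theorem F8759 : act 8 n1746 = n1746 := d33_2 F6241 D1746 (iv D1746)
theorem F8760 : act 9 n1746 = n1217 := d34_2 (iv F6242) D1746 (iv D1217)
def n1747 : Q := act 3 n1214
theorem D1747 : act 3 n1214 = n1747 := rfl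
theorem F8761 : act 0 n1747 = n1363 := d2_1 D1747 (iv D1363) (iv F6243)
theorem F8762 : act 4 n1747 = n1747 := d24_2 D1214 D1747 (iv D1747) (iv D1214) F4443
theorem F8763 : act 6 n1747 = n1223 := d26_2 (iv F6245) D1747 (iv D1223)
theorem F8764 : act 9 n1747 = n1218 := d29_2 (iv F6247) D1747 (iv D1218)
def n1748 : Q := act 5 n1214
theorem D1748 : act 5 n1214 = n1748 := rfl
theorem F8765 : act 0 n1748 = n1364 := d4_1 D1748 (iv D1364) (iv F6243)
theorem F8766 : act 2 n1748 = n1215 := d19_1 D1748 (iv D1215) (iv F6244)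
theorem F8767 : act 4 n1748 = n1748 := d30_1 D1748 (iv D1748) (iv D1214) F4444 D1214
theorem F8768 : act 8 n1748 = n1748 := d37_2 F6246 D1748 (iv D1748)
theorem F8769 : act 9 n1748 = n1219 := d38_2 (iv F6247) D1748 (iv D1219)
def n1749 : Q := act 6 n1215
theorem D1749 : act 6 n1215 = n1749 := rfl
theorem F8770 : act 0 n1749 = n1365 := d5_1 D1749 (iv D1365) (iv F6248)
theorem F8771 : act 4 n1749 = n1749 := d31_1 D1749 (iv D1749) F6249
theorem F8772 : act 5 n1749 = n1225 := d35_1 D1749 (iv D1225) (iv D850) (iv F4449) D1215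
theorem F8773 : act 8 n1749 = n1749 := d40_2 F6250 D1749 (iv D1749)
theorem F8774 : act 9 n1749 = n1220 := d41_2 (iv F6251) D1749 (iv D1220)
def n1750 : Q := act 4 n1216
theorem D1750 : act 4 n1216 = n1750 := rfl
theorem F8775 : act 0 n1750 = n1217 := d3_1 D1750 (iv D1217) D1216
theorem F8776 : act 1 n1750 = n1366 := d11_1 D1750 (iv D1366) (iv F6252)
theorem F8777 : act 6 n1750 = n1226 := d31_2 (iv F6255) D1750 (iv D1226)
theorem F8778 : act 8 n1750 = n1253 := d33_2 (iv F6256) D1750 (iv D1253)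
def n1751 : Q := act 3 n1217
theorem D1751 : act 3 n1217 = n1751 := rfl
theorem F8779 : act 1 n1751 = n1218 := d10_1 D1751 (iv D1218) (iv F6257)
theorem F8780 : act 4 n1751 = n1751 := d24_2 D1217 D1751 (iv D1751) (iv D1217) F4452
theorem F8781 : act 6 n1751 = n1227 := d26_2 (iv F6258) D1751 (iv D1227)
def n1752 : Q := act 5 n1217
theorem D1752 : act 5 n1217 = n1752 := rfl
theorem F8782 : act 1 n1752 = n1219 := d12_1 D1752 (iv D1219) (iv F6257)
theorem F8783 : act 4 n1752 = n1752 := d30_1 D1752 (iv D1752) (iv D1217) F4453 D1217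
theorem F8784 : act 8 n1752 = n1255 := d37_2 (iv F6259) D1752 (iv D1255)
def n1753 : Q := act 5 n1218
theorem D1753 : act 5 n1218 = n1753 := rfl
theorem F8785 : act 0 n1753 = n1369 := d4_1 D1753 (iv D1369) (iv F6260)
theorem F8786 : act 3 n1753 = n1219 := d25_1 D1753 (iv D1219) D1218
def n1754 : Q := act 8 n1218
theorem D1754 : act 8 n1218 = n1754 := rfl
theorem F8787 : act 0 n1754 = n1370 := d7_1 D1754 (iv D1370) (iv F6260)
theorem F8788 : act 3 n1754 = n1257 := d28_1 D1754 (iv D1257) (iv D872) (iv F4459) D1218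
theorem F8789 : act 4 n1754 = n1754 := d33_1 D1754 (iv D1754) F6261
theorem F8790 : act 6 n1754 = n1230 := d40_1 D1754 (iv D1230) (iv F6262)
def n1755 : Q := act 6 n1219
theorem D1755 : act 6 n1219 = n1755 := rfl
theorem F8791 : act 0 n1755 = n1371 := d5_1 D1755 (iv D1371) (iv F6263)
theorem F8792 : act 2 n1755 = n1220 := d20_1 D1755 (iv D1220) (iv F6264)
theorem F8793 : act 4 n1755 = n1755 := d31_1 D1755 (iv D1755) F6265
theorem F8794 : act 5 n1755 = n1231 := d35_1 D1755 (iv D1231) (iv D854) (iv F4458) D1219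
theorem F8795 : act 8 n1755 = n1258 := d40_2 (iv F6266) D1755 (iv D1258)
def n1756 : Q := act 7 n1220
theorem D1756 : act 7 n1220 = n1756 := rfl
theorem F8796 : act 0 n1756 = n1372 := d6_1 D1756 (iv D1372) (iv F6267)
theorem F8797 : act 4 n1756 = n1756 := d32_1 D1756 (iv D1756) F6268
theorem F8798 : act 5 n1756 = n1232 := d36_1 D1756 (iv D1232) (iv F6269)
theorem F8799 : act 8 n1756 = n1259 := d42_2 (iv F6270) D1756 (iv D1259)
def n1757 : Q := act 4 n1221
theorem D1757 : act 4 n1221 = n1757 := rfl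
theorem F8800 : act 0 n1757 = n1222 := d3_1 D1757 (iv D1222) D1221
theorem F8801 : act 1 n1757 = n1373 := d11_1 D1757 (iv D1373) (iv F6271)
theorem F8802 : act 7 n1757 = n1757 := d32_2 F6274 D1757 (iv D1757)
theorem F8803 : act 8 n1757 = n1757 := d33_2 F6275 D1757 (iv D1757)
theorem F8804 : act 9 n1757 = n1226 := d34_2 (iv F6276) D1757 (iv D1226)
def n1758 : Q := act 3 n1222
theorem D1758 : act 3 n1222 = n1758 := rfl
theorem F8805 : act 1 n1758 = n1223 := d10_1 D1758 (iv D1223) (iv F6277)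
theorem F8806 : act 4 n1758 = n1758 := d24_2 D1222 D1758 (iv D1758) (iv D1222) F4463
theorem F8807 : act 7 n1758 = n1758 := d27_2 F6278 D1758 (iv D1758)
theorem F8808 : act 9 n1758 = n1227 := d29_2 (iv F6280) D1758 (iv D1227)
def n1759 : Q := act 5 n1222
theorem D1759 : act 5 n1222 = n1759 := rfl
theorem F8809 : act 1 n1759 = n1224 := d12_1 D1759 (iv D1224) (iv F6277)
theorem F8810 : act 4 n1759 = n1235 := d30_1 D1759 (iv D1235) (iv D857) (iv F4464) D1222
theorem F8811 : act 7 n1759 = n1759 := d36_2 F6278 D1759 (iv D1759)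
theorem F8812 : act 8 n1759 = n1759 := d37_2 F6279 D1759 (iv D1759)
theorem F8813 : act 9 n1759 = n1228 := d38_2 (iv F6280) D1759 (iv D1228)
def n1760 : Q := act 5 n1223
theorem D1760 : act 5 n1223 = n1760 := rfl
theorem F8814 : act 0 n1760 = n1376 := d4_1 D1760 (iv D1376) (iv F6281)
theorem F8815 : act 3 n1760 = n1224 := d25_1 D1760 (iv D1224) D1223
theorem F8816 : act 7 n1760 = n1760 := d36_2 F6283 D1760 (iv D1760)
theorem F8817 : act 9 n1760 = n1229 := d38_2 (iv F6284) D1760 (iv D1229)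
def n1761 : Q := act 8 n1223
theorem D1761 : act 8 n1223 = n1761 := rfl
theorem F8818 : act 0 n1761 = n1377 := d7_1 D1761 (iv D1377) (iv F6281)
theorem F8819 : act 3 n1761 = n1761 := d28_1 D1761 (iv D1761) (iv D1223) F4471 D1223
theorem F8820 : act 4 n1761 = n1761 := d33_1 D1761 (iv D1761) F6282
theorem F8821 : act 7 n1761 = n1761 := d42_1 D1761 (iv D1761) F6283
def n1762 : Q := act 6 n1224
theorem D1762 : act 6 n1224 = n1762 := rfl
theorem F8822 : act 0 n1762 = n1378 := d5_1 D1762 (iv D1378) (iv F6285)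
theorem F8823 : act 2 n1762 = n1225 := d20_1 D1762 (iv D1225) (iv F6286)
theorem F8824 : act 4 n1762 = n1238 := d31_1 D1762 (iv D1238) (iv F6287)
theorem F8825 : act 8 n1762 = n1762 := d40_2 F6289 D1762 (iv D1762)
theorem F8826 : act 9 n1762 = n1231 := d41_2 (iv F6290) D1762 (iv D1231)
def n1763 : Q := act 7 n1225
theorem D1763 : act 7 n1225 = n1763 := rfl
theorem F8827 : act 0 n1763 = n1379 := d6_1 D1763 (iv D1379) (iv F6291)
theorem F8828 : act 4 n1763 = n1239 := d32_1 D1763 (iv D1239) (iv F6292)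
theorem F8829 : act 6 n1763 = n1763 := d39_1 D1763 (iv D1763) (iv D1225) F4475 D1225
theorem F8830 : act 8 n1763 = n1763 := d42_2 F6293 D1763 (iv D1763)
theorem F8831 : act 9 n1763 = n1232 := d43_2 (iv F6294) D1763 (iv D1232)
def n1764 : Q := act 3 n1226
theorem D1764 : act 3 n1226 = n1764 := rfl
theorem F8832 : act 0 n1764 = n1227 := d2_1 D1764 (iv D1227) (iv F6295)
theorem F8833 : act 1 n1764 = n1380 := d10_1 D1764 (iv D1380) (iv F6296)
theorem F8834 : act 4 n1764 = n1764 := d24_2 D1226 D1764 (iv D1764) (iv D1226) F4479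
theorem F8835 : act 7 n1764 = n1764 := d27_2 F6297 D1764 (iv D1764)
def n1765 : Q := act 5 n1226
theorem D1765 : act 5 n1226 = n1765 := rfl
theorem F8836 : act 0 n1765 = n1228 := d4_1 D1765 (iv D1228) (iv F6295)
theorem F8837 : act 1 n1765 = n1381 := d12_1 D1765 (iv D1381) (iv F6296)
theorem F8838 : act 4 n1765 = n1241 := d30_1 D1765 (iv D1241) (iv D861) (iv F4480) D1226
theorem F8839 : act 7 n1765 = n1765 := d36_2 F6297 D1765 (iv D1765)
theorem F8840 : act 8 n1765 = n1261 := d37_2 (iv F6298) D1765 (iv D1261)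
def n1766 : Q := act 2 n1227
theorem D1766 : act 2 n1227 = n1766 := rfl
theorem F8841 : act 4 n1766 = n1766 := d18_2 F6300 D1766 (iv D1766)
theorem F8842 : act 7 n1766 = n1766 := d21_2 F6301 D1766 (iv D1766)
def n1767 : Q := act 5 n1227
theorem D1767 : act 5 n1227 = n1767 := rfl
theorem F8843 : act 1 n1767 = n1229 := d12_1 D1767 (iv D1229) (iv F6299)
theorem F8844 : act 3 n1767 = n1228 := d25_1 D1767 (iv D1228) D1227
theorem F8845 : act 7 n1767 = n1767 := d36_2 F6301 D1767 (iv D1767)
def n1768 : Q := act 8 n1227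
theorem D1768 : act 8 n1227 = n1768 := rfl
theorem F8846 : act 1 n1768 = n1230 := d15_1 D1768 (iv D1230) (iv F6299)
theorem F8847 : act 3 n1768 = n1264 := d28_1 D1768 (iv D1264) (iv D876) (iv F4485) D1227
theorem F8848 : act 4 n1768 = n1768 := d33_1 D1768 (iv D1768) F6300
theorem F8849 : act 7 n1768 = n1768 := d42_1 D1768 (iv D1768) F6301
def n1769 : Q := act 6 n1228
theorem D1769 : act 6 n1228 = n1769 := rfl
theorem F8850 : act 1 n1769 = n1231 := d13_1 D1769 (iv D1231) (iv F6302)
theorem F8851 : act 4 n1769 = n1244 := d31_1 D1769 (iv D1244) (iv F6303)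
theorem F8852 : act 8 n1769 = n1265 := d40_2 (iv F6305) D1769 (iv D1265)
def n1770 : Q := act 4 n1229
theorem D1770 : act 4 n1229 = n1770 := rfl
theorem F8853 : act 0 n1770 = n1386 := d3_1 D1770 (iv D1386) (iv F6306)
theorem F8854 : act 3 n1770 = n1245 := d24_1 D1770 (iv D1245) F4539 (iv F4491) (iv F6307)
theorem F8855 : act 5 n1770 = n1770 := d30_2 D1229 D1770 (iv D1770) (iv D1229) F4487
theorem F8856 : act 7 n1770 = n1770 := d32_2 F6308 D1770 (iv D1770)
def n1771 : Q := act 6 n1229
theorem D1771 : act 6 n1229 = n1771 := rfl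
theorem F8857 : act 0 n1771 = n1387 := d5_1 D1771 (iv D1387) (iv F6306)
theorem F8858 : act 3 n1771 = n1231 := d26_1 D1771 (iv D1231) (iv F6307)
def n1772 : Q := act 8 n1229
theorem D1772 : act 8 n1229 = n1772 := rfl
theorem F8859 : act 0 n1772 = n1388 := d7_1 D1772 (iv D1388) (iv F6306)
theorem F8860 : act 3 n1772 = n1267 := d28_1 D1772 (iv D1267) F4602 (iv F4493) (iv F6307)
theorem F8861 : act 5 n1772 = n1230 := d37_1 D1772 (iv D1230) D1229
theorem F8862 : act 7 n1772 = n1772 := d42_1 D1772 (iv D1772) F6308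
def n1773 : Q := act 9 n1230
theorem D1773 : act 9 n1230 = n1773 := rfl
theorem F8863 : act 0 n1773 = n1389 := d8_1 D1773 (iv D1389) (iv F6309)
theorem F8864 : act 3 n1773 = n1268 := d29_1 D1773 (iv D1268) (iv F6310)
theorem F8865 : act 4 n1773 = n1773 := d34_1 D1773 (iv D1773) F6311
theorem F8866 : act 7 n1773 = n1773 := d43_1 D1773 (iv D1773) F6312
def n1774 : Q := act 7 n1231
theorem D1774 : act 7 n1231 = n1774 := rfl
theorem F8867 : act 0 n1774 = n1390 := d6_1 D1774 (iv D1390) (iv F6313)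
theorem F8868 : act 2 n1774 = n1232 := d21_1 D1774 (iv D1232) (iv F6314)
theorem F8869 : act 4 n1774 = n1247 := d32_1 D1774 (iv D1247) (iv F6315)
theorem F8870 : act 6 n1774 = n1774 := d39_1 D1774 (iv D1774) (iv D1231) F4492 D1231
theorem F8871 : act 8 n1774 = n1269 := d42_2 (iv F6316) D1774 (iv D1269)
def n1775 : Q := act 3 n1233
theorem D1775 : act 3 n1233 = n1775 := rfl
theorem F8872 : act 0 n1775 = n1234 := d2_1 D1775 (iv D1234) (iv F6321)
theorem F8873 : act 1 n1775 = n1391 := d10_1 D1775 (iv D1391) (iv F6322)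
theorem F8874 : act 4 n1775 = n1775 := d24_2 D1233 D1775 (iv D1775) (iv D1233) F4498
theorem F8875 : act 6 n1775 = n1775 := d26_2 F6323 D1775 (iv D1775)
theorem F8876 : act 7 n1775 = n1775 := d27_2 F6324 D1775 (iv D1775)
theorem F8877 : act 9 n1775 = n1240 := d29_2 (iv F6326) D1775 (iv D1240)
def n1776 : Q := act 5 n1233
theorem D1776 : act 5 n1233 = n1776 := rfl
theorem F8878 : act 0 n1776 = n1235 := d4_1 D1776 (iv D1235) (iv F6321)
theorem F8879 : act 1 n1776 = n1392 := d12_1 D1776 (iv D1392) (iv F6322)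
theorem F8880 : act 7 n1776 = n1776 := d36_2 F6324 D1776 (iv D1776)
theorem F8881 : act 8 n1776 = n1776 := d37_2 F6325 D1776 (iv D1776)
theorem F8882 : act 9 n1776 = n1241 := d38_2 (iv F6326) D1776 (iv D1241)
def n1777 : Q := act 2 n1234
theorem D1777 : act 2 n1234 = n1777 := rfl
theorem F8883 : act 1 n1777 = n1777 := d9_1 D1777 (iv D1777) F6327 F4509 (iv F6327)
theorem F8884 : act 4 n1777 = n1777 := d18_2 F6328 D1777 (iv D1777)
theorem F8885 : act 6 n1777 = n1777 := d20_2 F6329 D1777 (iv D1777)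
theorem F8886 : act 7 n1777 = n1777 := d21_2 F6330 D1777 (iv D1777)
theorem F8887 : act 9 n1777 = n1242 := d23_2 (iv F6331) D1777 (iv D1242)
def n1778 : Q := act 5 n1234
theorem D1778 : act 5 n1234 = n1778 := rfl
theorem F8888 : act 1 n1778 = n1236 := d12_1 D1778 (iv D1236) (iv F6327)
theorem F8889 : act 3 n1778 = n1235 := d25_1 D1778 (iv D1235) D1234
theorem F8890 : act 7 n1778 = n1778 := d36_2 F6330 D1778 (iv D1778)
theorem F8891 : act 9 n1778 = n1243 := d38_2 (iv F6331) D1778 (iv D1243)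
def n1779 : Q := act 8 n1234
theorem D1779 : act 8 n1234 = n1779 := rfl
theorem F8892 : act 1 n1779 = n1237 := d15_1 D1779 (iv D1237) (iv F6327)
theorem F8893 : act 3 n1779 = n1779 := d28_1 D1779 (iv D1779) (iv D1234) F4506 D1234
theorem F8894 : act 4 n1779 = n1779 := d33_1 D1779 (iv D1779) F6328
theorem F8895 : act 6 n1779 = n1779 := d40_1 D1779 (iv D1779) F6329
theorem F8896 : act 7 n1779 = n1779 := d42_1 D1779 (iv D1779) F6330
theorem F8897 : act 9 n1779 = n1779 := d44_2 (iv F6331) D1779 (iv D1779) F6331 F4533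
def n1780 : Q := act 6 n1235
theorem D1780 : act 6 n1235 = n1780 := rfl
theorem F8898 : act 1 n1780 = n1238 := d13_1 D1780 (iv D1238) (iv F6332)
theorem F8899 : act 5 n1780 = n1780 := d35_1 D1780 (iv D1780) (iv D1235) F4504 D1235
theorem F8900 : act 8 n1780 = n1780 := d40_2 F6334 D1780 (iv D1780)
theorem F8901 : act 9 n1780 = n1244 := d41_2 (iv F6335) D1780 (iv D1244)
def n1781 : Q := act 4 n1236
theorem D1781 : act 4 n1236 = n1781 := rfl
theorem F8902 : act 0 n1781 = n1397 := d3_1 D1781 (iv D1397) (iv F6336)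
theorem F8903 : act 2 n1781 = n1781 := d18_1 D1781 (iv D1781) F6337
theorem F8904 : act 5 n1781 = n1781 := d30_2 D1236 D1781 (iv D1781) (iv D1236) F4510
theorem F8905 : act 7 n1781 = n1781 := d32_2 F6339 D1781 (iv D1781)
theorem F8906 : act 9 n1781 = n1245 := d34_2 (iv F6340) D1781 (iv D1245)
def n1782 : Q := act 6 n1236
theorem D1782 : act 6 n1236 = n1782 := rfl
theorem F8907 : act 0 n1782 = n1398 := d5_1 D1782 (iv D1398) (iv F6336)
theorem F8908 : act 2 n1782 = n1782 := d20_1 D1782 (iv D1782) F6337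
theorem F8909 : act 3 n1782 = n1238 := d26_1 D1782 (iv D1238) (iv F6338)
theorem F8910 : act 5 n1782 = n1782 := d35_1 D1782 (iv D1782) (iv D1236) F4511 D1236
theorem F8911 : act 9 n1782 = n1246 := d41_2 (iv F6340) D1782 (iv D1246)
def n1783 : Q := act 8 n1236
theorem D1783 : act 8 n1236 = n1783 := rfl
theorem F8912 : act 0 n1783 = n1399 := d7_1 D1783 (iv D1399) (iv F6336)
theorem F8913 : act 2 n1783 = n1783 := d22_1 D1783 (iv D1783) F6337
theorem F8914 : act 3 n1783 = n1783 := d28_1 D1783 (iv D1783) F6338 F4517 (iv F6338)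
theorem F8915 : act 5 n1783 = n1237 := d37_1 D1783 (iv D1237) D1236
theorem F8916 : act 7 n1783 = n1783 := d42_1 D1783 (iv D1783) F6339
theorem F8917 : act 9 n1783 = n1783 := d44_2 (iv F6340) D1783 (iv D1783) F6340 F4541
def n1784 : Q := act 7 n1238
theorem D1784 : act 7 n1238 = n1784 := rfl
theorem F8918 : act 0 n1784 = n1400 := d6_1 D1784 (iv D1400) (iv F6348)
theorem F8919 : act 2 n1784 = n1239 := d21_1 D1784 (iv D1239) (iv F6349)
theorem F8920 : act 5 n1784 = n1784 := d36_1 D1784 (iv D1784) F6350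
theorem F8921 : act 6 n1784 = n1784 := d39_1 D1784 (iv D1784) (iv D1238) F4516 D1238
theorem F8922 : act 8 n1784 = n1784 := d42_2 F6351 D1784 (iv D1784)
theorem F8923 : act 9 n1784 = n1247 := d43_2 (iv F6352) D1784 (iv D1247)
def n1785 : Q := act 2 n1240
theorem D1785 : act 2 n1240 = n1785 := rfl
theorem F8924 : act 0 n1785 = n1242 := d1_1 D1785 (iv D1242) (iv F6359)
theorem F8925 : act 4 n1785 = n1785 := d18_2 F6361 D1785 (iv D1785)
theorem F8926 : act 6 n1785 = n1785 := d20_2 F6362 D1785 (iv D1785)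
theorem F8927 : act 7 n1785 = n1785 := d21_2 F6363 D1785 (iv D1785)
theorem F8928 : act 8 n1785 = n1785 := d22_2 F6364 D1785 (iv D1785)
def n1786 : Q := act 5 n1240
theorem D1786 : act 5 n1240 = n1786 := rfl
theorem F8929 : act 0 n1786 = n1243 := d4_1 D1786 (iv D1243) (iv F6359)
theorem F8930 : act 1 n1786 = n1402 := d12_1 D1786 (iv D1402) (iv F6360)
theorem F8931 : act 3 n1786 = n1241 := d25_1 D1786 (iv D1241) D1240
theorem F8932 : act 7 n1786 = n1786 := d36_2 F6363 D1786 (iv D1786)
theorem F8933 : act 8 n1786 = n1786 := d37_2 F6364 D1786 (iv D1786)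
def n1787 : Q := act 6 n1241
theorem D1787 : act 6 n1241 = n1787 := rfl
theorem F8934 : act 0 n1787 = n1244 := d5_1 D1787 (iv D1244) (iv F6365)
theorem F8935 : act 1 n1787 = n1403 := d13_1 D1787 (iv D1403) (iv F6366)
theorem F8936 : act 5 n1787 = n1787 := d35_1 D1787 (iv D1787) (iv D1241) F4526 D1241
theorem F8937 : act 8 n1787 = n1270 := d40_2 (iv F6368) D1787 (iv D1270)
def n1788 : Q := act 5 n1242
theorem D1788 : act 5 n1242 = n1788 := rfl
theorem F8938 : act 1 n1788 = n1788 := d12_1 D1788 (iv D1788) F6369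
theorem F8939 : act 2 n1788 = n1243 := d19_1 D1788 (iv D1243) D1242
theorem F8940 : act 7 n1788 = n1788 := d36_2 F6372 D1788 (iv D1788)
theorem F8941 : act 8 n1788 = n1788 := d37_2 F6373 D1788 (iv D1788)
def n1789 : Q := act 4 n1243
theorem D1789 : act 4 n1243 = n1789 := rfl
theorem F8942 : act 1 n1789 = n1245 := d11_1 D1789 (iv D1245) (iv F6374)
theorem F8943 : act 5 n1789 = n1789 := d30_2 D1243 D1789 (iv D1789) (iv D1243) F4530
theorem F8944 : act 7 n1789 = n1789 := d32_2 F6376 D1789 (iv D1789)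
theorem F8945 : act 8 n1789 = n1789 := d33_2 F6377 D1789 (iv D1789)
def n1790 : Q := act 6 n1243
theorem D1790 : act 6 n1243 = n1790 := rfl
theorem F8946 : act 1 n1790 = n1246 := d13_1 D1790 (iv D1246) (iv F6374)
theorem F8947 : act 3 n1790 = n1244 := d26_1 D1790 (iv D1244) (iv F6375)
theorem F8948 : act 5 n1790 = n1790 := d35_1 D1790 (iv D1790) (iv D1243) F4531 D1243
theorem F8949 : act 8 n1790 = n1790 := d40_2 F6377 D1790 (iv D1790)
def n1791 : Q := act 7 n1244
theorem D1791 : act 7 n1244 = n1791 := rfl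
theorem F8950 : act 1 n1791 = n1247 := d14_1 D1791 (iv D1247) (iv F6378)
theorem F8951 : act 5 n1791 = n1791 := d36_1 D1791 (iv D1791) F6379
theorem F8952 : act 6 n1791 = n1791 := d39_1 D1791 (iv D1791) (iv D1244) F4535 D1244
theorem F8953 : act 8 n1791 = n1271 := d42_2 (iv F6380) D1791 (iv D1271)
def n1792 : Q := act 6 n1245
theorem D1792 : act 6 n1245 = n1792 := rfl
theorem F8954 : act 0 n1792 = n1408 := d5_1 D1792 (iv D1408) (iv F6381)
theorem F8955 : act 2 n1792 = n1792 := d20_1 D1792 (iv D1792) F6382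
theorem F8956 : act 4 n1792 = n1246 := d31_1 D1792 (iv D1246) D1245
theorem F8957 : act 8 n1792 = n1792 := d40_2 F6385 D1792 (iv D1792)
def n1793 : Q := act 7 n1246
theorem D1793 : act 7 n1246 = n1793 := rfl
theorem F8958 : act 0 n1793 = n1409 := d6_1 D1793 (iv D1409) (iv F6386)
theorem F8959 : act 2 n1793 = n1793 := d21_1 D1793 (iv D1793) F6387
theorem F8960 : act 3 n1793 = n1247 := d27_1 D1793 (iv D1247) (iv F6388)
theorem F8961 : act 5 n1793 = n1793 := d36_1 D1793 (iv D1793) F6389
theorem F8962 : act 6 n1793 = n1793 := d39_1 D1793 (iv D1793) (iv D1246) F4540 D1246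
theorem F8963 : act 8 n1793 = n1793 := d42_2 F6390 D1793 (iv D1793)
def n1794 : Q := act 4 n1248
theorem D1794 : act 4 n1248 = n1794 := rfl
theorem F8964 : act 0 n1794 = n1249 := d3_1 D1794 (iv D1249) D1248
theorem F8965 : act 1 n1794 = n1410 := d11_1 D1794 (iv D1410) (iv F6396)
theorem F8966 : act 6 n1794 = n1794 := d31_2 F6399 D1794 (iv D1794)
theorem F8967 : act 7 n1794 = n1253 := d32_2 (iv F6400) D1794 (iv D1253)
theorem F8968 : act 9 n1794 = n1794 := d34_2 F6401 D1794 (iv D1794)
def n1795 : Q := act 3 n1249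
theorem D1795 : act 3 n1249 = n1795 := rfl
theorem F8969 : act 1 n1795 = n1250 := d10_1 D1795 (iv D1250) (iv F6402)
theorem F8970 : act 4 n1795 = n1273 := d24_2 D1249 D1795 (iv D1273) (iv D886) (iv F4551)
theorem F8971 : act 6 n1795 = n1795 := d26_2 F6403 D1795 (iv D1795)
theorem F8972 : act 7 n1795 = n1254 := d27_2 (iv F6404) D1795 (iv D1254)
theorem F8973 : act 9 n1795 = n1795 := d29_2 F6405 D1795 (iv D1795)
def n1796 : Q := act 5 n1249
theorem D1796 : act 5 n1249 = n1796 := rfl
theorem F8974 : act 1 n1796 = n1251 := d12_1 D1796 (iv D1251) (iv F6402)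
theorem F8975 : act 4 n1796 = n1796 := d30_1 D1796 (iv D1796) (iv D1249) F4552 D1249
theorem F8976 : act 7 n1796 = n1255 := d36_2 (iv F6404) D1796 (iv D1255)
theorem F8977 : act 9 n1796 = n1796 := d38_2 F6405 D1796 (iv D1796)
def n1797 : Q := act 5 n1250
theorem D1797 : act 5 n1250 = n1797 := rfl
theorem F8978 : act 0 n1797 = n1413 := d4_1 D1797 (iv D1413) (iv F6406)
theorem F8979 : act 2 n1797 = n1797 := d19_1 D1797 (iv D1797) F6407
theorem F8980 : act 3 n1797 = n1251 := d25_1 D1797 (iv D1251) D1250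
theorem F8981 : act 7 n1797 = n1256 := d36_2 (iv F6410) D1797 (iv D1256)
theorem F8982 : act 9 n1797 = n1797 := d38_2 F6411 D1797 (iv D1797)
def n1798 : Q := act 8 n1250
theorem D1798 : act 8 n1250 = n1798 := rfl
theorem F8983 : act 0 n1798 = n1414 := d7_1 D1798 (iv D1414) (iv F6406)
theorem F8984 : act 2 n1798 = n1798 := d22_1 D1798 (iv D1798) F6407
theorem F8985 : act 4 n1798 = n1276 := d33_1 D1798 (iv D1276) (iv F6408)
theorem F8986 : act 6 n1798 = n1798 := d40_1 D1798 (iv D1798) F6409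
theorem F8987 : act 7 n1798 = n1257 := d42_1 D1798 (iv D1257) (iv F6410)
def n1799 : Q := act 6 n1251
theorem D1799 : act 6 n1251 = n1799 := rfl
theorem F8988 : act 0 n1799 = n1415 := d5_1 D1799 (iv D1415) (iv F6412)
theorem F8989 : act 2 n1799 = n1252 := d20_1 D1799 (iv D1252) (iv F6413)
theorem F8990 : act 4 n1799 = n1799 := d31_1 D1799 (iv D1799) F6414
theorem F8991 : act 5 n1799 = n1799 := d35_1 D1799 (iv D1799) (iv D1251) F4558 D1251
theorem F8992 : act 9 n1799 = n1799 := d41_2 F6416 D1799 (iv D1799)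
def n1800 : Q := act 7 n1252
theorem D1800 : act 7 n1252 = n1800 := rfl
theorem F8993 : act 0 n1800 = n1416 := d6_1 D1800 (iv D1416) (iv F6417)
theorem F8994 : act 3 n1800 = n1800 := d27_1 D1800 (iv D1800) F6418
theorem F8995 : act 4 n1800 = n1800 := d32_1 D1800 (iv D1800) F6419
theorem F8996 : act 5 n1800 = n1800 := d36_1 D1800 (iv D1800) F6420
theorem F8997 : act 6 n1800 = n1259 := d39_1 D1800 (iv D1259) (iv D874) (iv F4564) D1252
theorem F8998 : act 9 n1800 = n1800 := d43_2 F6421 D1800 (iv D1800)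
def n1801 : Q := act 3 n1253
theorem D1801 : act 3 n1253 = n1801 := rfl
theorem F8999 : act 0 n1801 = n1254 := d2_1 D1801 (iv D1254) (iv F6422)
theorem F9000 : act 1 n1801 = n1417 := d10_1 D1801 (iv D1417) (iv F6423)
theorem F9001 : act 4 n1801 = n1278 := d24_2 D1253 D1801 (iv D1278) (iv D890) (iv F4567)
theorem F9002 : act 6 n1801 = n1260 := d26_2 (iv F6424) D1801 (iv D1260)
theorem F9003 : act 9 n1801 = n1801 := d29_2 F6425 D1801 (iv D1801)
def n1802 : Q := act 5 n1253
theorem D1802 : act 5 n1253 = n1802 := rfl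
theorem F9004 : act 0 n1802 = n1255 := d4_1 D1802 (iv D1255) (iv F6422)
theorem F9005 : act 1 n1802 = n1418 := d12_1 D1802 (iv D1418) (iv F6423)
theorem F9006 : act 4 n1802 = n1802 := d30_1 D1802 (iv D1802) (iv D1253) F4568 D1253
theorem F9007 : act 9 n1802 = n1802 := d38_2 F6425 D1802 (iv D1802)
def n1803 : Q := act 2 n1254
theorem D1803 : act 2 n1254 = n1803 := rfl
theorem F9008 : act 1 n1803 = n1803 := d9_1 D1803 (iv D1803) F6426 F4575 (iv F6426)
theorem F9009 : act 4 n1803 = n1280 := d18_2 (iv F6427) D1803 (iv D1280)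
theorem F9010 : act 6 n1803 = n1262 := d20_2 (iv F6428) D1803 (iv D1262)
theorem F9011 : act 9 n1803 = n1803 := d23_2 F6429 D1803 (iv D1803)
def n1804 : Q := act 5 n1254
theorem D1804 : act 5 n1254 = n1804 := rfl
theorem F9012 : act 1 n1804 = n1256 := d12_1 D1804 (iv D1256) (iv F6426)
theorem F9013 : act 3 n1804 = n1255 := d25_1 D1804 (iv D1255) D1254
theorem F9014 : act 9 n1804 = n1804 := d38_2 F6429 D1804 (iv D1804)
def n1805 : Q := act 8 n1254
theorem D1805 : act 8 n1254 = n1805 := rfl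
theorem F9015 : act 1 n1805 = n1257 := d15_1 D1805 (iv D1257) (iv F6426)
theorem F9016 : act 4 n1805 = n1282 := d33_1 D1805 (iv D1282) (iv F6427)
theorem F9017 : act 6 n1805 = n1264 := d40_1 D1805 (iv D1264) (iv F6428)
def n1806 : Q := act 6 n1255
theorem D1806 : act 6 n1255 = n1806 := rfl
theorem F9018 : act 1 n1806 = n1258 := d13_1 D1806 (iv D1258) (iv F6430)
theorem F9019 : act 4 n1806 = n1806 := d31_1 D1806 (iv D1806) F6431
theorem F9020 : act 5 n1806 = n1265 := d35_1 D1806 (iv D1265) (iv D877) (iv F4572) D1255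
theorem F9021 : act 9 n1806 = n1806 := d41_2 F6432 D1806 (iv D1806)
def n1807 : Q := act 4 n1256
theorem D1807 : act 4 n1256 = n1807 := rfl
theorem F9022 : act 0 n1807 = n1423 := d3_1 D1807 (iv D1423) (iv F6433)
theorem F9023 : act 2 n1807 = n1807 := d18_1 D1807 (iv D1807) F6434
theorem F9024 : act 3 n1807 = n1807 := d24_1 D1807 (iv D1807) F6435 F4581 (iv F6435)
theorem F9025 : act 5 n1807 = n1283 := d30_2 D1256 D1807 (iv D1283) (iv D893) (iv F4576)
theorem F9026 : act 9 n1807 = n1807 := d34_2 F6436 D1807 (iv D1807)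
def n1808 : Q := act 6 n1256
theorem D1808 : act 6 n1256 = n1808 := rfl
theorem F9027 : act 0 n1808 = n1424 := d5_1 D1808 (iv D1424) (iv F6433)
theorem F9028 : act 2 n1808 = n1808 := d20_1 D1808 (iv D1808) F6434
theorem F9029 : act 3 n1808 = n1258 := d26_1 D1808 (iv D1258) (iv F6435)
theorem F9030 : act 5 n1808 = n1266 := d35_1 D1808 (iv D1266) (iv D878) (iv F4577) D1256
theorem F9031 : act 9 n1808 = n1808 := d41_2 F6436 D1808 (iv D1808)
def n1809 : Q := act 8 n1256
theorem D1809 : act 8 n1256 = n1809 := rfl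
theorem F9032 : act 0 n1809 = n1425 := d7_1 D1809 (iv D1425) (iv F6433)
theorem F9033 : act 2 n1809 = n1809 := d22_1 D1809 (iv D1809) F6434
theorem F9034 : act 5 n1809 = n1257 := d37_1 D1809 (iv D1257) D1256
def n1810 : Q := act 9 n1257
theorem D1810 : act 9 n1257 = n1810 := rfl
theorem F9035 : act 0 n1810 = n1426 := d8_1 D1810 (iv D1426) (iv F6437)
theorem F9036 : act 2 n1810 = n1810 := d23_1 D1810 (iv D1810) F6438
theorem F9037 : act 4 n1810 = n1285 := d34_1 D1810 (iv D1285) (iv F6439)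
theorem F9038 : act 6 n1810 = n1268 := d41_1 D1810 (iv D1268) (iv F6440)
theorem F9039 : act 8 n1810 = n1810 := d44_1 D1810 (iv D1810) (iv D1257) F4578 D1257
def n1811 : Q := act 7 n1258
theorem D1811 : act 7 n1258 = n1811 := rfl
theorem F9040 : act 0 n1811 = n1427 := d6_1 D1811 (iv D1427) (iv F6441)
theorem F9041 : act 2 n1811 = n1259 := d21_1 D1811 (iv D1259) (iv F6442)
theorem F9042 : act 4 n1811 = n1811 := d32_1 D1811 (iv D1811) F6443
theorem F9043 : act 5 n1811 = n1269 := d36_1 D1811 (iv D1269) (iv F6444)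
theorem F9044 : act 9 n1811 = n1811 := d43_2 F6445 D1811 (iv D1811)
def n1812 : Q := act 2 n1260
theorem D1812 : act 2 n1260 = n1812 := rfl
theorem F9045 : act 0 n1812 = n1262 := d1_1 D1812 (iv D1262) (iv F6451)
theorem F9046 : act 4 n1812 = n1286 := d18_2 (iv F6453) D1812 (iv D1286)
theorem F9047 : act 7 n1812 = n1812 := d21_2 F6454 D1812 (iv D1812)
theorem F9048 : act 9 n1812 = n1812 := d23_2 F6455 D1812 (iv D1812)
def n1813 : Q := act 5 n1260
theorem D1813 : act 5 n1260 = n1813 := rfl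
theorem F9049 : act 0 n1813 = n1263 := d4_1 D1813 (iv D1263) (iv F6451)
theorem F9050 : act 1 n1813 = n1429 := d12_1 D1813 (iv D1429) (iv F6452)
theorem F9051 : act 3 n1813 = n1261 := d25_1 D1813 (iv D1261) D1260
theorem F9052 : act 4 n1813 = n1813 := d30_1 D1813 (iv D1813) F6453 F4692 (iv F6453)
theorem F9053 : act 7 n1813 = n1813 := d36_2 F6454 D1813 (iv D1813)
theorem F9054 : act 9 n1813 = n1813 := d38_2 F6455 D1813 (iv D1813)
def n1814 : Q := act 8 n1260
theorem D1814 : act 8 n1260 = n1814 := rfl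
def n1815 : Q := act 6 n1261
theorem D1815 : act 6 n1261 = n1815 := rfl
theorem F9059 : act 0 n1815 = n1265 := d5_1 D1815 (iv D1265) (iv F6456)
theorem F9060 : act 1 n1815 = n1431 := d13_1 D1815 (iv D1431) (iv F6457)
theorem F9061 : act 4 n1815 = n1270 := d31_1 D1815 (iv D1270) (iv F6458)
theorem F9062 : act 9 n1815 = n1815 := d41_2 F6460 D1815 (iv D1815)
def n1816 : Q := act 5 n1262
theorem D1816 : act 5 n1262 = n1816 := rfl
theorem F9063 : act 1 n1816 = n1816 := d12_1 D1816 (iv D1816) F6461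
theorem F9064 : act 2 n1816 = n1263 := d19_1 D1816 (iv D1263) D1262
theorem F9065 : act 4 n1816 = n1816 := d30_1 D1816 (iv D1816) F6462 F4697 (iv F6462)
theorem F9066 : act 7 n1816 = n1816 := d36_2 F6463 D1816 (iv D1816)
theorem F9067 : act 9 n1816 = n1816 := d38_2 F6464 D1816 (iv D1816)
def n1817 : Q := act 8 n1262
theorem D1817 : act 8 n1262 = n1817 := rfl
theorem F9068 : act 1 n1817 = n1817 := d15_1 D1817 (iv D1817) F6461
theorem F9069 : act 2 n1817 = n1264 := d22_1 D1817 (iv D1264) D1262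
theorem F9070 : act 4 n1817 = n1288 := d33_1 D1817 (iv D1288) (iv F6462)
theorem F9071 : act 7 n1817 = n1817 := d42_1 D1817 (iv D1817) F6463
def n1818 : Q := act 6 n1263
theorem D1818 : act 6 n1263 = n1818 := rfl
theorem F9072 : act 1 n1818 = n1266 := d13_1 D1818 (iv D1266) (iv F6465)
theorem F9073 : act 3 n1818 = n1265 := d26_1 D1818 (iv D1265) (iv F6466)
theorem F9074 : act 4 n1818 = n1818 := d31_1 D1818 (iv D1818) F6467
theorem F9075 : act 9 n1818 = n1818 := d41_2 F6469 D1818 (iv D1818)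
def n1819 : Q := act 8 n1263
theorem D1819 : act 8 n1263 = n1819 := rfl
theorem F9076 : act 1 n1819 = n1267 := d15_1 D1819 (iv D1267) (iv F6465)
theorem F9077 : act 4 n1819 = n1819 := d33_1 D1819 (iv D1819) F6467
theorem F9078 : act 5 n1819 = n1264 := d37_1 D1819 (iv D1264) D1263
theorem F9079 : act 7 n1819 = n1819 := d42_1 D1819 (iv D1819) F6468
def n1820 : Q := act 9 n1264
theorem D1820 : act 9 n1264 = n1820 := rfl
theorem F9080 : act 1 n1820 = n1268 := d16_1 D1820 (iv D1268) (iv F6470)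
def n1821 : Q := act 7 n1265
theorem D1821 : act 7 n1265 = n1821 := rfl
theorem F9084 : act 1 n1821 = n1269 := d14_1 D1821 (iv D1269) (iv F6473)
theorem F9085 : act 4 n1821 = n1271 := d32_1 D1821 (iv D1271) (iv F6474)
theorem F9086 : act 6 n1821 = n1821 := d39_1 D1821 (iv D1821) (iv D1265) F4598 D1265
theorem F9087 : act 9 n1821 = n1821 := d43_2 F6475 D1821 (iv D1821)
def n1822 : Q := act 7 n1266
theorem D1822 : act 7 n1266 = n1822 := rfl
theorem F9088 : act 0 n1822 = n1438 := d6_1 D1822 (iv D1438) (iv F6476)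
theorem F9089 : act 2 n1822 = n1822 := d21_1 D1822 (iv D1822) F6477
theorem F9090 : act 3 n1822 = n1269 := d27_1 D1822 (iv D1269) (iv F6478)
theorem F9091 : act 4 n1822 = n1822 := d32_1 D1822 (iv D1822) F6479
theorem F9092 : act 6 n1822 = n1822 := d39_1 D1822 (iv D1822) (iv D1266) F4604 D1266
theorem F9093 : act 9 n1822 = n1822 := d43_2 F6480 D1822 (iv D1822)
def n1823 : Q := act 8 n1266
theorem D1823 : act 8 n1266 = n1823 := rfl
theorem F9094 : act 0 n1823 = n1439 := d7_1 D1823 (iv D1439) (iv F6476)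
theorem F9095 : act 2 n1823 = n1823 := d22_1 D1823 (iv D1823) F6477
theorem F9096 : act 4 n1823 = n1823 := d33_1 D1823 (iv D1823) F6479
theorem F9097 : act 6 n1823 = n1267 := d40_1 D1823 (iv D1267) D1266
def n1824 : Q := act 9 n1267
theorem D1824 : act 9 n1267 = n1824 := rfl
theorem F9098 : act 0 n1824 = n1440 := d8_1 D1824 (iv D1440) (iv F6481)
theorem F9099 : act 2 n1824 = n1824 := d23_1 D1824 (iv D1824) F6482
theorem F9100 : act 4 n1824 = n1824 := d34_1 D1824 (iv D1824) F6483
theorem F9101 : act 5 n1824 = n1268 := d38_1 D1824 (iv D1268) (iv F6484)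
theorem F9102 : act 7 n1824 = n1824 := d43_1 D1824 (iv D1824) F6485
theorem F9103 : act 8 n1824 = n1824 := d44_1 D1824 (iv D1824) (iv D1267) F4605 D1267
def n1825 : Q := act 7 n1270
theorem D1825 : act 7 n1270 = n1825 := rfl
theorem F9104 : act 0 n1825 = n1271 := d6_1 D1825 (iv D1271) (iv F6496)
theorem F9105 : act 1 n1825 = n1441 := d14_1 D1825 (iv D1441) (iv F6497)
theorem F9106 : act 3 n1825 = n1825 := d27_1 D1825 (iv D1825) F6498
theorem F9107 : act 5 n1825 = n1825 := d36_1 D1825 (iv D1825) F6499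
theorem F9108 : act 6 n1825 = n1825 := d39_1 D1825 (iv D1825) (iv D1270) F4622 D1270
theorem F9109 : act 9 n1825 = n1825 := d43_2 F6500 D1825 (iv D1825)
def n1826 : Q := act 3 n1272
theorem D1826 : act 3 n1272 = n1826 := rfl
theorem F9110 : act 0 n1826 = n1273 := d2_1 D1826 (iv D1273) (iv F6506)
theorem F9111 : act 1 n1826 = n1442 := d10_1 D1826 (iv D1442) (iv F6507)
theorem F9112 : act 6 n1826 = n1826 := d26_2 F6509 D1826 (iv D1826)
theorem F9113 : act 7 n1826 = n1278 := d27_2 (iv F6510) D1826 (iv D1278)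
theorem F9114 : act 9 n1826 = n1826 := d29_2 F6512 D1826 (iv D1826)
def n1827 : Q := act 5 n1272
theorem D1827 : act 5 n1272 = n1827 := rfl
theorem F9115 : act 0 n1827 = n1274 := d4_1 D1827 (iv D1274) (iv F6506)
theorem F9116 : act 1 n1827 = n1443 := d12_1 D1827 (iv D1443) (iv F6507)
theorem F9117 : act 2 n1827 = n1827 := d19_1 D1827 (iv D1827) F6508
theorem F9118 : act 4 n1827 = n1827 := d30_1 D1827 (iv D1827) (iv D1272) F4636 D1272
theorem F9119 : act 7 n1827 = n1279 := d36_2 (iv F6510) D1827 (iv D1279)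
theorem F9120 : act 8 n1827 = n1827 := d37_2 F6511 D1827 (iv D1827)
theorem F9121 : act 9 n1827 = n1827 := d38_2 F6512 D1827 (iv D1827)
def n1828 : Q := act 2 n1273
theorem D1828 : act 2 n1273 = n1828 := rfl
theorem F9122 : act 1 n1828 = n1828 := d9_1 D1828 (iv D1828) F6513 F4648 (iv F6513)
theorem F9123 : act 3 n1828 = n1828 := d17_2 D1273 D1828 (iv D1828) (iv D1273) F4642
theorem F9124 : act 6 n1828 = n1828 := d20_2 F6514 D1828 (iv D1828)
theorem F9125 : act 7 n1828 = n1280 := d21_2 (iv F6515) D1828 (iv D1280)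
theorem F9126 : act 9 n1828 = n1828 := d23_2 F6516 D1828 (iv D1828)
def n1829 : Q := act 5 n1273
theorem D1829 : act 5 n1273 = n1829 := rfl
theorem F9127 : act 1 n1829 = n1275 := d12_1 D1829 (iv D1275) (iv F6513)
theorem F9128 : act 3 n1829 = n1274 := d25_1 D1829 (iv D1274) D1273
theorem F9129 : act 7 n1829 = n1281 := d36_2 (iv F6515) D1829 (iv D1281)
theorem F9130 : act 9 n1829 = n1829 := d38_2 F6516 D1829 (iv D1829)
def n1830 : Q := act 8 n1273
theorem D1830 : act 8 n1273 = n1830 := rfl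
theorem F9131 : act 1 n1830 = n1276 := d15_1 D1830 (iv D1276) (iv F6513)
theorem F9132 : act 3 n1830 = n1830 := d28_1 D1830 (iv D1830) (iv D1273) F4645 D1273
theorem F9133 : act 6 n1830 = n1830 := d40_1 D1830 (iv D1830) F6514
theorem F9134 : act 7 n1830 = n1282 := d42_1 D1830 (iv D1282) (iv F6515)
def n1831 : Q := act 6 n1274
theorem D1831 : act 6 n1274 = n1831 := rfl
theorem F9135 : act 1 n1831 = n1277 := d13_1 D1831 (iv D1277) (iv F6517)
theorem F9136 : act 2 n1831 = n1831 := d20_1 D1831 (iv D1831) F6518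
theorem F9137 : act 4 n1831 = n1831 := d31_1 D1831 (iv D1831) F6519
theorem F9138 : act 5 n1831 = n1831 := d35_1 D1831 (iv D1831) (iv D1274) F4643 D1274
theorem F9139 : act 7 n1831 = n1831 := d39_2 (iv F6520) D1831 (iv D1831) F6520 F4678
theorem F9140 : act 8 n1831 = n1831 := d40_2 F6521 D1831 (iv D1831)
theorem F9141 : act 9 n1831 = n1831 := d41_2 F6522 D1831 (iv D1831)
def n1832 : Q := act 4 n1275
theorem D1832 : act 4 n1275 = n1832 := rfl
theorem F9142 : act 0 n1832 = n1448 := d3_1 D1832 (iv D1448) (iv F6523)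
theorem F9143 : act 2 n1832 = n1832 := d18_1 D1832 (iv D1832) F6524
theorem F9144 : act 3 n1832 = n1832 := d24_1 D1832 (iv D1832) F6525 F4654 (iv F6525)
theorem F9145 : act 7 n1832 = n1283 := d32_2 (iv F6526) D1832 (iv D1283)
theorem F9146 : act 9 n1832 = n1832 := d34_2 F6527 D1832 (iv D1832)
def n1833 : Q := act 6 n1275
theorem D1833 : act 6 n1275 = n1833 := rfl
theorem F9147 : act 0 n1833 = n1449 := d5_1 D1833 (iv D1449) (iv F6523)
theorem F9148 : act 2 n1833 = n1833 := d20_1 D1833 (iv D1833) F6524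
theorem F9149 : act 3 n1833 = n1277 := d26_1 D1833 (iv D1277) (iv F6525)
theorem F9150 : act 5 n1833 = n1833 := d35_1 D1833 (iv D1833) (iv D1275) F4649 D1275
theorem F9151 : act 7 n1833 = n1833 := d39_2 (iv F6526) D1833 (iv D1833) F6526 F4684
theorem F9152 : act 9 n1833 = n1833 := d41_2 F6527 D1833 (iv D1833)
def n1834 : Q := act 8 n1275
theorem D1834 : act 8 n1275 = n1834 := rfl
theorem F9153 : act 0 n1834 = n1450 := d7_1 D1834 (iv D1450) (iv F6523)
theorem F9154 : act 2 n1834 = n1834 := d22_1 D1834 (iv D1834) F6524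
theorem F9155 : act 3 n1834 = n1834 := d28_1 D1834 (iv D1834) F6525 F4656 (iv F6525)
theorem F9156 : act 5 n1834 = n1276 := d37_1 D1834 (iv D1276) D1275
theorem F9157 : act 7 n1834 = n1284 := d42_1 D1834 (iv D1284) (iv F6526)
def n1835 : Q := act 9 n1276
theorem D1835 : act 9 n1276 = n1835 := rfl
theorem F9159 : act 2 n1835 = n1835 := d23_1 D1835 (iv D1835) F6529
theorem F9160 : act 3 n1835 = n1835 := d29_1 D1835 (iv D1835) F6530
theorem F9161 : act 6 n1835 = n1835 := d41_1 D1835 (iv D1835) F6531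
theorem F9162 : act 7 n1835 = n1285 := d43_1 D1835 (iv D1285) (iv F6532)
theorem F9163 : act 8 n1835 = n1835 := d44_1 D1835 (iv D1835) (iv D1276) F4651 D1276
def n1836 : Q := act 2 n1278
theorem D1836 : act 2 n1278 = n1836 := rfl
theorem F9164 : act 0 n1836 = n1280 := d1_1 D1836 (iv D1280) (iv F6540)
theorem F9165 : act 3 n1836 = n1836 := d17_2 D1278 D1836 (iv D1836) (iv D1278) F4668
theorem F9166 : act 6 n1836 = n1286 := d20_2 (iv F6542) D1836 (iv D1286)
theorem F9167 : act 9 n1836 = n1836 := d23_2 F6543 D1836 (iv D1836)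
def n1837 : Q := act 5 n1278
theorem D1837 : act 5 n1278 = n1837 := rfl
theorem F9168 : act 0 n1837 = n1281 := d4_1 D1837 (iv D1281) (iv F6540)
theorem F9169 : act 1 n1837 = n1453 := d12_1 D1837 (iv D1453) (iv F6541)
theorem F9170 : act 3 n1837 = n1279 := d25_1 D1837 (iv D1279) D1278
theorem F9171 : act 6 n1837 = n1837 := d35_2 (iv F6542) D1837 (iv D1837) F6542 F4692
theorem F9172 : act 9 n1837 = n1837 := d38_2 F6543 D1837 (iv D1837)
def n1838 : Q := act 8 n1278
theorem D1838 : act 8 n1278 = n1838 := rfl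
theorem F9176 : act 6 n1838 = n1287 := d40_1 D1838 (iv D1287) (iv F6542)
def n1839 : Q := act 5 n1280
theorem D1839 : act 5 n1280 = n1839 := rfl
theorem F9177 : act 1 n1839 = n1839 := d12_1 D1839 (iv D1839) F6551
theorem F9178 : act 2 n1839 = n1281 := d19_1 D1839 (iv D1281) D1280
theorem F9179 : act 3 n1839 = n1839 := d25_1 D1839 (iv D1839) F6552
theorem F9180 : act 6 n1839 = n1839 := d35_2 (iv F6553) D1839 (iv D1839) F6553 F4697
theorem F9181 : act 9 n1839 = n1839 := d38_2 F6554 D1839 (iv D1839)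
def n1840 : Q := act 8 n1280
theorem D1840 : act 8 n1280 = n1840 := rfl
theorem F9182 : act 1 n1840 = n1840 := d15_1 D1840 (iv D1840) F6551
theorem F9183 : act 2 n1840 = n1282 := d22_1 D1840 (iv D1282) D1280
theorem F9184 : act 6 n1840 = n1288 := d40_1 D1840 (iv D1288) (iv F6553)
def n1841 : Q := act 4 n1281
theorem D1841 : act 4 n1281 = n1841 := rfl
theorem F9185 : act 1 n1841 = n1283 := d11_1 D1841 (iv D1283) (iv F6555)
theorem F9186 : act 3 n1841 = n1841 := d24_1 D1841 (iv D1841) F6556 F4677 (iv F6556)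
theorem F9187 : act 6 n1841 = n1841 := d31_2 F6557 D1841 (iv D1841)
theorem F9188 : act 9 n1841 = n1841 := d34_2 F6558 D1841 (iv D1841)
def n1842 : Q := act 8 n1281
theorem D1842 : act 8 n1281 = n1842 := rfl
theorem F9189 : act 1 n1842 = n1284 := d15_1 D1842 (iv D1284) (iv F6555)
theorem F9190 : act 3 n1842 = n1842 := d28_1 D1842 (iv D1842) F6556 F4679 (iv F6556)
theorem F9191 : act 5 n1842 = n1282 := d37_1 D1842 (iv D1282) D1281
theorem F9192 : act 6 n1842 = n1842 := d40_1 D1842 (iv D1842) F6557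
def n1843 : Q := act 9 n1282
theorem D1843 : act 9 n1282 = n1843 := rfl
theorem F9193 : act 1 n1843 = n1285 := d16_1 D1843 (iv D1285) (iv F6559)
theorem F9195 : act 6 n1843 = n1289 := d41_1 D1843 (iv D1289) (iv F6561)
def n1844 : Q := act 8 n1283
theorem D1844 : act 8 n1283 = n1844 := rfl
theorem F9197 : act 0 n1844 = n1460 := d7_1 D1844 (iv D1460) (iv F6562)
theorem F9198 : act 2 n1844 = n1844 := d22_1 D1844 (iv D1844) F6563
theorem F9199 : act 4 n1844 = n1284 := d33_1 D1844 (iv D1284) D1283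
theorem F9200 : act 6 n1844 = n1844 := d40_1 D1844 (iv D1844) F6565
def n1845 : Q := act 9 n1284
theorem D1845 : act 9 n1284 = n1845 := rfl
theorem F9202 : act 2 n1845 = n1845 := d23_1 D1845 (iv D1845) F6568
theorem F9203 : act 3 n1845 = n1845 := d29_1 D1845 (iv D1845) F6569
theorem F9204 : act 5 n1845 = n1285 := d38_1 D1845 (iv D1285) (iv F6570)
theorem F9205 : act 6 n1845 = n1845 := d41_1 D1845 (iv D1845) F6571
theorem F9206 : act 8 n1845 = n1845 := d44_1 D1845 (iv D1845) (iv D1284) F4685 D1284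
def n1847 : Q := act 8 n1286
theorem D1847 : act 8 n1286 = n1847 := rfl
def n1848 : Q := act 9 n1287
theorem D1848 : act 9 n1287 = n1848 := rfl
def n1849 : Q := act 3 n1288
theorem D1849 : act 3 n1288 = n1849 := rfl
theorem F9223 : act 1 n1849 = n1849 := d10_1 D1849 (iv D1849) F6587
theorem F9224 : act 2 n1849 = n1849 := d17_1 D1849 (iv D1849) F6588 F4701 (iv F6588)
theorem F9225 : act 5 n1849 = n1849 := d25_2 F6589 D1849 (iv D1849)
theorem F9226 : act 7 n1849 = n1849 := d27_2 F6590 D1849 (iv D1849)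
theorem F9227 : act 8 n1849 = n1849 := d28_2 D1288 D1849 (iv D1849) (iv D1288) F4696
def n1850 : Q := act 9 n1288
theorem D1850 : act 9 n1288 = n1850 := rfl
def n1851 : Q := act 1 n1290
theorem D1851 : act 1 n1290 = n1851 := rfl
theorem F9233 : act 0 n1851 = n1851 := d0_1 D1851 (iv D1851) (iv F8444) F8445 F8444
theorem F9234 : act 2 n1851 = n1851 := d9_2 D1290 D1851 (iv D1851) (iv D1290) F4710
theorem F9235 : act 3 n1851 = n1851 := d10_2 F6596 D1851 (iv D1851)
theorem F9236 : act 5 n1851 = n1851 := d12_2 F6597 D1851 (iv D1851)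
theorem F9237 : act 6 n1851 = n1295 := d13_2 (iv F6598) D1851 (iv D1295)
theorem F9238 : act 7 n1851 = n1851 := d14_2 F6599 D1851 (iv D1851)
theorem F9239 : act 8 n1851 = n1851 := d15_2 F6600 D1851 (iv D1851)
def n1852 : Q := act 4 n1290
theorem D1852 : act 4 n1290 = n1852 := rfl
theorem F9240 : act 2 n1852 = n1291 := d18_1 D1852 (iv D1291) D1290
theorem F9241 : act 6 n1852 = n1296 := d31_2 (iv F6598) D1852 (iv D1296)
theorem F9242 : act 7 n1852 = n1852 := d32_2 F6599 D1852 (iv D1852)
theorem F9243 : act 8 n1852 = n1852 := d33_2 F6600 D1852 (iv D1852)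
def n1853 : Q := act 9 n1290
theorem D1853 : act 9 n1290 = n1853 := rfl
theorem F9244 : act 2 n1853 = n1292 := d23_1 D1853 (iv D1292) D1290
theorem F9245 : act 3 n1853 = n1853 := d29_1 D1853 (iv D1853) F6596
theorem F9246 : act 5 n1853 = n1853 := d38_1 D1853 (iv D1853) F6597
theorem F9247 : act 6 n1853 = n1297 := d41_1 D1853 (iv D1297) (iv F6598)
theorem F9248 : act 7 n1853 = n1853 := d43_1 D1853 (iv D1853) F6599
def n1854 : Q := act 5 n1291
theorem D1854 : act 5 n1291 = n1854 := rfl
theorem F9249 : act 1 n1854 = n1854 := d12_1 D1854 (iv D1854) F6601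
theorem F9250 : act 3 n1854 = n1854 := d25_1 D1854 (iv D1854) F6602
theorem F9251 : act 4 n1854 = n1854 := d30_1 D1854 (iv D1854) (iv D1291) F4711 D1291
theorem F9252 : act 6 n1854 = n1854 := d35_2 (iv F6603) D1854 (iv D1854) F6603 F4733
theorem F9253 : act 7 n1854 = n1854 := d36_2 F6604 D1854 (iv D1854)
theorem F9254 : act 8 n1854 = n1854 := d37_2 F6605 D1854 (iv D1854)
def n1855 : Q := act 9 n1291
theorem D1855 : act 9 n1291 = n1855 := rfl
theorem F9255 : act 1 n1855 = n1855 := d16_1 D1855 (iv D1855) F6601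
theorem F9256 : act 3 n1855 = n1855 := d29_1 D1855 (iv D1855) F6602
theorem F9257 : act 4 n1855 = n1292 := d34_1 D1855 (iv D1292) D1291
theorem F9258 : act 6 n1855 = n1298 := d41_1 D1855 (iv D1298) (iv F6603)
theorem F9259 : act 7 n1855 = n1855 := d43_1 D1855 (iv D1855) F6604
def n1856 : Q := act 8 n1292
theorem D1856 : act 8 n1292 = n1856 := rfl
theorem F9260 : act 1 n1856 = n1856 := d15_1 D1856 (iv D1856) F6606
theorem F9261 : act 5 n1856 = n1856 := d37_1 D1856 (iv D1856) F6608
theorem F9262 : act 6 n1856 = n1299 := d40_1 D1856 (iv D1299) (iv F6609)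
theorem F9263 : act 7 n1856 = n1856 := d42_1 D1856 (iv D1856) F6610
theorem F9264 : act 9 n1856 = n1856 := d44_2 D1292 D1856 (iv D1856) (iv D1292) F4714
def n1857 : Q := act 3 n1293
theorem D1857 : act 3 n1293 = n1857 := rfl
theorem F9265 : act 1 n1857 = n1857 := d10_1 D1857 (iv D1857) F6611
theorem F9266 : act 5 n1857 = n1857 := d25_2 F6614 D1857 (iv D1857)
theorem F9267 : act 6 n1857 = n1300 := d26_2 (iv F6615) D1857 (iv D1300)
theorem F9268 : act 7 n1857 = n1857 := d27_2 F6616 D1857 (iv D1857)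
theorem F9269 : act 9 n1857 = n1294 := d29_2 (iv F6617) D1857 (iv D1294)
def n1858 : Q := act 2 n1294
theorem D1858 : act 2 n1294 = n1858 := rfl
theorem F9270 : act 3 n1858 = n1858 := d17_2 D1294 D1858 (iv D1858) (iv D1294) F4722
theorem F9271 : act 5 n1858 = n1858 := d19_2 F6619 D1858 (iv D1858)
theorem F9272 : act 6 n1858 = n1301 := d20_2 (iv F6620) D1858 (iv D1301)
theorem F9273 : act 7 n1858 = n1858 := d21_2 F6621 D1858 (iv D1858)
theorem F9274 : act 8 n1858 = n1858 := d22_2 F6622 D1858 (iv D1858)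
def n1859 : Q := act 4 n1294
theorem D1859 : act 4 n1294 = n1859 := rfl
theorem F9275 : act 1 n1859 = n1859 := d11_1 D1859 (iv D1859) F6618
theorem F9276 : act 3 n1859 = n1859 := d24_1 D1859 (iv D1859) (iv D1294) F4723 D1294
theorem F9277 : act 6 n1859 = n1302 := d31_2 (iv F6620) D1859 (iv D1302)
theorem F9278 : act 7 n1859 = n1859 := d32_2 F6621 D1859 (iv D1859)
theorem F9279 : act 8 n1859 = n1859 := d33_2 F6622 D1859 (iv D1859)
def n1860 : Q := act 4 n1295
theorem D1860 : act 4 n1295 = n1860 := rfl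
theorem F9280 : act 0 n1860 = n1860 := d3_1 D1860 (iv D1860) F6623
theorem F9281 : act 1 n1860 = n1296 := d11_1 D1860 (iv D1296) D1295
theorem F9282 : act 2 n1860 = n1860 := d18_1 D1860 (iv D1860) F6624
theorem F9283 : act 5 n1860 = n1860 := d30_2 (iv F6626) D1860 (iv D1860) F6626 F4788
theorem F9284 : act 7 n1860 = n1303 := d32_2 (iv F6627) D1860 (iv D1303)
theorem F9285 : act 8 n1860 = n1860 := d33_2 F6628 D1860 (iv D1860)
def n1861 : Q := act 9 n1295
theorem D1861 : act 9 n1295 = n1861 := rfl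
theorem F9287 : act 1 n1861 = n1297 := d16_1 D1861 (iv D1297) D1295
theorem F9290 : act 5 n1861 = n1315 := d38_1 D1861 (iv D1315) (iv F6626)
def n1862 : Q := act 3 n1296
theorem D1862 : act 3 n1296 = n1862 := rfl
theorem F9292 : act 2 n1862 = n1862 := d17_1 D1862 (iv D1862) F6629 F4732 (iv F6629)
theorem F9293 : act 4 n1862 = n1862 := d24_2 D1296 D1862 (iv D1862) (iv D1296) F4727
theorem F9294 : act 5 n1862 = n1862 := d25_2 F6630 D1862 (iv D1862)
theorem F9295 : act 7 n1862 = n1305 := d27_2 (iv F6631) D1862 (iv D1305)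
def n1863 : Q := act 9 n1296
theorem D1863 : act 9 n1296 = n1863 := rfl
theorem F9296 : act 2 n1863 = n1298 := d23_1 D1863 (iv D1298) (iv F6629)
theorem F9297 : act 4 n1863 = n1297 := d34_1 D1863 (iv D1297) D1296
theorem F9298 : act 5 n1863 = n1863 := d38_1 D1863 (iv D1863) F6630
theorem F9299 : act 7 n1863 = n1306 := d43_1 D1863 (iv D1306) (iv F6631)
def n1864 : Q := act 8 n1297
theorem D1864 : act 8 n1297 = n1864 := rfl
theorem F9300 : act 2 n1864 = n1299 := d22_1 D1864 (iv D1299) (iv F6633)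
theorem F9301 : act 5 n1864 = n1316 := d37_1 D1864 (iv D1316) (iv F6635)
def n1865 : Q := act 8 n1298
theorem D1865 : act 8 n1298 = n1865 := rfl
theorem F9304 : act 1 n1865 = n1865 := d15_1 D1865 (iv D1865) F6637
theorem F9305 : act 4 n1865 = n1299 := d33_1 D1865 (iv D1299) (iv F6639)
theorem F9306 : act 5 n1865 = n1865 := d37_1 D1865 (iv D1865) F6640
theorem F9307 : act 7 n1865 = n1308 := d42_1 D1865 (iv D1308) (iv F6641)
theorem F9308 : act 9 n1865 = n1865 := d44_2 D1298 D1865 (iv D1865) (iv D1298) F4735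
def n1866 : Q := act 3 n1299
theorem D1866 : act 3 n1299 = n1866 := rfl
theorem F9309 : act 1 n1866 = n1866 := d10_1 D1866 (iv D1866) F6642
theorem F9310 : act 5 n1866 = n1317 := d25_2 (iv F6643) D1866 (iv D1317)
theorem F9311 : act 7 n1866 = n1309 := d27_2 (iv F6644) D1866 (iv D1309)
theorem F9312 : act 8 n1866 = n1300 := d28_2 D1299 D1866 (iv D1300) (iv D905) (iv F4737)
theorem F9313 : act 9 n1866 = n1866 := d29_2 F6645 D1866 (iv D1866)
def n1867 : Q := act 2 n1300
theorem D1867 : act 2 n1300 = n1867 := rfl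
theorem F9314 : act 3 n1867 = n1867 := d17_2 D1300 D1867 (iv D1867) (iv D1300) F4741
theorem F9315 : act 5 n1867 = n1318 := d19_2 (iv F6647) D1867 (iv D1318)
theorem F9316 : act 7 n1867 = n1310 := d21_2 (iv F6648) D1867 (iv D1310)
theorem F9317 : act 9 n1867 = n1301 := d23_2 (iv F6649) D1867 (iv D1301)
def n1868 : Q := act 4 n1300
theorem D1868 : act 4 n1300 = n1868 := rfl
theorem F9318 : act 1 n1868 = n1868 := d11_1 D1868 (iv D1868) F6646
theorem F9319 : act 3 n1868 = n1868 := d24_1 D1868 (iv D1868) (iv D1300) F4742 D1300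
theorem F9320 : act 7 n1868 = n1311 := d32_2 (iv F6648) D1868 (iv D1311)
theorem F9321 : act 9 n1868 = n1302 := d34_2 (iv F6649) D1868 (iv D1302)
def n1869 : Q := act 1 n1301
theorem D1869 : act 1 n1301 = n1869 := rfl
theorem F9322 : act 2 n1869 = n1869 := d9_2 D1301 D1869 (iv D1869) (iv D1301) F4746
theorem F9323 : act 3 n1869 = n1869 := d10_2 F6650 D1869 (iv D1869)
theorem F9324 : act 5 n1869 = n1320 := d12_2 (iv F6651) D1869 (iv D1320)
theorem F9325 : act 7 n1869 = n1312 := d14_2 (iv F6652) D1869 (iv D1312)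
theorem F9326 : act 8 n1869 = n1869 := d15_2 F6653 D1869 (iv D1869)
def n1870 : Q := act 4 n1301
theorem D1870 : act 4 n1301 = n1870 := rfl
theorem F9327 : act 2 n1870 = n1302 := d18_1 D1870 (iv D1302) D1301
theorem F9328 : act 7 n1870 = n1313 := d32_2 (iv F6652) D1870 (iv D1313)
theorem F9329 : act 8 n1870 = n1870 := d33_2 F6653 D1870 (iv D1870)
def n1871 : Q := act 5 n1302
theorem D1871 : act 5 n1302 = n1871 := rfl
theorem F9330 : act 1 n1871 = n1871 := d12_1 D1871 (iv D1871) F6654
theorem F9331 : act 3 n1871 = n1871 := d25_1 D1871 (iv D1871) F6655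
theorem F9332 : act 4 n1871 = n1322 := d30_1 D1871 (iv D1322) (iv D920) (iv F4747) D1302
theorem F9333 : act 7 n1871 = n1314 := d36_2 (iv F6656) D1871 (iv D1314)
theorem F9334 : act 8 n1871 = n1871 := d37_2 F6657 D1871 (iv D1871)
def n1872 : Q := act 3 n1303
theorem D1872 : act 3 n1303 = n1872 := rfl
theorem F9335 : act 0 n1872 = n1872 := d2_1 D1872 (iv D1872) F6658
theorem F9336 : act 1 n1872 = n1305 := d10_1 D1872 (iv D1305) (iv F6659)
theorem F9337 : act 4 n1872 = n1872 := d24_2 D1303 D1872 (iv D1872) (iv D1303) F4752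
theorem F9338 : act 5 n1872 = n1872 := d25_2 F6661 D1872 (iv D1872)
theorem F9339 : act 6 n1872 = n1872 := d26_2 F6662 D1872 (iv D1872)
def n1873 : Q := act 9 n1303
theorem D1873 : act 9 n1303 = n1873 := rfl
theorem F9341 : act 1 n1873 = n1306 := d16_1 D1873 (iv D1306) (iv F6659)
theorem F9343 : act 4 n1873 = n1304 := d34_1 D1873 (iv D1304) D1303
def n1874 : Q := act 8 n1304
theorem D1874 : act 8 n1304 = n1874 := rfl
theorem F9349 : act 5 n1874 = n1323 := d37_1 D1874 (iv D1323) (iv F6668)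
def n1875 : Q := act 8 n1305
theorem D1875 : act 8 n1305 = n1875 := rfl
theorem F9352 : act 2 n1875 = n1875 := d22_1 D1875 (iv D1875) F6670
theorem F9353 : act 3 n1875 = n1875 := d28_1 D1875 (iv D1875) (iv D1305) F4759 D1305
theorem F9354 : act 4 n1875 = n1875 := d33_1 D1875 (iv D1875) F6671
theorem F9355 : act 5 n1875 = n1875 := d37_1 D1875 (iv D1875) F6672
theorem F9356 : act 6 n1875 = n1875 := d40_1 D1875 (iv D1875) F6673
def n1876 : Q := act 9 n1305
theorem D1876 : act 9 n1305 = n1876 := rfl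
theorem F9357 : act 2 n1876 = n1876 := d23_1 D1876 (iv D1876) F6670
theorem F9358 : act 3 n1876 = n1306 := d29_1 D1876 (iv D1306) D1305
theorem F9359 : act 4 n1876 = n1876 := d34_1 D1876 (iv D1876) F6671
theorem F9360 : act 5 n1876 = n1876 := d38_1 D1876 (iv D1876) F6672
theorem F9361 : act 6 n1876 = n1876 := d41_1 D1876 (iv D1876) F6673
def n1877 : Q := act 8 n1306
theorem D1877 : act 8 n1306 = n1877 := rfl
theorem F9362 : act 2 n1877 = n1308 := d22_1 D1877 (iv D1308) (iv F6674)
theorem F9363 : act 4 n1877 = n1307 := d33_1 D1877 (iv D1307) (iv F6675)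
def n1878 : Q := act 3 n1307
theorem D1878 : act 3 n1307 = n1878 := rfl
theorem F9367 : act 5 n1878 = n1324 := d25_2 (iv F6679) D1878 (iv D1324)
def n1879 : Q := act 3 n1308
theorem D1879 : act 3 n1308 = n1879 := rfl
theorem F9371 : act 1 n1879 = n1879 := d10_1 D1879 (iv D1879) F6682
theorem F9372 : act 5 n1879 = n1879 := d25_2 F6684 D1879 (iv D1879)
theorem F9373 : act 6 n1879 = n1879 := d26_2 F6685 D1879 (iv D1879)
theorem F9374 : act 8 n1879 = n1879 := d28_2 D1308 D1879 (iv D1879) (iv D1308) F4765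
theorem F9375 : act 9 n1879 = n1879 := d29_2 F6686 D1879 (iv D1879)
def n1880 : Q := act 2 n1309
theorem D1880 : act 2 n1309 = n1880 := rfl
theorem F9376 : act 5 n1880 = n1325 := d19_2 (iv F6688) D1880 (iv D1325)
theorem F9378 : act 8 n1880 = n1310 := d22_2 (iv F6690) D1880 (iv D1310)
def n1881 : Q := act 4 n1309
theorem D1881 : act 4 n1309 = n1881 := rfl
theorem F9380 : act 1 n1881 = n1881 := d11_1 D1881 (iv D1881) F6687
theorem F9381 : act 6 n1881 = n1881 := d31_2 F6689 D1881 (iv D1881)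
theorem F9382 : act 8 n1881 = n1311 := d33_2 (iv F6690) D1881 (iv D1311)
theorem F9383 : act 9 n1881 = n1881 := d34_2 F6691 D1881 (iv D1881)
def n1882 : Q := act 1 n1310
theorem D1882 : act 1 n1310 = n1882 := rfl
theorem F9386 : act 5 n1882 = n1327 := d12_2 (iv F6693) D1882 (iv D1327)
theorem F9388 : act 9 n1882 = n1312 := d16_2 (iv F6695) D1882 (iv D1312)
def n1883 : Q := act 4 n1310
theorem D1883 : act 4 n1310 = n1883 := rfl
theorem F9389 : act 2 n1883 = n1311 := d18_1 D1883 (iv D1311) D1310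
theorem F9390 : act 6 n1883 = n1883 := d31_2 F6694 D1883 (iv D1883)
theorem F9391 : act 9 n1883 = n1313 := d34_2 (iv F6695) D1883 (iv D1313)
def n1884 : Q := act 5 n1311
theorem D1884 : act 5 n1311 = n1884 := rfl
theorem F9392 : act 1 n1884 = n1884 := d12_1 D1884 (iv D1884) F6696
theorem F9393 : act 3 n1884 = n1884 := d25_1 D1884 (iv D1884) F6697
theorem F9394 : act 4 n1884 = n1329 := d30_1 D1884 (iv D1329) (iv D925) (iv F4774) D1311
theorem F9395 : act 9 n1884 = n1314 := d38_2 (iv F6699) D1884 (iv D1314)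
def n1885 : Q := act 0 n1312
theorem D1885 : act 0 n1312 = n1885 := rfl
theorem F9398 : act 5 n1885 = n1330 := d4_2 (iv F6702) D1885 (iv D1330)
def n1886 : Q := act 4 n1312
theorem D1886 : act 4 n1312 = n1886 := rfl
theorem F9401 : act 1 n1886 = n1313 := d11_1 D1886 (iv D1313) D1312
theorem F9402 : act 2 n1886 = n1886 := d18_1 D1886 (iv D1886) F6700
theorem F9403 : act 6 n1886 = n1886 := d31_2 F6703 D1886 (iv D1886)
theorem F9404 : act 8 n1886 = n1886 := d33_2 F6704 D1886 (iv D1886)
def n1887 : Q := act 3 n1313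
theorem D1887 : act 3 n1313 = n1887 := rfl
theorem F9405 : act 2 n1887 = n1887 := d17_1 D1887 (iv D1887) F6705 F4782 (iv F6705)
theorem F9406 : act 4 n1887 = n1887 := d24_2 D1313 D1887 (iv D1887) (iv D1313) F4777
theorem F9407 : act 6 n1887 = n1887 := d26_2 F6706 D1887 (iv D1887)
def n1888 : Q := act 5 n1313
theorem D1888 : act 5 n1313 = n1888 := rfl
theorem F9408 : act 2 n1888 = n1314 := d19_1 D1888 (iv D1314) (iv F6705)
theorem F9409 : act 4 n1888 = n1333 := d30_1 D1888 (iv D1333) (iv D927) (iv F4778) D1313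
theorem F9410 : act 8 n1888 = n1888 := d37_2 F6707 D1888 (iv D1888)
def n1889 : Q := act 6 n1314
theorem D1889 : act 6 n1314 = n1889 := rfl
theorem F9411 : act 1 n1889 = n1889 := d13_1 D1889 (iv D1889) F6708
theorem F9412 : act 3 n1889 = n1889 := d26_1 D1889 (iv D1889) F6709
theorem F9413 : act 4 n1889 = n1334 := d31_1 D1889 (iv D1334) (iv F6710)
theorem F9414 : act 5 n1889 = n1889 := d35_1 D1889 (iv D1889) (iv D1314) F4783 D1314
theorem F9415 : act 8 n1889 = n1889 := d40_2 F6711 D1889 (iv D1889)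
def n1890 : Q := act 8 n1315
theorem D1890 : act 8 n1315 = n1890 := rfl
theorem F9417 : act 1 n1890 = n1316 := d15_1 D1890 (iv D1316) (iv F6713)
def n1891 : Q := act 3 n1316
theorem D1891 : act 3 n1316 = n1891 := rfl
theorem F9424 : act 7 n1891 = n1324 := d27_2 (iv F6722) D1891 (iv D1324)
def n1892 : Q := act 2 n1317
theorem D1892 : act 2 n1317 = n1892 := rfl
theorem F9428 : act 7 n1892 = n1325 := d21_2 (iv F6726) D1892 (iv D1325)
theorem F9429 : act 8 n1892 = n1318 := d22_2 (iv F6727) D1892 (iv D1318)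
def n1893 : Q := act 4 n1317
theorem D1893 : act 4 n1317 = n1893 := rfl
theorem F9431 : act 1 n1893 = n1893 := d11_1 D1893 (iv D1893) F6724
theorem F9432 : act 3 n1893 = n1893 := d24_1 D1893 (iv D1893) (iv D1317) F4798 D1317
theorem F9433 : act 6 n1893 = n1893 := d31_2 F6725 D1893 (iv D1893)
theorem F9434 : act 7 n1893 = n1326 := d32_2 (iv F6726) D1893 (iv D1326)
theorem F9435 : act 8 n1893 = n1319 := d33_2 (iv F6727) D1893 (iv D1319)
theorem F9436 : act 9 n1893 = n1893 := d34_2 F6728 D1893 (iv D1893)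
def n1894 : Q := act 1 n1318
theorem D1894 : act 1 n1318 = n1894 := rfl
theorem F9440 : act 7 n1894 = n1327 := d14_2 (iv F6731) D1894 (iv D1327)
theorem F9441 : act 9 n1894 = n1320 := d16_2 (iv F6732) D1894 (iv D1320)
def n1895 : Q := act 4 n1318
theorem D1895 : act 4 n1318 = n1895 := rfl
theorem F9442 : act 2 n1895 = n1319 := d18_1 D1895 (iv D1319) D1318
theorem F9443 : act 6 n1895 = n1895 := d31_2 F6730 D1895 (iv D1895)
theorem F9444 : act 7 n1895 = n1328 := d32_2 (iv F6731) D1895 (iv D1328)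
theorem F9445 : act 9 n1895 = n1321 := d34_2 (iv F6732) D1895 (iv D1321)
def n1896 : Q := act 5 n1319
theorem D1896 : act 5 n1319 = n1896 := rfl
theorem F9446 : act 1 n1896 = n1896 := d12_1 D1896 (iv D1896) F6733
theorem F9447 : act 3 n1896 = n1355 := d25_1 D1896 (iv D1355) (iv F6734)
theorem F9448 : act 7 n1896 = n1329 := d36_2 (iv F6736) D1896 (iv D1329)
theorem F9449 : act 9 n1896 = n1322 := d38_2 (iv F6737) D1896 (iv D1322)
def n1897 : Q := act 0 n1320
theorem D1897 : act 0 n1320 = n1897 := rfl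
theorem F9453 : act 7 n1897 = n1330 := d6_2 (iv F6741) D1897 (iv D1330)
def n1898 : Q := act 4 n1320
theorem D1898 : act 4 n1320 = n1898 := rfl
theorem F9455 : act 1 n1898 = n1321 := d11_1 D1898 (iv D1321) D1320
theorem F9456 : act 2 n1898 = n1898 := d18_1 D1898 (iv D1898) F6738
theorem F9457 : act 6 n1898 = n1898 := d31_2 F6740 D1898 (iv D1898)
theorem F9458 : act 7 n1898 = n1331 := d32_2 (iv F6741) D1898 (iv D1331)
theorem F9459 : act 8 n1898 = n1898 := d33_2 F6742 D1898 (iv D1898)
def n1899 : Q := act 3 n1321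
theorem D1899 : act 3 n1321 = n1899 := rfl
theorem F9460 : act 2 n1899 = n1358 := d17_1 D1899 (iv D1358) F4916 (iv F4811) (iv F6743)
theorem F9461 : act 4 n1899 = n1899 := d24_2 D1321 D1899 (iv D1899) (iv D1321) F4806
theorem F9462 : act 6 n1899 = n1899 := d26_2 F6744 D1899 (iv D1899)
theorem F9463 : act 7 n1899 = n1332 := d27_2 (iv F6745) D1899 (iv D1332)
def n1900 : Q := act 5 n1321
theorem D1900 : act 5 n1321 = n1900 := rfl
theorem F9464 : act 2 n1900 = n1322 := d19_1 D1900 (iv D1322) (iv F6743)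
theorem F9465 : act 7 n1900 = n1333 := d36_2 (iv F6745) D1900 (iv D1333)
theorem F9466 : act 8 n1900 = n1900 := d37_2 F6746 D1900 (iv D1900)
def n1901 : Q := act 6 n1322
theorem D1901 : act 6 n1322 = n1901 := rfl
theorem F9467 : act 1 n1901 = n1901 := d13_1 D1901 (iv D1901) F6747
theorem F9468 : act 3 n1901 = n1360 := d26_1 D1901 (iv D1360) (iv F6748)
theorem F9469 : act 5 n1901 = n1901 := d35_1 D1901 (iv D1901) (iv D1322) F4812 D1322
theorem F9470 : act 8 n1901 = n1901 := d40_2 F6750 D1901 (iv D1901)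
def n1902 : Q := act 3 n1323
theorem D1902 : act 3 n1323 = n1902 := rfl
theorem F9472 : act 1 n1902 = n1324 := d10_1 D1902 (iv D1324) (iv F6752)
def n1903 : Q := act 2 n1324
theorem D1903 : act 2 n1324 = n1903 := rfl
theorem F9476 : act 3 n1903 = n1325 := d17_2 D1324 D1903 (iv D1325) (iv D923) (iv F4821)
theorem F9477 : act 6 n1903 = n1336 := d20_2 (iv F6757) D1903 (iv D1336)
def n1904 : Q := act 4 n1324
theorem D1904 : act 4 n1324 = n1904 := rfl
def n1905 : Q := act 1 n1325
theorem D1905 : act 1 n1325 = n1905 := rfl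
theorem F9485 : act 6 n1905 = n1338 := d13_2 (iv F6760) D1905 (iv D1338)
theorem F9486 : act 8 n1905 = n1327 := d15_2 (iv F6761) D1905 (iv D1327)
def n1906 : Q := act 4 n1325
theorem D1906 : act 4 n1325 = n1906 := rfl
theorem F9488 : act 2 n1906 = n1326 := d18_1 D1906 (iv D1326) D1325
theorem F9489 : act 6 n1906 = n1339 := d31_2 (iv F6760) D1906 (iv D1339)
theorem F9490 : act 8 n1906 = n1328 := d33_2 (iv F6761) D1906 (iv D1328)
def n1907 : Q := act 5 n1326
theorem D1907 : act 5 n1326 = n1907 := rfl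
theorem F9492 : act 1 n1907 = n1907 := d12_1 D1907 (iv D1907) F6763
theorem F9493 : act 3 n1907 = n1907 := d25_1 D1907 (iv D1907) F6764
theorem F9494 : act 8 n1907 = n1329 := d37_2 (iv F6766) D1907 (iv D1329)
theorem F9495 : act 9 n1907 = n1907 := d38_2 F6767 D1907 (iv D1907)
def n1908 : Q := act 0 n1327
theorem D1908 : act 0 n1327 = n1908 := rfl
theorem F9498 : act 6 n1908 = n1341 := d5_2 (iv F6770) D1908 (iv D1341)
theorem F9499 : act 9 n1908 = n1330 := d8_2 (iv F6771) D1908 (iv D1330)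
def n1909 : Q := act 4 n1327
theorem D1909 : act 4 n1327 = n1909 := rfl
theorem F9500 : act 1 n1909 = n1328 := d11_1 D1909 (iv D1328) D1327
theorem F9502 : act 6 n1909 = n1342 := d31_2 (iv F6770) D1909 (iv D1342)
theorem F9503 : act 9 n1909 = n1331 := d34_2 (iv F6771) D1909 (iv D1331)
def n1910 : Q := act 3 n1328
theorem D1910 : act 3 n1328 = n1910 := rfl
theorem F9504 : act 2 n1910 = n1363 := d17_1 D1910 (iv D1363) F4930 (iv F4833) (iv F6772)
theorem F9505 : act 4 n1910 = n1910 := d24_2 D1328 D1910 (iv D1910) (iv D1328) F4829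
theorem F9506 : act 6 n1910 = n1343 := d26_2 (iv F6773) D1910 (iv D1343)
theorem F9507 : act 9 n1910 = n1332 := d29_2 (iv F6774) D1910 (iv D1332)
def n1911 : Q := act 5 n1328
theorem D1911 : act 5 n1328 = n1911 := rfl
theorem F9508 : act 2 n1911 = n1329 := d19_1 D1911 (iv D1329) (iv F6772)
theorem F9509 : act 9 n1911 = n1333 := d38_2 (iv F6774) D1911 (iv D1333)
def n1912 : Q := act 6 n1329
theorem D1912 : act 6 n1329 = n1912 := rfl
theorem F9510 : act 1 n1912 = n1912 := d13_1 D1912 (iv D1912) F6775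
theorem F9511 : act 3 n1912 = n1365 := d26_1 D1912 (iv D1365) (iv F6776)
theorem F9512 : act 5 n1912 = n1345 := d35_1 D1912 (iv D1345) (iv D935) (iv F4834) D1329
theorem F9513 : act 9 n1912 = n1334 := d41_2 (iv F6777) D1912 (iv D1334)
def n1913 : Q := act 4 n1330
theorem D1913 : act 4 n1330 = n1913 := rfl
theorem F9514 : act 0 n1913 = n1331 := d3_1 D1913 (iv D1331) D1330
theorem F9516 : act 6 n1913 = n1346 := d31_2 (iv F6780) D1913 (iv D1346)
def n1914 : Q := act 3 n1331
theorem D1914 : act 3 n1331 = n1914 := rfl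
theorem F9518 : act 1 n1914 = n1332 := d10_1 D1914 (iv D1332) (iv F6782)
theorem F9519 : act 4 n1914 = n1914 := d24_2 D1331 D1914 (iv D1914) (iv D1331) F4837
theorem F9520 : act 6 n1914 = n1347 := d26_2 (iv F6784) D1914 (iv D1347)
def n1915 : Q := act 5 n1331
theorem D1915 : act 5 n1331 = n1915 := rfl
theorem F9521 : act 1 n1915 = n1333 := d12_1 D1915 (iv D1333) (iv F6782)
theorem F9522 : act 2 n1915 = n1915 := d19_1 D1915 (iv D1915) F6783
theorem F9523 : act 8 n1915 = n1915 := d37_2 F6785 D1915 (iv D1915)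
def n1916 : Q := act 5 n1332
theorem D1916 : act 5 n1332 = n1916 := rfl
theorem F9524 : act 2 n1916 = n1369 := d19_1 D1916 (iv D1369) (iv F6786)
theorem F9525 : act 3 n1916 = n1333 := d25_1 D1916 (iv D1333) D1332
def n1917 : Q := act 8 n1332
theorem D1917 : act 8 n1332 = n1917 := rfl
theorem F9526 : act 2 n1917 = n1370 := d22_1 D1917 (iv D1370) (iv F6786)
theorem F9527 : act 3 n1917 = n1917 := d28_1 D1917 (iv D1917) (iv D1332) F4842 D1332
theorem F9528 : act 4 n1917 = n1917 := d33_1 D1917 (iv D1917) F6787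
theorem F9529 : act 6 n1917 = n1350 := d40_1 D1917 (iv D1350) (iv F6788)
def n1918 : Q := act 6 n1333
theorem D1918 : act 6 n1333 = n1918 := rfl
theorem F9530 : act 2 n1918 = n1334 := d20_1 D1918 (iv D1334) (iv F6789)
theorem F9531 : act 5 n1918 = n1351 := d35_1 D1918 (iv D1351) (iv D939) (iv F4841) D1333
theorem F9532 : act 8 n1918 = n1918 := d40_2 F6790 D1918 (iv D1918)
def n1919 : Q := act 7 n1334
theorem D1919 : act 7 n1334 = n1919 := rfl
theorem F9533 : act 1 n1919 = n1919 := d14_1 D1919 (iv D1919) F6791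
theorem F9534 : act 3 n1919 = n1372 := d27_1 D1919 (iv D1372) (iv F6792)
theorem F9535 : act 5 n1919 = n1352 := d36_1 D1919 (iv D1352) (iv F6793)
theorem F9536 : act 8 n1919 = n1919 := d42_2 F6794 D1919 (iv D1919)
def n1922 : Q := act 1 n1336
theorem D1922 : act 1 n1336 = n1922 := rfl
def n1923 : Q := act 4 n1336
theorem D1923 : act 4 n1336 = n1923 := rfl
def n1925 : Q := act 0 n1338
theorem D1925 : act 0 n1338 = n1925 := rfl
theorem F9566 : act 8 n1925 = n1341 := d7_2 (iv F6813) D1925 (iv D1341)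
def n1926 : Q := act 4 n1338
theorem D1926 : act 4 n1338 = n1926 := rfl
theorem F9568 : act 1 n1926 = n1339 := d11_1 D1926 (iv D1339) D1338
theorem F9571 : act 8 n1926 = n1342 := d33_2 (iv F6813) D1926 (iv D1342)
def n1927 : Q := act 3 n1339
theorem D1927 : act 3 n1339 = n1927 := rfl
def n1928 : Q := act 5 n1339
theorem D1928 : act 5 n1339 = n1928 := rfl
theorem F9576 : act 2 n1928 = n1340 := d19_1 D1928 (iv D1340) (iv F6815)
theorem F9579 : act 8 n1928 = n1344 := d37_2 (iv F6817) D1928 (iv D1344)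
def n1929 : Q := act 6 n1340
theorem D1929 : act 6 n1340 = n1929 := rfl
theorem F9581 : act 1 n1929 = n1929 := d13_1 D1929 (iv D1929) F6819
theorem F9582 : act 3 n1929 = n1929 := d26_1 D1929 (iv D1929) F6820
theorem F9583 : act 4 n1929 = n1929 := d31_1 D1929 (iv D1929) F6821
theorem F9584 : act 8 n1929 = n1345 := d40_2 (iv F6823) D1929 (iv D1345)
theorem F9585 : act 9 n1929 = n1929 := d41_2 F6824 D1929 (iv D1929)
def n1930 : Q := act 4 n1341
theorem D1930 : act 4 n1341 = n1930 := rfl
theorem F9586 : act 0 n1930 = n1342 := d3_1 D1930 (iv D1342) D1341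
theorem F9589 : act 9 n1930 = n1346 := d34_2 (iv F6829) D1930 (iv D1346)
def n1931 : Q := act 3 n1342
theorem D1931 : act 3 n1342 = n1931 := rfl
theorem F9590 : act 1 n1931 = n1343 := d10_1 D1931 (iv D1343) (iv F6830)
theorem F9593 : act 9 n1931 = n1347 := d29_2 (iv F6833) D1931 (iv D1347)
def n1932 : Q := act 5 n1342
theorem D1932 : act 5 n1342 = n1932 := rfl
theorem F9594 : act 1 n1932 = n1344 := d12_1 D1932 (iv D1344) (iv F6830)
theorem F9598 : act 9 n1932 = n1348 := d38_2 (iv F6833) D1932 (iv D1348)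
def n1933 : Q := act 5 n1343
theorem D1933 : act 5 n1343 = n1933 := rfl
theorem F9599 : act 2 n1933 = n1376 := d19_1 D1933 (iv D1376) (iv F6834)
theorem F9600 : act 3 n1933 = n1344 := d25_1 D1933 (iv D1344) D1343
theorem F9601 : act 7 n1933 = n1933 := d36_2 F6836 D1933 (iv D1933)
theorem F9602 : act 9 n1933 = n1349 := d38_2 (iv F6837) D1933 (iv D1349)
def n1934 : Q := act 8 n1343
theorem D1934 : act 8 n1343 = n1934 := rfl
theorem F9603 : act 2 n1934 = n1377 := d22_1 D1934 (iv D1377) (iv F6834)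
def n1935 : Q := act 6 n1344
theorem D1935 : act 6 n1344 = n1935 := rfl
theorem F9606 : act 2 n1935 = n1345 := d20_1 D1935 (iv D1345) (iv F6838)
theorem F9607 : act 4 n1935 = n1935 := d31_1 D1935 (iv D1935) F6839
theorem F9608 : act 9 n1935 = n1351 := d41_2 (iv F6841) D1935 (iv D1351)
def n1936 : Q := act 7 n1345
theorem D1936 : act 7 n1345 = n1936 := rfl
theorem F9609 : act 1 n1936 = n1936 := d14_1 D1936 (iv D1936) F6842
theorem F9610 : act 3 n1936 = n1379 := d27_1 D1936 (iv D1379) (iv F6843)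
theorem F9611 : act 4 n1936 = n1936 := d32_1 D1936 (iv D1936) F6844
theorem F9612 : act 6 n1936 = n1936 := d39_1 D1936 (iv D1936) (iv D1345) F4877 D1345
theorem F9613 : act 9 n1936 = n1352 := d43_2 (iv F6845) D1936 (iv D1352)
def n1937 : Q := act 3 n1346
theorem D1937 : act 3 n1346 = n1937 := rfl
theorem F9614 : act 0 n1937 = n1347 := d2_1 D1937 (iv D1347) (iv F6846)
def n1938 : Q := act 5 n1346
theorem D1938 : act 5 n1346 = n1938 := rfl
theorem F9617 : act 0 n1938 = n1348 := d4_1 D1938 (iv D1348) (iv F6846)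
def n1939 : Q := act 2 n1347
theorem D1939 : act 2 n1347 = n1939 := rfl
theorem F9622 : act 1 n1939 = n1382 := d9_1 D1939 (iv D1382) F4983 (iv F4888) (iv F6850)
theorem F9623 : act 3 n1939 = n1939 := d17_2 D1347 D1939 (iv D1939) (iv D1347) F4885
theorem F9624 : act 4 n1939 = n1939 := d18_2 F6851 D1939 (iv D1939)
theorem F9625 : act 7 n1939 = n1939 := d21_2 F6852 D1939 (iv D1939)
def n1940 : Q := act 5 n1347
theorem D1940 : act 5 n1347 = n1940 := rfl
theorem F9626 : act 1 n1940 = n1349 := d12_1 D1940 (iv D1349) (iv F6850)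
theorem F9627 : act 3 n1940 = n1348 := d25_1 D1940 (iv D1348) D1347
theorem F9628 : act 7 n1940 = n1940 := d36_2 F6852 D1940 (iv D1940)
def n1941 : Q := act 8 n1347
theorem D1941 : act 8 n1347 = n1941 := rfl
theorem F9629 : act 1 n1941 = n1350 := d15_1 D1941 (iv D1350) (iv F6850)
theorem F9630 : act 3 n1941 = n1941 := d28_1 D1941 (iv D1941) (iv D1347) F4887 D1347
theorem F9631 : act 4 n1941 = n1941 := d33_1 D1941 (iv D1941) F6851
theorem F9632 : act 7 n1941 = n1941 := d42_1 D1941 (iv D1941) F6852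
def n1942 : Q := act 6 n1348
theorem D1942 : act 6 n1348 = n1942 := rfl
theorem F9633 : act 1 n1942 = n1351 := d13_1 D1942 (iv D1351) (iv F6853)
theorem F9634 : act 2 n1942 = n1942 := d20_1 D1942 (iv D1942) F6854
theorem F9635 : act 4 n1942 = n1942 := d31_1 D1942 (iv D1942) F6855
theorem F9636 : act 8 n1942 = n1942 := d40_2 F6857 D1942 (iv D1942)
def n1943 : Q := act 4 n1349
theorem D1943 : act 4 n1349 = n1943 := rfl
theorem F9637 : act 2 n1943 = n1386 := d18_1 D1943 (iv D1386) (iv F6858)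
theorem F9638 : act 3 n1943 = n1943 := d24_1 D1943 (iv D1943) F6859 F4892 (iv F6859)
theorem F9639 : act 5 n1943 = n1943 := d30_2 D1349 D1943 (iv D1943) (iv D1349) F4889
theorem F9640 : act 7 n1943 = n1943 := d32_2 F6860 D1943 (iv D1943)
def n1944 : Q := act 6 n1349
theorem D1944 : act 6 n1349 = n1944 := rfl
theorem F9641 : act 2 n1944 = n1387 := d20_1 D1944 (iv D1387) (iv F6858)
theorem F9642 : act 3 n1944 = n1351 := d26_1 D1944 (iv D1351) (iv F6859)
def n1945 : Q := act 8 n1349
theorem D1945 : act 8 n1349 = n1945 := rfl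
theorem F9643 : act 2 n1945 = n1388 := d22_1 D1945 (iv D1388) (iv F6858)
theorem F9644 : act 3 n1945 = n1945 := d28_1 D1945 (iv D1945) F6859 F4894 (iv F6859)
theorem F9645 : act 5 n1945 = n1350 := d37_1 D1945 (iv D1350) D1349
theorem F9646 : act 7 n1945 = n1945 := d42_1 D1945 (iv D1945) F6860
def n1946 : Q := act 9 n1350
theorem D1946 : act 9 n1350 = n1946 := rfl
def n1947 : Q := act 7 n1351
theorem D1947 : act 7 n1351 = n1947 := rfl
theorem F9651 : act 2 n1947 = n1352 := d21_1 D1947 (iv D1352) (iv F6865)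
theorem F9652 : act 4 n1947 = n1947 := d32_1 D1947 (iv D1947) F6866
theorem F9653 : act 6 n1947 = n1947 := d39_1 D1947 (iv D1947) (iv D1351) F4893 D1351
theorem F9654 : act 8 n1947 = n1947 := d42_2 F6867 D1947 (iv D1947)
def n1948 : Q := act 0 n1353
theorem D1948 : act 0 n1353 = n1948 := rfl
theorem F9655 : act 2 n1948 = n1948 := d1_2 F6873 D1948 (iv D1948)
theorem F9656 : act 3 n1948 = n1948 := d2_2 F6874 D1948 (iv D1948)
theorem F9657 : act 5 n1948 = n1948 := d4_2 F6875 D1948 (iv D1948)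
theorem F9658 : act 6 n1948 = n1948 := d5_2 F6876 D1948 (iv D1948)
theorem F9659 : act 7 n1948 = n1361 := d6_2 (iv F6877) D1948 (iv D1361)
theorem F9660 : act 8 n1948 = n1948 := d7_2 F6878 D1948 (iv D1948)
theorem F9661 : act 9 n1948 = n1356 := d8_2 (iv F6879) D1948 (iv D1356)
def n1949 : Q := act 4 n1353
theorem D1949 : act 4 n1353 = n1949 := rfl
theorem F9662 : act 1 n1949 = n1354 := d11_1 D1949 (iv D1354) D1353
theorem F9663 : act 2 n1949 = n1949 := d18_1 D1949 (iv D1949) F6873
theorem F9664 : act 6 n1949 = n1949 := d31_2 F6876 D1949 (iv D1949)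
theorem F9665 : act 7 n1949 = n1362 := d32_2 (iv F6877) D1949 (iv D1362)
theorem F9666 : act 8 n1949 = n1949 := d33_2 F6878 D1949 (iv D1949)
theorem F9667 : act 9 n1949 = n1357 := d34_2 (iv F6879) D1949 (iv D1357)
def n1950 : Q := act 3 n1354
theorem D1950 : act 3 n1354 = n1950 := rfl
theorem F9668 : act 4 n1950 = n1950 := d24_2 D1354 D1950 (iv D1950) (iv D1354) F4899
theorem F9669 : act 6 n1950 = n1950 := d26_2 F6881 D1950 (iv D1950)
theorem F9670 : act 7 n1950 = n1363 := d27_2 (iv F6882) D1950 (iv D1363)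
theorem F9671 : act 9 n1950 = n1358 := d29_2 (iv F6884) D1950 (iv D1358)
def n1951 : Q := act 5 n1354
theorem D1951 : act 5 n1354 = n1951 := rfl
theorem F9672 : act 2 n1951 = n1355 := d19_1 D1951 (iv D1355) (iv F6880)
theorem F9673 : act 4 n1951 = n1951 := d30_1 D1951 (iv D1951) (iv D1354) F4900 D1354
theorem F9674 : act 7 n1951 = n1364 := d36_2 (iv F6882) D1951 (iv D1364)
theorem F9675 : act 8 n1951 = n1951 := d37_2 F6883 D1951 (iv D1951)
theorem F9676 : act 9 n1951 = n1359 := d38_2 (iv F6884) D1951 (iv D1359)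
def n1952 : Q := act 6 n1355
theorem D1952 : act 6 n1355 = n1952 := rfl
theorem F9677 : act 1 n1952 = n1952 := d13_1 D1952 (iv D1952) F6885
theorem F9678 : act 4 n1952 = n1952 := d31_1 D1952 (iv D1952) F6886
theorem F9679 : act 5 n1952 = n1952 := d35_1 D1952 (iv D1952) (iv D1355) F4906 D1355
theorem F9680 : act 8 n1952 = n1952 := d40_2 F6888 D1952 (iv D1952)
theorem F9681 : act 9 n1952 = n1360 := d41_2 (iv F6889) D1952 (iv D1360)
def n1953 : Q := act 4 n1356
theorem D1953 : act 4 n1356 = n1953 := rfl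
theorem F9682 : act 0 n1953 = n1357 := d3_1 D1953 (iv D1357) D1356
theorem F9683 : act 2 n1953 = n1953 := d18_1 D1953 (iv D1953) F6890
theorem F9684 : act 6 n1953 = n1953 := d31_2 F6893 D1953 (iv D1953)
theorem F9685 : act 7 n1953 = n1366 := d32_2 (iv F6894) D1953 (iv D1366)
theorem F9686 : act 8 n1953 = n1410 := d33_2 (iv F6895) D1953 (iv D1410)
def n1954 : Q := act 3 n1357
theorem D1954 : act 3 n1357 = n1954 := rfl
theorem F9687 : act 1 n1954 = n1358 := d10_1 D1954 (iv D1358) (iv F6896)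
theorem F9688 : act 4 n1954 = n1954 := d24_2 D1357 D1954 (iv D1954) (iv D1357) F4911
theorem F9689 : act 6 n1954 = n1954 := d26_2 F6898 D1954 (iv D1954)
theorem F9690 : act 7 n1954 = n1367 := d27_2 (iv F6899) D1954 (iv D1367)
def n1955 : Q := act 5 n1357
theorem D1955 : act 5 n1357 = n1955 := rfl
theorem F9691 : act 1 n1955 = n1359 := d12_1 D1955 (iv D1359) (iv F6896)
theorem F9692 : act 2 n1955 = n1955 := d19_1 D1955 (iv D1955) F6897
theorem F9693 : act 4 n1955 = n1955 := d30_1 D1955 (iv D1955) (iv D1357) F4912 D1357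
theorem F9694 : act 7 n1955 = n1368 := d36_2 (iv F6899) D1955 (iv D1368)
theorem F9695 : act 8 n1955 = n1412 := d37_2 (iv F6900) D1955 (iv D1412)
def n1956 : Q := act 5 n1358
theorem D1956 : act 5 n1358 = n1956 := rfl
theorem F9696 : act 3 n1956 = n1359 := d25_1 D1956 (iv D1359) D1358
theorem F9697 : act 7 n1956 = n1369 := d36_2 (iv F6903) D1956 (iv D1369)
def n1957 : Q := act 8 n1358
theorem D1957 : act 8 n1358 = n1957 := rfl
theorem F9698 : act 3 n1957 = n1414 := d28_1 D1957 (iv D1414) (iv D983) (iv F4919) D1358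
theorem F9699 : act 4 n1957 = n1957 := d33_1 D1957 (iv D1957) F6901
theorem F9700 : act 6 n1957 = n1957 := d40_1 D1957 (iv D1957) F6902
theorem F9701 : act 7 n1957 = n1370 := d42_1 D1957 (iv D1370) (iv F6903)
def n1958 : Q := act 6 n1359
theorem D1958 : act 6 n1359 = n1958 := rfl
theorem F9702 : act 2 n1958 = n1360 := d20_1 D1958 (iv D1360) (iv F6904)
theorem F9703 : act 4 n1958 = n1958 := d31_1 D1958 (iv D1958) F6905
theorem F9704 : act 5 n1958 = n1958 := d35_1 D1958 (iv D1958) (iv D1359) F4917 D1359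
theorem F9705 : act 8 n1958 = n1415 := d40_2 (iv F6907) D1958 (iv D1415)
def n1959 : Q := act 7 n1360
theorem D1959 : act 7 n1360 = n1959 := rfl
theorem F9706 : act 1 n1959 = n1959 := d14_1 D1959 (iv D1959) F6908
theorem F9707 : act 4 n1959 = n1959 := d32_1 D1959 (iv D1959) F6909
theorem F9708 : act 5 n1959 = n1959 := d36_1 D1959 (iv D1959) F6910
theorem F9709 : act 6 n1959 = n1372 := d39_1 D1959 (iv D1372) (iv D953) (iv F4922) D1360
theorem F9710 : act 8 n1959 = n1416 := d42_2 (iv F6911) D1959 (iv D1416)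
def n1960 : Q := act 4 n1361
theorem D1960 : act 4 n1361 = n1960 := rfl
theorem F9711 : act 0 n1960 = n1362 := d3_1 D1960 (iv D1362) D1361
theorem F9712 : act 2 n1960 = n1960 := d18_1 D1960 (iv D1960) F6912
theorem F9713 : act 6 n1960 = n1373 := d31_2 (iv F6915) D1960 (iv D1373)
theorem F9714 : act 8 n1960 = n1960 := d33_2 F6916 D1960 (iv D1960)
theorem F9715 : act 9 n1960 = n1366 := d34_2 (iv F6917) D1960 (iv D1366)
def n1961 : Q := act 3 n1362
theorem D1961 : act 3 n1362 = n1961 := rfl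
theorem F9716 : act 1 n1961 = n1363 := d10_1 D1961 (iv D1363) (iv F6918)
theorem F9717 : act 4 n1961 = n1961 := d24_2 D1362 D1961 (iv D1961) (iv D1362) F4925
theorem F9718 : act 6 n1961 = n1374 := d26_2 (iv F6920) D1961 (iv D1374)
theorem F9719 : act 9 n1961 = n1367 := d29_2 (iv F6922) D1961 (iv D1367)
def n1962 : Q := act 5 n1362
theorem D1962 : act 5 n1362 = n1962 := rfl
theorem F9720 : act 1 n1962 = n1364 := d12_1 D1962 (iv D1364) (iv F6918)
theorem F9721 : act 2 n1962 = n1962 := d19_1 D1962 (iv D1962) F6919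
theorem F9722 : act 4 n1962 = n1962 := d30_1 D1962 (iv D1962) (iv D1362) F4926 D1362
theorem F9723 : act 8 n1962 = n1962 := d37_2 F6921 D1962 (iv D1962)
theorem F9724 : act 9 n1962 = n1368 := d38_2 (iv F6922) D1962 (iv D1368)
def n1963 : Q := act 5 n1363
theorem D1963 : act 5 n1363 = n1963 := rfl
theorem F9725 : act 3 n1963 = n1364 := d25_1 D1963 (iv D1364) D1363
theorem F9726 : act 9 n1963 = n1369 := d38_2 (iv F6925) D1963 (iv D1369)
def n1964 : Q := act 8 n1363
theorem D1964 : act 8 n1363 = n1964 := rfl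
theorem F9727 : act 3 n1964 = n1964 := d28_1 D1964 (iv D1964) (iv D1363) F4932 D1363
theorem F9728 : act 4 n1964 = n1964 := d33_1 D1964 (iv D1964) F6923
theorem F9729 : act 6 n1964 = n1377 := d40_1 D1964 (iv D1377) (iv F6924)
def n1965 : Q := act 6 n1364
theorem D1965 : act 6 n1364 = n1965 := rfl
theorem F9730 : act 2 n1965 = n1365 := d20_1 D1965 (iv D1365) (iv F6926)
theorem F9731 : act 4 n1965 = n1965 := d31_1 D1965 (iv D1965) F6927
theorem F9732 : act 5 n1965 = n1378 := d35_1 D1965 (iv D1378) (iv D957) (iv F4931) D1364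
theorem F9733 : act 8 n1965 = n1965 := d40_2 F6928 D1965 (iv D1965)
theorem F9734 : act 9 n1965 = n1371 := d41_2 (iv F6929) D1965 (iv D1371)
def n1966 : Q := act 7 n1365
theorem D1966 : act 7 n1365 = n1966 := rfl
theorem F9735 : act 1 n1966 = n1966 := d14_1 D1966 (iv D1966) F6930
theorem F9736 : act 4 n1966 = n1966 := d32_1 D1966 (iv D1966) F6931
theorem F9737 : act 5 n1966 = n1379 := d36_1 D1966 (iv D1379) (iv F6932)
theorem F9738 : act 8 n1966 = n1966 := d42_2 F6933 D1966 (iv D1966)
theorem F9739 : act 9 n1966 = n1372 := d43_2 (iv F6934) D1966 (iv D1372)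
def n1967 : Q := act 3 n1366
theorem D1967 : act 3 n1366 = n1967 := rfl
theorem F9740 : act 0 n1967 = n1367 := d2_1 D1967 (iv D1367) (iv F6935)
theorem F9741 : act 4 n1967 = n1967 := d24_2 D1366 D1967 (iv D1967) (iv D1366) F4939
theorem F9742 : act 6 n1967 = n1380 := d26_2 (iv F6937) D1967 (iv D1380)
def n1968 : Q := act 5 n1366
theorem D1968 : act 5 n1366 = n1968 := rfl
theorem F9743 : act 0 n1968 = n1368 := d4_1 D1968 (iv D1368) (iv F6935)
theorem F9744 : act 2 n1968 = n1968 := d19_1 D1968 (iv D1968) F6936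
theorem F9745 : act 4 n1968 = n1968 := d30_1 D1968 (iv D1968) (iv D1366) F4940 D1366
theorem F9746 : act 8 n1968 = n1418 := d37_2 (iv F6938) D1968 (iv D1418)
def n1969 : Q := act 2 n1367
theorem D1969 : act 2 n1367 = n1969 := rfl
theorem F9749 : act 6 n1969 = n1382 := d20_2 (iv F6941) D1969 (iv D1382)
def n1970 : Q := act 5 n1367
theorem D1970 : act 5 n1367 = n1970 := rfl
theorem F9750 : act 1 n1970 = n1369 := d12_1 D1970 (iv D1369) (iv F6939)
theorem F9751 : act 3 n1970 = n1368 := d25_1 D1970 (iv D1368) D1367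
def n1971 : Q := act 8 n1367
theorem D1971 : act 8 n1367 = n1971 := rfl
theorem F9752 : act 1 n1971 = n1370 := d15_1 D1971 (iv D1370) (iv F6939)
theorem F9753 : act 3 n1971 = n1421 := d28_1 D1971 (iv D1421) (iv D987) (iv F4946) D1367
def n1972 : Q := act 6 n1368
theorem D1972 : act 6 n1368 = n1972 := rfl
theorem F9756 : act 1 n1972 = n1371 := d13_1 D1972 (iv D1371) (iv F6942)
theorem F9757 : act 2 n1972 = n1972 := d20_1 D1972 (iv D1972) F6943
theorem F9758 : act 4 n1972 = n1972 := d31_1 D1972 (iv D1972) F6944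
theorem F9759 : act 5 n1972 = n1385 := d35_1 D1972 (iv D1385) (iv D961) (iv F4945) D1368
theorem F9760 : act 8 n1972 = n1422 := d40_2 (iv F6945) D1972 (iv D1422)
def n1973 : Q := act 4 n1369
theorem D1973 : act 4 n1369 = n1973 := rfl
theorem F9761 : act 3 n1973 = n1973 := d24_1 D1973 (iv D1973) F6946 F4950 (iv F6946)
theorem F9762 : act 5 n1973 = n1973 := d30_2 D1369 D1973 (iv D1973) (iv D1369) F4947
def n1974 : Q := act 6 n1369
theorem D1974 : act 6 n1369 = n1974 := rfl
theorem F9763 : act 3 n1974 = n1371 := d26_1 D1974 (iv D1371) (iv F6946)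
theorem F9764 : act 5 n1974 = n1387 := d35_1 D1974 (iv D1387) (iv D962) (iv F4948) D1369
def n1975 : Q := act 8 n1369
theorem D1975 : act 8 n1369 = n1975 := rfl
theorem F9765 : act 3 n1975 = n1425 := d28_1 D1975 (iv D1425) F5112 (iv F4951) (iv F6946)
theorem F9766 : act 5 n1975 = n1370 := d37_1 D1975 (iv D1370) D1369
def n1976 : Q := act 9 n1370
theorem D1976 : act 9 n1370 = n1976 := rfl
def n1977 : Q := act 7 n1371
theorem D1977 : act 7 n1371 = n1977 := rfl
theorem F9770 : act 2 n1977 = n1372 := d21_1 D1977 (iv D1372) (iv F6950)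
theorem F9771 : act 4 n1977 = n1977 := d32_1 D1977 (iv D1977) F6951
theorem F9772 : act 5 n1977 = n1390 := d36_1 D1977 (iv D1390) (iv F6952)
theorem F9773 : act 8 n1977 = n1427 := d42_2 (iv F6953) D1977 (iv D1427)
def n1978 : Q := act 3 n1373
theorem D1978 : act 3 n1373 = n1978 := rfl
theorem F9774 : act 0 n1978 = n1374 := d2_1 D1978 (iv D1374) (iv F6958)
theorem F9775 : act 4 n1978 = n1978 := d24_2 D1373 D1978 (iv D1978) (iv D1373) F4957
theorem F9776 : act 7 n1978 = n1978 := d27_2 F6960 D1978 (iv D1978)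
theorem F9777 : act 9 n1978 = n1380 := d29_2 (iv F6962) D1978 (iv D1380)
def n1979 : Q := act 5 n1373
theorem D1979 : act 5 n1373 = n1979 := rfl
theorem F9778 : act 0 n1979 = n1375 := d4_1 D1979 (iv D1375) (iv F6958)
theorem F9779 : act 2 n1979 = n1979 := d19_1 D1979 (iv D1979) F6959
theorem F9780 : act 4 n1979 = n1392 := d30_1 D1979 (iv D1392) (iv D966) (iv F4958) D1373
theorem F9781 : act 7 n1979 = n1979 := d36_2 F6960 D1979 (iv D1979)
theorem F9782 : act 8 n1979 = n1979 := d37_2 F6961 D1979 (iv D1979)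
theorem F9783 : act 9 n1979 = n1381 := d38_2 (iv F6962) D1979 (iv D1381)
def n1980 : Q := act 2 n1374
theorem D1980 : act 2 n1374 = n1980 := rfl
theorem F9787 : act 9 n1980 = n1382 := d23_2 (iv F6966) D1980 (iv D1382)
def n1981 : Q := act 5 n1374
theorem D1981 : act 5 n1374 = n1981 := rfl
theorem F9788 : act 1 n1981 = n1376 := d12_1 D1981 (iv D1376) (iv F6963)
theorem F9789 : act 3 n1981 = n1375 := d25_1 D1981 (iv D1375) D1374
theorem F9790 : act 7 n1981 = n1981 := d36_2 F6965 D1981 (iv D1981)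
theorem F9791 : act 9 n1981 = n1383 := d38_2 (iv F6966) D1981 (iv D1383)
def n1982 : Q := act 8 n1374
theorem D1982 : act 8 n1374 = n1982 := rfl
theorem F9792 : act 1 n1982 = n1377 := d15_1 D1982 (iv D1377) (iv F6963)
def n1983 : Q := act 6 n1375
theorem D1983 : act 6 n1375 = n1983 := rfl
theorem F9796 : act 1 n1983 = n1378 := d13_1 D1983 (iv D1378) (iv F6967)
theorem F9797 : act 2 n1983 = n1983 := d20_1 D1983 (iv D1983) F6968
theorem F9798 : act 4 n1983 = n1396 := d31_1 D1983 (iv D1396) (iv F6969)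
theorem F9799 : act 8 n1983 = n1983 := d40_2 F6971 D1983 (iv D1983)
theorem F9800 : act 9 n1983 = n1385 := d41_2 (iv F6972) D1983 (iv D1385)
def n1984 : Q := act 4 n1376
theorem D1984 : act 4 n1376 = n1984 := rfl
theorem F9801 : act 3 n1984 = n1397 := d24_1 D1984 (iv D1397) F5020 (iv F4971) (iv F6973)
theorem F9802 : act 5 n1984 = n1984 := d30_2 D1376 D1984 (iv D1984) (iv D1376) F4967
theorem F9803 : act 7 n1984 = n1984 := d32_2 F6974 D1984 (iv D1984)
theorem F9804 : act 9 n1984 = n1386 := d34_2 (iv F6975) D1984 (iv D1386)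
def n1985 : Q := act 6 n1376
theorem D1985 : act 6 n1376 = n1985 := rfl
theorem F9805 : act 3 n1985 = n1378 := d26_1 D1985 (iv D1378) (iv F6973)
theorem F9806 : act 9 n1985 = n1387 := d41_2 (iv F6975) D1985 (iv D1387)
def n1986 : Q := act 8 n1376
theorem D1986 : act 8 n1376 = n1986 := rfl
theorem F9807 : act 3 n1986 = n1986 := d28_1 D1986 (iv D1986) F6973 F4973 (iv F6973)
theorem F9808 : act 5 n1986 = n1377 := d37_1 D1986 (iv D1377) D1376
theorem F9809 : act 7 n1986 = n1986 := d42_1 D1986 (iv D1986) F6974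
def n1987 : Q := act 9 n1377
theorem D1987 : act 9 n1377 = n1987 := rfl
def n1988 : Q := act 7 n1378
theorem D1988 : act 7 n1378 = n1988 := rfl
theorem F9814 : act 2 n1988 = n1379 := d21_1 D1988 (iv D1379) (iv F6979)
theorem F9815 : act 4 n1988 = n1400 := d32_1 D1988 (iv D1400) (iv F6980)
theorem F9816 : act 6 n1988 = n1988 := d39_1 D1988 (iv D1988) (iv D1378) F4972 D1378
theorem F9817 : act 8 n1988 = n1988 := d42_2 F6981 D1988 (iv D1988)
theorem F9818 : act 9 n1988 = n1390 := d43_2 (iv F6982) D1988 (iv D1390)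
def n1989 : Q := act 2 n1380
theorem D1989 : act 2 n1380 = n1989 := rfl
def n1990 : Q := act 5 n1380
theorem D1990 : act 5 n1380 = n1990 := rfl
theorem F9823 : act 0 n1990 = n1383 := d4_1 D1990 (iv D1383) (iv F6988)
theorem F9824 : act 3 n1990 = n1381 := d25_1 D1990 (iv D1381) D1380
theorem F9825 : act 7 n1990 = n1990 := d36_2 F6990 D1990 (iv D1990)
def n1991 : Q := act 8 n1380
theorem D1991 : act 8 n1380 = n1991 := rfl
def n1992 : Q := act 6 n1381
theorem D1992 : act 6 n1381 = n1992 := rfl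
theorem F9830 : act 0 n1992 = n1385 := d5_1 D1992 (iv D1385) (iv F6991)
theorem F9831 : act 2 n1992 = n1992 := d20_1 D1992 (iv D1992) F6992
theorem F9832 : act 4 n1992 = n1403 := d31_1 D1992 (iv D1403) (iv F6993)
theorem F9833 : act 8 n1992 = n1431 := d40_2 (iv F6995) D1992 (iv D1431)
def n1993 : Q := act 5 n1382
theorem D1993 : act 5 n1382 = n1993 := rfl
theorem F9834 : act 2 n1993 = n1383 := d19_1 D1993 (iv D1383) D1382
def n1994 : Q := act 8 n1382
theorem D1994 : act 8 n1382 = n1994 := rfl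
theorem F9837 : act 2 n1994 = n1384 := d22_1 D1994 (iv D1384) D1382
def n1995 : Q := act 4 n1383
theorem D1995 : act 4 n1383 = n1995 := rfl
theorem F9840 : act 1 n1995 = n1386 := d11_1 D1995 (iv D1386) (iv F6999)
theorem F9841 : act 3 n1995 = n1405 := d24_1 D1995 (iv D1405) F5055 (iv F4988) (iv F7000)
theorem F9842 : act 5 n1995 = n1995 := d30_2 D1383 D1995 (iv D1995) (iv D1383) F4984
theorem F9843 : act 7 n1995 = n1995 := d32_2 F7001 D1995 (iv D1995)
def n1996 : Q := act 6 n1383
theorem D1996 : act 6 n1383 = n1996 := rfl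
theorem F9844 : act 1 n1996 = n1387 := d13_1 D1996 (iv D1387) (iv F6999)
theorem F9845 : act 3 n1996 = n1385 := d26_1 D1996 (iv D1385) (iv F7000)
def n1997 : Q := act 8 n1383
theorem D1997 : act 8 n1383 = n1997 := rfl
theorem F9846 : act 1 n1997 = n1388 := d15_1 D1997 (iv D1388) (iv F6999)
theorem F9847 : act 3 n1997 = n1435 := d28_1 D1997 (iv D1435) F5141 (iv F4990) (iv F7000)
def n1998 : Q := act 9 n1384
theorem D1998 : act 9 n1384 = n1998 := rfl
theorem F9850 : act 1 n1998 = n1389 := d16_1 D1998 (iv D1389) (iv F7002)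
def n1999 : Q := act 7 n1385
theorem D1999 : act 7 n1385 = n1999 := rfl
theorem F9854 : act 1 n1999 = n1390 := d14_1 D1999 (iv D1390) (iv F7006)
theorem F9855 : act 2 n1999 = n1999 := d21_1 D1999 (iv D1999) F7007
theorem F9856 : act 4 n1999 = n1407 := d32_1 D1999 (iv D1407) (iv F7008)
theorem F9857 : act 6 n1999 = n1999 := d39_1 D1999 (iv D1999) (iv D1385) F4989 D1385
theorem F9858 : act 8 n1999 = n1437 := d42_2 (iv F7009) D1999 (iv D1437)
def n2000 : Q := act 6 n1386
theorem D2000 : act 6 n1386 = n2000 := rfl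
theorem F9859 : act 3 n2000 = n1408 := d26_1 D2000 (iv D1408) (iv F7010)
theorem F9860 : act 4 n2000 = n1387 := d31_1 D2000 (iv D1387) D1386
def n2001 : Q := act 8 n1386
theorem D2001 : act 8 n1386 = n2001 := rfl
theorem F9861 : act 3 n2001 = n2001 := d28_1 D2001 (iv D2001) F7010 F5065 (iv F7010)
theorem F9862 : act 4 n2001 = n1388 := d33_1 D2001 (iv D1388) D1386
theorem F9863 : act 5 n2001 = n2001 := d37_1 D2001 (iv D2001) F7011
theorem F9864 : act 7 n2001 = n2001 := d42_1 D2001 (iv D2001) F7012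
def n2002 : Q := act 7 n1387
theorem D2002 : act 7 n1387 = n2002 := rfl
theorem F9865 : act 3 n2002 = n1390 := d27_1 D2002 (iv D1390) (iv F7013)
theorem F9866 : act 6 n2002 = n2002 := d39_1 D2002 (iv D2002) (iv D1387) F4992 D1387
def n2003 : Q := act 8 n1387
theorem D2003 : act 8 n1387 = n2003 := rfl
theorem F9867 : act 3 n2003 = n1439 := d28_1 D2003 (iv D1439) F5153 (iv F4998) (iv F7013)
theorem F9868 : act 6 n2003 = n1388 := d40_1 D2003 (iv D1388) D1387
def n2004 : Q := act 9 n1388
theorem D2004 : act 9 n1388 = n2004 := rfl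
def n2005 : Q := act 2 n1391
theorem D2005 : act 2 n1391 = n2005 := rfl
theorem F9872 : act 0 n2005 = n1393 := d1_1 D2005 (iv D1393) (iv F7024)
theorem F9873 : act 3 n2005 = n2005 := d17_2 D1391 D2005 (iv D2005) (iv D1391) F5004
theorem F9874 : act 4 n2005 = n2005 := d18_2 F7025 D2005 (iv D2005)
theorem F9875 : act 6 n2005 = n2005 := d20_2 F7026 D2005 (iv D2005)
theorem F9876 : act 7 n2005 = n2005 := d21_2 F7027 D2005 (iv D2005)
theorem F9877 : act 9 n2005 = n1401 := d23_2 (iv F7028) D2005 (iv D1401)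
def n2006 : Q := act 5 n1391
theorem D2006 : act 5 n1391 = n2006 := rfl
theorem F9878 : act 0 n2006 = n1394 := d4_1 D2006 (iv D1394) (iv F7024)
theorem F9879 : act 3 n2006 = n1392 := d25_1 D2006 (iv D1392) D1391
theorem F9880 : act 7 n2006 = n2006 := d36_2 F7027 D2006 (iv D2006)
theorem F9881 : act 9 n2006 = n1402 := d38_2 (iv F7028) D2006 (iv D1402)
def n2007 : Q := act 8 n1391
theorem D2007 : act 8 n1391 = n2007 := rfl
theorem F9882 : act 0 n2007 = n1395 := d7_1 D2007 (iv D1395) (iv F7024)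
theorem F9883 : act 3 n2007 = n2007 := d28_1 D2007 (iv D2007) (iv D1391) F5007 D1391
theorem F9884 : act 4 n2007 = n2007 := d33_1 D2007 (iv D2007) F7025
theorem F9885 : act 6 n2007 = n2007 := d40_1 D2007 (iv D2007) F7026
theorem F9886 : act 7 n2007 = n2007 := d42_1 D2007 (iv D2007) F7027
theorem F9887 : act 9 n2007 = n2007 := d44_2 (iv F7028) D2007 (iv D2007) F7028 F5043
def n2008 : Q := act 6 n1392
theorem D2008 : act 6 n1392 = n2008 := rfl
theorem F9888 : act 0 n2008 = n1396 := d5_1 D2008 (iv D1396) (iv F7029)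
theorem F9889 : act 2 n2008 = n2008 := d20_1 D2008 (iv D2008) F7030
theorem F9890 : act 5 n2008 = n2008 := d35_1 D2008 (iv D2008) (iv D1392) F5005 D1392
theorem F9891 : act 8 n2008 = n2008 := d40_2 F7032 D2008 (iv D2008)
theorem F9892 : act 9 n2008 = n1403 := d41_2 (iv F7033) D2008 (iv D1403)
def n2009 : Q := act 5 n1393
theorem D2009 : act 5 n1393 = n2009 := rfl
theorem F9893 : act 1 n2009 = n2009 := d12_1 D2009 (iv D2009) F7034
theorem F9894 : act 2 n2009 = n1394 := d19_1 D2009 (iv D1394) D1393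
theorem F9895 : act 3 n2009 = n2009 := d25_1 D2009 (iv D2009) F7035
theorem F9896 : act 7 n2009 = n2009 := d36_2 F7038 D2009 (iv D2009)
theorem F9897 : act 9 n2009 = n1404 := d38_2 (iv F7039) D2009 (iv D1404)
def n2010 : Q := act 8 n1393
theorem D2010 : act 8 n1393 = n2010 := rfl
theorem F9898 : act 1 n2010 = n2010 := d15_1 D2010 (iv D2010) F7034
theorem F9899 : act 2 n2010 = n1395 := d22_1 D2010 (iv D1395) D1393
theorem F9900 : act 4 n2010 = n2010 := d33_1 D2010 (iv D2010) F7036
theorem F9901 : act 6 n2010 = n2010 := d40_1 D2010 (iv D2010) F7037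
theorem F9902 : act 7 n2010 = n2010 := d42_1 D2010 (iv D2010) F7038
theorem F9903 : act 9 n2010 = n2010 := d44_2 (iv F7039) D2010 (iv D2010) F7039 F5053
def n2011 : Q := act 4 n1394
theorem D2011 : act 4 n1394 = n2011 := rfl
theorem F9904 : act 1 n2011 = n1397 := d11_1 D2011 (iv D1397) (iv F7040)
theorem F9905 : act 5 n2011 = n2011 := d30_2 D1394 D2011 (iv D2011) (iv D1394) F5010
theorem F9906 : act 7 n2011 = n2011 := d32_2 F7042 D2011 (iv D2011)
theorem F9907 : act 9 n2011 = n1405 := d34_2 (iv F7043) D2011 (iv D1405)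
def n2012 : Q := act 6 n1394
theorem D2012 : act 6 n1394 = n2012 := rfl
theorem F9908 : act 1 n2012 = n1398 := d13_1 D2012 (iv D1398) (iv F7040)
theorem F9909 : act 3 n2012 = n1396 := d26_1 D2012 (iv D1396) (iv F7041)
theorem F9910 : act 5 n2012 = n2012 := d35_1 D2012 (iv D2012) (iv D1394) F5011 D1394
theorem F9911 : act 9 n2012 = n1406 := d41_2 (iv F7043) D2012 (iv D1406)
def n2013 : Q := act 8 n1394
theorem D2013 : act 8 n1394 = n2013 := rfl
theorem F9912 : act 1 n2013 = n1399 := d15_1 D2013 (iv D1399) (iv F7040)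
theorem F9913 : act 3 n2013 = n2013 := d28_1 D2013 (iv D2013) F7041 F5017 (iv F7041)
theorem F9914 : act 5 n2013 = n1395 := d37_1 D2013 (iv D1395) D1394
theorem F9915 : act 7 n2013 = n2013 := d42_1 D2013 (iv D2013) F7042
theorem F9916 : act 9 n2013 = n2013 := d44_2 (iv F7043) D2013 (iv D2013) F7043 F5057
def n2014 : Q := act 7 n1396
theorem D2014 : act 7 n1396 = n2014 := rfl
theorem F9917 : act 1 n2014 = n1400 := d14_1 D2014 (iv D1400) (iv F7050)
theorem F9918 : act 2 n2014 = n2014 := d21_1 D2014 (iv D2014) F7051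
theorem F9919 : act 5 n2014 = n2014 := d36_1 D2014 (iv D2014) F7052
theorem F9920 : act 6 n2014 = n2014 := d39_1 D2014 (iv D2014) (iv D1396) F5016 D1396
theorem F9921 : act 8 n2014 = n2014 := d42_2 F7053 D2014 (iv D2014)
theorem F9922 : act 9 n2014 = n1407 := d43_2 (iv F7054) D2014 (iv D1407)
def n2015 : Q := act 6 n1397
theorem D2015 : act 6 n1397 = n2015 := rfl
theorem F9923 : act 2 n2015 = n2015 := d20_1 D2015 (iv D2015) F7055
theorem F9924 : act 4 n2015 = n1398 := d31_1 D2015 (iv D1398) D1397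
theorem F9925 : act 9 n2015 = n1408 := d41_2 (iv F7058) D2015 (iv D1408)
def n2016 : Q := act 8 n1397
theorem D2016 : act 8 n1397 = n2016 := rfl
theorem F9926 : act 2 n2016 = n2016 := d22_1 D2016 (iv D2016) F7055
theorem F9927 : act 4 n2016 = n1399 := d33_1 D2016 (iv D1399) D1397
theorem F9928 : act 5 n2016 = n2016 := d37_1 D2016 (iv D2016) F7056
theorem F9929 : act 7 n2016 = n2016 := d42_1 D2016 (iv D2016) F7057
theorem F9930 : act 9 n2016 = n2016 := d44_2 (iv F7058) D2016 (iv D2016) F7058 F5065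
def n2017 : Q := act 7 n1398
theorem D2017 : act 7 n1398 = n2017 := rfl
theorem F9931 : act 2 n2017 = n2017 := d21_1 D2017 (iv D2017) F7059
theorem F9932 : act 3 n2017 = n1400 := d27_1 D2017 (iv D1400) (iv F7060)
theorem F9933 : act 5 n2017 = n2017 := d36_1 D2017 (iv D2017) F7061
theorem F9934 : act 6 n2017 = n2017 := d39_1 D2017 (iv D2017) (iv D1398) F5021 D1398
theorem F9935 : act 9 n2017 = n1409 := d43_2 (iv F7062) D2017 (iv D1409)
def n2018 : Q := act 8 n1398
theorem D2018 : act 8 n1398 = n2018 := rfl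
theorem F9936 : act 2 n2018 = n2018 := d22_1 D2018 (iv D2018) F7059
theorem F9937 : act 3 n2018 = n2018 := d28_1 D2018 (iv D2018) F7060 F5031 (iv F7060)
theorem F9938 : act 5 n2018 = n2018 := d37_1 D2018 (iv D2018) F7061
theorem F9939 : act 6 n2018 = n1399 := d40_1 D2018 (iv D1399) D1398
theorem F9940 : act 9 n2018 = n2018 := d44_2 (iv F7062) D2018 (iv D2018) F7062 F5069
def n2019 : Q := act 1 n1401
theorem D2019 : act 1 n1401 = n2019 := rfl
theorem F9941 : act 0 n2019 = n2019 := d0_1 D2019 (iv D2019) F7073 F5048 (iv F7073)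
theorem F9942 : act 3 n2019 = n2019 := d10_2 F7074 D2019 (iv D2019)
theorem F9943 : act 4 n2019 = n2019 := d11_2 F7075 D2019 (iv D2019)
theorem F9944 : act 6 n2019 = n2019 := d13_2 F7076 D2019 (iv D2019)
theorem F9945 : act 7 n2019 = n2019 := d14_2 F7077 D2019 (iv D2019)
theorem F9946 : act 8 n2019 = n2019 := d15_2 F7078 D2019 (iv D2019)
def n2020 : Q := act 5 n1401
theorem D2020 : act 5 n1401 = n2020 := rfl
theorem F9947 : act 0 n2020 = n1404 := d4_1 D2020 (iv D1404) (iv F7073)
theorem F9948 : act 2 n2020 = n1402 := d19_1 D2020 (iv D1402) D1401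
theorem F9949 : act 3 n2020 = n2020 := d25_1 D2020 (iv D2020) F7074
theorem F9950 : act 7 n2020 = n2020 := d36_2 F7077 D2020 (iv D2020)
theorem F9951 : act 8 n2020 = n2020 := d37_2 F7078 D2020 (iv D2020)
def n2021 : Q := act 4 n1402
theorem D2021 : act 4 n1402 = n2021 := rfl
theorem F9952 : act 0 n2021 = n1405 := d3_1 D2021 (iv D1405) (iv F7079)
theorem F9953 : act 5 n2021 = n2021 := d30_2 D1402 D2021 (iv D2021) (iv D1402) F5040
theorem F9954 : act 7 n2021 = n2021 := d32_2 F7081 D2021 (iv D2021)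
theorem F9955 : act 8 n2021 = n2021 := d33_2 F7082 D2021 (iv D2021)
def n2022 : Q := act 6 n1402
theorem D2022 : act 6 n1402 = n2022 := rfl
theorem F9956 : act 0 n2022 = n1406 := d5_1 D2022 (iv D1406) (iv F7079)
theorem F9957 : act 3 n2022 = n1403 := d26_1 D2022 (iv D1403) (iv F7080)
theorem F9958 : act 5 n2022 = n2022 := d35_1 D2022 (iv D2022) (iv D1402) F5041 D1402
theorem F9959 : act 8 n2022 = n2022 := d40_2 F7082 D2022 (iv D2022)
def n2023 : Q := act 7 n1403
theorem D2023 : act 7 n1403 = n2023 := rfl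
theorem F9960 : act 0 n2023 = n1407 := d6_1 D2023 (iv D1407) (iv F7083)
theorem F9961 : act 2 n2023 = n2023 := d21_1 D2023 (iv D2023) F7084
theorem F9962 : act 5 n2023 = n2023 := d36_1 D2023 (iv D2023) F7085
theorem F9963 : act 6 n2023 = n2023 := d39_1 D2023 (iv D2023) (iv D1403) F5046 D1403
theorem F9964 : act 8 n2023 = n1441 := d42_2 (iv F7086) D2023 (iv D1441)
def n2024 : Q := act 4 n1404
theorem D2024 : act 4 n1404 = n2024 := rfl
theorem F9965 : act 1 n2024 = n2024 := d11_1 D2024 (iv D2024) F7087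
theorem F9966 : act 2 n2024 = n1405 := d18_1 D2024 (iv D1405) (iv F7088)
theorem F9967 : act 5 n2024 = n2024 := d30_2 D1404 D2024 (iv D2024) (iv D1404) F5050
theorem F9968 : act 7 n2024 = n2024 := d32_2 F7090 D2024 (iv D2024)
theorem F9969 : act 8 n2024 = n2024 := d33_2 F7091 D2024 (iv D2024)
def n2025 : Q := act 6 n1404
theorem D2025 : act 6 n1404 = n2025 := rfl
theorem F9970 : act 1 n2025 = n2025 := d13_1 D2025 (iv D2025) F7087
theorem F9971 : act 2 n2025 = n1406 := d20_1 D2025 (iv D1406) (iv F7088)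
theorem F9972 : act 3 n2025 = n2025 := d26_1 D2025 (iv D2025) F7089
theorem F9973 : act 5 n2025 = n2025 := d35_1 D2025 (iv D2025) (iv D1404) F5051 D1404
theorem F9974 : act 8 n2025 = n2025 := d40_2 F7091 D2025 (iv D2025)
def n2026 : Q := act 6 n1405
theorem D2026 : act 6 n1405 = n2026 := rfl
theorem F9975 : act 1 n2026 = n1408 := d13_1 D2026 (iv D1408) (iv F7092)
theorem F9976 : act 4 n2026 = n1406 := d31_1 D2026 (iv D1406) D1405
theorem F9977 : act 8 n2026 = n2026 := d40_2 F7095 D2026 (iv D2026)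
def n2027 : Q := act 7 n1406
theorem D2027 : act 7 n1406 = n2027 := rfl
theorem F9978 : act 1 n2027 = n1409 := d14_1 D2027 (iv D1409) (iv F7096)
theorem F9979 : act 3 n2027 = n1407 := d27_1 D2027 (iv D1407) (iv F7097)
theorem F9980 : act 5 n2027 = n2027 := d36_1 D2027 (iv D2027) F7098
theorem F9981 : act 6 n2027 = n2027 := d39_1 D2027 (iv D2027) (iv D1406) F5056 D1406
theorem F9982 : act 8 n2027 = n2027 := d42_2 F7099 D2027 (iv D2027)
def n2028 : Q := act 5 n1408
theorem D2028 : act 5 n1408 = n2028 := rfl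
theorem F9983 : act 2 n2028 = n2028 := d19_1 D2028 (iv D2028) F7105
theorem F9984 : act 4 n2028 = n2028 := d30_1 D2028 (iv D2028) F7106 F5068 (iv F7106)
theorem F9985 : act 6 n2028 = n2028 := d35_2 D1408 D2028 (iv D2028) (iv D1408) F5063
theorem F9986 : act 8 n2028 = n2028 := d37_2 F7107 D2028 (iv D2028)
def n2029 : Q := act 7 n1408
theorem D2029 : act 7 n1408 = n2029 := rfl
theorem F9987 : act 2 n2029 = n2029 := d21_1 D2029 (iv D2029) F7105
theorem F9988 : act 4 n2029 = n1409 := d32_1 D2029 (iv D1409) (iv F7106)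
theorem F9989 : act 6 n2029 = n2029 := d39_1 D2029 (iv D2029) (iv D1408) F5064 D1408
theorem F9990 : act 8 n2029 = n2029 := d42_2 F7107 D2029 (iv D2029)
def n2030 : Q := act 3 n1410
theorem D2030 : act 3 n1410 = n2030 := rfl
theorem F9991 : act 0 n2030 = n1411 := d2_1 D2030 (iv D1411) (iv F7113)
theorem F9992 : act 4 n2030 = n1442 := d24_2 D1410 D2030 (iv D1442) (iv D1005) (iv F5075)
theorem F9993 : act 6 n2030 = n2030 := d26_2 F7115 D2030 (iv D2030)
theorem F9994 : act 7 n2030 = n1417 := d27_2 (iv F7116) D2030 (iv D1417)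
theorem F9995 : act 9 n2030 = n2030 := d29_2 F7117 D2030 (iv D2030)
def n2031 : Q := act 5 n1410
theorem D2031 : act 5 n1410 = n2031 := rfl
theorem F9996 : act 0 n2031 = n1412 := d4_1 D2031 (iv D1412) (iv F7113)
theorem F9997 : act 2 n2031 = n2031 := d19_1 D2031 (iv D2031) F7114
theorem F9998 : act 4 n2031 = n2031 := d30_1 D2031 (iv D2031) (iv D1410) F5076 D1410
theorem F9999 : act 7 n2031 = n1418 := d36_2 (iv F7116) D2031 (iv D1418)
theorem F10000 : act 9 n2031 = n2031 := d38_2 F7117 D2031 (iv D2031)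
def n2032 : Q := act 2 n1411
theorem D2032 : act 2 n1411 = n2032 := rfl
theorem F10003 : act 4 n2032 = n1444 := d18_2 (iv F7119) D2032 (iv D1444)
theorem F10005 : act 7 n2032 = n1419 := d21_2 (iv F7121) D2032 (iv D1419)
def n2033 : Q := act 5 n1411
theorem D2033 : act 5 n1411 = n2033 := rfl
theorem F10007 : act 1 n2033 = n1413 := d12_1 D2033 (iv D1413) (iv F7118)
theorem F10008 : act 3 n2033 = n1412 := d25_1 D2033 (iv D1412) D1411
theorem F10009 : act 7 n2033 = n1420 := d36_2 (iv F7121) D2033 (iv D1420)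
theorem F10010 : act 9 n2033 = n2033 := d38_2 F7122 D2033 (iv D2033)
def n2034 : Q := act 8 n1411
theorem D2034 : act 8 n1411 = n2034 := rfl
theorem F10011 : act 1 n2034 = n1414 := d15_1 D2034 (iv D1414) (iv F7118)
theorem F10012 : act 4 n2034 = n1446 := d33_1 D2034 (iv D1446) (iv F7119)
def n2035 : Q := act 6 n1412
theorem D2035 : act 6 n1412 = n2035 := rfl
theorem F10015 : act 1 n2035 = n1415 := d13_1 D2035 (iv D1415) (iv F7123)
theorem F10016 : act 2 n2035 = n2035 := d20_1 D2035 (iv D2035) F7124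
theorem F10017 : act 4 n2035 = n2035 := d31_1 D2035 (iv D2035) F7125
theorem F10018 : act 5 n2035 = n2035 := d35_1 D2035 (iv D2035) (iv D1412) F5082 D1412
theorem F10019 : act 9 n2035 = n2035 := d41_2 F7127 D2035 (iv D2035)
def n2036 : Q := act 4 n1413
theorem D2036 : act 4 n1413 = n2036 := rfl
theorem F10020 : act 2 n2036 = n2036 := d18_1 D2036 (iv D2036) F7128
theorem F10021 : act 3 n2036 = n2036 := d24_1 D2036 (iv D2036) F7129 F5091 (iv F7129)
theorem F10022 : act 5 n2036 = n1448 := d30_2 D1413 D2036 (iv D1448) (iv D1008) (iv F5086)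
theorem F10023 : act 7 n2036 = n1423 := d32_2 (iv F7130) D2036 (iv D1423)
theorem F10024 : act 9 n2036 = n2036 := d34_2 F7131 D2036 (iv D2036)
def n2037 : Q := act 6 n1413
theorem D2037 : act 6 n1413 = n2037 := rfl
theorem F10025 : act 2 n2037 = n2037 := d20_1 D2037 (iv D2037) F7128
theorem F10026 : act 3 n2037 = n1415 := d26_1 D2037 (iv D1415) (iv F7129)
theorem F10027 : act 5 n2037 = n2037 := d35_1 D2037 (iv D2037) (iv D1413) F5087 D1413
theorem F10028 : act 9 n2037 = n2037 := d41_2 F7131 D2037 (iv D2037)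
def n2038 : Q := act 8 n1413
theorem D2038 : act 8 n1413 = n2038 := rfl
theorem F10029 : act 2 n2038 = n2038 := d22_1 D2038 (iv D2038) F7128
theorem F10030 : act 5 n2038 = n1414 := d37_1 D2038 (iv D1414) D1413
theorem F10031 : act 7 n2038 = n1425 := d42_1 D2038 (iv D1425) (iv F7130)
def n2039 : Q := act 9 n1414
theorem D2039 : act 9 n1414 = n2039 := rfl
def n2040 : Q := act 7 n1415
theorem D2040 : act 7 n1415 = n2040 := rfl
theorem F10037 : act 2 n2040 = n1416 := d21_1 D2040 (iv D1416) (iv F7136)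
theorem F10038 : act 4 n2040 = n2040 := d32_1 D2040 (iv D2040) F7137
theorem F10039 : act 5 n2040 = n2040 := d36_1 D2040 (iv D2040) F7138
theorem F10040 : act 6 n2040 = n1427 := d39_1 D2040 (iv D1427) (iv D991) (iv F5092) D1415
theorem F10041 : act 9 n2040 = n2040 := d43_2 F7139 D2040 (iv D2040)
def n2041 : Q := act 2 n1417
theorem D2041 : act 2 n1417 = n2041 := rfl
theorem F10042 : act 0 n2041 = n1419 := d1_1 D2041 (iv D1419) (iv F7146)
theorem F10044 : act 4 n2041 = n1452 := d18_2 (iv F7147) D2041 (iv D1452)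
theorem F10045 : act 6 n2041 = n1428 := d20_2 (iv F7148) D2041 (iv D1428)
def n2042 : Q := act 5 n1417
theorem D2042 : act 5 n1417 = n2042 := rfl
theorem F10047 : act 0 n2042 = n1420 := d4_1 D2042 (iv D1420) (iv F7146)
theorem F10048 : act 3 n2042 = n1418 := d25_1 D2042 (iv D1418) D1417
theorem F10049 : act 9 n2042 = n2042 := d38_2 F7149 D2042 (iv D2042)
def n2043 : Q := act 8 n1417
theorem D2043 : act 8 n1417 = n2043 := rfl
theorem F10051 : act 4 n2043 = n1454 := d33_1 D2043 (iv D1454) (iv F7147)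
theorem F10052 : act 6 n2043 = n1430 := d40_1 D2043 (iv D1430) (iv F7148)
def n2044 : Q := act 6 n1418
theorem D2044 : act 6 n1418 = n2044 := rfl
theorem F10053 : act 0 n2044 = n1422 := d5_1 D2044 (iv D1422) (iv F7150)
theorem F10054 : act 2 n2044 = n2044 := d20_1 D2044 (iv D2044) F7151
theorem F10055 : act 4 n2044 = n2044 := d31_1 D2044 (iv D2044) F7152
theorem F10056 : act 5 n2044 = n1431 := d35_1 D2044 (iv D1431) (iv D994) (iv F5101) D1418
theorem F10057 : act 9 n2044 = n2044 := d41_2 F7153 D2044 (iv D2044)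
def n2045 : Q := act 5 n1419
theorem D2045 : act 5 n1419 = n2045 := rfl
theorem F10059 : act 2 n2045 = n1420 := d19_1 D2045 (iv D1420) D1419
def n2046 : Q := act 8 n1419
theorem D2046 : act 8 n1419 = n2046 := rfl
theorem F10063 : act 2 n2046 = n1421 := d22_1 D2046 (iv D1421) D1419
theorem F10064 : act 4 n2046 = n1456 := d33_1 D2046 (iv D1456) (iv F7156)
theorem F10065 : act 6 n2046 = n1433 := d40_1 D2046 (iv D1433) (iv F7157)
def n2047 : Q := act 4 n1420
theorem D2047 : act 4 n1420 = n2047 := rfl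
theorem F10066 : act 1 n2047 = n1423 := d11_1 D2047 (iv D1423) (iv F7159)
theorem F10067 : act 3 n2047 = n2047 := d24_1 D2047 (iv D2047) F7160 F5109 (iv F7160)
theorem F10068 : act 5 n2047 = n1457 := d30_2 D1420 D2047 (iv D1457) (iv D1014) (iv F5104)
theorem F10069 : act 9 n2047 = n2047 := d34_2 F7161 D2047 (iv D2047)
def n2048 : Q := act 6 n1420
theorem D2048 : act 6 n1420 = n2048 := rfl
theorem F10070 : act 1 n2048 = n1424 := d13_1 D2048 (iv D1424) (iv F7159)
theorem F10071 : act 3 n2048 = n1422 := d26_1 D2048 (iv D1422) (iv F7160)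
theorem F10072 : act 5 n2048 = n1434 := d35_1 D2048 (iv D1434) (iv D996) (iv F5105) D1420
theorem F10073 : act 9 n2048 = n2048 := d41_2 F7161 D2048 (iv D2048)
def n2049 : Q := act 8 n1420
theorem D2049 : act 8 n1420 = n2049 := rfl
theorem F10074 : act 1 n2049 = n1425 := d15_1 D2049 (iv D1425) (iv F7159)
def n2050 : Q := act 9 n1421
theorem D2050 : act 9 n1421 = n2050 := rfl
theorem F10076 : act 1 n2050 = n1426 := d16_1 D2050 (iv D1426) (iv F7162)
def n2051 : Q := act 7 n1422
theorem D2051 : act 7 n1422 = n2051 := rfl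
theorem F10080 : act 1 n2051 = n1427 := d14_1 D2051 (iv D1427) (iv F7165)
theorem F10081 : act 2 n2051 = n2051 := d21_1 D2051 (iv D2051) F7166
theorem F10082 : act 4 n2051 = n2051 := d32_1 D2051 (iv D2051) F7167
theorem F10083 : act 5 n2051 = n1437 := d36_1 D2051 (iv D1437) (iv F7168)
theorem F10084 : act 9 n2051 = n2051 := d43_2 F7169 D2051 (iv D2051)
def n2052 : Q := act 6 n1423
theorem D2052 : act 6 n1423 = n2052 := rfl
theorem F10085 : act 2 n2052 = n2052 := d20_1 D2052 (iv D2052) F7170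
theorem F10086 : act 3 n2052 = n2052 := d26_1 D2052 (iv D2052) F7171
theorem F10087 : act 4 n2052 = n1424 := d31_1 D2052 (iv D1424) D1423
theorem F10088 : act 5 n2052 = n2052 := d35_1 D2052 (iv D2052) F7172 F5231 (iv F7172)
theorem F10089 : act 9 n2052 = n2052 := d41_2 F7173 D2052 (iv D2052)
def n2053 : Q := act 8 n1423
theorem D2053 : act 8 n1423 = n2053 := rfl
theorem F10090 : act 2 n2053 = n2053 := d22_1 D2053 (iv D2053) F7170
theorem F10091 : act 4 n2053 = n1425 := d33_1 D2053 (iv D1425) D1423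
theorem F10092 : act 5 n2053 = n1460 := d37_1 D2053 (iv D1460) (iv F7172)
def n2054 : Q := act 7 n1424
theorem D2054 : act 7 n1424 = n2054 := rfl
theorem F10093 : act 2 n2054 = n2054 := d21_1 D2054 (iv D2054) F7174
theorem F10094 : act 3 n2054 = n1427 := d27_1 D2054 (iv D1427) (iv F7175)
theorem F10095 : act 5 n2054 = n1438 := d36_1 D2054 (iv D1438) (iv F7176)
theorem F10096 : act 9 n2054 = n2054 := d43_2 F7177 D2054 (iv D2054)
def n2055 : Q := act 8 n1424
theorem D2055 : act 8 n1424 = n2055 := rfl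
theorem F10097 : act 2 n2055 = n2055 := d22_1 D2055 (iv D2055) F7174
theorem F10098 : act 5 n2055 = n1439 := d37_1 D2055 (iv D1439) (iv F7176)
theorem F10099 : act 6 n2055 = n1425 := d40_1 D2055 (iv D1425) D1424
def n2056 : Q := act 9 n1425
theorem D2056 : act 9 n1425 = n2056 := rfl
def n2058 : Q := act 5 n1428
theorem D2058 : act 5 n1428 = n2058 := rfl
def n2060 : Q := act 6 n1429
theorem D2060 : act 6 n1429 = n2060 := rfl
theorem F10118 : act 0 n2060 = n1434 := d5_1 D2060 (iv D1434) (iv F7193)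
theorem F10119 : act 3 n2060 = n1431 := d26_1 D2060 (iv D1431) (iv F7194)
theorem F10120 : act 4 n2060 = n2060 := d31_1 D2060 (iv D2060) F7195
theorem F10121 : act 9 n2060 = n2060 := d41_2 F7197 D2060 (iv D2060)
def n2061 : Q := act 8 n1429
theorem D2061 : act 8 n1429 = n2061 := rfl
theorem F10124 : act 5 n2061 = n1430 := d37_1 D2061 (iv D1430) D1429
def n2062 : Q := act 9 n1430
theorem D2062 : act 9 n1430 = n2062 := rfl
def n2063 : Q := act 7 n1431
theorem D2063 : act 7 n1431 = n2063 := rfl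
theorem F10130 : act 0 n2063 = n1437 := d6_1 D2063 (iv D1437) (iv F7201)
theorem F10131 : act 2 n2063 = n2063 := d21_1 D2063 (iv D2063) F7202
theorem F10132 : act 4 n2063 = n1441 := d32_1 D2063 (iv D1441) (iv F7203)
theorem F10133 : act 6 n2063 = n2063 := d39_1 D2063 (iv D2063) (iv D1431) F5133 D1431
theorem F10134 : act 9 n2063 = n2063 := d43_2 F7204 D2063 (iv D2063)
def n2064 : Q := act 6 n1432
theorem D2064 : act 6 n1432 = n2064 := rfl
theorem F10136 : act 2 n2064 = n1434 := d20_1 D2064 (iv D1434) (iv F7206)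
def n2065 : Q := act 8 n1432
theorem D2065 : act 8 n1432 = n2065 := rfl
theorem F10141 : act 2 n2065 = n1435 := d22_1 D2065 (iv D1435) (iv F7206)
theorem F10143 : act 5 n2065 = n1433 := d37_1 D2065 (iv D1433) D1432
def n2067 : Q := act 9 n1433
theorem D2067 : act 9 n1433 = n2067 := rfl
theorem F10149 : act 2 n2067 = n1436 := d23_1 D2067 (iv D1436) (iv F7212)
def n2068 : Q := act 7 n1434
theorem D2068 : act 7 n1434 = n2068 := rfl
theorem F10153 : act 1 n2068 = n1438 := d14_1 D2068 (iv D1438) (iv F7215)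
theorem F10154 : act 3 n2068 = n1437 := d27_1 D2068 (iv D1437) (iv F7216)
theorem F10155 : act 4 n2068 = n2068 := d32_1 D2068 (iv D2068) F7217
theorem F10156 : act 6 n2068 = n2068 := d39_1 D2068 (iv D2068) (iv D1434) F5143 D1434
theorem F10157 : act 9 n2068 = n2068 := d43_2 F7218 D2068 (iv D2068)
def n2069 : Q := act 8 n1434
theorem D2069 : act 8 n1434 = n2069 := rfl
theorem F10158 : act 1 n2069 = n1439 := d15_1 D2069 (iv D1439) (iv F7215)
def n2070 : Q := act 9 n1435
theorem D2070 : act 9 n1435 = n2070 := rfl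
theorem F10161 : act 1 n2070 = n1440 := d16_1 D2070 (iv D1440) (iv F7219)
def n2071 : Q := act 8 n1438
theorem D2071 : act 8 n1438 = n2071 := rfl
theorem F10166 : act 2 n2071 = n2071 := d22_1 D2071 (iv D2071) F7232
theorem F10167 : act 4 n2071 = n2071 := d33_1 D2071 (iv D2071) F7234
theorem F10168 : act 6 n2071 = n2071 := d40_1 D2071 (iv D2071) F7235
theorem F10169 : act 7 n2071 = n1439 := d42_1 D2071 (iv D1439) D1438
def n2073 : Q := act 2 n1442
theorem D2073 : act 2 n1442 = n2073 := rfl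
theorem F10175 : act 3 n2073 = n1467 := d17_2 D1442 D2073 (iv D1467) (iv D1023) (iv F5180)
theorem F10177 : act 7 n2073 = n1452 := d21_2 (iv F7253) D2073 (iv D1452)
def n2074 : Q := act 5 n1442
theorem D2074 : act 5 n1442 = n2074 := rfl
theorem F10179 : act 0 n2074 = n1445 := d4_1 D2074 (iv D1445) (iv F7251)
theorem F10180 : act 3 n2074 = n1443 := d25_1 D2074 (iv D1443) D1442
theorem F10181 : act 7 n2074 = n1453 := d36_2 (iv F7253) D2074 (iv D1453)
theorem F10182 : act 9 n2074 = n2074 := d38_2 F7254 D2074 (iv D2074)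
def n2075 : Q := act 8 n1442
theorem D2075 : act 8 n1442 = n2075 := rfl
def n2076 : Q := act 6 n1443
theorem D2076 : act 6 n1443 = n2076 := rfl
theorem F10187 : act 0 n2076 = n1447 := d5_1 D2076 (iv D1447) (iv F7255)
theorem F10188 : act 2 n2076 = n1470 := d20_1 D2076 (iv D1470) (iv F7256)
theorem F10189 : act 4 n2076 = n2076 := d31_1 D2076 (iv D2076) F7257
theorem F10190 : act 5 n2076 = n2076 := d35_1 D2076 (iv D2076) (iv D1443) F5181 D1443
theorem F10191 : act 7 n2076 = n2076 := d39_2 (iv F7258) D2076 (iv D2076) F7258 F5215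
theorem F10192 : act 8 n2076 = n2076 := d40_2 F7259 D2076 (iv D2076)
theorem F10193 : act 9 n2076 = n2076 := d41_2 F7260 D2076 (iv D2076)
def n2077 : Q := act 5 n1444
theorem D2077 : act 5 n1444 = n2077 := rfl
theorem F10194 : act 1 n2077 = n2077 := d12_1 D2077 (iv D2077) F7261
theorem F10195 : act 2 n2077 = n1445 := d19_1 D2077 (iv D1445) D1444
theorem F10196 : act 3 n2077 = n1471 := d25_1 D2077 (iv D1471) (iv F7262)
def n2078 : Q := act 8 n1444
theorem D2078 : act 8 n1444 = n2078 := rfl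
theorem F10202 : act 7 n2078 = n1456 := d42_1 D2078 (iv D1456) (iv F7264)
def n2079 : Q := act 4 n1445
theorem D2079 : act 4 n1445 = n2079 := rfl
theorem F10203 : act 1 n2079 = n1448 := d11_1 D2079 (iv D1448) (iv F7266)
theorem F10204 : act 3 n2079 = n2079 := d24_1 D2079 (iv D2079) F7267 F5191 (iv F7267)
theorem F10205 : act 7 n2079 = n1457 := d32_2 (iv F7268) D2079 (iv D1457)
theorem F10206 : act 9 n2079 = n2079 := d34_2 F7269 D2079 (iv D2079)
def n2080 : Q := act 6 n1445
theorem D2080 : act 6 n1445 = n2080 := rfl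
theorem F10207 : act 1 n2080 = n1449 := d13_1 D2080 (iv D1449) (iv F7266)
theorem F10208 : act 3 n2080 = n1447 := d26_1 D2080 (iv D1447) (iv F7267)
theorem F10209 : act 5 n2080 = n2080 := d35_1 D2080 (iv D2080) (iv D1445) F5186 D1445
theorem F10210 : act 7 n2080 = n2080 := d39_2 (iv F7268) D2080 (iv D2080) F7268 F5224
theorem F10211 : act 9 n2080 = n2080 := d41_2 F7269 D2080 (iv D2080)
def n2081 : Q := act 8 n1445
theorem D2081 : act 8 n1445 = n2081 := rfl
theorem F10214 : act 5 n2081 = n1446 := d37_1 D2081 (iv D1446) D1445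
def n2082 : Q := act 9 n1446
theorem D2082 : act 9 n1446 = n2082 := rfl
def n2083 : Q := act 6 n1448
theorem D2083 : act 6 n1448 = n2083 := rfl
theorem F10221 : act 2 n2083 = n2083 := d20_1 D2083 (iv D2083) F7281
theorem F10222 : act 3 n2083 = n2083 := d26_1 D2083 (iv D2083) F7282
theorem F10223 : act 4 n2083 = n1449 := d31_1 D2083 (iv D1449) D1448
theorem F10224 : act 7 n2083 = n2083 := d39_2 (iv F7283) D2083 (iv D2083) F7283 F5231
theorem F10225 : act 9 n2083 = n2083 := d41_2 F7284 D2083 (iv D2083)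
def n2084 : Q := act 8 n1448
theorem D2084 : act 8 n1448 = n2084 := rfl
theorem F10226 : act 2 n2084 = n2084 := d22_1 D2084 (iv D2084) F7281
theorem F10227 : act 4 n2084 = n1450 := d33_1 D2084 (iv D1450) D1448
theorem F10228 : act 7 n2084 = n1460 := d42_1 D2084 (iv D1460) (iv F7283)
def n2085 : Q := act 8 n1449
theorem D2085 : act 8 n1449 = n2085 := rfl
theorem F10229 : act 2 n2085 = n2085 := d22_1 D2085 (iv D2085) F7285
theorem F10230 : act 3 n2085 = n2085 := d28_1 D2085 (iv D2085) F7286 F5207 (iv F7286)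
theorem F10231 : act 5 n2085 = n2085 := d37_1 D2085 (iv D2085) F7287
theorem F10232 : act 6 n2085 = n1450 := d40_1 D2085 (iv D1450) D1449
theorem F10233 : act 7 n2085 = n2085 := d42_1 D2085 (iv D2085) F7288
def n2088 : Q := act 5 n1452
theorem D2088 : act 5 n1452 = n2088 := rfl
theorem F10245 : act 3 n2088 = n1482 := d25_1 D2088 (iv D1482) (iv F7300)
def n2089 : Q := act 8 n1452
theorem D2089 : act 8 n1452 = n2089 := rfl
theorem F10250 : act 6 n2089 = n1463 := d40_1 D2089 (iv D1463) (iv F7301)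
def n2090 : Q := act 4 n1453
theorem D2090 : act 4 n1453 = n2090 := rfl
theorem F10251 : act 0 n2090 = n1457 := d3_1 D2090 (iv D1457) (iv F7303)
theorem F10252 : act 3 n2090 = n2090 := d24_1 D2090 (iv D2090) F7304 F5214 (iv F7304)
theorem F10253 : act 6 n2090 = n2090 := d31_2 F7305 D2090 (iv D2090)
theorem F10254 : act 9 n2090 = n2090 := d34_2 F7306 D2090 (iv D2090)
def n2091 : Q := act 8 n1453
theorem D2091 : act 8 n1453 = n2091 := rfl
theorem F10257 : act 5 n2091 = n1454 := d37_1 D2091 (iv D1454) D1453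
def n2092 : Q := act 9 n1454
theorem D2092 : act 9 n1454 = n2092 := rfl
theorem F10261 : act 6 n2092 = n1464 := d41_1 D2092 (iv D1464) (iv F7309)
def n2093 : Q := act 4 n1455
theorem D2093 : act 4 n1455 = n2093 := rfl
def n2094 : Q := act 8 n1455
theorem D2094 : act 8 n1455 = n2094 := rfl
theorem F10269 : act 5 n2094 = n1456 := d37_1 D2094 (iv D1456) D1455
def n2095 : Q := act 3 n1456
theorem D2095 : act 3 n1456 = n2095 := rfl
theorem F10273 : act 6 n2095 = n1465 := d26_2 (iv F7317) D2095 (iv D1465)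
theorem F10274 : act 8 n2095 = n1489 := d28_2 D1456 D2095 (iv D1489) (iv D1037) (iv F5219)
def n2097 : Q := act 8 n1457
theorem D2097 : act 8 n1457 = n2097 := rfl
theorem F10279 : act 1 n2097 = n1460 := d15_1 D2097 (iv D1460) (iv F7318)
def n2099 : Q := act 3 n1460
theorem D2099 : act 3 n1460 = n2099 := rfl
theorem F10287 : act 4 n2099 = n2099 := d24_2 (iv F7331) D2099 (iv D2099) F7331 F5234
theorem F10288 : act 6 n2099 = n2099 := d26_2 F7332 D2099 (iv D2099)
theorem F10289 : act 8 n2099 = n2099 := d28_2 D1460 D2099 (iv D2099) (iv D1460) F5230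
def n2102 : Q := act 3 n1463
theorem D2102 : act 3 n1463 = n2102 := rfl
theorem F10302 : act 8 n2102 = n1496 := d28_2 D1463 D2102 (iv D1496) (iv D1044) (iv F5242)
def n2103 : Q := act 9 n1463
theorem D2103 : act 9 n1463 = n2103 := rfl
def n2105 : Q := act 9 n1465
theorem D2105 : act 9 n1465 = n2105 := rfl
def n2107 : Q := act 5 n1467
theorem D2107 : act 5 n1467 = n2107 := rfl
theorem F10324 : act 2 n2107 = n1468 := d19_1 D2107 (iv D1468) D1467
def n2108 : Q := act 8 n1467
theorem D2108 : act 8 n1467 = n2108 := rfl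
theorem F10328 : act 2 n2108 = n1469 := d22_1 D2108 (iv D1469) D1467
def n2109 : Q := act 4 n1468
theorem D2109 : act 4 n1468 = n2109 := rfl
theorem F10332 : act 0 n2109 = n1473 := d3_1 D2109 (iv D1473) (iv F7367)
theorem F10333 : act 1 n2109 = n2109 := d11_1 D2109 (iv D2109) F7368
theorem F10334 : act 3 n2109 = n2109 := d24_1 D2109 (iv D2109) F7369 F5267 (iv F7369)
theorem F10335 : act 5 n2109 = n2109 := d30_2 D1468 D2109 (iv D2109) (iv D1468) F5261
theorem F10336 : act 7 n2109 = n1484 := d32_2 (iv F7370) D2109 (iv D1484)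
theorem F10337 : act 9 n2109 = n2109 := d34_2 F7371 D2109 (iv D2109)
def n2110 : Q := act 6 n1468
theorem D2110 : act 6 n1468 = n2110 := rfl
theorem F10338 : act 0 n2110 = n1474 := d5_1 D2110 (iv D1474) (iv F7367)
theorem F10339 : act 1 n2110 = n2110 := d13_1 D2110 (iv D2110) F7368
theorem F10340 : act 3 n2110 = n1470 := d26_1 D2110 (iv D1470) (iv F7369)
theorem F10341 : act 5 n2110 = n2110 := d35_1 D2110 (iv D2110) (iv D1468) F5262 D1468
theorem F10342 : act 7 n2110 = n2110 := d39_2 (iv F7370) D2110 (iv D2110) F7370 F5322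
theorem F10343 : act 9 n2110 = n2110 := d41_2 F7371 D2110 (iv D2110)
def n2111 : Q := act 8 n1468
theorem D2111 : act 8 n1468 = n2111 := rfl
def n2113 : Q := act 4 n1471
theorem D2113 : act 4 n1471 = n2113 := rfl
theorem F10356 : act 1 n2113 = n2113 := d11_1 D2113 (iv D2113) F7385
theorem F10357 : act 2 n2113 = n1473 := d18_1 D2113 (iv D1473) (iv F7386)
theorem F10360 : act 9 n2113 = n2113 := d34_2 F7388 D2113 (iv D2113)
def n2114 : Q := act 6 n1471
theorem D2114 : act 6 n1471 = n2114 := rfl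
theorem F10362 : act 2 n2114 = n1474 := d20_1 D2114 (iv D1474) (iv F7386)
theorem F10363 : act 5 n2114 = n2114 := d35_1 D2114 (iv D2114) (iv D1471) F5273 D1471
def n2115 : Q := act 8 n1471
theorem D2115 : act 8 n1471 = n2115 := rfl
theorem F10367 : act 2 n2115 = n1475 := d22_1 D2115 (iv D1475) (iv F7386)
def n2116 : Q := act 3 n1472
theorem D2116 : act 3 n1472 = n2116 := rfl
def n2118 : Q := act 6 n1473
theorem D2118 : act 6 n1473 = n2118 := rfl
theorem F10380 : act 1 n2118 = n1477 := d13_1 D2118 (iv D1477) (iv F7394)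
theorem F10381 : act 3 n2118 = n2118 := d26_1 D2118 (iv D2118) F7395
theorem F10382 : act 4 n2118 = n1474 := d31_1 D2118 (iv D1474) D1473
theorem F10383 : act 7 n2118 = n2118 := d39_2 (iv F7397) D2118 (iv D2118) F7397 F5340
theorem F10384 : act 9 n2118 = n2118 := d41_2 F7398 D2118 (iv D2118)
def n2119 : Q := act 8 n1473
theorem D2119 : act 8 n1473 = n2119 := rfl
theorem F10385 : act 1 n2119 = n1478 := d15_1 D2119 (iv D1478) (iv F7394)
theorem F10386 : act 4 n2119 = n1475 := d33_1 D2119 (iv D1475) D1473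
def n2120 : Q := act 8 n1474
theorem D2120 : act 8 n1474 = n2120 := rfl
theorem F10389 : act 1 n2120 = n1479 := d15_1 D2120 (iv D1479) (iv F7399)
theorem F10390 : act 3 n2120 = n2120 := d28_1 D2120 (iv D2120) F7400 F5289 (iv F7400)
def n2122 : Q := act 5 n1477
theorem D2122 : act 5 n1477 = n2122 := rfl
theorem F10399 : act 0 n2122 = n2122 := d4_1 D2122 (iv D2122) F7414
theorem F10400 : act 2 n2122 = n2122 := d19_1 D2122 (iv D2122) F7415
theorem F10401 : act 3 n2122 = n2122 := d25_1 D2122 (iv D2122) F7416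
theorem F10402 : act 4 n2122 = n2122 := d30_1 D2122 (iv D2122) F7417 F5300 (iv F7417)
theorem F10403 : act 6 n2122 = n2122 := d35_2 D1477 D2122 (iv D2122) (iv D1477) F5294
theorem F10404 : act 7 n2122 = n2122 := d36_2 F7418 D2122 (iv D2122)
theorem F10405 : act 9 n2122 = n2122 := d38_2 F7419 D2122 (iv D2122)
def n2123 : Q := act 8 n1477
theorem D2123 : act 8 n1477 = n2123 := rfl
theorem F10406 : act 0 n2123 = n2123 := d7_1 D2123 (iv D2123) F7414
theorem F10407 : act 2 n2123 = n2123 := d22_1 D2123 (iv D2123) F7415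
theorem F10408 : act 4 n2123 = n1479 := d33_1 D2123 (iv D1479) (iv F7417)
theorem F10409 : act 6 n2123 = n1478 := d40_1 D2123 (iv D1478) D1477
theorem F10410 : act 7 n2123 = n2123 := d42_1 D2123 (iv D2123) F7418
def n2124 : Q := act 3 n1478
theorem D2124 : act 3 n1478 = n2124 := rfl
theorem F10411 : act 0 n2124 = n2124 := d2_1 D2124 (iv D2124) F7420
theorem F10412 : act 4 n2124 = n2124 := d24_2 (iv F7422) D2124 (iv D2124) F7422 F5305
theorem F10413 : act 5 n2124 = n2124 := d25_2 F7423 D2124 (iv D2124)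
theorem F10414 : act 7 n2124 = n1493 := d27_2 (iv F7424) D2124 (iv D1493)
theorem F10415 : act 8 n2124 = n2124 := d28_2 D1478 D2124 (iv D2124) (iv D1478) F5293
def n2125 : Q := act 9 n1478
theorem D2125 : act 9 n1478 = n2125 := rfl
def n2126 : Q := act 9 n1479
theorem D2126 : act 9 n1479 = n2126 := rfl
def n2130 : Q := act 8 n1482
theorem D2130 : act 8 n1482 = n2130 := rfl
theorem F10445 : act 2 n2130 = n1485 := d22_1 D2130 (iv D1485) (iv F7443)
def n2131 : Q := act 3 n1483
theorem D2131 : act 3 n1483 = n2131 := rfl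
def n2133 : Q := act 8 n1484
theorem D2133 : act 8 n1484 = n2133 := rfl
theorem F10458 : act 4 n2133 = n1485 := d33_1 D2133 (iv D1485) D1484
def n2136 : Q := act 8 n1487
theorem D2136 : act 8 n1487 = n2136 := rfl
theorem F10473 : act 2 n2136 = n1491 := d22_1 D2136 (iv D1491) (iv F7468)
theorem F10474 : act 4 n2136 = n1488 := d33_1 D2136 (iv D1488) D1487
def n2137 : Q := act 3 n1488
theorem D2137 : act 3 n1488 = n2137 := rfl
def n2138 : Q := act 9 n1488
theorem D2138 : act 9 n1488 = n2138 := rfl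
theorem F10482 : act 2 n2138 = n1492 := d23_1 D2138 (iv D1492) (iv F7473)
def n2140 : Q := act 9 n1489
theorem D2140 : act 9 n1489 = n2140 := rfl
theorem F10492 : act 3 n2140 = n1490 := d29_1 D2140 (iv D1490) D1489
def n2141 : Q := act 3 n1491
theorem D2141 : act 3 n1491 = n2141 := rfl
theorem F10494 : act 1 n2141 = n1493 := d10_1 D2141 (iv D1493) (iv F7484)
def n2143 : Q := act 2 n1493
theorem D2143 : act 2 n1493 = n2143 := rfl
theorem F10504 : act 0 n2143 = n2143 := d1_1 D2143 (iv D2143) F7493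
theorem F10505 : act 3 n2143 = n2143 := d17_2 D1493 D2143 (iv D2143) (iv D1493) F5352
theorem F10506 : act 4 n2143 = n2143 := d18_2 F7494 D2143 (iv D2143)
theorem F10507 : act 5 n2143 = n2143 := d19_2 F7495 D2143 (iv D2143)
theorem F10508 : act 6 n2143 = n2143 := d20_2 F7496 D2143 (iv D2143)
theorem F10509 : act 8 n2143 = n2143 := d22_2 F7497 D2143 (iv D2143)
def n2144 : Q := act 9 n1493
theorem D2144 : act 9 n1493 = n2144 := rfl
theorem F10511 : act 3 n2144 = n1494 := d29_1 D2144 (iv D1494) D1493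
def n2151 : Q := act 8 n1499
theorem D2151 : act 8 n1499 = n2151 := rfl
def n2152 : Q := act 6 n1500
theorem D2152 : act 6 n1500 = n2152 := rfl
theorem F10550 : act 0 n2152 = n2152 := d5_1 D2152 (iv D2152) F7529
theorem F10551 : act 1 n2152 = n2152 := d13_1 D2152 (iv D2152) F7530
theorem F10552 : act 2 n2152 = n2152 := d20_1 D2152 (iv D2152) F7531
theorem F10553 : act 3 n2152 = n2152 := d26_1 D2152 (iv D2152) F7532
theorem F10554 : act 4 n2152 = n1502 := d31_1 D2152 (iv D1502) (iv F7533)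
theorem F10555 : act 7 n2152 = n2152 := d39_2 D1500 D2152 (iv D2152) (iv D1500) F5395
theorem F10556 : act 8 n2152 = n2152 := d40_2 F7535 D2152 (iv D2152)
def n2153 : Q := act 9 n1500
theorem D2153 : act 9 n1500 = n2153 := rfl
theorem F10557 : act 0 n2153 = n2153 := d8_1 D2153 (iv D2153) F7529
theorem F10558 : act 1 n2153 = n2153 := d16_1 D2153 (iv D2153) F7530
theorem F10559 : act 2 n2153 = n2153 := d23_1 D2153 (iv D2153) F7531
theorem F10560 : act 3 n2153 = n2153 := d29_1 D2153 (iv D2153) F7532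
theorem F10561 : act 4 n2153 = n1503 := d34_1 D2153 (iv D1503) (iv F7533)
theorem F10562 : act 5 n2153 = n2153 := d38_1 D2153 (iv D2153) F7534
theorem F10563 : act 7 n2153 = n1501 := d43_1 D2153 (iv D1501) D1500
def n2154 : Q := act 8 n1501
theorem D2154 : act 8 n1501 = n2154 := rfl
theorem F10564 : act 0 n2154 = n2154 := d7_1 D2154 (iv D2154) F7536
theorem F10565 : act 1 n2154 = n2154 := d15_1 D2154 (iv D2154) F7537
theorem F10566 : act 2 n2154 = n2154 := d22_1 D2154 (iv D2154) F7538
theorem F10567 : act 4 n2154 = n1504 := d33_1 D2154 (iv D1504) (iv F7540)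
theorem F10568 : act 5 n2154 = n2154 := d37_1 D2154 (iv D2154) F7541
theorem F10569 : act 6 n2154 = n2154 := d40_1 D2154 (iv D2154) F7542
theorem F10570 : act 9 n2154 = n2154 := d44_2 D1501 D2154 (iv D2154) (iv D1501) F5396
def n2155 : Q := act 9 n1502
theorem D2155 : act 9 n1502 = n2155 := rfl
theorem F10571 : act 0 n2155 = n2155 := d8_1 D2155 (iv D2155) F7543
theorem F10572 : act 1 n2155 = n2155 := d16_1 D2155 (iv D2155) F7544
theorem F10573 : act 2 n2155 = n2155 := d23_1 D2155 (iv D2155) F7545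
theorem F10574 : act 3 n2155 = n1510 := d29_1 D2155 (iv D1510) (iv F7546)
theorem F10575 : act 5 n2155 = n2155 := d38_1 D2155 (iv D2155) F7547
theorem F10576 : act 6 n2155 = n1503 := d41_1 D2155 (iv D1503) D1502
theorem F10577 : act 7 n2155 = n2155 := d43_1 D2155 (iv D2155) F7548
def n2156 : Q := act 8 n1503
theorem D2156 : act 8 n1503 = n2156 := rfl
theorem F10578 : act 0 n2156 = n2156 := d7_1 D2156 (iv D2156) F7550
theorem F10579 : act 1 n2156 = n2156 := d15_1 D2156 (iv D2156) F7551
theorem F10580 : act 2 n2156 = n2156 := d22_1 D2156 (iv D2156) F7552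
theorem F10581 : act 5 n2156 = n1505 := d37_1 D2156 (iv D1505) (iv F7554)
theorem F10582 : act 7 n2156 = n1504 := d42_1 D2156 (iv D1504) (iv F7555)
theorem F10583 : act 9 n2156 = n2156 := d44_2 D1503 D2156 (iv D2156) (iv D1503) F5402
def n2157 : Q := act 3 n1504
theorem D2157 : act 3 n1504 = n2157 := rfl
theorem F10584 : act 0 n2157 = n2157 := d2_1 D2157 (iv D2157) F7556
theorem F10585 : act 1 n2157 = n2157 := d10_1 D2157 (iv D2157) F7557
theorem F10586 : act 5 n2157 = n1506 := d25_2 (iv F7559) D2157 (iv D1506)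
theorem F10587 : act 6 n2157 = n2157 := d26_2 F7560 D2157 (iv D2157)
theorem F10588 : act 8 n2157 = n1514 := d28_2 D1504 D2157 (iv D1514) (iv D1058) (iv F5406)
theorem F10589 : act 9 n2157 = n2157 := d29_2 F7561 D2157 (iv D2157)
def n2158 : Q := act 3 n1505
theorem D2158 : act 3 n1505 = n2158 := rfl
theorem F10590 : act 0 n2158 = n2158 := d2_1 D2158 (iv D2158) F7562
theorem F10591 : act 1 n2158 = n2158 := d10_1 D2158 (iv D2158) F7563
theorem F10592 : act 6 n2158 = n2158 := d26_2 F7566 D2158 (iv D2158)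
theorem F10593 : act 7 n2158 = n1506 := d27_2 (iv F7567) D2158 (iv D1506)
theorem F10594 : act 8 n2158 = n1516 := d28_2 D1505 D2158 (iv D1516) (iv D1060) (iv F5412)
theorem F10595 : act 9 n2158 = n2158 := d29_2 F7568 D2158 (iv D2158)
def n2159 : Q := act 2 n1506
theorem D2159 : act 2 n1506 = n2159 := rfl
theorem F10596 : act 0 n2159 = n2159 := d1_1 D2159 (iv D2159) F7569
theorem F10597 : act 3 n2159 = n2159 := d17_2 D1506 D2159 (iv D2159) (iv D1506) F5418
theorem F10598 : act 6 n2159 = n1507 := d20_2 (iv F7571) D2159 (iv D1507)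
theorem F10599 : act 8 n2159 = n1518 := d22_2 (iv F7572) D2159 (iv D1518)
theorem F10600 : act 9 n2159 = n2159 := d23_2 F7573 D2159 (iv D2159)
def n2160 : Q := act 4 n1506
theorem D2160 : act 4 n1506 = n2160 := rfl
theorem F10601 : act 0 n2160 = n2160 := d3_1 D2160 (iv D2160) F7569
theorem F10602 : act 1 n2160 = n2160 := d11_1 D2160 (iv D2160) F7570
theorem F10603 : act 3 n2160 = n2160 := d24_1 D2160 (iv D2160) (iv D1506) F5419 D1506
theorem F10604 : act 6 n2160 = n1508 := d31_2 (iv F7571) D2160 (iv D1508)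
theorem F10605 : act 8 n2160 = n1519 := d33_2 (iv F7572) D2160 (iv D1519)
theorem F10606 : act 9 n2160 = n2160 := d34_2 F7573 D2160 (iv D2160)
def n2161 : Q := act 1 n1507
theorem D2161 : act 1 n1507 = n2161 := rfl
theorem F10607 : act 2 n2161 = n2161 := d9_2 D1507 D2161 (iv D2161) (iv D1507) F5423
theorem F10608 : act 3 n2161 = n2161 := d10_2 F7575 D2161 (iv D2161)
theorem F10609 : act 5 n2161 = n2161 := d12_2 F7576 D2161 (iv D2161)
theorem F10610 : act 7 n2161 = n2161 := d14_2 F7577 D2161 (iv D2161)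
theorem F10611 : act 8 n2161 = n1522 := d15_2 (iv F7578) D2161 (iv D1522)
theorem F10612 : act 9 n2161 = n2161 := d16_2 F7579 D2161 (iv D2161)
def n2162 : Q := act 4 n1507
theorem D2162 : act 4 n1507 = n2162 := rfl
theorem F10613 : act 0 n2162 = n2162 := d3_1 D2162 (iv D2162) F7574
theorem F10614 : act 2 n2162 = n1508 := d18_1 D2162 (iv D1508) D1507
theorem F10615 : act 7 n2162 = n2162 := d32_2 F7577 D2162 (iv D2162)
theorem F10616 : act 8 n2162 = n1523 := d33_2 (iv F7578) D2162 (iv D1523)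
theorem F10617 : act 9 n2162 = n2162 := d34_2 F7579 D2162 (iv D2162)
def n2163 : Q := act 5 n1508
theorem D2163 : act 5 n1508 = n2163 := rfl
theorem F10618 : act 0 n2163 = n2163 := d4_1 D2163 (iv D2163) F7580
theorem F10619 : act 1 n2163 = n2163 := d12_1 D2163 (iv D2163) F7581
theorem F10620 : act 3 n2163 = n2163 := d25_1 D2163 (iv D2163) F7582
theorem F10621 : act 4 n2163 = n2163 := d30_1 D2163 (iv D2163) (iv D1508) F5424 D1508
theorem F10622 : act 7 n2163 = n2163 := d36_2 F7583 D2163 (iv D2163)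
theorem F10623 : act 8 n2163 = n1524 := d37_2 (iv F7584) D2163 (iv D1524)
theorem F10624 : act 9 n2163 = n2163 := d38_2 F7585 D2163 (iv D2163)
def n2164 : Q := act 9 n1509
theorem D2164 : act 9 n1509 = n2164 := rfl
theorem F10625 : act 0 n2164 = n2164 := d8_1 D2164 (iv D2164) F7586
theorem F10626 : act 1 n2164 = n2164 := d16_1 D2164 (iv D2164) F7587
theorem F10627 : act 2 n2164 = n1563 := d23_1 D2164 (iv D1563) (iv F7588)
theorem F10628 : act 3 n2164 = n2164 := d29_1 D2164 (iv D2164) F7589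
theorem F10629 : act 4 n2164 = n2164 := d34_1 D2164 (iv D2164) F7590
theorem F10630 : act 5 n2164 = n2164 := d38_1 D2164 (iv D2164) F7591
theorem F10631 : act 6 n2164 = n1511 := d41_1 D2164 (iv D1511) (iv F7592)
theorem F10632 : act 7 n2164 = n2164 := d43_1 D2164 (iv D2164) F7593
def n2165 : Q := act 8 n1510
theorem D2165 : act 8 n1510 = n2165 := rfl
theorem F10633 : act 0 n2165 = n2165 := d7_1 D2165 (iv D2165) F7594
theorem F10634 : act 1 n2165 = n2165 := d15_1 D2165 (iv D2165) F7595
theorem F10635 : act 2 n2165 = n1564 := d22_1 D2165 (iv D1564) (iv F7596)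
theorem F10636 : act 4 n2165 = n2165 := d33_1 D2165 (iv D2165) F7597
theorem F10637 : act 5 n2165 = n2165 := d37_1 D2165 (iv D2165) F7598
theorem F10638 : act 6 n2165 = n1512 := d40_1 D2165 (iv D1512) (iv F7599)
theorem F10639 : act 7 n2165 = n2165 := d42_1 D2165 (iv D2165) F7600
def n2166 : Q := act 8 n1511
theorem D2166 : act 8 n1511 = n2166 := rfl
theorem F10640 : act 0 n2166 = n2166 := d7_1 D2166 (iv D2166) F7601
theorem F10641 : act 1 n2166 = n2166 := d15_1 D2166 (iv D2166) F7602
theorem F10642 : act 2 n2166 = n1567 := d22_1 D2166 (iv D1567) (iv F7603)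
theorem F10643 : act 4 n2166 = n2166 := d33_1 D2166 (iv D2166) F7605
theorem F10644 : act 5 n2166 = n1515 := d37_1 D2166 (iv D1515) (iv F7606)
theorem F10645 : act 7 n2166 = n1513 := d42_1 D2166 (iv D1513) (iv F7607)
theorem F10646 : act 9 n2166 = n1512 := d44_2 D1511 D2166 (iv D1512) (iv D1056) D1055
def n2167 : Q := act 3 n1512
theorem D2167 : act 3 n1512 = n2167 := rfl
theorem F10647 : act 0 n2167 = n2167 := d2_1 D2167 (iv D2167) F7608
theorem F10648 : act 1 n2167 = n2167 := d10_1 D2167 (iv D2167) F7609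
theorem F10649 : act 5 n2167 = n1516 := d25_2 (iv F7612) D2167 (iv D1516)
theorem F10650 : act 7 n2167 = n1514 := d27_2 (iv F7613) D2167 (iv D1514)
def n2168 : Q := act 3 n1513
theorem D2168 : act 3 n1513 = n2168 := rfl
theorem F10651 : act 0 n2168 = n2168 := d2_1 D2168 (iv D2168) F7614
theorem F10652 : act 1 n2168 = n2168 := d10_1 D2168 (iv D2168) F7615
theorem F10653 : act 5 n2168 = n1517 := d25_2 (iv F7618) D2168 (iv D1517)
theorem F10654 : act 6 n2168 = n2168 := d26_2 F7619 D2168 (iv D2168)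
theorem F10655 : act 8 n2168 = n2168 := d28_2 D1513 D2168 (iv D2168) (iv D1513) F5450
theorem F10656 : act 9 n2168 = n1514 := d29_2 (iv F7620) D2168 (iv D1514)
def n2169 : Q := act 2 n1514
theorem D2169 : act 2 n1514 = n2169 := rfl
theorem F10657 : act 0 n2169 = n2169 := d1_1 D2169 (iv D2169) F7621
theorem F10658 : act 3 n2169 = n1572 := d17_2 D1514 D2169 (iv D1572) (iv D1098) (iv F5456)
theorem F10659 : act 5 n2169 = n1518 := d19_2 (iv F7623) D2169 (iv D1518)
theorem F10660 : act 6 n2169 = n2169 := d20_2 F7624 D2169 (iv D2169)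
def n2170 : Q := act 4 n1514
theorem D2170 : act 4 n1514 = n2170 := rfl
theorem F10661 : act 0 n2170 = n2170 := d3_1 D2170 (iv D2170) F7621
theorem F10662 : act 1 n2170 = n2170 := d11_1 D2170 (iv D2170) F7622
theorem F10663 : act 3 n2170 = n2170 := d24_1 D2170 (iv D2170) (iv D1514) F5457 D1514
theorem F10664 : act 6 n2170 = n2170 := d31_2 F7624 D2170 (iv D2170)
def n2171 : Q := act 3 n1515
theorem D2171 : act 3 n1515 = n2171 := rfl
theorem F10665 : act 0 n2171 = n2171 := d2_1 D2171 (iv D2171) F7625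
theorem F10666 : act 1 n2171 = n2171 := d10_1 D2171 (iv D2171) F7626
theorem F10667 : act 6 n2171 = n2171 := d26_2 F7629 D2171 (iv D2171)
theorem F10668 : act 7 n2171 = n1517 := d27_2 (iv F7630) D2171 (iv D1517)
theorem F10669 : act 8 n2171 = n2171 := d28_2 D1515 D2171 (iv D2171) (iv D1515) F5463
theorem F10670 : act 9 n2171 = n1516 := d29_2 (iv F7631) D2171 (iv D1516)
def n2172 : Q := act 2 n1516
theorem D2172 : act 2 n1516 = n2172 := rfl
theorem F10671 : act 0 n2172 = n2172 := d1_1 D2172 (iv D2172) F7632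
theorem F10672 : act 3 n2172 = n1576 := d17_2 D1516 D2172 (iv D1576) (iv D1101) (iv F5469)
theorem F10673 : act 6 n2172 = n2172 := d20_2 F7634 D2172 (iv D2172)
theorem F10674 : act 7 n2172 = n1518 := d21_2 (iv F7635) D2172 (iv D1518)
def n2173 : Q := act 4 n1516
theorem D2173 : act 4 n1516 = n2173 := rfl
theorem F10675 : act 0 n2173 = n2173 := d3_1 D2173 (iv D2173) F7632
theorem F10676 : act 1 n2173 = n2173 := d11_1 D2173 (iv D2173) F7633
theorem F10677 : act 3 n2173 = n1528 := d24_1 D2173 (iv D1528) (iv D1068) (iv F5470) D1516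
theorem F10678 : act 6 n2173 = n2173 := d31_2 F7634 D2173 (iv D2173)
theorem F10679 : act 7 n2173 = n1519 := d32_2 (iv F7635) D2173 (iv D1519)
def n2174 : Q := act 2 n1517
theorem D2174 : act 2 n1517 = n2174 := rfl
theorem F10680 : act 0 n2174 = n2174 := d1_1 D2174 (iv D2174) F7636
theorem F10681 : act 3 n2174 = n1579 := d17_2 D1517 D2174 (iv D1579) (iv D1103) (iv F5475)
theorem F10682 : act 6 n2174 = n1520 := d20_2 (iv F7638) D2174 (iv D1520)
theorem F10683 : act 8 n2174 = n2174 := d22_2 F7639 D2174 (iv D2174)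
theorem F10684 : act 9 n2174 = n1518 := d23_2 (iv F7640) D2174 (iv D1518)
def n2175 : Q := act 4 n1517
theorem D2175 : act 4 n1517 = n2175 := rfl
theorem F10685 : act 0 n2175 = n2175 := d3_1 D2175 (iv D2175) F7636
theorem F10686 : act 1 n2175 = n2175 := d11_1 D2175 (iv D2175) F7637
theorem F10687 : act 3 n2175 = n1531 := d24_1 D2175 (iv D1531) (iv D1070) (iv F5476) D1517
theorem F10688 : act 6 n2175 = n1521 := d31_2 (iv F7638) D2175 (iv D1521)
theorem F10689 : act 8 n2175 = n2175 := d33_2 F7639 D2175 (iv D2175)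
theorem F10690 : act 9 n2175 = n1519 := d34_2 (iv F7640) D2175 (iv D1519)
def n2176 : Q := act 1 n1518
theorem D2176 : act 1 n1518 = n2176 := rfl
theorem F10691 : act 2 n2176 = n2176 := d9_2 D1518 D2176 (iv D2176) (iv D1518) F5480
theorem F10692 : act 3 n2176 = n1581 := d10_2 (iv F7642) D2176 (iv D1581)
theorem F10693 : act 6 n2176 = n1522 := d13_2 (iv F7643) D2176 (iv D1522)
def n2177 : Q := act 4 n1518
theorem D2177 : act 4 n1518 = n2177 := rfl
theorem F10694 : act 0 n2177 = n2177 := d3_1 D2177 (iv D2177) F7641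
theorem F10695 : act 2 n2177 = n1519 := d18_1 D2177 (iv D1519) D1518
theorem F10696 : act 6 n2177 = n1523 := d31_2 (iv F7643) D2177 (iv D1523)
def n2178 : Q := act 5 n1519
theorem D2178 : act 5 n1519 = n2178 := rfl
theorem F10697 : act 0 n2178 = n2178 := d4_1 D2178 (iv D2178) F7644
theorem F10698 : act 1 n2178 = n2178 := d12_1 D2178 (iv D2178) F7645
theorem F10699 : act 3 n2178 = n1534 := d25_1 D2178 (iv D1534) (iv F7646)
def n2179 : Q := act 1 n1520
theorem D2179 : act 1 n1520 = n2179 := rfl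
theorem F10700 : act 2 n2179 = n2179 := d9_2 D1520 D2179 (iv D2179) (iv D1520) F5483
theorem F10701 : act 3 n2179 = n1586 := d10_2 (iv F7649) D2179 (iv D1586)
theorem F10702 : act 5 n2179 = n2179 := d12_2 F7650 D2179 (iv D2179)
theorem F10703 : act 7 n2179 = n2179 := d14_2 F7651 D2179 (iv D2179)
theorem F10704 : act 8 n2179 = n2179 := d15_2 F7652 D2179 (iv D2179)
theorem F10705 : act 9 n2179 = n1522 := d16_2 (iv F7653) D2179 (iv D1522)
def n2180 : Q := act 4 n1520
theorem D2180 : act 4 n1520 = n2180 := rfl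
theorem F10706 : act 0 n2180 = n2180 := d3_1 D2180 (iv D2180) F7648
theorem F10707 : act 2 n2180 = n1521 := d18_1 D2180 (iv D1521) D1520
theorem F10708 : act 7 n2180 = n2180 := d32_2 F7651 D2180 (iv D2180)
theorem F10709 : act 8 n2180 = n2180 := d33_2 F7652 D2180 (iv D2180)
theorem F10710 : act 9 n2180 = n1523 := d34_2 (iv F7653) D2180 (iv D1523)
def n2181 : Q := act 5 n1521
theorem D2181 : act 5 n1521 = n2181 := rfl
theorem F10711 : act 0 n2181 = n2181 := d4_1 D2181 (iv D2181) F7654
theorem F10712 : act 1 n2181 = n2181 := d12_1 D2181 (iv D2181) F7655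
theorem F10713 : act 3 n2181 = n1539 := d25_1 D2181 (iv D1539) (iv F7656)
theorem F10714 : act 4 n2181 = n2181 := d30_1 D2181 (iv D2181) (iv D1521) F5484 D1521
theorem F10715 : act 7 n2181 = n2181 := d36_2 F7657 D2181 (iv D2181)
theorem F10716 : act 8 n2181 = n2181 := d37_2 F7658 D2181 (iv D2181)
theorem F10717 : act 9 n2181 = n1524 := d38_2 (iv F7659) D2181 (iv D1524)
def n2182 : Q := act 0 n1522
theorem D2182 : act 0 n1522 = n2182 := rfl
theorem F10718 : act 1 n2182 = n2182 := d0_2 D1522 D2182 (iv D2182) (iv D1522) F5488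
theorem F10719 : act 2 n2182 = n2182 := d1_2 F7660 D2182 (iv D2182)
theorem F10720 : act 3 n2182 = n1589 := d2_2 (iv F7661) D2182 (iv D1589)
theorem F10721 : act 5 n2182 = n2182 := d4_2 F7662 D2182 (iv D2182)
theorem F10722 : act 7 n2182 = n2182 := d6_2 F7663 D2182 (iv D2182)
def n2183 : Q := act 4 n1522
theorem D2183 : act 4 n1522 = n2183 := rfl
theorem F10723 : act 1 n2183 = n1523 := d11_1 D2183 (iv D1523) D1522
theorem F10724 : act 2 n2183 = n2183 := d18_1 D2183 (iv D2183) F7660
theorem F10725 : act 7 n2183 = n2183 := d32_2 F7663 D2183 (iv D2183)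
def n2184 : Q := act 3 n1523
theorem D2184 : act 3 n1523 = n2184 := rfl
theorem F10726 : act 0 n2184 = n2184 := d2_1 D2184 (iv D2184) F7664
theorem F10727 : act 2 n2184 = n1542 := d17_1 D2184 (iv D1542) F5559 (iv F5494) (iv F7665)
theorem F10728 : act 4 n2184 = n1591 := d24_2 D1523 D2184 (iv D1591) (iv D1110) (iv F5489)
theorem F10729 : act 7 n2184 = n2184 := d27_2 F7666 D2184 (iv D2184)
def n2185 : Q := act 5 n1523
theorem D2185 : act 5 n1523 = n2185 := rfl
theorem F10730 : act 0 n2185 = n2185 := d4_1 D2185 (iv D2185) F7664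
theorem F10731 : act 2 n2185 = n1524 := d19_1 D2185 (iv D1524) (iv F7665)
theorem F10732 : act 4 n2185 = n2185 := d30_1 D2185 (iv D2185) (iv D1523) F5490 D1523
theorem F10733 : act 7 n2185 = n2185 := d36_2 F7666 D2185 (iv D2185)
def n2186 : Q := act 6 n1524
theorem D2186 : act 6 n1524 = n2186 := rfl
theorem F10734 : act 0 n2186 = n2186 := d5_1 D2186 (iv D2186) F7667
theorem F10735 : act 1 n2186 = n2186 := d13_1 D2186 (iv D2186) F7668
theorem F10736 : act 3 n2186 = n1544 := d26_1 D2186 (iv D1544) (iv F7669)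
theorem F10737 : act 4 n2186 = n2186 := d31_1 D2186 (iv D2186) F7670
def n2187 : Q := act 3 n1525
theorem D2187 : act 3 n1525 = n2187 := rfl
theorem F10738 : act 0 n2187 = n2187 := d2_1 D2187 (iv D2187) F7672
theorem F10739 : act 1 n2187 = n2187 := d10_1 D2187 (iv D2187) F7673
theorem F10740 : act 5 n2187 = n2187 := d25_2 F7676 D2187 (iv D2187)
theorem F10741 : act 6 n2187 = n2187 := d26_2 F7677 D2187 (iv D2187)
theorem F10742 : act 7 n2187 = n1529 := d27_2 (iv F7678) D2187 (iv D1529)
theorem F10743 : act 8 n2187 = n1526 := d28_2 D1525 D2187 (iv D1526) (iv D1067) (iv F5499)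
theorem F10744 : act 9 n2187 = n2187 := d29_2 F7679 D2187 (iv D2187)
def n2188 : Q := act 2 n1526
theorem D2188 : act 2 n1526 = n2188 := rfl
theorem F10745 : act 0 n2188 = n2188 := d1_1 D2188 (iv D2188) F7680
theorem F10746 : act 3 n2188 = n1594 := d17_2 D1526 D2188 (iv D1594) (iv D1112) (iv F5506)
theorem F10747 : act 5 n2188 = n2188 := d19_2 F7682 D2188 (iv D2188)
theorem F10748 : act 6 n2188 = n2188 := d20_2 F7683 D2188 (iv D2188)
theorem F10749 : act 7 n2188 = n1530 := d21_2 (iv F7684) D2188 (iv D1530)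
theorem F10750 : act 9 n2188 = n1527 := d23_2 (iv F7685) D2188 (iv D1527)
def n2189 : Q := act 4 n1526
theorem D2189 : act 4 n1526 = n2189 := rfl
theorem F10751 : act 0 n2189 = n2189 := d3_1 D2189 (iv D2189) F7680
theorem F10752 : act 1 n2189 = n2189 := d11_1 D2189 (iv D2189) F7681
theorem F10753 : act 6 n2189 = n2189 := d31_2 F7683 D2189 (iv D2189)
theorem F10754 : act 7 n2189 = n1531 := d32_2 (iv F7684) D2189 (iv D1531)
theorem F10755 : act 9 n2189 = n1528 := d34_2 (iv F7685) D2189 (iv D1528)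
def n2190 : Q := act 1 n1527
theorem D2190 : act 1 n1527 = n2190 := rfl
theorem F10756 : act 2 n2190 = n2190 := d9_2 D1527 D2190 (iv D2190) (iv D1527) F5512
theorem F10757 : act 3 n2190 = n1596 := d10_2 (iv F7687) D2190 (iv D1596)
theorem F10758 : act 5 n2190 = n2190 := d12_2 F7688 D2190 (iv D2190)
theorem F10759 : act 6 n2190 = n2190 := d13_2 F7689 D2190 (iv D2190)
theorem F10760 : act 7 n2190 = n1532 := d14_2 (iv F7690) D2190 (iv D1532)
theorem F10761 : act 8 n2190 = n2190 := d15_2 F7691 D2190 (iv D2190)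
def n2191 : Q := act 4 n1527
theorem D2191 : act 4 n1527 = n2191 := rfl
theorem F10762 : act 0 n2191 = n2191 := d3_1 D2191 (iv D2191) F7686
theorem F10763 : act 2 n2191 = n1528 := d18_1 D2191 (iv D1528) D1527
theorem F10764 : act 6 n2191 = n2191 := d31_2 F7689 D2191 (iv D2191)
theorem F10765 : act 7 n2191 = n1533 := d32_2 (iv F7690) D2191 (iv D1533)
theorem F10766 : act 8 n2191 = n2191 := d33_2 F7691 D2191 (iv D2191)
def n2192 : Q := act 5 n1528
theorem D2192 : act 5 n1528 = n2192 := rfl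
theorem F10767 : act 0 n2192 = n2192 := d4_1 D2192 (iv D2192) F7692
theorem F10768 : act 1 n2192 = n2192 := d12_1 D2192 (iv D2192) F7693
theorem F10769 : act 4 n2192 = n2192 := d30_1 D2192 (iv D2192) (iv D1528) F5513 D1528
theorem F10770 : act 7 n2192 = n1534 := d36_2 (iv F7695) D2192 (iv D1534)
theorem F10771 : act 8 n2192 = n2192 := d37_2 F7696 D2192 (iv D2192)
def n2193 : Q := act 2 n1529
theorem D2193 : act 2 n1529 = n2193 := rfl
theorem F10772 : act 0 n2193 = n2193 := d1_1 D2193 (iv D2193) F7697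
theorem F10773 : act 3 n2193 = n2193 := d17_2 D1529 D2193 (iv D2193) (iv D1529) F5519
theorem F10774 : act 5 n2193 = n2193 := d19_2 F7699 D2193 (iv D2193)
theorem F10775 : act 6 n2193 = n1535 := d20_2 (iv F7700) D2193 (iv D1535)
theorem F10776 : act 8 n2193 = n1530 := d22_2 (iv F7701) D2193 (iv D1530)
theorem F10777 : act 9 n2193 = n2193 := d23_2 F7702 D2193 (iv D2193)
def n2194 : Q := act 4 n1529
theorem D2194 : act 4 n1529 = n2194 := rfl
theorem F10778 : act 0 n2194 = n2194 := d3_1 D2194 (iv D2194) F7697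
theorem F10779 : act 1 n2194 = n2194 := d11_1 D2194 (iv D2194) F7698
theorem F10780 : act 3 n2194 = n2194 := d24_1 D2194 (iv D2194) (iv D1529) F5520 D1529
theorem F10781 : act 6 n2194 = n1536 := d31_2 (iv F7700) D2194 (iv D1536)
theorem F10782 : act 8 n2194 = n1531 := d33_2 (iv F7701) D2194 (iv D1531)
theorem F10783 : act 9 n2194 = n2194 := d34_2 F7702 D2194 (iv D2194)
def n2195 : Q := act 1 n1530
theorem D2195 : act 1 n1530 = n2195 := rfl
theorem F10784 : act 2 n2195 = n2195 := d9_2 D1530 D2195 (iv D2195) (iv D1530) F5525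
theorem F10785 : act 3 n2195 = n1599 := d10_2 (iv F7704) D2195 (iv D1599)
theorem F10786 : act 5 n2195 = n2195 := d12_2 F7705 D2195 (iv D2195)
theorem F10787 : act 6 n2195 = n1537 := d13_2 (iv F7706) D2195 (iv D1537)
theorem F10788 : act 9 n2195 = n1532 := d16_2 (iv F7707) D2195 (iv D1532)
def n2196 : Q := act 4 n1530
theorem D2196 : act 4 n1530 = n2196 := rfl
theorem F10789 : act 0 n2196 = n2196 := d3_1 D2196 (iv D2196) F7703
theorem F10790 : act 2 n2196 = n1531 := d18_1 D2196 (iv D1531) D1530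
theorem F10791 : act 6 n2196 = n1538 := d31_2 (iv F7706) D2196 (iv D1538)
theorem F10792 : act 9 n2196 = n1533 := d34_2 (iv F7707) D2196 (iv D1533)
def n2197 : Q := act 5 n1531
theorem D2197 : act 5 n1531 = n2197 := rfl
theorem F10793 : act 0 n2197 = n2197 := d4_1 D2197 (iv D2197) F7708
theorem F10794 : act 1 n2197 = n2197 := d12_1 D2197 (iv D2197) F7709
theorem F10795 : act 4 n2197 = n2197 := d30_1 D2197 (iv D2197) (iv D1531) F5526 D1531
theorem F10796 : act 9 n2197 = n1534 := d38_2 (iv F7711) D2197 (iv D1534)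
def n2198 : Q := act 0 n1532
theorem D2198 : act 0 n1532 = n2198 := rfl
theorem F10797 : act 1 n2198 = n2198 := d0_2 D1532 D2198 (iv D2198) (iv D1532) F5529
theorem F10798 : act 2 n2198 = n2198 := d1_2 F7712 D2198 (iv D2198)
theorem F10799 : act 3 n2198 = n1602 := d2_2 (iv F7713) D2198 (iv D1602)
theorem F10800 : act 5 n2198 = n2198 := d4_2 F7714 D2198 (iv D2198)
theorem F10801 : act 6 n2198 = n1540 := d5_2 (iv F7715) D2198 (iv D1540)
theorem F10802 : act 8 n2198 = n2198 := d7_2 F7716 D2198 (iv D2198)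
def n2199 : Q := act 4 n1532
theorem D2199 : act 4 n1532 = n2199 := rfl
theorem F10803 : act 1 n2199 = n1533 := d11_1 D2199 (iv D1533) D1532
theorem F10804 : act 2 n2199 = n2199 := d18_1 D2199 (iv D2199) F7712
theorem F10805 : act 6 n2199 = n1541 := d31_2 (iv F7715) D2199 (iv D1541)
theorem F10806 : act 8 n2199 = n2199 := d33_2 F7716 D2199 (iv D2199)
def n2200 : Q := act 3 n1533
theorem D2200 : act 3 n1533 = n2200 := rfl
theorem F10807 : act 0 n2200 = n2200 := d2_1 D2200 (iv D2200) F7717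
theorem F10808 : act 4 n2200 = n1604 := d24_2 D1533 D2200 (iv D1604) (iv D1118) (iv F5530)
theorem F10809 : act 6 n2200 = n1542 := d26_2 (iv F7719) D2200 (iv D1542)
def n2201 : Q := act 5 n1533
theorem D2201 : act 5 n1533 = n2201 := rfl
theorem F10810 : act 0 n2201 = n2201 := d4_1 D2201 (iv D2201) F7717
theorem F10811 : act 2 n2201 = n1534 := d19_1 D2201 (iv D1534) (iv F7718)
theorem F10812 : act 4 n2201 = n2201 := d30_1 D2201 (iv D2201) (iv D1533) F5531 D1533
theorem F10813 : act 8 n2201 = n2201 := d37_2 F7720 D2201 (iv D2201)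
def n2202 : Q := act 6 n1534
theorem D2202 : act 6 n1534 = n2202 := rfl
theorem F10814 : act 0 n2202 = n2202 := d5_1 D2202 (iv D2202) F7721
theorem F10815 : act 1 n2202 = n2202 := d13_1 D2202 (iv D2202) F7722
theorem F10816 : act 4 n2202 = n2202 := d31_1 D2202 (iv D2202) F7723
theorem F10817 : act 5 n2202 = n1544 := d35_1 D2202 (iv D1544) (iv D1078) (iv F5536) D1534
theorem F10818 : act 8 n2202 = n2202 := d40_2 F7724 D2202 (iv D2202)
def n2203 : Q := act 1 n1535
theorem D2203 : act 1 n1535 = n2203 := rfl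
theorem F10819 : act 2 n2203 = n2203 := d9_2 D1535 D2203 (iv D2203) (iv D1535) F5539
theorem F10820 : act 3 n2203 = n2203 := d10_2 F7726 D2203 (iv D2203)
theorem F10821 : act 5 n2203 = n1547 := d12_2 (iv F7727) D2203 (iv D1547)
theorem F10822 : act 7 n2203 = n2203 := d14_2 F7728 D2203 (iv D2203)
theorem F10823 : act 8 n2203 = n1537 := d15_2 (iv F7729) D2203 (iv D1537)
theorem F10824 : act 9 n2203 = n2203 := d16_2 F7730 D2203 (iv D2203)
def n2204 : Q := act 4 n1535
theorem D2204 : act 4 n1535 = n2204 := rfl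
theorem F10825 : act 0 n2204 = n2204 := d3_1 D2204 (iv D2204) F7725
theorem F10826 : act 2 n2204 = n1536 := d18_1 D2204 (iv D1536) D1535
theorem F10827 : act 7 n2204 = n2204 := d32_2 F7728 D2204 (iv D2204)
theorem F10828 : act 8 n2204 = n1538 := d33_2 (iv F7729) D2204 (iv D1538)
theorem F10829 : act 9 n2204 = n2204 := d34_2 F7730 D2204 (iv D2204)
def n2205 : Q := act 5 n1536
theorem D2205 : act 5 n1536 = n2205 := rfl
theorem F10830 : act 0 n2205 = n2205 := d4_1 D2205 (iv D2205) F7731
theorem F10831 : act 1 n2205 = n2205 := d12_1 D2205 (iv D2205) F7732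
theorem F10832 : act 3 n2205 = n2205 := d25_1 D2205 (iv D2205) F7733
theorem F10833 : act 4 n2205 = n1549 := d30_1 D2205 (iv D1549) (iv D1081) (iv F5540) D1536
theorem F10834 : act 7 n2205 = n2205 := d36_2 F7734 D2205 (iv D2205)
theorem F10835 : act 8 n2205 = n1539 := d37_2 (iv F7735) D2205 (iv D1539)
theorem F10836 : act 9 n2205 = n2205 := d38_2 F7736 D2205 (iv D2205)
def n2206 : Q := act 0 n1537
theorem D2206 : act 0 n1537 = n2206 := rfl
theorem F10837 : act 1 n2206 = n2206 := d0_2 D1537 D2206 (iv D2206) (iv D1537) F5544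
theorem F10838 : act 2 n2206 = n2206 := d1_2 F7737 D2206 (iv D2206)
theorem F10839 : act 3 n2206 = n1607 := d2_2 (iv F7738) D2206 (iv D1607)
theorem F10840 : act 5 n2206 = n1550 := d4_2 (iv F7739) D2206 (iv D1550)
theorem F10841 : act 7 n2206 = n2206 := d6_2 F7740 D2206 (iv D2206)
theorem F10842 : act 9 n2206 = n1540 := d8_2 (iv F7741) D2206 (iv D1540)
def n2207 : Q := act 4 n1537
theorem D2207 : act 4 n1537 = n2207 := rfl
theorem F10843 : act 1 n2207 = n1538 := d11_1 D2207 (iv D1538) D1537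
theorem F10844 : act 2 n2207 = n2207 := d18_1 D2207 (iv D2207) F7737
theorem F10845 : act 7 n2207 = n2207 := d32_2 F7740 D2207 (iv D2207)
theorem F10846 : act 9 n2207 = n1541 := d34_2 (iv F7741) D2207 (iv D1541)
def n2208 : Q := act 3 n1538
theorem D2208 : act 3 n1538 = n2208 := rfl
theorem F10847 : act 0 n2208 = n2208 := d2_1 D2208 (iv D2208) F7742
theorem F10848 : act 4 n2208 = n1609 := d24_2 D1538 D2208 (iv D1609) (iv D1121) (iv F5545)
theorem F10849 : act 7 n2208 = n2208 := d27_2 F7744 D2208 (iv D2208)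
theorem F10850 : act 9 n2208 = n1542 := d29_2 (iv F7745) D2208 (iv D1542)
def n2209 : Q := act 5 n1538
theorem D2209 : act 5 n1538 = n2209 := rfl
theorem F10851 : act 0 n2209 = n2209 := d4_1 D2209 (iv D2209) F7742
theorem F10852 : act 2 n2209 = n1539 := d19_1 D2209 (iv D1539) (iv F7743)
theorem F10853 : act 4 n2209 = n1553 := d30_1 D2209 (iv D1553) (iv D1083) (iv F5546) D1538
theorem F10854 : act 7 n2209 = n2209 := d36_2 F7744 D2209 (iv D2209)
theorem F10855 : act 9 n2209 = n1543 := d38_2 (iv F7745) D2209 (iv D1543)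
def n2210 : Q := act 6 n1539
theorem D2210 : act 6 n1539 = n2210 := rfl
theorem F10856 : act 0 n2210 = n2210 := d5_1 D2210 (iv D2210) F7746
theorem F10857 : act 1 n2210 = n2210 := d13_1 D2210 (iv D2210) F7747
theorem F10858 : act 4 n2210 = n1554 := d31_1 D2210 (iv D1554) (iv F7748)
theorem F10859 : act 9 n2210 = n1544 := d41_2 (iv F7750) D2210 (iv D1544)
def n2211 : Q := act 4 n1540
theorem D2211 : act 4 n1540 = n2211 := rfl
theorem F10860 : act 0 n2211 = n1541 := d3_1 D2211 (iv D1541) D1540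
theorem F10861 : act 1 n2211 = n2211 := d11_1 D2211 (iv D2211) F7751
theorem F10862 : act 2 n2211 = n2211 := d18_1 D2211 (iv D2211) F7752
theorem F10863 : act 7 n2211 = n2211 := d32_2 F7755 D2211 (iv D2211)
theorem F10864 : act 8 n2211 = n2211 := d33_2 F7756 D2211 (iv D2211)
def n2212 : Q := act 3 n1541
theorem D2212 : act 3 n1541 = n2212 := rfl
theorem F10865 : act 1 n2212 = n1542 := d10_1 D2212 (iv D1542) (iv F7757)
theorem F10866 : act 4 n2212 = n1613 := d24_2 D1541 D2212 (iv D1613) (iv D1124) (iv F5554)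
theorem F10867 : act 7 n2212 = n2212 := d27_2 F7759 D2212 (iv D2212)
def n2213 : Q := act 5 n1541
theorem D2213 : act 5 n1541 = n2213 := rfl
theorem F10868 : act 1 n2213 = n1543 := d12_1 D2213 (iv D1543) (iv F7757)
theorem F10869 : act 2 n2213 = n2213 := d19_1 D2213 (iv D2213) F7758
theorem F10870 : act 4 n2213 = n1557 := d30_1 D2213 (iv D1557) (iv D1086) (iv F5555) D1541
theorem F10871 : act 7 n2213 = n2213 := d36_2 F7759 D2213 (iv D2213)
theorem F10872 : act 8 n2213 = n2213 := d37_2 F7760 D2213 (iv D2213)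
def n2214 : Q := act 5 n1542
theorem D2214 : act 5 n1542 = n2214 := rfl
theorem F10873 : act 0 n2214 = n2214 := d4_1 D2214 (iv D2214) F7761
theorem F10874 : act 3 n2214 = n1543 := d25_1 D2214 (iv D1543) D1542
theorem F10875 : act 7 n2214 = n2214 := d36_2 F7763 D2214 (iv D2214)
def n2215 : Q := act 8 n1542
theorem D2215 : act 8 n1542 = n2215 := rfl
theorem F10876 : act 0 n2215 = n2215 := d7_1 D2215 (iv D2215) F7761
theorem F10877 : act 3 n2215 = n2215 := d28_1 D2215 (iv D2215) (iv D1542) F5561 D1542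
theorem F10878 : act 4 n2215 = n1616 := d33_1 D2215 (iv D1616) (iv F7762)
theorem F10879 : act 7 n2215 = n2215 := d42_1 D2215 (iv D2215) F7763
def n2216 : Q := act 6 n1543
theorem D2216 : act 6 n1543 = n2216 := rfl
theorem F10880 : act 0 n2216 = n2216 := d5_1 D2216 (iv D2216) F7764
theorem F10881 : act 2 n2216 = n1544 := d20_1 D2216 (iv D1544) (iv F7765)
theorem F10882 : act 4 n2216 = n1560 := d31_1 D2216 (iv D1560) (iv F7766)
theorem F10883 : act 8 n2216 = n2216 := d40_2 F7768 D2216 (iv D2216)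
def n2217 : Q := act 7 n1544
theorem D2217 : act 7 n1544 = n2217 := rfl
theorem F10884 : act 0 n2217 = n2217 := d6_1 D2217 (iv D2217) F7769
theorem F10885 : act 1 n2217 = n2217 := d14_1 D2217 (iv D2217) F7770
theorem F10886 : act 4 n2217 = n1561 := d32_1 D2217 (iv D1561) (iv F7771)
theorem F10887 : act 6 n2217 = n2217 := d39_1 D2217 (iv D2217) (iv D1544) F5565 D1544

end Cfsg.Agent.Helper17.Fi23TC
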