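import Cfsg.Agent.Helper17.Fi23TC.Facts9

set_option autoImplicit false
set_option linter.all false

noncomputable section

namespace Cfsg.Agent.Helper17.Fi23TC

theorem F204196 : act 2 n42980 = n31765 := (sb E30218 F191729)
theorem F204197 : act 8 n42981 = n31268 := (sb E30219 (iv D45622))
theorem F204198 : act 0 n21804 = n29527 := (sb E30220 F179534)
theorem F204199 : act 2 n21804 = n29490 := (sb E30220 (iv D42982))
theorem F204200 : act 8 n21804 = n29497 := (sb E30220 F179538)
theorem F204201 : act 2 n42983 = n31768 := (sb E30221 F191737)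
theorem F204202 : act 2 n42984 = n31447 := (sb E30222 F189907)
theorem F204203 : act 8 n42994 = n31767 := (sb E30223 F192430)
theorem F204204 : act 8 n42995 = n31768 := (sb E30224 F192433)
theorem F204205 : act 8 n42991 = n31765 := (sb E30225 F192423)
theorem F204206 : act 0 n20592 = n14953 := (sb E30228 F93312)
theorem E30442 : n31672 = n29975 := ((((iv F127169)).symm.trans (sb E30228 D31672))).symm
theorem F204207 : act 0 n21533 = n29976 := (sb E30229 F182161)
theorem F204208 : act 8 n43693 = n31342 := (sb E30230 F190234)
theorem F204209 : act 0 n43691 = n31382 := (sb E30231 F190221)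
theorem F204210 : act 2 n43691 = n31328 := (sb E30231 (iv D45713))
theorem F204211 : act 8 n43691 = n31339 := (sb E30231 F190224)
theorem F204212 : act 0 n43099 = n31387 := (sb E30232 F190240)
theorem F204213 : act 2 n43099 = n31332 := (sb E30232 F190241)
theorem E30443 : n31698 = n29919 := (((D29919).symm.trans (sb E30235 F191366))).symm
theorem E30444 : n31704 = n29923 := (((D29923).symm.trans (sb E30237 (iv F133863)))).symm
theorem E30445 : n29924 = n15250 := ((D29924).symm.trans (sb E30237 F93406))
theorem E30446 : n31706 = n29926 := (((D29926).symm.trans (sb E30238 (iv F133871)))).symm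
theorem E30447 : n29927 = n15253 := ((D29927).symm.trans (sb E30238 F93418))
theorem F204214 : act 4 n10496 = n14135 := (sb E30239 (iv D20557))
theorem F204215 : act 0 n43038 = n31768 := (sb E30241 F192252)
theorem F204216 : act 3 n43038 = n32334 := (sb E30241 F192253)
theorem F204217 : act 0 n43034 = n31765 := (sb E30242 F192243)
theorem F204218 : act 0 n43039 = n31447 := (sb E30243 F190474)
theorem F204219 : act 0 n22115 = n28949 := (sb E30250 F176109)
theorem F204220 : act 0 n22116 = n30693 := (sb E30251 F186636)
theorem F204221 : act 0 n22118 = n28947 := (sb E30252 F176099)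
theorem F204222 : act 0 n22119 = n28950 := (sb E30253 F176114)
theorem F204223 : act 0 n22120 = n30694 := (sb E30254 F186639)
theorem F204224 : act 3 n22120 = n30761 := (sb E30254 F186641)
theorem F204225 : act 0 n22127 = n28946 := (sb E30255 F176094)
theorem F204226 : act 0 n22128 = n28948 := (sb E30256 F176104)
theorem F204227 : act 8 n22128 = n28992 := (sb E30256 F176108)
theorem F204228 : act 0 n22131 = n28951 := (sb E30257 F176120)
theorem F204229 : act 8 n22131 = n28995 := (sb E30257 F176125)
theorem E30448 : n32459 = n28580 := ((((iv F121305)).symm.trans (sb E30258 (iv F192568)))).symm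
theorem E30451 : n28578 = n15324 := (((iv F121297)).symm.trans (sb E30259 (iv D22291)))
theorem F204230 : act 1 n10553 = n13531 := (sb E30261 F84820)
theorem F204231 : act 5 n10553 = n13530 := (sb E30261 (iv D19652))
theorem F204233 : act 2 n10552 = n13533 := (sb E30262 F84831)
theorem F204234 : act 4 n10552 = n13531 := (sb E30262 (iv D19654))
theorem F204235 : act 1 n22220 = n28993 := (sb E30263 (iv D42239))
theorem F204236 : act 5 n22220 = n30759 := (sb E30263 F176556)
theorem E30455 : n32364 = n28613 := (((iv F136552)).symm.trans (sb E30264 F173998))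
theorem F204237 : act 2 n22219 = n28589 := (sb E30264 (iv D41637))
theorem F204238 : act 4 n22219 = n28993 := (sb E30264 F173999)
theorem F204241 : act 2 n22248 = n28588 := (sb E30266 F173926)
theorem F204242 : act 4 n22248 = n28581 := (sb E30266 F173927)
theorem F204243 : act 1 n22177 = n28583 := (sb E30268 F173887)
theorem E30456 : n28593 = n15323 := (((iv F121370)).symm.trans (sb E30271 (iv D22289)))
theorem F204248 : act 3 n10551 = n13538 := (sb E30272 (iv D19664))
theorem F204249 : act 3 n21826 = n28603 := (sb E30274 F174064)
theorem F204250 : act 3 n22247 = n28597 := (sb E30275 (iv D41648))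
theorem F204251 : act 3 n22175 = n28599 := (sb E30277 F174067)
theorem F204252 : act 4 n22067 = n30693 := (sb E30278 F186346)
theorem F204253 : act 1 n22070 = n30627 := (sb E30279 F186349)
theorem F204254 : act 4 n22070 = n30694 := (sb E30279 F186351)
theorem F204255 : act 2 n22065 = n30625 := (sb E30280 F186340)
theorem F204256 : act 4 n22065 = n30692 := (sb E30280 F186341)
theorem F204257 : act 0 n41657 = n29999 := (sb E30281 F182626)
theorem F204258 : act 3 n41657 = n29998 := (sb E30281 (iv D43724))
theorem F204259 : act 0 n41658 = n31470 := (sb E30282 F190902)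
theorem F204260 : act 3 n41658 = n31469 := (sb E30282 (iv D45915))
theorem F204263 : act 3 n2393 = n3219 := (sb E30285 (iv D4649))
theorem F204264 : act 1 n20525 = n14901 := (sb E30291 F93107)
theorem F204265 : act 9 n20525 = n14889 := (sb E30291 (iv D21680))
theorem F204266 : act 1 n43550 = n31282 := (sb E30292 F189867)
theorem F204267 : act 3 n43550 = n31438 := (sb E30292 F189868)
theorem F204268 : act 8 n43550 = n31264 := (sb E30292 (iv D45616))
theorem F204269 : act 1 n43552 = n31285 := (sb E30293 F189880)
theorem F204270 : act 3 n43552 = n31441 := (sb E30293 F189881)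
theorem F204271 : act 8 n43552 = n31266 := (sb E30293 (iv D45619))
theorem F204272 : act 6 n21698 = n29832 := (sb E30318 F181625)
theorem E30464 : n31618 = n31616 := (((iv F133520)).symm.trans (sb E30318 F181626))
theorem F204273 : act 3 n42931 = n29984 := (sb E30319 F181643)
theorem F204274 : act 5 n42931 = n29840 := (sb E30319 F181644)
theorem F204275 : act 7 n42931 = n29837 := (sb E30319 F181645)
theorem F204276 : act 8 n42931 = n29832 := (sb E30319 (iv D43487))
theorem F204277 : act 3 n42869 = n31554 := (sb E30321 F191449)
theorem F204278 : act 6 n21699 = n29831 := (sb E30322 F181620)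
theorem E30465 : n31619 = n31615 := (((iv F133525)).symm.trans (sb E30322 F181621))
theorem F204279 : act 1 n42927 = n31663 := (sb E30324 F191910)
theorem F204280 : act 0 n43408 = n31598 := (sb E30325 F191341)
theorem F204281 : act 0 n43410 = n31595 := (sb E30326 F191328)
theorem F204282 : act 2 n42746 = n30000 := (sb E30334 F181702)
theorem F204283 : act 4 n42746 = n29846 := (sb E30334 (iv D43503))
theorem F204284 : act 1 n42934 = n31667 := (sb E30341 F191926)
theorem E30470 : n19373 = n16850 := ((D19373).symm.trans (sb E30345 (iv D24505)))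
theorem F204285 : act 9 n11604 = n9196 := (sb E30346 (iv D13334))
theorem E30477 : n31730 = n29902 := ((D31730).symm.trans (sb E30352 (iv D43592)))
theorem F204286 : act 9 n20540 = n14956 := (sb E30354 (iv D21774))
theorem E30478 : n31737 = n29907 := ((D31737).symm.trans (sb E30355 (iv D43599)))
theorem F204287 : act 9 n20543 = n14959 := (sb E30356 (iv D21779))
theorem F204288 : act 1 n45707 = n31601 := (sb E30358 F191692)
theorem F204289 : act 2 n45707 = n31623 := (sb E30358 F191693)
theorem F204290 : act 4 n45707 = n31600 := (sb E30358 (iv D46115))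
theorem F204291 : act 3 n21734 = n31623 := (sb E30359 (iv D46145))
theorem E30479 : n46108 = n43547 := (((iv F191668)).symm.trans (iv (sb E30360 (tr F191767 E30464))))
theorem F204292 : act 4 n43547 = n31617 := (sb E30360 (iv D46137))
theorem F204293 : act 7 n43547 = n31623 := (sb E30360 F191769)
theorem F204294 : act 0 n45635 = n31712 := (sb E30361 F192039)
theorem F204295 : act 6 n45635 = n31665 := (sb E30361 F192041)
theorem F204296 : act 4 n43461 = n31624 := (sb E30362 F191803)
theorem F204297 : act 9 n43461 = n31623 := (sb E30362 (iv D46146))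
theorem E30480 : n43654 = n10492 := (((D10492).symm.trans (sb E30363 (iv F182340)))).symm
theorem E30481 : n43656 = n10488 := ((((iv F46721)).symm.trans (sb E30363 (iv F182348)))).symm
theorem E30482 : n20566 = n10493 := (((D10493).symm.trans (sb E30363 (iv D29944)))).symm
theorem E30483 : n43652 = n21753 := (((D21753).symm.trans (sb E30364 (iv F182333)))).symm
theorem E30484 : n21740 = n20588 := (((iv F93345)).symm.trans (sb E30364 F127039))
theorem E30485 : n43640 = n21748 := ((((iv F93378)).symm.trans (sb E30364 (iv F182290)))).symm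
theorem E30486 : n21754 = n20565 := ((D21754).symm.trans (sb E30364 (iv D29942)))
theorem E30488 : n46300 = n43016 := (((D43016).symm.trans (sb E30365 (iv F192396)))).symm
theorem E30490 : n21777 = n20541 := (((F125203).symm.trans (sb E30365 (iv D31735)))).symm
theorem E30491 : n46276 = n43017 := (((D43017).symm.trans (sb E30365 (iv F192310)))).symm
theorem E30492 : n43642 = n21749 := (((D21749).symm.trans (sb E30366 (iv F182298)))).symm
theorem E30493 : n21750 = n20561 := ((D21750).symm.trans (sb E30366 (iv D29936)))
theorem F204298 : act 0 n14140 = n10304 := (sb E30367 F65317)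
theorem F204299 : act 9 n14140 = n10279 := (sb E30367 (iv D14943))
theorem F204300 : act 0 n29925 = n21573 := (sb E30368 F132600)
theorem E30494 : n45775 = n43622 := ((((iv F182219)).symm.trans (sb E30368 (iv F190460)))).symm
theorem E30495 : n43624 = n22093 := (((iv F182227)).symm.trans (sb E30368 F132602))
theorem E30496 : n45769 = n43616 := ((((iv F182199)).symm.trans (sb E30368 (iv F190432)))).symm
theorem E30497 : n45772 = n43619 := ((((iv F182212)).symm.trans (sb E30368 (iv F190448)))).symm
theorem F204301 : act 8 n29925 = n21523 := (sb E30368 (iv D31370))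
theorem F204302 : act 0 n14154 = n10290 := (sb E30369 F65258)
theorem F204303 : act 2 n14154 = n10277 := (sb E30369 F65259)
theorem E30498 : n21736 = n20584 := ((((iv F88792)).symm.trans (sb E30369 D21736))).symm
theorem F204304 : act 8 n14154 = n10269 := (sb E30369 (iv D14929))
theorem F204305 : act 0 n14158 = n10292 := (sb E30370 F65267)
theorem F204306 : act 2 n14125 = n10300 := (sb E30372 F65371)
theorem F204307 : act 9 n14125 = n10290 := (sb E30372 (iv D14958))
theorem F204308 : act 0 n14138 = n10300 := (sb E30373 F65300)
theorem F204309 : act 9 n14138 = n10277 := (sb E30373 (iv D14939))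
theorem F204310 : act 1 n29837 = n21728 := (sb E30374 F133624)
theorem F204311 : act 1 n29872 = n21700 := (sb E30376 F133463)
theorem E30502 : n46112 = n43545 := (((D43545).symm.trans (sb E30376 (iv F191685)))).symm
theorem E30503 : n46120 = n43546 := (((D43546).symm.trans (sb E30376 D46120))).symm
theorem F204312 : act 9 n29872 = n21682 := (sb E30376 (iv D31603))
theorem F204313 : act 1 n29873 = n21696 := (sb E30377 F133453)
theorem E30504 : n46113 = n43548 := (((D43548).symm.trans (sb E30377 D46113))).symm
theorem F204314 : act 9 n29873 = n21679 := (sb E30377 (iv D31599))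
theorem F204315 : act 1 n29874 = n21701 := (sb E30378 F133467)
theorem E30505 : n43549 = n21795 := ((D43549).symm.trans (sb E30378 F133468))
theorem F204316 : act 0 n29967 = n21763 := (sb E30379 F133714)
theorem E30506 : n46206 = n43684 := ((((iv F182461)).symm.trans (sb E30379 D46206))).symm
theorem F204317 : act 3 n29967 = n21728 := (sb E30379 (iv D31666))
theorem E30507 : n46207 = n43685 := ((((iv F182465)).symm.trans (sb E30379 D46207))).symm
theorem E30508 : n46208 = n43090 := ((((iv F179934)).symm.trans (sb E30379 D46208))).symm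
theorem F204318 : act 0 n29973 = n21767 := (sb E30380 F133728)
theorem E30510 : n46212 = n43096 := ((((iv F179960)).symm.trans (sb E30380 D46212))).symm
theorem F204319 : act 0 n29567 = n21768 := (sb E30381 F133732)
theorem F204320 : act 3 n29567 = n21731 := (sb E30381 F133733)
theorem F204321 : act 0 n14973 = n20563 := (sb E30384 F126805)
theorem E30512 : n43567 = n21797 := ((((iv F93551)).symm.trans (sb E30384 D43567))).symm
theorem E30514 : n43562 = n21790 := ((((iv F93533)).symm.trans (sb E30384 (iv F181974)))).symm
theorem E30515 : n43551 = n21798 := (((D21798).symm.trans (sb E30384 (iv F181931)))).symm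
theorem F204322 : act 0 n14968 = n20560 := (sb E30385 F126792)
theorem F204323 : act 2 n14968 = n20540 := (sb E30385 F126793)
theorem E30516 : n43561 = n21787 := ((((iv F93524)).symm.trans (sb E30385 (iv F181971)))).symm
theorem F204324 : act 8 n14968 = n20525 := (sb E30385 (iv D29882))
theorem F204325 : act 1 n29829 = n21734 := (sb E30387 F133650)
theorem F204326 : act 1 n29881 = n21693 := (sb E30390 F133442)
theorem F204327 : act 9 n29881 = n21678 := (sb E30390 (iv D31596))
theorem F204328 : act 0 n29959 = n21772 := (sb E30391 F133747)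
theorem F204329 : act 2 n29959 = n21745 := (sb E30391 F133748)
theorem E30522 : n46217 = n43673 := ((((iv F182422)).symm.trans (sb E30391 D46217))).symm
theorem F204330 : act 8 n29959 = n21734 := (sb E30391 (iv D31675))
theorem F204331 : act 0 n29814 = n21655 := (sb E30392 F133108)
theorem F204332 : act 2 n29814 = n21635 := (sb E30392 F133109)
theorem F204333 : act 9 n29814 = n21734 := (sb E30392 F133112)
theorem F204334 : act 0 n29962 = n21773 := (sb E30393 F133752)
theorem E30524 : n46219 = n43676 := ((((iv F182432)).symm.trans (sb E30393 D46219))).symm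
theorem E30525 : n46220 = n43677 := ((((iv F182437)).symm.trans (sb E30393 D46220))).symm
theorem F204335 : act 0 n29969 = n21778 := (sb E30395 F133769)
theorem E30527 : n46227 = n43687 := ((((iv F182472)).symm.trans (sb E30395 D46227))).symm
theorem F204336 : act 3 n29969 = n21751 := (sb E30395 F133770)
theorem E30529 : n46241 = n43635 := (((D43635).symm.trans (sb E30397 (iv F192183)))).symm
theorem E30530 : n46242 = n43636 := (((D43636).symm.trans (sb E30397 (iv F192189)))).symm
theorem E30531 : n46238 = n43633 := ((((iv F182264)).symm.trans (sb E30397 (iv F192174)))).symm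
theorem F204337 : act 9 n29932 = n21746 := (sb E30397 (iv D31693))
theorem E30533 : n46288 = n43588 := (((D43588).symm.trans (sb E30398 (iv F192355)))).symm
theorem F204338 : act 9 n29901 = n21772 := (sb E30398 (iv D31727))
theorem F204339 : act 9 n29931 = n21745 := (sb E30399 (iv D31690))
theorem F204340 : act 2 n29768 = n21678 := (sb E30401 F133323)
theorem F204341 : act 8 n29768 = n21655 := (sb E30401 (iv D31564))
theorem F204342 : act 0 n29788 = n21678 := (sb E30402 F133204)
theorem F204343 : act 8 n29788 = n21635 := (sb E30402 (iv D31533))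
theorem E30534 : n46252 = n43644 := (((D43644).symm.trans (sb E30403 (iv F192224)))).symm
theorem E30535 : n43645 = n22189 := ((D43645).symm.trans (sb E30403 F133846))
theorem E30536 : n46253 = n43617 := ((((iv F182203)).symm.trans (sb E30403 D46253))).symm
theorem F204344 : act 9 n29937 = n21751 := (sb E30403 (iv D31700))
theorem F204345 : act 4 n15247 = n20563 := (sb E30404 (iv D29938))
theorem E30538 : n43618 = n22190 := (((D22190).symm.trans (sb E30404 (iv F182208)))).symm
theorem F204346 : act 3 n29829 = n21698 := (sb E30407 (iv D31625))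
theorem F204347 : act 2 n29828 = n21700 := (sb E30409 F133548)
theorem F204348 : act 4 n29828 = n21699 := (sb E30409 F133549)
theorem E30544 : n46150 = n42925 := ((((iv F179320)).symm.trans (sb E30409 D46150))).symm
theorem F204349 : act 9 n29828 = n21698 := (sb E30409 (iv D31626))
theorem E30545 : n46130 = n43545 := ((D46130).symm.trans (sb E30410 (tr (iv F191681) E30502)))
theorem E30546 : n46131 = n21696 := ((D46131).symm.trans (sb E30410 F133528))
theorem E30547 : n46134 = n21694 := (((F133506).symm.trans (sb E30410 (iv F191758)))).symm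
theorem F204350 : act 7 n31614 = n21700 := (sb E30410 F133530)
theorem E30548 : n46142 = n45626 := ((((iv F189913)).symm.trans (sb E30410 D46142))).symm
theorem E30549 : n46132 = n21695 := ((D46132).symm.trans (sb E30410 (iv D31620)))
theorem E30550 : n21781 = n20545 := (((D20545).symm.trans (sb E30411 (iv F93499)))).symm
theorem F204351 : act 9 n14127 = n10292 := (sb E30411 (iv D14962))
theorem E30551 : n21784 = n20547 := (((D20547).symm.trans (sb E30412 (iv F93510)))).symm
theorem F204352 : act 3 n14129 = n10306 := (sb E30412 F65395)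
theorem F204353 : act 9 n14129 = n10294 := (sb E30412 (iv D14964))
theorem E30553 : n46279 = n43019 := (((D43019).symm.trans (sb E30413 (iv F192324)))).symm
theorem E30555 : n46282 = n43021 := (((D43021).symm.trans (sb E30414 (iv F192336)))).symm
theorem F204354 : act 8 n29517 = n21768 := (sb E30415 (iv D31722))
theorem E30557 : n46284 = n43024 := (((D43024).symm.trans (sb E30416 (iv F192345)))).symm
theorem F204355 : act 8 n29519 = n21770 := (sb E30417 (iv D31725))
theorem F204356 : act 0 n14160 = n10294 := (sb E30418 F65274)
theorem E30558 : n21742 = n20591 := ((((iv F88816)).symm.trans (sb E30418 D21742))).symm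
theorem F204357 : act 3 n14160 = n10281 := (sb E30418 F65275)
theorem E30559 : n43659 = n21756 := (((D21756).symm.trans (sb E30419 (iv F182358)))).symm
theorem E30560 : n43660 = n10494 := (((F65323).symm.trans (sb E30419 (iv F182366)))).symm
theorem E30561 : n21757 = n20568 := ((D21757).symm.trans (sb E30419 (iv D29948)))
theorem E30562 : n20569 = n10495 := (((D10495).symm.trans (sb E30420 (iv D29949)))).symm
theorem F204358 : act 0 n14142 = n10306 := (sb E30421 F65325)
theorem F204359 : act 9 n14142 = n10281 := (sb E30421 (iv D14945))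
theorem F204360 : act 4 n7234 = n9741 := (sb E30422 (iv D14143))
theorem F204361 : act 0 n29928 = n21576 := (sb E30423 F132614)
theorem E30563 : n45777 = n43628 := ((((iv F182241)).symm.trans (sb E30423 (iv F190469)))).symm
theorem E30564 : n43630 = n22096 := (((iv F182250)).symm.trans (sb E30423 F132616))
theorem F204362 : act 8 n29928 = n21525 := (sb E30423 (iv D31373))
theorem F204363 : act 4 n15179 = n20558 := (sb E30424 F126990)
theorem F204364 : act 0 n29570 = n21770 := (sb E30428 F133739)
theorem E30578 : n43553 = n21801 := (((D21801).symm.trans (sb E30433 (iv F181938)))).symm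
theorem F204365 : act 0 n14976 = n20554 := (sb E30435 F126768)
theorem F204366 : act 3 n14976 = n20522 := (sb E30435 (iv D29876))
theorem F204367 : act 0 n14979 = n20556 := (sb E30438 F126774)
theorem F204368 : act 1 n29875 = n21704 := (sb E30440 F133478)
theorem E30586 : n46214 = n43692 := ((((iv F182490)).symm.trans (sb E30442 D46214))).symm
theorem E30587 : n46249 = n43614 := (((D43614).symm.trans (sb E30443 (iv F192213)))).symm
theorem E30588 : n46250 = n43615 := (((D43615).symm.trans (sb E30443 (iv F192217)))).symm
theorem E30589 : n46255 = n43620 := (((D43620).symm.trans (sb E30444 (iv F192239)))).symm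
theorem E30590 : n43621 = n22193 := ((D43621).symm.trans (sb E30444 F133864))
theorem F204369 : act 4 n15250 = n20554 := (sb E30445 (iv D29924))
theorem E30592 : n46257 = n43626 := (((D43626).symm.trans (sb E30446 (iv F192245)))).symm
theorem E30593 : n43627 = n22195 := ((D43627).symm.trans (sb E30446 F133873))
theorem F204370 : act 4 n15253 = n20556 := (sb E30447 (iv D29927))
theorem E30596 : n41620 = n22287 := (((iv F173922)).symm.trans (sb E30448 (iv D32459)))
theorem F204373 : act 2 n15324 = n19659 := (sb E30451 F121296)
theorem E30599 : n41619 = n22280 := ((((iv F95581)).symm.trans (sb E30451 D41619))).symm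
theorem F204375 : act 0 n28613 = n22219 := (sb E30455 F136552)
theorem F204376 : act 3 n28613 = n22218 := (sb E30455 (iv D32364))
theorem F204377 : act 3 n15323 = n19665 := (sb E30456 F121370)
theorem E30602 : n41640 = n22275 := ((((iv F95559)).symm.trans (sb E30456 D41640))).symm
theorem E30603 : n41641 = n22286 := ((((iv F95612)).symm.trans (sb E30456 D41641))).symm
theorem F204378 : act 7 n31616 = n21698 := (sb E30464 F133520)
theorem E30610 : n46135 = n45630 := ((D46135).symm.trans (sb E30464 (iv F189928)))
theorem E30611 : n46138 = n46107 := ((((iv F191665)).symm.trans (sb E30465 (iv F191770)))).symm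
theorem E30612 : n46133 = n21703 := ((D46133).symm.trans (sb E30465 F133524))
theorem F204379 : act 7 n31615 = n21699 := (sb E30465 F133525)
theorem E30613 : n46141 = n45627 := ((((iv F189916)).symm.trans (sb E30465 D46141))).symm
theorem F204380 : act 9 n16850 = n13333 := (sb E30470 (iv D19373))
theorem E30615 : n46291 = n43590 := (((D43590).symm.trans (sb E30477 (iv F192365)))).symm
theorem E30616 : n46292 = n43591 := (((D43591).symm.trans (sb E30477 (iv F192371)))).symm
theorem F204381 : act 9 n29902 = n21773 := (sb E30477 (iv D31730))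
theorem E30617 : n46302 = n43598 := (((D43598).symm.trans (sb E30478 (iv F192403)))).symm
theorem F204382 : act 9 n29907 = n21778 := (sb E30478 (iv D31737))
theorem F204383 : act 1 n43547 = n31616 := (sb E30479 F191668)
theorem F204384 : act 9 n43547 = n31595 := (sb E30479 (iv D46108))
theorem E30618 : n29941 = n15249 := (((D15249).symm.trans (sb E30480 (iv D43654)))).symm
theorem E30619 : n29943 = n15245 := (((D15245).symm.trans (sb E30481 (iv D43656)))).symm
theorem F204385 : act 4 n10493 = n14140 := (sb E30482 (iv D20566))
theorem E30620 : n31683 = n29972 := (((iv F133779)).symm.trans (sb E30483 F182335))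
theorem E30621 : n31703 = n29940 := ((D31703).symm.trans (sb E30483 (iv D43652)))
theorem F204386 : act 0 n20588 = n14961 := (sb E30484 F93344)
theorem F204387 : act 3 n20588 = n14942 := (sb E30484 F93345)
theorem E30622 : n31678 = n29965 := ((((iv F127132)).symm.trans (sb E30484 (iv F133762)))).symm
theorem E30623 : n31733 = n29904 := ((((iv F126891)).symm.trans (sb E30485 F182291))).symm
theorem E30624 : n31696 = n29934 := ((D31696).symm.trans (sb E30485 (iv D43640)))
theorem F204388 : act 0 n20565 = n14975 := (sb E30486 F93400)
theorem F204389 : act 9 n20565 = n14942 := (sb E30486 (iv D21754))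
theorem E30625 : n31734 = n29905 := (((F179677).symm.trans (sb E30488 (iv D46300)))).symm
theorem F204390 : act 9 n20541 = n14957 := (sb E30490 (iv D21777))
theorem F204391 : act 8 n43017 = n31717 := (sb E30491 (iv D46276))
theorem E30626 : n31697 = n29935 := ((D31697).symm.trans (sb E30492 (iv D43642)))
theorem F204392 : act 0 n20561 = n14971 := (sb E30493 F93383)
theorem F204393 : act 9 n20561 = n14938 := (sb E30493 (iv D21750))
theorem F204394 : act 0 n43622 = n31444 := (sb E30494 F190459)
theorem F204395 : act 4 n43622 = n32195 := (sb E30494 F190461)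
theorem F204396 : act 8 n43622 = n31369 := (sb E30494 (iv D45775))
theorem F204397 : act 4 n22093 = n29925 := (sb E30495 F182227)
theorem F204398 : act 0 n43616 = n31438 := (sb E30496 F190430)
theorem F204399 : act 8 n43616 = n31365 := (sb E30496 (iv D45769))
theorem F204400 : act 0 n43619 = n31441 := (sb E30497 F190444)
theorem F204401 : act 4 n43619 = n32192 := (sb E30497 F190446)
theorem F204402 : act 8 n43619 = n31367 := (sb E30497 (iv D45772))
theorem F204403 : act 0 n20584 = n14957 := (sb E30498 F93329)
theorem E30627 : n31679 = n29966 := ((((iv F127136)).symm.trans (sb E30498 D31679))).symm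
theorem F204404 : act 9 n43545 = n31598 := (sb E30502 (iv D46112))
theorem F204405 : act 1 n43546 = n31628 := (sb E30503 F191705)
theorem F204406 : act 1 n43548 = n31621 := (sb E30504 F191686)
theorem F204407 : act 3 n43548 = n31752 := (sb E30504 F191687)
theorem F204408 : act 0 n21795 = n29919 := (sb E30505 F181921)
theorem F204409 : act 3 n21795 = n29874 := (sb E30505 (iv D43549))
theorem F204410 : act 0 n43684 = n31715 := (sb E30506 F192049)
theorem F204411 : act 0 n43685 = n31716 := (sb E30507 F192052)
theorem F204412 : act 0 n43090 = n31717 := (sb E30508 F192055)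
theorem F204413 : act 3 n43090 = n31667 := (sb E30508 F192056)
theorem F204414 : act 0 n43096 = n31721 := (sb E30510 F192071)
theorem F204415 : act 0 n21797 = n29937 := (sb E30512 F181992)
theorem F204416 : act 3 n21797 = n29907 := (sb E30512 F181993)
theorem F204417 : act 0 n21790 = n29932 := (sb E30514 F181973)
theorem F204418 : act 0 n21798 = n29921 := (sb E30515 F181928)
theorem F204419 : act 3 n21798 = n29875 := (sb E30515 (iv D43551))
theorem F204420 : act 0 n21787 = n29931 := (sb E30516 F181967)
theorem F204421 : act 2 n21787 = n29901 := (sb E30516 F181968)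
theorem F204422 : act 8 n21787 = n29881 := (sb E30516 (iv D43561))
theorem F204423 : act 0 n43673 = n31726 := (sb E30522 F192091)
theorem F204424 : act 0 n43676 = n31728 := (sb E30524 F192099)
theorem F204425 : act 3 n43676 = n31691 := (sb E30524 F192100)
theorem F204426 : act 0 n43677 = n31729 := (sb E30525 F192103)
theorem F204427 : act 3 n43687 = n31699 := (sb E30527 F192126)
theorem F204428 : act 0 n43635 = n31750 := (sb E30529 F192182)
theorem F204429 : act 9 n43635 = n31691 := (sb E30529 (iv D46241))
theorem F204432 : act 9 n43636 = n31692 := (sb E30530 (iv D46242))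
theorem F204433 : act 0 n43633 = n31747 := (sb E30531 F192170)
theorem F204434 : act 9 n43633 = n31689 := (sb E30531 (iv D46238))
theorem F204436 : act 9 n43588 = n31726 := (sb E30533 (iv D46288))
theorem F204437 : act 4 n43644 = n32327 := (sb E30534 F192226)
theorem F204438 : act 9 n43644 = n31699 := (sb E30534 (iv D46252))
theorem F204439 : act 4 n22189 = n29937 := (sb E30535 (iv D43645))
theorem F204440 : act 0 n43617 = n31762 := (sb E30536 F192229)
theorem F204441 : act 4 n43617 = n32328 := (sb E30536 F192231)
theorem F204442 : act 4 n22190 = n29921 := (sb E30538 (iv D43618))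
theorem F204443 : act 2 n42925 = n31628 := (sb E30544 F191817)
theorem F204444 : act 4 n42925 = n31627 := (sb E30544 F191818)
theorem F204445 : act 1 n43545 = n31614 := (sb E30545 (iv D46130))
theorem F204446 : act 6 n43545 = n31617 := (sb E30545 F191742)
theorem F204447 : act 2 n21696 = n31615 := (sb E30546 F191744)
theorem F204448 : act 4 n21696 = n31614 := (sb E30546 (iv D46131))
theorem F204449 : act 4 n21694 = n31616 := (sb E30547 F191757)
theorem F204450 : act 9 n21694 = n31615 := (sb E30547 (iv D46134))
theorem F204451 : act 4 n45626 = n31621 := (sb E30548 F191789)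
theorem F204452 : act 7 n45626 = n31628 := (sb E30548 F191791)
theorem F204453 : act 2 n21695 = n31616 := (sb E30549 F191747)
theorem F204454 : act 9 n21695 = n31614 := (sb E30549 (iv D46132))
theorem E30628 : n31740 = n29909 := (((D29909).symm.trans (sb E30550 (iv F133991)))).symm
theorem F204455 : act 3 n20545 = n14975 := (sb E30550 F93500)
theorem F204456 : act 9 n20545 = n14961 := (sb E30550 (iv D21781))
theorem E30629 : n31742 = n29912 := (((D29912).symm.trans (sb E30551 (iv F133999)))).symm
theorem F204457 : act 3 n20547 = n14978 := (sb E30551 F93512)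
theorem F204458 : act 9 n20547 = n14963 := (sb E30551 (iv D21784))
theorem F204459 : act 8 n43019 = n31719 := (sb E30553 (iv D46279))
theorem F204460 : act 8 n43021 = n31721 := (sb E30555 (iv D46282))
theorem F204461 : act 8 n43024 = n31724 := (sb E30557 (iv D46284))
theorem E30630 : n31686 = n29974 := ((((iv F127164)).symm.trans (sb E30558 D31686))).symm
theorem F204462 : act 3 n20591 = n14944 := (sb E30558 F93352)
theorem E30631 : n31705 = n29946 := ((D31705).symm.trans (sb E30559 (iv D43659)))
theorem E30632 : n29947 = n15252 := (((D15252).symm.trans (sb E30560 (iv D43660)))).symm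
theorem F204463 : act 9 n20568 = n14944 := (sb E30561 (iv D21757))
theorem F204464 : act 4 n10495 = n14142 := (sb E30562 (iv D20569))
theorem F204465 : act 4 n43628 = n32197 := (sb E30563 F190471)
theorem F204466 : act 8 n43628 = n31372 := (sb E30563 (iv D45777))
theorem F204467 : act 4 n22096 = n29928 := (sb E30564 F182250)
theorem F204468 : act 0 n21801 = n29923 := (sb E30578 F181936)
theorem F204469 : act 1 n43692 = n31723 := (sb E30586 F192079)
theorem F204470 : act 0 n43614 = n31758 := (sb E30587 F192212)
theorem F204472 : act 5 n43615 = n32325 := (sb E30588 F192218)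
theorem F204473 : act 4 n43620 = n32330 := (sb E30589 F192241)
theorem F204474 : act 4 n22193 = n29923 := (sb E30590 (iv D43621))
theorem F204475 : act 1 n43626 = n31766 := (sb E30592 F192246)
theorem F204476 : act 4 n43626 = n32332 := (sb E30592 F192248)
theorem F204477 : act 4 n22195 = n29926 := (sb E30593 (iv D43627))
theorem F204480 : act 2 n22287 = n28587 := (sb E30596 F173921)
theorem F204483 : act 2 n22280 = n28586 := (sb E30599 F173917)
theorem F204484 : act 3 n22275 = n28595 := (sb E30602 F174017)
theorem F204485 : act 3 n22286 = n28596 := (sb E30603 F174022)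
theorem F204486 : act 3 n45630 = n31774 := (sb E30610 F191760)
theorem F204488 : act 8 n45630 = n31616 := (sb E30610 (iv D46135))
theorem F204489 : act 5 n46107 = n31630 := (sb E30611 F191772)
theorem F204490 : act 7 n46107 = n31624 := (sb E30611 F191773)
theorem F204491 : act 9 n46107 = n31617 := (sb E30611 (iv D46138))
theorem F204492 : act 5 n21703 = n31615 := (sb E30612 (iv D46133))
theorem F204493 : act 2 n45627 = n31621 := (sb E30613 F191785)
theorem F204495 : act 7 n45627 = n31627 := (sb E30613 F191787)
theorem F204496 : act 3 n43590 = n31750 := (sb E30615 F192366)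
theorem F204497 : act 9 n43590 = n31728 := (sb E30615 (iv D46291))
theorem F204498 : act 9 n43591 = n31729 := (sb E30616 (iv D46292))
theorem F204500 : act 9 n43598 = n31736 := (sb E30617 (iv D46302))
theorem E30634 : n43651 = n22192 := ((((iv F95202)).symm.trans (sb E30618 (iv F182329)))).symm
theorem F204501 : act 4 n15249 = n20565 := (sb E30618 (iv D29941))
theorem E30636 : n43641 = n22186 := ((((iv F95177)).symm.trans (sb E30619 (iv F182294)))).symm
theorem E30637 : n46230 = n43689 := ((((iv F182481)).symm.trans (sb E30620 D46230))).symm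
theorem F204502 : act 3 n29972 = n21753 := (sb E30620 F133779)
theorem E30638 : n46222 = n43681 := ((((iv F182452)).symm.trans (sb E30620 (iv F192112)))).symm
theorem E30639 : n46254 = n43650 := (((D43650).symm.trans (sb E30621 (iv F192234)))).symm
theorem E30640 : n46246 = n43638 := ((((iv F182284)).symm.trans (sb E30621 (iv F192204)))).symm
theorem F204503 : act 9 n29940 = n21753 := (sb E30621 (iv D31703))
theorem F204504 : act 0 n29965 = n21775 := (sb E30622 F133760)
theorem F204505 : act 3 n29965 = n21748 := (sb E30622 F133761)
theorem E30641 : n46223 = n43683 := ((((iv F182458)).symm.trans (sb E30622 D46223))).symm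
theorem E30642 : n46296 = n43593 := (((D43593).symm.trans (sb E30623 (iv F192383)))).symm
theorem F204506 : act 3 n29904 = n21793 := (sb E30623 F133965)
theorem E30643 : n46298 = n43594 := (((D43594).symm.trans (sb E30623 (iv F192391)))).symm
theorem F204507 : act 9 n29904 = n21775 := (sb E30623 (iv D31733))
theorem F204508 : act 0 n29934 = n21793 := (sb E30624 F133829)
theorem E30644 : n46248 = n43639 := (((D43639).symm.trans (sb E30624 (iv F192210)))).symm
theorem F204509 : act 9 n29934 = n21748 := (sb E30624 (iv D31696))
theorem F204510 : act 9 n29905 = n21776 := (sb E30625 (iv D31734))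
theorem F204511 : act 0 n29935 = n21794 := (sb E30626 F133832)
theorem F204512 : act 9 n29935 = n21749 := (sb E30626 (iv D31697))
theorem F204513 : act 0 n29966 = n21776 := (sb E30627 F133763)
theorem E30645 : n46304 = n43601 := (((D43601).symm.trans (sb E30628 (iv F192413)))).symm
theorem F204514 : act 3 n29909 = n21800 := (sb E30628 F133993)
theorem F204515 : act 9 n29909 = n21780 := (sb E30628 (iv D31740))
theorem F204516 : act 3 n29912 = n21802 := (sb E30629 F134001)
theorem F204517 : act 9 n29912 = n21783 := (sb E30629 (iv D31742))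
theorem F204518 : act 1 n29974 = n21783 := (sb E30630 F133790)
theorem F204519 : act 3 n29974 = n21756 := (sb E30630 F133791)
theorem F204520 : act 1 n29946 = n21802 := (sb E30631 F133867)
theorem E30646 : n43658 = n22194 := ((D43658).symm.trans (sb E30631 F133869))
theorem F204521 : act 9 n29946 = n21756 := (sb E30631 (iv D31705))
theorem F204522 : act 4 n15252 = n20568 := (sb E30632 (iv D29947))
theorem F204523 : act 4 n22192 = n29940 := (sb E30634 (iv D43651))
theorem F204524 : act 5 n22186 = n29935 := (sb E30636 (iv D43641))
theorem F204525 : act 1 n43689 = n31739 := (sb E30637 F192140)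
theorem F204526 : act 3 n43689 = n31702 := (sb E30637 F192141)
theorem F204527 : act 3 n43681 = n31694 := (sb E30638 F192111)
theorem F204528 : act 1 n43650 = n31763 := (sb E30639 F192235)
theorem F204529 : act 4 n43650 = n32329 := (sb E30639 F192237)
theorem F204530 : act 9 n43650 = n31702 := (sb E30639 (iv D46254))
theorem F204531 : act 9 n43638 = n31694 := (sb E30640 (iv D46246))
theorem F204532 : act 0 n43683 = n31732 := (sb E30641 F192113)
theorem F204533 : act 3 n43593 = n31755 := (sb E30642 F192385)
theorem F204534 : act 9 n43593 = n31731 := (sb E30642 (iv D46296))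
theorem F204535 : act 9 n43594 = n31732 := (sb E30643 (iv D46298))
theorem F204536 : act 0 n43639 = n31757 := (sb E30644 F192208)
theorem F204537 : act 5 n43639 = n32323 := (sb E30644 F192211)
theorem F204538 : act 9 n43639 = n31695 := (sb E30644 (iv D46248))
theorem F204539 : act 3 n43601 = n31763 := (sb E30645 F192415)
theorem F204540 : act 9 n43601 = n31739 := (sb E30645 (iv D46304))
theorem F204541 : act 4 n22194 = n29946 := (sb E30646 (iv D43658))
theorem F204542 : act 4 n42218 = n31767 := d46_44 (iv D32332) F95213 F204541 F127051 F88812 F62230 (iv D14173) (iv F61366) F61364 F45500 F32885 (iv F46634) (iv D10469) (iv F46518) F46521 F32928 (iv F45842) (iv F204357) F62175 F43694 F30840 D9767 F43751 F32394 F23364 (iv F33040) (iv F46882) (iv F66772) (iv D15294) F46880 (iv F65510) F65509 (iv F93570) (iv F204520) (iv D29946) (iv F126980) F126978 F93455 (iv F132650) (iv F187262) (iv D44878) (iv F187050) F187053 (iv F176475) (iv D31767) F93574 F65512 F45990 (iv D10321) (iv F43747) F43746 F43745 F43744 (iv F43694) F204181 (iv F45867) (iv F62074) (iv F204214) F46759 (iv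 F66616) (iv F95215) (iv F136429)
theorem E30647 : n46339 = n42261 := (c3_2 F204542 (iv F192525) (iv D42261) (iv F176473))
theorem F204543 : act 0 n42261 = n31767 := (sb E30647 F192525)
theorem F204544 : act 3 n42261 = n31766 := (sb E30647 (iv D46339))
theorem F204545 : act 1 n31768 = n42218 := d11_3 F204542 F134080 D31768
theorem F204546 : act 5 n44835 = n31768 := d12_0 F204545 F176475 D44835
theorem F204547 : act 2 n32333 = n41685 := d46_11 (iv D21826) (iv F88897) F88896 F88895 (iv F127165) F204518 (iv D21783) (iv F93457) (iv F126978) (iv F204477) D32333 F174217 (iv D41685) F121512 F121510 F121509 F86156 (iv F87590) (iv D20315) (iv F87471) F87475 F62049 F45842 F32927 (iv D7233) F23263 F23262 (iv F23197) F23195 (iv F32008) (iv D7022) (iv F31977) (iv F44720) (iv F63614) (iv D14499) (iv F60238) (iv D13707) F42382 F42381 F29911 F29910 D6537 F29937 F21201 F15801 (iv F22288) F22287 (iv F22579) (iv D4834) D4833 D7000 D10157 F45340 (iv F203651) F43511 D14101 F61917 F45752 F45751 (iv F45991) (iv F65512) (iv F93657)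
theorem F204548 : act 0 n41671 = n32333 := d1_3 F204547 (iv D41685) (iv F174150)
theorem F204549 : act 4 n42289 = n32333 := d18_0 F204547 F174219 (iv F176734)
theorem F204550 : act 1 n32334 = n42289 := d11_3 F204549 F136434 D32334
theorem F204551 : act 5 n44864 = n32334 := d12_0 F204550 F176735 (iv F187207)
theorem F204552 : act 3 n32332 = n41671 := d2_0 F204548 (iv D32333) (iv F136429)
theorem F204553 : act 3 n41672 = n32275 := d45_89 F136179 (iv D22218) F66681 F66682 (iv F93571) (iv F204516) F126923 F88812 F62231 D20609 D29998 (iv F204258) (iv D41657) (iv D28603) (iv D19669) F59498 F59499 F41892 D9468 (iv F60189) F60186 F60187 F42341 (iv F202828) F202827 F31400 F31401 (iv D4753) (iv D3288) (iv D2281) D2282 F11216 (iv F15769) (iv F22235) (iv F31429) F31430 F24177 D5212 D7557 F34374 D7559 F34382 F34380 F24763 F17960 F202820 (iv F20946) D6452 D9337 D13533 F59463 F59462 (iv F204233) (iv D10552) F33138 (iv D7278) (iv F33036) F33037 (iv F45988) F45987 F45986 F32389 F22896 (iv D3396) (iv D2352) (iv F11402) (iv F15274) (iv D3186) F10874 (iv F10868) F10869 (iv F15262) (iv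 F21462) D6621 (iv F42879) F42880 F30245 F30244 F21463 (iv F21168) F21169 D6527 F29899 (iv F29589) (iv F41928) (iv F59553) (iv F84979) (iv F121459) (iv F174155)
theorem F204554 : act 0 n32276 = n41672 := d2_3 F204553 F136175 D32276
theorem F204555 : act 2 n41638 = n32276 := d1_0 F204554 F174155 (iv F174003)
theorem F204556 : act 4 n42240 = n32276 := d3_0 F204554 F174156 (iv F176559)
theorem F204557 : act 1 n32277 = n42240 := d11_3 F204556 F136180 D32277
theorem F204558 : act 5 n44865 = n32277 := d12_0 F204557 F176561 (iv F187212)
theorem E30648 : n31769 = n29966 := (c46_6 D10308 F45942 F45941 D14980 D21805 D31769 F204513 (iv F133904) F133903 (iv D31716) (iv D21763) (iv F92531) (iv F130401) (iv F187035) (iv D44819) (iv D30728) F90920 F69509 F48738 F201421 F201214 D5856 (iv F200933) F19561 F13860 F9855 F9854 (iv F8867) F8871 (iv F9043) F9042 (iv F12701) F12700 (iv F17860) (iv F25166) F201223 F33962 F24198 (iv F34264) (iv F48629) F48628 (iv F49546) F201826 F197464 F49242 (iv F45014) F45013 F31715 F22439 D6946 F31744 (iv F31909) D10147 D14749 D21468 D31286 F132295 (iv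 F133537) (iv F204078) F93428 F65360 F45904 F32353)
theorem E30649 : n21805 = n20601 := (((F127134).symm.trans (sb E30648 (iv D31769)))).symm
theorem E30650 : n46310 = n43683 := ((((iv F182457)).symm.trans (sb E30648 (iv F192434)))).symm
theorem E30651 : n21808 = n21794 := (((F127138).symm.trans (sb E30648 F134086))).symm
theorem E30652 : n43695 = n43677 := ((((iv F182439)).symm.trans (sb E30648 (iv F182503)))).symm
theorem E30654 : n29989 = n14980 := (((iv F127227)).symm.trans (sb E30649 (iv D21805)))
theorem E30655 : n31770 = n14167 := (((F88861).symm.trans (sb E30649 D31770))).symm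
theorem E30656 : n14988 = n14982 := ((F88863).symm.trans (sb E30649 F93581))
theorem E30657 : n29983 = n29977 := (((iv F127206)).symm.trans (sb E30649 (iv F127180)))
theorem E30658 : n31448 = n29991 := (((D29991).symm.trans (sb E30649 (iv F132843)))).symm
theorem F204559 : act 1 n43683 = n31745 := (sb E30650 (iv D46310))
theorem E30660 : n31757 = n31748 := ((F182460).symm.trans (sb E30650 F192436))
theorem E30661 : n31775 = n29935 := ((((iv F204511)).symm.trans (sb E30651 D31775))).symm
theorem E30662 : n31776 = n14971 := (((F93543).symm.trans (sb E30651 D31776))).symm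
theorem E30663 : n15262 = n14990 := ((F93544).symm.trans (sb E30651 F93590))
theorem E30664 : n31751 = n14985 := (((iv F134032)).symm.trans (sb E30651 F93591))
theorem E30665 : n31759 = n31451 := ((D31759).symm.trans (sb E30651 (iv F132853)))
theorem F204560 : act 6 n43677 = n29980 := (sb E30652 F182502)
theorem E30667 : n43711 = n21786 := ((((iv F93518)).symm.trans (sb E30654 (iv F182570)))).symm
theorem F204561 : act 2 n14980 = n20601 := (sb E30654 F127227)
theorem E30668 : n43714 = n10308 := ((((iv D14980)).symm.trans (sb E30654 (iv F182584)))).symm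
theorem E30669 : n21806 = n20600 := ((D21806).symm.trans (sb E30654 F127228))
theorem E30670 : n21817 = n10309 := (((F65448).symm.trans (sb E30654 F127230))).symm
theorem E30671 : n43705 = n20593 := ((((iv F88828)).symm.trans (sb E30654 (iv F182548)))).symm
theorem E30672 : n43715 = n21577 := ((((iv F92675)).symm.trans (sb E30654 D43715))).symm
theorem E30673 : n21807 = n20599 := ((D21807).symm.trans (sb E30654 (iv D29989)))
theorem E30674 : n21809 = n10313 := (((F62208).symm.trans (sb E30655 F134089))).symm
theorem E30675 : n43696 = n20597 := ((((iv F88846)).symm.trans (sb E30655 (iv F182507)))).symm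
theorem F204562 : act 1 n14982 = n21794 := (sb E30656 (iv F93541))
theorem E30677 : n10519 = n10314 := (((F65456).symm.trans (sb E30656 F65478))).symm
theorem F204563 : act 6 n14982 = n20601 := (sb E30656 (iv F88863))
theorem E30679 : n21819 = n21579 := ((((iv F92682)).symm.trans (sb E30656 D21819))).symm
theorem E30680 : n21810 = n10312 := ((D21810).symm.trans (sb E30656 (iv D14988)))
theorem F204564 : act 1 n29977 = n43677 := (sb E30657 (iv F182435))
theorem F204565 : act 7 n29977 = n20601 := (sb E30657 F127206)
theorem E30682 : n43707 = n43100 := ((((iv F179979)).symm.trans (sb E30657 D43707))).symm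
theorem E30683 : n43697 = n20596 := ((D43697).symm.trans (sb E30657 (iv D29983)))
theorem E30684 : n44941 = n43717 := (((D43717).symm.trans (sb E30658 (iv F187486)))).symm
theorem E30685 : n45888 = n43114 := ((((iv F180037)).symm.trans (sb E30658 D45888))).symm
theorem E30686 : n46316 = n43639 := ((D46316).symm.trans (sb E30660 (iv F204536)))
theorem E30687 : n46326 = n21788 := ((((iv D31748)).symm.trans (sb E30660 (iv F192486)))).symm
theorem F204566 : act 2 n31748 = n21794 := (sb E30660 F134046)
theorem E30688 : n46329 = n46289 := ((((iv F192359)).symm.trans (sb E30660 (iv F192496)))).symm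
theorem E30689 : n46317 = n21793 := ((D46317).symm.trans (sb E30660 F134047))
theorem E30690 : n22209 = n21796 := (((F134020).symm.trans (sb E30660 F134048))).symm
theorem F204567 : act 6 n31748 = n43683 := (sb E30660 (iv F182460))
theorem E30692 : n46330 = n45865 := ((((iv F190719)).symm.trans (sb E30660 D46330))).symm
theorem E30693 : n46318 = n21792 := ((D46318).symm.trans (sb E30660 (iv D31757)))
theorem E30694 : n22186 = n21820 := (((iv F204524)).symm.trans (sb E30661 F134108))
theorem E30695 : n43636 = n21813 := (((iv F182277)).symm.trans (sb E30661 F134109))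
theorem E30696 : n45892 = n43615 := ((((iv F182196)).symm.trans (sb E30661 (iv F190818)))).symm
theorem E30697 : n22228 = n10304 := (((F65418).symm.trans (sb E30662 F134111))).symm
theorem E30698 : n21814 = n21790 := ((((iv F93534)).symm.trans (sb E30662 F134112))).symm
theorem E30699 : n45893 = n21795 := (((D21795).symm.trans (sb E30662 (iv F190822)))).symm
theorem E30700 : n10521 = n10502 := ((F65482).symm.trans (sb E30663 F66652))
theorem F204568 : act 5 n14990 = n21794 := (sb E30663 (iv F93544))
theorem E30701 : n22203 = n10316 := (((F65484).symm.trans (sb E30663 (iv F95250)))).symm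
theorem E30702 : n22211 = n21587 := ((((iv F92709)).symm.trans (sb E30663 D22211))).symm
theorem E30703 : n21821 = n10501 := ((D21821).symm.trans (sb E30663 (iv D15262)))
theorem F204569 : act 7 n14985 = n21794 := (sb E30664 F134032)
theorem E30706 : n21815 = n21789 := ((D21815).symm.trans (sb E30664 (iv D31751)))
theorem F204570 : act 6 n31451 = n43685 := (sb E30665 (iv F182467))
theorem F204571 : act 8 n31451 = n21794 := (sb E30665 (iv D31759))
theorem E30708 : n45894 = n45876 := ((D45894).symm.trans (sb E30665 (iv F190755)))
theorem E30709 : n31746 = n29987 := ((D31746).symm.trans (sb E30667 F182571))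
theorem E30710 : n31785 = n14967 := (((F93520).symm.trans (sb E30667 F182573))).symm
theorem E30711 : n31747 = n29986 := ((D31747).symm.trans (sb E30667 (iv D43711)))
theorem E30712 : n31788 = n7105 := (((F45943).symm.trans (sb E30668 F182587))).symm
theorem E30713 : n29988 = n14981 := (((D14981).symm.trans (sb E30668 (iv D43714)))).symm
theorem F204572 : act 4 n20600 = n14980 := (sb E30669 (iv D21806))
theorem E30714 : n31772 = n14171 := (((F88857).symm.trans (sb E30669 D31772))).symm
theorem E30715 : n14987 = n14983 := ((F88858).symm.trans (sb E30669 F93584))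
theorem E30716 : n29982 = n29978 := (((iv F127201)).symm.trans (sb E30669 (iv F127184)))
theorem E30717 : n31449 = n29990 := (((D29990).symm.trans (sb E30669 (iv F132846)))).symm
theorem E30719 : n15285 = n7108 := (((F45945).symm.trans (sb E30670 F93624))).symm
theorem E30721 : n31789 = n14822 := ((((iv F64805)).symm.trans (sb E30670 D31789))).symm
theorem E30722 : n14986 = n14984 := (((D14984).symm.trans (sb E30670 (iv D21817)))).symm
theorem E30723 : n29981 = n29979 := (((D29979).symm.trans (sb E30671 (iv D43705)))).symm
theorem F204573 : act 2 n21577 = n29991 := (sb E30672 F182589)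
theorem E30724 : n31774 = n29577 := ((((iv F125439)).symm.trans (sb E30673 D31774))).symm
theorem F204574 : act 9 n20599 = n14980 := (sb E30673 (iv D21807))
theorem F204575 : act 4 n10313 = n14982 := (sb E30674 (iv D21809))
theorem E30726 : n15277 = n7111 := (((F45960).symm.trans (sb E30674 F93594))).symm
theorem E30727 : n31452 = n14989 := (((D14989).symm.trans (sb E30674 (iv F132858)))).symm
theorem F204576 : act 4 n20597 = n29977 := (sb E30675 (iv D43696))
theorem E30728 : n7253 = n7252 := ((F45963).symm.trans (sb E30677 F46850))
theorem E30730 : n15287 = n14827 := ((((iv F64822)).symm.trans (sb E30677 D15287))).symm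
theorem E30731 : n14991 = n7251 := ((D14991).symm.trans (sb E30677 (iv D10519)))
theorem E30733 : n31791 = n30814 := ((((iv F130581)).symm.trans (sb E30679 D31791))).symm
theorem F204577 : act 6 n21579 = n29991 := (sb E30679 (iv F127238))
theorem E30734 : n31462 = n31453 := (((D31453).symm.trans (sb E30679 (iv F132892)))).symm
theorem F204578 : act 9 n10312 = n14982 := (sb E30680 (iv D21810))
theorem F204579 : act 4 n43100 = n29984 := (sb E30682 F182554)
theorem F204580 : act 7 n43100 = n29991 := (sb E30682 F182556)
theorem F204581 : act 9 n20596 = n29977 := (sb E30683 (iv D43697))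
theorem F204582 : act 2 n43717 = n30812 := (sb E30684 (iv D44941))
theorem F204583 : act 2 n43114 = n31450 := (sb E30685 F190801)
theorem F204584 : act 0 n43639 = n31748 := (sb E30686 (iv D46316))
theorem E30736 : n32323 = n31760 := ((F204537).symm.trans (sb E30686 F192454))
theorem F204585 : act 7 n43639 = n31753 := (sb E30686 F192455)
theorem E30737 : n31755 = n31749 := (((D31749).symm.trans (sb E30687 F192488))).symm
theorem E30738 : n32351 = n14972 := (((F93525).symm.trans (sb E30687 F192489))).symm
theorem E30739 : n31754 = n31750 := (((D31750).symm.trans (sb E30687 (iv D46326)))).symm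
theorem E30740 : n32354 = n31736 := (((F192360).symm.trans (sb E30688 F192497))).symm
theorem F204586 : act 9 n46289 = n31756 := (sb E30688 (iv D46329))
theorem F204587 : act 4 n21793 = n31748 := (sb E30689 (iv D46317))
theorem E30741 : n32342 = n14975 := (((F93540).symm.trans (sb E30689 F192458))).symm
theorem E30742 : n15264 = n15261 := ((F93548).symm.trans (sb E30690 F95271))
theorem E30745 : n31761 = n15260 := ((D31761).symm.trans (sb E30690 (iv D22209)))
theorem F204588 : act 4 n45865 = n31758 := (sb E30692 F192499)
theorem F204589 : act 9 n21792 = n31748 := (sb E30693 (iv D46318))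
theorem E30746 : n15288 = n15245 := ((F93633).symm.trans (sb E30694 F95177))
theorem F204590 : act 5 n21820 = n29935 := (sb E30694 F204524)
theorem E30747 : n32317 = n14993 := (((F93635).symm.trans (sb E30694 (iv F136368)))).symm
theorem E30748 : n32325 = n31463 := ((((iv F132897)).symm.trans (sb E30694 D32325))).symm
theorem E30749 : n31792 = n15244 := ((D31792).symm.trans (sb E30694 (iv D22186)))
theorem E30750 : n31782 = n29932 := ((D31782).symm.trans (sb E30695 (iv D43636)))
theorem F204591 : act 7 n21813 = n29935 := (sb E30695 F182277)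
theorem E30751 : n31783 = n31692 := ((D31783).symm.trans (sb E30695 F204432))
theorem F204592 : act 0 n43615 = n31451 := (sb E30696 (iv D45892))
theorem F204593 : act 7 n43615 = n31456 := (sb E30696 F190817)
theorem E30754 : n15276 = n7243 := (((F45928).symm.trans (sb E30697 (iv D22228)))).symm
theorem E30756 : n15282 = n14973 := ((((iv F65426)).symm.trans (sb E30697 F95345))).symm
theorem F204594 : act 4 n21790 = n14985 := (sb E30698 (iv D21814))
theorem E30760 : n31752 = n31457 := ((D31752).symm.trans (sb E30698 (iv F132876)))
theorem F204595 : act 4 n21795 = n31451 := (sb E30699 (iv D45893))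
theorem E30761 : n7271 = n7239 := (((F46784).symm.trans (sb E30700 F46856))).symm
theorem F204596 : act 4 n10502 = n14990 := (sb E30700 (iv F65482))
theorem E30762 : n15258 = n7255 := (((iv F66639)).symm.trans (sb E30700 F46858))
theorem E30763 : n15263 = n15231 := ((D15263).symm.trans (sb E30700 (iv F66517)))
theorem E30767 : n15257 = n14994 := (((D14994).symm.trans (sb E30701 (iv D22203)))).symm
theorem E30769 : n32268 = n31464 := (((D31464).symm.trans (sb E30702 (iv F136152)))).symm
theorem F204597 : act 9 n10501 = n14990 := (sb E30703 (iv D21821))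
theorem E30771 : n31786 = n31432 := ((((iv F132784)).symm.trans (sb E30706 D31786))).symm
theorem F204598 : act 9 n21789 = n14985 := (sb E30706 (iv D21815))
theorem F204599 : act 7 n45876 = n31458 := (sb E30708 F190825)
theorem F204600 : act 9 n45876 = n31451 := (sb E30708 (iv D45894))
theorem E30772 : n46237 = n43709 := ((((iv F182561)).symm.trans (sb E30709 (iv F192166)))).symm
theorem E30773 : n46311 = n43681 := ((((iv F182451)).symm.trans (sb E30709 (iv F192437)))).symm
theorem F204601 : act 4 n29987 = n21786 := (sb E30709 (iv D31746))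
theorem F204602 : act 6 n29987 = n21789 := (sb E30709 F134014)
theorem E30775 : n43703 = n43672 := (((iv F182538)).symm.trans (sb E30709 (iv F182420)))
theorem E30776 : n45863 = n43712 := (((D43712).symm.trans (sb E30709 (iv F190711)))).symm
theorem E30777 : n22237 = n10301 := (((F65406).symm.trans (sb E30710 F134147))).symm
theorem E30778 : n43708 = n43633 := (((iv F182557)).symm.trans (sb E30711 (iv F204433)))
theorem E30779 : n46312 = n43680 := ((((iv F182447)).symm.trans (sb E30711 (iv F192439)))).symm
theorem E30780 : n43710 = n21787 := ((D43710).symm.trans (sb E30711 F134016))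
theorem F204603 : act 6 n29986 = n21790 := (sb E30711 F134018)
theorem E30781 : n43702 = n43673 := (((iv F182534)).symm.trans (sb E30711 (iv F182425)))
theorem F204604 : act 9 n29986 = n21786 := (sb E30711 (iv D31747))
theorem E30783 : n22240 = n4908 := (((F32360).symm.trans (sb E30712 F134158))).symm
theorem E30784 : n21816 = n10310 := (((D10310).symm.trans (sb E30712 (iv D31788)))).symm
theorem F204605 : act 3 n14981 = n20599 := (sb E30713 (iv D29988))
theorem E30787 : n22224 = n9766 := (((F62226).symm.trans (sb E30714 F134098))).symm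
theorem E30788 : n43698 = n20604 := ((((iv F88876)).symm.trans (sb E30714 (iv F182518)))).symm
theorem F204606 : act 2 n14983 = n10313 := (sb E30715 F65472)
theorem E30790 : n10514 = n10317 := ((F65460).symm.trans (sb E30715 F65474))
theorem F204607 : act 6 n14983 = n20600 := (sb E30715 (iv F88858))
theorem E30791 : n21818 = n21580 := ((((iv F92686)).symm.trans (sb E30715 D21818))).symm
theorem F204608 : act 9 n14983 = n10311 := (sb E30715 (iv D14987))
theorem F204609 : act 2 n29978 = n20597 := (sb E30716 F127198)
theorem F204610 : act 7 n29978 = n20600 := (sb E30716 F127201)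
theorem E30792 : n43706 = n43101 := ((((iv F179983)).symm.trans (sb E30716 D43706))).symm
theorem F204611 : act 9 n29978 = n20595 := (sb E30716 (iv D29982))
theorem E30793 : n45447 = n43716 := (((D43716).symm.trans (sb E30717 (iv F189272)))).symm
theorem F204612 : act 4 n29990 = n21577 := (sb E30717 (iv D31449))
theorem E30794 : n45890 = n43113 := ((((iv F180032)).symm.trans (sb E30717 D45890))).symm
theorem E30795 : n10518 = n5009 := (((F32369).symm.trans (sb E30719 F66741))).symm
theorem E30797 : n22241 = n10200 := ((((iv F45487)).symm.trans (sb E30719 D22241))).symm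
theorem E30798 : n10517 = n10315 := (((D10315).symm.trans (sb E30719 (iv D15285)))).symm
theorem E30799 : n45906 = n21581 := (((D21581).symm.trans (sb E30721 (iv F190869)))).symm
theorem F204613 : act 2 n14984 = n10312 := (sb E30722 F65469)
theorem F204614 : act 4 n14984 = n10311 := (sb E30722 (iv D14986))
theorem F204615 : act 6 n14984 = n20599 := (sb E30722 (iv F88853))
theorem E30800 : n21812 = n21583 := ((D21812).symm.trans (sb E30722 (iv F92696)))
theorem F204616 : act 2 n29979 = n20596 := (sb E30723 F127194)
theorem F204617 : act 4 n29979 = n20595 := (sb E30723 (iv D29981))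
theorem F204618 : act 7 n29979 = n20599 := (sb E30723 F127196)
theorem E30801 : n43700 = n43104 := ((D43700).symm.trans (sb E30723 (iv F179996)))
theorem E30802 : n45630 = n43111 := (((D43111).symm.trans (sb E30724 (iv F204486)))).symm
theorem E30803 : n45891 = n43112 := (((D43112).symm.trans (sb E30724 (iv F190814)))).symm
theorem E30805 : n10513 = n5012 := (((F32383).symm.trans (sb E30726 (iv D15277)))).symm
theorem F204619 : act 4 n14989 = n21579 := (sb E30727 (iv D31452))
theorem E30809 : n45896 = n21586 := ((((iv F92705)).symm.trans (sb E30727 D45896))).symm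
theorem E30810 : n5022 = n5008 := (((F33011).symm.trans (sb E30728 F33015))).symm
theorem F204620 : act 4 n7252 = n10314 := (sb E30728 (iv F45963))
theorem E30811 : n10515 = n5011 := (((iv F46836)).symm.trans (sb E30728 F33017))
theorem E30812 : n10520 = n10478 := ((D10520).symm.trans (sb E30728 (iv F46676)))
theorem E30817 : n22168 = n21588 := (((D21588).symm.trans (sb E30730 (iv F95094)))).symm
theorem F204621 : act 9 n7251 = n10314 := (sb E30731 (iv D14991))
theorem E30820 : n46152 = n44945 := (((D44945).symm.trans (sb E30733 (iv F191825)))).symm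
theorem F204622 : act 6 n30814 = n43717 := (sb E30733 (iv F182599))
theorem F204623 : act 1 n31453 = n45876 := (sb E30734 (iv F190752))
theorem F204624 : act 6 n31453 = n43114 := (sb E30734 (iv F180036))
theorem E30822 : n45897 = n21585 := ((D45897).symm.trans (sb E30734 (iv D31462)))
theorem E30823 : n22212 = n22185 := ((F134055).symm.trans (sb E30736 F136393))
theorem F204625 : act 5 n31760 = n43639 := (sb E30736 (iv F204537))
theorem E30824 : n46333 = n22184 := ((D46333).symm.trans (sb E30736 (iv D32323)))
theorem E30825 : n46324 = n46240 := ((((iv F192178)).symm.trans (sb E30737 (iv F192481)))).symm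
theorem F204626 : act 1 n31749 = n21793 := (sb E30737 F134041)
theorem E30826 : n46319 = n43593 := ((D46319).symm.trans (sb E30737 (iv F204533)))
theorem E30827 : n22201 = n21800 := ((F134023).symm.trans (sb E30737 F134043))
theorem E30828 : n46327 = n45866 := ((((iv F190723)).symm.trans (sb E30737 D46327))).symm
theorem F204627 : act 9 n31749 = n21791 := (sb E30737 (iv D31755))
theorem E30829 : n22207 = n10503 := (((F65419).symm.trans (sb E30738 F136506))).symm
theorem E30830 : n22206 = n21797 := (((D21797).symm.trans (sb E30738 (iv D32351)))).symm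
theorem E30831 : n46323 = n43635 := ((((iv F204428)).symm.trans (sb E30739 (iv F192478)))).symm
theorem F204628 : act 1 n31750 = n21792 := (sb E30739 F134038)
theorem E30832 : n46325 = n43590 := ((((iv F204496)).symm.trans (sb E30739 D46325))).symm
theorem F204629 : act 4 n31750 = n21791 := (sb E30739 (iv D31754))
theorem E30833 : n46321 = n45871 := ((D46321).symm.trans (sb E30739 (iv F190741)))
theorem E30834 : n43598 = n22208 := (((iv F204500)).symm.trans (sb E30740 (iv D32354)))
theorem E30835 : n22200 = n10506 := (((F65431).symm.trans (sb E30741 (iv D32342)))).symm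
theorem F204630 : act 4 n15261 = n21796 := (sb E30742 (iv F93548))
theorem E30836 : n22202 = n10505 := (((iv F95246)).symm.trans (sb E30742 F66661))
theorem E30837 : n22210 = n22145 := ((D22210).symm.trans (sb E30742 (iv F95000)))
theorem F204631 : act 9 n15260 = n21796 := (sb E30745 (iv D31761))
theorem E30840 : n10545 = n10489 := (((F66582).symm.trans (sb E30746 F66751))).symm
theorem F204632 : act 4 n15245 = n21820 := (sb E30746 (iv F93633))
theorem E30841 : n22227 = n10493 := (((F66583).symm.trans (sb E30746 (iv F95342)))).symm
theorem E30842 : n22182 = n10524 := (((iv F95161)).symm.trans (sb E30746 F66753))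
theorem E30843 : n22187 = n22169 := ((D22187).symm.trans (sb E30746 (iv F95099)))
theorem E30845 : n22181 = n21823 := (((D21823).symm.trans (sb E30747 (iv D32317)))).symm
theorem F204633 : act 5 n31463 = n43615 := (sb E30748 (iv F204472))
theorem F204634 : act 9 n15244 = n21820 := (sb E30749 (iv D31792))
theorem F204635 : act 4 n29932 = n21813 := (sb E30750 (iv D31782))
theorem E30847 : n45899 = n43612 := ((((iv F182187)).symm.trans (sb E30750 (iv F190847)))).symm
theorem F204636 : act 9 n31692 = n21813 := (sb E30751 (iv D31783))
theorem E30850 : n10533 = n5001 := (((F32974).symm.trans (sb E30754 F66706))).symm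
theorem E30852 : n10516 = n10504 := ((((iv F46793)).symm.trans (sb E30754 F66708))).symm
theorem E30853 : n22157 = n10507 := (((D10507).symm.trans (sb E30754 (iv F95049)))).symm
theorem E30855 : n22163 = n21798 := (((D21798).symm.trans (sb E30756 (iv F95074)))).symm
theorem E30856 : n45901 = n43548 := ((D45901).symm.trans (sb E30760 (iv F204407)))
theorem F204637 : act 7 n31457 = n21795 := (sb E30760 F134035)
theorem F204638 : act 8 n31457 = n21790 := (sb E30760 (iv D31752))
theorem E30857 : n45902 = n45869 := ((D45902).symm.trans (sb E30760 (iv F190734)))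
theorem E30858 : n10499 = n5024 := (((iv F46775)).symm.trans (sb E30761 F33099))
theorem E30859 : n10546 = n4998 := ((((iv D7239)).symm.trans (sb E30761 D10546))).symm
theorem E30860 : n22199 = n5013 := (((F33023).symm.trans (sb E30762 (iv F95235)))).symm
theorem F204639 : act 7 n7255 = n10502 := (sb E30762 F66639)
theorem E30861 : n22204 = n10480 := ((((iv F46683)).symm.trans (sb E30762 D22204))).symm
theorem E30862 : n10525 = n10498 := ((D10525).symm.trans (sb E30762 (iv D15258)))
theorem F204640 : act 8 n15231 = n10502 := (sb E30763 (iv D15263))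
theorem E30863 : n22170 = n22144 := ((D22170).symm.trans (sb E30763 (iv F94996)))
theorem F204641 : act 5 n14994 = n21789 := (sb E30767 (iv F93529))
theorem F204642 : act 7 n14994 = n10501 := (sb E30767 F66635)
theorem E30866 : n22138 = n21824 := (((D21824).symm.trans (sb E30767 (iv F94974)))).symm
theorem F204643 : act 5 n31464 = n45876 := (sb E30769 (iv F190754))
theorem E30867 : n45910 = n22143 := ((D45910).symm.trans (sb E30769 (iv D32268)))
theorem E30868 : n45903 = n45868 := (((D45868).symm.trans (sb E30771 (iv F190858)))).symm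
theorem F204644 : act 4 n43709 = n31689 := (sb E30772 (iv D46237))
theorem F204645 : act 6 n43709 = n31692 := (sb E30772 F192169)
theorem F204646 : act 4 n43681 = n31745 := (sb E30773 (iv D46311))
theorem F204647 : act 6 n43681 = n31749 := (sb E30773 F192438)
theorem F204648 : act 5 n43672 = n29993 := (sb E30775 F182537)
theorem F204649 : act 7 n43672 = n29987 := (sb E30775 F182538)
theorem F204650 : act 9 n43672 = n29980 := (sb E30775 (iv D43703))
theorem F204651 : act 4 n43712 = n31429 := (sb E30776 (iv D45863))
theorem F204652 : act 6 n43712 = n31432 := (sb E30776 F190710)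
theorem E30870 : n32388 = n14940 := ((((iv F65304)).symm.trans (sb E30777 (iv F136652)))).symm
theorem E30872 : n15283 = n7240 := (((F45917).symm.trans (sb E30777 F95377))).symm
theorem F204653 : act 0 n43633 = n29986 := (sb E30778 F182557)
theorem F204654 : act 4 n43633 = n29985 := (sb E30778 (iv D43708))
theorem F204655 : act 6 n43680 = n31750 := (sb E30779 F192441)
theorem F204656 : act 9 n43680 = n31745 := (sb E30779 (iv D46312))
theorem F204657 : act 3 n21787 = n29986 := (sb E30780 (iv D43710))
theorem F204658 : act 4 n43673 = n29980 := (sb E30781 (iv D43702))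
theorem F204659 : act 7 n43673 = n29986 := (sb E30781 F182534)
theorem E30874 : n15316 = n3397 := (((F22881).symm.trans (sb E30783 F95389))).symm
theorem E30878 : n31787 = n14901 := ((((iv F65146)).symm.trans (sb E30784 D31787))).symm
theorem E30880 : n15274 = n7113 := (((F43747).symm.trans (sb E30787 (iv D22224)))).symm
theorem F204660 : act 5 n20604 = n29978 := (sb E30788 (iv D43698))
theorem E30883 : n7256 = n7248 := ((F45977).symm.trans (sb E30790 (iv D10514)))
theorem F204661 : act 5 n10317 = n14983 := (sb E30790 (iv F65460))
theorem F204662 : act 7 n10317 = n7251 := (sb E30790 F46832)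
theorem E30884 : n15224 = n14995 := (((D14995).symm.trans (sb E30790 (iv F66488)))).symm
theorem F204663 : act 2 n21580 = n14989 := (sb E30791 F93626)
theorem E30885 : n31790 = n31154 := ((((iv F131810)).symm.trans (sb E30791 D31790))).symm
theorem F204664 : act 6 n21580 = n29990 := (sb E30791 (iv F127234))
theorem E30886 : n31461 = n31454 := (((D31454).symm.trans (sb E30791 (iv F132888)))).symm
theorem F204665 : act 2 n43101 = n29984 := (sb E30792 F182550)
theorem F204666 : act 5 n43101 = n29994 := (sb E30792 F182551)
theorem F204667 : act 7 n43101 = n29990 := (sb E30792 F182552)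
theorem F204668 : act 4 n43716 = n31151 := (sb E30793 (iv D45447))
theorem F204669 : act 4 n43113 = n31450 := (sb E30794 F190809)
theorem F204670 : act 2 n5009 = n7252 := (sb E30795 F46844)
theorem E30887 : n7268 = n3465 := ((((iv D5009)).symm.trans (sb E30795 F46845))).symm
theorem E30889 : n15286 = n7221 := ((((iv F32871)).symm.trans (sb E30795 D15286))).symm
theorem E30890 : n7254 = n7250 := ((D7254).symm.trans (sb E30795 (iv D10518)))
theorem E30894 : n32298 = n14828 := (((D14828).symm.trans (sb E30797 (iv F136276)))).symm
theorem F204671 : act 2 n10315 = n7251 := (sb E30798 F46841)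
theorem E30895 : n15227 = n14992 := (((D14992).symm.trans (sb E30798 (iv F66500)))).symm
theorem E30896 : n31460 = n31455 := (((D31455).symm.trans (sb E30799 (iv D45906)))).symm
theorem E30897 : n31621 = n31459 := (((D31459).symm.trans (sb E30800 (iv F133532)))).symm
theorem F204672 : act 7 n21583 = n14989 := (sb E30800 F93608)
theorem F204673 : act 8 n21583 = n14984 := (sb E30800 (iv D21812))
theorem F204674 : act 6 n43104 = n29984 := (sb E30801 F182526)
theorem F204675 : act 8 n43104 = n29979 := (sb E30801 (iv D43700))
theorem F204676 : act 2 n43111 = n31276 := (sb E30802 F189925)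
theorem F204677 : act 4 n43111 = n31275 := (sb E30802 (iv D45630))
theorem F204678 : act 7 n43111 = n31279 := (sb E30802 F189927)
theorem F204679 : act 8 n43111 = n31616 := (sb E30802 F204488)
theorem F204680 : act 8 n43112 = n31450 := (sb E30803 (iv D45891))
theorem E30903 : n15223 = n7257 := (((D7257).symm.trans (sb E30805 (iv F66485)))).symm
theorem F204681 : act 4 n21586 = n31453 := (sb E30809 F190831)
theorem E30907 : n3475 = n3474 := (((F23335).symm.trans (sb E30810 (iv D5022)))).symm
theorem E30908 : n7249 = n3477 := (((iv F33001)).symm.trans (sb E30810 F23402))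
theorem F204682 : act 7 n5011 = n7252 := (sb E30811 F46836)
theorem E30911 : n15280 = n7223 := ((((iv F32881)).symm.trans (sb E30811 D15280))).symm
theorem F204683 : act 8 n10478 = n7252 := (sb E30812 (iv D10520))
theorem E30912 : n15232 = n15230 := ((D15232).symm.trans (sb E30812 (iv F66513)))
theorem E30919 : n31465 = n15229 := ((D31465).symm.trans (sb E30817 (iv D22168)))
theorem F204684 : act 3 n44945 = n31628 := (sb E30820 (iv D46152))
theorem F204685 : act 8 n21585 = n31453 := (sb E30822 (iv D45897))
theorem E30921 : n32326 = n32321 := ((((iv F136382)).symm.trans (sb E30823 (iv F136403)))).symm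
theorem F204686 : act 4 n22185 = n31760 := (sb E30823 (iv F134055))
theorem E30922 : n32341 = n15249 := (((F95172).symm.trans (sb E30823 (iv F136471)))).symm
theorem E30923 : n32316 = n15267 := (((iv F136363)).symm.trans (sb E30823 F95282))
theorem E30924 : n32324 = n32269 := ((D32324).symm.trans (sb E30823 (iv F136156)))
theorem E30926 : n32315 = n31763 := (((iv F136358)).symm.trans (sb E30824 F192509))
theorem F204687 : act 9 n22184 = n31760 := (sb E30824 (iv D46333))
theorem F204688 : act 9 n46240 = n31753 := (sb E30825 (iv D46324))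
theorem F204689 : act 3 n43593 = n31749 := (sb E30826 (iv D46319))
theorem E30927 : n32344 = n29909 := (((F182104).symm.trans (sb E30826 F192465))).symm
theorem F204690 : act 7 n43593 = n31756 := (sb E30826 F192466)
theorem E30928 : n15268 = n15256 := ((F93564).symm.trans (sb E30827 (iv D22201)))
theorem F204691 : act 5 n21800 = n31749 := (sb E30827 (iv F134023))
theorem F204692 : act 7 n21800 = n15260 := (sb E30827 F95242)
theorem E30930 : n32258 = n31764 := (((D31764).symm.trans (sb E30827 (iv F136117)))).symm
theorem F204693 : act 1 n45866 = n31758 := (sb E30828 F192490)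
theorem F204694 : act 1 n10503 = n15261 := (sb E30829 F95262)
theorem E30934 : n15265 = n15259 := ((D15265).symm.trans (sb E30829 (iv D22207)))
theorem F204695 : act 1 n21797 = n15260 := (sb E30830 F95259)
theorem E30936 : n32350 = n29907 := (((F204416).symm.trans (sb E30830 D32350))).symm
theorem E30937 : n32263 = n31762 := (((D31762).symm.trans (sb E30830 (iv F136136)))).symm
theorem F204696 : act 4 n43635 = n31753 := (sb E30831 (iv D46323))
theorem F204697 : act 1 n43590 = n31756 := (sb E30832 F192484)
theorem F204698 : act 7 n45871 = n31758 := (sb E30833 F192473)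
theorem F204699 : act 8 n45871 = n31750 := (sb E30833 (iv D46321))
theorem F204700 : act 9 n22208 = n31736 := (sb E30834 F204500)
theorem E30939 : n32257 = n15269 := (((D15269).symm.trans (sb E30835 (iv F136114)))).symm
theorem F204701 : act 7 n10505 = n15261 := (sb E30836 F95246)
theorem E30942 : n32356 = n32210 := ((((iv F135922)).symm.trans (sb E30837 D32356))).symm
theorem F204702 : act 8 n22145 = n15261 := (sb E30837 (iv D22210))
theorem E30943 : n32270 = n32267 := ((D32270).symm.trans (sb E30837 (iv F136148)))
theorem E30945 : n15303 = n7232 := (((F46727).symm.trans (sb E30840 (iv F66821)))).symm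
theorem E30946 : n15242 = n7274 := (((iv F66570)).symm.trans (sb E30840 F46970))
theorem E30947 : n15320 = n7229 := ((((iv D10489)).symm.trans (sb E30840 D15320))).symm
theorem E30949 : n15281 = n15247 := ((((iv F66593)).symm.trans (sb E30841 F95343))).symm
theorem E30950 : n32284 = n15250 := (((D15250).symm.trans (sb E30841 (iv F136221)))).symm
theorem E30952 : n32313 = n7258 := (((F46870).symm.trans (sb E30842 (iv F136350)))).symm
theorem F204703 : act 7 n10524 = n15245 := (sb E30842 F95161)
theorem E30954 : n15291 = n15241 := ((D15291).symm.trans (sb E30842 (iv D22182)))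
theorem F204704 : act 8 n22169 = n15245 := (sb E30843 (iv D22187))
theorem E30955 : n32301 = n32189 := ((D32301).symm.trans (sb E30843 (iv F135835)))
theorem F204705 : act 5 n21823 = n31692 := (sb E30845 (iv F133817))
theorem F204706 : act 7 n21823 = n15244 := (sb E30845 F95156)
theorem E30958 : n32183 = n31795 := (((D31795).symm.trans (sb E30845 (iv F135808)))).symm
theorem F204707 : act 0 n43612 = n31457 := (sb E30847 F190844)
theorem F204708 : act 4 n43612 = n31456 := (sb E30847 (iv D45899))
theorem E30971 : n7266 = n7241 := ((((iv F32969)).symm.trans (sb E30850 F46909))).symm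
theorem F204709 : act 5 n10504 = n7255 := (sb E30852 F46838)
theorem E30975 : n15266 = n15226 := ((D15266).symm.trans (sb E30852 (iv F66496)))
theorem F204710 : act 5 n10507 = n15231 := (sb E30853 F95047)
theorem F204711 : act 5 n21798 = n31457 := (sb E30855 (iv F132875))
theorem F204712 : act 3 n43548 = n31457 := (sb E30856 (iv D45901))
theorem F204713 : act 4 n45869 = n31458 := (sb E30857 F190854)
theorem F204714 : act 9 n45869 = n31457 := (sb E30857 (iv D45902))
theorem E30980 : n15255 = n3479 := (((F23412).symm.trans (sb E30858 (iv F66627)))).symm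
theorem F204715 : act 7 n5024 = n7239 := (sb E30858 F46775)
theorem E30981 : n7275 = n7237 := ((D7275).symm.trans (sb E30858 (iv D10499)))
theorem E30982 : n15321 = n3456 := ((((iv D4998)).symm.trans (sb E30859 D15321))).symm
theorem E30984 : n15254 = n7259 := (((D7259).symm.trans (sb E30860 (iv D22199)))).symm
theorem E30985 : n32261 = n15235 := (((D15235).symm.trans (sb E30861 (iv F136128)))).symm
theorem F204716 : act 4 n10498 = n14994 := (sb E30862 (iv F65501))
theorem E30986 : n15292 = n15208 := ((((iv F66427)).symm.trans (sb E30862 D15292))).symm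
theorem F204717 : act 9 n10498 = n7255 := (sb E30862 (iv D10525))
theorem F204718 : act 4 n22144 = n31464 := (sb E30863 (iv F132899))
theorem F204719 : act 9 n22144 = n15231 := (sb E30863 (iv D22170))
theorem E30990 : n32061 = n31796 := (((D31796).symm.trans (sb E30866 (iv F135284)))).symm
theorem F204720 : act 5 n21824 = n31432 := (sb E30866 (iv F132782))
theorem F204721 : act 7 n21824 = n15211 := (sb E30866 F94973)
theorem E30991 : n32260 = n31467 := ((((iv F132915)).symm.trans (sb E30866 D32260))).symm
theorem F204722 : act 8 n22143 = n31464 := (sb E30867 (iv D45910))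
theorem F204723 : act 8 n45868 = n31458 := (sb E30868 (iv D45903))
theorem E30992 : n22235 = n10490 := (((F65306).symm.trans (sb E30870 F136654))).symm
theorem E30994 : n10540 = n4999 := ((((iv D7240)).symm.trans (sb E30872 F66732))).symm
theorem E30996 : n10542 = n2405 := (((F16226).symm.trans (sb E30874 F66884))).symm
theorem E31001 : n45904 = n21696 := ((((iv F93165)).symm.trans (sb E30878 (iv F190860)))).symm
theorem E31002 : n10511 = n5014 := (((F32391).symm.trans (sb E30880 (iv D15274)))).symm
theorem E31003 : n22155 = n10321 := (((D10321).symm.trans (sb E30880 (iv F95040)))).symm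
theorem F204724 : act 2 n7248 = n5012 := (sb E30883 F33025)
theorem E31004 : n5025 = n5006 := ((((iv D7248)).symm.trans (sb E30883 F33026))).symm
theorem F204725 : act 4 n7248 = n10317 := (sb E30883 (iv F45977))
theorem E31005 : n10526 = n10473 := ((((iv F46654)).symm.trans (sb E30883 D10526))).symm
theorem F204726 : act 9 n7248 = n5011 := (sb E30883 (iv D7256))
theorem E31006 : n22015 = n21825 := (((D21825).symm.trans (sb E30884 (iv F94454)))).symm
theorem F204727 : act 5 n14995 = n21580 := (sb E30884 (iv F92684))
theorem F204728 : act 7 n14995 = n10476 := (sb E30884 F66487)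
theorem E31007 : n22160 = n21592 := ((((iv F92731)).symm.trans (sb E30884 D22160))).symm
theorem E31008 : n46151 = n45450 := ((((iv F189282)).symm.trans (sb E30885 (iv F191821)))).symm
theorem F204729 : act 6 n31154 = n43716 := (sb E30885 (iv F182595))
theorem F204730 : act 2 n31454 = n21586 := (sb E30886 F132886)
theorem F204731 : act 6 n31454 = n43113 := (sb E30886 (iv F180031))
theorem F204732 : act 8 n31454 = n21584 := (sb E30886 (iv D31461))
theorem E31010 : n5021 = n2409 := (((F16547).symm.trans (sb E30887 F33081))).symm
theorem E31013 : n5019 = n5010 := (((D5010).symm.trans (sb E30887 (iv D7268)))).symm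
theorem E31017 : n22167 = n10479 := (((D10479).symm.trans (sb E30889 (iv F95090)))).symm
theorem F204733 : act 1 n7250 = n10504 := (sb E30890 (iv F46790))
theorem F204734 : act 4 n7250 = n10315 := (sb E30890 (iv F45968))
theorem F204735 : act 7 n7250 = n5012 := (sb E30890 F33021)
theorem E31018 : n10523 = n10475 := ((((iv F46664)).symm.trans (sb E30890 D10523))).symm
theorem F204736 : act 9 n7250 = n5009 := (sb E30890 (iv D7254))
theorem E31019 : n22166 = n21589 := (((D21589).symm.trans (sb E30894 (iv D32298)))).symm
theorem F204737 : act 2 n14992 = n10476 := (sb E30895 F66498)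
theorem E31020 : n22165 = n21704 := ((((iv F93195)).symm.trans (sb E30895 D22165))).symm
theorem F204738 : act 5 n14992 = n21583 := (sb E30895 (iv F92695))
theorem F204739 : act 2 n31455 = n21585 := (sb E30896 F132882)
theorem E31021 : n45905 = n45633 := ((((iv F189938)).symm.trans (sb E30896 (iv F190863)))).symm
theorem F204740 : act 4 n31455 = n21584 := (sb E30896 F132883)
theorem F204741 : act 6 n31455 = n43112 := (sb E30896 (iv F180027))
theorem F204742 : act 9 n31455 = n21583 := (sb E30896 (iv D31460))
theorem F204743 : act 1 n31459 = n43548 := (sb E30897 (iv F204406))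
theorem E31022 : n45627 = n45457 := ((((iv F189308)).symm.trans (sb E30897 (iv F204493)))).symm
theorem E31023 : n45626 = n44952 := ((((iv F187530)).symm.trans (sb E30897 (iv F204451)))).symm
theorem F204744 : act 7 n31459 = n21701 := (sb E30897 F133534)
theorem F204745 : act 5 n7257 = n10478 := (sb E30903 F66483)
theorem E31031 : n5018 = n2410 := (((iv F23382)).symm.trans (sb E30907 F16599))
theorem F204746 : act 7 n3477 = n5008 := (sb E30908 F33001)
theorem E31036 : n22161 = n10481 := (((D10481).symm.trans (sb E30911 (iv F95066)))).symm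
theorem F204747 : act 4 n15230 = n21588 := (sb E30912 (iv F92712))
theorem F204748 : act 9 n15230 = n10478 := (sb E30912 (iv D15232))
theorem F204749 : act 8 n15229 = n21588 := (sb E30919 (iv D31465))
theorem F204750 : act 0 n32321 = n22188 := (sb E30921 (iv D32326))
theorem F204751 : act 4 n32321 = n46251 := (sb E30921 (iv F192221))
theorem F204752 : act 7 n32321 = n22191 := (sb E30921 F136407)
theorem E31041 : n22205 = n22189 := ((((iv F95192)).symm.trans (sb E30922 F136472))).symm
theorem F204753 : act 7 n15267 = n22185 := (sb E30923 F136363)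
theorem E31042 : n22215 = n22180 := ((D22215).symm.trans (sb E30923 (iv D32316)))
theorem F204754 : act 5 n32269 = n22193 := (sb E30924 F136397)
theorem F204755 : act 8 n32269 = n22185 := (sb E30924 (iv D32324))
theorem F204756 : act 5 n31763 = n46240 := (sb E30926 (iv F192180))
theorem F204757 : act 7 n31763 = n22184 := (sb E30926 F136358)
theorem F204758 : act 7 n29909 = n22208 := (sb E30927 F136483)
theorem F204759 : act 1 n15256 = n10506 := (sb E30928 F66673)
theorem F204760 : act 4 n15256 = n21800 := (sb E30928 (iv F93564))
theorem E31043 : n22197 = n10509 := (((iv F95226)).symm.trans (sb E30928 F66676))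
theorem E31044 : n22216 = n22137 := ((((iv F94971)).symm.trans (sb E30928 D22216))).symm
theorem F204761 : act 9 n15256 = n10505 := (sb E30928 (iv D15268))
theorem F204762 : act 5 n31764 = n45866 := (sb E30930 (iv F190721))
theorem F204763 : act 7 n31764 = n22141 := (sb E30930 F136116)
theorem F204764 : act 2 n15259 = n10504 := (sb E30934 F66662)
theorem F204765 : act 4 n15259 = n21797 := (sb E30934 (iv F93552))
theorem F204766 : act 7 n15259 = n10506 := (sb E30934 F66665)
theorem E31045 : n22214 = n22140 := ((((iv F94982)).symm.trans (sb E30934 D22214))).symm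
theorem F204767 : act 9 n15259 = n10503 := (sb E30934 (iv D15265))
theorem F204768 : act 1 n29907 = n22208 := (sb E30936 F136501)
theorem F204769 : act 1 n31762 = n22141 := (sb E30937 F136133)
theorem F204770 : act 5 n31762 = n45871 := (sb E30937 (iv F190740))
theorem F204771 : act 5 n15269 = n22145 := (sb E30939 F136112)
theorem F204772 : act 5 n32210 = n22217 := (sb E30942 F136523)
theorem F204773 : act 1 n32267 = n22146 := (sb E30943 F136157)
theorem F204774 : act 4 n32267 = n45878 := (sb E30943 (iv F190763))
theorem F204775 : act 7 n32267 = n22149 := (sb E30943 F136160)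
theorem F204776 : act 9 n32267 = n22145 := (sb E30943 (iv D32270))
theorem E31048 : n10538 = n10491 := ((((iv F46739)).symm.trans (sb E30945 F66822))).symm
theorem E31050 : n22179 = n5027 := (((F33116).symm.trans (sb E30946 (iv F95146)))).symm
theorem F204777 : act 7 n7274 = n10489 := (sb E30946 F66570)
theorem E31051 : n10548 = n10487 := ((D10548).symm.trans (sb E30946 (iv D15242)))
theorem E31052 : n22286 = n4990 := ((((iv D7229)).symm.trans (sb E30947 D22286))).symm
theorem F204778 : act 5 n15247 = n10524 := (sb E30949 F66727)
theorem E31053 : n22190 = n22162 := ((D22190).symm.trans (sb E30949 (iv F95071)))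
theorem F204779 : act 5 n15250 = n22169 := (sb E30950 F136219)
theorem E31054 : n22178 = n10527 := (((D10527).symm.trans (sb E30952 (iv D32313)))).symm
theorem F204780 : act 4 n15241 = n21823 := (sb E30954 (iv F93649))
theorem E31055 : n22247 = n22084 := ((((iv F94756)).symm.trans (sb E30954 D22247))).symm
theorem F204781 : act 9 n15241 = n10524 := (sb E30954 (iv D15291))
theorem F204782 : act 4 n32189 = n45909 := (sb E30955 (iv F190878))
theorem F204783 : act 7 n32189 = n22172 := (sb E30955 F136291)
theorem F204784 : act 9 n32189 = n22169 := (sb E30955 (iv D32301))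
theorem F204785 : act 5 n31795 = n45763 := (sb E30958 (iv F190408))
theorem F204786 : act 7 n31795 = n22087 := (sb E30958 F135807)
theorem F204787 : act 5 n7241 = n5024 := (sb E30971 F33072)
theorem F204788 : act 4 n15226 = n21798 := (sb E30975 (iv F93556))
theorem F204789 : act 7 n15226 = n10507 := (sb E30975 F66669)
theorem F204790 : act 8 n15226 = n10504 := (sb E30975 (iv D15266))
theorem E31064 : n22164 = n22147 := ((D22164).symm.trans (sb E30975 (iv F95008)))
theorem E31065 : n10497 = n5028 := (((D5028).symm.trans (sb E30980 (iv D15255)))).symm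
theorem E31066 : n10549 = n4997 := ((((iv D7237)).symm.trans (sb E30981 D10549))).symm
theorem F204791 : act 9 n7237 = n5024 := (sb E30981 (iv D7275))
theorem E31067 : n22287 = n4975 := ((((iv F23183)).symm.trans (sb E30982 D22287))).symm
theorem F204792 : act 6 n7259 = n10498 := (sb E30984 F66621)
theorem E31068 : n22135 = n10528 := (((D10528).symm.trans (sb E30984 (iv F94963)))).symm
theorem F204793 : act 7 n15235 = n22144 := (sb E30985 F136127)
theorem E31069 : n22173 = n22139 := ((D22173).symm.trans (sb E30985 (iv D32261)))
theorem E31070 : n22248 = n10462 := ((((iv D15208)).symm.trans (sb E30986 D22248))).symm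
theorem F204794 : act 4 n15208 = n21824 := (sb E30986 (iv F93652))
theorem F204795 : act 4 n31796 = n21999 := (sb E30990 (iv D32061))
theorem F204796 : act 5 n31796 = n45430 := (sb E30990 (iv F189215))
theorem F204797 : act 7 n31796 = n22002 := (sb E30990 F135285)
theorem F204798 : act 5 n31467 = n45868 := (sb E30991 (iv F190729))
theorem F204799 : act 7 n31467 = n22143 := (sb E30991 F136123)
theorem E31071 : n15311 = n7230 := ((((iv D10490)).symm.trans (sb E30992 F95370))).symm
theorem E31077 : n15314 = n3457 := ((((iv D4999)).symm.trans (sb E30994 D15314))).symm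
theorem E31080 : n7269 = n1678 := (((F11776).symm.trans (sb E30996 F46951))).symm
theorem F204800 : act 8 n21696 = n31459 := (sb E31001 (iv D45904))
theorem E31091 : n7247 = n3480 := (((F23360).symm.trans (sb E31002 (iv D10511)))).symm
theorem F204801 : act 6 n5014 = n7248 := (sb E31002 F46817)
theorem E31092 : n15221 = n7260 := (((D7260).symm.trans (sb E31002 (iv F66474)))).symm
theorem E31093 : n32078 = n14998 := (((D14998).symm.trans (sb E31003 (iv F135344)))).symm
theorem E31095 : n3478 = n3472 := (((F23327).symm.trans (sb E31004 F23415))).symm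
theorem F204802 : act 9 n5006 = n3477 := (sb E31004 (iv D5025))
theorem F204803 : act 2 n10473 = n7257 := (sb E31005 F46875)
theorem F204804 : act 4 n10473 = n14995 := (sb E31005 (iv F65505))
theorem E31098 : n15236 = n15225 := (((D15225).symm.trans (sb E31005 (iv F66538)))).symm
theorem E31099 : n32081 = n31634 := ((((iv F133581)).symm.trans (sb E31006 (iv F135357)))).symm
theorem E31100 : n31797 = n15122 := ((D31797).symm.trans (sb E31006 (iv D22015)))
theorem F204805 : act 5 n21825 = n31154 := (sb E31006 (iv F131811))
theorem F204806 : act 7 n21825 = n15125 := (sb E31006 F94455)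
theorem E31101 : n32083 = n31468 := ((((iv F132918)).symm.trans (sb E31006 D32083))).symm
theorem F204807 : act 5 n21592 = n31454 := (sb E31007 (iv F132865))
theorem F204808 : act 7 n21592 = n15229 := (sb E31007 F95061)
theorem F204809 : act 3 n45450 = n31627 := (sb E31008 (iv D46151))
theorem F204810 : act 3 n2409 = n3474 := (sb E31010 F23396)
theorem E31104 : n3476 = n3473 := ((D3476).symm.trans (sb E31010 (iv D5021)))
theorem F204811 : act 3 n5010 = n7250 := (sb E31013 (iv F33004))
theorem F204812 : act 5 n5010 = n3477 := (sb E31013 F23385)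
theorem F204813 : act 2 n10479 = n15230 := (sb E31017 F95087)
theorem E31113 : n15233 = n15228 := ((D15233).symm.trans (sb E31017 (iv D22167)))
theorem F204814 : act 4 n10475 = n14992 := (sb E31018 (iv F65492))
theorem F204815 : act 7 n10475 = n7257 := (sb E31018 F46867)
theorem F204816 : act 2 n21589 = n15229 := (sb E31019 F95083)
theorem E31115 : n32088 = n31631 := ((((iv F133568)).symm.trans (sb E31020 (iv F135387)))).symm
theorem F204817 : act 5 n21704 = n31459 := (sb E31020 (iv F132880))
theorem F204818 : act 9 n45633 = n31459 := (sb E31021 (iv D45905))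
theorem F204819 : act 4 n45457 = n31273 := (sb E31022 (iv D45627))
theorem F204820 : act 6 n45457 = n31276 := (sb E31022 F189915)
theorem F204821 : act 7 n45457 = n31627 := (sb E31022 F204495)
theorem F204822 : act 8 n45457 = n31615 := (sb E31022 F189916)
theorem F204823 : act 2 n44952 = n31273 := (sb E31023 (iv D45626))
theorem F204824 : act 6 n44952 = n31275 := (sb E31023 F189912)
theorem F204825 : act 7 n44952 = n31628 := (sb E31023 F204452)
theorem F204826 : act 8 n44952 = n31614 := (sb E31023 F189913)
theorem F204827 : act 7 n2410 = n3474 := (sb E31031 F23382)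
theorem F204828 : act 7 n10481 = n15230 := (sb E31036 F95065)
theorem F204829 : act 0 n22189 = n15259 := (sb E31041 (iv D22205))
theorem E31129 : n32327 = n32319 := (((iv F136408)).symm.trans (sb E31041 (iv F136374)))
theorem F204830 : act 5 n22189 = n15267 := (sb E31041 F95257)
theorem E31130 : n32328 = n32262 := ((D32328).symm.trans (sb E31041 (iv F136132)))
theorem E31131 : n32329 = n32314 := (((D32314).symm.trans (sb E31042 (iv F136418)))).symm
theorem F204831 : act 4 n22180 = n31763 := (sb E31042 (iv F134069))
theorem E31132 : n32311 = n15270 := (((iv F136339)).symm.trans (sb E31042 F95294))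
theorem E31133 : n32361 = n32182 := ((((iv F135804)).symm.trans (sb E31042 D32361))).symm
theorem F204832 : act 9 n22180 = n15267 := (sb E31042 (iv D22215))
theorem F204833 : act 6 n10509 = n15256 := (sb E31043 F95226)
theorem E31134 : n32254 = n15271 := (((D15271).symm.trans (sb E31043 (iv F136101)))).symm
theorem F204834 : act 1 n22137 = n15269 := (sb E31044 F95295)
theorem E31135 : n32362 = n32201 := ((((iv F135887)).symm.trans (sb E31044 D32362))).symm
theorem F204835 : act 4 n22137 = n31764 := (sb E31044 (iv F134073))
theorem E31136 : n32273 = n32259 := (((D32259).symm.trans (sb E31044 (iv F136171)))).symm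
theorem E31137 : n32360 = n32204 := ((((iv F135899)).symm.trans (sb E31045 D32360))).symm
theorem F204836 : act 4 n22140 = n31762 := (sb E31045 (iv F134064))
theorem F204837 : act 7 n22140 = n15269 := (sb E31045 F95290)
theorem E31138 : n32271 = n32264 := (((D32264).symm.trans (sb E31045 (iv F136164)))).symm
theorem F204838 : act 5 n10491 = n7274 := (sb E31048 F46934)
theorem E31144 : n15240 = n7277 := (((D7277).symm.trans (sb E31050 (iv D22179)))).symm
theorem E31145 : n15323 = n7228 := ((((iv D10487)).symm.trans (sb E31051 D15323))).symm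
theorem F204839 : act 9 n10487 = n7274 := (sb E31051 (iv D10548))
theorem E31146 : n28596 = n7189 := ((((iv F32733)).symm.trans (sb E31052 F204485))).symm
theorem F204840 : act 4 n22162 = n29921 := (sb E31053 F204442)
theorem F204841 : act 7 n22162 = n15250 := (sb E31053 F95197)
theorem F204842 : act 8 n22162 = n15247 := (sb E31053 (iv D22190))
theorem E31147 : n32292 = n32192 := ((D32292).symm.trans (sb E31053 (iv F135849)))
theorem F204843 : act 6 n10527 = n15241 := (sb E31054 F95139)
theorem E31148 : n32180 = n15294 := (((D15294).symm.trans (sb E31054 (iv F135794)))).symm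
theorem E31149 : n28597 = n15170 := ((((iv D22084)).symm.trans (sb E31055 F204250))).symm
theorem F204844 : act 4 n22084 = n31795 := (sb E31055 (iv F134185))
theorem E31150 : n32304 = n32184 := (((D32184).symm.trans (sb E31055 (iv F136305)))).symm
theorem F204845 : act 5 n22147 = n15235 := (sb E31064 F95077)
theorem F204846 : act 9 n22147 = n15226 := (sb E31064 (iv D22164))
theorem F204847 : act 6 n5028 = n7237 := (sb E31065 F46766)
theorem E31160 : n7278 = n7236 := ((D7278).symm.trans (sb E31065 (iv D10497)))
theorem E31161 : n15324 = n7209 := ((((iv F32821)).symm.trans (sb E31066 D15324))).symm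
theorem E31162 : n28587 = n7196 := ((((iv F32766)).symm.trans (sb E31067 F204480))).symm
theorem E31164 : n15295 = n15207 := ((D15295).symm.trans (sb E31068 (iv D22135)))
theorem F204848 : act 6 n10528 = n15208 := (sb E31068 F94961)
theorem E31165 : n32256 = n15238 := ((((iv F66547)).symm.trans (sb E31068 D32256))).symm
theorem F204849 : act 4 n22139 = n31467 := (sb E31069 (iv F132913))
theorem F204850 : act 8 n22139 = n15235 := (sb E31069 (iv D22173))
theorem E31167 : n28588 = n15181 := ((((iv F66318)).symm.trans (sb E31070 F204241))).symm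
theorem E31168 : n28581 = n15111 := ((((iv F66015)).symm.trans (sb E31070 F204242))).symm
theorem E31170 : n22275 = n4991 := ((((iv D7230)).symm.trans (sb E31071 D22275))).symm
theorem E31172 : n22280 = n4976 := ((((iv F23187)).symm.trans (sb E31077 D22280))).symm
theorem E31175 : n5020 = n2414 := (((D2414).symm.trans (sb E31080 (iv D7269)))).symm
theorem E31180 : n5016 = n2413 := (((F16622).symm.trans (sb E31091 F32989))).symm
theorem F204851 : act 6 n3480 = n5006 := (sb E31091 F32992)
theorem E31181 : n5029 = n5005 := ((D5029).symm.trans (sb E31091 (iv D7247)))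
theorem E31182 : n10529 = n10472 := ((D10529).symm.trans (sb E31092 (iv D15221)))
theorem F204852 : act 6 n7260 = n10473 := (sb E31092 F66472)
theorem E31183 : n22156 = n10485 := ((((iv F46705)).symm.trans (sb E31092 D22156))).symm
theorem E31184 : n22012 = n21828 := (((D21828).symm.trans (sb E31093 (iv D32078)))).symm
theorem F204853 : act 3 n3472 = n2411 := (sb E31095 F16613)
theorem F204854 : act 9 n3472 = n2410 := (sb E31095 (iv D3478))
theorem F204855 : act 2 n15225 = n10482 := (sb E31098 F66536)
theorem F204856 : act 4 n15225 = n21592 := (sb E31098 (iv F92729))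
theorem F204857 : act 8 n15225 = n10481 := (sb E31098 (iv D15236))
theorem E31189 : n46158 = n22014 := ((D46158).symm.trans (sb E31099 (iv D32081)))
theorem F204858 : act 5 n31634 = n45450 := (sb E31099 (iv F189283))
theorem F204859 : act 7 n31634 = n22018 := (sb E31099 F135358)
theorem F204860 : act 4 n15122 = n21825 := (sb E31100 (iv D31797))
theorem E31190 : n45914 = n22016 := (((D22016).symm.trans (sb E31100 (iv F190901)))).symm
theorem F204861 : act 5 n31468 = n45452 := (sb E31101 (iv F189293))
theorem F204862 : act 7 n31468 = n22020 := (sb E31101 F135368)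
theorem F204863 : act 2 n3473 = n5010 := (sb E31104 (iv F23344))
theorem F204864 : act 7 n3473 = n2411 := (sb E31104 F16605)
theorem F204865 : act 9 n3473 = n2409 := (sb E31104 (iv D3476))
theorem F204866 : act 1 n15228 = n22147 := (sb E31113 (iv F95004))
theorem F204867 : act 4 n15228 = n21589 := (sb E31113 (iv F92716))
theorem F204868 : act 7 n15228 = n10482 := (sb E31113 F66526)
theorem F204869 : act 8 n15228 = n10479 := (sb E31113 (iv D15233))
theorem F204870 : act 3 n31631 = n22018 := (sb E31115 (iv D32088))
theorem F204871 : act 5 n31631 = n45457 := (sb E31115 (iv F189309))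
theorem F204872 : act 1 n32319 = n22189 := (sb E31129 F136408)
theorem F204873 : act 4 n32319 = n43644 := (sb E31129 (iv F204437))
theorem F204874 : act 7 n32319 = n22192 := (sb E31129 F136412)
theorem F204875 : act 9 n32319 = n22188 := (sb E31129 (iv D32327))
theorem F204876 : act 4 n32262 = n43617 := (sb E31130 (iv F204441))
theorem F204877 : act 7 n32262 = n22193 := (sb E31130 F136416)
theorem F204878 : act 8 n32262 = n22189 := (sb E31130 (iv D32328))
theorem F204879 : act 0 n32314 = n22192 := (sb E31131 F136417)
theorem F204880 : act 4 n32314 = n43650 := (sb E31131 (iv F204529))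
theorem F204881 : act 6 n32314 = n22194 := (sb E31131 F136421)
theorem F204882 : act 9 n32314 = n22191 := (sb E31131 (iv D32329))
theorem F204883 : act 6 n15270 = n22180 := (sb E31132 F136339)
theorem F204884 : act 4 n32182 = n46336 := (sb E31133 (iv F192519))
theorem F204885 : act 6 n32182 = n22218 := (sb E31133 F136545)
theorem F204886 : act 6 n15271 = n22137 := (sb E31134 F136099)
theorem F204887 : act 1 n32201 = n22217 := (sb E31135 F136546)
theorem F204888 : act 6 n32201 = n22219 := (sb E31135 F136547)
theorem F204889 : act 1 n32259 = n22150 := (sb E31136 F136168)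
theorem F204890 : act 4 n32259 = n45881 := (sb E31136 (iv F190777))
theorem F204891 : act 6 n32259 = n22152 := (sb E31136 F136170)
theorem F204892 : act 8 n32259 = n22149 := (sb E31136 (iv D32273))
theorem F204893 : act 7 n32204 = n22217 := (sb E31137 F136541)
theorem F204894 : act 2 n32264 = n22147 := (sb E31138 F136161)
theorem F204895 : act 4 n32264 = n45879 := (sb E31138 (iv F190767))
theorem F204896 : act 7 n32264 = n22150 := (sb E31138 F136163)
theorem F204897 : act 8 n32264 = n22146 := (sb E31138 (iv D32271))
theorem F204898 : act 6 n7277 = n10487 := (sb E31144 F66559)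
theorem E31199 : n10551 = n10486 := ((D10551).symm.trans (sb E31144 (iv D15240)))
theorem E31200 : n19665 = n10435 := ((((iv F46497)).symm.trans (sb E31145 F204377))).symm
theorem E31201 : n19674 = n10422 := ((((iv F46441)).symm.trans (sb E31146 F121383))).symm
theorem E31202 : n19667 = n10372 := ((((iv F46231)).symm.trans (sb E31146 F121384))).symm
theorem F204899 : act 5 n32192 = n22172 := (sb E31147 F136252)
theorem F204900 : act 9 n32192 = n22162 := (sb E31147 (iv D32292))
theorem E31205 : n22083 = n19666 := (((F204010).symm.trans (sb E31148 (iv D32180)))).symm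
theorem F204901 : act 6 n15294 = n22084 := (sb E31148 F135792)
theorem E31206 : n22057 = n19675 := (((iv F94643)).symm.trans (sb E31149 F121388))
theorem E31207 : n21953 = n19668 := (((iv F94225)).symm.trans (sb E31149 F121389))
theorem F204902 : act 4 n32184 = n45912 := (sb E31150 (iv F190892))
theorem F204903 : act 6 n32184 = n22175 := (sb E31150 F136304)
theorem F204904 : act 8 n32184 = n22172 := (sb E31150 (iv D32304))
theorem E31210 : n10552 = n10461 := ((((iv F46605)).symm.trans (sb E31160 D10552))).symm
theorem F204905 : act 8 n7236 = n5028 := (sb E31160 (iv D7278))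
theorem E31211 : n19659 = n10443 := ((((iv F46533)).symm.trans (sb E31161 F204373))).symm
theorem E31213 : n19661 = n10381 := ((((iv F46272)).symm.trans (sb E31162 F121339))).symm
theorem E31218 : n22097 = n19660 := (((iv F94810)).symm.trans (sb E31164 F204008))
theorem F204906 : act 3 n15207 = n10528 := (sb E31164 (iv D15295))
theorem E31219 : n21998 = n19656 := (((iv F94392)).symm.trans (sb E31164 F204009))
theorem E31220 : n22176 = n22136 := (((D22136).symm.trans (sb E31164 (iv F95130)))).symm
theorem F204907 : act 6 n15238 = n22139 := (sb E31165 F136109)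
theorem E31221 : n41635 = n22098 := (((D22098).symm.trans (sb E31167 D41635))).symm
theorem E31222 : n21972 = n19662 := (((iv F94305)).symm.trans (sb E31167 F121344))
theorem E31225 : n41625 = n21999 := (((D21999).symm.trans (sb E31168 D41625))).symm
theorem E31229 : n28595 = n7190 := ((((iv F32738)).symm.trans (sb E31170 F204484))).symm
theorem E31231 : n28586 = n7197 := ((((iv F32771)).symm.trans (sb E31172 F204483))).symm
theorem F204908 : act 4 n2414 = n3473 := (sb E31175 (iv D5020))
theorem F204909 : act 6 n2413 = n3472 := (sb E31180 F23371)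
theorem E31241 : n3481 = n3471 := ((D3481).symm.trans (sb E31180 (iv D5016)))
theorem E31242 : n7279 = n7217 := ((((iv F32851)).symm.trans (sb E31181 D7279))).symm
theorem F204910 : act 8 n5005 = n3480 := (sb E31181 (iv D5029))
theorem F204911 : act 3 n10472 = n7260 := (sb E31182 (iv D10529))
theorem E31243 : n15296 = n15121 := ((((iv F66050)).symm.trans (sb E31182 D15296))).symm
theorem E31244 : n15239 = n15222 := (((D15222).symm.trans (sb E31182 (iv F66553)))).symm
theorem F204912 : act 6 n10485 = n15225 := (sb E31183 F95044)
theorem E31245 : n32058 = n28582 := (((F203701).symm.trans (sb E31184 (iv F135271)))).symm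
theorem E31246 : n32077 = n31637 := ((((iv F133592)).symm.trans (sb E31184 D32077))).symm
theorem E31247 : n31905 = n28575 := (((F203702).symm.trans (sb E31184 (iv F134670)))).symm
theorem F204913 : act 6 n21828 = n15122 := (sb E31184 F94439)
theorem E31248 : n32079 = n31471 := ((((iv F132930)).symm.trans (sb E31184 D32079))).symm
theorem F204914 : act 4 n22014 = n31634 := (sb E31189 (iv D46158))
theorem F204915 : act 4 n22016 = n31468 := (sb E31190 (iv D45914))
theorem E31258 : n15169 = n13538 := (((iv F66261)).symm.trans (sb E31199 F204248))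
theorem F204916 : act 8 n10486 = n7277 := (sb E31199 (iv D10551))
theorem E31259 : n15151 = n13543 := (((iv F66187)).symm.trans (sb E31200 F84884))
theorem E31260 : n15079 = n13539 := (((iv F65889)).symm.trans (sb E31200 F84885))
theorem E31261 : n14449 = n13549 := ((F203545).symm.trans (sb E31201 F84923))
theorem E31262 : n15066 = n13545 := (((iv F65839)).symm.trans (sb E31201 F84925))
theorem E31264 : n28610 = n15152 := (((D15152).symm.trans (sb E31201 D28610))).symm
theorem E31266 : n28600 = n15080 := (((D15080).symm.trans (sb E31202 D28600))).symm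
theorem F204917 : act 0 n19666 = n15207 := (sb E31205 F94747)
theorem F204918 : act 6 n19666 = n15170 := (sb E31205 F94750)
theorem E31269 : n32181 = n28599 := (((D28599).symm.trans (sb E31205 D32181))).symm
theorem F204919 : act 0 n19675 = n15181 := (sb E31206 F94642)
theorem E31270 : n30618 = n13550 := (((F84928).symm.trans (sb E31206 F203493))).symm
theorem F204920 : act 2 n19675 = n15170 := (sb E31206 F94643)
theorem E31271 : n32143 = n28611 := (((D28611).symm.trans (sb E31206 D32143))).symm
theorem E31272 : n31965 = n13546 := (((F84929).symm.trans (sb E31206 (iv F134940)))).symm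
theorem E31273 : n28609 = n15153 := (((iv F121441)).symm.trans (sb E31206 F94644))
theorem E31274 : n32144 = n28612 := (((D28612).symm.trans (sb E31206 D32144))).symm
theorem F204921 : act 0 n19668 = n15111 := (sb E31207 F94223)
theorem E31275 : n31992 = n28601 := (((D28601).symm.trans (sb E31207 D31992))).symm
theorem F204922 : act 4 n19668 = n15170 := (sb E31207 F94225)
theorem E31276 : n28552 = n15081 := (((iv F121182)).symm.trans (sb E31207 F94226))
theorem E31277 : n31993 = n28602 := (((D28602).symm.trans (sb E31207 D31993))).symm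
theorem E31278 : n15180 = n13533 := (((iv F66312)).symm.trans (sb E31210 F204233))
theorem E31279 : n15110 = n13531 := (((iv F66011)).symm.trans (sb E31210 F204234))
theorem E31280 : n15092 = n13534 := (((iv F65947)).symm.trans (sb E31211 F84855))
theorem E31282 : n15087 = n13537 := (((iv F65924)).symm.trans (sb E31213 F84864))
theorem E31283 : n28545 = n7153 := ((((iv D10381)).symm.trans (sb E31213 (iv F121151)))).symm
theorem E31284 : n28591 = n15093 := (((D15093).symm.trans (sb E31213 D28591))).symm
theorem F204923 : act 2 n19660 = n15207 := (sb E31218 F94810)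
theorem E31285 : n32199 = n28589 := (((D28589).symm.trans (sb E31218 D32199))).symm
theorem F204924 : act 6 n19660 = n15181 := (sb E31218 F94812)
theorem E31287 : n32200 = n28590 := (((D28590).symm.trans (sb E31218 D32200))).symm
theorem F204925 : act 4 n19656 = n15207 := (sb E31219 F94392)
theorem E31288 : n31891 = n13532 := (((F84841).symm.trans (sb E31219 (iv F134618)))).symm
theorem F204926 : act 6 n19656 = n15111 := (sb E31219 F94393)
theorem E31289 : n32059 = n28583 := (((D28583).symm.trans (sb E31219 D32059))).symm
theorem F204927 : act 3 n22136 = n15238 := (sb E31220 (iv D22176))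
theorem E31290 : n32202 = n28991 := ((D32202).symm.trans (sb E31221 F173990))
theorem F204928 : act 2 n19662 = n15111 := (sb E31222 F94304)
theorem E31291 : n32021 = n13715 := (((F84869).symm.trans (sb E31222 D32021))).symm
theorem F204929 : act 4 n19662 = n15181 := (sb E31222 F94305)
theorem E31292 : n28546 = n15094 := (((iv F121156)).symm.trans (sb E31222 F94306))
theorem E31293 : n32022 = n28592 := (((D28592).symm.trans (sb E31222 D32022))).symm
theorem E31294 : n32060 = n28981 := ((D32060).symm.trans (sb E31225 F173943))
theorem E31296 : n19673 = n10423 := ((((iv F46446)).symm.trans (sb E31229 F121379))).symm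
theorem E31297 : n41575 = n4964 := (((F32739).symm.trans (sb E31229 (iv F173725)))).symm
theorem E31298 : n41566 = n4969 := (((F32773).symm.trans (sb E31231 (iv F173685)))).symm
theorem F204930 : act 8 n3471 = n2413 := (sb E31241 (iv D3481))
theorem E31303 : n10553 = n10402 := ((((iv F46350)).symm.trans (sb E31242 D10553))).symm
theorem F204931 : act 1 n15121 = n19656 := (sb E31243 F204005)
theorem F204932 : act 3 n15121 = n21828 := (sb E31243 (iv F93665))
theorem E31304 : n21896 = n19653 := (((iv F93980)).symm.trans (sb E31243 F204006))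
theorem E31305 : n22177 = n22013 := (((D22013).symm.trans (sb E31243 (iv F95135)))).symm
theorem F204933 : act 3 n15222 = n10485 := (sb E31244 (iv D15239))
theorem F204934 : act 6 n28582 = n21999 := (sb E31245 F135272)
theorem F204935 : act 6 n31637 = n22014 := (sb E31246 F135340)
theorem E31306 : n41555 = n21897 := (((iv F173637)).symm.trans (sb E31247 F134671))
theorem F204936 : act 6 n31471 = n22016 := (sb E31248 F135350)
theorem F204937 : act 0 n13538 = n10461 := (sb E31258 F66259)
theorem F204938 : act 3 n13538 = n10486 := (sb E31258 F66261)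
theorem E31309 : n21952 = n9340 := ((((iv D13538)).symm.trans (sb E31258 (iv F94220)))).symm
theorem F204939 : act 6 n13538 = n10435 := (sb E31258 (iv D15169))
theorem F204940 : act 0 n13543 = n10443 := (sb E31259 F66186)
theorem E31310 : n21022 = n9347 := (((F59511).symm.trans (sb E31259 F203179))).symm
theorem F204941 : act 2 n13543 = n10435 := (sb E31259 F66187)
theorem E31311 : n21934 = n9343 := (((F59513).symm.trans (sb E31259 (iv F94154)))).symm
theorem F204942 : act 7 n13543 = n10422 := (sb E31259 (iv D15151))
theorem F204943 : act 0 n13539 = n10394 := (sb E31260 F65886)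
theorem F204944 : act 4 n13539 = n10435 := (sb E31260 F65889)
theorem E31312 : n19636 = n10373 := (((iv F84755)).symm.trans (sb E31260 F65890))
theorem F204945 : act 7 n13539 = n10372 := (sb E31260 (iv D15079))
theorem F204946 : act 1 n13549 = n10422 := (sb E31261 (iv F203545))
theorem E31313 : n20896 = n9349 := (((F59539).symm.trans (sb E31261 (iv F90140)))).symm
theorem E31314 : n19680 = n9948 := (((iv F84952)).symm.trans (sb E31261 (iv D14449)))
theorem E31315 : n21023 = n19682 := (((D19682).symm.trans (sb E31261 D21023))).symm
theorem F204947 : act 0 n13545 = n10381 := (sb E31262 F65837)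
theorem F204948 : act 2 n13545 = n10372 := (sb E31262 F65838)
theorem E31316 : n21929 = n9346 := (((F59520).symm.trans (sb E31262 (iv F94131)))).symm
theorem F204949 : act 4 n13545 = n10422 := (sb E31262 F65839)
theorem E31317 : n19642 = n10364 := (((iv F84777)).symm.trans (sb E31262 (iv D15066)))
theorem E31318 : n21935 = n19678 := (((D19678).symm.trans (sb E31262 D21935))).symm
theorem E31322 : n41667 = n22058 := (((D22058).symm.trans (sb E31264 D41667))).symm
theorem F204950 : act 7 n15152 = n19675 := (sb E31264 F121446)
theorem E31323 : n41668 = n22059 := (((D22059).symm.trans (sb E31264 D41668))).symm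
theorem E31327 : n41653 = n21954 := (((D21954).symm.trans (sb E31266 D41653))).symm
theorem F204951 : act 7 n15080 = n19668 := (sb E31266 F121403)
theorem E31328 : n41654 = n21955 := (((D21955).symm.trans (sb E31266 D41654))).symm
theorem F204952 : act 0 n28599 = n22136 := (sb E31269 F135795)
theorem F204953 : act 6 n28599 = n22085 := (sb E31269 F135798)
theorem E31329 : n44650 = n19683 := (((D19683).symm.trans (sb E31270 D44650))).symm
theorem E31330 : n44369 = n9350 := (((F59544).symm.trans (sb E31270 (iv F185328)))).symm
theorem E31331 : n21024 = n19681 := ((((iv F84956)).symm.trans (sb E31270 F129814))).symm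
theorem F204954 : act 0 n28611 = n22098 := (sb E31271 F135639)
theorem E31334 : n41665 = n22060 := (((iv F174126)).symm.trans (sb E31271 F135640))
theorem E31335 : n21936 = n19643 := ((((iv F84781)).symm.trans (sb E31272 F134941))).symm
theorem F204955 : act 5 n15153 = n19675 := (sb E31273 F121441)
theorem E31337 : n41666 = n22061 := (((D22061).symm.trans (sb E31273 D41666))).symm
theorem F204956 : act 0 n28612 = n22099 := (sb E31274 F135643)
theorem F204957 : act 2 n28612 = n22085 := (sb E31274 F135644)
theorem F204958 : act 0 n28601 = n21999 := (sb E31275 F135033)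
theorem E31338 : n41581 = n21956 := (((iv F173749)).symm.trans (sb E31275 F135035))
theorem E31339 : n41577 = n10377 := (((F65899).symm.trans (sb E31276 (iv F173734)))).symm
theorem F204959 : act 5 n15081 = n19668 := (sb E31276 F121182)
theorem E31340 : n21856 = n19637 := (((iv F93806)).symm.trans (sb E31276 F121183))
theorem E31341 : n41582 = n21957 := (((D21957).symm.trans (sb E31276 D41582))).symm
theorem F204960 : act 0 n28602 = n22000 := (sb E31277 F135038)
theorem F204961 : act 4 n28602 = n22085 := (sb E31277 F135040)
theorem F204962 : act 2 n13533 = n10461 := (sb E31278 F66312)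
theorem E31342 : n21971 = n9337 := ((((iv D13533)).symm.trans (sb E31278 (iv F94300)))).symm
theorem F204963 : act 6 n13533 = n10443 := (sb E31278 (iv D15180))
theorem F204964 : act 4 n13531 = n10461 := (sb E31279 F66011)
theorem E31343 : n21885 = n9336 := ((((iv D13531)).symm.trans (sb E31279 (iv F93935)))).symm
theorem F204965 : act 6 n13531 = n10394 := (sb E31279 (iv D15110))
theorem F204966 : act 2 n13534 = n10394 := (sb E31280 F65946)
theorem E31344 : n21963 = n9339 := (((F59469).symm.trans (sb E31280 (iv F94268)))).symm
theorem F204967 : act 4 n13534 = n10443 := (sb E31280 F65947)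
theorem E31345 : n19631 = n10382 := (((iv F84730)).symm.trans (sb E31280 F65948))
theorem F204968 : act 7 n13534 = n10381 := (sb E31280 (iv D15092))
theorem F204969 : act 3 n13537 = n10381 := (sb E31282 F65924)
theorem E31348 : n19634 = n10379 := (((iv F84745)).symm.trans (sb E31282 (iv D15087)))
theorem E31351 : n41525 = n4938 := ((((iv D7153)).symm.trans (sb E31283 (iv F173492)))).symm
theorem E31352 : n41571 = n10383 := (((D10383).symm.trans (sb E31283 D41571))).symm
theorem E31353 : n21973 = n19931 := ((D21973).symm.trans (sb E31284 F121360))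
theorem F204970 : act 7 n15093 = n19662 := (sb E31284 F121362)
theorem E31354 : n41639 = n21974 := (((D21974).symm.trans (sb E31284 D41639))).symm
theorem F204971 : act 6 n28589 = n22098 := (sb E31285 F135878)
theorem F204972 : act 2 n28590 = n22136 := (sb E31287 F135882)
theorem F204973 : act 6 n28590 = n22099 := (sb E31287 F135884)
theorem E31355 : n21886 = n19629 := ((((iv F84722)).symm.trans (sb E31288 F134619))).symm
theorem F204974 : act 4 n28583 = n22136 := (sb E31289 F135276)
theorem F204975 : act 6 n28583 = n22000 := (sb E31289 F135277)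
theorem F204976 : act 4 n28991 = n22098 := (sb E31290 (iv D32202))
theorem E31356 : n42235 = n22101 := (((iv F176541)).symm.trans (sb E31290 F135892))
theorem E31357 : n21975 = n19850 := ((((iv F85699)).symm.trans (sb E31291 F135152))).symm
theorem E31358 : n41568 = n10386 := (((F65957).symm.trans (sb E31292 (iv F173694)))).symm
theorem F204977 : act 5 n15094 = n19662 := (sb E31292 F121156)
theorem E31359 : n21869 = n19632 := (((iv F93870)).symm.trans (sb E31292 F121157))
theorem E31360 : n41572 = n21976 := (((D21976).symm.trans (sb E31292 D41572))).symm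
theorem F204978 : act 2 n28592 = n22000 := (sb E31293 F135155)
theorem F204979 : act 4 n28592 = n22099 := (sb E31293 F135156)
theorem F204980 : act 2 n28981 = n21999 := (sb E31294 (iv D32060))
theorem E31361 : n42045 = n22004 := (((iv F175762)).symm.trans (sb E31294 F135280))
theorem E31362 : n42221 = n22001 := (((iv F176486)).symm.trans (sb E31294 F135281))
theorem E31368 : n14450 = n13548 := ((F202728).symm.trans (sb E31296 F84919))
theorem E31369 : n28557 = n7183 := (((F46448).symm.trans (sb E31296 (iv F121202)))).symm
theorem F204981 : act 5 n10423 = n13543 := (sb E31296 (iv D19673))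
theorem E31370 : n28549 = n7149 := ((((iv F32563)).symm.trans (sb E31297 (iv D41575)))).symm
theorem E31371 : n28543 = n7155 := ((((iv F32589)).symm.trans (sb E31298 (iv D41566)))).symm
theorem F204982 : act 1 n10402 = n13531 := (sb E31303 F204230)
theorem E31376 : n15043 = n13530 := (((iv F65731)).symm.trans (sb E31303 F204231))
theorem F204983 : act 5 n19653 = n15121 := (sb E31304 F93980)
theorem E31377 : n28537 = n15044 := (((iv F121118)).symm.trans (sb E31304 F93981))
theorem E31378 : n31906 = n28576 := (((D28576).symm.trans (sb E31304 D31906))).symm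
theorem F204984 : act 1 n22013 = n28583 := (sb E31305 F204243)
theorem F204985 : act 3 n22013 = n31471 := (sb E31305 (iv F132928))
theorem E31379 : n31892 = n28541 := (((iv F134621)).symm.trans (sb E31306 F173636))
theorem F204986 : act 6 n21897 = n28575 := (sb E31306 F173637)
theorem E31383 : n31844 = n6454 := ((((iv D9340)).symm.trans (sb E31309 (iv F134416)))).symm
theorem E31384 : n30429 = n6459 := (((F41909).symm.trans (sb E31310 (iv F129100)))).symm
theorem E31385 : n31956 = n6457 := (((F41889).symm.trans (sb E31311 (iv F134902)))).symm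
theorem E31386 : n15067 = n13521 := ((((iv F59408)).symm.trans (sb E31311 F94155))).symm
theorem F204987 : act 5 n10373 = n13539 := (sb E31312 F84755)
theorem E31387 : n15014 = n13518 := (((iv F65600)).symm.trans (sb E31312 (iv D19636)))
theorem E31388 : n30187 = n6462 := (((F41918).symm.trans (sb E31313 (iv F128112)))).symm
theorem E31389 : n14365 = n13527 := ((((iv F59434)).symm.trans (sb E31313 (iv D20896)))).symm
theorem F204988 : act 5 n9948 = n13549 := (sb E31314 F84952)
theorem E31393 : n28617 = n14451 := (((D14451).symm.trans (sb E31314 D28617))).symm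
theorem F204989 : act 1 n19682 = n15152 := (sb E31315 (iv F203888))
theorem E31394 : n30619 = n28620 := (((D28620).symm.trans (sb E31315 D30619))).symm
theorem E31395 : n30620 = n28621 := (((D28621).symm.trans (sb E31315 D30620))).symm
theorem E31396 : n15064 = n13524 := ((((iv F59420)).symm.trans (sb E31316 (iv D21929)))).symm
theorem F204990 : act 5 n10364 = n13545 := (sb E31317 F84777)
theorem E31399 : n28526 = n7142 := ((((iv D10364)).symm.trans (sb E31317 (iv F121062)))).symm
theorem E31400 : n28562 = n15068 := (((D15068).symm.trans (sb E31317 D28562))).symm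
theorem F204991 : act 0 n19678 = n15093 := (sb E31318 F94157)
theorem F204992 : act 2 n19678 = n15080 := (sb E31318 F94158)
theorem F204993 : act 4 n19678 = n15152 := (sb E31318 F94159)
theorem E31402 : n31967 = n28615 := (((D28615).symm.trans (sb E31318 D31967))).symm
theorem E31403 : n32146 = n29023 := ((D32146).symm.trans (sb E31322 F174134))
theorem F204994 : act 7 n22058 = n28611 := (sb E31322 F174136)
theorem F204995 : act 7 n22059 = n28612 := (sb E31323 F174141)
theorem E31405 : n31994 = n29009 := ((D31994).symm.trans (sb E31327 F174071))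
theorem F204996 : act 7 n21954 = n28601 := (sb E31327 F174073)
theorem F204997 : act 7 n21955 = n28602 := (sb E31328 F174078)
theorem E31406 : n30621 = n28618 := ((((iv F121480)).symm.trans (sb E31329 F186361))).symm
theorem E31407 : n30431 = n13528 := ((((iv F59439)).symm.trans (sb E31330 F185329))).symm
theorem F204998 : act 1 n19681 = n15153 := (sb E31331 (iv F203094))
theorem E31408 : n28565 = n14454 := (((iv F121234)).symm.trans (sb E31331 F90626))
theorem E31409 : n30622 = n28619 := (((D28619).symm.trans (sb E31331 D30622))).symm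
theorem F204999 : act 5 n22060 = n28611 := (sb E31334 F174126)
theorem F205000 : act 0 n19643 = n15094 := (sb E31335 F94162)
theorem F205001 : act 2 n19643 = n15081 := (sb E31335 F94163)
theorem E31411 : n28559 = n15071 := (((iv F121209)).symm.trans (sb E31335 F94164))
theorem E31412 : n31828 = n13522 := (((F84782).symm.trans (sb E31335 (iv F134349)))).symm
theorem E31413 : n31969 = n28563 := (((D28563).symm.trans (sb E31335 D31969))).symm
theorem F205002 : act 5 n22061 = n28612 := (sb E31337 F174130)
theorem E31414 : n31997 = n28882 := ((D31997).symm.trans (sb E31338 F173748))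
theorem F205003 : act 5 n21956 = n28601 := (sb E31338 F173749)
theorem E31415 : n31848 = n28553 := (((iv F134437)).symm.trans (sb E31338 F173750))
theorem E31416 : n28550 = n15018 := ((((iv F65620)).symm.trans (sb E31339 F173735))).symm
theorem F205004 : act 0 n19637 = n15037 := (sb E31340 F93803)
theorem E31417 : n31845 = n13519 := (((F84759).symm.trans (sb E31340 (iv F134422)))).symm
theorem F205005 : act 6 n19637 = n15081 := (sb E31340 F93806)
theorem E31418 : n28521 = n15015 := (((iv F121040)).symm.trans (sb E31340 F93807))
theorem E31419 : n31849 = n28554 := (((D28554).symm.trans (sb E31340 D31849))).symm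
theorem F205006 : act 5 n21957 = n28602 := (sb E31341 F173754)
theorem E31421 : n31864 = n6452 := ((((iv D9337)).symm.trans (sb E31342 (iv F134510)))).symm
theorem E31422 : n15035 = n13514 := ((((iv F59378)).symm.trans (sb E31343 (iv D21885)))).symm
theorem E31423 : n15088 = n13517 := ((((iv F59392)).symm.trans (sb E31344 F94270))).symm
theorem F205007 : act 5 n10382 = n13534 := (sb E31345 F84730)
theorem E31425 : n15023 = n13515 := (((iv F65645)).symm.trans (sb E31345 (iv D19631)))
theorem E31428 : n28493 = n7864 := (((F46264).symm.trans (sb E31348 (iv F120913)))).symm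
theorem F205008 : act 5 n10379 = n13537 := (sb E31348 F84745)
theorem E31429 : n28518 = n7152 := ((((iv D10379)).symm.trans (sb E31348 (iv F121024)))).symm
theorem E31430 : n15089 = n13662 := ((D15089).symm.trans (sb E31348 F84746))
theorem E31433 : n28515 = n7123 := ((((iv F32444)).symm.trans (sb E31351 (iv D41525)))).symm
theorem E31434 : n28872 = n15095 := (((D15095).symm.trans (sb E31352 F173707))).symm
theorem E31435 : n32023 = n28980 := ((((iv F123034)).symm.trans (sb E31353 D32023))).symm
theorem F205009 : act 3 n19931 = n15093 := (sb E31353 (iv D21973))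
theorem E31436 : n32024 = n28990 := ((((iv F123071)).symm.trans (sb E31353 D32024))).symm
theorem E31437 : n32025 = n28995 := (((D28995).symm.trans (sb E31353 D32025))).symm
theorem F205010 : act 7 n21974 = n28592 := (sb E31354 F174013)
theorem E31438 : n31865 = n13516 := (((F84720).symm.trans (sb E31355 (iv F134514)))).symm
theorem F205011 : act 5 n19629 = n15037 := (sb E31355 F93940)
theorem E31439 : n28513 = n15036 := (((iv F120997)).symm.trans (sb E31355 F93941))
theorem E31440 : n31893 = n28542 := (((D28542).symm.trans (sb E31355 D31893))).symm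
theorem F205012 : act 7 n22101 = n28991 := (sb E31356 F176541)
theorem E31441 : n32026 = n28862 := ((((iv F122545)).symm.trans (sb E31357 D32026))).symm
theorem F205013 : act 3 n19850 = n15094 := (sb E31357 (iv D21975))
theorem E31442 : n32027 = n28869 := ((((iv F122570)).symm.trans (sb E31357 D32027))).symm
theorem E31443 : n31868 = n13660 := (((F85700).symm.trans (sb E31357 (iv F134528)))).symm
theorem E31445 : n32028 = n28873 := (((D28873).symm.trans (sb E31357 D32028))).symm
theorem E31446 : n28544 = n15027 := ((((iv F65663)).symm.trans (sb E31358 F173695))).symm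
theorem F205014 : act 2 n19632 = n15037 := (sb E31359 F93868)
theorem F205015 : act 6 n19632 = n15094 := (sb E31359 F93870)
theorem E31447 : n28516 = n15024 := (((iv F121012)).symm.trans (sb E31359 F93871))
theorem E31448 : n31869 = n28547 := (((D28547).symm.trans (sb E31359 D31869))).symm
theorem F205016 : act 5 n21976 = n28592 := (sb E31360 F173713)
theorem F205017 : act 5 n22004 = n28981 := (sb E31361 F175762)
theorem E31449 : n31897 = n28863 := (((iv F134641)).symm.trans (sb E31361 F175763))
theorem F205018 : act 7 n22001 = n28981 := (sb E31362 F176486)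
theorem F205019 : act 1 n13548 = n10423 := (sb E31368 (iv F202728))
theorem E31450 : n19645 = n9950 := (((iv F84789)).symm.trans (sb E31368 F63414))
theorem F205020 : act 7 n13548 = n9948 := (sb E31368 (iv D14450))
theorem E31451 : n41501 = n5454 := (((F32709).symm.trans (sb E31369 (iv F173381)))).symm
theorem E31452 : n19640 = n10366 := ((((iv F46208)).symm.trans (sb E31369 (iv D28557)))).symm
theorem E31454 : n19635 = n10331 := ((((iv F46044)).symm.trans (sb E31370 (iv D28549)))).symm
theorem E31455 : n41487 = n5432 := (((F32588).symm.trans (sb E31371 (iv F173328)))).symm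
theorem E31456 : n19630 = n10337 := ((((iv F46074)).symm.trans (sb E31371 (iv D28543)))).symm
theorem F205021 : act 5 n13530 = n10402 := (sb E31376 F65731)
theorem E31457 : n19627 = n10350 := (((iv F84713)).symm.trans (sb E31376 (iv D15043)))
theorem F205022 : act 1 n15044 = n19629 := (sb E31377 F121115)
theorem F205023 : act 6 n15044 = n19653 := (sb E31377 F121118)
theorem E31459 : n41556 = n21898 := (((D21898).symm.trans (sb E31377 D41556))).symm
theorem F205024 : act 5 n28576 = n22013 := (sb E31378 F134677)
theorem F205025 : act 1 n28541 = n21897 := (sb E31379 F134621)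
theorem F205026 : act 5 n28541 = n21889 := (sb E31379 F134622)
theorem E31460 : n41521 = n21887 := (((iv F173471)).symm.trans (sb E31379 F134623))
theorem E31464 : n21854 = n9327 := ((((iv F41815)).symm.trans (sb E31383 (iv D31844)))).symm
theorem E31465 : n44008 = n4476 := (((F29580).symm.trans (sb E31384 (iv F183871)))).symm
theorem E31467 : n21930 = n9330 := ((((iv F41826)).symm.trans (sb E31385 F134904))).symm
theorem F205027 : act 0 n13521 = n10382 := (sb E31386 F65842)
theorem F205028 : act 2 n13521 = n10373 := (sb E31386 F65843)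
theorem E31468 : n21842 = n9328 := ((((iv D13521)).symm.trans (sb E31386 (iv F93742)))).symm
theorem F205029 : act 7 n13521 = n10364 := (sb E31386 (iv D15067))
theorem F205030 : act 0 n13518 = n10344 := (sb E31387 F65596)
theorem F205031 : act 6 n13518 = n10373 := (sb E31387 F65600)
theorem E31469 : n19615 = n10329 := (((iv F84652)).symm.trans (sb E31387 (iv D15014)))
theorem E31470 : n43973 = n4477 := (((F29594).symm.trans (sb E31388 (iv F183724)))).symm
theorem E31471 : n20735 = n9335 := ((((iv F41850)).symm.trans (sb E31388 (iv D30187)))).symm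
theorem F205032 : act 1 n13527 = n10364 := (sb E31389 (iv F202709))
theorem E31473 : n19646 = n9892 := (((iv F84794)).symm.trans (sb E31389 F63086))
theorem E31474 : n19624 = n9891 := (((iv F84696)).symm.trans (sb E31389 (iv D14365)))
theorem E31475 : n20898 = n19650 := (((D19650).symm.trans (sb E31389 D20898))).symm
theorem E31482 : n41675 = n21025 := (((D21025).symm.trans (sb E31393 D41675))).symm
theorem F205033 : act 5 n14451 = n19682 := (sb E31393 F121477)
theorem F205034 : act 7 n14451 = n19681 := (sb E31393 F121478)
theorem E31483 : n41676 = n21026 := (((D21026).symm.trans (sb E31393 D41676))).symm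
theorem F205035 : act 1 n28620 = n22058 := (sb E31394 (iv F204090))
theorem E31484 : n44652 = n41680 := (((D41680).symm.trans (sb E31394 D44652))).symm
theorem E31485 : n44653 = n19960 := (((F121489).symm.trans (sb E31394 D44653))).symm
theorem E31486 : n44654 = n41681 := (((D41681).symm.trans (sb E31394 D44654))).symm
theorem F205036 : act 1 n28621 = n22059 := (sb E31395 (iv F204093))
theorem F205037 : act 0 n13524 = n10379 := (sb E31396 F65828)
theorem F205038 : act 3 n13524 = n10364 := (sb E31396 F65830)
theorem E31487 : n19605 = n11392 := (((iv F84603)).symm.trans (sb E31396 F65831))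
theorem E31488 : n19621 = n10363 := (((iv F84680)).symm.trans (sb E31396 (iv D15064)))
theorem E31493 : n19618 = n10324 := ((((iv F46009)).symm.trans (sb E31399 (iv D28526)))).symm
theorem E31494 : n41542 = n10365 := (((D10365).symm.trans (sb E31399 D41542))).symm
theorem E31495 : n21937 = n19866 := ((D21937).symm.trans (sb E31400 F121219))
theorem F205039 : act 5 n15068 = n19678 := (sb E31400 F121220)
theorem F205040 : act 7 n15068 = n19643 := (sb E31400 F121221)
theorem E31496 : n41595 = n21938 := (((D21938).symm.trans (sb E31400 D41595))).symm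
theorem F205041 : act 0 n28615 = n21974 := (sb E31402 F134946)
theorem F205042 : act 2 n28615 = n21955 := (sb E31402 F134947)
theorem F205043 : act 4 n28615 = n22059 := (sb E31402 F134948)
theorem F205044 : act 0 n29023 = n22101 := (sb E31403 F135653)
theorem F205045 : act 4 n29023 = n22058 := (sb E31403 (iv D32146))
theorem F205046 : act 0 n29009 = n22001 := (sb E31405 F135044)
theorem F205047 : act 2 n29009 = n21954 := (sb E31405 (iv D31994))
theorem E31500 : n42073 = n21958 := (((iv F175856)).symm.trans (sb E31405 F135045))
theorem F205048 : act 1 n28618 = n22060 := (sb E31406 (iv F203488))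
theorem E31501 : n44655 = n41677 := (((D41677).symm.trans (sb E31406 D44655))).symm
theorem E31502 : n41678 = n21078 := ((D41678).symm.trans (sb E31406 F129826))
theorem E31503 : n44656 = n41679 := (((D41679).symm.trans (sb E31406 D44656))).symm
theorem E31504 : n44372 = n9433 := (((F59438).symm.trans (sb E31407 D44372))).symm
theorem E31505 : n20901 = n19647 := ((((iv F84798)).symm.trans (sb E31407 F129110))).symm
theorem F205049 : act 4 n14454 = n19681 := (sb E31408 F121234)
theorem E31509 : n41599 = n21029 := (((D21029).symm.trans (sb E31408 D41599))).symm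
theorem F205050 : act 1 n28619 = n22061 := (sb E31409 (iv F203494))
theorem E31510 : n41591 = n20929 := (((F202189).symm.trans (sb E31411 D41591))).symm
theorem F205051 : act 4 n15071 = n19643 := (sb E31411 F121209)
theorem E31511 : n21846 = n19641 := (((iv F93760)).symm.trans (sb E31411 F121210))
theorem E31512 : n41592 = n21943 := (((D21943).symm.trans (sb E31411 D41592))).symm
theorem E31513 : n21843 = n19619 := ((((iv F84670)).symm.trans (sb E31412 F134350))).symm
theorem F205052 : act 0 n28563 = n21976 := (sb E31413 F134954)
theorem F205053 : act 2 n28563 = n21957 := (sb E31413 F134955)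
theorem F205054 : act 0 n28882 = n22004 := (sb E31414 F135058)
theorem F205055 : act 2 n28882 = n21956 := (sb E31414 (iv D31997))
theorem E31514 : n45364 = n42075 := (((D42075).symm.trans (sb E31414 (iv F189039)))).symm
theorem F205056 : act 0 n28553 = n21889 := (sb E31415 F134435)
theorem E31515 : n45092 = n41583 := (((D41583).symm.trans (sb E31415 (iv F188110)))).symm
theorem F205057 : act 6 n28553 = n21956 := (sb E31415 F134437)
theorem E31516 : n41533 = n21857 := (((iv F173532)).symm.trans (sb E31415 F134438))
theorem F205058 : act 4 n15018 = n19637 := (sb E31416 F121173)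
theorem E31519 : n41579 = n21861 := (((D21861).symm.trans (sb E31416 D41579))).symm
theorem E31520 : n21855 = n19616 := ((((iv F84658)).symm.trans (sb E31417 F134423))).symm
theorem F205059 : act 7 n15015 = n19637 := (sb E31418 F121040)
theorem E31521 : n41534 = n21858 := (((D21858).symm.trans (sb E31418 D41534))).symm
theorem F205060 : act 0 n28554 = n21890 := (sb E31419 F134440)
theorem F205061 : act 6 n28554 = n21957 := (sb E31419 F134443)
theorem E31522 : n21867 = n9325 := ((((iv F41805)).symm.trans (sb E31421 (iv D31864)))).symm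
theorem F205062 : act 5 n13514 = n10344 := (sb E31422 F65698)
theorem E31523 : n19611 = n10343 := (((iv F84630)).symm.trans (sb E31422 (iv D15035)))
theorem F205063 : act 3 n13517 = n10382 := (sb E31423 F65930)
theorem E31524 : n19598 = n11412 := (((iv F84575)).symm.trans (sb E31423 F65931))
theorem E31525 : n21863 = n9326 := ((((iv D13517)).symm.trans (sb E31423 (iv F93841)))).symm
theorem F205064 : act 7 n13517 = n10379 := (sb E31423 (iv D15088))
theorem F205065 : act 2 n13515 = n10344 := (sb E31425 F65643)
theorem F205066 : act 6 n13515 = n10382 := (sb E31425 F65645)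
theorem E31527 : n19612 = n10335 := (((iv F84635)).symm.trans (sb E31425 (iv D15023)))
theorem E31531 : n41462 = n5429 := ((((iv D7864)).symm.trans (sb E31428 (iv F173227)))).symm
theorem E31532 : n19756 = n11413 := (((D11413).symm.trans (sb E31428 F120915))).symm
theorem E31533 : n19614 = n10334 := ((((iv F46059)).symm.trans (sb E31429 (iv D28518)))).symm
theorem E31534 : n19797 = n10380 := (((D10380).symm.trans (sb E31429 F121025))).symm
theorem E31535 : n21966 = n19849 := ((((iv F85695)).symm.trans (sb E31430 D21966))).symm
theorem F205067 : act 8 n13662 = n10379 := (sb E31430 (iv D15089))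
theorem E31538 : n41526 = n10336 := (((D10336).symm.trans (sb E31433 D41526))).symm
theorem E31539 : n42044 = n21977 := (((D21977).symm.trans (sb E31434 (iv F175758)))).symm
theorem E31540 : n42054 = n21978 := (((D21978).symm.trans (sb E31434 (iv F175795)))).symm
theorem F205068 : act 5 n15095 = n19931 := (sb E31434 F122581)
theorem F205069 : act 7 n15095 = n19850 := (sb E31434 F122582)
theorem E31542 : n42059 = n21979 := (((D21979).symm.trans (sb E31434 D42059))).symm
theorem F205070 : act 3 n28980 = n22001 := (sb E31435 F135160)
theorem F205071 : act 3 n28990 = n22101 := (sb E31436 F135164)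
theorem F205072 : act 3 n28995 = n21974 := (sb E31437 F135167)
theorem E31543 : n21868 = n19613 := ((((iv F84642)).symm.trans (sb E31438 F134517))).symm
theorem F205073 : act 7 n15036 = n19629 := (sb E31439 F120997)
theorem E31544 : n41522 = n21888 := (((D21888).symm.trans (sb E31439 D41522))).symm
theorem F205074 : act 5 n28542 = n21890 := (sb E31440 F134627)
theorem F205075 : act 3 n28862 = n22004 := (sb E31441 F135170)
theorem E31545 : n42055 = n21986 := ((D42055).symm.trans (sb E31442 F135173))
theorem E31546 : n21870 = n19795 := ((((iv F85473)).symm.trans (sb E31443 F134529))).symm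
theorem F205076 : act 3 n28873 = n21976 := (sb E31445 F135176)
theorem F205077 : act 4 n15027 = n19632 := (sb E31446 F121146)
theorem E31549 : n41570 = n21876 := (((D21876).symm.trans (sb E31446 D41570))).symm
theorem F205078 : act 7 n15024 = n19632 := (sb E31447 F121012)
theorem E31550 : n41527 = n21871 := (((D21871).symm.trans (sb E31447 D41527))).symm
theorem F205079 : act 2 n28547 = n21890 := (sb E31448 F134531)
theorem F205080 : act 6 n28547 = n21976 := (sb E31448 F134533)
theorem F205081 : act 2 n28863 = n21889 := (sb E31449 (iv D31897))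
theorem E31551 : n45141 = n42047 := (((D42047).symm.trans (sb E31449 (iv F188268)))).symm
theorem F205082 : act 6 n28863 = n22004 := (sb E31449 F134641)
theorem E31552 : n41927 = n21891 := (((iv F175282)).symm.trans (sb E31449 F134642))
theorem E31553 : n28504 = n6863 := (((F44551).symm.trans (sb E31450 (iv F120953)))).symm
theorem F205083 : act 4 n9950 = n13548 := (sb E31450 F84789)
theorem E31554 : n14367 = n13525 := (((iv F63095)).symm.trans (sb E31450 (iv D19645)))
theorem E31555 : n28499 = n7852 := ((((iv F35595)).symm.trans (sb E31451 (iv D41501)))).symm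
theorem F205084 : act 4 n10366 = n13521 := (sb E31452 F84770)
theorem E31556 : n15007 = n13520 := (((iv F65566)).symm.trans (sb E31452 (iv D19640)))
theorem F205085 : act 4 n10331 = n13518 := (sb E31454 (iv D19635))
theorem E31559 : n28490 = n7866 := ((((iv F35652)).symm.trans (sb E31455 F173329))).symm
theorem F205086 : act 4 n10337 = n13515 := (sb E31456 (iv D19630))
theorem F205087 : act 1 n10350 = n13514 := (sb E31457 (iv D19627))
theorem F205088 : act 6 n10350 = n13530 := (sb E31457 F84713)
theorem F205089 : act 1 n21898 = n28542 := (sb E31459 F173640)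
theorem F205090 : act 6 n21898 = n28576 := (sb E31459 F173643)
theorem E31563 : n31846 = n28522 := (((iv F134424)).symm.trans (sb E31460 F173468))
theorem E31564 : n31894 = n28786 := ((D31894).symm.trans (sb E31460 F173469))
theorem F205091 : act 7 n21887 = n28541 := (sb E31460 F173471)
theorem E31566 : n15013 = n13505 := ((((iv F59331)).symm.trans (sb E31464 (iv D21854)))).symm
theorem E31567 : n30188 = n6450 := ((((iv F29533)).symm.trans (sb E31465 F183873))).symm
theorem E31569 : n16558 = n13497 := ((((iv F59289)).symm.trans (sb E31467 F94138))).symm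
theorem E31572 : n15005 = n13506 := ((((iv F59335)).symm.trans (sb E31468 (iv D21842)))).symm
theorem F205092 : act 7 n10329 = n13518 := (sb E31469 F84652)
theorem E31573 : n30164 = n6451 := ((((iv F29539)).symm.trans (sb E31470 (iv D43973)))).symm
theorem E31574 : n14257 = n13502 := ((((iv F59311)).symm.trans (sb E31471 F89476))).symm
theorem E31575 : n14256 = n13513 := ((((iv F59372)).symm.trans (sb E31471 (iv D20735)))).symm
theorem F205093 : act 4 n9892 = n13527 := (sb E31473 F84794)
theorem E31578 : n28530 = n6822 := ((((iv D9892)).symm.trans (sb E31473 (iv F121081)))).symm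
theorem E31579 : n28566 = n14368 := (((D14368).symm.trans (sb E31473 D28566))).symm
theorem F205094 : act 6 n9891 = n13527 := (sb E31474 F84696)
theorem E31580 : n14308 = n13510 := (((iv F62839)).symm.trans (sb E31474 (iv D19624)))
theorem E31581 : n28534 = n14366 := (((D14366).symm.trans (sb E31474 D28534))).symm
theorem F205095 : act 1 n19650 = n15068 := (sb E31475 (iv F203097))
theorem E31582 : n30432 = n13678 := (((F84810).symm.trans (sb E31475 D30432))).symm
theorem E31583 : n30433 = n28571 := (((D28571).symm.trans (sb E31475 D30433))).symm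
theorem F205096 : act 5 n21025 = n28620 := (sb E31482 F174171)
theorem F205097 : act 7 n21025 = n28618 := (sb E31482 F174172)
theorem F205098 : act 5 n21026 = n28621 := (sb E31483 F174176)
theorem F205099 : act 7 n21026 = n28619 := (sb E31483 F174177)
theorem F205100 : act 5 n41680 = n30623 := (sb E31484 F186371)
theorem E31584 : n30699 = n29031 := ((((iv F123225)).symm.trans (sb E31485 F186375))).symm
theorem F205101 : act 5 n41681 = n30624 := (sb E31486 F186380)
theorem E31585 : n28501 = n7850 := (((F50549).symm.trans (sb E31487 (iv F120941)))).symm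
theorem F205102 : act 4 n11392 = n13524 := (sb E31487 F84603)
theorem E31586 : n28480 = n7849 := ((((iv D11392)).symm.trans (sb E31487 (iv F120854)))).symm
theorem E31587 : n16559 = n13606 := ((D16559).symm.trans (sb E31487 F84605))
theorem F205103 : act 6 n10363 = n13524 := (sb E31488 F84680)
theorem E31588 : n15004 = n13508 := (((iv F65551)).symm.trans (sb E31488 (iv D19621)))
theorem E31589 : n15065 = n13633 := ((D15065).symm.trans (sb E31488 F84681))
theorem E31593 : n28527 = n15006 := (((D15006).symm.trans (sb E31493 D28527))).symm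
theorem E31594 : n28807 = n15069 := (((D15069).symm.trans (sb E31494 F173571))).symm
theorem F205104 : act 0 n19866 = n15095 := (sb E31495 F94166)
theorem E31595 : n31970 = n28881 := ((((iv F122611)).symm.trans (sb E31495 D31970))).symm
theorem F205105 : act 3 n19866 = n15068 := (sb E31495 (iv D21937))
theorem E31596 : n30476 = n28891 := ((((iv F122645)).symm.trans (sb E31495 F203487))).symm
theorem E31597 : n31972 = n28896 := (((D28896).symm.trans (sb E31495 D31972))).symm
theorem F205106 : act 5 n21938 = n28615 := (sb E31496 F173804)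
theorem F205107 : act 7 n21938 = n28563 := (sb E31496 F173805)
theorem E31598 : n31999 = n29297 := ((D31999).symm.trans (sb E31500 F175855))
theorem F205108 : act 5 n21958 = n29009 := (sb E31500 F175856)
theorem F205109 : act 7 n21958 = n28882 := (sb E31500 F175857)
theorem F205110 : act 4 n41677 = n30701 := (sb E31501 F186384)
theorem F205111 : act 7 n41677 = n30623 := (sb E31501 F186386)
theorem F205112 : act 4 n21078 = n28618 := (sb E31502 (iv D41678))
theorem E31599 : n30696 = n29034 := (((iv F130126)).symm.trans (sb E31502 F174185))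
theorem F205113 : act 4 n41679 = n30702 := (sb E31503 F186390)
theorem F205114 : act 7 n41679 = n30624 := (sb E31503 F186392)
theorem E31600 : n30485 = n13675 := ((((iv F60089)).symm.trans (sb E31504 F185341))).symm
theorem F205115 : act 1 n19647 = n15071 := (sb E31505 (iv F202188))
theorem E31601 : n28567 = n14393 := ((D28567).symm.trans (sb E31505 F90161))
theorem F205116 : act 5 n19647 = n14454 := (sb E31505 F90162)
theorem E31602 : n30308 = n13526 := (((F84799).symm.trans (sb E31505 (iv F128598)))).symm
theorem E31603 : n30436 = n28568 := (((D28568).symm.trans (sb E31505 D30436))).symm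
theorem F205117 : act 4 n21029 = n28619 := (sb E31509 F173822)
theorem E31605 : n30475 = n28892 := (((iv F129274)).symm.trans (sb E31510 F173790))
theorem E31606 : n30336 = n28560 := (((iv F128719)).symm.trans (sb E31510 F173791))
theorem F205118 : act 0 n19641 = n15027 := (sb E31511 F93757)
theorem F205119 : act 2 n19641 = n15018 := (sb E31511 F93758)
theorem F205120 : act 6 n19641 = n15071 := (sb E31511 F93760)
theorem E31607 : n28525 = n15008 := (((iv F121058)).symm.trans (sb E31511 F93761))
theorem E31608 : n31835 = n28561 := (((D28561).symm.trans (sb E31511 D31835))).symm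
theorem F205121 : act 4 n21943 = n28563 := (sb E31512 F173793)
theorem F205122 : act 0 n19619 = n15024 := (sb E31513 F93744)
theorem F205123 : act 2 n19619 = n15015 := (sb E31513 F93745)
theorem E31611 : n31830 = n28528 := (((D28528).symm.trans (sb E31513 D31830))).symm
theorem F205124 : act 0 n42075 = n31143 := (sb E31514 F189038)
theorem F205125 : act 2 n42075 = n31094 := (sb E31514 (iv D45364))
theorem F205126 : act 7 n42075 = n31096 := (sb E31514 F189040)
theorem F205127 : act 0 n41583 = n30946 := (sb E31515 F188108)
theorem F205128 : act 3 n41583 = n30913 := (sb E31515 (iv D45092))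
theorem F205129 : act 6 n41583 = n31094 := (sb E31515 F188111)
theorem F205130 : act 7 n41583 = n30914 := (sb E31515 F188112)
theorem E31612 : n31850 = n28798 := ((D31850).symm.trans (sb E31516 F173530))
theorem F205131 : act 7 n21857 = n28553 := (sb E31516 F173532)
theorem F205132 : act 4 n21861 = n28554 := (sb E31519 F173740)
theorem F205133 : act 0 n19616 = n15036 := (sb E31520 F93798)
theorem F205134 : act 5 n19616 = n15015 := (sb E31520 F93801)
theorem E31613 : n31847 = n28523 := (((D28523).symm.trans (sb E31520 D31847))).symm
theorem F205135 : act 7 n21858 = n28554 := (sb E31521 F173537)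
theorem E31614 : n31856 = n6445 := ((((iv D9325)).symm.trans (sb E31522 (iv F134475)))).symm
theorem E31615 : n15022 = n13503 := ((((iv F59319)).symm.trans (sb E31522 (iv D21867)))).symm
theorem F205136 : act 7 n10343 = n13514 := (sb E31523 F84630)
theorem F205137 : act 4 n11412 = n13517 := (sb E31524 F84575)
theorem E31616 : n15561 = n13493 := ((F202424).symm.trans (sb E31524 (iv D19598)))
theorem E31617 : n16585 = n13599 := ((D16585).symm.trans (sb E31524 F84577))
theorem E31618 : n15020 = n13504 := ((((iv F59324)).symm.trans (sb E31525 (iv D21863)))).symm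
theorem F205138 : act 7 n10335 = n13515 := (sb E31527 F84635)
theorem E31621 : n28473 = n7820 := ((((iv F35451)).symm.trans (sb E31531 (iv D41462)))).symm
theorem E31623 : n28729 = n16586 := (((D16586).symm.trans (sb E31532 (iv F121984)))).symm
theorem F205139 : act 4 n11413 = n13662 := (sb E31532 F85303)
theorem E31624 : n16816 = n16587 := (((D16587).symm.trans (sb E31532 (iv F204021)))).symm
theorem E31625 : n15021 = n13626 := ((D15021).symm.trans (sb E31533 F84647))
theorem E31626 : n28790 = n15090 := (((D15090).symm.trans (sb E31534 (iv F122249)))).symm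
theorem F205140 : act 6 n10380 = n13662 := (sb E31534 F85483)
theorem E31627 : n16740 = n15091 := (((D15091).symm.trans (sb E31534 (iv F203290)))).symm
theorem E31628 : n32011 = n28861 := ((((iv F122541)).symm.trans (sb E31535 D32011))).symm
theorem E31629 : n32012 = n28868 := ((((iv F122567)).symm.trans (sb E31535 D32012))).symm
theorem F205141 : act 8 n19849 = n15095 := (sb E31535 F94283)
theorem E31631 : n28791 = n15025 := (((D15025).symm.trans (sb E31538 F173496))).symm
theorem F205142 : act 5 n21977 = n28980 := (sb E31539 F175759)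
theorem F205143 : act 7 n21977 = n28862 := (sb E31539 F175760)
theorem F205144 : act 7 n21978 = n28869 := (sb E31540 F175796)
theorem F205145 : act 5 n21979 = n28995 := (sb E31542 F175812)
theorem F205146 : act 7 n21979 = n28873 := (sb E31542 F175813)
theorem F205147 : act 2 n19613 = n15036 := (sb E31543 F93863)
theorem F205148 : act 5 n19613 = n15024 := (sb E31543 F93865)
theorem E31633 : n31867 = n28517 := (((D28517).symm.trans (sb E31543 D31867))).symm
theorem F205149 : act 7 n21888 = n28542 := (sb E31544 F173477)
theorem F205150 : act 3 n21986 = n28869 := (sb E31545 (iv D42055))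
theorem E31634 : n30252 = n28870 := ((F202498).symm.trans (sb E31545 F175799))
theorem E31635 : n31870 = n28785 := ((((iv F122227)).symm.trans (sb E31546 D31870))).symm
theorem F205151 : act 3 n19795 = n15024 := (sb E31546 (iv D21870))
theorem E31638 : n31872 = n28792 := (((D28792).symm.trans (sb E31546 D31872))).symm
theorem F205152 : act 4 n21876 = n28547 := (sb E31549 F173702)
theorem F205153 : act 7 n21871 = n28547 := (sb E31550 F173503)
theorem F205154 : act 2 n42047 = n30946 := (sb E31551 (iv D45141))
theorem F205155 : act 6 n42047 = n31143 := (sb E31551 F188269)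
theorem F205156 : act 7 n42047 = n30948 := (sb E31551 F188270)
theorem F205157 : act 7 n21891 = n28863 := (sb E31552 F175282)
theorem E31639 : n41432 = n4743 := (((F31406).symm.trans (sb E31553 (iv F173074)))).symm
theorem E31640 : n19606 = n9895 := ((((iv F44341)).symm.trans (sb E31553 (iv D28504)))).symm
theorem F205158 : act 1 n13525 = n10366 := (sb E31554 F202190)
theorem F205159 : act 5 n13525 = n9950 := (sb E31554 F63095)
theorem E31642 : n20814 = n9331 := ((((iv D13525)).symm.trans (sb E31554 (iv F89791)))).symm
theorem F205160 : act 7 n13525 = n9892 := (sb E31554 (iv D14367))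
theorem E31643 : n41493 = n5426 := (((F35594).symm.trans (sb E31555 (iv F173354)))).symm
theorem E31644 : n19602 = n11394 := ((((iv F50557)).symm.trans (sb E31555 F120935))).symm
theorem E31645 : n19601 = n11336 := ((((iv F50302)).symm.trans (sb E31555 (iv D28499)))).symm
theorem F205161 : act 0 n13520 = n10337 := (sb E31556 F65562)
theorem F205162 : act 2 n13520 = n10331 := (sb E31556 F65563)
theorem F205163 : act 6 n13520 = n10366 := (sb E31556 F65566)
theorem E31647 : n19617 = n10325 := (((iv F84661)).symm.trans (sb E31556 (iv D15007)))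
theorem E31652 : n19596 = n10705 := (((F202024).symm.trans (sb E31559 (iv D28490)))).symm
theorem E31653 : n41490 = n10704 := (((F202025).symm.trans (sb E31559 D41490))).symm
theorem F205164 : act 0 n28522 = n21887 := (sb E31563 F134424)
theorem F205165 : act 5 n28522 = n21857 := (sb E31563 F134426)
theorem F205166 : act 2 n28786 = n21887 := (sb E31564 (iv D31894))
theorem F205167 : act 5 n28786 = n21891 := (sb E31564 F134630)
theorem F205168 : act 0 n13505 = n10343 := (sb E31566 F65590)
theorem F205169 : act 5 n13505 = n10329 := (sb E31566 (iv D15013))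
theorem E31659 : n20737 = n9316 := ((((iv F41752)).symm.trans (sb E31567 F128118))).symm
theorem F205170 : act 0 n13497 = n11412 := (sb E31569 F72037)
theorem E31664 : n22629 = n9313 := ((((iv D13497)).symm.trans (sb E31569 (iv F202425)))).symm
theorem F205171 : act 7 n13497 = n11392 := (sb E31569 (iv D16558))
theorem E31665 : n24102 = n9384 := (((F59291).symm.trans (sb E31569 D24102))).symm
theorem F205172 : act 0 n13506 = n10335 := (sb E31572 F65553)
theorem F205173 : act 2 n13506 = n10329 := (sb E31572 F65554)
theorem F205174 : act 6 n13506 = n10324 := (sb E31572 (iv D15005))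
theorem E31668 : n20720 = n9317 := ((((iv F41758)).symm.trans (sb E31573 F128015))).symm
theorem F205175 : act 1 n13502 = n11392 := (sb E31574 (iv F202008))
theorem E31671 : n19608 = n9822 := (((iv F84615)).symm.trans (sb E31574 F62635))
theorem E31672 : n19594 = n9820 := (((iv F84555)).symm.trans (sb E31574 (iv D14257)))
theorem E31673 : n20738 = n9389 := (((F59313).symm.trans (sb E31574 D20738))).symm
theorem F205176 : act 1 n13513 = n10363 := (sb E31575 (iv F202421))
theorem F205177 : act 3 n13513 = n9891 := (sb E31575 F62631)
theorem E31674 : n20667 = n9323 := ((((iv D13513)).symm.trans (sb E31575 (iv F89190)))).symm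
theorem E31675 : n20736 = n9407 := (((F59373).symm.trans (sb E31575 D20736))).symm
theorem E31682 : n19622 = n9854 := ((((iv F44158)).symm.trans (sb E31578 (iv D28530)))).symm
theorem E31684 : n41600 = n9910 := (((F63099).symm.trans (sb E31579 D41600))).symm
theorem F205178 : act 4 n14368 = n19650 := (sb E31579 F121239)
theorem F205179 : act 7 n14368 = n19647 := (sb E31579 F121240)
theorem E31685 : n41601 = n20902 := (((D20902).symm.trans (sb E31579 D41601))).symm
theorem F205180 : act 1 n13510 = n10324 := (sb E31580 (iv F201998))
theorem F205181 : act 7 n13510 = n9891 := (sb E31580 F62839)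
theorem E31686 : n20813 = n19625 := (((D19625).symm.trans (sb E31580 D20813))).symm
theorem E31687 : n20899 = n19813 := ((D20899).symm.trans (sb E31581 F121099))
theorem F205182 : act 6 n14366 = n19650 := (sb E31581 F121101)
theorem E31688 : n41551 = n20900 := (((D20900).symm.trans (sb E31581 D41551))).symm
theorem E31689 : n44374 = n9560 := (((F60098).symm.trans (sb E31582 D44374))).symm
theorem E31690 : n20934 = n19870 := ((((iv F85765)).symm.trans (sb E31582 F129113))).symm
theorem F205183 : act 1 n28571 = n21938 := (sb E31583 (iv F203496))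
theorem E31692 : n44756 = n42279 := ((((iv F176702)).symm.trans (sb E31584 (iv F186782)))).symm
theorem E31693 : n44772 = n42294 := (((D42294).symm.trans (sb E31584 (iv F186837)))).symm
theorem E31695 : n42295 = n21076 := ((D42295).symm.trans (sb E31584 (iv D30699)))
theorem E31696 : n42292 = n42179 := (((iv F176748)).symm.trans (sb E31584 (iv F176297)))
theorem E31698 : n44774 = n42296 := (((D42296).symm.trans (sb E31584 D44774))).symm
theorem E31700 : n41470 = n5419 := ((((iv D7850)).symm.trans (sb E31585 (iv F173257)))).symm
theorem E31701 : n41506 = n9829 := (((F201570).symm.trans (sb E31585 D41506))).symm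
theorem E31702 : n41449 = n5504 := (((F35582).symm.trans (sb E31586 (iv F173162)))).symm
theorem E31703 : n19589 = n11333 := ((((iv F50288)).symm.trans (sb E31586 (iv D28480)))).symm
theorem E31704 : n19727 = n11393 := (((D11393).symm.trans (sb E31586 F120855))).symm
theorem F205184 : act 0 n13606 = n11413 := (sb E31587 F72042)
theorem E31705 : n20756 = n19764 := ((((iv F85329)).symm.trans (sb E31587 F202244))).symm
theorem F205185 : act 8 n13606 = n11392 := (sb E31587 (iv D16559))
theorem E31706 : n24104 = n19743 := ((((iv F85248)).symm.trans (sb E31587 D24104))).symm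
theorem F205186 : act 0 n13508 = n10334 := (sb E31588 F65547)
theorem F205187 : act 3 n13508 = n10324 := (sb E31588 (iv D15004))
theorem F205188 : act 7 n13508 = n10363 := (sb E31588 F65551)
theorem F205189 : act 0 n13633 = n10380 := (sb E31589 F65833)
theorem E31708 : n21932 = n19805 := ((((iv F85512)).symm.trans (sb E31589 D21932))).symm
theorem F205190 : act 8 n13633 = n10363 := (sb E31589 (iv D15065))
theorem E31709 : n21933 = n19784 := ((((iv F85420)).symm.trans (sb E31589 D21933))).symm
theorem E31713 : n21844 = n19806 := ((D21844).symm.trans (sb E31593 F121065))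
theorem F205191 : act 6 n15006 = n19619 := (sb E31593 F121067)
theorem E31714 : n41543 = n21845 := (((D21845).symm.trans (sb E31593 D41543))).symm
theorem E31715 : n41945 = n21939 := (((D21939).symm.trans (sb E31594 (iv F175355)))).symm
theorem E31716 : n41955 = n20927 := (((F203198).symm.trans (sb E31594 (iv F175395)))).symm
theorem F205192 : act 6 n15069 = n19866 := (sb E31594 F122316)
theorem E31717 : n41960 = n21941 := (((D21941).symm.trans (sb E31594 D41960))).symm
theorem F205193 : act 0 n28881 = n21977 := (sb E31595 F134959)
theorem F205194 : act 3 n28881 = n21958 := (sb E31595 F134960)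
theorem F205195 : act 0 n28891 = n21978 := (sb E31596 (iv F203444))
theorem E31718 : n44441 = n42067 := ((((iv F175839)).symm.trans (sb E31596 D44441))).symm
theorem E31719 : n42087 = n20926 := ((D42087).symm.trans (sb E31596 (iv D30476)))
theorem E31720 : n44437 = n42084 := ((((iv F175894)).symm.trans (sb E31596 (iv F185575)))).symm
theorem E31723 : n44442 = n42088 := (((D42088).symm.trans (sb E31596 D44442))).symm
theorem F205196 : act 0 n28896 = n21979 := (sb E31597 F134965)
theorem F205197 : act 3 n28896 = n21938 := (sb E31597 F134966)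
theorem F205198 : act 1 n29297 = n21958 := (sb E31598 (iv D31999))
theorem E31724 : n45366 = n42696 := (((D42696).symm.trans (sb E31598 (iv F189048)))).symm
theorem E31725 : n42448 = n21960 := (((iv F177441)).symm.trans (sb E31598 F135066))
theorem E31726 : n44753 = n42282 := ((((iv F176712)).symm.trans (sb E31599 (iv F186772)))).symm
theorem E31727 : n44768 = n42298 := ((((iv F176773)).symm.trans (sb E31599 D44768))).symm
theorem E31728 : n42098 = n21075 := (((iv F175936)).symm.trans (sb E31599 (iv D30696)))
theorem F205199 : act 5 n29034 = n21078 := (sb E31599 F130126)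
theorem E31730 : n44770 = n42300 := (((D42300).symm.trans (sb E31599 D44770))).symm
theorem E31731 : n44452 = n9557 := (((F60088).symm.trans (sb E31600 D44452))).symm
theorem E31732 : n20933 = n19871 := (((D19871).symm.trans (sb E31600 (iv D30485)))).symm
theorem E31735 : n44064 = n9430 := ((((iv D13675)).symm.trans (sb E31600 (iv F184086)))).symm
theorem E31737 : n41602 = n10078 := (((F63190).symm.trans (sb E31601 D41602))).symm
theorem F205200 : act 3 n14393 = n19647 := (sb E31601 (iv D28567))
theorem E31738 : n20840 = n19648 := (((iv F89906)).symm.trans (sb E31601 F121243))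
theorem E31740 : n41603 = n20938 := (((D20938).symm.trans (sb E31601 D41603))).symm
theorem E31741 : n20815 = n19623 := ((((iv F84691)).symm.trans (sb E31602 F128599))).symm
theorem F205201 : act 1 n28568 = n21943 := (sb E31603 (iv F202592))
theorem F205202 : act 5 n28568 = n21029 := (sb E31603 F129131)
theorem F205203 : act 0 n28892 = n21986 := (sb E31605 (iv F202496))
theorem E31746 : n44419 = n42089 := (((D42089).symm.trans (sb E31605 (iv F185518)))).symm
theorem F205204 : act 4 n28892 = n20929 := (sb E31605 F129274)
theorem E31747 : n44436 = n42085 := ((((iv F175897)).symm.trans (sb E31605 (iv F185572)))).symm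
theorem E31748 : n44082 = n19864 := (((F122648).symm.trans (sb E31605 (iv F196414)))).symm
theorem E31749 : n41865 = n20925 := (((iv F175000)).symm.trans (sb E31605 (iv D30475)))
theorem E31750 : n44440 = n42090 := (((D42090).symm.trans (sb E31605 D44440))).symm
theorem F205205 : act 0 n28560 = n21875 := (sb E31606 (iv F201892))
theorem E31751 : n41593 = n22933 := ((D41593).symm.trans (sb E31606 (iv F196406)))
theorem F205206 : act 6 n28560 = n20929 := (sb E31606 F128719)
theorem E31752 : n41540 = n20833 := (((iv F173564)).symm.trans (sb E31606 F128720))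
theorem E31753 : n41504 = n20832 := (((iv F173395)).symm.trans (sb E31606 (iv D30336)))
theorem E31754 : n44231 = n41594 := (((D41594).symm.trans (sb E31606 D44231))).symm
theorem F205207 : act 4 n15008 = n19619 := (sb E31607 F121056)
theorem F205208 : act 7 n15008 = n19641 := (sb E31607 F121058)
theorem E31755 : n41541 = n21848 := (((D21848).symm.trans (sb E31607 D41541))).symm
theorem F205209 : act 0 n28561 = n21876 := (sb E31608 F134374)
theorem F205210 : act 2 n28561 = n21861 := (sb E31608 F134375)
theorem F205211 : act 6 n28561 = n21943 := (sb E31608 F134377)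
theorem F205212 : act 0 n28528 = n21871 := (sb E31611 F134353)
theorem F205213 : act 2 n28528 = n21858 := (sb E31611 F134354)
theorem F205214 : act 0 n28798 = n21891 := (sb E31612 F134446)
theorem F205215 : act 2 n28798 = n21857 := (sb E31612 (iv D31850))
theorem E31756 : n45094 = n41948 := (((D41948).symm.trans (sb E31612 (iv F188120)))).symm
theorem E31757 : n41946 = n21859 := (((iv F175361)).symm.trans (sb E31612 F134447))
theorem F205216 : act 0 n28523 = n21888 := (sb E31613 F134429)
theorem F205217 : act 5 n28523 = n21858 := (sb E31613 F134432)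
theorem E31758 : n22652 = n4466 := ((((iv D6445)).symm.trans (sb E31614 F202912))).symm
theorem F205218 : act 2 n13503 = n10343 := (sb E31615 F65638)
theorem F205219 : act 5 n13503 = n10335 := (sb E31615 (iv D15022))
theorem E31761 : n10706 = n9311 := ((((iv D13493)).symm.trans (sb E31616 F67994))).symm
theorem F205220 : act 6 n13493 = n11412 := (sb E31616 (iv F202424))
theorem E31762 : n19585 = n11349 := (((iv F84515)).symm.trans (sb E31616 F202032))
theorem E31763 : n20782 = n9380 := (((F59274).symm.trans (sb E31616 (iv F89654)))).symm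
theorem E31764 : n20781 = n19753 := ((((iv F85291)).symm.trans (sb E31617 F202242))).symm
theorem F205221 : act 7 n13599 = n11413 := (sb E31617 F72139)
theorem F205222 : act 8 n13599 = n11412 := (sb E31617 (iv D16585))
theorem E31765 : n24140 = n11576 := ((((iv F203738)).symm.trans (sb E31617 D24140))).symm
theorem F205223 : act 3 n13504 = n10335 := (sb E31618 F65629)
theorem F205224 : act 6 n13504 = n10334 := (sb E31618 (iv D15020))
theorem E31770 : n41442 = n5482 := (((F35450).symm.trans (sb E31621 (iv F173129)))).symm
theorem E31771 : n19720 = n11350 := (((D11350).symm.trans (sb E31621 F120825))).symm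
theorem E31776 : n41841 = n24142 := (((D24142).symm.trans (sb E31623 (iv F174914)))).symm
theorem E31778 : n24459 = n24143 := (((D24143).symm.trans (sb E31623 (iv F204033)))).symm
theorem F205225 : act 4 n16587 = n11579 := (sb E31624 F73084)
theorem E31779 : n21865 = n19794 := ((((iv F85468)).symm.trans (sb E31625 D21865))).symm
theorem F205226 : act 7 n13626 = n10380 := (sb E31625 F65636)
theorem F205227 : act 8 n13626 = n10334 := (sb E31625 (iv D15021))
theorem E31780 : n21866 = n11522 := ((((iv F202859)).symm.trans (sb E31625 D21866))).symm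
theorem E31781 : n41925 = n21968 := (((D21968).symm.trans (sb E31626 (iv F175272)))).symm
theorem E31782 : n41932 = n21969 := (((D21969).symm.trans (sb E31626 (iv F175303)))).symm
theorem F205228 : act 6 n15090 = n19849 := (sb E31626 F122251)
theorem E31783 : n24039 = n21970 := (((D21970).symm.trans (sb E31626 (iv F202861)))).symm
theorem F205229 : act 6 n15091 = n11579 := (sb E31627 F72769)
theorem F205230 : act 8 n28861 = n21977 := (sb E31628 F135118)
theorem F205231 : act 8 n28868 = n21978 := (sb E31629 F135122)
theorem E31784 : n41926 = n21872 := (((D21872).symm.trans (sb E31631 (iv F175277)))).symm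
theorem E31785 : n41933 = n21873 := (((D21873).symm.trans (sb E31631 (iv F175307)))).symm
theorem F205232 : act 6 n15025 = n19795 := (sb E31631 F122255)
theorem E31786 : n41937 = n21874 := (((D21874).symm.trans (sb E31631 D41937))).symm
theorem F205233 : act 2 n28517 = n21888 := (sb E31633 F134522)
theorem F205234 : act 5 n28517 = n21871 := (sb E31633 F134524)
theorem E31787 : n42057 = n20961 := ((D42057).symm.trans (sb E31634 F128362))
theorem F205235 : act 4 n28870 = n21875 := (sb E31634 F202106)
theorem E31789 : n41848 = n20956 := (((F122574).symm.trans (sb E31634 (iv F174942)))).symm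
theorem F205236 : act 6 n28870 = n21986 := (sb E31634 (iv F202498))
theorem E31790 : n41934 = n21877 := (((iv F175312)).symm.trans (sb E31634 F202107))
theorem E31791 : n41843 = n20777 := (((iv F174922)).symm.trans (sb E31634 (iv D30252)))
theorem E31792 : n44108 = n42058 := (((D42058).symm.trans (sb E31634 D44108))).symm
theorem F205237 : act 3 n28785 = n21891 := (sb E31635 F134536)
theorem F205238 : act 3 n28792 = n21871 := (sb E31638 F134542)
theorem E31793 : n28454 = n6825 := ((((iv F31257)).symm.trans (sb E31639 (iv D41432)))).symm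
theorem F205239 : act 3 n9895 = n13525 := (sb E31640 F84608)
theorem E31794 : n14260 = n13499 := (((iv F62648)).symm.trans (sb E31640 F84609))
theorem E31795 : n14312 = n13498 := (((iv F62861)).symm.trans (sb E31640 (iv D19606)))
theorem E31797 : n14309 = n13509 := ((((iv F59350)).symm.trans (sb E31642 (iv D20814)))).symm
theorem E31798 : n28495 = n7858 := ((((iv F35616)).symm.trans (sb E31643 F173355))).symm
theorem F205240 : act 3 n11394 = n13497 := (sb E31644 F84590)
theorem E31800 : n15548 = n13495 := (((iv F202028)).symm.trans (sb E31644 (iv D19602)))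
theorem E31801 : n28502 = n14271 := (((F201765).symm.trans (sb E31644 D28502))).symm
theorem F205241 : act 3 n11336 = n13520 := (sb E31645 F84586)
theorem F205242 : act 4 n10325 = n13506 := (sb E31647 (iv D19617))
theorem F205243 : act 7 n10325 = n13520 := (sb E31647 F84661)
theorem F205244 : act 3 n10705 = n13493 := (sb E31652 F84565)
theorem E31805 : n13492 = n7379 := (((F47715).symm.trans (sb E31652 (iv D19596)))).symm
theorem E31806 : n28471 = n7821 := (((F201609).symm.trans (sb E31652 (iv F120814)))).symm
theorem E31807 : n28491 = n7378 := ((((iv D10705)).symm.trans (sb E31652 D28491))).symm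
theorem E31808 : n28730 = n14286 := ((((iv F62749)).symm.trans (sb E31653 F173342))).symm
theorem E31812 : n30089 = n6438 := ((((iv D9316)).symm.trans (sb E31659 (iv F127710)))).symm
theorem E31813 : n30192 = n6486 := (((F41754).symm.trans (sb E31659 D30192))).symm
theorem E31815 : n15549 = n6436 := ((((iv D9313)).symm.trans (sb E31664 F97125))).symm
theorem E31816 : n16471 = n13487 := ((((iv F59243)).symm.trans (sb E31664 F202426))).symm
theorem E31817 : n30240 = n6483 := (((F41741).symm.trans (sb E31664 (iv F128316)))).symm
theorem E31818 : n30220 = n13603 := ((((iv F59794)).symm.trans (sb E31665 F202676))).symm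
theorem E31821 : n14248 = n13479 := ((((iv F59194)).symm.trans (sb E31668 F89406))).symm
theorem E31822 : n14246 = n13491 := ((((iv F59262)).symm.trans (sb E31668 (iv D20720)))).symm
theorem F205245 : act 3 n9822 = n13502 := (sb E31671 F84615)
theorem E31827 : n28483 = n6776 := ((((iv D9822)).symm.trans (sb E31671 (iv F120867)))).symm
theorem E31828 : n28509 = n6783 := (((F44028).symm.trans (sb E31671 D28509))).symm
theorem F205246 : act 4 n9820 = n13513 := (sb E31672 F84554)
theorem E31829 : n28469 = n6775 := ((((iv D9820)).symm.trans (sb E31672 (iv F120802)))).symm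
theorem F205247 : act 6 n9820 = n13502 := (sb E31672 F84555)
theorem E31830 : n14212 = n13490 := (((iv F62441)).symm.trans (sb E31672 (iv D19594)))
theorem E31831 : n14258 = n13584 := ((D14258).symm.trans (sb E31672 F84556))
theorem E31832 : n14275 = n13609 := ((((iv F59815)).symm.trans (sb E31673 F89486))).symm
theorem E31834 : n30088 = n6498 := (((F41793).symm.trans (sb E31674 D30088))).symm
theorem E31835 : n30190 = n13636 := ((((iv F59938)).symm.trans (sb E31675 D30190))).symm
theorem F205248 : act 4 n9854 = n13510 := (sb E31682 F84685)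
theorem E31840 : n28531 = n14310 := (((D14310).symm.trans (sb E31682 D28531))).symm
theorem E31841 : n28901 = n14390 := ((((iv F63182)).symm.trans (sb E31684 F173827))).symm
theorem F205249 : act 4 n20902 = n28571 := (sb E31685 F173831)
theorem F205250 : act 7 n20902 = n28568 := (sb E31685 F173832)
theorem F205251 : act 1 n19625 = n15006 := (sb E31686 (iv F202323))
theorem E31842 : n30306 = n13637 := (((F84700).symm.trans (sb E31686 D30306))).symm
theorem F205252 : act 7 n19625 = n14366 := (sb E31686 F89786)
theorem E31843 : n30307 = n28535 := (((D28535).symm.trans (sb E31686 D30307))).symm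
theorem F205253 : act 1 n19813 = n15069 := (sb E31687 (iv F203197))
theorem E31844 : n30434 = n13791 := (((F85542).symm.trans (sb E31687 D30434))).symm
theorem F205254 : act 3 n19813 = n14366 := (sb E31687 (iv D20899))
theorem E31845 : n28811 = n14391 := (((iv F122332)).symm.trans (sb E31687 F90152))
theorem E31846 : n30435 = n28816 := (((D28816).symm.trans (sb E31687 D30435))).symm
theorem F205255 : act 6 n20900 = n28571 := (sb E31688 F173617)
theorem E31847 : n30487 = n13864 := ((((iv F60884)).symm.trans (sb E31689 F185350))).symm
theorem E31848 : n30483 = n28898 := ((((iv F122666)).symm.trans (sb E31690 (iv F129298)))).symm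
theorem E31849 : n30488 = n28902 := (((D28902).symm.trans (sb E31690 D30488))).symm
theorem F205256 : act 4 n42279 = n30686 := (sb E31692 (iv D44756))
theorem F205257 : act 4 n42294 = n30698 := (sb E31693 (iv D44772))
theorem F205258 : act 4 n21076 = n29031 := (sb E31695 (iv D42295))
theorem F205259 : act 7 n21076 = n29034 := (sb E31695 F176762)
theorem F205260 : act 3 n42179 = n29030 := (sb E31696 (iv D42292))
theorem F205261 : act 6 n42179 = n29031 := (sb E31696 F176748)
theorem F205262 : act 7 n42179 = n30812 := (sb E31696 F176749)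
theorem F205263 : act 4 n42296 = n30700 := (sb E31698 F186844)
theorem E31850 : n28477 = n7810 := ((((iv F35404)).symm.trans (sb E31700 (iv D41470)))).symm
theorem E31851 : n28746 = n14268 := ((((iv F62680)).symm.trans (sb E31701 F173401))).symm
theorem E31852 : n28464 = n7922 := ((((iv F35879)).symm.trans (sb E31702 (iv D41449)))).symm
theorem F205264 : act 4 n11333 = n13508 := (sb E31703 F84532)
theorem E31854 : n16472 = n13579 := ((D16472).symm.trans (sb E31703 F84533))
theorem E31855 : n28685 = n14269 := (((F202419).symm.trans (sb E31704 (iv F121796)))).symm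
theorem F205265 : act 4 n11393 = n13633 := (sb E31704 F85176)
theorem F205266 : act 6 n11393 = n13606 := (sb E31704 F85177)
theorem E31856 : n28664 = n16561 := (((D16561).symm.trans (sb E31704 (iv F121710)))).symm
theorem F205267 : act 0 n19764 = n16586 := (sb E31705 (iv F202238))
theorem E31857 : n30210 = n28735 := ((((iv F122005)).symm.trans (sb E31705 (iv F128205)))).symm
theorem E31858 : n30217 = n28742 := ((((iv F122031)).symm.trans (sb E31705 (iv F128230)))).symm
theorem E31859 : n30221 = n28710 := ((((iv F121904)).symm.trans (sb E31705 D30221))).symm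
theorem F205268 : act 0 n19743 = n16587 := (sb E31706 F103011)
theorem F205269 : act 0 n19805 = n15090 := (sb E31708 F94144)
theorem E31862 : n31961 = n28796 := ((((iv F122273)).symm.trans (sb E31708 D31961))).symm
theorem E31863 : n30218 = n28803 := ((((iv F122302)).symm.trans (sb E31708 F203319))).symm
theorem F205270 : act 8 n19805 = n15069 := (sb E31708 F94146)
theorem E31864 : n31963 = n28771 := ((((iv F122161)).symm.trans (sb E31708 D31963))).symm
theorem F205271 : act 0 n19784 = n15091 := (sb E31709 F94147)
theorem F205272 : act 0 n19806 = n15025 := (sb E31713 F93748)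
theorem E31865 : n31831 = n28797 := ((((iv F122278)).symm.trans (sb E31713 D31831))).symm
theorem F205273 : act 3 n19806 = n15006 := (sb E31713 (iv D21844))
theorem E31866 : n30334 = n28804 := ((((iv F122305)).symm.trans (sb E31713 F202776))).symm
theorem F205274 : act 7 n19806 = n15069 := (sb E31713 F93750)
theorem E31867 : n31833 = n28808 := (((D28808).symm.trans (sb E31713 D31833))).symm
theorem F205275 : act 6 n21845 = n28528 := (sb E31714 F173578)
theorem E31868 : n31973 = n29133 := ((D31973).symm.trans (sb E31715 F175354))
theorem F205276 : act 6 n21939 = n28881 := (sb E31715 F175357)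
theorem F205277 : act 6 n20927 = n28891 := (sb E31716 F175396)
theorem F205278 : act 6 n21941 = n28896 := (sb E31717 F175411)
theorem F205279 : act 6 n42067 = n30478 := (sb E31718 F185586)
theorem F205280 : act 3 n20926 = n28891 := (sb E31719 (iv D42087))
theorem F205281 : act 7 n20926 = n28892 := (sb E31719 F175904)
theorem F205282 : act 3 n42084 = n30474 := (sb E31720 (iv D44437))
theorem F205283 : act 3 n42088 = n30477 := (sb E31723 F185588)
theorem F205284 : act 6 n42088 = n30479 := (sb E31723 F185589)
theorem F205285 : act 1 n42696 = n31096 := (sb E31724 (iv D45366))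
theorem F205286 : act 6 n42696 = n31098 := (sb E31724 F189049)
theorem F205287 : act 6 n21960 = n29297 := (sb E31725 F177441)
theorem E31869 : n31852 = n29134 := (((iv F134455)).symm.trans (sb E31725 F177442))
theorem F205288 : act 3 n42282 = n30685 := (sb E31726 (iv D44753))
theorem F205289 : act 5 n42282 = n30688 := (sb E31726 F186773)
theorem F205290 : act 7 n42282 = n30686 := (sb E31726 F186774)
theorem F205291 : act 3 n42298 = n31275 := (sb E31727 F186822)
theorem F205292 : act 5 n42298 = n30701 := (sb E31727 F186823)
theorem F205293 : act 7 n42298 = n30698 := (sb E31727 F186824)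
theorem F205294 : act 3 n21075 = n29034 := (sb E31728 F175936)
theorem E31870 : n30482 = n28899 := (((iv F129294)).symm.trans (sb E31728 (iv D42098)))
theorem E31871 : n30695 = n30563 := (((iv F130124)).symm.trans (sb E31728 F175937))
theorem F205295 : act 3 n42300 = n30697 := (sb E31730 F186830)
theorem F205296 : act 5 n42300 = n30702 := (sb E31730 F186831)
theorem F205297 : act 7 n42300 = n30700 := (sb E31730 F186832)
theorem E31872 : n31040 = n13865 := (((D13865).symm.trans (sb E31731 F185616))).symm
theorem E31873 : n28903 = n14638 := ((D28903).symm.trans (sb E31732 F90279))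
theorem F205298 : act 4 n19871 = n14393 := (sb E31732 F90280)
theorem E31874 : n30340 = n13676 := (((F85768).symm.trans (sb E31732 (iv F128737)))).symm
theorem E31875 : n28751 = n14389 := (((iv F122063)).symm.trans (sb E31732 (iv D20933)))
theorem E31876 : n30486 = n28904 := (((D28904).symm.trans (sb E31732 D30486))).symm
theorem E31878 : n30224 = n13607 := ((((iv F59807)).symm.trans (sb E31735 (iv D44064)))).symm
theorem E31879 : n28569 = n14570 := ((((iv F63906)).symm.trans (sb E31737 F173837))).symm
theorem F205299 : act 6 n19648 = n14393 := (sb E31738 F89906)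
theorem E31880 : n28532 = n14327 := (((iv F121090)).symm.trans (sb E31738 F89907))
theorem E31881 : n28507 = n14326 := (((iv F120967)).symm.trans (sb E31738 (iv D20840)))
theorem E31882 : n30345 = n28570 := (((D28570).symm.trans (sb E31738 D30345))).symm
theorem F205300 : act 3 n20938 = n28568 := (sb E31740 F173839)
theorem F205301 : act 1 n19623 = n15008 := (sb E31741 (iv F201696))
theorem E31883 : n30309 = n28533 := (((D28533).symm.trans (sb E31741 D30309))).symm
theorem F205302 : act 0 n42089 = n30527 := (sb E31746 F197085)
theorem F205303 : act 1 n42089 = n31007 := (sb E31746 F185517)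
theorem F205304 : act 4 n42089 = n30465 := (sb E31746 F185519)
theorem E31884 : n30503 = n28894 := (((F175908).symm.trans (sb E31746 F197086))).symm
theorem F205305 : act 7 n42089 = n30462 := (sb E31746 F185520)
theorem F205306 : act 8 n42089 = n30461 := (sb E31746 (iv D44419))
theorem F205307 : act 4 n42085 = n30685 := (sb E31747 F185571)
theorem F205308 : act 7 n42085 = n30474 := (sb E31747 F185573)
theorem F205309 : act 8 n42085 = n30473 := (sb E31747 (iv D44436))
theorem E31885 : n30333 = n28805 := ((((iv F122309)).symm.trans (sb E31748 F196415))).symm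
theorem E31886 : n30235 = n28744 := ((((iv F122037)).symm.trans (sb E31748 (iv D44082)))).symm
theorem E31887 : n30216 = n28743 := (((iv F128226)).symm.trans (sb E31749 (iv D41865)))
theorem F205310 : act 8 n20925 = n28892 := (sb E31749 F175000)
theorem F205311 : act 4 n42090 = n30480 := (sb E31750 F185583)
theorem F205312 : act 7 n42090 = n30477 := (sb E31750 F185584)
theorem F205313 : act 8 n42090 = n30553 := (sb E31750 F185585)
theorem F205314 : act 2 n22933 = n28560 := (sb E31751 (iv D41593))
theorem F205315 : act 7 n20833 = n28560 := (sb E31752 F173564)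
theorem F205316 : act 8 n20832 = n28560 := (sb E31753 F173395)
theorem F205317 : act 6 n41594 = n30480 := (sb E31754 F184765)
theorem F205318 : act 7 n41594 = n30337 := (sb E31754 F184766)
theorem F205319 : act 8 n41594 = n30389 := (sb E31754 F184767)
theorem F205320 : act 4 n21848 = n28528 := (sb E31755 F173566)
theorem F205321 : act 7 n21848 = n28561 := (sb E31755 F173568)
theorem F205322 : act 0 n41948 = n30948 := (sb E31756 F188119)
theorem F205323 : act 2 n41948 = n30914 := (sb E31756 (iv D45094))
theorem F205324 : act 6 n41948 = n30916 := (sb E31756 F188121)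
theorem F205325 : act 6 n21859 = n28798 := (sb E31757 F175361)
theorem E31889 : n15563 = n6435 := ((((iv F29454)).symm.trans (sb E31758 (iv D22652)))).symm
theorem E31894 : n15452 = n13485 := ((((iv F59233)).symm.trans (sb E31761 (iv F67546)))).symm
theorem E31895 : n14288 = n6481 := (((F41732).symm.trans (sb E31761 (iv F62757)))).symm
theorem F205326 : act 4 n11349 = n13504 := (sb E31762 F84514)
theorem F205327 : act 7 n11349 = n13493 := (sb E31762 F84515)
theorem E31896 : n16496 = n13575 := ((D16496).symm.trans (sb E31762 F84516))
theorem E31897 : n14287 = n13597 := ((((iv F59773)).symm.trans (sb E31763 (iv D20782)))).symm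
theorem E31899 : n28723 = n14293 := (((iv F121961)).symm.trans (sb E31764 F89648))
theorem E31900 : n30255 = n28727 := ((((iv F121977)).symm.trans (sb E31764 (iv F128372)))).symm
theorem F205328 : act 7 n19753 = n16586 := (sb E31764 (iv F202240))
theorem E31901 : n30260 = n16813 := ((((iv F203765)).symm.trans (sb E31764 D30260))).symm
theorem F205329 : act 7 n11576 = n16587 := (sb E31765 F103138)
theorem E31904 : n28460 = n7935 := (((D7935).symm.trans (sb E31770 (iv D41442)))).symm
theorem E31906 : n28674 = n16497 := (((D16497).symm.trans (sb E31771 (iv F121756)))).symm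
theorem F205330 : act 4 n11350 = n13626 := (sb E31771 F85153)
theorem E31907 : n16737 = n16498 := (((D16498).symm.trans (sb E31771 (iv F203288)))).symm
theorem F205331 : act 3 n24142 = n28868 := (sb E31776 F174913)
theorem E31911 : n35212 = n35176 := ((((iv F147803)).symm.trans (sb E31778 (iv F147919)))).symm
theorem E31913 : n31861 = n28784 := ((((iv F122223)).symm.trans (sb E31779 D31861))).symm
theorem E31914 : n31862 = n28788 := ((((iv F122241)).symm.trans (sb E31779 D31862))).symm
theorem F205332 : act 7 n19794 = n15090 := (sb E31779 F93849)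
theorem F205333 : act 8 n19794 = n15025 := (sb E31779 F93850)
theorem E31915 : n31863 = n16514 := ((((iv F202392)).symm.trans (sb E31779 D31863))).symm
theorem F205334 : act 7 n11522 = n15091 := (sb E31780 F93855)
theorem F205335 : act 6 n21968 = n28861 := (sb E31781 F175275)
theorem F205336 : act 6 n21969 = n28868 := (sb E31782 F175304)
theorem E31916 : n34100 = n32016 := ((((iv F135132)).symm.trans (sb E31783 (iv F143711)))).symm
theorem E31917 : n35024 = n32018 := ((((iv F135141)).symm.trans (sb E31783 (iv F147218)))).symm
theorem F205337 : act 6 n21970 = n16610 := (sb E31783 F102745)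
theorem E31918 : n32019 = n31887 := ((D32019).symm.trans (sb E31783 (iv F134601)))
theorem F205338 : act 6 n21872 = n28785 := (sb E31784 F175279)
theorem F205339 : act 6 n21873 = n28789 := (sb E31785 F175308)
theorem F205340 : act 6 n21874 = n28792 := (sb E31786 F175326)
theorem F205341 : act 2 n20961 = n28870 := (sb E31787 (iv D42057))
theorem E31919 : n30522 = n28875 := ((((iv F122592)).symm.trans (sb E31787 F175805))).symm
theorem E31920 : n30247 = n28732 := (((iv F128343)).symm.trans (sb E31789 (iv D41848)))
theorem F205342 : act 3 n21877 = n28789 := (sb E31790 (iv D41934))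
theorem E31921 : n31881 = n30363 := ((D31881).symm.trans (sb E31790 F175311))
theorem F205343 : act 7 n21877 = n28870 := (sb E31790 F175312)
theorem F205344 : act 8 n20777 = n28870 := (sb E31791 F174922)
theorem F205345 : act 2 n42058 = n30529 := (sb E31792 F184249)
theorem F205346 : act 4 n42058 = n31880 := (sb E31792 (iv F202320))
theorem E31923 : n41427 = n5140 := (((F31255).symm.trans (sb E31793 (iv F173054)))).symm
theorem E31924 : n19573 = n9823 := ((((iv F44032)).symm.trans (sb E31793 F120726))).symm
theorem E31925 : n19572 = n9857 := ((((iv F44175)).symm.trans (sb E31793 (iv D28454)))).symm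
theorem F205347 : act 1 n13499 = n11394 := (sb E31794 (iv F201764))
theorem F205348 : act 4 n13499 = n9895 := (sb E31794 F62648)
theorem E31927 : n20671 = n9314 := ((((iv D13499)).symm.trans (sb E31794 (iv F89207)))).symm
theorem F205349 : act 7 n13499 = n9822 := (sb E31794 (iv D14260))
theorem E31928 : n19609 = n9834 := ((D19609).symm.trans (sb E31794 F62650))
theorem F205350 : act 1 n13498 = n11336 := (sb E31795 (iv F201753))
theorem F205351 : act 6 n13498 = n9895 := (sb E31795 F62861)
theorem E31929 : n19590 = n9856 := (((iv F84538)).symm.trans (sb E31795 (iv D14312)))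
theorem E31930 : n19607 = n9868 := ((D19607).symm.trans (sb E31795 F62862))
theorem F205352 : act 1 n13509 = n10325 := (sb E31797 (iv F201755))
theorem F205353 : act 6 n13509 = n9854 := (sb E31797 (iv D14309))
theorem E31933 : n19599 = n10700 := ((((iv F201604)).symm.trans (sb E31798 (iv D28495)))).symm
theorem F205354 : act 0 n13495 = n10705 := (sb E31800 F67944)
theorem F205355 : act 4 n13495 = n11336 := (sb E31800 F202027)
theorem E31938 : n10697 = n9312 := ((((iv D13495)).symm.trans (sb E31800 F67946))).symm
theorem F205356 : act 6 n13495 = n11394 := (sb E31800 F202028)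
theorem E31939 : n19587 = n11334 := (((iv F84524)).symm.trans (sb E31800 F202029))
theorem E31940 : n19603 = n10696 := ((D19603).symm.trans (sb E31800 (iv D15548)))
theorem E31941 : n20755 = n19765 := (((iv F89552)).symm.trans (sb E31801 F120945))
theorem F205357 : act 3 n7379 = n9311 := (sb E31805 (iv D13492))
theorem E31949 : n19584 = n10633 := ((((iv F47411)).symm.trans (sb E31805 (iv F84509)))).symm
theorem E31950 : n19597 = n5094 := ((((iv D7379)).symm.trans (sb E31805 D19597))).symm
theorem E31951 : n41460 = n10632 := (((F201496).symm.trans (sb E31806 D41460))).symm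
theorem E31952 : n19754 = n9839 := ((((iv F44098)).symm.trans (sb E31807 F120902))).symm
theorem E31955 : n41842 = n20778 := ((((iv F89639)).symm.trans (sb E31808 (iv F174917)))).symm
theorem F205358 : act 8 n14286 = n19753 := (sb E31808 (iv D28730))
theorem E31962 : n20668 = n9309 := ((((iv F41720)).symm.trans (sb E31812 (iv D30089)))).symm
theorem E31964 : n20763 = n9386 := ((((iv F42095)).symm.trans (sb E31813 F128132))).symm
theorem E31969 : n22472 = n9307 := ((((iv F41710)).symm.trans (sb E31815 (iv F96489)))).symm
theorem F205359 : act 0 n13487 = n11349 := (sb E31816 F71666)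
theorem F205360 : act 6 n13487 = n11333 := (sb E31816 (iv D16471))
theorem E31971 : n23977 = n9367 := (((F59244).symm.trans (sb E31816 D23977))).symm
theorem E31972 : n20769 = n9382 := ((((iv F42081)).symm.trans (sb E31817 (iv D30240)))).symm
theorem E31974 : n20775 = n19758 := ((((iv F85309)).symm.trans (sb E31818 (iv F196394)))).symm
theorem E31976 : n44059 = n19740 := ((((iv F85234)).symm.trans (sb E31818 D44059))).symm
theorem E31977 : n19576 = n9816 := (((iv F84461)).symm.trans (sb E31821 F62590))
theorem E31978 : n19565 = n9815 := (((iv F84408)).symm.trans (sb E31821 (iv D14248)))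
theorem F205361 : act 2 n13491 = n9820 := (sb E31822 F62581)
theorem E31979 : n19583 = n9814 := (((iv F84502)).symm.trans (sb E31822 (iv D14246)))
theorem E31989 : n41452 = n4685 := ((((iv D6776)).symm.trans (sb E31827 (iv F173176)))).symm
theorem E31990 : n19591 = n9792 := ((((iv F43891)).symm.trans (sb E31827 (iv D28483)))).symm
theorem E31992 : n19772 = n9831 := ((((iv F44065)).symm.trans (sb E31828 F120973))).symm
theorem E31994 : n19582 = n9791 := ((((iv F43886)).symm.trans (sb E31829 (iv D28469)))).symm
theorem E31995 : n19705 = n9821 := (((D9821).symm.trans (sb E31829 F120804))).symm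
theorem F205362 : act 1 n13490 = n11333 := (sb E31830 (iv F201997))
theorem F205363 : act 7 n13490 = n9820 := (sb E31830 F62441)
theorem E31996 : n20669 = n9370 := (((F59257).symm.trans (sb E31830 D20669))).symm
theorem F205364 : act 1 n13584 = n11393 := (sb E31831 (iv F202418))
theorem E31997 : n19730 = n9832 := (((iv F85189)).symm.trans (sb E31831 F62639))
theorem F205365 : act 8 n13584 = n9820 := (sb E31831 (iv D14258))
theorem E31998 : n20739 = n19716 := ((((iv F85137)).symm.trans (sb E31831 D20739))).symm
theorem E31999 : n20760 = n19768 := ((((iv F85344)).symm.trans (sb E31832 (iv F89573)))).symm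
theorem E32000 : n20764 = n19746 := ((((iv F85262)).symm.trans (sb E31832 D20764))).symm
theorem E32001 : n43860 = n9404 := ((((iv F42178)).symm.trans (sb E31834 D43860))).symm
theorem E32003 : n44013 = n9507 := (((F59937).symm.trans (sb E31835 D44013))).symm
theorem E32004 : n20761 = n19809 := ((((iv F85527)).symm.trans (sb E31835 F128124))).symm
theorem E32013 : n41547 = n9866 := (((F62848).symm.trans (sb E31840 D41547))).symm
theorem F205366 : act 4 n14310 = n19625 := (sb E31840 F121085)
theorem F205367 : act 6 n14310 = n19623 := (sb E31840 F121086)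
theorem E32014 : n41548 = n20816 := (((D20816).symm.trans (sb E31840 D41548))).symm
theorem E32015 : n42100 = n10075 := (((F63181).symm.trans (sb E31841 D42100))).symm
theorem F205368 : act 3 n14390 = n19870 := (sb E31841 (iv D28901))
theorem E32016 : n42095 = n20932 := ((((iv F90277)).symm.trans (sb E31841 (iv F175924)))).symm
theorem F205369 : act 7 n14390 = n19871 := (sb E31841 F122677)
theorem E32019 : n42101 = n20935 := (((D20935).symm.trans (sb E31841 D42101))).symm
theorem E32020 : n44185 = n9508 := (((F59942).symm.trans (sb E31842 D44185))).symm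
theorem E32021 : n20838 = n19810 := ((((iv F85531)).symm.trans (sb E31842 F128585))).symm
theorem F205370 : act 1 n28535 = n21845 := (sb E31843 (iv F202777))
theorem F205371 : act 7 n28535 = n20900 := (sb E31843 F128592)
theorem E32023 : n44376 = n20034 := ((((iv F86477)).symm.trans (sb E31844 D44376))).symm
theorem E32024 : n20936 = n20038 := ((((iv F86495)).symm.trans (sb E31844 F129122))).symm
theorem F205372 : act 4 n14391 = n19813 := (sb E31845 F122332)
theorem F205373 : act 6 n14391 = n19870 := (sb E31845 F122333)
theorem E32027 : n41966 = n20937 := (((D20937).symm.trans (sb E31845 D41966))).symm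
theorem F205374 : act 1 n28816 = n21941 := (sb E31846 (iv F203631))
theorem F205375 : act 3 n28816 = n20900 := (sb E31846 F129125)
theorem E32028 : n44378 = n41916 := ((((iv F175232)).symm.trans (sb E31846 D44378))).symm
theorem E32029 : n44454 = n20143 := ((((iv F86903)).symm.trans (sb E31847 D44454))).symm
theorem E32030 : n21307 = n20153 := (((D20153).symm.trans (sb E31847 F129312))).symm
theorem E32033 : n42094 = n42018 := (((iv F175921)).symm.trans (sb E31848 (iv F175655)))
theorem E32034 : n44451 = n42096 := (((D42096).symm.trans (sb E31848 D44451))).symm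
theorem E32035 : n44456 = n42021 := ((((iv F175669)).symm.trans (sb E31849 D44456))).symm
theorem E32037 : n41446 = n5473 := (((F35403).symm.trans (sb E31850 (iv F173147)))).symm
theorem E32038 : n41471 = n9796 := (((F201545).symm.trans (sb E31850 D41471))).symm
theorem E32039 : n41854 = n20749 := ((((iv F89531)).symm.trans (sb E31851 (iv F174961)))).symm
theorem E32040 : n41864 = n20753 := ((((iv F89547)).symm.trans (sb E31851 (iv F174996)))).symm
theorem F205376 : act 8 n14268 = n19764 := (sb E31851 (iv D28746))
theorem E32043 : n19579 = n11489 := (((D11489).symm.trans (sb E31852 (iv D28464)))).symm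
theorem E32044 : n19700 = n11490 := (((D11490).symm.trans (sb E31852 F120778))).symm
theorem F205377 : act 0 n13579 = n11350 := (sb E31854 F71670)
theorem E32047 : n20680 = n19724 := ((((iv F85167)).symm.trans (sb E31854 F202398))).symm
theorem F205378 : act 7 n13579 = n11393 := (sb E31854 F71673)
theorem F205379 : act 8 n13579 = n11333 := (sb E31854 (iv D16472))
theorem E32048 : n23979 = n19711 := ((((iv F85110)).symm.trans (sb E31854 D23979))).symm
theorem E32049 : n41769 = n20750 := ((((iv F89536)).symm.trans (sb E31855 (iv F174613)))).symm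
theorem E32050 : n41776 = n20754 := ((((iv F89550)).symm.trans (sb E31855 (iv F174639)))).symm
theorem F205380 : act 6 n14269 = n19764 := (sb E31855 F121797)
theorem E32051 : n41744 = n20757 := (((D20757).symm.trans (sb E31855 (iv F174506)))).symm
theorem F205381 : act 4 n16561 = n19784 := (sb E31856 F121707)
theorem F205382 : act 6 n16561 = n19743 := (sb E31856 F121708)
theorem F205383 : act 0 n28735 = n20791 := (sb E31857 F196657)
theorem E32052 : n44041 = n41850 := ((((iv F174949)).symm.trans (sb E31857 (iv F184007)))).symm
theorem E32053 : n44046 = n41805 := ((((iv F174762)).symm.trans (sb E31857 D44046))).symm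
theorem F205384 : act 0 n28742 = n24142 := (sb E31858 (iv F202668))
theorem E32054 : n44053 = n41862 := ((((iv F174990)).symm.trans (sb E31858 (iv F184048)))).symm
theorem E32055 : n44056 = n41812 := ((((iv F174792)).symm.trans (sb E31858 D44056))).symm
theorem F205385 : act 0 n28710 = n24143 := (sb E31859 (iv F202671))
theorem E32056 : n41816 = n20792 := ((D41816).symm.trans (sb E31859 F128243))
theorem F205386 : act 0 n28796 = n21968 := (sb E31862 F134923)
theorem F205387 : act 8 n28796 = n21939 := (sb E31862 F134926)
theorem F205388 : act 0 n28803 = n21969 := (sb E31863 (iv F203312))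
theorem E32057 : n44057 = n41941 := ((((iv F175339)).symm.trans (sb E31863 D44057))).symm
theorem E32058 : n41953 = n41814 := (((iv F175389)).symm.trans (sb E31863 (iv F174798)))
theorem F205389 : act 8 n28803 = n20927 := (sb E31863 F128233)
theorem E32060 : n44058 = n41903 := ((((iv F175170)).symm.trans (sb E31863 D44058))).symm
theorem F205390 : act 0 n28771 = n21970 := (sb E31864 F134930)
theorem F205391 : act 0 n28797 = n21872 := (sb E31865 F134358)
theorem F205392 : act 3 n28797 = n21859 := (sb E31865 F134359)
theorem F205393 : act 7 n28797 = n21939 := (sb E31865 F134361)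
theorem F205394 : act 0 n28804 = n21873 := (sb E31866 (iv F202692))
theorem E32061 : n44229 = n41942 := ((((iv F175343)).symm.trans (sb E31866 D44229))).symm
theorem E32062 : n41956 = n20831 := ((D41956).symm.trans (sb E31866 (iv D30334)))
theorem E32063 : n41954 = n41905 := (((iv F175392)).symm.trans (sb E31866 (iv F175176)))
theorem F205395 : act 7 n28804 = n20927 := (sb E31866 F128712)
theorem E32065 : n44230 = n41957 := (((D41957).symm.trans (sb E31866 D44230))).symm
theorem F205396 : act 0 n28808 = n21874 := (sb E31867 F134365)
theorem F205397 : act 3 n28808 = n21845 := (sb E31867 F134366)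
theorem F205398 : act 7 n28808 = n21941 := (sb E31867 F134368)
theorem F205399 : act 1 n29133 = n21939 := (sb E31868 (iv D31973))
theorem F205400 : act 3 n29133 = n21960 := (sb E31868 F134968)
theorem F205401 : act 1 n29134 = n21859 := (sb E31869 (iv D31852))
theorem E32066 : n45096 = n42450 := (((D42450).symm.trans (sb E31869 (iv F188129)))).symm
theorem F205402 : act 7 n29134 = n21960 := (sb E31869 F134455)
theorem E32067 : n42097 = n21302 := ((D42097).symm.trans (sb E31870 F129293))
theorem F205403 : act 4 n28899 = n21075 := (sb E31870 F129294)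
theorem E32068 : n44446 = n20985 := (((F122670).symm.trans (sb E31870 (iv F185597)))).symm
theorem E32069 : n41872 = n20931 := (((iv F175025)).symm.trans (sb E31870 (iv D30482)))
theorem E32070 : n44448 = n42099 := (((D42099).symm.trans (sb E31870 D44448))).symm
theorem E32071 : n44752 = n44553 := ((((iv F185952)).symm.trans (sb E31871 (iv F186769)))).symm
theorem E32072 : n44569 = n21460 := (((iv F186001)).symm.trans (sb E31871 F130122))
theorem F205404 : act 6 n30563 = n21075 := (sb E31871 F130124)
theorem E32073 : n44566 = n42175 := (((iv F185993)).symm.trans (sb E31871 (iv F176280)))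
theorem E32074 : n44142 = n21074 := (((iv F184370)).symm.trans (sb E31871 (iv D30695)))
theorem E32075 : n44767 = n44571 := (((D44571).symm.trans (sb E31871 D44767))).symm
theorem E32077 : n21305 = n20155 := (((D20155).symm.trans (sb E31872 (iv D31040)))).symm
theorem E32081 : n42102 = n21295 := ((((iv F91697)).symm.trans (sb E31873 D42102))).symm
theorem F205405 : act 2 n14638 = n19871 := (sb E31873 (iv D28903))
theorem E32082 : n21196 = n19873 := (((iv F91325)).symm.trans (sb E31873 F122684))
theorem E32084 : n42103 = n21306 := (((D21306).symm.trans (sb E31873 D42103))).symm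
theorem E32085 : n44233 = n9933 := (((F60092).symm.trans (sb E31874 (iv F184776)))).symm
theorem E32086 : n20837 = n19811 := ((((iv F85535)).symm.trans (sb E31874 F128738))).symm
theorem E32087 : n20836 = n19770 := ((((iv F85351)).symm.trans (sb E31874 (iv D30340)))).symm
theorem E32088 : n44237 = n19874 := (((D19874).symm.trans (sb E31874 D44237))).symm
theorem E32089 : n20759 = n19769 := (((iv F89568)).symm.trans (sb E31875 (iv D28751)))
theorem F205406 : act 8 n14389 = n19871 := (sb E31875 F122063)
theorem F205407 : act 4 n28904 = n20938 := (sb E31876 F129308)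
theorem E32091 : n42104 = n20988 := ((D42104).symm.trans (sb E31876 F129310))
theorem E32098 : n44065 = n19744 := ((((iv F85253)).symm.trans (sb E31878 D44065))).symm
theorem F205408 : act 2 n14570 = n19648 := (sb E31879 (iv D28569))
theorem E32102 : n41605 = n21201 := (((D21201).symm.trans (sb E31879 D41605))).symm
theorem F205409 : act 3 n14327 = n19623 := (sb E31880 (iv D28532))
theorem F205410 : act 7 n14327 = n19648 := (sb E31880 F121090)
theorem E32104 : n41550 = n20841 := (((D20841).symm.trans (sb E31880 D41550))).symm
theorem F205411 : act 8 n14326 = n19648 := (sb E31881 F120967)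
theorem F205412 : act 6 n28570 = n20938 := (sb E31882 F128755)
theorem E32106 : n41606 = n20877 := ((D41606).symm.trans (sb E31882 F128757))
theorem F205413 : act 1 n28533 = n21848 := (sb E31883 (iv F202149))
theorem F205414 : act 0 n28894 = n20961 := (sb E31884 F129368)
theorem E32107 : n44462 = n42091 := (((D42091).symm.trans (sb E31884 (iv F185644)))).symm
theorem E32108 : n44482 = n42070 := ((((iv F175848)).symm.trans (sb E31884 D44482))).symm
theorem F205415 : act 4 n28894 = n22933 := (sb E31884 F129369)
theorem E32109 : n42038 = n20980 := (((F122652).symm.trans (sb E31884 (iv F175739)))).symm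
theorem E32110 : n44213 = n41958 := ((((iv F175404)).symm.trans (sb E31884 (iv F196423)))).symm
theorem E32111 : n41867 = n20944 := (((iv F175005)).symm.trans (sb E31884 (iv D30503)))
theorem E32112 : n44483 = n42092 := (((D42092).symm.trans (sb E31884 D44483))).symm
theorem F205416 : act 0 n28805 = n21877 := (sb E31885 (iv F201782))
theorem F205417 : act 4 n28805 = n20833 := (sb E31885 F128709)
theorem E32113 : n44225 = n20866 := (((F122308).symm.trans (sb E31885 (iv F184748)))).symm
theorem E32114 : n41778 = n20830 := (((iv F174647)).symm.trans (sb E31885 (iv D30333)))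
theorem E32115 : n44228 = n41959 := (((D41959).symm.trans (sb E31885 D44228))).symm
theorem F205418 : act 0 n28744 = n20777 := (sb E31886 F128296)
theorem E32116 : n20767 = n19763 := ((((iv D28744)).symm.trans (sb E31886 (iv D30235)))).symm
theorem F205419 : act 4 n28744 = n20832 := (sb E31886 F196155)
theorem E32117 : n41831 = n20789 := (((F122036).symm.trans (sb E31886 (iv F174877)))).symm
theorem F205420 : act 6 n28744 = n20925 := (sb E31886 (iv F196402))
theorem E32118 : n41868 = n20864 := ((D41868).symm.trans (sb E31886 (iv F196416)))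
theorem E32119 : n41851 = n20772 := (((iv F174951)).symm.trans (sb E31887 (iv F196424)))
theorem F205421 : act 3 n28743 = n20925 := (sb E31887 F128226)
theorem E32120 : n44052 = n41863 := ((((iv F174993)).symm.trans (sb E31887 (iv F184044)))).symm
theorem E32121 : n41866 = n20787 := ((D41866).symm.trans (sb E31887 F128228))
theorem E32123 : n22486 = n9306 := ((((iv F41705)).symm.trans (sb E31889 (iv F96545)))).symm
theorem F205422 : act 5 n13485 = n11349 := (sb E31894 F202336)
theorem E32129 : n19577 = n11507 := (((iv F84469)).symm.trans (sb E31894 (iv F202785)))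
theorem E32130 : n20699 = n9365 := (((F59234).symm.trans (sb E31894 (iv F89321)))).symm
theorem E32131 : n9840 = n9379 := (((D9379).symm.trans (sb E31895 (iv D14288)))).symm
theorem E32133 : n20698 = n19718 := ((((iv F85144)).symm.trans (sb E31896 F202330))).symm
theorem F205423 : act 6 n13575 = n11350 := (sb E31896 F71781)
theorem F205424 : act 8 n13575 = n11349 := (sb E31896 (iv D16496))
theorem E32134 : n24013 = n11519 := ((((iv F202857)).symm.trans (sb E31896 D24013))).symm
theorem E32135 : n19750 = n9843 := (((iv F85279)).symm.trans (sb E31897 F62752))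
theorem E32136 : n20779 = n19752 := (((D19752).symm.trans (sb E31897 (iv F89642)))).symm
theorem F205425 : act 2 n14293 = n19753 := (sb E31899 F121961)
theorem E32139 : n41832 = n20788 := ((((iv F89673)).symm.trans (sb E31899 (iv F174880)))).symm
theorem E32140 : n24455 = n20792 := (((D20792).symm.trans (sb E31899 F203460))).symm
theorem E32142 : n44110 = n41840 := (((D41840).symm.trans (sb E31900 (iv F184258)))).symm
theorem F205426 : act 7 n28727 = n24142 := (sb E31900 (iv F202670))
theorem F205427 : act 7 n16813 = n24143 := (sb E31901 (iv F202673))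
theorem E32144 : n41805 = n24447 := ((((iv F104398)).symm.trans (sb E31901 (tr (iv F184026) E32053)))).symm
theorem E32151 : n19696 = n11508 := (((D11508).symm.trans (sb E31904 F120758))).symm
theorem E32155 : n41761 = n24015 := (((D24015).symm.trans (sb E31906 (iv F174582)))).symm
theorem E32157 : n24347 = n24016 := (((D24016).symm.trans (sb E31906 (iv F203456)))).symm
theorem F205428 : act 4 n16498 = n11522 := (sb E31907 F72754)
theorem F205429 : act 3 n35176 = n24174 := (sb E31911 F147918)
theorem F205430 : act 7 n35176 = n24165 := (sb E31911 (iv D35212))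
theorem E32158 : n44046 = n24447 := (E32053).trans E32144
theorem F205431 : act 7 n28784 = n21968 := (sb E31913 F134497)
theorem F205432 : act 8 n28784 = n21872 := (sb E31913 F134498)
theorem F205433 : act 7 n28788 = n21969 := (sb E31914 F134501)
theorem F205434 : act 8 n28788 = n21873 := (sb E31914 F134502)
theorem F205435 : act 7 n16514 = n21970 := (sb E31915 F134506)
theorem F205436 : act 6 n32016 = n23583 := (sb E31916 F143714)
theorem F205437 : act 7 n32016 = n23389 := (sb E31916 (iv D34100))
theorem F205438 : act 8 n32016 = n45131 := (sb E31916 (iv F188236))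
theorem F205439 : act 6 n32018 = n24174 := (sb E31917 F147219)
theorem F205440 : act 7 n32018 = n24036 := (sb E31917 (iv D35024))
theorem F205441 : act 8 n31887 = n21970 := (sb E31918 (iv D32019))
theorem F205442 : act 9 n31887 = n21985 := (sb E31918 F135145)
theorem F205443 : act 2 n28875 = n20956 := (sb E31919 (iv D30522))
theorem E32160 : n44489 = n42063 := (((D42063).symm.trans (sb E31919 (iv F185744)))).symm
theorem E32161 : n44508 = n42062 := ((((iv F175822)).symm.trans (sb E31919 (iv F185815)))).symm
theorem E32162 : n44273 = n41939 := ((((iv F175333)).symm.trans (sb E31919 (iv F184942)))).symm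
theorem E32164 : n44511 = n42064 := (((D42064).symm.trans (sb E31919 D44511))).symm
theorem E32165 : n20773 = n19757 := ((((iv D28732)).symm.trans (sb E31920 (iv D30247)))).symm
theorem E32166 : n44099 = n41847 := (((D41847).symm.trans (sb E31920 (iv F184217)))).symm
theorem E32167 : n43917 = n24033 := (((F202100).symm.trans (sb E31920 (iv F183498)))).symm
theorem F205444 : act 8 n28732 = n20956 := (sb E31920 F128343)
theorem F205445 : act 5 n30363 = n21877 := (sb E31921 (iv D31881))
theorem E32172 : n28450 = n7362 := ((((iv F33554)).symm.trans (sb E31923 F173056))).symm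
theorem F205446 : act 2 n9823 = n13499 := (sb E31924 F84446)
theorem E32174 : n14249 = n13478 := (((iv F62597)).symm.trans (sb E31924 F84447))
theorem E32175 : n14215 = n13476 := (((iv F62455)).symm.trans (sb E31924 (iv D19573)))
theorem F205447 : act 2 n9857 = n13498 := (sb E31925 F84441)
theorem E32179 : n15545 = n6437 := ((((iv D9314)).symm.trans (sb E31927 F195568))).symm
theorem E32180 : n14214 = n13488 := ((((iv F59248)).symm.trans (sb E31927 (iv D20671)))).symm
theorem E32181 : n14226 = n13500 := (((D13500).symm.trans (sb E31927 F89208))).symm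
theorem E32182 : n14274 = n13610 := (((iv F62703)).symm.trans (sb E31928 F84619))
theorem F205448 : act 8 n9834 = n13499 := (sb E31928 (iv D19609))
theorem F205449 : act 3 n9856 = n13509 := (sb E31929 F84536)
theorem F205450 : act 7 n9856 = n13498 := (sb E31929 F84538)
theorem F205451 : act 8 n9868 = n13498 := (sb E31930 (iv D19607))
theorem F205452 : act 2 n10700 = n13495 := (sb E31933 F84579)
theorem E32187 : n13494 = n7376 := (((F47696).symm.trans (sb E31933 (iv D19599)))).symm
theorem F205453 : act 0 n9312 = n7379 := (sb E31938 F47681)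
theorem E32190 : n15443 = n13486 := ((((iv F59238)).symm.trans (sb E31938 (iv F67510)))).symm
theorem E32191 : n13496 = n7374 := ((D13496).symm.trans (sb E31938 (iv D10697)))
theorem F205454 : act 3 n11334 = n13487 := (sb E31939 F84523)
theorem F205455 : act 7 n11334 = n13495 := (sb E31939 F84524)
theorem E32192 : n28478 = n14221 := (((F201752).symm.trans (sb E31939 D28478))).symm
theorem E32193 : n14278 = n13604 := (((iv F62720)).symm.trans (sb E31940 F84594))
theorem F205456 : act 8 n10696 = n13495 := (sb E31940 (iv D19603))
theorem F205457 : act 0 n19765 = n14286 := (sb E31941 (iv F196142))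
theorem E32195 : n28736 = n14281 := (((iv F122009)).symm.trans (sb E31941 (iv F196157)))
theorem F205458 : act 3 n19765 = n14271 := (sb E31941 F89552)
theorem F205459 : act 7 n19765 = n14268 := (sb E31941 (iv D20755))
theorem E32196 : n28747 = n14292 := ((D28747).symm.trans (sb E31941 F89554))
theorem F205460 : act 3 n10633 = n13485 := (sb E31949 (iv D19584))
theorem E32200 : n28459 = n7937 := ((((iv F202334)).symm.trans (sb E31949 (iv F120750)))).symm
theorem E32201 : n28472 = n7331 := ((((iv D10633)).symm.trans (sb E31949 D28472))).symm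
theorem E32202 : n13598 = n6787 := ((((iv F31085)).symm.trans (sb E31950 F84569))).symm
theorem E32204 : n28675 = n14231 := ((((iv F62522)).symm.trans (sb E31951 F173214))).symm
theorem F205461 : act 8 n9839 = n13597 := (sb E31952 (iv D19754))
theorem E32206 : n28731 = n14265 := ((((iv F62672)).symm.trans (sb E31952 D28731))).symm
theorem F205462 : act 0 n20778 = n28743 := (sb E31955 F174915)
theorem F205463 : act 8 n20778 = n28727 := (sb E31955 (iv D41842))
theorem E32213 : n30090 = n6474 := (((F41721).symm.trans (sb E31962 D30090))).symm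
theorem E32215 : n30229 = n13592 := ((((iv F59750)).symm.trans (sb E31964 D30229))).symm
theorem E32218 : n16691 = n13481 := ((((iv F59209)).symm.trans (sb E31969 (iv F203128)))).symm
theorem E32222 : n30108 = n13577 := ((((iv F59684)).symm.trans (sb E31971 F202652))).symm
theorem E32224 : n14282 = n13600 := ((((iv F59784)).symm.trans (sb E31972 F89605))).symm
theorem E32226 : n30241 = n13588 := ((((iv F59730)).symm.trans (sb E31972 D30241))).symm
theorem F205464 : act 0 n19758 = n14293 := (sb E31974 F89625)
theorem E32227 : n30246 = n28733 := ((((iv F121999)).symm.trans (sb E31974 (iv F128338)))).symm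
theorem E32228 : n30250 = n28704 := ((((iv F121881)).symm.trans (sb E31974 D30250))).symm
theorem E32229 : n30273 = n28711 := (((D28711).symm.trans (sb E31976 F184065))).symm
theorem F205465 : act 2 n9816 = n13479 := (sb E31977 F84461)
theorem E32231 : n28442 = n6772 := ((((iv D9816)).symm.trans (sb E31977 (iv F120669)))).symm
theorem F205466 : act 3 n9815 = n13491 := (sb E31978 F84406)
theorem E32232 : n28431 = n6771 := ((((iv D9815)).symm.trans (sb E31978 (iv F120611)))).symm
theorem F205467 : act 6 n9815 = n13479 := (sb E31978 F84408)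
theorem E32233 : n14207 = n13472 := (((iv F62414)).symm.trans (sb E31978 (iv D19565)))
theorem F205468 : act 5 n9814 = n13491 := (sb E31979 F84502)
theorem E32234 : n14206 = n13484 := (((iv F62409)).symm.trans (sb E31979 (iv D19583)))
theorem E32235 : n14247 = n13566 := ((D14247).symm.trans (sb E31979 F84504))
theorem E32239 : n28466 = n6756 := ((((iv F30940)).symm.trans (sb E31989 (iv D41452)))).symm
theorem F205469 : act 3 n9792 = n13490 := (sb E31990 F84541)
theorem E32240 : n28484 = n6761 := (((F43892).symm.trans (sb E31990 D28484))).symm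
theorem E32242 : n28750 = n14272 := ((((iv F62696)).symm.trans (sb E31992 (iv F122059)))).symm
theorem F205470 : act 8 n9831 = n13609 := (sb E31992 (iv D19772))
theorem F205471 : act 5 n9791 = n13490 := (sb E31994 F84496)
theorem E32244 : n14183 = n13483 := (((iv F62293)).symm.trans (sb E31994 (iv D19582)))
theorem E32245 : n14213 = n13565 := ((D14213).symm.trans (sb E31994 F84497))
theorem F205472 : act 5 n9821 = n13584 := (sb E31995 F85079)
theorem E32247 : n28637 = n14259 := (((D14259).symm.trans (sb E31995 (iv F121588)))).symm
theorem E32248 : n14224 = n13581 := ((((iv F59699)).symm.trans (sb E31996 F89196))).symm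
theorem F205473 : act 3 n9832 = n13584 := (sb E31997 F85189)
theorem E32250 : n28689 = n14273 := ((((iv F62700)).symm.trans (sb E31997 (iv F121810)))).symm
theorem F205474 : act 6 n9832 = n13609 := (sb E31997 F85190)
theorem E32251 : n28667 = n14276 := (((D14276).symm.trans (sb E31997 (iv F121725)))).symm
theorem F205475 : act 1 n19716 = n16561 := (sb E31998 (iv F202907))
theorem E32252 : n30223 = n28748 := ((((iv F122051)).symm.trans (sb E31999 (iv F128253)))).symm
theorem E32253 : n30226 = n28714 := ((((iv F121923)).symm.trans (sb E31999 D30226))).symm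
theorem E32254 : n28718 = n14301 := ((D28718).symm.trans (sb E32000 F89589))
theorem E32255 : n30113 = n13634 := ((((iv F59930)).symm.trans (sb E32001 F183266))).symm
theorem E32256 : n30227 = n13787 := ((((iv F60585)).symm.trans (sb E32003 F183891))).symm
theorem E32257 : n28809 = n28716 := (((iv F122324)).symm.trans (sb E32004 (iv F121930)))
theorem F205476 : act 8 n19809 = n14391 := (sb E32004 F89576)
theorem E32258 : n30228 = n28775 := ((((iv F122180)).symm.trans (sb E32004 D30228))).symm
theorem E32259 : n28812 = n14325 := ((((iv F62917)).symm.trans (sb E32013 F173596))).symm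
theorem F205477 : act 4 n20816 = n28535 := (sb E32014 F173600)
theorem F205478 : act 6 n20816 = n28533 := (sb E32014 F173601)
theorem E32260 : n29324 = n14639 := (((D14639).symm.trans (sb E32015 F175943))).symm
theorem F205479 : act 3 n20932 = n28898 := (sb E32016 (iv D42095))
theorem F205480 : act 7 n20932 = n28899 := (sb E32016 F175925)
theorem F205481 : act 3 n20935 = n28902 := (sb E32019 F175946)
theorem F205482 : act 7 n20935 = n28904 := (sb E32019 F175947)
theorem E32261 : n30343 = n13788 := ((((iv F60588)).symm.trans (sb E32020 F184570))).symm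
theorem E32262 : n28810 = n28777 := (((iv F122328)).symm.trans (sb E32021 (iv F122187)))
theorem F205483 : act 7 n19810 = n14391 := (sb E32021 F89897)
theorem E32263 : n30344 = n28813 := (((D28813).symm.trans (sb E32021 D30344))).symm
theorem E32264 : n30489 = n29143 := ((((iv F123728)).symm.trans (sb E32023 F185357))).symm
theorem F205484 : act 2 n20038 = n14391 := (sb E32024 (iv D20936))
theorem E32265 : n29153 = n14641 := ((D29153).symm.trans (sb E32024 F90290))
theorem E32266 : n29150 = n28850 := (((iv F123759)).symm.trans (sb E32024 (iv F122497)))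
theorem E32267 : n30490 = n29154 := (((D29154).symm.trans (sb E32024 D30490))).symm
theorem F205485 : act 4 n20937 = n28816 := (sb E32027 F175436)
theorem F205486 : act 6 n20937 = n28902 := (sb E32027 F175437)
theorem F205487 : act 4 n41916 = n30491 := (sb E32028 F185366)
theorem E32268 : n31042 = n29311 := (((D29311).symm.trans (sb E32029 F185621))).symm
theorem E32269 : n31037 = n29319 := ((((iv F124404)).symm.trans (sb E32030 (iv F131443)))).symm
theorem E32270 : n31043 = n29325 := (((D29325).symm.trans (sb E32030 D31043))).symm
theorem F205488 : act 2 n42018 = n29318 := (sb E32033 F175919)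
theorem F205489 : act 4 n42018 = n29030 := (sb E32033 F175920)
theorem F205490 : act 6 n42018 = n28898 := (sb E32033 F175921)
theorem F205491 : act 7 n42018 = n30559 := (sb E32033 F175922)
theorem F205492 : act 8 n42018 = n28897 := (sb E32033 (iv D42094))
theorem F205493 : act 3 n42096 = n30484 := (sb E32034 F185613)
theorem F205494 : act 3 n42021 = n30569 := (sb E32035 F185628)
theorem F205495 : act 6 n42021 = n30491 := (sb E32035 F185629)
theorem E32271 : n28462 = n7923 := (((D7923).symm.trans (sb E32037 (iv D41446)))).symm
theorem E32272 : n28686 = n14219 := ((((iv F62473)).symm.trans (sb E32038 F173260))).symm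
theorem F205496 : act 8 n20749 = n28735 := (sb E32039 (iv D41854))
theorem F205497 : act 7 n20753 = n28743 := (sb E32040 F174997)
theorem F205498 : act 8 n20753 = n28742 := (sb E32040 (iv D41864))
theorem E32273 : n16692 = n13562 := ((D16692).symm.trans (sb E32043 F84482))
theorem E32274 : n28645 = n14220 := (((F202873).symm.trans (sb E32044 (iv F121622)))).symm
theorem F205499 : act 5 n11490 = n13579 := (sb E32044 F85057)
theorem E32275 : n28632 = n16694 := (((D16694).symm.trans (sb E32044 (iv F121558)))).symm
theorem F205500 : act 0 n19724 = n16497 := (sb E32047 (iv F202214))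
theorem E32276 : n30102 = n28679 := ((((iv F121775)).symm.trans (sb E32047 (iv F127765)))).symm
theorem E32277 : n30106 = n28683 := ((((iv F121790)).symm.trans (sb E32047 (iv F127780)))).symm
theorem F205501 : act 7 n19724 = n14269 := (sb E32047 F89244)
theorem E32278 : n30109 = n28661 := ((((iv F121695)).symm.trans (sb E32047 D30109))).symm
theorem F205502 : act 0 n19711 = n16498 := (sb E32048 F102500)
theorem F205503 : act 7 n19711 = n16561 := (sb E32048 F102503)
theorem F205504 : act 6 n20750 = n28735 := (sb E32049 F174615)
theorem F205505 : act 3 n20754 = n28803 := (sb E32050 F174638)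
theorem F205506 : act 6 n20754 = n28742 := (sb E32050 F174640)
theorem F205507 : act 6 n20757 = n28710 := (sb E32051 F174505)
theorem F205508 : act 0 n41850 = n30268 := (sb E32052 F197075)
theorem F205509 : act 6 n41850 = n30208 := (sb E32052 F184008)
theorem F205510 : act 8 n41850 = n30207 := (sb E32052 (iv D44041))
theorem E32279 : n30212 = n16804 := ((((iv D24447)).symm.trans (sb E32158 F184025))).symm
theorem F205511 : act 8 n41862 = n30215 := (sb E32054 (iv D44053))
theorem F205512 : act 6 n41812 = n30219 := (sb E32055 F184057)
theorem F205513 : act 8 n41812 = n30270 := (sb E32055 F184058)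
theorem F205514 : act 8 n20792 = n28710 := (sb E32056 (iv D41816))
theorem F205515 : act 8 n41941 = n30478 := (sb E32057 F184059)
theorem F205516 : act 5 n41814 = n28803 := (sb E32058 F175389)
theorem F205517 : act 7 n41814 = n28802 := (sb E32058 (iv D41953))
theorem F205518 : act 3 n41903 = n30219 := (sb E32060 F184061)
theorem F205519 : act 7 n41942 = n30478 := (sb E32061 F184759)
theorem F205520 : act 3 n20831 = n28804 := (sb E32062 (iv D41956))
theorem F205521 : act 6 n20831 = n28805 := (sb E32062 F175399)
theorem F205522 : act 5 n41905 = n28804 := (sb E32063 F175392)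
theorem F205523 : act 6 n41905 = n30383 := (sb E32063 F175393)
theorem F205524 : act 8 n41905 = n28802 := (sb E32063 (iv D41954))
theorem F205525 : act 3 n41957 = n30335 := (sb E32065 F184761)
theorem F205526 : act 7 n41957 = n30479 := (sb E32065 F184762)
theorem F205527 : act 1 n42450 = n30916 := (sb E32066 (iv D45096))
theorem F205528 : act 7 n42450 = n31098 := (sb E32066 F188130)
theorem F205529 : act 2 n21302 = n28899 := (sb E32067 (iv D42097))
theorem E32280 : n31035 = n29321 := ((D31035).symm.trans (sb E32067 F175932))
theorem E32281 : n31034 = n30562 := (((iv F131432)).symm.trans (sb E32067 F175934))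
theorem E32282 : n30481 = n30276 := ((((iv F128446)).symm.trans (sb E32068 (iv D44446)))).symm
theorem E32283 : n30222 = n28749 := (((iv F128246)).symm.trans (sb E32069 (iv D41872)))
theorem F205530 : act 8 n20931 = n28899 := (sb E32069 F175025)
theorem F205531 : act 2 n42099 = n31036 := (sb E32070 F185602)
theorem F205532 : act 4 n42099 = n30697 := (sb E32070 F185603)
theorem F205533 : act 7 n42099 = n30484 := (sb E32070 F185605)
theorem F205534 : act 8 n42099 = n30561 := (sb E32070 F185606)
theorem F205535 : act 6 n44553 = n30685 := (sb E32071 F186771)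
theorem F205536 : act 8 n44553 = n30684 := (sb E32071 (iv D44752))
theorem F205537 : act 2 n21460 = n30563 := (sb E32072 F186001)
theorem F205538 : act 3 n42175 = n30815 := (sb E32073 F185991)
theorem F205539 : act 4 n42175 = n30560 := (sb E32073 (iv D44566))
theorem F205540 : act 7 n42175 = n30563 := (sb E32073 F185993)
theorem F205541 : act 8 n21074 = n30563 := (sb E32074 F184370)
theorem F205542 : act 2 n44571 = n31274 := (sb E32075 F186817)
theorem F205543 : act 6 n44571 = n30697 := (sb E32075 F186819)
theorem F205544 : act 8 n44571 = n30813 := (sb E32075 F186820)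
theorem E32284 : n31027 = n29326 := (((D29326).symm.trans (sb E32077 (iv F131406)))).symm
theorem F205545 : act 3 n20155 = n14638 := (sb E32077 (iv D21305))
theorem E32285 : n30879 = n13867 := (((F86949).symm.trans (sb E32077 (iv F130859)))).symm
theorem E32286 : n31041 = n29327 := (((D29327).symm.trans (sb E32077 D31041))).symm
theorem E32288 : n30869 = n28905 := (((iv F130818)).symm.trans (sb E32081 F175949))
theorem F205546 : act 4 n19873 = n14570 := (sb E32082 F91324)
theorem E32289 : n30876 = n14428 := (((F85775).symm.trans (sb E32082 (iv F130848)))).symm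
theorem F205547 : act 6 n19873 = n14638 := (sb E32082 F91325)
theorem E32290 : n28814 = n14567 := (((iv F122344)).symm.trans (sb E32082 F91326))
theorem E32291 : n28753 = n14566 := (((iv F122071)).symm.trans (sb E32082 (iv D21196)))
theorem E32292 : n30880 = n28906 := (((D28906).symm.trans (sb E32082 D30880))).symm
theorem F205548 : act 2 n21306 = n28904 := (sb E32084 F175951)
theorem E32293 : n30339 = n14350 := ((((iv F63020)).symm.trans (sb E32085 F184777))).symm
theorem E32294 : n30338 = n14298 := ((((iv F62790)).symm.trans (sb E32085 (iv D44233)))).symm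
theorem F205549 : act 4 n19811 = n14327 := (sb E32086 F89894)
theorem E32295 : n28691 = n14324 := (((iv F121819)).symm.trans (sb E32086 (iv D20837)))
theorem E32296 : n30342 = n28815 := (((D28815).symm.trans (sb E32086 D30342))).symm
theorem E32297 : n30111 = n13608 := ((((iv D19770)).symm.trans (sb E32087 (iv F127798)))).symm
theorem F205550 : act 4 n19770 = n14326 := (sb E32087 F89889)
theorem F205551 : act 6 n19770 = n14389 := (sb E32087 F89890)
theorem E32298 : n28754 = n14348 := ((D28754).symm.trans (sb E32087 F89891))
theorem E32299 : n30395 = n28907 := (((D28907).symm.trans (sb E32088 F184793))).symm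
theorem F205552 : act 3 n19769 = n14389 := (sb E32089 F89568)
theorem E32300 : n28752 = n14296 := ((D28752).symm.trans (sb E32089 F89570))
theorem F205553 : act 8 n20988 = n28904 := (sb E32091 (iv D42104))
theorem E32302 : n30279 = n28715 := (((D28715).symm.trans (sb E32098 F184091))).symm
theorem F205554 : act 2 n21201 = n28570 := (sb E32102 F173846)
theorem F205555 : act 3 n20841 = n28533 := (sb E32104 F173609)
theorem F205556 : act 7 n20841 = n28570 := (sb E32104 F173612)
theorem F205557 : act 8 n20877 = n28570 := (sb E32106 (iv D41606))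
theorem F205558 : act 0 n42091 = n31050 := (sb E32107 F185643)
theorem F205559 : act 4 n42091 = n30859 := (sb E32107 F197097)
theorem F205560 : act 6 n42091 = n31007 := (sb E32107 F197098)
theorem F205561 : act 7 n42091 = n30856 := (sb E32107 F197099)
theorem F205562 : act 8 n42091 = n30492 := (sb E32107 (iv D44462))
theorem F205563 : act 0 n42070 = n30528 := (sb E32108 F185721)
theorem F205564 : act 8 n42070 = n30507 := (sb E32108 F185722)
theorem F205565 : act 0 n20980 = n28875 := (sb E32109 F175737)
theorem E32303 : n30271 = n28858 := (((iv F128427)).symm.trans (sb E32109 (iv D42038)))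
theorem F205566 : act 0 n41958 = n30368 := (sb E32110 F196422)
theorem F205567 : act 1 n41958 = n30856 := (sb E32110 F184698)
theorem F205568 : act 4 n41958 = n30326 := (sb E32110 F184700)
theorem F205569 : act 6 n41958 = n30324 := (sb E32110 F184701)
theorem F205570 : act 8 n41958 = n30323 := (sb E32110 (iv D44213))
theorem F205571 : act 2 n20944 = n28744 := (sb E32111 (iv D41867))
theorem F205572 : act 8 n20944 = n28894 := (sb E32111 F175005)
theorem F205573 : act 0 n42092 = n30529 := (sb E32112 F185723)
theorem F205574 : act 4 n42092 = n33429 := (sb E32112 F185724)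
theorem E32304 : n30331 = n30141 := ((((iv F127916)).symm.trans (sb E32113 (iv D44225)))).symm
theorem E32305 : n30105 = n28684 := (((iv F127776)).symm.trans (sb E32114 (iv D41778)))
theorem F205575 : act 7 n20830 = n28744 := (sb E32114 F174646)
theorem F205576 : act 8 n20830 = n28805 := (sb E32114 F174647)
theorem F205577 : act 4 n41959 = n30337 := (sb E32115 F184756)
theorem F205578 : act 6 n41959 = n30335 := (sb E32115 F184757)
theorem F205579 : act 8 n41959 = n30386 := (sb E32115 F184758)
theorem F205580 : act 0 n19763 = n14285 := (sb E32116 F89598)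
theorem E32306 : n28734 = n14280 := (((iv F122001)).symm.trans (sb E32116 F89599))
theorem E32307 : n28722 = n14291 := (((F85327).symm.trans (sb E32116 (iv F121959)))).symm
theorem E32308 : n28745 = n16597 := ((D28745).symm.trans (sb E32116 F202145))
theorem F205581 : act 0 n20789 = n28732 := (sb E32117 F174874)
theorem E32309 : n30382 = n30272 := (((D30272).symm.trans (sb E32117 F196411))).symm
theorem F205582 : act 9 n20864 = n28744 := (sb E32118 (iv D41868))
theorem F205583 : act 2 n20772 = n28743 := (sb E32119 F174951)
theorem F205584 : act 0 n41863 = n30253 := (sb E32120 F196425)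
theorem F205585 : act 2 n41863 = n30244 := (sb E32120 F196426)
theorem F205586 : act 3 n41863 = n30473 := (sb E32120 F184042)
theorem F205587 : act 7 n41863 = n30215 := (sb E32120 (iv D44052))
theorem F205588 : act 9 n41863 = n30266 := (sb E32120 F184045)
theorem F205589 : act 9 n20787 = n28743 := (sb E32121 (iv D41866))
theorem E32310 : n16716 = n13480 := ((((iv F59203)).symm.trans (sb E32123 (iv F203230)))).symm
theorem F205590 : act 6 n11507 = n13485 := (sb E32129 F84469)
theorem E32314 : n16717 = n13560 := ((D16717).symm.trans (sb E32129 F84471))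
theorem E32315 : n14232 = n13574 := (((D13574).symm.trans (sb E32130 (iv D20699)))).symm
theorem E32317 : n13596 = n6789 := ((D13596).symm.trans (sb E32131 F44100))
theorem E32320 : n28671 = n14235 := (((iv F121742)).symm.trans (sb E32133 F89315))
theorem E32321 : n30131 = n28673 := (((D28673).symm.trans (sb E32133 (iv F127878)))).symm
theorem F205591 : act 6 n19718 = n16497 := (sb E32133 (iv F202216))
theorem E32322 : n30135 = n16731 := ((((iv F203016)).symm.trans (sb E32133 D30135))).symm
theorem F205592 : act 6 n11519 = n16498 := (sb E32134 F102649)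
theorem F205593 : act 2 n9843 = n13597 := (sb E32135 F85279)
theorem E32324 : n16810 = n14294 := (((D14294).symm.trans (sb E32135 F203021))).symm
theorem F205594 : act 8 n19752 = n14285 := (sb E32136 (iv D20779))
theorem F205595 : act 2 n20788 = n28727 := (sb E32139 F174879)
theorem F205596 : act 2 n20792 = n16813 := (sb E32140 F104425)
theorem E32327 : n35208 = n30270 := ((((iv F128424)).symm.trans (sb E32140 (iv F147908)))).symm
theorem E32328 : n35601 = n28710 := (((F205514).symm.trans (sb E32140 (iv F149556)))).symm
theorem F205597 : act 2 n41840 = n30267 := (sb E32142 F184256)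
theorem F205598 : act 8 n41840 = n30253 := (sb E32142 (iv D44110))
theorem F205599 : act 7 n24447 = n28704 := (sb E32144 (iv D41805))
theorem E32329 : n35606 = n28735 := ((D35606).symm.trans (sb E32144 F174762))
theorem E32330 : n28639 = n16718 := (((D16718).symm.trans (sb E32151 (iv F121596)))).symm
theorem F205600 : act 3 n24015 = n28788 := (sb E32155 F174581)
theorem E32334 : n35015 = n34993 := ((((iv F147108)).symm.trans (sb E32157 (iv F147187)))).symm
theorem F205601 : act 0 n42063 = n30535 := (sb E32160 F185743)
theorem F205602 : act 2 n42063 = n30507 := (sb E32160 (iv D44489))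
theorem F205603 : act 0 n42062 = n30554 := (sb E32161 F185813)
theorem F205604 : act 2 n42062 = n30520 := (sb E32161 (iv D44508))
theorem F205605 : act 0 n41939 = n30387 := (sb E32162 F184940)
theorem F205606 : act 2 n41939 = n30363 := (sb E32162 (iv D44273))
theorem F205607 : act 0 n42064 = n30557 := (sb E32164 F185823)
theorem F205608 : act 2 n42064 = n30523 := (sb E32164 F185824)
theorem E32337 : n30248 = n28703 := ((((iv F121876)).symm.trans (sb E32165 D30248))).symm
theorem F205609 : act 0 n41847 = n30269 := (sb E32166 F184214)
theorem F205610 : act 8 n41847 = n30520 := (sb E32166 F184218)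
theorem F205611 : act 8 n24033 = n30363 := (sb E32167 F183499)
theorem E32338 : n41418 = n5640 := (((F33553).symm.trans (sb E32172 (iv F173011)))).symm
theorem E32339 : n19571 = n10667 := ((((iv F47564)).symm.trans (sb E32172 F120706))).symm
theorem E32340 : n19569 = n10616 := ((((iv F47338)).symm.trans (sb E32172 (iv D28450)))).symm
theorem F205612 : act 3 n13478 = n9823 := (sb E32174 F62597)
theorem E32345 : n20660 = n9301 := ((((iv D13478)).symm.trans (sb E32174 (iv F89155)))).symm
theorem F205613 : act 7 n13478 = n9816 := (sb E32174 (iv D14249))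
theorem F205614 : act 4 n13476 = n9857 := (sb E32175 F62454)
theorem E32346 : n11587 = n9300 := ((((iv D13476)).symm.trans (sb E32175 (iv F202006)))).symm
theorem F205615 : act 6 n13476 = n9823 := (sb E32175 F62455)
theorem E32347 : n19562 = n9793 := (((iv F84392)).symm.trans (sb E32175 (iv D14215)))
theorem E32348 : n19574 = n9800 := ((D19574).symm.trans (sb E32175 F62456))
theorem E32353 : n20625 = n9308 := ((((iv F41715)).symm.trans (sb E32179 F195520))).symm
theorem E32354 : n10695 = n9315 := (((D9315).symm.trans (sb E32179 (iv D15545)))).symm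
theorem F205616 : act 1 n13488 = n11334 := (sb E32180 (iv F201751))
theorem F205617 : act 4 n13488 = n9856 := (sb E32180 F62449)
theorem F205618 : act 6 n13488 = n9792 := (sb E32180 (iv D14214))
theorem E32355 : n19592 = n9799 := ((D19592).symm.trans (sb E32180 F62450))
theorem F205619 : act 1 n13500 = n10696 := (sb E32181 (iv F195707))
theorem E32356 : n20685 = n9387 := (((F59302).symm.trans (sb E32181 (iv F89264)))).symm
theorem F205620 : act 4 n13500 = n9868 := (sb E32181 F62501)
theorem F205621 : act 6 n13500 = n9834 := (sb E32181 F62502)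
theorem E32357 : n19610 = n9811 := ((D19610).symm.trans (sb E32181 F62503))
theorem F205622 : act 3 n13610 = n9834 := (sb E32182 F62703)
theorem F205623 : act 7 n13610 = n9831 := (sb E32182 (iv D14274))
theorem E32358 : n19773 = n9848 := ((D19773).symm.trans (sb E32182 F62705))
theorem F205624 : act 2 n7376 = n9312 := (sb E32187 (iv D13494))
theorem E32364 : n19586 = n10630 := ((((iv F47400)).symm.trans (sb E32187 (iv F84520)))).symm
theorem F205625 : act 0 n13486 = n10633 := (sb E32190 F67507)
theorem F205626 : act 5 n13486 = n11334 := (sb E32190 F202225)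
theorem E32369 : n19578 = n11491 := (((iv F84475)).symm.trans (sb E32190 (iv F202654)))
theorem E32370 : n19588 = n10628 := ((D19588).symm.trans (sb E32190 (iv D15443)))
theorem E32371 : n9835 = n9383 := (((iv F44081)).symm.trans (sb E32191 F59284))
theorem F205627 : act 8 n7374 = n9312 := (sb E32191 (iv D13496))
theorem E32373 : n20679 = n19725 := (((iv F89240)).symm.trans (sb E32192 F120843))
theorem F205628 : act 0 n13604 = n9839 := (sb E32193 F62718)
theorem E32375 : n19759 = n9836 := (((iv F85313)).symm.trans (sb E32193 F62719))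
theorem F205629 : act 3 n13604 = n10696 := (sb E32193 F62720)
theorem E32376 : n19766 = n11419 := ((D19766).symm.trans (sb E32193 F202009))
theorem F205630 : act 2 n14281 = n19765 := (sb E32195 F122009)
theorem F205631 : act 8 n14281 = n19758 := (sb E32195 (iv D28736))
theorem E32379 : n41817 = n20791 := (((D20791).symm.trans (sb E32196 (iv F174812)))).symm
theorem F205632 : act 9 n14292 = n19765 := (sb E32196 (iv D28747))
theorem E32387 : n41441 = n10585 := (((F202335).symm.trans (sb E32200 D41441))).symm
theorem E32388 : n19719 = n9803 := ((((iv F43940)).symm.trans (sb E32201 F120818))).symm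
theorem E32391 : n9837 = n9381 := ((((iv F42078)).symm.trans (sb E32202 F59776))).symm
theorem F205633 : act 8 n6787 = n9379 := (sb E32202 (iv D13598))
theorem E32392 : n19755 = n9826 := ((((iv F44048)).symm.trans (sb E32202 D19755))).symm
theorem F205634 : act 8 n14231 = n19718 := (sb E32204 (iv D28675))
theorem E32398 : n24448 = n20750 := (((D20750).symm.trans (sb E32206 (iv F204036)))).symm
theorem E32410 : n20686 = n9368 := ((((iv F42017)).symm.trans (sb E32213 F127713))).symm
theorem E32413 : n20800 = n19747 := (((D19747).symm.trans (sb E32215 F128275))).symm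
theorem F205635 : act 0 n13481 = n11507 := (sb E32218 F72549)
theorem F205636 : act 5 n13481 = n11489 := (sb E32218 (iv D16691))
theorem E32422 : n20693 = n19721 := ((((iv F85155)).symm.trans (sb E32222 (iv F195966)))).symm
theorem E32424 : n43891 = n19709 := ((((iv F85101)).symm.trans (sb E32222 D43891))).symm
theorem F205637 : act 0 n13600 = n9843 := (sb E32224 F62731)
theorem E32425 : n20776 = n19737 := ((((iv F85222)).symm.trans (sb E32224 D20776))).symm
theorem E32427 : n24146 = n19741 := (((D19741).symm.trans (sb E32226 F202888))).symm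
theorem F205638 : act 0 n28733 = n20788 := (sb E32227 F128336)
theorem E32428 : n44097 = n41849 := (((D41849).symm.trans (sb E32227 (iv F184209)))).symm
theorem F205639 : act 8 n28733 = n20772 := (sb E32227 (iv D30246))
theorem E32429 : n44100 = n41803 := ((((iv F174753)).symm.trans (sb E32227 D44100))).symm
theorem F205640 : act 0 n28704 = n20792 := (sb E32228 F128352)
theorem E32430 : n41806 = n24143 := ((D41806).symm.trans (sb E32228 (iv F202674)))
theorem E32431 : n44132 = n41813 := ((((iv F174794)).symm.trans (sb E32229 (iv F184333)))).symm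
theorem F205641 : act 7 n28711 = n20792 := (sb E32229 F128434)
theorem E32434 : n41397 = n4683 := ((((iv D6772)).symm.trans (sb E32231 (iv F172910)))).symm
theorem E32435 : n19564 = n9788 := ((((iv F43869)).symm.trans (sb E32231 (iv D28442)))).symm
theorem E32436 : n41386 = n4682 := ((((iv D6771)).symm.trans (sb E32232 (iv F172849)))).symm
theorem E32437 : n19558 = n9787 := ((((iv F43862)).symm.trans (sb E32232 (iv D28431)))).symm
theorem F205642 : act 7 n13472 = n9815 := (sb E32233 F62414)
theorem F205643 : act 2 n13484 = n9791 := (sb E32234 F62407)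
theorem F205644 : act 7 n13484 = n9814 := (sb E32234 F62409)
theorem F205645 : act 2 n13566 = n9821 := (sb E32235 F62585)
theorem F205646 : act 8 n13566 = n9814 := (sb E32235 (iv D14247))
theorem E32440 : n20722 = n19694 := ((((iv F85031)).symm.trans (sb E32235 D20722))).symm
theorem E32446 : n19580 = n9772 := ((((iv F43782)).symm.trans (sb E32239 (iv D28466)))).symm
theorem E32448 : n19731 = n9797 := ((((iv F43914)).symm.trans (sb E32240 F120870))).symm
theorem E32453 : n41871 = n20758 := (((D20758).symm.trans (sb E32242 (iv F175020)))).symm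
theorem F205647 : act 7 n14272 = n19769 := (sb E32242 F122060)
theorem F205648 : act 8 n14272 = n19768 := (sb E32242 (iv D28750))
theorem F205649 : act 1 n13483 = n11489 := (sb E32244 (iv F202877))
theorem F205650 : act 6 n13483 = n9791 := (sb E32244 F62293)
theorem E32456 : n20624 = n9358 := (((F59222).symm.trans (sb E32244 D20624))).symm
theorem F205651 : act 1 n13565 = n11490 := (sb E32245 (iv F202872))
theorem E32457 : n19702 = n9798 := (((iv F85065)).symm.trans (sb E32245 F62444))
theorem F205652 : act 7 n13565 = n9821 := (sb E32245 F62446)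
theorem F205653 : act 8 n13565 = n9791 := (sb E32245 (iv D14213))
theorem E32458 : n20670 = n19693 := ((((iv F85023)).symm.trans (sb E32245 D20670))).symm
theorem F205654 : act 5 n14259 = n19716 := (sb E32247 F121585)
theorem E32461 : n20684 = n19728 := ((((iv F85181)).symm.trans (sb E32248 (iv F89260)))).symm
theorem F205655 : act 7 n13581 = n9832 := (sb E32248 F62494)
theorem E32462 : n20687 = n19713 := ((((iv F85120)).symm.trans (sb E32248 D20687))).symm
theorem F205656 : act 3 n14273 = n19809 := (sb E32250 F121809)
theorem F205657 : act 6 n14273 = n19768 := (sb E32250 F121811)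
theorem E32464 : n41748 = n20762 := (((D20762).symm.trans (sb E32250 (iv F174525)))).symm
theorem F205658 : act 3 n14276 = n19716 := (sb E32251 F121723)
theorem F205659 : act 6 n14276 = n19746 := (sb E32251 F121724)
theorem E32466 : n41870 = n41819 := ((D41870).symm.trans (sb E32252 (iv F174823)))
theorem E32467 : n44063 = n41818 := ((((iv F174818)).symm.trans (sb E32252 D44063))).symm
theorem E32468 : n41820 = n20797 := ((D41820).symm.trans (sb E32253 F128265))
theorem F205660 : act 8 n14301 = n19746 := (sb E32254 (iv D28718))
theorem E32470 : n41750 = n19808 := (((D19808).symm.trans (sb E32255 (iv F174532)))).symm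
theorem E32473 : n41823 = n20036 := ((((iv F86489)).symm.trans (sb E32256 (iv F174840)))).symm
theorem F205661 : act 5 n28716 = n19809 := (sb E32257 F122324)
theorem E32475 : n41961 = n41821 := ((((iv F174830)).symm.trans (sb E32257 D41961))).symm
theorem E32476 : n41909 = n41824 := (((D41824).symm.trans (sb E32257 (iv F175197)))).symm
theorem E32477 : n44070 = n41911 := (((D41911).symm.trans (sb E32258 D44070))).symm
theorem E32478 : n41967 = n10026 := (((F62916).symm.trans (sb E32259 D41967))).symm
theorem F205662 : act 3 n14325 = n19810 := (sb E32259 (iv D28812))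
theorem E32479 : n41963 = n19786 := ((((iv F85428)).symm.trans (sb E32259 (iv F175424)))).symm
theorem F205663 : act 6 n14325 = n19811 := (sb E32259 F122336)
theorem E32481 : n41968 = n20839 := (((D20839).symm.trans (sb E32259 D41968))).symm
theorem E32482 : n42732 = n21296 := ((((iv F91700)).symm.trans (sb E32260 D42732))).symm
theorem F205664 : act 2 n14639 = n20153 := (sb E32260 (iv D29324))
theorem E32483 : n42724 = n21303 := ((((iv F91727)).symm.trans (sb E32260 (iv F178490)))).symm
theorem F205665 : act 7 n14639 = n20155 := (sb E32260 F124426)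
theorem E32485 : n42733 = n21308 := (((D21308).symm.trans (sb E32260 D42733))).symm
theorem E32486 : n44240 = n20031 := ((((iv F86465)).symm.trans (sb E32261 D44240))).symm
theorem E32487 : n21199 = n20039 := (((D20039).symm.trans (sb E32261 F128747))).symm
theorem E32488 : n41914 = n20037 := ((((iv F86492)).symm.trans (sb E32261 (iv F175219)))).symm
theorem F205666 : act 5 n28777 = n19810 := (sb E32262 F122328)
theorem E32490 : n41912 = n20871 := (((iv F175210)).symm.trans (sb E32262 F122329))
theorem E32491 : n41964 = n41915 := (((D41915).symm.trans (sb E32262 D41964))).symm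
theorem F205667 : act 7 n28813 = n20937 := (sb E32263 F128751)
theorem E32492 : n44242 = n41913 := ((((iv F175215)).symm.trans (sb E32263 D44242))).symm
theorem E32493 : n44457 = n42429 := ((((iv F177368)).symm.trans (sb E32264 D44457))).symm
theorem E32494 : n44443 = n42442 := ((((iv F177423)).symm.trans (sb E32264 (iv F185590)))).symm
theorem E32495 : n42462 = n21309 := ((D42462).symm.trans (sb E32264 F129317))
theorem E32496 : n42459 = n42024 := (((iv F177486)).symm.trans (sb E32264 (iv F175680)))
theorem E32497 : n44458 = n42463 := (((D42463).symm.trans (sb E32264 D44458))).symm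
theorem F205668 : act 3 n14641 = n20038 := (sb E32265 (iv D29153))
theorem F205669 : act 6 n14641 = n20153 := (sb E32265 F123771)
theorem E32499 : n42476 = n21310 := (((D21310).symm.trans (sb E32265 D42476))).symm
theorem F205670 : act 5 n28850 = n20038 := (sb E32266 F123759)
theorem E32500 : n42469 = n42022 := ((((iv F175673)).symm.trans (sb E32266 (iv F177529)))).symm
theorem E32501 : n42471 = n42025 := (((D42025).symm.trans (sb E32266 D42471))).symm
theorem F205671 : act 2 n29154 = n20937 := (sb E32267 F129319)
theorem E32502 : n44459 = n42396 := ((((iv F177228)).symm.trans (sb E32267 D44459))).symm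
theorem E32503 : n45284 = n42665 := ((((iv F178296)).symm.trans (sb E32268 D45284))).symm
theorem E32504 : n45265 = n42714 := (((D42714).symm.trans (sb E32268 (iv F188700)))).symm
theorem E32506 : n45285 = n42715 := (((D42715).symm.trans (sb E32268 D45285))).symm
theorem E32507 : n45277 = n42725 := (((D42725).symm.trans (sb E32269 D45277))).symm
theorem E32508 : n42722 = n42608 := (((iv F178482)).symm.trans (sb E32269 (iv F178087)))
theorem E32509 : n45278 = n42726 := (((D42726).symm.trans (sb E32269 D45278))).symm
theorem E32510 : n45286 = n42734 := (((D42734).symm.trans (sb E32270 D45286))).symm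
theorem E32513 : n41447 = n9775 := (((F202400).symm.trans (sb E32271 D41447))).symm
theorem E32514 : n41770 = n20676 := ((((iv F89228)).symm.trans (sb E32272 (iv F174617)))).symm
theorem E32515 : n41777 = n20678 := (((D20678).symm.trans (sb E32272 (iv F174642)))).symm
theorem F205672 : act 8 n14219 = n19724 := (sb E32272 (iv D28686))
theorem F205673 : act 0 n13562 = n11508 := (sb E32273 F72554)
theorem E32518 : n20631 = n19698 := ((((iv F85048)).symm.trans (sb E32273 F203298))).symm
theorem F205674 : act 6 n13562 = n11490 := (sb E32273 F72557)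
theorem F205675 : act 8 n13562 = n11489 := (sb E32273 (iv D16692))
theorem E32519 : n24286 = n19690 := ((((iv F85006)).symm.trans (sb E32273 D24286))).symm
theorem E32520 : n41713 = n20677 := ((((iv F89233)).symm.trans (sb E32274 (iv F174365)))).symm
theorem F205676 : act 5 n14220 = n19724 := (sb E32274 F121623)
theorem E32522 : n41695 = n20681 := (((D20681).symm.trans (sb E32274 (iv F174276)))).symm
theorem F205677 : act 5 n16694 = n19711 := (sb E32275 F121556)
theorem F205678 : act 0 n28679 = n20704 := (sb E32276 F196149)
theorem E32523 : n43878 = n41767 := ((((iv F174606)).symm.trans (sb E32276 (iv F183345)))).symm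
theorem F205679 : act 7 n28679 = n20750 := (sb E32276 F127767)
theorem E32524 : n43882 = n41738 := ((((iv F174481)).symm.trans (sb E32276 D43882))).symm
theorem F205680 : act 0 n28683 = n24015 := (sb E32277 (iv F202525))
theorem E32525 : n41775 = n41743 := ((D41775).symm.trans (sb E32277 (iv F174501)))
theorem F205681 : act 7 n28683 = n20754 := (sb E32277 F127781)
theorem E32526 : n43889 = n41742 := ((((iv F174498)).symm.trans (sb E32277 D43889))).symm
theorem F205682 : act 0 n28661 = n24016 := (sb E32278 (iv F202638))
theorem F205683 : act 7 n28661 = n20757 := (sb E32278 F127790)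
theorem E32527 : n41745 = n20705 := ((D41745).symm.trans (sb E32278 F127791))
theorem E32528 : n24444 = n20757 := (((iv F104387)).symm.trans (sb E32279 F128212))
theorem E32531 : n41738 = n24329 := ((((iv F103901)).symm.trans (sb E32279 (tr (iv F183362) E32524)))).symm
theorem E32532 : n45258 = n42727 := (((D42727).symm.trans (sb E32280 (iv F188675)))).symm
theorem F205684 : act 3 n29321 = n21302 := (sb E32280 (iv D31035))
theorem E32533 : n45274 = n42728 := (((D42728).symm.trans (sb E32280 D45274))).symm
theorem E32535 : n45275 = n42729 := (((D42729).symm.trans (sb E32280 D45275))).symm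
theorem E32536 : n45257 = n44568 := (((D44568).symm.trans (sb E32281 (iv F188672)))).symm
theorem F205685 : act 4 n30562 = n21460 := (sb E32281 F131431)
theorem E32537 : n45032 = n20989 := (((F129565).symm.trans (sb E32281 (iv F187867)))).symm
theorem F205686 : act 6 n30562 = n21302 := (sb E32281 F131432)
theorem E32538 : n44565 = n42605 := (((iv F185989)).symm.trans (sb E32281 (iv F178075)))
theorem E32539 : n44141 = n21301 := (((iv F184366)).symm.trans (sb E32281 (iv D31034)))
theorem E32540 : n45272 = n44570 := (((D44570).symm.trans (sb E32281 D45272))).symm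
theorem E32541 : n44435 = n44129 := ((((iv F184322)).symm.trans (sb E32282 (iv F185567)))).symm
theorem E32542 : n44060 = n20794 := ((((iv D30276)).symm.trans (sb E32282 (iv F184068)))).symm
theorem F205687 : act 4 n30276 = n21074 := (sb E32282 F129290)
theorem E32543 : n44232 = n20796 := (((F128445).symm.trans (sb E32282 (iv F184771)))).symm
theorem F205688 : act 6 n30276 = n20931 := (sb E32282 (iv D30481))
theorem E32544 : n44139 = n42016 := (((iv F184356)).symm.trans (sb E32282 (iv F175646)))
theorem E32545 : n44143 = n20983 := ((D44143).symm.trans (sb E32282 F129291))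
theorem F205689 : act 3 n28749 = n20931 := (sb E32283 F128246)
theorem E32546 : n41873 = n20793 := ((D41873).symm.trans (sb E32283 F128249))
theorem E32547 : n45214 = n42735 := (((D42735).symm.trans (sb E32284 (iv F188547)))).symm
theorem E32548 : n45263 = n42716 := ((((iv F178458)).symm.trans (sb E32284 D45263))).symm
theorem F205690 : act 3 n29326 = n21295 := (sb E32284 (iv D31027))
theorem E32549 : n45025 = n20157 := (((F124433).symm.trans (sb E32284 (iv F187838)))).symm
theorem E32550 : n45264 = n42736 := (((D42736).symm.trans (sb E32284 D45264))).symm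
theorem E32551 : n45033 = n10113 := (((F60895).symm.trans (sb E32285 (iv F187870)))).symm
theorem E32552 : n21197 = n20041 := ((((iv F86508)).symm.trans (sb E32285 F130860))).symm
theorem F205691 : act 3 n29327 = n21306 := (sb E32286 F131457)
theorem E32554 : n45283 = n42737 := (((D42737).symm.trans (sb E32286 D45283))).symm
theorem E32558 : n44992 = n42105 := (((D42105).symm.trans (sb E32288 (iv F187710)))).symm
theorem F205692 : act 4 n28905 = n21192 := (sb E32288 F130817)
theorem E32559 : n45022 = n20991 := (((F122689).symm.trans (sb E32288 (iv F187827)))).symm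
theorem F205693 : act 6 n28905 = n21295 := (sb E32288 F130818)
theorem E32560 : n41969 = n21189 := (((iv F175447)).symm.trans (sb E32288 F130819))
theorem E32561 : n41878 = n21188 := (((iv F175047)).symm.trans (sb E32288 (iv D30869)))
theorem E32562 : n45026 = n42106 := (((D42106).symm.trans (sb E32288 D45026))).symm
theorem E32563 : n21195 = n20875 := ((((iv F90049)).symm.trans (sb E32289 F130849))).symm
theorem E32564 : n21194 = n20798 := ((((iv F89712)).symm.trans (sb E32289 (iv D30876)))).symm
theorem E32565 : n45034 = n20992 := (((D20992).symm.trans (sb E32289 D45034))).symm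
theorem F205694 : act 2 n14567 = n19811 := (sb E32290 (iv D28814))
theorem F205695 : act 7 n14567 = n19873 := (sb E32290 F122344)
theorem E32567 : n41970 = n21198 := (((D21198).symm.trans (sb E32290 D41970))).symm
theorem F205696 : act 2 n14566 = n19770 := (sb E32291 (iv D28753))
theorem F205697 : act 8 n14566 = n19873 := (sb E32291 F122071)
theorem F205698 : act 4 n28906 = n21201 := (sb E32292 F130863)
theorem F205699 : act 6 n28906 = n21306 := (sb E32292 F130864)
theorem E32569 : n42107 = n21251 := ((D42107).symm.trans (sb E32292 F130866))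
theorem E32570 : n41910 = n20873 := ((((iv F90041)).symm.trans (sb E32293 (iv F175202)))).symm
theorem E32571 : n20835 = n20709 := ((((iv F89356)).symm.trans (sb E32293 (iv D30339)))).symm
theorem E32572 : n44235 = n20876 := (((D20876).symm.trans (sb E32293 D44235))).symm
theorem E32574 : n20870 = n20799 := (((D20799).symm.trans (sb E32294 F128729))).symm
theorem E32575 : n20683 = n19729 := (((iv F89255)).symm.trans (sb E32295 (iv D28691)))
theorem F205700 : act 7 n14324 = n19770 := (sb E32295 F121818)
theorem F205701 : act 8 n14324 = n19811 := (sb E32295 F121819)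
theorem F205702 : act 4 n28815 = n20841 := (sb E32296 F128743)
theorem E32577 : n41971 = n20874 := ((D41971).symm.trans (sb E32296 F128745))
theorem E32578 : n20707 = n19771 := (((D19771).symm.trans (sb E32297 F127801))).symm
theorem E32579 : n41880 = n20872 := (((D20872).symm.trans (sb E32298 D41880))).symm
theorem F205703 : act 9 n14348 = n19770 := (sb E32298 (iv D28754))
theorem E32580 : n44304 = n42093 := ((((iv F175916)).symm.trans (sb E32299 (iv F185060)))).symm
theorem E32581 : n44317 = n42026 := ((((iv F175687)).symm.trans (sb E32299 (iv F185107)))).symm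
theorem F205704 : act 4 n28907 = n20877 := (sb E32299 F128958)
theorem F205705 : act 6 n28907 = n20988 := (sb E32299 F128959)
theorem E32583 : n41822 = n20795 := (((D20795).symm.trans (sb E32300 (iv F174836)))).symm
theorem F205706 : act 9 n14296 = n19769 := (sb E32300 (iv D28752))
theorem E32586 : n44145 = n41821 := (((D41821).symm.trans (sb E32302 (iv F184380)))).symm
theorem E32587 : n44140 = n41819 := ((((iv F174822)).symm.trans (sb E32302 (iv F184361)))).symm
theorem E32589 : n44135 = n42027 := ((((iv F175691)).symm.trans (sb E32303 D44135))).symm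
theorem F205707 : act 2 n28858 = n20789 := (sb E32303 (iv D30271))
theorem E32590 : n44133 = n42037 := (((D42037).symm.trans (sb E32303 (iv F184336)))).symm
theorem E32591 : n43941 = n41922 := ((((iv F175262)).symm.trans (sb E32303 (iv F183586)))).symm
theorem F205708 : act 8 n28858 = n20980 := (sb E32303 F128427)
theorem E32592 : n44136 = n23572 := (((F202099).symm.trans (sb E32303 D44136))).symm
theorem F205709 : act 0 n30141 = n24033 := (sb E32304 (iv F201778))
theorem E32593 : n41756 = n20702 := ((((iv D30141)).symm.trans (sb E32304 (iv F195983)))).symm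
theorem F205710 : act 5 n30141 = n20830 := (sb E32304 (iv D30331))
theorem E32594 : n43939 = n41902 := (((iv F183580)).symm.trans (sb E32304 (iv F175165)))
theorem E32595 : n43942 = n20863 := ((D43942).symm.trans (sb E32304 F128703))
theorem F205711 : act 0 n28684 = n20696 := (sb E32305 (iv F195951))
theorem E32596 : n41768 = n20691 := (((iv F174608)).symm.trans (sb E32305 (iv F195981)))
theorem F205712 : act 3 n28684 = n20830 := (sb E32305 F127776)
theorem E32597 : n41779 = n20701 := ((D41779).symm.trans (sb E32305 F127778))
theorem F205713 : act 2 n14280 = n19763 := (sb E32306 F122001)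
theorem F205714 : act 8 n14280 = n19757 := (sb E32306 (iv D28734))
theorem F205715 : act 0 n14291 = n19757 := (sb E32307 F121957)
theorem F205716 : act 2 n14291 = n19752 := (sb E32307 F121958)
theorem E32599 : n24162 = n20790 := (((D20790).symm.trans (sb E32307 F202540))).symm
theorem F205717 : act 9 n16597 = n19763 := (sb E32308 (iv D28745))
theorem F205718 : act 0 n30272 = n41802 := (sb E32309 (iv F197052))
theorem F205719 : act 5 n30272 = n20864 := (sb E32309 F128912)
theorem E32601 : n44299 = n44134 := ((((iv F184341)).symm.trans (sb E32309 D44299))).symm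
theorem E32602 : n44300 = n44137 := (((D44137).symm.trans (sb E32309 D44300))).symm
theorem F205720 : act 4 n13480 = n11507 := (sb E32310 (iv D16716))
theorem E32609 : n20643 = n19695 := (((D19695).symm.trans (sb E32314 F203227))).symm
theorem F205721 : act 5 n13560 = n11508 := (sb E32314 F72674)
theorem F205722 : act 8 n13560 = n11507 := (sb E32314 (iv D16717))
theorem E32610 : n24322 = n11517 := ((((iv F202982)).symm.trans (sb E32314 D24322))).symm
theorem E32611 : n19717 = n9805 := ((D19717).symm.trans (sb E32315 F62525))
theorem F205723 : act 2 n6789 = n9379 := (sb E32317 (iv D13596))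
theorem E32615 : n11571 = n9844 := (((D9844).symm.trans (sb E32317 F202885))).symm
theorem F205724 : act 2 n14235 = n19718 := (sb E32320 F121742)
theorem E32618 : n24344 = n20705 := (((D20705).symm.trans (sb E32320 F203019))).symm
theorem F205725 : act 6 n28673 = n24015 := (sb E32321 (iv F202527))
theorem F205726 : act 8 n28673 = n20696 := (sb E32321 (iv D30131))
theorem F205727 : act 6 n16731 = n24016 := (sb E32322 (iv F202640))
theorem E32620 : n43882 = n24329 := (E32524).trans E32531
theorem F205728 : act 2 n14294 = n11573 := (sb E32324 F73065)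
theorem F205729 : act 2 n30270 = n24165 := (sb E32327 F147907)
theorem F205730 : act 2 n28710 = n24447 := (sb E32328 F149554)
theorem F205731 : act 9 n28735 = n24447 := (sb E32329 (iv D35606))
theorem E32622 : n41694 = n20646 := (((F203119).symm.trans (sb E32330 (iv F195714)))).symm
theorem E32623 : n41692 = n24324 := (((D24324).symm.trans (sb E32330 (iv F195958)))).symm
theorem F205732 : act 3 n34993 = n24036 := (sb E32334 F147186)
theorem F205733 : act 6 n34993 = n24028 := (sb E32334 (iv D35015))
theorem E32627 : n41804 = n24148 := ((D41804).symm.trans (sb E32337 (iv F203311)))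
theorem E32628 : n28446 = n8156 := ((((iv F36945)).symm.trans (sb E32338 F173013))).symm
theorem F205734 : act 1 n10667 = n13478 := (sb E32339 F84434)
theorem E32630 : n15413 = n13475 := (((iv F67386)).symm.trans (sb E32339 (iv D19571)))
theorem F205735 : act 1 n10616 = n13476 := (sb E32340 F84427)
theorem E32631 : n13474 = n7993 := ((((iv F201579)).symm.trans (sb E32340 (iv D19569)))).symm
theorem E32634 : n16828 = n6428 := ((((iv D9301)).symm.trans (sb E32345 (iv F202405)))).symm
theorem E32635 : n14208 = n13471 := ((((iv F59153)).symm.trans (sb E32345 (iv D20660)))).symm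
theorem E32636 : n14185 = n13470 := ((((iv F59148)).symm.trans (sb E32346 F202007))).symm
theorem E32637 : n13477 = n7992 := ((D13477).symm.trans (sb E32346 (iv D11587)))
theorem F205736 : act 2 n9793 = n13488 := (sb E32347 F84390)
theorem F205737 : act 7 n9793 = n13476 := (sb E32347 F84392)
theorem F205738 : act 2 n9800 = n13500 := (sb E32348 F84451)
theorem F205739 : act 8 n9800 = n13476 := (sb E32348 (iv D19574))
theorem E32640 : n14184 = n13482 := ((((iv F59215)).symm.trans (sb E32353 (iv D20625)))).symm
theorem E32641 : n14191 = n13489 := (((D13489).symm.trans (sb E32353 F88988))).symm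
theorem F205740 : act 1 n9315 = n7374 := (sb E32354 (iv D10695))
theorem E32642 : n14277 = n6485 := (((F41747).symm.trans (sb E32354 (iv F62716)))).symm
theorem E32643 : n13501 = n7988 := ((D13501).symm.trans (sb E32354 F201759))
theorem E32644 : n14223 = n13582 := (((iv F62489)).symm.trans (sb E32355 F84544))
theorem F205741 : act 7 n9799 = n13500 := (sb E32355 F84546)
theorem F205742 : act 8 n9799 = n13488 := (sb E32355 (iv D19592))
theorem E32646 : n14240 = n13611 := (((D13611).symm.trans (sb E32356 F89266))).symm
theorem F205743 : act 9 n9811 = n13500 := (sb E32357 (iv D19610))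
theorem E32647 : n28719 = n14300 := (((D14300).symm.trans (sb E32358 (iv F121947)))).symm
theorem F205744 : act 9 n9848 = n13610 := (sb E32358 (iv D19773))
theorem F205745 : act 2 n10630 = n13486 := (sb E32364 (iv D19586))
theorem F205746 : act 3 n11491 = n13481 := (sb E32369 (iv D19578))
theorem F205747 : act 6 n11491 = n13486 := (sb E32369 F84475)
theorem E32656 : n28463 = n14188 := (((F202655).symm.trans (sb E32369 D28463))).symm
theorem E32657 : n14227 = n13578 := (((iv F62505)).symm.trans (sb E32370 F84527))
theorem F205748 : act 8 n10628 = n13486 := (sb E32370 (iv D19588))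
theorem F205749 : act 0 n9383 = n6787 := (sb E32371 F44080)
theorem F205750 : act 2 n9383 = n6785 := (sb E32371 (iv D9835))
theorem F205751 : act 3 n9383 = n7374 := (sb E32371 F44081)
theorem E32659 : n13605 = n7979 := ((D13605).symm.trans (sb E32371 F202408))
theorem F205752 : act 0 n19725 = n14231 := (sb E32373 (iv F195802))
theorem E32660 : n28680 = n14228 := (((iv F121778)).symm.trans (sb E32373 (iv F195819)))
theorem F205753 : act 3 n19725 = n14221 := (sb E32373 F89240)
theorem F205754 : act 6 n19725 = n14219 := (sb E32373 (iv D20679))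
theorem E32661 : n28687 = n14234 := ((D28687).symm.trans (sb E32373 F89241))
theorem F205755 : act 2 n9836 = n13604 := (sb E32375 F85313)
theorem F205756 : act 8 n9836 = n13600 := (sb E32375 (iv D19759))
theorem E32663 : n28712 = n16588 := ((((iv F72151)).symm.trans (sb E32376 (iv F121912)))).symm
theorem F205757 : act 9 n11419 = n13604 := (sb E32376 (iv D19766))
theorem F205758 : act 9 n20791 = n28711 := (sb E32379 (iv D41817))
theorem E32665 : n28640 = n14195 := ((((iv F62355)).symm.trans (sb E32387 F173121))).symm
theorem E32667 : n14229 = n13576 := ((((iv F59681)).symm.trans (sb E32388 F85148))).symm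
theorem F205759 : act 8 n9803 = n13574 := (sb E32388 (iv D19719))
theorem E32668 : n28676 = n14218 := ((((iv F62471)).symm.trans (sb E32388 D28676))).symm
theorem F205760 : act 0 n9381 = n6789 := (sb E32391 F44086)
theorem F205761 : act 8 n9381 = n6785 := (sb E32391 (iv D9837))
theorem E32671 : n14283 = n13587 := ((((iv F59727)).symm.trans (sb E32391 D14283))).symm
theorem E32672 : n16805 = n14266 := (((D14266).symm.trans (sb E32392 (iv F203768)))).symm
theorem E32674 : n35186 = n30208 := ((((iv F128198)).symm.trans (sb E32398 (iv F147834)))).symm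
theorem E32675 : n35440 = n28679 := ((((iv F205679)).symm.trans (sb E32398 (iv F148875)))).symm
theorem F205762 : act 9 n20750 = n16804 := (sb E32398 (iv D24448))
theorem E32683 : n30116 = n13570 := ((((iv F59652)).symm.trans (sb E32410 D30116))).symm
theorem F205763 : act 7 n19747 = n14301 := (sb E32413 F89720)
theorem F205764 : act 0 n19721 = n14235 := (sb E32422 F89293)
theorem E32690 : n30128 = n28658 := ((((iv F121683)).symm.trans (sb E32422 D30128))).symm
theorem E32691 : n30144 = n28662 := (((D28662).symm.trans (sb E32424 F183393))).symm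
theorem F205765 : act 0 n19737 = n14294 := (sb E32425 F89630)
theorem E32692 : n28705 = n16590 := ((D28705).symm.trans (sb E32425 (iv F202896)))
theorem E32693 : n35183 = n28709 := ((((iv F121899)).symm.trans (sb E32427 (iv F147826)))).symm
theorem F205766 : act 0 n41849 = n30267 := (sb E32428 F184206)
theorem F205767 : act 8 n41849 = n30244 := (sb E32428 (iv D44097))
theorem F205768 : act 0 n41803 = n30270 := (sb E32429 F184219)
theorem F205769 : act 2 n24143 = n28711 := (sb E32430 F174764)
theorem F205770 : act 8 n24143 = n28704 := (sb E32430 (iv D41806))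
theorem F205771 : act 7 n41813 = n30270 := (sb E32431 F184334)
theorem F205772 : act 9 n41813 = n30268 := (sb E32431 (iv D44132))
theorem E32695 : n28430 = n6754 := ((((iv F30929)).symm.trans (sb E32434 (iv D41397)))).symm
theorem F205773 : act 2 n9788 = n13472 := (sb E32435 F84400)
theorem E32696 : n28424 = n6753 := ((((iv F30923)).symm.trans (sb E32436 (iv D41386)))).symm
theorem F205774 : act 3 n9787 = n13484 := (sb E32437 F84369)
theorem F205775 : act 5 n9787 = n13472 := (sb E32437 F84370)
theorem E32697 : n14179 = n13467 := (((iv F62267)).symm.trans (sb E32437 (iv D19558)))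
theorem F205776 : act 2 n19694 = n14259 := (sb E32440 F89414)
theorem F205777 : act 3 n9772 = n13483 := (sb E32446 F84485)
theorem E32702 : n28467 = n6746 := (((F43784).symm.trans (sb E32446 D28467))).symm
theorem E32704 : n28690 = n14222 := (((D14222).symm.trans (sb E32448 (iv F121814)))).symm
theorem F205778 : act 8 n9797 = n13581 := (sb E32448 (iv D19731))
theorem F205779 : act 7 n20758 = n28749 := (sb E32453 F175021)
theorem F205780 : act 8 n20758 = n28748 := (sb E32453 (iv D41871))
theorem E32706 : n14190 = n13563 := ((((iv F59615)).symm.trans (sb E32456 F88980))).symm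
theorem F205781 : act 3 n9798 = n13565 := (sb E32457 F85065)
theorem F205782 : act 5 n9798 = n13581 := (sb E32457 F85066)
theorem E32709 : n28634 = n14225 := (((D14225).symm.trans (sb E32457 (iv F121569)))).symm
theorem F205783 : act 1 n19693 = n16694 := (sb E32458 (iv F203299))
theorem F205784 : act 7 n19693 = n14259 := (sb E32458 F89202)
theorem E32710 : n28688 = n28666 := ((D28688).symm.trans (sb E32461 (iv F121719)))
theorem F205785 : act 7 n19728 = n14273 := (sb E32461 F89261)
theorem E32711 : n30114 = n28665 := ((((iv F121715)).symm.trans (sb E32461 D30114))).symm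
theorem F205786 : act 7 n19713 = n14276 := (sb E32462 F89273)
theorem E32712 : n28668 = n14242 := ((D28668).symm.trans (sb E32462 F89274))
theorem F205787 : act 3 n20762 = n28775 := (sb E32464 F174522)
theorem F205788 : act 6 n20762 = n28714 := (sb E32464 F174524)
theorem F205789 : act 3 n41819 = n28897 := (sb E32466 F175014)
theorem F205790 : act 6 n41819 = n28748 := (sb E32466 (iv D41870))
theorem F205791 : act 7 n41819 = n30274 := (sb E32466 F175016)
theorem F205792 : act 8 n41818 = n30277 := (sb E32467 F184083)
theorem F205793 : act 7 n20797 = n28715 := (sb E32468 F174827)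
theorem F205794 : act 8 n20797 = n28714 := (sb E32468 (iv D41820))
theorem F205795 : act 7 n19808 = n28716 := (sb E32470 F174533)
theorem F205796 : act 8 n19808 = n28777 := (sb E32470 F174534)
theorem F205797 : act 2 n20036 = n28716 := (sb E32473 (iv D41823))
theorem F205798 : act 8 n20036 = n28850 := (sb E32473 F174841)
theorem F205799 : act 2 n41821 = n29149 := (sb E32475 F175414)
theorem F205800 : act 5 n41821 = n28897 := (sb E32475 F175416)
theorem F205801 : act 7 n41821 = n30390 := (sb E32475 F175417)
theorem F205802 : act 2 n41824 = n29097 := (sb E32476 F175194)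
theorem F205803 : act 5 n41824 = n28775 := (sb E32476 F175196)
theorem F205804 : act 7 n41824 = n28774 := (sb E32476 (iv D41909))
theorem F205805 : act 3 n41911 = n30284 := (sb E32477 F184105)
theorem F205806 : act 9 n41911 = n30491 := (sb E32477 F184106)
theorem E32713 : n29155 = n14568 := (((D14568).symm.trans (sb E32478 F175440))).symm
theorem E32714 : n30392 = n28776 := ((((iv F122184)).symm.trans (sb E32479 F175425))).symm
theorem F205807 : act 3 n20839 = n28813 := (sb E32481 F175443)
theorem F205808 : act 6 n20839 = n28815 := (sb E32481 F175444)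
theorem F205809 : act 7 n21296 = n29326 := (sb E32482 F178524)
theorem F205810 : act 2 n21303 = n29319 := (sb E32483 (iv D42724))
theorem F205811 : act 7 n21303 = n29321 := (sb E32483 F178491)
theorem F205812 : act 2 n21308 = n29325 := (sb E32485 F178527)
theorem F205813 : act 7 n21308 = n29327 := (sb E32485 F178529)
theorem E32715 : n30883 = n29144 := (((D29144).symm.trans (sb E32486 F184800))).symm
theorem E32716 : n29151 = n29102 := (((iv F123762)).symm.trans (sb E32487 (iv F123555)))
theorem F205814 : act 7 n20039 = n14641 := (sb E32487 F91337)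
theorem E32717 : n30884 = n29156 := (((D29156).symm.trans (sb E32487 D30884))).symm
theorem F205815 : act 2 n20037 = n28777 := (sb E32488 (iv D41914))
theorem F205816 : act 7 n20037 = n28850 := (sb E32488 F175220)
theorem F205817 : act 6 n20871 = n28777 := (sb E32490 F175210)
theorem F205818 : act 2 n41915 = n29152 := (sb E32491 F175427)
theorem F205819 : act 5 n41915 = n28813 := (sb E32491 F175429)
theorem F205820 : act 6 n41915 = n30393 := (sb E32491 F175430)
theorem F205822 : act 7 n41913 = n30491 := (sb E32492 F184808)
theorem F205823 : act 3 n42429 = n31045 := (sb E32493 F185631)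
theorem F205824 : act 1 n42442 = n30478 := (sb E32494 (iv D44443))
theorem F205825 : act 3 n21309 = n29143 := (sb E32495 (iv D42462))
theorem F205826 : act 6 n21309 = n29311 := (sb E32495 F177498)
theorem F205827 : act 5 n42024 = n29143 := (sb E32496 F177486)
theorem F205828 : act 7 n42024 = n29142 := (sb E32496 F177487)
theorem F205829 : act 8 n42024 = n29141 := (sb E32496 (iv D42459))
theorem F205830 : act 3 n42463 = n31046 := (sb E32497 F185633)
theorem F205831 : act 3 n21310 = n29154 := (sb E32499 F177558)
theorem F205832 : act 6 n21310 = n29325 := (sb E32499 F177560)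
theorem F205833 : act 5 n42022 = n29318 := (sb E32500 F177528)
theorem F205834 : act 7 n42022 = n30953 := (sb E32500 F177530)
theorem F205835 : act 8 n42022 = n29149 := (sb E32500 (iv D42469))
theorem F205836 : act 5 n42025 = n29154 := (sb E32501 F177537)
theorem F205837 : act 7 n42025 = n29152 := (sb E32501 F177538)
theorem F205838 : act 2 n42396 = n30491 := (sb E32502 F185635)
theorem F205839 : act 6 n42665 = n31045 := (sb E32503 F188772)
theorem F205840 : act 1 n42714 = n31029 := (sb E32504 (iv D45265))
theorem F205841 : act 6 n42714 = n31031 := (sb E32504 F188702)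
theorem F205842 : act 6 n42715 = n31046 := (sb E32506 F188776)
theorem F205843 : act 2 n42725 = n31038 := (sb E32507 F188744)
theorem F205844 : act 3 n42608 = n29318 := (sb E32508 (iv D42722))
theorem F205845 : act 6 n42608 = n29319 := (sb E32508 F178482)
theorem F205846 : act 7 n42608 = n31151 := (sb E32508 F178483)
theorem F205847 : act 2 n42726 = n31039 := (sb E32509 F188748)
theorem F205848 : act 2 n42734 = n31044 := (sb E32510 F188778)
theorem F205849 : act 6 n42734 = n31047 := (sb E32510 F188780)
theorem E32718 : n28646 = n14187 := (((D14187).symm.trans (sb E32513 F173150))).symm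
theorem F205850 : act 8 n20676 = n28679 := (sb E32514 (iv D41770))
theorem F205851 : act 6 n20678 = n28684 := (sb E32515 F174643)
theorem F205852 : act 8 n20678 = n28683 := (sb E32515 (iv D41777))
theorem F205853 : act 0 n19698 = n16718 := (sb E32518 (iv F203118))
theorem E32719 : n30029 = n28642 := ((((iv F121609)).symm.trans (sb E32518 (iv F127436)))).symm
theorem E32720 : n28644 = n28631 := ((D28644).symm.trans (sb E32518 (iv F121550)))
theorem F205854 : act 6 n19698 = n14220 := (sb E32518 F89018)
theorem E32721 : n30033 = n28630 := ((((iv F121547)).symm.trans (sb E32518 D30033))).symm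
theorem F205855 : act 0 n19690 = n16719 := (sb E32519 F103708)
theorem F205856 : act 6 n19690 = n16694 := (sb E32519 F103711)
theorem F205857 : act 5 n20677 = n28679 := (sb E32520 F174367)
theorem F205858 : act 5 n20681 = n28661 := (sb E32522 F174275)
theorem F205859 : act 0 n41767 = n30140 := (sb E32523 F196389)
theorem F205860 : act 7 n41767 = n30208 := (sb E32523 F183346)
theorem F205861 : act 8 n41767 = n30100 := (sb E32523 (iv D43878))
theorem E32722 : n30104 = n16721 := ((((iv D24329)).symm.trans (sb E32620 F183361))).symm
theorem F205862 : act 3 n41743 = n28802 := (sb E32525 F174635)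
theorem F205863 : act 5 n41743 = n28683 := (sb E32525 (iv D41775))
theorem F205864 : act 6 n41743 = n30138 := (sb E32525 F174636)
theorem F205865 : act 7 n41742 = n30219 := (sb E32526 F183386)
theorem F205866 : act 8 n41742 = n30142 := (sb E32526 F183387)
theorem F205867 : act 8 n20705 = n28661 := (sb E32527 (iv D41745))
theorem F205868 : act 2 n20757 = n16804 := (sb E32528 F104387)
theorem E32725 : n35182 = n30219 := ((((iv F128235)).symm.trans (sb E32528 (iv F147823)))).symm
theorem E32726 : n16802 = n14270 := (((F89559).symm.trans (sb E32528 (iv D24444)))).symm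
theorem E32727 : n35436 = n28661 := ((((iv F205683)).symm.trans (sb E32528 (iv F148861)))).symm
theorem F205869 : act 6 n24329 = n28658 := (sb E32531 (iv D41738))
theorem F205870 : act 3 n42727 = n31024 := (sb E32532 (iv D45258))
theorem F205871 : act 7 n42727 = n31025 := (sb E32532 F188677)
theorem F205872 : act 3 n42728 = n31276 := (sb E32533 F188733)
theorem F205873 : act 7 n42728 = n31038 := (sb E32533 F188735)
theorem F205874 : act 3 n42729 = n31036 := (sb E32535 F188738)
theorem F205875 : act 7 n42729 = n31039 := (sb E32535 F188740)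
theorem F205876 : act 4 n44568 = n31259 := (sb E32536 F188673)
theorem F205877 : act 6 n44568 = n31024 := (sb E32536 F188674)
theorem F205878 : act 8 n44568 = n31023 := (sb E32536 (iv D45257))
theorem E32729 : n30875 = n30280 := ((((iv F128463)).symm.trans (sb E32537 (iv D45032)))).symm
theorem F205879 : act 2 n42605 = n30560 := (sb E32538 (iv D44565))
theorem F205880 : act 3 n42605 = n31153 := (sb E32538 F185987)
theorem F205881 : act 5 n42605 = n30565 := (sb E32538 F185988)
theorem F205882 : act 7 n42605 = n30562 := (sb E32538 F185989)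
theorem F205883 : act 2 n21301 = n30276 := (sb E32539 (iv D44141))
theorem F205884 : act 8 n21301 = n30562 := (sb E32539 F184366)
theorem F205885 : act 4 n44570 = n31274 := (sb E32540 F188725)
theorem F205886 : act 6 n44570 = n31036 := (sb E32540 F188726)
theorem F205887 : act 8 n44570 = n31152 := (sb E32540 F188727)
theorem F205888 : act 4 n44129 = n30684 := (sb E32541 F185568)
theorem F205889 : act 6 n44129 = n30473 := (sb E32541 (iv D44435))
theorem F205890 : act 9 n44129 = n30548 := (sb E32541 F185569)
theorem E32730 : n30277 = n30274 := ((D30277).symm.trans (sb E32542 F184070))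
theorem E32731 : n30390 = n30281 := (((D30281).symm.trans (sb E32543 F184772))).symm
theorem F205891 : act 3 n42016 = n30275 := (sb E32544 (iv D44139))
theorem F205892 : act 5 n42016 = n30278 := (sb E32544 F184355)
theorem F205893 : act 7 n42016 = n30276 := (sb E32544 F184356)
theorem F205894 : act 8 n42016 = n30560 := (sb E32544 F184357)
theorem F205895 : act 9 n20983 = n30276 := (sb E32545 (iv D44143))
theorem F205896 : act 9 n20793 = n28749 := (sb E32546 (iv D41873))
theorem F205897 : act 3 n42735 = n30994 := (sb E32547 (iv D45214))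
theorem F205898 : act 7 n42735 = n30995 := (sb E32547 F188550)
theorem F205899 : act 7 n42716 = n31029 := (sb E32548 F188694)
theorem E32732 : n30870 = n29157 := ((((iv F123788)).symm.trans (sb E32549 F187839))).symm
theorem F205900 : act 3 n42736 = n31028 := (sb E32550 F188697)
theorem F205901 : act 7 n42736 = n31030 := (sb E32550 F188699)
theorem E32733 : n30877 = n14605 := ((((iv F64040)).symm.trans (sb E32551 F187871))).symm
theorem F205902 : act 3 n20041 = n14567 := (sb E32552 (iv D21197))
theorem E32734 : n30882 = n29158 := (((D29158).symm.trans (sb E32552 D30882))).symm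
theorem F205903 : act 3 n42737 = n31163 := (sb E32554 F188766)
theorem F205904 : act 7 n42737 = n31044 := (sb E32554 F188768)
theorem F205905 : act 2 n42105 = n31050 := (sb E32558 F197120)
theorem F205906 : act 4 n42105 = n30850 := (sb E32558 F187712)
theorem F205907 : act 6 n42105 = n30994 := (sb E32558 F187713)
theorem F205908 : act 7 n42105 = n30847 := (sb E32558 F187714)
theorem F205909 : act 8 n42105 = n30846 := (sb E32558 (iv D44992))
theorem E32735 : n30868 = n30398 := ((((iv F128971)).symm.trans (sb E32559 F187828))).symm
theorem E32736 : n30867 = n30282 := ((((iv F128470)).symm.trans (sb E32559 (iv D45022)))).symm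
theorem F205910 : act 7 n21189 = n28905 := (sb E32560 F175447)
theorem F205911 : act 8 n21188 = n28905 := (sb E32561 F175047)
theorem F205912 : act 4 n42106 = n30874 := (sb E32562 F187842)
theorem F205913 : act 6 n42106 = n31028 := (sb E32562 F187843)
theorem F205914 : act 7 n42106 = n30871 := (sb E32562 F187844)
theorem F205915 : act 8 n42106 = n30947 := (sb E32562 F187845)
theorem F205916 : act 5 n20875 = n14567 := (sb E32563 F91322)
theorem E32737 : n30396 = n29098 := (((iv F128964)).symm.trans (sb E32563 (iv F123542)))
theorem E32738 : n30150 = n14565 := (((iv F127951)).symm.trans (sb E32563 (iv D21195)))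
theorem E32739 : n30878 = n30399 := (((D30399).symm.trans (sb E32563 D30878))).symm
theorem F205917 : act 5 n20798 = n14566 := (sb E32564 F91318)
theorem E32740 : n30283 = n14600 := ((D30283).symm.trans (sb E32564 F91319))
theorem E32741 : n30955 = n30572 := (((D30572).symm.trans (sb E32565 F187877))).symm
theorem F205918 : act 2 n21198 = n28815 := (sb E32567 F175449)
theorem F205919 : act 7 n21198 = n28906 := (sb E32567 F175452)
theorem F205920 : act 2 n21251 = n28907 := (sb E32569 F175963)
theorem F205921 : act 8 n21251 = n28906 := (sb E32569 (iv D42107))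
theorem E32742 : n30148 = n28774 := (((iv F127942)).symm.trans (sb E32570 (iv D41910)))
theorem F205922 : act 5 n20709 = n14324 := (sb E32571 (iv D20835))
theorem E32744 : n30151 = n14347 := ((D30151).symm.trans (sb E32571 F89886))
theorem E32745 : n30400 = n30393 := ((D30400).symm.trans (sb E32572 F184784))
theorem F205923 : act 5 n20799 = n14348 := (sb E32574 F90029)
theorem E32747 : n30391 = n30284 := (((D30284).symm.trans (sb E32574 D30391))).symm
theorem F205924 : act 3 n19729 = n14324 := (sb E32575 F89255)
theorem E32748 : n28692 = n14238 := ((D28692).symm.trans (sb E32575 F89257))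
theorem F205925 : act 7 n20874 = n28907 := (sb E32577 F175455)
theorem F205926 : act 8 n20874 = n28815 := (sb E32577 (iv D41971))
theorem F205927 : act 1 n19771 = n16597 := (sb E32578 (iv F202138))
theorem F205928 : act 3 n19771 = n14348 := (sb E32578 F89346)
theorem F205929 : act 6 n19771 = n14296 := (sb E32578 F89348)
theorem E32749 : n30147 = n28717 := ((((iv F121936)).symm.trans (sb E32578 D30147))).symm
theorem F205930 : act 9 n20872 = n28907 := (sb E32579 F175054)
theorem F205931 : act 4 n42093 = n30389 := (sb E32580 F185061)
theorem F205932 : act 6 n42093 = n30553 := (sb E32580 F185062)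
theorem F205933 : act 7 n42093 = n30386 := (sb E32580 F185063)
theorem F205934 : act 9 n42093 = n30384 := (sb E32580 (iv D44304))
theorem F205935 : act 6 n42026 = n30566 := (sb E32581 F185109)
theorem F205936 : act 7 n42026 = n30397 := (sb E32581 F185110)
theorem F205937 : act 9 n42026 = n30394 := (sb E32581 (iv D44317))
theorem F205938 : act 9 n20795 = n28715 := (sb E32583 (iv D41822))
theorem F205939 : act 9 n41821 = n30278 := (sb E32586 (iv D44145))
theorem F205940 : act 9 n41819 = n30275 := (sb E32587 (iv D44140))
theorem F205941 : act 8 n42027 = n30556 := (sb E32589 F184344)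
theorem F205942 : act 2 n42037 = n30269 := (sb E32590 (iv D44133))
theorem F205943 : act 8 n42037 = n30554 := (sb E32590 F184337)
theorem F205944 : act 2 n41922 = n30141 := (sb E32591 (iv D43941))
theorem F205945 : act 8 n41922 = n30387 := (sb E32591 F183587)
theorem F205946 : act 2 n23572 = n30272 := (sb E32592 F184345)
theorem F205947 : act 0 n20702 = n28678 := (sb E32593 F174561)
theorem F205948 : act 2 n20702 = n28673 := (sb E32593 F174562)
theorem E32751 : n30142 = n30138 := ((D30142).symm.trans (sb E32593 F195985))
theorem F205949 : act 3 n41902 = n30140 := (sb E32594 (iv D43939))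
theorem F205950 : act 6 n41902 = n30141 := (sb E32594 F183580)
theorem F205951 : act 8 n41902 = n30385 := (sb E32594 F183581)
theorem F205952 : act 7 n20863 = n30272 := (sb E32595 F183591)
theorem F205953 : act 9 n20863 = n30141 := (sb E32595 (iv D43942))
theorem F205954 : act 2 n20691 = n28684 := (sb E32596 F174608)
theorem F205955 : act 8 n20691 = n28678 := (sb E32596 (iv D41768))
theorem F205956 : act 9 n20701 = n28684 := (sb E32597 (iv D41779))
theorem F205957 : act 0 n20790 = n28703 := (sb E32599 F202530)
theorem F205958 : act 2 n20790 = n16599 := (sb E32599 F103209)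
theorem F205959 : act 5 n20790 = n16597 := (sb E32599 (iv D24162))
theorem F205960 : act 5 n44134 = n30548 := (sb E32601 F185046)
theorem F205961 : act 5 n44137 = n30384 := (sb E32602 F185049)
theorem F205962 : act 7 n44137 = n30383 := (sb E32602 F185050)
theorem E32756 : n28638 = n14197 := ((D28638).symm.trans (sb E32609 F89074))
theorem F205963 : act 5 n19695 = n16718 := (sb E32609 (iv F203120))
theorem E32758 : n30052 = n16726 := ((((iv F203116)).symm.trans (sb E32609 D30052))).symm
theorem F205964 : act 5 n11517 = n16719 := (sb E32610 F103873)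
theorem F205965 : act 2 n9805 = n13574 := (sb E32611 (iv D19717))
theorem E32760 : n16729 = n14236 := (((D14236).symm.trans (sb E32611 F202644))).symm
theorem F205966 : act 2 n9844 = n7980 := (sb E32615 F51295)
theorem F205967 : act 2 n20705 = n16731 := (sb E32618 F103956)
theorem E32764 : n28633 = n14201 := (((F89083).symm.trans (sb E32622 F174268))).symm
theorem E32765 : n30054 = n28630 := (((iv F127546)).symm.trans (sb E32622 (iv D41694)))
theorem E32767 : n35429 = n28629 := ((D35429).symm.trans (sb E32623 (iv D41692)))
theorem F205968 : act 8 n24148 = n28703 := (sb E32627 (iv D41804))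
theorem E32770 : n19567 = n11720 := ((((iv F51993)).symm.trans (sb E32628 (iv D28446)))).symm
theorem F205969 : act 3 n13475 = n10616 := (sb E32630 F67384)
theorem E32774 : n11588 = n9299 := ((((iv D13475)).symm.trans (sb E32630 (iv F202020)))).symm
theorem F205970 : act 6 n13475 = n10667 := (sb E32630 F67386)
theorem E32775 : n19561 = n10609 := (((iv F84386)).symm.trans (sb E32630 (iv D15413)))
theorem F205971 : act 1 n7993 = n9300 := (sb E32631 F59168)
theorem E32776 : n19560 = n10575 := (((F201580).symm.trans (sb E32631 (iv F84381)))).symm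
theorem E32780 : n24477 = n4455 := ((((iv D6428)).symm.trans (sb E32634 D24477))).symm
theorem E32781 : n20619 = n9296 := ((((iv F41643)).symm.trans (sb E32634 F202406))).symm
theorem F205972 : act 3 n13471 = n9793 := (sb E32635 F62419)
theorem F205973 : act 6 n13471 = n9788 := (sb E32635 (iv D14208))
theorem F205974 : act 5 n13470 = n9793 := (sb E32636 F62305)
theorem E32782 : n19556 = n9773 := (((iv F84359)).symm.trans (sb E32636 (iv D14185)))
theorem E32783 : n19563 = n9778 := ((D19563).symm.trans (sb E32636 F62306))
theorem F205975 : act 2 n7992 = n9315 := (sb E32637 F59182)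
theorem F205976 : act 8 n7992 = n9300 := (sb E32637 (iv D13477))
theorem F205977 : act 1 n13482 = n11491 := (sb E32640 (iv F202653))
theorem F205978 : act 5 n13482 = n9772 := (sb E32640 (iv D14184))
theorem E32786 : n19581 = n9777 := ((D19581).symm.trans (sb E32640 F62300))
theorem F205979 : act 1 n13489 = n10628 := (sb E32641 (iv F195563))
theorem E32787 : n20634 = n9369 := (((F59251).symm.trans (sb E32641 (iv F89032)))).symm
theorem F205980 : act 5 n13489 = n9799 := (sb E32641 F62335)
theorem E32788 : n19593 = n9784 := ((D19593).symm.trans (sb E32641 F62336))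
theorem E32789 : n11570 = n9388 := (((D9388).symm.trans (sb E32642 F202232))).symm
theorem F205981 : act 9 n7988 = n9315 := (sb E32643 (iv D13501))
theorem F205982 : act 3 n13582 = n9799 := (sb E32644 F62489)
theorem F205983 : act 6 n13582 = n9797 := (sb E32644 (iv D14223))
theorem E32790 : n19732 = n9808 := ((D19732).symm.trans (sb E32644 F62490))
theorem F205984 : act 1 n13611 = n11419 := (sb E32646 (iv F201746))
theorem F205985 : act 3 n13611 = n9811 := (sb E32646 F62554)
theorem F205986 : act 6 n13611 = n9848 := (sb E32646 F62555)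
theorem E32791 : n20711 = n19748 := ((((iv F85272)).symm.trans (sb E32646 D20711))).symm
theorem F205987 : act 9 n14300 = n19747 := (sb E32647 (iv D28719))
theorem E32805 : n20630 = n19699 := (((iv F89014)).symm.trans (sb E32656 F120770))
theorem F205988 : act 0 n13578 = n9803 := (sb E32657 F62504)
theorem F205989 : act 2 n13578 = n9801 := (sb E32657 (iv D14227))
theorem F205990 : act 3 n13578 = n10628 := (sb E32657 F62505)
theorem E32807 : n19726 = n11514 := ((D19726).symm.trans (sb E32657 F202221))
theorem F205991 : act 4 n7979 = n9844 := (sb E32659 F59799)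
theorem E32808 : n19742 = n11567 := ((((iv F51284)).symm.trans (sb E32659 (iv F85242)))).symm
theorem F205992 : act 9 n7979 = n9383 := (sb E32659 (iv D13605))
theorem F205993 : act 2 n14228 = n19725 := (sb E32660 F121778)
theorem F205994 : act 8 n14228 = n19721 := (sb E32660 (iv D28680))
theorem E32810 : n41746 = n20704 := (((D20704).symm.trans (sb E32661 (iv F174514)))).symm
theorem F205995 : act 9 n14234 = n19725 := (sb E32661 (iv D28687))
theorem F205996 : act 9 n16588 = n19741 := (sb E32663 (iv D28712))
theorem E32816 : n20640 = n19697 := ((((iv F85044)).symm.trans (sb E32665 F121600))).symm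
theorem F205997 : act 8 n14195 = n19695 := (sb E32665 (iv D28640))
theorem F205998 : act 0 n13576 = n9805 := (sb E32667 F62511)
theorem F205999 : act 8 n13576 = n9801 := (sb E32667 (iv D14229))
theorem E32820 : n20694 = n19708 := ((((iv F85097)).symm.trans (sb E32667 D20694))).symm
theorem E32821 : n24330 = n20677 := (((D20677).symm.trans (sb E32668 (iv F203525)))).symm
theorem F206000 : act 0 n13587 = n9844 := (sb E32671 F62735)
theorem E32824 : n19738 = n11569 := ((D19738).symm.trans (sb E32671 (iv F203315)))
theorem F206001 : act 9 n14266 = n11568 := (sb E32672 (iv D16805))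
theorem F206002 : act 5 n30208 = n24148 := (sb E32674 F147835)
theorem F206003 : act 9 n30208 = n24147 := (sb E32674 (iv D35186))
theorem F206004 : act 9 n28679 = n24329 := (sb E32675 (iv D35440))
theorem E32834 : n20712 = n19714 := (((D19714).symm.trans (sb E32683 F127821))).symm
theorem F206005 : act 0 n28658 = n20705 := (sb E32690 F127864)
theorem E32837 : n41739 = n24016 := ((D41739).symm.trans (sb E32690 (iv F202641)))
theorem E32838 : n43940 = n41743 := ((((iv F174500)).symm.trans (sb E32691 (iv F183583)))).symm
theorem F206006 : act 6 n28662 = n20705 := (sb E32691 F127926)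
theorem F206007 : act 2 n16590 = n19741 := (sb E32692 F121883)
theorem F206008 : act 8 n16590 = n19737 := (sb E32692 (iv D28705))
theorem F206009 : act 2 n28709 = n24148 := (sb E32693 F147825)
theorem F206010 : act 9 n28709 = n24145 := (sb E32693 (iv D35183))
theorem E32842 : n41385 = n4671 := ((((iv D6754)).symm.trans (sb E32695 (iv F172842)))).symm
theorem E32843 : n19557 = n9770 := ((((iv F43769)).symm.trans (sb E32695 (iv D28430)))).symm
theorem E32844 : n19553 = n9769 := ((((iv F43762)).symm.trans (sb E32696 (iv D28424)))).symm
theorem F206011 : act 6 n13467 = n9787 := (sb E32697 F62267)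
theorem E32850 : n19703 = n9776 := (((D9776).symm.trans (sb E32702 F120790))).symm
theorem E32854 : n41783 = n19712 := ((((iv F85114)).symm.trans (sb E32704 (iv F174663)))).symm
theorem F206012 : act 6 n14222 = n19729 := (sb E32704 F121815)
theorem F206013 : act 8 n14222 = n19728 := (sb E32704 (iv D28690))
theorem E32857 : n19701 = n19692 := ((D19701).symm.trans (sb E32706 (iv F85015)))
theorem F206014 : act 6 n13563 = n9798 := (sb E32706 F62330)
theorem E32858 : n20636 = n19691 := ((((iv F85011)).symm.trans (sb E32706 D20636))).symm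
theorem F206015 : act 3 n14225 = n19693 := (sb E32709 F121567)
theorem F206016 : act 5 n14225 = n19713 := (sb E32709 F121568)
theorem F206017 : act 3 n28666 = n19808 := (sb E32710 F121805)
theorem F206018 : act 5 n28666 = n19728 := (sb E32710 (iv D28688))
theorem E32862 : n41749 = n20706 := (((iv F174529)).symm.trans (sb E32710 F121806))
theorem E32863 : n41751 = n41747 := ((D41751).symm.trans (sb E32710 (iv F174519)))
theorem F206019 : act 7 n28665 = n20762 := (sb E32711 F127812)
theorem E32864 : n20710 = n20706 := (((E32862).symm.trans ((D41749).symm.trans (sb E32711 F127813)))).symm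
theorem F206020 : act 8 n14242 = n19713 := (sb E32712 (iv D28668))
theorem E32865 : n42477 = n21190 := ((((iv F91297)).symm.trans (sb E32713 D42477))).symm
theorem F206021 : act 2 n14568 = n20039 := (sb E32713 (iv D29155))
theorem E32866 : n42472 = n20004 := ((((iv F86353)).symm.trans (sb E32713 (iv F177540)))).symm
theorem F206022 : act 6 n14568 = n20041 := (sb E32713 F123780)
theorem E32867 : n42478 = n21200 := (((D21200).symm.trans (sb E32713 D42478))).symm
theorem E32868 : n44301 = n41904 := ((((iv F175171)).symm.trans (sb E32714 (iv F185051)))).symm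
theorem F206023 : act 3 n28776 = n20871 := (sb E32714 (iv D30392))
theorem F206024 : act 5 n28776 = n20873 := (sb E32714 F128947)
theorem E32871 : n44311 = n41911 := ((((iv F175207)).symm.trans (sb E32714 (iv F185086)))).symm
theorem E32873 : n44315 = n41913 := (((D41913).symm.trans (sb E32714 D44315))).symm
theorem E32874 : n45043 = n42430 := ((((iv F177373)).symm.trans (sb E32715 D45043))).symm
theorem E32875 : n45029 = n42464 := (((D42464).symm.trans (sb E32715 (iv F187853)))).symm
theorem E32876 : n42460 = n42399 := (((iv F177489)).symm.trans (sb E32715 (iv F177235)))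
theorem F206025 : act 7 n29144 = n21309 := (sb E32715 F130876)
theorem E32877 : n45044 = n42465 := (((D42465).symm.trans (sb E32715 D45044))).symm
theorem F206026 : act 3 n29102 = n20037 := (sb E32716 (iv D29151))
theorem E32878 : n42473 = n42344 := ((((iv F176996)).symm.trans (sb E32716 D42473))).symm
theorem F206027 : act 5 n29102 = n20039 := (sb E32716 F123762)
theorem E32879 : n42397 = n21248 := (((iv F177230)).symm.trans (sb E32716 F123763))
theorem E32880 : n42474 = n42400 := (((D42400).symm.trans (sb E32716 D42474))).symm
theorem F206028 : act 7 n29156 = n21310 := (sb E32717 F130881)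
theorem E32881 : n45045 = n42479 := (((D42479).symm.trans (sb E32717 D45045))).symm
theorem E32882 : n41714 = n20629 := (((D20629).symm.trans (sb E32718 (iv F174369)))).symm
theorem F206029 : act 8 n14187 = n19698 := (sb E32718 (iv D28646))
theorem F206030 : act 0 n28642 = n20646 := (sb E32719 F195808)
theorem F206031 : act 4 n28642 = n41693 := (sb E32719 (iv F174265))
theorem F206032 : act 6 n28642 = n20677 := (sb E32719 F127437)
theorem F206033 : act 9 n28642 = n43774 := (sb E32719 D43774)
theorem F206034 : act 4 n28631 = n19698 := (sb E32720 (iv D28644))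
theorem E32885 : n41696 = n20644 := (((iv F174279)).symm.trans (sb E32720 F121619))
theorem F206035 : act 0 n28630 = n24325 := (sb E32721 (iv F203526))
theorem F206036 : act 2 n28630 = n43774 := (sb E32721 (iv F182885))
theorem F206037 : act 4 n28630 = n41697 := (sb E32721 (iv F174283))
theorem F206038 : act 6 n28630 = n20681 := (sb E32721 F127451)
theorem E32886 : n20647 = n20644 := (((E32885).symm.trans ((D41696).symm.trans (sb E32721 F127453)))).symm
theorem E32887 : n24327 = n20681 := (((iv F103893)).symm.trans (sb E32722 F127772))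
theorem E32889 : n43774 = n24324 := ((((iv F103882)).symm.trans (sb E32722 (iv F182886)))).symm
theorem F206039 : act 2 n30219 = n24147 := (sb E32725 F147822)
theorem F206040 : act 5 n30219 = n24145 := (sb E32725 (iv D35182))
theorem F206041 : act 2 n14270 = n11568 := (sb E32726 F73037)
theorem F206042 : act 2 n28661 = n24329 := (sb E32727 F148860)
theorem E32893 : n45021 = n44146 := (((D44146).symm.trans (sb E32729 (iv F187820)))).symm
theorem F206043 : act 5 n30280 = n21301 := (sb E32729 F130844)
theorem E32894 : n44144 = n42391 := (((iv F184377)).symm.trans (sb E32729 (iv F177205)))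
theorem E32895 : n44147 = n21246 := ((D44147).symm.trans (sb E32729 F130845))
theorem E32896 : n44130 = n44127 := ((((iv F184315)).symm.trans (sb E32730 (iv F184325)))).symm
theorem E32897 : n43944 = n20797 := (((iv F183599)).symm.trans (sb E32730 F128450))
theorem E32898 : n44138 = n41818 := ((D44138).symm.trans (sb E32730 (iv F205792)))
theorem F206044 : act 9 n30274 = n20794 := (sb E32730 (iv D30277))
theorem F206045 : act 5 n30281 = n20983 := (sb E32731 F128940)
theorem F206046 : act 7 n30281 = n41821 := (sb E32731 (iv F205801))
theorem E32899 : n44310 = n44148 := (((D44148).symm.trans (sb E32731 D44310))).symm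
theorem E32900 : n44993 = n42480 := (((D42480).symm.trans (sb E32732 (iv F187715)))).symm
theorem E32901 : n45027 = n42466 := ((((iv F177512)).symm.trans (sb E32732 D45027))).symm
theorem F206047 : act 3 n29157 = n21189 := (sb E32732 (iv D30870))
theorem E32903 : n45028 = n42481 := (((D42481).symm.trans (sb E32732 D45028))).symm
theorem E32905 : n42393 = n21252 := ((((iv F91542)).symm.trans (sb E32733 (iv F177213)))).symm
theorem F206048 : act 3 n29158 = n21198 := (sb E32734 F130872)
theorem E32907 : n45042 = n42482 := (((D42482).symm.trans (sb E32734 D45042))).symm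
theorem E32908 : n44991 = n44321 := (((D44321).symm.trans (sb E32735 (iv F187706)))).symm
theorem E32909 : n45004 = n44307 := ((((iv F185070)).symm.trans (sb E32735 (iv F187762)))).symm
theorem F206049 : act 5 n30398 = n21189 := (sb E32735 F130815)
theorem E32910 : n44318 = n42384 := (((iv F185113)).symm.trans (sb E32735 (iv F177177)))
theorem E32911 : n43952 = n21187 := (((iv F183632)).symm.trans (sb E32735 (iv D30868)))
theorem E32912 : n45024 = n44322 := (((D44322).symm.trans (sb E32735 D45024))).symm
theorem E32913 : n44149 = n42619 := ((D44149).symm.trans (sb E32736 (iv F197116)))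
theorem F206050 : act 2 n30282 = n42027 := (sb E32736 (iv F197093))
theorem F206051 : act 5 n30282 = n21188 := (sb E32736 F130811)
theorem E32914 : n44150 = n21238 := ((D44150).symm.trans (sb E32736 F130812))
theorem F206052 : act 2 n29098 = n20873 := (sb E32737 (iv D30396))
theorem F206053 : act 6 n29098 = n20875 := (sb E32737 F128964)
theorem E32915 : n44316 = n42392 := ((((iv F177210)).symm.trans (sb E32737 (iv F185105)))).symm
theorem E32917 : n44319 = n42394 := (((D42394).symm.trans (sb E32737 D44319))).symm
theorem F206054 : act 2 n14565 = n20709 := (sb E32738 (iv D30150))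
theorem F206055 : act 7 n14565 = n20798 := (sb E32738 F127950)
theorem F206056 : act 8 n14565 = n20875 := (sb E32738 F127951)
theorem F206057 : act 5 n30399 = n21198 := (sb E32739 F130855)
theorem E32919 : n44323 = n21249 := ((D44323).symm.trans (sb E32739 F130856))
theorem F206058 : act 2 n14600 = n20799 := (sb E32740 F128472)
theorem E32920 : n44151 = n21247 := (((D21247).symm.trans (sb E32740 D44151))).symm
theorem F206059 : act 9 n14600 = n20798 := (sb E32740 (iv D30283))
theorem E32921 : n45137 = n44580 := ((((iv F186040)).symm.trans (sb E32741 (iv F188255)))).symm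
theorem E32922 : n45153 = n44581 := (((D44581).symm.trans (sb E32741 (iv F188318)))).symm
theorem F206060 : act 5 n30572 = n21251 := (sb E32741 F131150)
theorem E32923 : n45150 = n44578 := ((((iv F186035)).symm.trans (sb E32741 (iv F188307)))).symm
theorem E32924 : n41747 = n20708 := (((iv F174517)).symm.trans (sb E32742 (iv D30148)))
theorem F206061 : act 6 n28774 = n20709 := (sb E32742 F127941)
theorem E32925 : n43948 = n41824 := ((((iv F205804)).symm.trans (sb E32742 (iv F183613)))).symm
theorem F206062 : act 8 n28774 = n20873 := (sb E32742 F127942)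
theorem F206063 : act 7 n14347 = n20799 := (sb E32744 F127955)
theorem E32927 : n43954 = n20871 := (((D20871).symm.trans (sb E32744 D43954))).symm
theorem F206064 : act 9 n14347 = n20709 := (sb E32744 (iv D30151))
theorem E32928 : n44309 = n44302 := ((((iv F185053)).symm.trans (sb E32745 (iv F185076)))).symm
theorem E32929 : n44320 = n41915 := ((((iv F205820)).symm.trans (sb E32745 (iv F185121)))).symm
theorem F206065 : act 7 n30393 = n20993 := (sb E32745 F128979)
theorem F206066 : act 8 n30393 = n20876 := (sb E32745 (iv D30400))
theorem F206067 : act 5 n30284 = n20872 := (sb E32747 F128944)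
theorem F206068 : act 7 n14238 = n19771 := (sb E32748 F121824)
theorem E32931 : n41751 = n20708 := (E32863).trans E32924
theorem F206069 : act 9 n14238 = n19729 := (sb E32748 (iv D28692))
theorem F206070 : act 1 n28717 = n24145 := (sb E32749 (iv F202535))
theorem F206071 : act 6 n28717 = n20795 := (sb E32749 F127937)
theorem F206072 : act 4 n30138 = n20705 := (sb E32751 F127918)
theorem F206073 : act 7 n30138 = n20790 := (sb E32751 F127919)
theorem E32933 : n43937 = n41742 := ((D43937).symm.trans (sb E32751 (iv F205866)))
theorem F206074 : act 9 n30138 = n20702 := (sb E32751 (iv D30142))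
theorem F206075 : act 2 n14197 = n19695 := (sb E32756 (iv D28638))
theorem F206076 : act 5 n16726 = n24325 := (sb E32758 (iv F203528))
theorem F206077 : act 2 n14236 = n11515 := (sb E32760 F72719)
theorem E32941 : n20650 = n19691 := (((iv F89103)).symm.trans (sb E32764 (iv D28633)))
theorem E32945 : n41693 = n24325 := (((F206035).symm.trans (sb E32765 (iv F195959)))).symm
theorem E32947 : n41697 = n20646 := ((F206037).symm.trans (sb E32765 F127546))
theorem F206078 : act 5 n28629 = n24324 := (sb E32767 (iv D35429))
theorem F206079 : act 0 n11720 = n13475 := (sb E32770 F84416)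
theorem E32949 : n13473 = n8195 := (((F195479).symm.trans (sb E32770 (iv D19567)))).symm
theorem F206080 : act 3 n9299 = n7993 := (sb E32774 (iv D11588))
theorem E32953 : n16829 = n6427 := ((((iv D9299)).symm.trans (sb E32774 D16829))).symm
theorem E32954 : n15355 = n13469 := ((((iv F59142)).symm.trans (sb E32774 F202021))).symm
theorem F206081 : act 1 n10609 = n13471 := (sb E32775 F84383)
theorem F206082 : act 7 n10609 = n13475 := (sb E32775 F84386)
theorem F206083 : act 1 n10575 = n13470 := (sb E32776 F84379)
theorem E32958 : n30005 = n6425 := ((((iv F29395)).symm.trans (sb E32780 F202883))).symm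
theorem E32959 : n14180 = n13466 := ((((iv F59123)).symm.trans (sb E32781 (iv D20619)))).symm
theorem F206084 : act 2 n9773 = n13482 := (sb E32782 F84357)
theorem F206085 : act 6 n9773 = n13470 := (sb E32782 F84359)
theorem F206086 : act 2 n9778 = n13489 := (sb E32783 F84395)
theorem F206087 : act 8 n9778 = n13470 := (sb E32783 (iv D19563))
theorem E32962 : n14189 = n13564 := (((iv F62325)).symm.trans (sb E32786 F84489))
theorem F206088 : act 6 n9777 = n13489 := (sb E32786 F84491)
theorem F206089 : act 8 n9777 = n13482 := (sb E32786 (iv D19581))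
theorem E32964 : n14200 = n13583 := (((D13583).symm.trans (sb E32787 F89034))).symm
theorem F206090 : act 9 n9784 = n13489 := (sb E32788 (iv D19593))
theorem F206091 : act 1 n9388 = n7979 := (sb E32789 (iv D11570))
theorem F206092 : act 3 n9388 = n7988 := (sb E32789 F51293)
theorem E32965 : n16801 = n13594 := ((((iv F59760)).symm.trans (sb E32789 (iv F73036)))).symm
theorem F206093 : act 7 n9808 = n13611 := (sb E32790 F85197)
theorem E32966 : n28669 = n14241 := (((D14241).symm.trans (sb E32790 (iv F121735)))).symm
theorem F206094 : act 9 n9808 = n13582 := (sb E32790 (iv D19732))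
theorem F206095 : act 1 n19748 = n16588 := (sb E32791 (iv F202222))
theorem F206096 : act 6 n19748 = n14300 := (sb E32791 F89364)
theorem F206097 : act 0 n19699 = n14195 := (sb E32805 (iv F195612))
theorem F206098 : act 2 n19699 = n14193 := (sb E32805 (iv F195622))
theorem F206099 : act 3 n19699 = n14188 := (sb E32805 F89014)
theorem F206100 : act 5 n19699 = n14187 := (sb E32805 (iv D20630))
theorem E32967 : n28647 = n14196 := ((D28647).symm.trans (sb E32805 F89016))
theorem F206101 : act 4 n11514 = n14236 := (sb E32807 F85172)
theorem E32968 : n28663 = n16720 := ((((iv F72688)).symm.trans (sb E32807 (iv F121704)))).symm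
theorem F206102 : act 9 n11514 = n13578 := (sb E32807 (iv D19726))
theorem F206103 : act 4 n11567 = n14270 := (sb E32808 F85240)
theorem F206104 : act 9 n11567 = n13589 := (sb E32808 (iv D19742))
theorem F206105 : act 9 n20704 = n28662 := (sb E32810 (iv D41746))
theorem F206106 : act 0 n19697 = n14197 := (sb E32816 F89058)
theorem F206107 : act 8 n19697 = n14193 := (sb E32816 (iv D20640))
theorem F206108 : act 0 n19708 = n14236 := (sb E32820 F89298)
theorem E32970 : n28659 = n16722 := ((D28659).symm.trans (sb E32820 (iv F203122)))
theorem F206109 : act 9 n20677 = n16721 := (sb E32821 (iv D24330))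
theorem F206110 : act 2 n11569 = n13589 := (sb E32824 F85224)
theorem F206111 : act 4 n11569 = n14266 := (sb E32824 F85225)
theorem F206112 : act 8 n11569 = n13587 := (sb E32824 (iv D19738))
theorem F206113 : act 6 n19714 = n14242 := (sb E32834 F89369)
theorem F206114 : act 2 n24016 = n28662 := (sb E32837 F174483)
theorem F206115 : act 8 n24016 = n28658 := (sb E32837 (iv D41739))
theorem F206116 : act 9 n41743 = n30140 := (sb E32838 (iv D43940))
theorem E32979 : n28423 = n6742 := ((((iv F30861)).symm.trans (sb E32842 (iv D41385)))).symm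
theorem F206117 : act 2 n9770 = n13467 := (sb E32843 F84363)
theorem F206118 : act 4 n9769 = n13467 := (sb E32844 F84339)
theorem E32980 : n14176 = n13464 := (((iv F62247)).symm.trans (sb E32844 (iv D19553)))
theorem F206119 : act 8 n9776 = n13563 := (sb E32850 (iv D19703))
theorem E32983 : n30146 = n28665 := (((D28665).symm.trans (sb E32854 F174664))).symm
theorem F206120 : act 4 n19692 = n13563 := (sb E32857 (iv D19701))
theorem E32984 : n28635 = n14199 := (((iv F121573)).symm.trans (sb E32857 F85061))
theorem F206121 : act 4 n19691 = n28636 := (sb E32858 (iv F121578))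
theorem F206122 : act 6 n19691 = n14225 := (sb E32858 F89041)
theorem E32985 : n14202 = n14199 := (((E32984).symm.trans ((D28635).symm.trans (sb E32858 F89043)))).symm
theorem F206123 : act 6 n20706 = n28666 := (sb E32862 F174529)
theorem F206124 : act 7 n20708 = n28717 := (sb E32931 F174539)
theorem F206125 : act 9 n20708 = n28666 := (sb E32931 (iv D41751))
theorem F206126 : act 4 n20706 = n14242 := (sb E32864 F89359)
theorem F206127 : act 7 n20706 = n14299 := (sb E32864 F89360)
theorem F206128 : act 9 n20706 = n14239 := (sb E32864 (iv D20710))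
theorem F206129 : act 6 n21190 = n29157 := (sb E32865 F177563)
theorem E32986 : n30956 = n29100 := ((((iv F123548)).symm.trans (sb E32866 F177541))).symm
theorem F206130 : act 2 n21200 = n29156 := (sb E32867 F177566)
theorem F206131 : act 6 n21200 = n29158 := (sb E32867 F177568)
theorem F206132 : act 3 n41904 = n30383 := (sb E32868 (iv D44301))
theorem F206133 : act 5 n41904 = n30385 := (sb E32868 F185052)
theorem F206134 : act 5 n41911 = n30394 := (sb E32871 F185085)
theorem F206135 : act 3 n41913 = n30393 := (sb E32873 F185099)
theorem F206136 : act 5 n41913 = n30397 := (sb E32873 F185100)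
theorem F206137 : act 7 n42430 = n31045 := (sb E32874 F187912)
theorem F206138 : act 1 n42464 = n30872 := (sb E32875 (iv D45029))
theorem F206139 : act 7 n42464 = n31031 := (sb E32875 F187855)
theorem F206140 : act 3 n42399 = n29142 := (sb E32876 (iv D42460))
theorem F206141 : act 5 n42399 = n29144 := (sb E32876 F177489)
theorem F206142 : act 6 n42399 = n30944 := (sb E32876 F177490)
theorem F206143 : act 7 n42465 = n31046 := (sb E32877 F187916)
theorem F206144 : act 6 n42344 = n30957 := (sb E32878 F177546)
theorem F206145 : act 6 n21248 = n29102 := (sb E32879 F177230)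
theorem F206146 : act 3 n42400 = n29152 := (sb E32880 F177549)
theorem F206147 : act 5 n42400 = n29156 := (sb E32880 F177550)
theorem F206148 : act 6 n42400 = n30958 := (sb E32880 F177551)
theorem F206149 : act 2 n42479 = n30885 := (sb E32881 F187918)
theorem F206150 : act 7 n42479 = n31047 := (sb E32881 F187920)
theorem F206151 : act 8 n20629 = n28642 := (sb E32882 (iv D41714))
theorem F206152 : act 5 n20644 = n28631 := (sb E32885 F174279)
theorem F206153 : act 8 n20644 = n28630 := (sb E32885 (iv D41696))
theorem F206154 : act 6 n20644 = n14236 := (sb E32886 F89089)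
theorem F206155 : act 9 n20644 = n14197 := (sb E32886 (iv D20647))
theorem F206156 : act 2 n20681 = n16721 := (sb E32887 F103893)
theorem F206157 : act 2 n24324 = n28630 := (sb E32889 (iv F206036))
theorem F206158 : act 9 n24324 = n28642 := (sb E32889 (iv F206033))
theorem F206159 : act 5 n44146 = n31023 := (sb E32893 F187823)
theorem F206160 : act 9 n44146 = n30942 := (sb E32893 F187824)
theorem F206161 : act 2 n42391 = n30278 := (sb E32894 (iv D44144))
theorem F206162 : act 7 n42391 = n30280 := (sb E32894 F184377)
theorem F206163 : act 8 n42391 = n30565 := (sb E32894 F184378)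
theorem F206164 : act 2 n21246 = n30281 := (sb E32895 F184388)
theorem F206165 : act 9 n21246 = n30280 := (sb E32895 (iv D44147))
theorem F206166 : act 5 n44127 = n30270 := (sb E32896 F184327)
theorem F206167 : act 9 n44127 = n30267 := (sb E32896 (iv D44130))
theorem F206168 : act 5 n20797 = n30274 := (sb E32897 F183599)
theorem F206169 : act 6 n41818 = n30275 := (sb E32898 F184353)
theorem F206170 : act 8 n41818 = n30274 := (sb E32898 (iv D44138))
theorem F206171 : act 2 n44148 = n30953 := (sb E32899 F185080)
theorem F206172 : act 5 n44148 = n30559 := (sb E32899 F185082)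
theorem F206173 : act 3 n42480 = n30847 := (sb E32900 (iv D44993))
theorem F206174 : act 6 n42480 = n30848 := (sb E32900 F187718)
theorem F206175 : act 6 n42466 = n30872 := (sb E32901 F187847)
theorem F206176 : act 3 n42481 = n30871 := (sb E32903 F187850)
theorem F206177 : act 6 n42481 = n30873 := (sb E32903 F187852)
theorem F206178 : act 3 n21252 = n29098 := (sb E32905 (iv D42393))
theorem F206179 : act 3 n42482 = n30963 := (sb E32907 F187906)
theorem F206180 : act 6 n42482 = n30885 := (sb E32907 F187908)
theorem F206181 : act 5 n44321 = n30847 := (sb E32908 F187709)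
theorem F206182 : act 8 n44321 = n30845 := (sb E32908 (iv D44991))
theorem F206183 : act 5 n44307 = n30856 := (sb E32909 F187764)
theorem F206184 : act 8 n44307 = n30854 := (sb E32909 (iv D45004))
theorem F206185 : act 3 n42384 = n30961 := (sb E32910 F185111)
theorem F206186 : act 6 n42384 = n30398 := (sb E32910 F185113)
theorem F206187 : act 7 n21187 = n30282 := (sb E32911 F183631)
theorem F206188 : act 8 n21187 = n30398 := (sb E32911 F183632)
theorem F206189 : act 5 n44322 = n30871 := (sb E32912 F187834)
theorem F206190 : act 8 n44322 = n30945 := (sb E32912 F187835)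
theorem F206191 : act 0 n42619 = n30282 := (sb E32913 (iv D44149))
theorem F206192 : act 8 n42619 = n30570 := (sb E32913 F184399)
theorem F206193 : act 9 n21238 = n30282 := (sb E32914 (iv D44150))
theorem F206194 : act 2 n42392 = n30394 := (sb E32915 (iv D44316))
theorem F206195 : act 3 n42392 = n30959 := (sb E32915 F185102)
theorem F206196 : act 6 n42392 = n30565 := (sb E32915 F185104)
theorem F206197 : act 2 n42394 = n30397 := (sb E32917 F185115)
theorem F206198 : act 3 n42394 = n30962 := (sb E32917 F185116)
theorem F206199 : act 6 n42394 = n30399 := (sb E32917 F185118)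
theorem F206200 : act 7 n21249 = n30572 := (sb E32919 F185133)
theorem F206201 : act 8 n21249 = n30399 := (sb E32919 (iv D44323))
theorem F206202 : act 2 n21247 = n30284 := (sb E32920 F184404)
theorem F206203 : act 9 n21247 = n30572 := (sb E32920 F184406)
theorem F206204 : act 5 n44580 = n30947 := (sb E32921 F188257)
theorem F206205 : act 7 n44580 = n30945 := (sb E32921 F188258)
theorem F206206 : act 9 n44580 = n30943 := (sb E32921 (iv D45137))
theorem F206207 : act 5 n44581 = n30960 := (sb E32922 F188319)
theorem F206208 : act 7 n44581 = n30958 := (sb E32922 F188320)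
theorem F206209 : act 9 n44581 = n30954 := (sb E32922 (iv D45153))
theorem F206210 : act 5 n44578 = n31152 := (sb E32923 F188306)
theorem F206211 : act 9 n44578 = n30953 := (sb E32923 (iv D45150))
theorem F206212 : act 3 n20708 = n28774 := (sb E32924 F174517)
theorem F206213 : act 6 n41824 = n30278 := (sb E32925 F183612)
theorem F206214 : act 8 n41824 = n30394 := (sb E32925 F183614)
theorem F206215 : act 7 n20871 = n30284 := (sb E32927 F183640)
theorem F206216 : act 7 n44302 = n30558 := (sb E32928 F185078)
theorem F206217 : act 8 n44302 = n30388 := (sb E32928 (iv D44309))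
theorem F206218 : act 8 n41915 = n30397 := (sb E32929 (iv D44320))
theorem F206219 : act 5 n41742 = n30140 := (sb E32933 F183573)
theorem F206220 : act 8 n41742 = n30138 := (sb E32933 (iv D43937))
theorem E32991 : n28636 = n14201 := ((F206121).symm.trans (sb E32941 F89103))
theorem F206221 : act 2 n24325 = n28631 := (sb E32945 F174264)
theorem F206222 : act 4 n24325 = n28642 := (sb E32945 (iv F206031))
theorem F206223 : act 8 n24325 = n28629 := (sb E32945 (iv D41693))
theorem F206224 : act 4 n20646 = n28630 := (sb E32947 (iv F206037))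
theorem F206225 : act 9 n20646 = n28631 := (sb E32947 (iv D41697))
theorem F206226 : act 0 n8195 = n9299 := (sb E32949 F59162)
theorem E32993 : n11893 = n9298 := ((D11893).symm.trans (sb E32949 (iv D13473)))
theorem E32994 : n19559 = n11647 := (((F195470).symm.trans (sb E32949 (iv F84376)))).symm
theorem E32998 : n22329 = n9295 := ((((iv F41638)).symm.trans (sb E32953 F202423))).symm
theorem F206227 : act 3 n13469 = n10575 := (sb E32954 F67103)
theorem F206228 : act 5 n13469 = n10609 := (sb E32954 F67104)
theorem E32999 : n19555 = n10570 := (((iv F84352)).symm.trans (sb E32954 (iv D15355)))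
theorem E33002 : n20614 = n9293 := ((((iv F41624)).symm.trans (sb E32958 (iv D30005)))).symm
theorem F206229 : act 3 n13466 = n9773 := (sb E32959 F62273)
theorem F206230 : act 5 n13466 = n9770 := (sb E32959 (iv D14180))
theorem F206231 : act 3 n13564 = n9777 := (sb E32962 F62325)
theorem F206232 : act 5 n13564 = n9776 := (sb E32962 (iv D14189))
theorem E33004 : n19704 = n9782 := ((D19704).symm.trans (sb E32962 F62327))
theorem F206233 : act 1 n13583 = n11514 := (sb E32964 (iv F201744))
theorem F206234 : act 3 n13583 = n9784 := (sb E32964 F62376)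
theorem F206235 : act 5 n13583 = n9808 := (sb E32964 F62377)
theorem F206236 : act 1 n13594 = n11567 := (sb E32965 (iv D16801))
theorem F206237 : act 5 n14241 = n19715 := (sb E32966 F121733)
theorem F206238 : act 7 n14241 = n19748 := (sb E32966 F121734)
theorem F206239 : act 9 n14241 = n19714 := (sb E32966 (iv D28669))
theorem F206240 : act 9 n14196 = n19699 := (sb E32967 (iv D28647))
theorem F206241 : act 1 n16720 = n19715 := (sb E32968 F121700)
theorem F206242 : act 4 n16720 = n20681 := (sb E32968 F121702)
theorem F206243 : act 9 n16720 = n19710 := (sb E32968 (iv D28663))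
theorem F206244 : act 2 n16722 = n19710 := (sb E32970 F121685)
theorem F206245 : act 4 n16722 = n20677 := (sb E32970 F121686)
theorem F206246 : act 8 n16722 = n19708 := (sb E32970 (iv D28659))
theorem E33014 : n19552 = n9768 := ((((iv F43755)).symm.trans (sb E32979 (iv D28423)))).symm
theorem F206247 : act 5 n13464 = n9769 := (sb E32980 F62247)
theorem F206248 : act 5 n28665 = n20708 := (sb E32983 F127933)
theorem F206249 : act 8 n28665 = n20706 := (sb E32983 (iv D30146))
theorem F206250 : act 5 n14199 = n19692 := (sb E32984 F121573)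
theorem F206251 : act 8 n14199 = n19691 := (sb E32984 (iv D28635))
theorem F206252 : act 6 n14199 = n9810 := (sb E32985 F62386)
theorem F206253 : act 9 n14199 = n9783 := (sb E32985 (iv D14202))
theorem E33018 : n45154 = n42386 := ((((iv F177182)).symm.trans (sb E32986 D45154))).symm
theorem F206254 : act 2 n29100 = n21248 := (sb E32986 (iv D30956))
theorem E33019 : n45155 = n42342 := ((((iv F176986)).symm.trans (sb E32986 D45155))).symm
theorem F206255 : act 5 n29100 = n21252 := (sb E32986 F131153)
theorem E33020 : n45151 = n42395 := ((((iv F177222)).symm.trans (sb E32986 (iv F188310)))).symm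
theorem E33021 : n45156 = n42398 := (((D42398).symm.trans (sb E32986 D45156))).symm
theorem F206256 : act 4 n14201 = n19691 := (sb E32991 (iv F206121))
theorem F206257 : act 6 n14201 = n19715 := (sb E32991 F121579)
theorem F206258 : act 9 n14201 = n19692 := (sb E32991 (iv D28636))
theorem F206259 : act 4 n9298 = n8195 := (sb E32993 (iv D11893))
theorem E33025 : n16909 = n13468 := ((((iv F59137)).symm.trans (sb E32993 F195468))).symm
theorem F206260 : act 0 n11647 = n13469 := (sb E32994 F84373)
theorem E33027 : n15350 = n13465 := ((((iv F59117)).symm.trans (sb E32998 (iv D22329)))).symm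
theorem F206261 : act 1 n10570 = n13466 := (sb E32999 F84350)
theorem F206262 : act 6 n10570 = n13469 := (sb E32999 F84352)
theorem E33028 : n14177 = n13463 := ((((iv F59103)).symm.trans (sb E33002 (iv D20614)))).symm
theorem F206263 : act 6 n9782 = n13583 := (sb E33004 F85074)
theorem F206264 : act 9 n9782 = n13564 := (sb E33004 (iv D19704))
theorem F206265 : act 2 n9768 = n13464 := (sb E33014 F84331)
theorem F206266 : act 5 n42386 = n30961 := (sb E33018 F188321)
theorem F206267 : act 2 n42342 = n30957 := (sb E33019 F188324)
theorem F206268 : act 5 n42342 = n31911 := (sb E33019 F188325)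
theorem F206269 : act 2 n42395 = n30954 := (sb E33020 (iv D45151))
theorem F206270 : act 5 n42395 = n30959 := (sb E33020 F188309)
theorem F206271 : act 2 n42398 = n30958 := (sb E33021 F188328)
theorem F206272 : act 5 n42398 = n30962 := (sb E33021 F188329)
theorem F206273 : act 4 n13468 = n11647 := (sb E33025 F73562)
theorem E33032 : n19554 = n11642 := (((iv F84346)).symm.trans (sb E33025 (iv D16909)))
theorem F206274 : act 4 n13465 = n10570 := (sb E33027 F67078)
theorem E33033 : n19551 = n10567 := (((iv F84325)).symm.trans (sb E33027 (iv D15350)))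
theorem F206275 : act 4 n13463 = n9768 := (sb E33028 (iv D14177))
theorem F206276 : act 0 n11642 = n13465 := (sb E33032 (iv D19554))
theorem F206277 : act 6 n11642 = n13468 := (sb E33032 F84346)
theorem F206278 : act 1 n10567 = n13463 := (sb E33033 (iv D19551))
theorem F206279 : act 5 n10567 = n13465 := (sb E33033 F84325)
theorem E33039 : n45446 = n42606 := (c35_5 (iv F177221) F206270 F131164 (iv F131806) (iv F189269) F178077)
theorem F206280 : act 2 n42606 = n31151 := (sb E33039 (iv D45446))
theorem F206281 : act 6 n42606 = n31153 := (sb E33039 F189269)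
theorem F206282 : act 2 n31915 = n42032 := d45_7 (iv F86348) D29099 D42395 F206270 F131163 F94007 D31915 (iv D42032) D42033 F202158 (iv F175883) F175884 F122632 F85733 F60063 F42796 F30198 (iv D6595) (iv D4563) (iv D3162) D3163 F15171 (iv F21378) F21377 (iv F21133) F21134 (iv F21116) F21115 (iv F29795) (iv D6503) F21110 (iv D3269) (iv F15683) F15684 D3557 F17004 D3567 F17036 (iv F24042) (iv F34034) (iv F200638) F24422 F17314 (iv F16957) (iv F23868) (iv F33727) F33724 F33725 (iv F47337) (iv F205969) F59172 F41671 F29417 F20897 F20896 F14950 (iv D3117) (iv D2170) (iv D1514) F5455 F5456 D1098 (iv F7924) (iv F11088) (iv D2254) F7917 F5700 D1578 F7957 (iv F200806) (iv D1011) F3695 F3694 D1011 D1453 D2090 F10252 (iv F12871) (iv F18096) D5504 F25517 D7967 F202906 (iv F62684) (iv F89550) F205505 F122301 F85526 F60584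
theorem F206283 : act 0 n42516 = n31915 := d1_3 F206282 (iv F202454) (iv F177739)
theorem F206284 : act 5 n42034 = n31915 := d19_0 F206282 F175715 D42034
theorem F206285 : act 6 n42032 = n32068 := d20_2 (iv F134717) F206282 F135310
theorem F206286 : act 7 n42032 = n31899 := d21_2 (iv F134718) F206282 F134648
theorem F206287 : act 0 n31899 = n42380 := d6_1 F206286 F177159 F202454
theorem F206288 : act 3 n31899 = n41919 := d27_1 F206286 F175247 D42032
theorem F206289 : act 5 n31899 = n41920 := d36_1 F206286 F175251 (iv F175715)
theorem F206290 : act 2 n41920 = n31910 := d19_1 F206289 F134695 (iv F134648)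
theorem F206291 : act 0 n31910 = n42330 := d1_1 F206290 F176926 F201653
theorem F206292 : act 4 n31910 = n42316 := d18_2 (iv F201346) F206290 F176853
theorem F206293 : act 7 n31910 = n42034 := d21_2 (iv F175251) F206290 (iv D42034)
theorem F206294 : act 8 n44271 = n35021 := d46_14 D30348 F128770 (iv F122215) D41920 F206290 (iv D31910) F93993 F93997 F93995 (iv F91541) F206178 F206052 (iv F128920) (iv F184932) F147210 F102734 F71851 F51081 F51080 F202858 F59854 F59853 (iv F85108) (iv F121694) F206042 F103899 F203457 (iv D28662) (iv D19709) F59639 (iv D9795) F30955 F23602 F16747 (iv F200906) (iv F14063) (iv D2929) F10008 F7124 F7123 (iv F6412) (iv F8746) (iv D1743) (iv D1211) F4433 (iv D841) (iv F4097) F4096 F4101 F2956 D793 F4187 (iv F5886) (iv F8233) (iv F11540) (iv F15862) D4779 F22373 (iv F31631) (iv F44884) (iv F63913) (iv F89913)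
theorem F206295 : act 0 n35021 = n41902 := d7_1 F206294 F205951 (iv F184932)
theorem F206296 : act 3 n35021 = n41767 := d28_1 F206294 F205861 (iv F196378) D30362 D44271
theorem F206297 : act 5 n31884 = n44271 := d37_3 F206294 F147210 (iv F134588)
theorem F206298 : act 0 n41904 = n31884 := d4_3 F206297 F184932 (iv F206133)
theorem F206299 : act 3 n44269 = n31884 := d25_3 F206297 (iv D44271) (iv F184926)
theorem F206300 : act 6 n31876 = n44269 := d26_0 F206299 (iv D31884) (iv F134555)
theorem F206301 : act 8 n34993 = n41737 := d28_4 D44269 F206299 F134588 (iv F205732) F196388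
theorem F206302 : act 0 n41742 = n34993 := d7_3 F206301 F196387 (iv F206220)
theorem F206303 : act 2 n41743 = n34993 := d22_3 F206301 F174474 D41743
theorem F206304 : act 5 n41767 = n34993 := d37_3 F206301 F174475 (iv F205861)
theorem F206305 : act 6 n41737 = n34992 := d40_1 F206301 F147106 (iv F205733)
theorem F206306 : act 0 n34992 = n41743 := d5_1 F206305 F205864 (iv F196387)
theorem F206307 : act 2 n34992 = n41742 := d20_1 F206305 (iv D41742) (iv F174474)
theorem F206308 : act 3 n34992 = n41931 := d26_1 F206305 F175300 (iv F196388)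
theorem F206309 : act 7 n35185 = n41803 := d39_4 (iv F174476) F206305 F147105 D35185 (iv D41803)
theorem F206310 : act 9 n34992 = n41767 := d41_2 (iv F174477) F206305 (iv D41767)
theorem F206311 : act 9 n35021 = n41931 := d29_2 F206310 (iv F206296) (iv F206308)
theorem F206312 : act 0 n41813 = n35185 := d6_3 F206309 F205768 (iv F205771)
theorem F206313 : act 2 n41812 = n35185 := d21_3 F206309 F174751 D41812
theorem F206314 : act 8 n41803 = n35176 := d42_2 (iv F147832) F206309 F205430
theorem F206315 : act 9 n41850 = n35185 := d43_0 F206309 F174753 D41850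
theorem F206316 : act 0 n35176 = n41812 := d7_1 F206314 F205513 (iv F205768)
theorem F206317 : act 2 n35176 = n41813 := d22_1 F206314 (iv D41813) (iv F174751)
theorem F206318 : act 7 n41931 = n32017 := d27_2 (iv F147105) F206308 F135136
theorem F206319 : act 8 n41931 = n31876 := d28_2 (iv F147106) F206308 F134555 F93910 (iv F102705)
theorem F206320 : act 0 n31876 = n41905 := d7_1 F206319 F205524 (iv F175297)
theorem F206321 : act 0 n32017 = n41814 := d6_1 F206318 F205517 (iv F175297)
theorem F206322 : act 3 n34097 = n41940 := d17_4 (iv F205862) F206303 F205732 (iv F143702) F175335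
theorem F206323 : act 1 n42435 = n34097 := d10_3 F206322 F175334 (iv F177400)
theorem F206324 : act 5 n41938 = n34097 := d25_0 F206322 (iv D41940) (iv F175328)
theorem F206325 : act 2 n35021 = n41938 := d19_3 F206324 F143702 (iv F147210)
theorem F206326 : act 4 n33206 = n42435 := d11_0 F206323 F143703 (iv F140188)
theorem F206327 : act 1 n42316 = n31911 := d46_61 F134701 (iv F206268) F176986 (iv D29100) (iv F122182) (iv F175171) F206298 F134588 (iv F147210) F147209 F206296 F174605 F121788 F85178 (iv F206013) (iv F85114) (iv D19712) F59650 F41993 F29639 F29638 F29643 (iv D6470) (iv D4482) (iv D3110) F10642 F7897 F6064 (iv D905) F3351 F2384 F1700 F1699 F1698 (iv F2188) D581 F3127 (iv F4363) D1187 D1704 D2451 (iv F200862) (iv D1830) D1829 D2633 F12818 (iv F18017) F18016 (iv F25361) F201996 D9796 F43909 (iv F44194) (iv F62884) F62883 (iv F63806) D21170 F91213 (iv F86269) D29074 (iv F176853) F134698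
theorem F206328 : act 2 n31895 = n41929 := d9_4 (iv F176853) F206327 F134699 (iv F134633) F201353
theorem F206329 : act 3 n31911 = n42312 := d10_2 D42316 F206327 F176833
theorem F206330 : act 7 n31911 = n42486 := d14_2 (iv F176855) F206327 F177604
theorem F206331 : act 2 n42486 = n31908 := d21_1 F206330 F134688 (iv F134699)
theorem F206332 : act 4 n42486 = n31907 := d32_1 F206330 F134684 D31911
theorem F206333 : act 1 n31907 = n42034 := d11_1 F206332 F202159 (iv F177604)
theorem F206334 : act 6 n31907 = n41614 := d31_2 (iv F177605) F206332 F203042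
theorem F206335 : act 1 n31908 = n41564 := d9_1 F206331 F173675 (iv F202054) (iv F123823) (iv F177604)
theorem F206336 : act 6 n31908 = n41615 := d20_2 (iv F177605) F206331 F203051
theorem F206337 : act 7 n41564 = n31895 := d14_2 (iv F134688) F206335 F134633
theorem F206338 : act 0 n31895 = n41535 := d6_1 F206337 F173543 (iv F173674)
theorem F206339 : act 7 n44042 = n35021 := d27_0 F206296 F205860 D44042
theorem F206340 : act 4 n44042 = n44042 := d32_3 F206339 F147209 (iv F206339)
theorem F206341 : act 5 n32018 = n44042 := d36_3 F206339 F147210 (iv F205440)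
theorem F206342 : act 9 n32017 = n44042 := d43_0 F206339 F206311 F206318
theorem F206343 : act 5 n42330 = n31918 := d4_2 (iv F134695) F206291 (iv D31918)
theorem F206344 : act 2 n31918 = n42380 := d19_1 F206343 (iv D42380) (iv F176926)
theorem F206345 : act 7 n31918 = n42516 := d36_2 (iv F176929) F206343 (iv D42516)
theorem F206346 : act 6 n42516 = n32092 := d39_1 F206345 F135405 F94496 (iv F94029) (iv F134732)
theorem F206347 : act 2 n32092 = n42591 := d20_1 F206346 (iv D42591) (iv F177739)
theorem F206348 : act 5 n32092 = n42794 := d35_1 F206346 (iv D42794) (iv D29365) (iv F123888) D42516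
theorem F206349 : act 0 n42794 = n32080 := d4_1 F206348 F135353 D32092
theorem F206350 : act 7 n42794 = n32085 := d36_2 (iv F135405) F206348 F135376
theorem F206351 : act 2 n32085 = n42907 := d21_1 F206350 (iv D42907) (iv F178807)
theorem F206352 : act 0 n42907 = n32063 := d1_1 F206351 F135291 D32085
theorem F206353 : act 5 n42907 = n32071 := d19_2 (iv F135376) F206351 F135319
theorem F206354 : act 1 n32071 = n42651 := d12_1 F206353 F178235 (iv F203842)
theorem F206355 : act 3 n32071 = n42627 := d25_1 F206353 F178150 (iv F203843)
theorem F206356 : act 7 n32071 = n42591 := d36_2 D42907 F206353 F178026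
theorem F206357 : act 0 n42591 = n32068 := d6_1 F206356 F135311 D32071
theorem F206358 : act 6 n42380 = n31902 := d39_3 F206356 (iv D42591) (iv F177159) F134659 (iv F135320)
theorem F206359 : act 1 n31902 = n42420 := d13_1 F206358 F177327 (iv F202062)
theorem F206360 : act 3 n31902 = n42406 := d26_1 F206358 F177267 (iv F202063)
theorem F206361 : act 0 n42406 = n31873 := d2_1 F206360 F134545 D31902
theorem F206362 : act 7 n42406 = n32035 := d27_2 (iv F134659) F206360 F135196
theorem F206363 : act 1 n32035 = n42419 := d14_1 F206362 F177323 (iv F177264)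
theorem F206364 : act 6 n32035 = n42627 := d39_1 F206362 F178151 F124179 (iv F123578) (iv F177267)
theorem F206365 : act 8 n32035 = n42405 := d42_2 D42406 F206362 (iv D42405)
theorem F206366 : act 0 n42405 = n32014 := d7_1 F206365 F135129 D32035
theorem F206367 : act 6 n32014 = n42030 := d5_2 (iv F177263) F206366 F175703
theorem F206368 : act 7 n32014 = n41918 := d6_2 D42405 F206366 F175238
theorem F206369 : act 8 n41918 = n31873 := d42_2 (iv F135129) F206368 F134547
theorem F206370 : act 6 n31873 = n41919 := d40_1 F206369 (iv D41919) D41918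
theorem F206371 : act 7 n42031 = n32029 := d39_4 (iv F134547) F206370 F175247 (iv F175712) F135180
theorem F206372 : act 0 n32029 = n42627 := d6_1 F206371 F178151 (iv F175708)
theorem F206373 : act 3 n32068 = n42031 := d27_3 F206371 F135179 (iv F135311)
theorem F206374 : act 5 n32029 = n42197 := d36_1 F206371 F176388 (iv F175711)
theorem F206375 : act 8 n32029 = n42030 := d42_2 D42031 F206371 (iv D42030)
theorem F206376 : act 3 n42197 = n32063 := d25_1 F206374 F135292 (iv F135179)
theorem F206377 : act 7 n32063 = n42198 := d27_2 (iv F176388) F206376 (iv D42198)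
theorem F206378 : act 2 n42198 = n32080 := d21_1 F206377 F135354 (iv F135291)
theorem F206379 : act 5 n42198 = n32068 := d36_1 F206377 F135311 (iv F135292)
theorem F206380 : act 6 n32080 = n42200 := d20_2 (iv F176391) F206378 (iv D42200)
theorem E33040 : n46161 = n42200 := ((c13_1 F206380 F191862 F204935 D32080)).symm
theorem F206381 : act 1 n42200 = n31637 := (sb E33040 F191862)
theorem F206382 : act 4 n42200 = n31636 := (sb E33040 (iv D46161))
theorem F206383 : act 4 n46157 = n32080 := d31_3 F206380 F206382 (iv F191848)
theorem F206384 : act 7 n32086 = n46157 := d32_0 F206383 F135354 D32086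
theorem F206385 : act 3 n46154 = n32086 := d27_3 F206384 (iv D46157) (iv F191837)
theorem E33041 : n46159 = n42791 := (c3_2 F206382 (iv F191855) F178793 F203386)
theorem F206386 : act 0 n42791 = n31636 := (sb E33041 F191855)
theorem F206387 : act 3 n42791 = n31635 := (sb E33041 (iv D46159))
theorem E33042 : n43502 = n42761 := (c30_3 (iv F176399) F206382 (iv F181698) (iv D42761) F124506 F202954)
theorem F206388 : act 1 n42761 = n29846 := (sb E33042 F181697)
theorem F206389 : act 3 n42761 = n29845 := (sb E33042 (iv D43502))
theorem F206390 : act 5 n42761 = n31636 := (sb E33042 F181698)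
theorem F206391 : act 3 n42419 = n32002 := d10_2 (iv F135196) F206363 F135076
theorem F206392 : act 6 n32002 = n42651 := d26_2 (iv F177322) F206391 (iv D42651)
theorem F206393 : act 7 n32002 = n42420 := d27_2 (iv F177323) F206391 (iv D42420)
theorem E33043 : n44563 = n42017 := (c17_5 D42606 F206280 (iv D31151) (iv F129552) D44563 F175649)
theorem F206394 : act 3 n42017 = n30559 := (sb E33043 (iv D44563))
theorem F206395 : act 6 n42017 = n30560 := (sb E33043 F185981)
theorem E33044 : n45149 = n42611 := (c19_3 (iv F178077) F206280 (iv F188301) (iv D42611))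
theorem F206396 : act 3 n42611 = n30953 := (sb E33044 (iv D45149))
theorem F206397 : act 5 n42611 = n31151 := (sb E33044 F188301)
theorem F206398 : act 6 n42611 = n30954 := (sb E33044 F188302)
theorem E33045 : n44148 = n42020 := (c17_2 F206396 (iv F206171) (iv D42020) F122483 D29244 D42611)
theorem F206399 : act 2 n42020 = n30953 := (sb E33045 F206171)
theorem F206400 : act 5 n42020 = n30559 := (sb E33045 F206172)
theorem F206401 : act 6 n42020 = n30284 := (sb E33045 F184394)
theorem F206402 : act 8 n42020 = n30281 := (sb E33045 (iv D44148))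
theorem F206403 : act 9 n42020 = n30569 := (sb E33045 F184395)
theorem E33046 : n44572 = n44564 := (c38_2 F206403 (iv F186012) (iv D44564) (iv F206400))
theorem F206404 : act 5 n44564 = n30569 := (sb E33046 F186012)
theorem F206405 : act 8 n44564 = n30564 := (sb E33046 (iv D44572))
theorem E33047 : n44575 = n42023 := (c43_2 F206403 (iv F186023) (iv D42023) (iv F175664))
theorem F206406 : act 7 n42023 = n30569 := (sb E33047 F186023)
theorem F206407 : act 8 n42023 = n30566 := (sb E33047 (iv D44575))
theorem F206408 : act 3 n34384 = n44522 := d46_59 D30559 (iv F206400) F175663 (iv D42020) F122483 (iv F124103) (iv F177944) (iv D42565) (iv F177937) F177936 F124822 F204153 F65098 F45712 (iv D10251) F32181 F22746 F16120 F11468 F8174 F6353 F5037 F5035 (iv F6984) (iv F9610) (iv F13511) (iv F200957) (iv F12775) (iv D2625) (iv F12702) (iv F17873) F17872 F17871 (iv F25212) (iv F35613) F201598 F47651 F47650 (iv F48211) (iv F68693) F68692 (iv F70177) F201409 (iv F197464) (iv F197944) (iv F70771) F70770 F50057 (iv F71285) D23859 F101971 (iv F203589) (iv D20235) (iv F87245) (iv F122820)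 (iv F203672) F92602 (iv F101820) (iv F144699) F185853 F129522 F90448
theorem F206409 : act 1 n45374 = n34384 := d10_3 F206408 F185852 (iv F189079)
theorem F206410 : act 2 n44127 = n35200 := d17_3 F206408 F185853 (iv F184316) F147882 (iv F144698)
theorem F206411 : act 4 n44869 = n34714 := d24_4 (iv F144699) F206408 F185854 (iv F187231) F145927
theorem F206412 : act 5 n44522 = n34378 := d25_2 (iv F144700) F206408 F144683
theorem F206413 : act 1 n34378 = n45108 := d12_1 F206412 F188168 (iv F185852)
theorem F206414 : act 2 n34378 = n44134 := d19_1 F206412 F205960 (iv F185853)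
theorem F206415 : act 9 n42037 = n34378 := d23_0 F206414 (iv D44134) (iv F205942)
theorem F206416 : act 0 n34378 = n41993 := d8_1 F206415 F175555 (iv F175734)
theorem F206417 : act 3 n45108 = n33488 := d10_2 (iv F144683) F206413 F141224
theorem F206418 : act 5 n33488 = n45374 := d25_2 (iv F188168) F206417 F189079
theorem F206419 : act 4 n45374 = n33905 := d30_1 F206418 F142926 F99672 (iv F98520) (iv F141226)
theorem F206420 : act 3 n33905 = n45779 := d24_1 F206419 F190478 F132626 (iv F131688) (iv F189079)
theorem F206421 : act 0 n42825 = n33905 := d2_3 F206420 F204074 (iv F203075)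
theorem F206422 : act 1 n45779 = n34714 := d10_1 F206420 F145927 (iv F142924)
theorem F206423 : act 0 n34714 = n42141 := d0_1 F206422 F176126 (iv F203596) D31600 (iv F204074)
theorem F206424 : act 9 n42208 = n34714 := d8_0 F206423 F176130 (iv F176433)
theorem F206425 : act 9 n33905 = n42192 := d8_2 (iv F178954) F206421 F176360
theorem F206426 : act 9 n35200 = n41840 := d23_2 (iv F206167) F206410 F205597
theorem F206427 : act 0 n41811 = n35200 := d8_3 F206426 F174906 (iv F174788)
theorem E33048 : n44942 = n42176 := (c24_5 (iv F175650) F206394 F129553 D30812 D44942 (iv D42176))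
theorem F206428 : act 4 n42176 = n30812 := (sb E33048 (iv D44942))
theorem F206429 : act 6 n42176 = n30815 := (sb E33048 F187491)
theorem F206430 : act 5 n41565 = n31898 := d45_84 F205937 (iv F206214) F174843 F121935 F89579 F205658 F205475 F72050 F202908 (iv D20757) (iv D14269) F44050 (iv D6780) (iv D4688) (iv F21022) (iv D4486) (iv D3113) (iv D2168) F7620 (iv D1058) (iv F5406) F5407 F3843 F3842 F2739 F2740 F2003 (iv D363) D362 D530 (iv F4024) D1095 F5658 F5656 (iv F6076) D1692 D2434 F195104 F11934 F8517 F8516 F6083 F6081 F6082 F4336 (iv D567) (iv D387) F1486 (iv D263) F1049 F742 (iv F710) F711 (iv F984) D251 D370 D539 F2911 D778 (iv F5712) F5711 (iv F6156) D1717 (iv F12084) (iv F200317) (iv D1967) D1968 F9745 (iv F13700) (iv F17370) (iv F24514) (iv F31755) (iv F44982) D14612 F201456 F90309 (iv F85667) D28856 F122522 (iv F121132) (iv D28541) D28542 F121139 (iv F173681) (iv F188274) F188273 F131118 F205920 (iv F175687)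
theorem F206431 : act 0 n31898 = n41584 := d4_1 F206430 F173763 (iv F173679)
theorem F206432 : act 1 n31909 = n41565 := d12_3 F206430 F134644 (iv F134692)
theorem F206433 : act 2 n31898 = n42048 := d19_1 F206430 F175773 (iv F173680)
theorem F206434 : act 6 n32062 = n41628 := d35_4 (iv F173682) F206430 F134646 (iv F135289) F173957
theorem F206435 : act 7 n31896 = n41565 := d36_0 F206430 F134647 (iv F134639)
theorem F206436 : act 0 n41536 = n31896 := d6_3 F206435 F173679 (iv F173549)
theorem F206437 : act 2 n41930 = n31896 := d21_3 F206435 F173680 (iv F175296)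
theorem F206438 : act 5 n31900 = n41930 := d19_0 F206437 F134639 (iv F134651)
theorem F206439 : act 0 n41949 = n31900 := d4_3 F206438 F175293 (iv F175372)
theorem F206440 : act 3 n41928 = n31900 := d25_3 F206438 F175294 (iv F175286)
theorem F206441 : act 7 n42048 = n31900 := d36_0 F206438 F175296 (iv F175773)
theorem F206442 : act 6 n32069 = n42048 := d39_5 F206441 F134652 F93971 (iv F94424) (iv F135314)
theorem F206443 : act 0 n42076 = n32069 := d5_3 F206442 F175771 (iv F175869)
theorem F206444 : act 3 n42046 = n32069 := d26_3 F206442 F175772 (iv F175768)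
theorem F206445 : act 5 n42224 = n32069 := d35_5 F206442 F175773 F122560 (iv F123048) (iv F176497)
theorem F206446 : act 2 n32062 = n42224 := d19_3 F206445 F135313 (iv F135289)
theorem F206447 : act 7 n32065 = n42224 := d36_0 F206445 F135314 (iv F135299)
theorem F206448 : act 0 n42267 = n32065 := d6_3 F206447 F176495 (iv F176663)
theorem F206449 : act 3 n42222 = n32065 := d27_3 F206447 F176496 (iv F176491)
theorem F206450 : act 5 n32031 = n42222 := d25_0 F206449 F135299 (iv F135184)
theorem F206451 : act 0 n42074 = n32031 := d4_3 F206450 F176488 (iv F175861)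
theorem F206452 : act 7 n42046 = n32031 := d36_0 F206450 F176491 (iv F175767)
theorem F206453 : act 8 n45423 = n32031 := d37_0 F206450 F203700 (iv F189193)
theorem E33049 : n32054 = n32034 := ((c22_3 F206453 F135183 D32034 (iv F189192))).symm
theorem F206454 : act 2 n32034 = n45423 := (sb E33049 (iv F189192))
theorem F206455 : act 5 n32034 = n22131 := (sb E33049 F135257)
theorem F206456 : act 7 n32034 = n21995 := (sb E33049 F135258)
theorem F206457 : act 9 n32034 = n21994 := (sb E33049 (iv D32054))
theorem F206458 : act 6 n32040 = n45423 := d40_3 F206453 F135185 D32040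
theorem F206459 : act 7 n45132 = n32040 := d39_0 F206458 F189194 F131746 (iv F131093) (iv F188239)
theorem F206460 : act 9 n45131 = n32040 := d41_0 F206458 (iv D45423) (iv F188235)
theorem E33050 : n31888 = n31878 := ((c21_3 F206459 F135208 (iv F134565) (iv F188237))).symm
theorem F206461 : act 2 n31878 = n45132 := (sb E33050 (iv F188237))
theorem F206462 : act 6 n31878 = n21883 := (sb E33050 F134605)
theorem F206463 : act 9 n31878 = n21882 := (sb E33050 (iv D31888))
theorem F206464 : act 8 n31875 = n45132 := d42_0 F206459 (iv D32040) (iv F134553)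
theorem F206465 : act 6 n41928 = n31875 := d40_3 F206464 F188239 (iv F202066)
theorem F206466 : act 0 n31875 = n41947 := d5_1 F206465 F175366 (iv F175284)
theorem F206467 : act 3 n41947 = n31853 := d2_2 (iv F134551) F206466 F134457
theorem F206468 : act 7 n41947 = n31975 := d6_2 (iv F134553) F206466 F134972
theorem F206469 : act 1 n31975 = n42449 := d14_1 F206468 F177447 (iv F175363)
theorem F206470 : act 6 n31975 = n42074 := d39_1 F206468 F175862 F122621 (iv F122288) (iv F175366)
theorem F206471 : act 3 n42074 = n32000 := d26_1 F206470 F135070 (iv F134974)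
theorem F206472 : act 1 n32000 = n42697 := d10_1 F206471 F178391 (iv F175859)
theorem F206473 : act 5 n32000 = n42267 := d25_2 (iv F175861) F206471 F176661
theorem F206474 : act 7 n32000 = n42076 := d27_2 (iv F175862) F206471 F175867
theorem F206475 : act 2 n42076 = n31998 := d21_1 F206474 F135064 (iv F135069)
theorem F206476 : act 6 n41949 = n31853 := d39_3 F206474 F175869 (iv F175373) F134460 (iv F135070)
theorem F206477 : act 1 n31853 = n42451 := d13_1 F206476 F177454 (iv F175370)
theorem F206478 : act 2 n31851 = n41949 := d20_3 F206476 F134458 (iv F134452)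
theorem F206479 : act 5 n41536 = n31851 := d19_0 F206478 F175372 (iv F173546)
theorem F206480 : act 7 n41584 = n31851 := d21_0 F206478 F175373 (iv F173761)
theorem F206481 : act 6 n31998 = n41584 := d39_5 F206480 F134452 F93825 (iv F94254) (iv F135064)
theorem F206482 : act 5 n41656 = n31998 := d35_5 F206481 F173763 F121200 (iv F121419) (iv F174087)
theorem F206483 : act 0 n32062 = n41656 := d4_3 F206482 F135061 (iv F135289)
theorem F206484 : act 7 n31996 = n41656 := d36_0 F206482 F135064 (iv F135056)
theorem F206485 : act 2 n42267 = n31996 := d21_3 F206484 F174085 (iv F176663)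
theorem F206486 : act 7 n42451 = n32003 := d14_2 (iv F134460) F206477 F135080
theorem F206487 : act 3 n32003 = n42449 := d27_1 F206486 F177447 (iv F177452)
theorem F206488 : act 6 n32003 = n42697 := d39_1 F206486 F178393 F124338 (iv F123705) (iv F177454)
theorem F206489 : act 0 n41908 = n31878 := d8_3 F206463 F202846 D41908
theorem F206490 : act 7 n31978 = n41908 := d6_0 F206489 F134565 (iv F134982)
theorem F206491 : act 1 n41916 = n31978 := d14_3 F206490 F175188 (iv F175231)
theorem F206492 : act 6 n42015 = n31978 := d39_5 F206490 F175191 F122169 (iv F122470) (iv F175641)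
theorem F206493 : act 9 n41907 = n31978 := d43_0 F206490 (iv D41908) (iv F175187)
theorem F206494 : act 0 n31887 = n41907 := d8_3 F206493 F134982 (iv F205442)
theorem F206495 : act 0 n32034 = n42015 := d5_3 F206492 F134982 (iv F135194)
theorem F206496 : act 4 n31978 = n44445 := d11_2 (iv F205487) F206491 F185592
theorem F206497 : act 0 n44445 = n32043 := d3_1 F206496 F135218 (iv F134982)
theorem F206498 : act 3 n32043 = n44512 := d2_2 (iv F185593) F206497 F185826
theorem F206499 : act 4 n45913 = n32062 := d31_3 F206434 F203706 (iv F190896)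
theorem F206500 : act 7 n32066 = n45913 := d32_0 F206499 F135290 (iv F135303)
theorem F206501 : act 6 n41616 = n31909 := d13_0 F206432 F173682 (iv F173903)
theorem E33051 : n45167 = n45158 := ((c42_3 (iv F186043) F206208 D45158 F188372)).symm
theorem F206502 : act 3 n45158 = n30966 := (sb E33051 (iv D45167))
theorem F206503 : act 7 n45158 = n31169 := (sb E33051 F188372)
theorem E33052 : n45161 = n42740 := ((c36_2 F206503 (iv F178555) F188349 (iv F188335))).symm
theorem F206504 : act 4 n42740 = n31917 := (sb E33052 F188347)
theorem F206505 : act 6 n42740 = n31163 := (sb E33052 F188348)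
theorem F206506 : act 7 n42740 = n30963 := (sb E33052 F188349)
theorem F206507 : act 8 n42740 = n30960 := (sb E33052 (iv D45161))
theorem E33053 : n44560 = n42621 := (c22_2 F206192 (iv F185973) (iv D42621) D42619)
theorem F206508 : act 0 n42621 = n30556 := (sb E33053 (iv D44560))
theorem F206509 : act 2 n42621 = n30570 := (sb E33053 F185973)
theorem F206510 : act 5 n35181 = n41903 := d45_75 D14276 F62713 F44136 F44137 (iv F42102) F206092 (iv D7988) (iv D5520) (iv D3822) F201607 F16854 D5092 D7375 D10698 F47687 F200685 (iv F34061) (iv F200492) F24380 F17318 (iv F17786) F17787 F200845 F23782 (iv F33632) (iv F47714) F205244 F59275 F59274 (iv F59773) (iv D13597) F42070 (iv D6785) F21991 F21992 D5092 F201601 F18151 (iv D3822) (iv F17859) F17858 (iv F17393) F17392 (iv F17050) F17051 D5167 (iv F200366) F19259 (iv D2826) (iv D1960) F6913 (iv F8751) (iv F11297) (iv F15140) F15143 F10802 F10799 F8072 D2304 D3321 F15922 D4800 F22457 (iv F24449) F200531 (iv F44404) D14395 D20939 D30492 F129324 F205571 (iv D28744) (iv F205717) (iv F103156) D35181 F175168 F122158 F85415 F59879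 F42143 F30033 F21306 (iv F29776) F29777 (iv F42029) F42028 F42027 (iv F59709) (iv F205473)
theorem F206511 : act 1 n41824 = n35181 := d12_3 F206510 F175167 (iv F205803)
theorem F206512 : act 7 n41902 = n35181 := d36_0 F206510 (iv D41903) D41902
theorem F206513 : act 9 n41814 = n35181 := d38_0 F206510 F175170 (iv F205516)
theorem F206514 : act 0 n35181 = n44042 := d8_1 F206513 (iv F206342) F206321
theorem F206515 : act 0 n32018 = n41903 := d4_3 (iv F206510) F206514 (iv F206341)
theorem F206516 : act 6 n35181 = n44131 := d39_1 F206512 F184330 F128421 (iv F127915) (iv F205950)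
theorem F206517 : act 8 n35181 = n44303 := d42_2 (iv F205951) F206512 F185059
theorem F206518 : act 9 n32473 = n32473 := d45_36 (iv F62317) F206029 F85048 (iv D13562) (iv D9356) F29614 (iv D4668) (iv D3234) (iv D2247) (iv F11043) (iv D2246) (iv F11033) F11034 (iv F15499) F15498 F15496 (iv F16648) (iv F23457) (iv D5032) D5031 F23450 (iv F33155) (iv F47016) D15330 F66957 D22298 F95665 F195460 F95670 F95665 F95667 F95666 F95665 D32473 F137041 F137042 F137047 F137042 F137044 F137043 F137042 (iv D32473) (iv D22298) (iv D15330) F195446 (iv D10554) F33147 F33148 (iv D7280) F23444 F16640 F16641 F11843 D3486 D5036 D7289 F33205 D7291 F33216 (iv F30873) (iv F43781) F205777 F59223 F59222 (iv F59615) (iv D13563) F41963 (iv D6750) (iv F30900) F30901 D7301 (iv F47151) F195079 (iv D10577) D10578 F47153 (iv F195529) F201543 F25480 (iv F201581) F33257 F23538 (iv F201587) F201588 F23531 (iv D5045) (iv F23525) (iv F30901) D9780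
theorem F206519 : act 2 n34354 = n44137 := d19_3 F205961 F202143 D34354
theorem F206520 : act 1 n45109 = n34354 := d9_5 F206519 F184347 (iv F206202) (iv F131103) (iv F188169)
theorem F206521 : act 7 n44282 = n34354 := d21_0 F206519 F205962 (iv F184974)
theorem F206522 : act 9 n44562 = n34354 := d23_0 F206519 F184349 (iv F185978)
theorem F206523 : act 5 n34355 = n44562 := d38_3 F206522 (iv D34354) D34355
theorem F206524 : act 2 n42093 = n34355 := d19_3 F206523 F185978 (iv F175917)
theorem F206525 : act 8 n42092 = n34355 := d37_0 F206523 (iv D44562) (iv F175915)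
theorem F206526 : act 0 n34355 = n44416 := d7_1 F206525 F185507 (iv F205573)
theorem F206527 : act 1 n34355 = n45113 := d9_1 F206524 F188179 F131118 F205920 (iv F175916)
theorem F206528 : act 6 n34355 = n44527 := d20_2 (iv F205932) F206524 F185869
theorem F206529 : act 7 n34355 = n44285 := d21_2 (iv F205933) F206524 F184985
theorem F206530 : act 0 n35216 = n44129 := d5_3 F205889 (iv F202490) D35216
theorem F206531 : act 3 n41849 = n35216 := d2_0 F206530 (iv D44129) (iv F205766)
theorem F206532 : act 5 n41847 = n35216 := d4_0 F206530 F184323 (iv F205609)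
theorem F206533 : act 8 n44504 = n35216 := d7_0 F206530 F184324 (iv F185798)
theorem F206534 : act 9 n44502 = n35216 := d8_0 F206530 F205890 (iv F185790)
theorem F206535 : act 4 n32238 = n44504 := d33_3 F206533 F147931 (iv F136039)
theorem F206536 : act 6 n32044 = n44504 := d40_3 F206533 (iv D35216) (iv F135222)
theorem F206537 : act 0 n42085 = n32044 := d5_3 F206536 F185798 (iv F175898)
theorem F206538 : act 3 n42053 = n32044 := d26_3 F206536 (iv D44504) (iv F175792)
theorem F206539 : act 4 n32213 = n42233 := d24_4 (iv F175790) F206538 F135220 (iv F135935) (iv D42233)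
theorem F206540 : act 7 n32032 = n42053 := d27_0 F206538 F135221 (iv F135187)
theorem F206541 : act 0 n42084 = n32032 := d6_3 F206540 F175788 (iv F175895)
theorem F206542 : act 4 n42232 = n32032 := d32_3 F206540 F175790 (iv F176528)
theorem F206543 : act 8 n42052 = n32032 := d42_0 F206540 (iv D42053) D42052
theorem F206544 : act 3 n35175 = n42052 := d28_5 F206543 F135187 F94357 (iv F103190) (iv F147801)
theorem F206545 : act 0 n41862 = n35175 := d2_3 F206544 F175784 (iv F174988)
theorem F206546 : act 7 n41840 = n35175 := d27_0 F206544 (iv D42052) (iv F174908)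
theorem F206547 : act 2 n35175 = n44128 := d46_4 (iv D28990) (iv F123064) (iv F175786) (iv F206544) F184318 F128439 (iv D30275) F89692 F62783 F44127 F31113 F22014 F16874 F13216 F13215 F13214 F9534 (iv F9770) (iv F13728) (iv F19336) F19340 F14134 F10132 F7247 F7246 (iv F9105) F9104 (iv F8953) F8951 (iv F12447) (iv F17540) (iv F24753) (iv F34366) (iv F48745) D15933 F201454 F49346 (iv F45079) F45078 F31763 F31762 D6964 F31801 (iv F32005) D10191 D14816 D21571 D31442 F132820 (iv F134037) (iv F204696) F182272 (iv D29960) F88778 F62189 (iv F87611) F87609 F61347 (iv D13979) (iv F60341) (iv F86103) (iv F123069)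
theorem F206548 : act 3 n32207 = n42232 := d24_5 F206542 F135187 F94356 (iv F94858) (iv F135911)
theorem F206549 : act 0 n42279 = n32207 := d2_3 F206548 F176525 D42279
theorem F206550 : act 7 n42233 = n32207 := d27_0 F206548 F176528 D42233
theorem F206551 : act 0 n42282 = n32213 := d3_3 F206539 F176529 D42282
theorem F206552 : act 6 n44857 = n32213 := d31_0 F206539 F176532 D44857
theorem F206553 : act 3 n32238 = n44857 := d26_3 F206552 F135935 D32238
theorem F206554 : act 0 n44553 = n32238 := d2_3 F206553 F187175 (iv F185953)
theorem F206555 : act 2 n35216 = n42060 := d19_1 F206532 (iv D42060) (iv F174936)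
theorem F206556 : act 4 n42060 = n34721 := d18_2 (iv F147931) F206555 F145949
theorem F206557 : act 1 n34721 = n42672 := d11_1 F206556 (iv D42672) (iv F175814)
theorem F206558 : act 3 n34721 = n42242 := d24_1 F206556 (iv D42242) F123097 (iv F122595) (iv F175815)
theorem E33054 : n45637 = n43104 := (c17_5 (iv F178494) F205843 F131446 (iv F132264) D45637 F179993)
theorem F206559 : act 3 n43104 = n31279 := (sb E33054 (iv D45637))
theorem F206560 : act 0 n44718 = n34698 := d46_20 F36249 (iv F51326) (iv F205225) (iv F103148) F205769 F121905 F85263 (iv D19747) F59749 (iv F85252) F85251 F59998 (iv F60735) (iv F86664) D29212 (iv F177942) F177941 F203944 (iv F132091) (iv F186653) F145875 (iv D23815) (iv D16352) (iv D11240) F35079 F24776 F17556 (iv D2888) D2886 F200643 F19134 F19133 F200609 (iv F24211) (iv F200821) (iv F27322) F200499 F34719 (iv F200601) (iv F34641) F34640 D7632 F34688 (iv F34935) D11187 D16277 (iv F202922) F56251 (iv F203346) F61640 F43331 F30563 F21643 F15356 F15355 F15359 F10969 (iv F15245) (iv F21179) (iv F29901) (iv F42344) (iv F204001)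
theorem E33055 : n44519 = n42042 := (c28_3 F205708 (iv F129476) (iv F185846) (iv D42042) (iv D28860) D28858)
theorem F206561 : act 2 n42042 = n30528 := (sb E33055 (iv D44519))
theorem F206562 : act 8 n42042 = n30535 := (sb E33055 F185846)
theorem F206563 : act 0 n31882 = n41959 := d5_3 F205578 (iv F202694) (iv F134580)
theorem F206564 : act 3 n41935 = n31882 := d2_0 F206563 F175406 (iv F175313)
theorem F206565 : act 5 n44274 = n31882 := d4_0 F206563 F175407 (iv F184943)
theorem F206566 : act 7 n42058 = n31882 := d6_0 F206563 F175408 (iv F175806)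
theorem F206567 : act 8 n44272 = n31882 := d7_0 F206563 F205579 (iv F184936)
theorem F206568 : act 6 n32045 = n42058 := d39_5 F206566 F134580 F93913 (iv F94360) (iv F135225)
theorem F206569 : act 0 n42090 = n32045 := d5_3 F206568 F175806 (iv F175911)
theorem F206570 : act 3 n42056 = n32045 := d26_3 F206568 F175808 (iv F175803)
theorem F206571 : act 7 n32033 = n42056 := d27_0 F206570 F135225 (iv F135189)
theorem F206572 : act 0 n42088 = n32033 := d6_3 F206571 F175800 (iv F175907)
theorem F206573 : act 6 n41935 = n31877 := d39_3 F206571 F175803 (iv F175317) F134561 (iv F135191)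
theorem F206574 : act 0 n31877 = n41957 := d5_1 F206573 F175402 (iv F175313)
theorem F206575 : act 8 n32045 = n44507 := d7_2 (iv F205313) F206569 F185809
theorem F206576 : act 2 n33429 = n41594 := d18_1 F205574 F173800 (iv F175914)
theorem F206577 : act 0 n41594 = n31880 := d1_1 F206576 F202319 (iv F141024)
theorem F206578 : act 1 n45012 = n33429 := d9_5 F206576 F173798 (iv F205554) (iv F130835) (iv F187785)
theorem F206579 : act 3 n45079 = n33429 := d17_0 F206576 F173799 F205210 (iv F131023) (iv F188049)
theorem F206580 : act 6 n44426 = n33429 := d20_0 F206576 F205317 (iv F185538)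
theorem F206581 : act 7 n44218 = n33429 := d21_0 F206576 F205318 (iv F184719)
theorem F206582 : act 8 n34198 = n45079 := d28_0 F206579 F202192 F100854 (iv F100492) (iv F144097)
theorem F206583 : act 0 n45012 = n34198 := d7_3 F206582 F188048 (iv F187789)
theorem F206584 : act 1 n45079 = n34160 := d15_1 F206582 F143951 (iv F202198)
theorem F206585 : act 2 n44997 = n34198 := d22_3 F206582 F188049 (iv F187740)
theorem F206586 : act 6 n45201 = n34198 := d40_3 F206582 F188051 (iv F188494)
theorem F206587 : act 7 n44984 = n34198 := d42_3 F206582 F188052 (iv F187675)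
theorem F206588 : act 1 n34038 = n44984 := d14_3 F206587 F202198 (iv F143484)
theorem F206589 : act 3 n33971 = n44984 := d27_3 F206587 F144097 (iv F143217)
theorem F206590 : act 0 n45014 = n33971 := d2_3 F206589 F187671 (iv F187794)
theorem F206591 : act 6 n44249 = n33971 := d26_0 F206589 F187674 (iv F201347)
theorem F206592 : act 1 n33971 = n44262 := d13_1 F206591 F184895 (iv F184839)
theorem F206593 : act 7 n34195 = n44470 := d39_4 (iv F184842) F206591 F143217 (iv F144091) F185679
theorem F206594 : act 0 n45246 = n34195 := d6_3 F206593 (iv F202301) (iv F188639)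
theorem F206595 : act 1 n44493 = n34195 := d14_3 F206593 F185676 (iv F185757)
theorem F206596 : act 3 n45201 = n34195 := d27_3 F206593 F202123 (iv F188493)
theorem F206597 : act 5 n44801 = n34195 := d36_3 F206593 F185678 (iv F186958)
theorem F206598 : act 6 n33362 = n44493 := d13_0 F206595 F144091 (iv F140796)
theorem F206599 : act 2 n44275 = n33362 := d20_3 F206598 F185755 (iv F184952)
theorem F206600 : act 3 n44493 = n34296 := d26_1 F206598 F144423 (iv F202263)
theorem F206601 : act 7 n44262 = n33362 := d39_0 F206598 F185757 F129396 (iv F128809) (iv F184895)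
theorem F206602 : act 3 n34038 = n44262 := d27_3 F206601 F202263 (iv F143484)
theorem F206603 : act 6 n44264 = n34038 := d26_0 F206602 F184895 (iv F184902)
theorem F206604 : act 8 n45014 = n34038 := d28_0 F206602 F201807 F131074 (iv F130788) (iv F187794)
theorem F206605 : act 7 n34160 = n45014 := d42_3 F206604 F143484 (iv F143951)
theorem F206606 : act 3 n45012 = n34160 := d27_3 F206605 F187794 (iv F187788)
theorem F206607 : act 6 n45246 = n34160 := d39_5 F206605 F187796 F130795 (iv F131372) (iv F188639)
theorem F206608 : act 8 n34296 = n45246 := d40_0 F206607 F143951 (iv F144423)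
theorem F206609 : act 1 n45201 = n34296 := d15_3 F206608 F202608 (iv F188494)
theorem F206610 : act 5 n44842 = n34296 := d37_3 F206608 F188638 (iv F202748)
theorem F206611 : act 7 n44495 = n34296 := d42_3 F206608 F188639 (iv F202125)
theorem F206612 : act 8 n31880 = n44275 := d22_0 F206599 F140798 (iv F202319)
theorem F206613 : act 0 n31874 = n41942 := d6_3 F205519 (iv F203537) (iv F134549)
theorem F206614 : act 6 n41924 = n31874 := d5_0 F206613 F175345 (iv F175266)
theorem F206615 : act 8 n41923 = n31874 := d7_0 F206613 (iv D41942) (iv F175263)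
theorem F206616 : act 7 n32015 = n41923 := d42_3 F206615 F134549 (iv F135131)
theorem F206617 : act 0 n41941 = n32015 := d6_3 F206616 F175263 D41941
theorem F206618 : act 6 n42040 = n32015 := d39_5 F206616 (iv D41923) F122221 D28859 D42040
theorem F206619 : act 8 n32030 = n42040 := d40_0 F206618 F135131 (iv F135182)
theorem F206620 : act 0 n42067 = n32030 := d7_3 F206619 F175744 D42067
theorem F206621 : act 7 n42041 = n32030 := d42_3 F206619 (iv D42040) D42041
theorem F206622 : act 0 n41896 = n32016 := d6_3 F205437 F201985 D41896
theorem F206623 : act 1 n32150 = n41679 := d14_3 F205114 (iv F204091) (iv F135673)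
theorem F206624 : act 4 n44759 = n32150 := d11_0 F206623 F205113 (iv F186790)
theorem F206625 : act 5 n41670 = n32150 := d12_0 F206623 F174190 (iv F174146)
theorem F206626 : act 0 n32203 = n41670 := d4_3 F206625 F135670 (iv F135896)
theorem F206627 : act 7 n32147 = n41670 := d36_0 F206625 F135673 (iv F135658)
theorem F206628 : act 1 n41681 = n32147 := d14_3 F206627 F174146 (iv F174202)
theorem F206629 : act 4 n42285 = n32147 := d32_3 F206627 F174148 (iv F176725)
theorem F206630 : act 0 n32208 = n42285 := d3_3 F206629 F135656 (iv F135914)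
theorem F206631 : act 3 n42236 = n32208 := d2_0 F206630 F176723 (iv F176543)
theorem F206632 : act 7 n42238 = n32208 := d6_0 F206630 F176725 (iv F176551)
theorem F206633 : act 4 n32203 = n42238 := d32_3 F206632 F135914 (iv F135897)
theorem F206634 : act 6 n41638 = n32203 := d31_0 F206633 F176554 (iv F174006)
theorem F206635 : act 0 n32214 = n44759 := d3_3 F206624 F135670 (iv F135940)
theorem F206636 : act 2 n31995 = n42266 := d18_3 (iv D42266) F205047 D31995
theorem F206637 : act 0 n42266 = n32064 := d1_1 F206636 F135295 (iv F135048)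
theorem F206638 : act 7 n41655 = n31995 := d21_0 F206636 F176658 (iv F174081)
theorem F206639 : act 0 n31796 = n41655 := d6_3 F206638 F135048 (iv F204797)
theorem F206640 : act 3 n31795 = n41655 := d27_3 F206638 F135050 (iv F204786)
theorem F206641 : act 2 n42223 = n31796 := d1_0 F206639 F174081 (iv F176492)
theorem F206642 : act 7 n32064 = n42223 := d21_0 F206641 F204797 (iv F135295)
theorem F206643 : act 4 n32145 = n42284 := d18_2 F205045 D32145 (iv D42284)
theorem F206644 : act 0 n42284 = n32205 := d3_1 F206643 (iv D32205) (iv F135648)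
theorem F206645 : act 7 n41669 = n32145 := d32_0 F206643 F176720 (iv F174143)
theorem F206646 : act 0 n32201 = n41669 := d6_3 F206645 F135648 (iv F135889)
theorem F206647 : act 3 n32182 = n41669 := d27_3 F206645 F135649 (iv F135803)
theorem F206648 : act 5 n32148 = n41669 := d36_3 F206645 F135650 (iv F135663)
theorem F206649 : act 4 n42237 = n32201 := d3_0 F206646 F174143 (iv F176548)
theorem F206650 : act 1 n32363 = n42237 := d11_3 F206649 F204887 D32363
theorem F206651 : act 7 n32205 = n42237 := d32_0 F206649 F135889 D32205
theorem F206652 : act 6 n32082 = n45649 := d20_2 F204936 (iv F135361) F190000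
theorem F206653 : act 6 n32084 = n44964 := d40_3 F187586 F204936 D32084
theorem F206654 : act 4 n44961 = n32084 := d31_3 F206653 (iv D44964) (iv F187571)
theorem F206655 : act 7 n32091 = n44961 := d32_0 F206654 F135372 (iv F135400)
theorem F206656 : act 3 n44958 = n32091 := d27_3 F206655 (iv D44961) (iv F187559)
theorem F206657 : act 4 n45646 = n32082 := d31_3 F206652 (iv D45649) (iv F189989)
theorem F206658 : act 7 n32089 = n45646 := d32_0 F206657 F135364 (iv F135392)
theorem F206659 : act 3 n45643 = n32089 := d27_3 F206658 (iv D45646) (iv F189977)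
theorem F206660 : act 7 n45912 = n32188 := d32_2 (iv F135813) F204902 F135828
theorem F206661 : act 8 n32188 = n45909 := d42_2 D45912 F206660 F190880
theorem F206662 : act 1 n45879 = n32266 := d11_1 F204895 F136143 (iv F136137)
theorem F206663 : act 7 n32266 = n45881 := d14_2 (iv F190769) F206662 F190775
theorem F206664 : act 8 n32266 = n45878 := d15_2 D45879 F206662 F190761
theorem F206665 : act 7 n46336 = n32186 := d32_2 (iv F135803) F204884 (iv D32186)
theorem F206666 : act 7 n43650 = n32320 := d32_2 (iv F136355) F204880 (iv D32320)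
theorem F206667 : act 0 n32320 = n43644 := d6_1 F206666 F182306 D43650
theorem F206668 : act 3 n32320 = n43686 := d27_1 F206666 F182471 (iv F182327)
theorem F206669 : act 9 n32320 = n46251 := d43_2 (iv F204530) F206666 F192223
theorem F206670 : act 1 n43686 = n32322 := d10_1 F206668 (iv D32322) (iv F136379)
theorem F206671 : act 7 n32322 = n43601 := d14_2 (iv F182471) F206670 F182138
theorem F206672 : act 9 n46301 = n32322 := d43_0 F206671 F204540 (iv F192402)
theorem F206673 : act 1 n32265 = n46335 := d10_3 (iv D46335) F204769 D32265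
theorem F206674 : act 7 n46337 = n32265 := d14_0 F206673 F192516 (iv F192521)
theorem F206675 : act 1 n32353 = n43018 := d15_3 F179687 F204768 D32353
theorem F206676 : act 7 n43020 = n32353 := d14_0 F206675 F179686 D43020
theorem E33056 : n46287 = n43701 := ((c3_2 F204658 D43701 (iv D46287) (iv F204423))).symm
theorem F206677 : act 4 n43701 = n31726 := (sb E33056 (iv D46287))
theorem F206678 : act 6 n43701 = n31729 := (sb E33056 F192353)
theorem E33057 : n46117 = n45664 := (c10_3 (iv F190200) F204288 D46117 F190049)
theorem F206679 : act 3 n45664 = n31601 := (sb E33057 (iv D46117))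
theorem F206680 : act 4 n34822 = n42773 := d24_4 (iv F179134) F204277 F133289 (iv F146377) F178714
theorem F206681 : act 0 n42802 = n34822 := d3_3 F206680 F178712 (iv F178842)
theorem F206682 : act 3 n34778 = n42802 := d2_0 F206681 F146377 (iv F146187)
theorem F206683 : act 1 n42815 = n34778 := d10_3 F206682 F178841 (iv F178902)
theorem F206684 : act 8 n34885 = n42815 := d15_0 F206683 F146190 (iv F146648)
theorem F206685 : act 4 n44763 = n32157 := d3_2 F204256 D44763 (iv D32157)
theorem F206686 : act 4 n44760 = n32151 := d31_3 F135675 F204256 (iv F186795)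
theorem F206687 : act 4 n44764 = n32159 := d34_3 (iv D32159) F204256 D44764
theorem F206688 : act 2 n32159 = n44661 := d18_1 F206687 F186415 (iv F186807)
theorem F206689 : act 2 n32151 = n44657 := d18_1 F206686 F186394 (iv F186794)
theorem F206690 : act 1 n32225 = n44763 := d11_3 F206685 F135696 D32225
theorem F206691 : act 2 n32157 = n44660 := d18_1 F206685 F186409 (iv F186803)
theorem F206692 : act 4 n44765 = n32162 := d18_2 F204254 (iv F186809) F135718
theorem F206693 : act 4 n44762 = n32156 := d31_3 F135694 F204254 (iv F186801)
theorem F206694 : act 0 n32224 = n44762 := d3_3 F206693 F135692 (iv F135976)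
theorem F206695 : act 1 n32156 = n44659 := d11_1 F206693 F186404 (iv F186799)
theorem F206696 : act 3 n44863 = n32224 := d2_0 F206694 F186800 (iv F187202)
theorem F206697 : act 0 n32232 = n44765 := d3_3 F206692 F135717 (iv F136010)
theorem F206698 : act 4 n44761 = n32153 := d31_3 F135684 F204252 (iv F186798)
theorem F206699 : act 0 n32220 = n44761 := d3_3 F206698 F135681 (iv F135963)
theorem F206700 : act 8 n42236 = n32245 := d33_2 F204229 (iv F176545) F136062
theorem F206701 : act 0 n32245 = n42169 := d7_1 F206700 F176253 (iv F176543)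
theorem F206702 : act 8 n42234 = n32242 := d37_2 F204227 (iv F176536) F136052
theorem F206703 : act 0 n32242 = n42167 := d7_1 F206702 F176243 (iv F176534)
theorem F206704 : act 0 n42171 = n32235 := d2_3 F136024 F204226 (iv F176258)
theorem F206705 : act 0 n42168 = n32234 := d2_3 F136019 F204225 D42168
theorem F206706 : act 0 n42165 = n32241 := d4_3 F136049 F204225 (iv F176234)
theorem F206707 : act 3 n42241 = n32236 := d25_3 F136029 F204224 (iv F176565)
theorem F206708 : act 0 n32236 = n42174 := d2_1 F206707 F176271 (iv F176563)
theorem F206709 : act 0 n42173 = n32231 := d1_3 F136005 F204222 (iv F176266)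
theorem F206710 : act 0 n42170 = n32230 := d1_3 F136002 F204221 D42170
theorem F206711 : act 0 n42166 = n32222 := d4_3 F135970 F204221 (iv F176237)
theorem F206712 : act 8 n34877 = n42817 := d33_2 D42940 F204171 F178913
theorem F206713 : act 1 n34772 = n42812 := d12_1 F204162 F178888 (iv F179281)
theorem F206714 : act 2 n45658 = n34772 := d9_0 F206713 F204137 F203926 (iv F132437) (iv F190030)
theorem F206715 : act 7 n43499 = n34772 := d14_0 F206713 F204138 (iv F181687)
theorem F206716 : act 0 n34811 = n43499 := d6_3 F206715 F146164 (iv F146338)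
theorem F206717 : act 2 n44789 = n34811 := d1_0 F206716 F203623 (iv F186904)
theorem F206718 : act 6 n42785 = n34811 := d5_0 F206716 F181688 (iv F203745)
theorem F206719 : act 3 n34811 = n42789 := d26_1 F206718 F178785 (iv F178767)
theorem F206720 : act 7 n42789 = n34812 := d27_2 (iv F146338) F206719 (iv D34812)
theorem F206721 : act 2 n34812 = n42899 := d21_1 F206720 F179235 (iv F178784)
theorem F206722 : act 4 n34812 = n42787 := d32_1 F206720 F178776 D42789
theorem F206723 : act 7 n34509 = n44789 := d21_0 F206717 F146338 (iv F145187)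
theorem F206724 : act 0 n45658 = n34509 := d6_3 F206723 F186904 (iv F190033)
theorem F206725 : act 1 n44820 = n34509 := d14_3 F206723 F186905 (iv F187042)
theorem F206726 : act 8 n42813 = n34884 := d37_2 F204114 (iv F178893) F146645
theorem F206727 : act 1 n34776 = n42813 := d15_3 F206726 F146643 (iv F146182)
theorem F206728 : act 3 n42800 = n34776 := d10_0 F206727 F178892 (iv F178832)
theorem F206729 : act 0 n34819 = n42800 := d2_3 F206728 F146179 (iv F146365)
theorem F206730 : act 4 n44758 = n32148 := d32_3 F135663 F204089 (iv F186788)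
theorem F206731 : act 0 n32211 = n44758 := d3_3 F206730 F135660 D32211
theorem F206732 : act 0 n44757 = n32223 := d4_3 F135974 F204088 (iv F186786)
theorem F206733 : act 0 n44755 = n32219 := d4_3 (iv D32219) F204087 (iv F186780)
theorem F206734 : act 8 n44505 = n32048 := d33_2 F204071 (iv F185803) F135236
theorem F206735 : act 8 n44855 = n32239 := d42_2 F204071 (iv F187171) F136042
theorem F206736 : act 0 n32239 = n44754 := d7_1 F206735 F186779 (iv F187168)
theorem F206737 : act 0 n32048 = n44438 := d7_1 F206734 F185579 (iv F185801)
theorem F206738 : act 0 n42009 = n32047 := d3_3 F135232 F204068 (iv F175619)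
theorem F206739 : act 9 n42213 = n34724 := d23_2 F204067 (iv F176456) F145958
theorem F206740 : act 9 n42052 = n35219 := d34_2 F204067 (iv F175786) F147940
theorem F206741 : act 9 n42231 = n35305 := d41_2 F204067 D42231 F148274
theorem F206742 : act 0 n35305 = n42164 := d8_1 F206741 F176232 (iv F176520)
theorem F206743 : act 0 n35219 = n42008 := d8_1 F206740 F175617 (iv F175784)
theorem F206744 : act 0 n34724 = n42146 := d8_1 F206739 F176154 (iv F176455)
theorem F206745 : act 4 n34830 = n42747 := d11_2 F204060 (iv F146404) F178590
theorem F206746 : act 4 n34825 = n42760 := d31_3 F178651 F204060 (iv F146388)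
theorem F206747 : act 0 n42783 = n34825 := d3_3 F206746 F178649 (iv F178760)
theorem F206748 : act 4 n34819 = n42788 := d34_3 (iv D42788) F204058 D34819
theorem F206749 : act 2 n42802 = n34819 := d18_3 F206748 F178779 (iv F178842)
theorem F206750 : act 7 n42783 = n34819 := d32_0 F206748 F178781 (iv F178760)
theorem F206751 : act 7 n42800 = n34825 := d6_2 F206750 F206729 (iv F206747)
theorem F206752 : act 3 n34816 = n42783 := d27_3 F206750 F146365 (iv F146356)
theorem F206753 : act 5 n34822 = n42783 := d36_3 F206750 F146366 (iv F146379)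
theorem F206754 : act 5 n34825 = n42802 := d4_2 F206753 F206747 F206681
theorem F206755 : act 2 n42800 = n34822 := d19_3 F206753 F178759 (iv F178833)
theorem F206756 : act 1 n42810 = n34825 := d12_3 F206754 F178841 (iv F178879)
theorem F206757 : act 6 n34830 = n42810 := d13_0 F206756 F146388 (iv F146404)
theorem F206758 : act 3 n42810 = n34877 := d26_1 F206757 F146614 (iv F204063)
theorem F206759 : act 5 n34877 = n42815 := d25_2 (iv F178879) F206758 F178902
theorem F206760 : act 7 n34877 = n42813 := d27_2 (iv F178880) F206758 F178892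
theorem F206761 : act 2 n42813 = n34885 := d21_1 F206760 F146651 (iv F146613)
theorem F206762 : act 7 n34884 = n42817 := d42_3 (iv F206712) F206760 F206726
theorem F206763 : act 1 n42817 = n34891 := d14_1 F206762 F146674 (iv F146643)
theorem F206764 : act 2 n42815 = n34884 := d21_3 F206762 F178911 (iv F178905)
theorem F206765 : act 4 n42936 = n34884 := d32_3 F206762 F178913 (iv F179362)
theorem F206766 : act 5 n42817 = n34885 := d36_1 F206762 F146651 (iv F146645)
theorem F206767 : act 1 n34889 = n42936 := d11_3 F206765 F146643 (iv F146664)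
theorem F206768 : act 7 n42939 = n34889 := d14_0 F206767 F179362 (iv F179371)
theorem F206769 : act 0 n34895 = n42939 := d6_3 F206768 F146663 (iv F146689)
theorem F206770 : act 4 n34891 = n42939 := d32_3 F206768 F146664 (iv F146674)
theorem F206771 : act 6 n42820 = n34891 := d31_0 F206770 F179372 (iv F178928)
theorem F206772 : act 0 n33878 = n42820 := d5_3 F206771 F146671 (iv F203291)
theorem F206773 : act 2 n42820 = n33825 := d1_2 (iv F142822) F206772 F142605
theorem F206774 : act 4 n42941 = n33878 := d3_0 F206772 F178928 (iv F179377)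
theorem F206775 : act 2 n33880 = n42941 := d18_3 F206774 F142822 (iv F142831)
theorem F206776 : act 6 n34895 = n42941 := d31_0 F206774 F203291 (iv F146688)
theorem F206777 : act 0 n42923 = n33880 := d1_3 F206775 F179377 (iv F179309)
theorem F206778 : act 5 n45623 = n33880 := d19_0 F206775 F179379 (iv F189899)
theorem F206779 : act 1 n34702 = n45623 := d12_3 F206778 F142830 (iv F145887)
theorem F206780 : act 0 n42145 = n34702 := d0_5 F206779 F189898 F132233 F203811 (iv F176145)
theorem F206781 : act 8 n34702 = n42212 := d7_2 (iv F176150) F206780 F176450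
theorem F206782 : act 8 n33880 = n44791 := d7_2 (iv F203073) F206777 F186912
theorem F206783 : act 8 n34521 = n42820 := d22_0 F206773 F202567 (iv F145226)
theorem F206784 : act 6 n42786 = n34816 := d26_0 F206752 F178761 (iv F178770)
theorem F206785 : act 8 n33878 = n42786 := d40_0 F206784 F146357 (iv F203291)
theorem F206786 : act 0 n42786 = n34521 := d7_1 F206785 F206783 (iv F206772)
theorem F206787 : act 2 n42786 = n33791 := d22_1 F206785 F203296 (iv F142822)
theorem F206788 : act 1 n34647 = n42917 := d9_3 D29460 F204053 (iv F145671) (iv D42917) F124944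
theorem F206789 : act 1 n34888 = n42181 := d10_3 F176304 F204053 D34888
theorem F206790 : act 7 n42183 = n34888 := d14_0 F206789 F176307 D42183
theorem F206791 : act 0 n34894 = n42183 := d6_3 F206790 F146659 (iv F146685)
theorem F206792 : act 6 n42186 = n34894 := d5_0 F206791 F176316 D42186
theorem F206793 : act 0 n44719 = n33867 := d0_3 F206788 F203604 (iv F186656) F142778 (iv F145670)
theorem F206794 : act 7 n42919 = n34647 := d14_0 F206788 F179289 D42919
theorem F206795 : act 0 n33875 = n42919 := d6_3 F206794 F145670 (iv F203213)
theorem F206796 : act 8 n44822 = n34699 := d40_2 F203712 (iv F187049) F145878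
theorem F206797 : act 0 n34699 = n44721 := d7_1 F206796 F186668 (iv F187046)
theorem F206798 : act 9 n42193 = n33908 := d16_2 F203697 (iv F176365) F142934
theorem F206799 : act 9 n42209 = n34717 := d29_2 F203697 (iv F176439) F145936
theorem F206800 : act 0 n34717 = n42142 := d8_1 F206799 F176136 (iv F176437)
theorem F206801 : act 1 n46121 = n34717 := d0_0 F206800 F176131 (iv F203807) D31605 D46121
theorem F206802 : act 3 n33908 = n46121 := d10_0 F206801 F145936 (iv F142934)
theorem F206803 : act 0 n42826 = n33908 := d2_3 F206802 (iv D46121) (iv F203076)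
theorem F206804 : act 0 n42143 = n34701 := d5_3 (iv D34701) F203695 (iv F176140)
theorem F206805 : act 1 n34701 = n45620 := d0_2 (iv F176137) F206804 (iv D45620) (iv D31267) F203779
theorem F206806 : act 8 n42056 = n32051 := d33_2 F203683 (iv F175802) F135246
theorem F206807 : act 0 n32051 = n42012 := d7_1 F206806 F175631 (iv F175800)
theorem F206808 : act 0 n42010 = n32050 := d3_3 F135243 F203681 (iv F175623)
theorem F206809 : act 4 n44444 = n31975 := d18_2 F203632 (iv F185591) F134973
theorem F206810 : act 0 n32039 = n44444 := d3_3 F206809 F134972 (iv F135207)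
theorem F206811 : act 9 n42040 = n34387 := d23_2 F203544 (iv F175745) F144707
theorem F206812 : act 0 n34387 = n41996 := d8_1 F206811 F175567 (iv F175744)
theorem F206813 : act 8 n41935 = n31885 := d42_2 F203542 (iv F175317) F134592
theorem F206814 : act 0 n31885 = n41906 := d7_1 F206813 F175182 (iv F175313)
theorem F206815 : act 0 n42014 = n32042 := d2_3 F135214 F203541 (iv F175635)
theorem F206816 : act 0 n42011 = n32041 := d2_3 F135211 F203540 D42011
theorem F206817 : act 0 n42013 = n32038 := d1_3 F135204 F203538 D42013
theorem F206818 : act 9 n42039 = n34384 := d34_2 F203453 (iv F175742) F144699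
theorem F206819 : act 0 n34384 = n41995 := d8_1 F206818 F175563 (iv F175740)
theorem F206820 : act 7 n44868 = n34698 := d42_3 F145875 F203450 D44868
theorem F206821 : act 1 n34698 = n45780 := d14_1 F206820 F190482 (iv F187225)
theorem F206822 : act 4 n34698 = n44870 := d32_1 F206820 F187236 (iv F187227)
theorem F206823 : act 9 n44826 = n34721 := d23_2 F203437 (iv F187062) F145949
theorem F206824 : act 0 n34721 = n44725 := d8_1 F206823 F186682 (iv F187061)
theorem F206825 : act 7 n34689 = n44876 := d27_2 F203213 D34689 F187256
theorem F206826 : act 1 n45790 = n34689 := d14_3 F206825 F187255 (iv F190508)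
theorem F206827 : act 4 n44873 = n34689 := d32_3 F206825 (iv D44876) (iv F187245)
theorem F206828 : act 8 n44891 = n34689 := d42_0 F206825 F187258 (iv F187306)
theorem F206829 : act 9 n42030 = n33491 := d38_2 F202871 (iv F175707) F141237
theorem F206830 : act 0 n33491 = n42541 := d8_1 F206829 F177853 (iv F175703)
theorem F206831 : act 9 n42028 = n33488 := d16_2 F202701 (iv F175695) F141224
theorem F206832 : act 0 n33488 = n42539 := d8_1 F206831 F177844 (iv F175694)
theorem F206833 : act 9 n41923 = n34097 := d23_2 F202697 (iv F175264) F143702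
theorem F206834 : act 0 n34097 = n41894 := d8_1 F206833 F175126 (iv F175263)
theorem F206835 : act 9 n41918 = n33206 := d16_2 F201986 (iv F175239) F140188
theorem F206836 : act 0 n33206 = n42348 := d8_1 F206835 F177021 (iv F175238)
theorem F206837 : act 0 n41994 = n34354 := d4_3 (iv D34354) F201799 (iv F175558)
theorem E33058 : n42509 = n42366 := (c27_2 F199571 D42509 F177110 (iv F176881))
theorem F206838 : act 3 n42366 = n29174 := (sb E33058 (iv D42509))
def n46341 : Q := act 8 n31851
theorem D46341 : act 8 n31851 = n46341 := rfl
theorem F206839 : act 0 n46341 = n31901 := d7_1 D46341 (iv D31901) (iv F134449)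
theorem F206840 : act 1 n46341 = n46341 := d15_1 D46341 (iv D46341) F134450
theorem F206841 : act 3 n46341 = n46341 := d28_1 D46341 (iv D46341) F134451 F93816 (iv F134451)
theorem F206842 : act 6 n46341 = n31854 := d40_1 D46341 (iv D31854) (iv F134452)
theorem F206843 : act 9 n46341 = n46341 := d44_2 D31851 D46341 (iv D46341) (iv D31851) F93811
def n46342 : Q := act 8 n31853
theorem D46342 : act 8 n31853 = n46342 := rfl
theorem F206844 : act 0 n46342 = n31904 := d7_1 D46342 (iv D31904) (iv F134457)
theorem F206845 : act 2 n46342 = n31854 := d22_1 D46342 (iv D31854) (iv F134458)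
theorem F206846 : act 5 n46342 = n46342 := d37_1 D46342 (iv D46342) F134459
theorem F206847 : act 7 n46342 = n32004 := d42_1 D46342 (iv D32004) (iv F134460)
theorem F206848 : act 9 n46342 = n46342 := d44_2 D31853 D46342 (iv D46342) (iv D31853) F93820
def n46343 : Q := act 4 n31873
theorem D46343 : act 4 n31873 = n46343 := rfl
theorem F206849 : act 1 n46343 = n31874 := d11_1 D46343 (iv D31874) D31873
theorem F206850 : act 2 n46343 = n46343 := d18_1 D46343 (iv D46343) F134544
theorem F206851 : act 7 n46343 = n32036 := d32_2 (iv F134547) D46343 (iv D32036)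
def n46344 : Q := act 9 n31873
theorem D46344 : act 9 n31873 = n46344 := rfl
theorem F206852 : act 1 n46344 = n31875 := d16_1 D46344 (iv D31875) D31873
theorem F206853 : act 2 n46344 = n46344 := d23_1 D46344 (iv D46344) F134544
theorem F206854 : act 3 n46344 = n31903 := d29_1 D46344 (iv D31903) (iv F134545)
theorem F206855 : act 5 n46344 = n46344 := d38_1 D46344 (iv D46344) F134546
theorem F206856 : act 7 n46344 = n32037 := d43_1 D46344 (iv D32037) (iv F134547)
def n46345 : Q := act 5 n31874
theorem D46345 : act 5 n31874 = n46345 := rfl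
theorem F206857 : act 2 n46345 = n31876 := d19_1 D46345 (iv D31876) (iv F134548)
theorem F206858 : act 4 n46345 = n46345 := d30_1 D46345 (iv D46345) (iv D31874) F93880 D31874
theorem F206859 : act 7 n46345 = n32038 := d36_2 (iv F134549) D46345 (iv D32038)
def n46346 : Q := act 9 n31874
theorem D46346 : act 9 n31874 = n46346 := rfl
theorem F206860 : act 2 n46346 = n31877 := d23_1 D46346 (iv D31877) (iv F134548)
theorem F206861 : act 4 n46346 = n31875 := d34_1 D46346 (iv D31875) D31874
theorem F206862 : act 7 n46346 = n32039 := d43_1 D46346 (iv D32039) (iv F134549)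
def n46347 : Q := act 9 n31876
theorem D46347 : act 9 n31876 = n46347 := rfl
theorem F206863 : act 1 n46347 = n46347 := d16_1 D46347 (iv D46347) F134554
theorem F206864 : act 3 n46347 = n31885 := d29_1 D46347 (iv D31885) (iv F134555)
theorem F206865 : act 4 n46347 = n46347 := d34_1 D46347 (iv D46347) F134556
theorem F206866 : act 5 n46347 = n31877 := d38_1 D46347 (iv D31877) D31876
theorem F206867 : act 7 n46347 = n32042 := d43_1 D46347 (iv D32042) (iv F134557)
def n46348 : Q := act 8 n31877
theorem D46348 : act 8 n31877 = n46348 := rfl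
theorem F206868 : act 1 n46348 = n46348 := d15_1 D46348 (iv D46348) F134558
theorem F206869 : act 4 n46348 = n31878 := d33_1 D46348 (iv D31878) (iv F134560)
theorem F206870 : act 6 n46348 = n31885 := d40_1 D46348 (iv F206813) F206573
theorem F206871 : act 7 n46348 = n32043 := d42_1 D46348 (iv D32043) (iv F134561)
theorem F206872 : act 9 n46348 = n31884 := d44_2 D31877 D46348 F134588 F202697 F205434
def n46349 : Q := act 7 n31884
theorem D46349 : act 7 n31884 = n46349 := rfl
theorem F206873 : act 1 n46349 = n46349 := d14_1 D46349 (iv D46349) F134586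
theorem F206874 : act 4 n46349 = n31887 := d32_1 D46349 (iv D31887) (iv F134587)
theorem F206875 : act 6 n46349 = n32050 := d39_1 D46349 (iv D32050) (iv D21991) (iv F93909) D31884
theorem F206876 : act 8 n46349 = n32018 := d42_2 (iv F134588) D46349 F205440
theorem F206877 : act 9 n46349 = n32043 := d43_2 F206872 D46349 (iv F206871)
def n46350 : Q := act 9 n31895
theorem D46350 : act 9 n31895 = n46350 := rfl
theorem F206878 : act 1 n46350 = n31913 := d16_1 D46350 (iv D31913) (iv F134633)
theorem F206879 : act 3 n46350 = n46350 := d29_1 D46350 (iv D46350) F134634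
theorem F206880 : act 4 n46350 = n31896 := d34_1 D46350 (iv D31896) D31895
theorem F206881 : act 6 n46350 = n46350 := d41_1 D46350 (iv D46350) F134635
def n46351 : Q := act 8 n31896
theorem D46351 : act 8 n31896 = n46351 := rfl
theorem F206882 : act 1 n46351 = n31914 := d15_1 D46351 (iv D31914) (iv F134637)
theorem F206883 : act 3 n46351 = n46351 := d28_1 D46351 (iv D46351) F134638 F93950 (iv F134638)
theorem F206884 : act 5 n46351 = n31901 := d37_1 D46351 (iv D31901) (iv F134639)
theorem F206885 : act 6 n46351 = n46351 := d40_1 D46351 (iv D46351) F134640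
theorem F206886 : act 9 n46351 = n46351 := d44_2 D31896 D46351 (iv D46351) (iv D31896) F93945
def n46352 : Q := act 8 n31898
theorem D46352 : act 8 n31898 = n46352 := rfl
theorem F206887 : act 1 n46352 = n31917 := d15_1 D46352 (iv D31917) (iv F134644)
theorem F206888 : act 3 n46352 = n46352 := d28_1 D46352 (iv D46352) F134645 F93959 (iv F134645)
theorem F206889 : act 6 n46352 = n32070 := d40_1 D46352 (iv D32070) (iv F134646)
theorem F206890 : act 7 n46352 = n31901 := d42_1 D46352 (iv D31901) (iv F134647)
theorem F206891 : act 9 n46352 = n46352 := d44_2 D31898 D46352 (iv D46352) (iv D31898) F93954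
def n46353 : Q := act 9 n31899
theorem D46353 : act 9 n31899 = n46353 := rfl
theorem F206892 : act 1 n46353 = n31900 := d16_1 D46353 (iv D31900) D31899
theorem F206893 : act 2 n46353 = n31919 := d23_1 D46353 (iv D31919) (iv F134648)
theorem F206894 : act 6 n46353 = n31903 := d41_1 D46353 (iv D31903) (iv F134649)
def n46354 : Q := act 8 n31900
theorem D46354 : act 8 n31900 = n46354 := rfl
theorem F206895 : act 2 n46354 = n31901 := d22_1 D46354 (iv D31901) (iv F134651)
theorem F206896 : act 6 n46354 = n31904 := d40_1 D46354 (iv D31904) (iv F134652)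
theorem F206897 : act 9 n46354 = n46354 := d44_2 D31900 D46354 (iv D46354) (iv D31900) F93961
def n46355 : Q := act 9 n31902
theorem D46355 : act 9 n31902 = n46355 := rfl
theorem F206898 : act 0 n46355 = n31903 := d8_1 D46355 (iv D31903) D31902
theorem F206899 : act 2 n46355 = n31921 := d23_1 D46355 (iv D31921) (iv F134657)
theorem F206900 : act 5 n46355 = n46355 := d38_1 D46355 (iv D46355) F134658
theorem F206901 : act 7 n46355 = n32074 := d43_1 D46355 (iv D32074) (iv F134659)
def n46356 : Q := act 8 n31903
theorem D46356 : act 8 n31903 = n46356 := rfl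
theorem F206902 : act 1 n46356 = n31904 := d15_1 D46356 (iv D31904) (iv F134661)
theorem F206903 : act 2 n46356 = n31922 := d22_1 D46356 (iv D31922) (iv F134662)
theorem F206904 : act 5 n46356 = n46356 := d37_1 D46356 (iv D46356) F134663
theorem F206905 : act 7 n46356 = n32075 := d42_1 D46356 (iv D32075) (iv F134664)
theorem F206906 : act 9 n46356 = n46356 := d44_2 D31903 D46356 (iv D46356) (iv D31903) F93968
def n46357 : Q := act 3 n31904
theorem D46357 : act 3 n31904 = n46357 := rfl
theorem F206907 : act 2 n46357 = n46357 := d17_1 D46357 (iv D46357) F134665 F93973 (iv F134665)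
theorem F206908 : act 5 n46357 = n46357 := d25_2 F134666 D46357 (iv D46357)
theorem F206909 : act 7 n46357 = n32076 := d27_2 (iv F134667) D46357 (iv D32076)
theorem F206910 : act 9 n46357 = n46357 := d29_2 F134668 D46357 (iv D46357)
def n46358 : Q := act 9 n31907
theorem D46358 : act 9 n31907 = n46358 := rfl
theorem F206911 : act 0 n46358 = n46358 := d8_1 D46358 (iv D46358) F134681
theorem F206912 : act 2 n46358 = n31909 := d23_1 D46358 (iv D31909) D31907
theorem F206913 : act 3 n46358 = n46358 := d29_1 D46358 (iv D46358) F134682
theorem F206914 : act 5 n46358 = n31916 := d38_1 D46358 (iv D31916) (iv F134683)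
theorem F206915 : act 7 n46358 = n31912 := d43_1 D46358 (iv D31912) (iv F134684)
def n46359 : Q := act 9 n31908
theorem D46359 : act 9 n31908 = n46359 := rfl
theorem F206916 : act 0 n46359 = n46359 := d8_1 D46359 (iv D46359) F134686
theorem F206917 : act 3 n46359 = n46359 := d29_1 D46359 (iv D46359) F134687
theorem F206918 : act 4 n46359 = n31909 := d34_1 D46359 (iv D31909) D31908
theorem F206919 : act 7 n46359 = n31913 := d43_1 D46359 (iv D31913) (iv F134688)
def n46360 : Q := act 8 n31909
theorem D46360 : act 8 n31909 = n46360 := rfl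
theorem F206920 : act 0 n46360 = n46360 := d7_1 D46360 (iv D46360) F134690
theorem F206921 : act 3 n46360 = n46360 := d28_1 D46360 (iv D46360) F134691 F93992 (iv F134691)
theorem F206922 : act 5 n46360 = n31917 := d37_1 D46360 (iv D31917) (iv F134692)
theorem F206923 : act 7 n46360 = n31914 := d42_1 D46360 (iv D31914) (iv F134693)
theorem F206924 : act 9 n46360 = n46360 := d44_2 D31909 D46360 (iv D46360) (iv D31909) F93986
def n46361 : Q := act 9 n31910
theorem D46361 : act 9 n31910 = n46361 := rfl
theorem F206925 : act 1 n46361 = n31912 := d16_1 D46361 (iv D31912) D31910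
theorem F206926 : act 3 n46361 = n46361 := d29_1 D46361 (iv D46361) F134694
theorem F206927 : act 5 n46361 = n31919 := d38_1 D46361 (iv D31919) (iv F134695)
theorem F206928 : act 6 n46361 = n46361 := d41_1 D46361 (iv D46361) F134696
def n46362 : Q := act 9 n31911
theorem D46362 : act 9 n31911 = n46362 := rfl
theorem F206929 : act 0 n46362 = n46362 := d8_1 D46362 (iv D46362) F134698
theorem F206930 : act 2 n46362 = n31913 := d23_1 D46362 (iv D31913) (iv F134699)
theorem F206931 : act 4 n46362 = n31912 := d34_1 D46362 (iv D31912) D31911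
theorem F206932 : act 6 n46362 = n46362 := d41_1 D46362 (iv D46362) F134700
def n46363 : Q := act 8 n31912
theorem D46363 : act 8 n31912 = n46363 := rfl
theorem F206933 : act 0 n46363 = n46363 := d7_1 D46363 (iv D46363) F134702
theorem F206934 : act 2 n46363 = n31914 := d22_1 D46363 (iv D31914) (iv F134703)
theorem F206935 : act 5 n46363 = n31920 := d37_1 D46363 (iv D31920) (iv F134705)
theorem F206936 : act 6 n46363 = n46363 := d40_1 D46363 (iv D46363) F134706
theorem F206937 : act 9 n46363 = n46363 := d44_2 D31912 D46363 (iv D46363) (iv D31912) F93997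
def n46364 : Q := act 8 n31913
theorem D46364 : act 8 n31913 = n46364 := rfl
theorem F206938 : act 0 n46364 = n46364 := d7_1 D46364 (iv D46364) F134707
theorem F206939 : act 4 n46364 = n31914 := d33_1 D46364 (iv D31914) (iv F134709)
theorem F206940 : act 6 n46364 = n46364 := d40_1 D46364 (iv D46364) F134710
theorem F206941 : act 9 n46364 = n46364 := d44_2 D31913 D46364 (iv D46364) (iv D31913) F94001
def n46365 : Q := act 9 n31915
theorem D46365 : act 9 n31915 = n46365 := rfl
theorem F206942 : act 1 n46365 = n31916 := d16_1 D46365 (iv D31916) D31915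
theorem F206943 : act 3 n46365 = n46365 := d29_1 D46365 (iv D46365) F134716
theorem F206944 : act 6 n46365 = n32093 := d41_1 D46365 (iv D32093) (iv F134717)
theorem F206945 : act 7 n46365 = n31919 := d43_1 D46365 (iv D31919) (iv F134718)
def n46366 : Q := act 8 n31916
theorem D46366 : act 8 n31916 = n46366 := rfl
theorem F206946 : act 0 n46366 = n46366 := d7_1 D46366 (iv D46366) F134720
theorem F206947 : act 2 n46366 = n31917 := d22_1 D46366 (iv D31917) (iv F134721)
theorem F206948 : act 6 n46366 = n32094 := d40_1 D46366 (iv D32094) (iv F134723)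
theorem F206949 : act 7 n46366 = n31920 := d42_1 D46366 (iv D31920) (iv F134724)
theorem F206950 : act 9 n46366 = n46366 := d44_2 D31916 D46366 (iv D46366) (iv D31916) F94010
def n46367 : Q := act 9 n31918
theorem D46367 : act 9 n31918 = n46367 := rfl
theorem F206951 : act 0 n46367 = n31919 := d8_1 D46367 (iv D31919) D31918
theorem F206952 : act 1 n46367 = n46367 := d16_1 D46367 (iv D46367) F134730
theorem F206953 : act 3 n46367 = n46367 := d29_1 D46367 (iv D46367) F134731
theorem F206954 : act 6 n46367 = n31921 := d41_1 D46367 (iv D31921) (iv F134732)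
def n46368 : Q := act 8 n31919
theorem D46368 : act 8 n31919 = n46368 := rfl
theorem F206955 : act 1 n46368 = n31920 := d15_1 D46368 (iv D31920) (iv F134734)
theorem F206956 : act 6 n46368 = n31922 := d40_1 D46368 (iv D31922) (iv F134736)
theorem F206957 : act 9 n46368 = n46368 := d44_2 D31919 D46368 (iv D46368) (iv D31919) F94017
def n46369 : Q := act 3 n31920
theorem D46369 : act 3 n31920 = n46369 := rfl
theorem F206958 : act 0 n46369 = n46369 := d2_1 D46369 (iv D46369) F134737
theorem F206959 : act 2 n46369 = n46369 := d17_1 D46369 (iv D46369) F134738 F94023 (iv F134738)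
theorem F206960 : act 6 n46369 = n31923 := d26_2 (iv F134739) D46369 (iv D31923)
theorem F206961 : act 8 n46369 = n46369 := d28_2 D31920 D46369 (iv D46369) (iv D31920) F94020
theorem F206962 : act 9 n46369 = n46369 := d29_2 F134740 D46369 (iv D46369)
def n46370 : Q := act 8 n31921
theorem D46370 : act 8 n31921 = n46370 := rfl
theorem F206963 : act 0 n46370 = n31922 := d7_1 D46370 (iv D31922) (iv F134741)
theorem F206964 : act 1 n46370 = n46370 := d15_1 D46370 (iv D46370) F134742
theorem F206965 : act 5 n46370 = n46370 := d37_1 D46370 (iv D46370) F134744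
theorem F206966 : act 7 n46370 = n32098 := d42_1 D46370 (iv D32098) (iv F134745)
theorem F206967 : act 9 n46370 = n46370 := d44_2 D31921 D46370 (iv D46370) (iv D31921) F94030
def n46371 : Q := act 3 n31922
theorem D46371 : act 3 n31922 = n46371 := rfl
theorem F206968 : act 1 n46371 = n31923 := d10_1 D46371 (iv D31923) (iv F134746)
theorem F206969 : act 5 n46371 = n46371 := d25_2 F134747 D46371 (iv D46371)
theorem F206970 : act 7 n46371 = n32099 := d27_2 (iv F134748) D46371 (iv D32099)
theorem F206971 : act 8 n46371 = n46371 := d28_2 D31922 D46371 (iv D46371) (iv D31922) F94032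
theorem F206972 : act 9 n46371 = n46371 := d29_2 F134749 D46371 (iv D46371)
def n46372 : Q := act 4 n31923
theorem D46372 : act 4 n31923 = n46372 := rfl
theorem F206973 : act 0 n46372 = n46372 := d3_1 D46372 (iv D46372) F134750
theorem F206974 : act 2 n46372 = n46372 := d18_1 D46372 (iv D46372) F134751
theorem F206975 : act 7 n46372 = n32100 := d32_2 (iv F134753) D46372 (iv D32100)
theorem F206976 : act 8 n46372 = n46372 := d33_2 F134754 D46372 (iv D46372)
theorem F206977 : act 9 n46372 = n46372 := d34_2 F134755 D46372 (iv D46372)
def n46373 : Q := act 8 n31975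
theorem D46373 : act 8 n31975 = n46373 := rfl
theorem F206978 : act 0 n46373 = n32040 := d7_1 D46373 (iv D32040) (iv F134972)
theorem F206979 : act 2 n46373 = n31978 := d22_1 D46373 (iv D31978) (iv F134973)
theorem F206980 : act 5 n46373 = n46373 := d37_1 D46373 (iv D46373) F134975
def n46374 : Q := act 9 n31995
theorem D46374 : act 9 n31995 = n46374 := rfl
theorem F206981 : act 0 n46374 = n32066 := d8_1 D46374 (iv D32066) (iv F135048)
theorem F206982 : act 1 n46374 = n46374 := d16_1 D46374 (iv D46374) F135049
theorem F206983 : act 3 n46374 = n32188 := d29_1 D46374 (iv D32188) (iv F135050)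
theorem F206984 : act 4 n46374 = n31996 := d34_1 D46374 (iv D31996) D31995
theorem F206985 : act 6 n46374 = n46374 := d41_1 D46374 (iv D46374) F135051
def n46375 : Q := act 8 n31996
theorem D46375 : act 8 n31996 = n46375 := rfl
theorem F206986 : act 0 n46375 = n32067 := d7_1 D46375 (iv D32067) (iv F135053)
theorem F206987 : act 1 n46375 = n46375 := d15_1 D46375 (iv D46375) F135054
theorem F206988 : act 3 n46375 = n46375 := d28_1 D46375 (iv D46375) F135055 F94238 (iv F135055)
theorem F206989 : act 5 n46375 = n32001 := d37_1 D46375 (iv D32001) (iv F135056)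
theorem F206990 : act 6 n46375 = n46375 := d40_1 D46375 (iv D46375) F135057
theorem F206991 : act 9 n46375 = n46375 := d44_2 D31996 D46375 (iv D46375) (iv D31996) F94232
def n46376 : Q := act 8 n31998
theorem D46376 : act 8 n31998 = n46376 := rfl
theorem F206992 : act 0 n46376 = n32070 := d7_1 D46376 (iv D32070) (iv F135061)
theorem F206993 : act 1 n46376 = n46376 := d15_1 D46376 (iv D46376) F135062
theorem F206994 : act 3 n46376 = n46376 := d28_1 D46376 (iv D46376) F135063 F94247 (iv F135063)
theorem F206995 : act 7 n46376 = n32001 := d42_1 D46376 (iv D32001) (iv F135064)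
theorem F206996 : act 9 n46376 = n46376 := d44_2 D31998 D46376 (iv D46376) (iv D31998) F94242
def n46377 : Q := act 8 n32000
theorem D46377 : act 8 n32000 = n46377 := rfl
theorem F206997 : act 0 n46377 = n32073 := d7_1 D46377 (iv D32073) (iv F135068)
theorem F206998 : act 2 n46377 = n32001 := d22_1 D46377 (iv D32001) (iv F135069)
theorem F206999 : act 6 n46377 = n32004 := d40_1 D46377 (iv D32004) (iv F135070)
theorem F207000 : act 9 n46377 = n46377 := d44_2 D32000 D46377 (iv D46377) (iv D32000) F94250
def n46378 : Q := act 9 n32002
theorem D46378 : act 9 n32002 = n46378 := rfl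
theorem F207001 : act 0 n46378 = n32003 := d8_1 D46378 (iv D32003) D32002
theorem F207002 : act 1 n46378 = n32074 := d16_1 D46378 (iv D32074) (iv F135076)
theorem F207003 : act 2 n46378 = n46378 := d23_1 D46378 (iv D46378) F135077
theorem F207004 : act 5 n46378 = n46378 := d38_1 D46378 (iv D46378) F135078
def n46379 : Q := act 8 n32003
theorem D46379 : act 8 n32003 = n46379 := rfl
theorem F207005 : act 1 n46379 = n32004 := d15_1 D46379 (iv D32004) (iv F135080)
theorem F207006 : act 2 n46379 = n46379 := d22_1 D46379 (iv D46379) F135081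
theorem F207007 : act 5 n46379 = n46379 := d37_1 D46379 (iv D46379) F135082
theorem F207008 : act 9 n46379 = n46379 := d44_2 D32003 D46379 (iv D46379) (iv D32003) F94257
def n46380 : Q := act 3 n32004
theorem D46380 : act 3 n32004 = n46380 := rfl
theorem F207009 : act 0 n46380 = n32076 := d2_1 D46380 (iv D32076) (iv F135083)
theorem F207010 : act 2 n46380 = n46380 := d17_1 D46380 (iv D46380) F135084 F94263 (iv F135084)
theorem F207011 : act 5 n46380 = n46380 := d25_2 F135085 D46380 (iv D46380)
theorem F207012 : act 9 n46380 = n46380 := d29_2 F135086 D46380 (iv D46380)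
def n46381 : Q := act 4 n32014
theorem D46381 : act 4 n32014 = n46381 := rfl
theorem F207013 : act 1 n46381 = n32015 := d11_1 D46381 (iv D32015) D32014
theorem F207014 : act 2 n46381 = n46381 := d18_1 D46381 (iv D46381) F135126
theorem F207015 : act 8 n46381 = n32036 := d33_2 (iv F135129) D46381 (iv D32036)
def n46382 : Q := act 9 n32014
theorem D46382 : act 9 n32014 = n46382 := rfl
theorem F207016 : act 1 n46382 = n32016 := d16_1 D46382 (iv D32016) D32014
theorem F207017 : act 2 n46382 = n46382 := d23_1 D46382 (iv D46382) F135126
theorem F207018 : act 3 n46382 = n46382 := d29_1 D46382 (iv D46382) F135127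
theorem F207019 : act 5 n46382 = n46382 := d38_1 D46382 (iv D46382) F135128
theorem F207020 : act 6 n46382 = n33491 := d41_1 D46382 (iv F206829) (iv F206367)
theorem F207021 : act 7 n46382 = n33206 := d43_1 D46382 (iv F206835) (iv F206368)
def n46383 : Q := act 3 n32015
theorem D46383 : act 3 n32015 = n46383 := rfl
theorem F207022 : act 2 n46383 = n35181 := d17_1 D46383 (iv D35181) F103155 (iv F94293) (iv F135130)
theorem F207023 : act 4 n46383 = n46383 := d24_2 D32015 D46383 (iv D46383) (iv D32015) F94289
def n46384 : Q := act 5 n32015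
theorem D46384 : act 5 n32015 = n46384 := rfl
theorem F207024 : act 2 n46384 = n32017 := d19_1 D46384 (iv D32017) (iv F135130)
theorem F207025 : act 4 n46384 = n46384 := d30_1 D46384 (iv D46384) (iv D32015) F94290 D32015
theorem F207026 : act 8 n46384 = n32038 := d37_2 (iv F135131) D46384 (iv D32038)
def n46385 : Q := act 9 n32015
theorem D46385 : act 9 n32015 = n46385 := rfl
theorem F207027 : act 2 n46385 = n32018 := d23_1 D46385 (iv D32018) (iv F135130)
theorem F207028 : act 4 n46385 = n32016 := d34_1 D46385 (iv D32016) D32015
theorem F207029 : act 6 n46385 = n34387 := d41_1 D46385 (iv F206811) F206618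
theorem F207030 : act 7 n46385 = n34097 := d43_1 D46385 (iv F206833) (iv F206616)
def n46386 : Q := act 6 n32017
theorem D46386 : act 6 n32017 = n46386 := rfl
theorem F207031 : act 1 n46386 = n46386 := d13_1 D46386 (iv D46386) F135135
theorem F207032 : act 3 n46386 = n35185 := d26_1 D46386 (iv D35185) (iv F135136)
theorem F207033 : act 4 n46386 = n46386 := d31_1 D46386 (iv D46386) F135137
theorem F207034 : act 8 n46386 = n32041 := d40_2 (iv F135138) D46386 (iv D32041)
def n46387 : Q := act 4 n32029
theorem D46387 : act 4 n32029 = n46387 := rfl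
theorem F207035 : act 1 n46387 = n32030 := d11_1 D46387 (iv D32030) D32029
theorem F207036 : act 2 n46387 = n46387 := d18_1 D46387 (iv D46387) F135178
theorem F207037 : act 6 n46387 = n32036 := d31_2 (iv F135180) D46387 (iv D32036)
def n46388 : Q := act 9 n32029
theorem D46388 : act 9 n32029 = n46388 := rfl
theorem F207038 : act 1 n46388 = n32031 := d16_1 D46388 (iv D32031) D32029
theorem F207039 : act 2 n46388 = n46388 := d23_1 D46388 (iv D46388) F135178
theorem F207040 : act 3 n46388 = n32072 := d29_1 D46388 (iv D32072) (iv F135179)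
theorem F207041 : act 6 n46388 = n32037 := d41_1 D46388 (iv D32037) (iv F135180)
def n46389 : Q := act 5 n32030
theorem D46389 : act 5 n32030 = n46389 := rfl
theorem F207042 : act 2 n46389 = n32032 := d19_1 D46389 (iv D32032) (iv F135181)
def n46390 : Q := act 9 n32030
theorem D46390 : act 9 n32030 = n46390 := rfl
theorem F207043 : act 2 n46390 = n32033 := d23_1 D46390 (iv D32033) (iv F135181)
theorem F207044 : act 4 n46390 = n32031 := d34_1 D46390 (iv D32031) D32030
theorem F207045 : act 6 n46390 = n32039 := d41_1 D46390 (iv D32039) (iv F135182)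
def n46391 : Q := act 6 n32032
theorem D46391 : act 6 n32032 = n46391 := rfl
theorem F207046 : act 1 n46391 = n46391 := d13_1 D46391 (iv D46391) F135186
theorem F207047 : act 3 n46391 = n32047 := d26_1 D46391 (iv D32047) (iv F135187)
theorem F207048 : act 5 n46391 = n32041 := d35_1 D46391 (iv D32041) (iv D21983) (iv F94328) D32032
def n46392 : Q := act 9 n32032
theorem D46392 : act 9 n32032 = n46392 := rfl
theorem F207049 : act 1 n46392 = n46392 := d16_1 D46392 (iv D46392) F135186
theorem F207050 : act 3 n46392 = n32048 := d29_1 D46392 (iv D32048) (iv F135187)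
theorem F207051 : act 5 n46392 = n32033 := d38_1 D46392 (iv D32033) D32032
def n46393 : Q := act 8 n32033
theorem D46393 : act 8 n32033 = n46393 := rfl
theorem F207052 : act 1 n46393 = n46393 := d15_1 D46393 (iv D46393) F135188
theorem F207053 : act 4 n46393 = n32034 := d33_1 D46393 (iv D32034) (iv F135190)
theorem F207054 : act 6 n46393 = n32043 := d40_1 D46393 (iv D32043) (iv F135191)
theorem F207055 : act 7 n46393 = n32051 := d42_1 D46393 (iv F206806) (iv F206571)
theorem F207056 : act 9 n46393 = n32050 := d44_2 D32033 D46393 F135244 F203544 F205231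
def n46394 : Q := act 4 n32035
theorem D46394 : act 4 n32035 = n46394 := rfl
theorem F207057 : act 0 n46394 = n32036 := d3_1 D46394 (iv D32036) D32035
theorem F207058 : act 2 n46394 = n46394 := d18_1 D46394 (iv D46394) F135195
def n46395 : Q := act 9 n32035
theorem D46395 : act 9 n32035 = n46395 := rfl
theorem F207059 : act 0 n46395 = n32037 := d8_1 D46395 (iv D32037) D32035
theorem F207060 : act 2 n46395 = n46395 := d23_1 D46395 (iv D46395) F135195
theorem F207061 : act 3 n46395 = n32074 := d29_1 D46395 (iv D32074) (iv F135196)
theorem F207062 : act 5 n46395 = n46395 := d38_1 D46395 (iv D46395) F135197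
def n46396 : Q := act 5 n32036
theorem D46396 : act 5 n32036 = n46396 := rfl
theorem F207063 : act 1 n46396 = n32038 := d12_1 D46396 (iv D32038) (iv F135198)
theorem F207064 : act 2 n46396 = n46396 := d19_1 D46396 (iv D46396) F135199
theorem F207065 : act 4 n46396 = n46396 := d30_1 D46396 (iv D46396) (iv D32036) F94334 D32036
def n46397 : Q := act 9 n32036
theorem D46397 : act 9 n32036 = n46397 := rfl
theorem F207066 : act 1 n46397 = n32039 := d16_1 D46397 (iv D32039) (iv F135198)
theorem F207067 : act 2 n46397 = n46397 := d23_1 D46397 (iv D46397) F135199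
theorem F207068 : act 4 n46397 = n32037 := d34_1 D46397 (iv D32037) D32036
def n46398 : Q := act 8 n32037
theorem D46398 : act 8 n32037 = n46398 := rfl
theorem F207069 : act 1 n46398 = n32040 := d15_1 D46398 (iv D32040) (iv F135200)
theorem F207070 : act 2 n46398 = n46398 := d22_1 D46398 (iv D46398) F135201
theorem F207071 : act 5 n46398 = n46398 := d37_1 D46398 (iv D46398) F135203
def n46399 : Q := act 6 n32038
theorem D46399 : act 6 n32038 = n46399 := rfl
theorem F207072 : act 2 n46399 = n32041 := d20_1 D46399 (iv D32041) (iv F135204)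
theorem F207073 : act 4 n46399 = n46399 := d31_1 D46399 (iv D46399) F135205
def n46400 : Q := act 9 n32038
theorem D46400 : act 9 n32038 = n46400 := rfl
theorem F207074 : act 2 n46400 = n32042 := d23_1 D46400 (iv D32042) (iv F135204)
theorem F207075 : act 4 n46400 = n46400 := d34_1 D46400 (iv D46400) F135205
theorem F207076 : act 5 n46400 = n32039 := d38_1 D46400 (iv D32039) D32038
def n46401 : Q := act 8 n32039
theorem D46401 : act 8 n32039 = n46401 := rfl
theorem F207077 : act 2 n46401 = n32043 := d22_1 D46401 (iv D32043) (iv F135206)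
theorem F207078 : act 4 n46401 = n32040 := d33_1 D46401 (iv D32040) (iv F135207)
def n46402 : Q := act 3 n32040
theorem D46402 : act 3 n32040 = n46402 := rfl
theorem F207079 : act 2 n46402 = n46402 := d17_1 D46402 (iv D46402) F135208 F94346 (iv F135208)
theorem F207080 : act 5 n46402 = n46402 := d25_2 F135209 D46402 (iv D46402)
theorem F207081 : act 8 n46402 = n32076 := d28_2 D32040 D46402 (iv D32076) (iv D22011) (iv F94337)
def n46403 : Q := act 7 n32041
theorem D46403 : act 7 n32041 = n46403 := rfl
theorem F207082 : act 1 n46403 = n46403 := d14_1 D46403 (iv D46403) F135210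
theorem F207083 : act 3 n46403 = n32050 := d27_1 D46403 (iv D32050) (iv F135211)
theorem F207084 : act 4 n46403 = n46403 := d32_1 D46403 (iv D46403) F135212
def n46404 : Q := act 9 n32041
theorem D46404 : act 9 n32041 = n46404 := rfl
theorem F207085 : act 1 n46404 = n46404 := d16_1 D46404 (iv D46404) F135210
theorem F207086 : act 3 n46404 = n32051 := d29_1 D46404 (iv D32051) (iv F135211)
theorem F207087 : act 4 n46404 = n46404 := d34_1 D46404 (iv D46404) F135212
theorem F207088 : act 6 n46404 = n32042 := d41_1 D46404 (iv D32042) D32041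
def n46405 : Q := act 8 n32042
theorem D46405 : act 8 n32042 = n46405 := rfl
theorem F207089 : act 1 n46405 = n46405 := d15_1 D46405 (iv D46405) F135213
theorem F207090 : act 4 n46405 = n46405 := d33_1 D46405 (iv D46405) F135215
theorem F207091 : act 5 n46405 = n32043 := d37_1 D46405 (iv D32043) (iv F135216)
def n46406 : Q := act 9 n32044
theorem D46406 : act 9 n32044 = n46406 := rfl
theorem F207092 : act 1 n46406 = n46406 := d16_1 D46406 (iv D46406) F135219
theorem F207093 : act 4 n46406 = n32239 := d34_1 D46406 (iv D32239) (iv F135220)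
theorem F207094 : act 5 n46406 = n32045 := d38_1 D46406 (iv D32045) D32044
theorem F207095 : act 7 n46406 = n32048 := d43_1 D46406 (iv D32048) (iv F135221)
def n46407 : Q := act 7 n32047
theorem D46407 : act 7 n32047 = n46407 := rfl
theorem F207096 : act 1 n46407 = n46407 := d14_1 D46407 (iv D46407) F135231
theorem F207097 : act 4 n46407 = n32241 := d32_1 D46407 (iv D32241) (iv F135232)
theorem F207098 : act 5 n46407 = n32050 := d36_1 D46407 (iv D32050) (iv F135233)
theorem F207099 : act 8 n46407 = n35219 := d42_2 (iv F135234) D46407 (iv D35219)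
def n46408 : Q := act 9 n32047
theorem D46408 : act 9 n32047 = n46408 := rfl
theorem F207100 : act 1 n46408 = n46408 := d16_1 D46408 (iv D46408) F135231
theorem F207101 : act 4 n46408 = n32242 := d34_1 D46408 (iv D32242) (iv F135232)
theorem F207102 : act 5 n46408 = n32051 := d38_1 D46408 (iv D32051) (iv F135233)
theorem F207103 : act 6 n46408 = n32048 := d41_1 D46408 (iv D32048) D32047
def n46409 : Q := act 8 n32062
theorem D46409 : act 8 n32062 = n46409 := rfl
theorem F207104 : act 1 n46409 = n32084 := d15_1 D46409 (iv D32084) (iv F135287)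
theorem F207105 : act 3 n46409 = n46409 := d28_1 D46409 (iv D46409) F135288 F94403 (iv F135288)
theorem F207106 : act 5 n46409 = n32070 := d37_1 D46409 (iv D32070) (iv F135289)
theorem F207107 : act 7 n46409 = n32067 := d42_1 D46409 (iv D32067) (iv F135290)
theorem F207108 : act 9 n46409 = n46409 := d44_2 D32062 D46409 (iv D46409) (iv D32062) F94398
def n46410 : Q := act 4 n32063
theorem D46410 : act 4 n32063 = n46410 := rfl
theorem F207109 : act 1 n46410 = n32064 := d11_1 D46410 (iv D32064) D32063
theorem F207110 : act 2 n46410 = n32086 := d18_1 D46410 (iv D32086) (iv F135291)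
theorem F207111 : act 6 n46410 = n46410 := d31_2 F135293 D46410 (iv D46410)
theorem F207112 : act 8 n46410 = n46410 := d33_2 F135294 D46410 (iv D46410)
def n46411 : Q := act 9 n32063
theorem D46411 : act 9 n32063 = n46411 := rfl
theorem F207113 : act 1 n46411 = n32065 := d16_1 D46411 (iv D32065) D32063
theorem F207114 : act 2 n46411 = n32087 := d23_1 D46411 (iv D32087) (iv F135291)
theorem F207115 : act 5 n46411 = n32072 := d38_1 D46411 (iv D32072) (iv F135292)
theorem F207116 : act 6 n46411 = n46411 := d41_1 D46411 (iv D46411) F135293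
def n46412 : Q := act 3 n32064
theorem D46412 : act 3 n32064 = n46412 := rfl
theorem F207117 : act 2 n46412 = n32265 := d17_1 D46412 (iv D32265) F94983 (iv F94408) (iv F135295)
theorem F207118 : act 6 n46412 = n46412 := d26_2 F135296 D46412 (iv D46412)
def n46413 : Q := act 9 n32064
theorem D46413 : act 9 n32064 = n46413 := rfl
theorem F207119 : act 2 n46413 = n32066 := d23_1 D46413 (iv D32066) (iv F135295)
theorem F207120 : act 4 n46413 = n32065 := d34_1 D46413 (iv D32065) D32064
theorem F207121 : act 6 n46413 = n46413 := d41_1 D46413 (iv D46413) F135296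
def n46414 : Q := act 8 n32065
theorem D46414 : act 8 n32065 = n46414 := rfl
theorem F207122 : act 2 n46414 = n32067 := d22_1 D46414 (iv D32067) (iv F135298)
theorem F207123 : act 5 n46414 = n32073 := d37_1 D46414 (iv D32073) (iv F135299)
theorem F207124 : act 6 n46414 = n46414 := d40_1 D46414 (iv D46414) F135300
theorem F207125 : act 9 n46414 = n46414 := d44_2 D32065 D46414 (iv D46414) (iv D32065) F94406
def n46415 : Q := act 8 n32066
theorem D46415 : act 8 n32066 = n46415 := rfl
theorem F207126 : act 1 n46415 = n32091 := d15_1 D46415 (iv D32091) (iv F135301)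
theorem F207127 : act 4 n46415 = n32067 := d33_1 D46415 (iv D32067) (iv F135303)
theorem F207128 : act 6 n46415 = n46415 := d40_1 D46415 (iv D46415) F135304
theorem F207129 : act 9 n46415 = n46415 := d44_2 D32066 D46415 (iv D46415) (iv D32066) F94410
def n46416 : Q := act 9 n32068
theorem D46416 : act 9 n32068 = n46416 := rfl
theorem F207130 : act 1 n46416 = n32069 := d16_1 D46416 (iv D32069) D32068
theorem F207131 : act 2 n46416 = n32093 := d23_1 D46416 (iv D32093) (iv F135310)
theorem F207132 : act 7 n46416 = n32072 := d43_1 D46416 (iv D32072) (iv F135311)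
def n46417 : Q := act 8 n32069
theorem D46417 : act 8 n32069 = n46417 := rfl
theorem F207133 : act 2 n46417 = n32070 := d22_1 D46417 (iv D32070) (iv F135313)
theorem F207134 : act 7 n46417 = n32073 := d42_1 D46417 (iv D32073) (iv F135314)
theorem F207135 : act 9 n46417 = n46417 := d44_2 D32069 D46417 (iv D46417) (iv D32069) F94416
def n46418 : Q := act 9 n32071
theorem D46418 : act 9 n32071 = n46418 := rfl
theorem F207136 : act 0 n46418 = n32072 := d8_1 D46418 (iv D32072) D32071
theorem F207137 : act 2 n46418 = n32095 := d23_1 D46418 (iv D32095) (iv F135319)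
theorem F207138 : act 6 n46418 = n32074 := d41_1 D46418 (iv D32074) (iv F135320)
def n46419 : Q := act 8 n32072
theorem D46419 : act 8 n32072 = n46419 := rfl
theorem F207139 : act 1 n46419 = n32073 := d15_1 D46419 (iv D32073) (iv F135322)
theorem F207140 : act 2 n46419 = n32096 := d22_1 D46419 (iv D32096) (iv F135323)
theorem F207141 : act 6 n46419 = n32075 := d40_1 D46419 (iv D32075) (iv F135324)
theorem F207142 : act 9 n46419 = n46419 := d44_2 D32072 D46419 (iv D46419) (iv D32072) F94422
def n46420 : Q := act 3 n32073
theorem D46420 : act 3 n32073 = n46420 := rfl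
theorem F207143 : act 2 n46420 = n46420 := d17_1 D46420 (iv D46420) F135325 F94426 (iv F135325)
theorem F207144 : act 6 n46420 = n32076 := d26_2 (iv F135326) D46420 (iv D32076)
theorem F207145 : act 9 n46420 = n46420 := d29_2 F135327 D46420 (iv D46420)
def n46421 : Q := act 8 n32074
theorem D46421 : act 8 n32074 = n46421 := rfl
theorem F207146 : act 0 n46421 = n32075 := d7_1 D46421 (iv D32075) (iv F135328)
theorem F207147 : act 2 n46421 = n32098 := d22_1 D46421 (iv D32098) (iv F135329)
theorem F207148 : act 5 n46421 = n46421 := d37_1 D46421 (iv D46421) F135330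
theorem F207149 : act 9 n46421 = n46421 := d44_2 D32074 D46421 (iv D46421) (iv D32074) F94431
def n46422 : Q := act 3 n32075
theorem D46422 : act 3 n32075 = n46422 := rfl
theorem F207150 : act 1 n46422 = n32076 := d10_1 D46422 (iv D32076) (iv F135331)
theorem F207151 : act 5 n46422 = n46422 := d25_2 F135333 D46422 (iv D46422)
theorem F207152 : act 9 n46422 = n46422 := d29_2 F135334 D46422 (iv D46422)
def n46423 : Q := act 4 n32076
theorem D46423 : act 4 n32076 = n46423 := rfl
theorem F207153 : act 2 n46423 = n46423 := d18_1 D46423 (iv D46423) F135335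
theorem F207154 : act 9 n46423 = n46423 := d34_2 F135337 D46423 (iv D46423)
def n46424 : Q := act 9 n32080
theorem D46424 : act 9 n32080 = n46424 := rfl
theorem F207155 : act 1 n46424 = n32082 := d16_1 D46424 (iv D32082) D32080
theorem F207156 : act 3 n46424 = n46424 := d29_1 D46424 (iv D46424) F135352
theorem F207157 : act 5 n46424 = n32093 := d38_1 D46424 (iv D32093) (iv F135353)
theorem F207158 : act 7 n46424 = n32087 := d43_1 D46424 (iv D32087) (iv F135354)
def n46425 : Q := act 8 n32082
theorem D46425 : act 8 n32082 = n46425 := rfl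
theorem F207159 : act 0 n46425 = n46425 := d7_1 D46425 (iv D46425) F135360
theorem F207160 : act 2 n46425 = n32084 := d22_1 D46425 (iv D32084) (iv F135361)
theorem F207161 : act 5 n46425 = n32094 := d37_1 D46425 (iv D32094) (iv F135363)
theorem F207162 : act 7 n46425 = n32090 := d42_1 D46425 (iv D32090) (iv F135364)
theorem F207163 : act 9 n46425 = n46425 := d44_2 D32082 D46425 (iv D46425) (iv D32082) F94452
def n46426 : Q := act 4 n32085
theorem D46426 : act 4 n32085 = n46426 := rfl
theorem F207164 : act 0 n46426 = n32086 := d3_1 D46426 (iv D32086) D32085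
theorem F207165 : act 1 n46426 = n46426 := d11_1 D46426 (iv D46426) F135374
theorem F207166 : act 6 n46426 = n46426 := d31_2 F135377 D46426 (iv D46426)
theorem F207167 : act 8 n46426 = n46426 := d33_2 F135378 D46426 (iv D46426)
def n46427 : Q := act 9 n32085
theorem D46427 : act 9 n32085 = n46427 := rfl
theorem F207168 : act 0 n46427 = n32087 := d8_1 D46427 (iv D32087) D32085
theorem F207169 : act 1 n46427 = n46427 := d16_1 D46427 (iv D46427) F135374
theorem F207170 : act 3 n46427 = n46427 := d29_1 D46427 (iv D46427) F135375
theorem F207171 : act 5 n46427 = n32095 := d38_1 D46427 (iv D32095) (iv F135376)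
theorem F207172 : act 6 n46427 = n46427 := d41_1 D46427 (iv D46427) F135377
def n46428 : Q := act 9 n32086
theorem D46428 : act 9 n32086 = n46428 := rfl
theorem F207173 : act 1 n46428 = n32089 := d16_1 D46428 (iv D32089) (iv F135379)
theorem F207174 : act 4 n46428 = n32087 := d34_1 D46428 (iv D32087) D32086
theorem F207175 : act 6 n46428 = n46428 := d41_1 D46428 (iv D46428) F135380
def n46429 : Q := act 8 n32087
theorem D46429 : act 8 n32087 = n46429 := rfl
theorem F207176 : act 1 n46429 = n32090 := d15_1 D46429 (iv D32090) (iv F135382)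
theorem F207177 : act 5 n46429 = n32096 := d37_1 D46429 (iv D32096) (iv F135384)
theorem F207178 : act 6 n46429 = n46429 := d40_1 D46429 (iv D46429) F135385
theorem F207179 : act 9 n46429 = n46429 := d44_2 D32087 D46429 (iv D46429) (iv D32087) F94464
def n46430 : Q := act 8 n32089
theorem D46430 : act 8 n32089 = n46430 := rfl
theorem F207180 : act 0 n46430 = n46430 := d7_1 D46430 (iv D46430) F135390
theorem F207181 : act 2 n46430 = n32091 := d22_1 D46430 (iv D32091) (iv F135391)
theorem F207182 : act 4 n46430 = n32090 := d33_1 D46430 (iv D32090) (iv F135392)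
theorem F207183 : act 6 n46430 = n46430 := d40_1 D46430 (iv D46430) F135393
theorem F207184 : act 9 n46430 = n46430 := d44_2 D32089 D46430 (iv D46430) (iv D32089) F94468
def n46431 : Q := act 3 n32090
theorem D46431 : act 3 n32090 = n46431 := rfl
theorem F207185 : act 0 n46431 = n46431 := d2_1 D46431 (iv D46431) F135394
theorem F207186 : act 2 n46431 = n46431 := d17_1 D46431 (iv D46431) F135395 F94479 (iv F135395)
theorem F207187 : act 5 n46431 = n32097 := d25_2 (iv F135396) D46431 (iv D32097)
theorem F207188 : act 6 n46431 = n46431 := d26_2 F135397 D46431 (iv D46431)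
theorem F207189 : act 8 n46431 = n46431 := d28_2 D32090 D46431 (iv D46431) (iv D32090) F94471
theorem F207190 : act 9 n46431 = n46431 := d29_2 F135398 D46431 (iv D46431)
def n46432 : Q := act 9 n32092
theorem D46432 : act 9 n32092 = n46432 := rfl
theorem F207191 : act 0 n46432 = n32093 := d8_1 D46432 (iv D32093) D32092
theorem F207192 : act 1 n46432 = n46432 := d16_1 D46432 (iv D46432) F135403
theorem F207193 : act 3 n46432 = n46432 := d29_1 D46432 (iv D46432) F135404
theorem F207194 : act 7 n46432 = n32095 := d43_1 D46432 (iv D32095) (iv F135405)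
def n46433 : Q := act 8 n32093
theorem D46433 : act 8 n32093 = n46433 := rfl
theorem F207195 : act 1 n46433 = n32094 := d15_1 D46433 (iv D32094) (iv F135407)
theorem F207196 : act 7 n46433 = n32096 := d42_1 D46433 (iv D32096) (iv F135409)
theorem F207197 : act 9 n46433 = n46433 := d44_2 D32093 D46433 (iv D46433) (iv D32093) F94485
def n46434 : Q := act 3 n32094
theorem D46434 : act 3 n32094 = n46434 := rfl
theorem F207198 : act 0 n46434 = n46434 := d2_1 D46434 (iv D46434) F135410
theorem F207199 : act 2 n46434 = n46434 := d17_1 D46434 (iv D46434) F135411 F94491 (iv F135411)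
theorem F207200 : act 7 n46434 = n32097 := d27_2 (iv F135412) D46434 (iv D32097)
theorem F207201 : act 8 n46434 = n46434 := d28_2 D32094 D46434 (iv D46434) (iv D32094) F94488
theorem F207202 : act 9 n46434 = n46434 := d29_2 F135413 D46434 (iv D46434)
def n46435 : Q := act 8 n32095
theorem D46435 : act 8 n32095 = n46435 := rfl
theorem F207203 : act 0 n46435 = n32096 := d7_1 D46435 (iv D32096) (iv F135414)
theorem F207204 : act 1 n46435 = n46435 := d15_1 D46435 (iv D46435) F135415
theorem F207205 : act 6 n46435 = n32098 := d40_1 D46435 (iv D32098) (iv F135417)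
theorem F207206 : act 9 n46435 = n46435 := d44_2 D32095 D46435 (iv D46435) (iv D32095) F94497
def n46436 : Q := act 3 n32096
theorem D46436 : act 3 n32096 = n46436 := rfl
theorem F207207 : act 1 n46436 = n32097 := d10_1 D46436 (iv D32097) (iv F135418)
theorem F207208 : act 6 n46436 = n32099 := d26_2 (iv F135419) D46436 (iv D32099)
theorem F207209 : act 8 n46436 = n46436 := d28_2 D32096 D46436 (iv D46436) (iv D32096) F94499
theorem F207210 : act 9 n46436 = n46436 := d29_2 F135420 D46436 (iv D46436)
def n46437 : Q := act 4 n32097
theorem D46437 : act 4 n32097 = n46437 := rfl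
theorem F207211 : act 0 n46437 = n46437 := d3_1 D46437 (iv D46437) F135421
theorem F207212 : act 2 n46437 = n46437 := d18_1 D46437 (iv D46437) F135422
theorem F207213 : act 6 n46437 = n32100 := d31_2 (iv F135423) D46437 (iv D32100)
theorem F207214 : act 8 n46437 = n46437 := d33_2 F135424 D46437 (iv D46437)
theorem F207215 : act 9 n46437 = n46437 := d34_2 F135425 D46437 (iv D46437)
def n46438 : Q := act 3 n32098
theorem D46438 : act 3 n32098 = n46438 := rfl
theorem F207216 : act 0 n46438 = n32099 := d2_1 D46438 (iv D32099) (iv F135426)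
theorem F207217 : act 1 n46438 = n46438 := d10_1 D46438 (iv D46438) F135427
theorem F207218 : act 5 n46438 = n46438 := d25_2 F135428 D46438 (iv D46438)
theorem F207219 : act 8 n46438 = n46438 := d28_2 D32098 D46438 (iv D46438) (iv D32098) F94507
theorem F207220 : act 9 n46438 = n46438 := d29_2 F135429 D46438 (iv D46438)
def n46439 : Q := act 2 n32099
theorem D46439 : act 2 n32099 = n46439 := rfl
theorem F207221 : act 1 n46439 = n46439 := d9_1 D46439 (iv D46439) F135430 F94513 (iv F135430)
theorem F207222 : act 5 n46439 = n46439 := d19_2 F135431 D46439 (iv D46439)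
theorem F207223 : act 8 n46439 = n46439 := d22_2 F135432 D46439 (iv D46439)
theorem F207224 : act 9 n46439 = n46439 := d23_2 F135433 D46439 (iv D46439)
def n46440 : Q := act 4 n32099
theorem D46440 : act 4 n32099 = n46440 := rfl
theorem F207225 : act 1 n46440 = n32100 := d11_1 D46440 (iv D32100) (iv F135430)
theorem F207226 : act 8 n46440 = n46440 := d33_2 F135432 D46440 (iv D46440)
theorem F207227 : act 9 n46440 = n46440 := d34_2 F135433 D46440 (iv D46440)
def n46441 : Q := act 5 n32100
theorem D46441 : act 5 n32100 = n46441 := rfl
theorem F207228 : act 0 n46441 = n46441 := d4_1 D46441 (iv D46441) F135434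
theorem F207229 : act 2 n46441 = n46441 := d19_1 D46441 (iv D46441) F135435
theorem F207230 : act 4 n46441 = n46441 := d30_1 D46441 (iv D46441) (iv D32100) F94514 D32100
theorem F207231 : act 8 n46441 = n46441 := d37_2 F135436 D46441 (iv D46441)
theorem F207232 : act 9 n46441 = n46441 := d38_2 F135437 D46441 (iv D46441)
def n46442 : Q := act 1 n32145
theorem D46442 : act 1 n32145 = n46442 := rfl
theorem F207233 : act 3 n46442 = n32185 := d10_2 (iv F135649) D46442 (iv D32185)
theorem F207234 : act 5 n46442 = n32151 := d12_2 (iv F135650) D46442 (iv D32151)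
theorem F207235 : act 6 n46442 = n46442 := d13_2 F135651 D46442 (iv D46442)
theorem F207236 : act 8 n46442 = n46442 := d15_2 F135652 D46442 (iv D46442)
def n46443 : Q := act 9 n32145
theorem D46443 : act 9 n32145 = n46443 := rfl
theorem F207237 : act 0 n46443 = n32206 := d8_1 D46443 (iv D32206) (iv F135648)
theorem F207238 : act 2 n46443 = n32147 := d23_1 D46443 (iv D32147) D32145
theorem F207239 : act 3 n46443 = n32187 := d29_1 D46443 (iv D32187) (iv F135649)
theorem F207240 : act 5 n46443 = n32153 := d38_1 D46443 (iv D32153) (iv F135650)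
theorem F207241 : act 6 n46443 = n46443 := d41_1 D46443 (iv D46443) F135651
def n46444 : Q := act 8 n32147
theorem D46444 : act 8 n32147 = n46444 := rfl
theorem F207242 : act 0 n46444 = n32209 := d7_1 D46444 (iv D32209) (iv F135656)
theorem F207243 : act 3 n46444 = n46444 := d28_1 D46444 (iv D46444) F135657 F94654 (iv F135657)
theorem F207244 : act 5 n46444 = n32156 := d37_1 D46444 (iv D32156) (iv F135658)
theorem F207245 : act 6 n46444 = n46444 := d40_1 D46444 (iv D46444) F135659
theorem F207246 : act 9 n46444 = n46444 := d44_2 D32147 D46444 (iv D46444) (iv D32147) F94649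
def n46445 : Q := act 1 n32148
theorem D46445 : act 1 n32148 = n46445 := rfl
theorem F207247 : act 3 n46445 = n32190 := d10_2 (iv F135661) D46445 (iv D32190)
theorem F207248 : act 6 n46445 = n46445 := d13_2 F135662 D46445 (iv D46445)
theorem F207249 : act 7 n46445 = n32151 := d14_2 (iv F135663) D46445 (iv D32151)
theorem F207250 : act 8 n46445 = n46445 := d15_2 F135664 D46445 (iv D46445)
def n46446 : Q := act 9 n32148
theorem D46446 : act 9 n32148 = n46446 := rfl
theorem F207251 : act 0 n46446 = n32212 := d8_1 D46446 (iv D32212) (iv F135660)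
theorem F207252 : act 2 n46446 = n32150 := d23_1 D46446 (iv D32150) D32148
theorem F207253 : act 3 n46446 = n32191 := d29_1 D46446 (iv D32191) (iv F135661)
theorem F207254 : act 6 n46446 = n46446 := d41_1 D46446 (iv D46446) F135662
theorem F207255 : act 7 n46446 = n32153 := d43_1 D46446 (iv D32153) (iv F135663)
def n46447 : Q := act 8 n32150
theorem D46447 : act 8 n32150 = n46447 := rfl
theorem F207256 : act 0 n46447 = n32215 := d7_1 D46447 (iv D32215) (iv F135670)
theorem F207257 : act 3 n46447 = n46447 := d28_1 D46447 (iv D46447) F135671 F94664 (iv F135671)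
theorem F207258 : act 6 n46447 = n46447 := d40_1 D46447 (iv D46447) F135672
theorem F207259 : act 7 n46447 = n32156 := d42_1 D46447 (iv D32156) (iv F135673)
theorem F207260 : act 9 n46447 = n46447 := d44_2 D32150 D46447 (iv D46447) (iv D32150) F94658
def n46448 : Q := act 0 n32151
theorem D46448 : act 0 n32151 = n46448 := rfl
theorem F207261 : act 1 n46448 = n32216 := d0_2 D32151 D46448 (iv D32216) (iv D22106) (iv F94665)
theorem F207262 : act 3 n46448 = n32193 := d2_2 (iv F135674) D46448 (iv D32193)
theorem F207263 : act 6 n46448 = n32157 := d5_2 (iv F135675) D46448 (iv D32157)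
theorem F207264 : act 8 n46448 = n46448 := d7_2 F135676 D46448 (iv D46448)
def n46449 : Q := act 9 n32151
theorem D46449 : act 9 n32151 = n46449 := rfl
theorem F207265 : act 1 n46449 = n32153 := d16_1 D46449 (iv D32153) D32151
theorem F207266 : act 3 n46449 = n32194 := d29_1 D46449 (iv D32194) (iv F135674)
theorem F207267 : act 6 n46449 = n32159 := d41_1 D46449 (iv D32159) (iv F135675)
def n46450 : Q := act 8 n32153
theorem D46450 : act 8 n32153 = n46450 := rfl
theorem F207268 : act 0 n46450 = n32221 := d7_1 D46450 (iv D32221) (iv F135681)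
theorem F207269 : act 2 n46450 = n32156 := d22_1 D46450 (iv D32156) (iv F135682)
theorem F207270 : act 6 n46450 = n32162 := d40_1 D46450 (iv D32162) (iv F135684)
theorem F207271 : act 9 n46450 = n46450 := d44_2 D32153 D46450 (iv D46450) (iv D32153) F94668
def n46451 : Q := act 9 n32157
theorem D46451 : act 9 n32157 = n46451 := rfl
theorem F207272 : act 0 n46451 = n32159 := d8_1 D46451 (iv D32159) D32157
theorem F207273 : act 1 n46451 = n32226 := d16_1 D46451 (iv D32226) (iv F135696)
theorem F207274 : act 3 n46451 = n32196 := d29_1 D46451 (iv D32196) (iv F135697)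
theorem F207275 : act 5 n46451 = n46451 := d38_1 D46451 (iv D46451) F135698
theorem F207276 : act 7 n46451 = n46451 := d43_1 D46451 (iv D46451) F135699
def n46452 : Q := act 8 n32159
theorem D46452 : act 8 n32159 = n46452 := rfl
theorem F207277 : act 1 n46452 = n32162 := d15_1 D46452 (iv D32162) (iv F135704)
theorem F207278 : act 5 n46452 = n46452 := d37_1 D46452 (iv D46452) F135706
theorem F207279 : act 7 n46452 = n46452 := d42_1 D46452 (iv D46452) F135707
theorem F207280 : act 9 n46452 = n46452 := d44_2 D32159 D46452 (iv D46452) (iv D32159) F94679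
def n46453 : Q := act 3 n32162
theorem D46453 : act 3 n32162 = n46453 := rfl
theorem F207281 : act 0 n46453 = n32233 := d2_1 D46453 (iv D32233) (iv F135717)
theorem F207282 : act 2 n46453 = n46453 := d17_1 D46453 (iv D46453) F135718 F94699 (iv F135718)
theorem F207283 : act 5 n46453 = n46453 := d25_2 F135719 D46453 (iv D46453)
theorem F207284 : act 7 n46453 = n46453 := d27_2 F135720 D46453 (iv D46453)
theorem F207285 : act 8 n46453 = n32198 := d28_2 D32162 D46453 (iv D32198) (iv D22096) (iv F94686)
theorem F207286 : act 9 n46453 = n46453 := d29_2 F135721 D46453 (iv D46453)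
def n46454 : Q := act 1 n32182
theorem D46454 : act 1 n32182 = n46454 := rfl
theorem F207287 : act 0 n46454 = n32330 := d0_1 D46454 F136422 F95206 (iv F204834) (iv F135801)
theorem F207288 : act 2 n46454 = n46454 := d9_2 D32182 D46454 (iv D46454) (iv D32182) F94753
theorem F207289 : act 5 n46454 = n32190 := d12_2 (iv F135802) D46454 (iv D32190)
theorem F207290 : act 6 n46454 = n32332 := d13_2 (iv F204885) D46454 F136430
theorem F207291 : act 7 n46454 = n32185 := d14_2 (iv F135803) D46454 (iv D32185)
theorem F207292 : act 8 n46454 = n32314 := d15_2 (iv F135804) D46454 (iv D32314)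
def n46455 : Q := act 9 n32182
theorem D46455 : act 9 n32182 = n46455 := rfl
theorem F207293 : act 0 n46455 = n32259 := d8_1 D46455 (iv D32259) (iv F135801)
theorem F207294 : act 2 n46455 = n32184 := d23_1 D46455 (iv D32184) D32182
theorem F207295 : act 5 n46455 = n32191 := d38_1 D46455 (iv D32191) (iv F135802)
theorem F207296 : act 6 n46455 = n32275 := d41_1 D46455 F136179 (iv F204885)
theorem F207297 : act 7 n46455 = n32187 := d43_1 D46455 (iv D32187) (iv F135803)
theorem F207298 : act 8 n46455 = n32272 := d44_1 D46455 (iv D32272) F95011 (iv F204832) (iv F135804)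
def n46456 : Q := act 0 n32185
theorem D46456 : act 0 n32185 = n46456 := rfl
theorem F207299 : act 1 n46456 = n32262 := d0_2 D32185 D46456 (iv D32262) (iv D22140) (iv F94762)
theorem F207300 : act 2 n46456 = n46456 := d1_2 F135814 D46456 (iv D46456)
theorem F207301 : act 5 n46456 = n32193 := d4_2 (iv F135815) D46456 (iv D32193)
theorem F207302 : act 6 n46456 = n46456 := d5_2 F135816 D46456 (iv D46456)
theorem F207303 : act 7 n46456 = n32330 := d6_2 F207291 D46456 (iv F207287)
theorem F207304 : act 8 n46456 = n32319 := d7_2 (iv F135817) D46456 (iv D32319)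
def n46457 : Q := act 4 n32185
theorem D46457 : act 4 n32185 = n46457 := rfl
theorem F207305 : act 1 n46457 = n32186 := d11_1 D46457 (iv D32186) D32185
theorem F207306 : act 2 n46457 = n46457 := d18_1 D46457 (iv D46457) F135814
theorem F207307 : act 6 n46457 = n46457 := d31_2 F135816 D46457 (iv D46457)
theorem F207308 : act 8 n46457 = n32320 := d33_2 (iv F135817) D46457 (iv D32320)
def n46458 : Q := act 9 n32185
theorem D46458 : act 9 n32185 = n46458 := rfl
theorem F207309 : act 1 n46458 = n32187 := d16_1 D46458 (iv D32187) D32185
theorem F207310 : act 2 n46458 = n46458 := d23_1 D46458 (iv D46458) F135814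
theorem F207311 : act 5 n46458 = n32194 := d38_1 D46458 (iv D32194) (iv F135815)
theorem F207312 : act 6 n46458 = n46458 := d41_1 D46458 (iv D46458) F135816
def n46459 : Q := act 3 n32186
theorem D46459 : act 3 n32186 = n46459 := rfl
theorem F207313 : act 0 n46459 = n32265 := d2_1 D46459 (iv D32265) (iv F135818)
theorem F207314 : act 6 n46459 = n46459 := d26_2 F135820 D46459 (iv D46459)
def n46460 : Q := act 9 n32186
theorem D46460 : act 9 n32186 = n46460 := rfl
theorem F207315 : act 0 n46460 = n32266 := d8_1 D46460 (iv D32266) (iv F135818)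
theorem F207316 : act 2 n46460 = n32188 := d23_1 D46460 (iv D32188) (iv F135819)
theorem F207317 : act 4 n46460 = n32187 := d34_1 D46460 (iv D32187) D32186
theorem F207318 : act 6 n46460 = n46460 := d41_1 D46460 (iv D46460) F135820
def n46461 : Q := act 8 n32187
theorem D46461 : act 8 n32187 = n46461 := rfl
theorem F207319 : act 0 n46461 = n32267 := d7_1 D46461 (iv D32267) (iv F135822)
theorem F207320 : act 2 n46461 = n32189 := d22_1 D46461 (iv D32189) (iv F135823)
theorem F207321 : act 5 n46461 = n32195 := d37_1 D46461 (iv D32195) (iv F135824)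
theorem F207322 : act 6 n46461 = n46461 := d40_1 D46461 (iv D46461) F135825
theorem F207323 : act 7 n46461 = n32272 := d42_1 D46461 (iv F207298) F207297
theorem F207324 : act 9 n46461 = n32269 := d44_2 D32187 D46461 F204755 (iv D22185) (iv F94765)
def n46462 : Q := act 0 n32190
theorem D46462 : act 0 n32190 = n46462 := rfl
theorem F207325 : act 1 n46462 = n32269 := d0_2 D32190 D46462 (iv D32269) (iv D22145) (iv F94775)
theorem F207326 : act 2 n46462 = n46462 := d1_2 F135836 D46462 (iv D46462)
theorem F207327 : act 5 n46462 = n32330 := d4_2 F207289 D46462 (iv F207287)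
theorem F207328 : act 6 n46462 = n46462 := d5_2 F135837 D46462 (iv D46462)
theorem F207329 : act 7 n46462 = n32193 := d6_2 (iv F135838) D46462 (iv D32193)
theorem F207330 : act 8 n46462 = n32321 := d7_2 (iv F135839) D46462 F204750
def n46463 : Q := act 9 n32190
theorem D46463 : act 9 n32190 = n46463 := rfl
theorem F207331 : act 1 n46463 = n32191 := d16_1 D46463 (iv D32191) D32190
theorem F207332 : act 2 n46463 = n46463 := d23_1 D46463 (iv D46463) F135836
theorem F207333 : act 6 n46463 = n46463 := d41_1 D46463 (iv D46463) F135837
theorem F207334 : act 7 n46463 = n32194 := d43_1 D46463 (iv D32194) (iv F135838)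
def n46464 : Q := act 8 n32191
theorem D46464 : act 8 n32191 = n46464 := rfl
theorem F207335 : act 0 n46464 = n32264 := d7_1 D46464 F204897 (iv F135840)
theorem F207336 : act 2 n46464 = n32192 := d22_1 D46464 (iv D32192) (iv F135841)
theorem F207337 : act 5 n46464 = n32272 := d37_1 D46464 (iv F207298) F207295
theorem F207338 : act 6 n46464 = n46464 := d40_1 D46464 (iv D46464) F135842
theorem F207339 : act 7 n46464 = n32195 := d42_1 D46464 (iv D32195) (iv F135843)
theorem F207340 : act 9 n46464 = n32262 := d44_2 D32191 D46464 F204878 (iv D22189) (iv F94778)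
def n46465 : Q := act 9 n32193
theorem D46465 : act 9 n32193 = n46465 := rfl
theorem F207341 : act 0 n46465 = n32194 := d8_1 D46465 (iv D32194) D32193
theorem F207342 : act 1 n46465 = n32272 := d16_1 D46465 (iv D32272) (iv F135850)
theorem F207343 : act 2 n46465 = n46465 := d23_1 D46465 (iv D46465) F135851
theorem F207344 : act 6 n46465 = n32196 := d41_1 D46465 (iv D32196) (iv F135852)
def n46466 : Q := act 8 n32194
theorem D46466 : act 8 n32194 = n46466 := rfl
theorem F207345 : act 1 n46466 = n32195 := d15_1 D46466 (iv D32195) (iv F135854)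
theorem F207346 : act 2 n46466 = n46466 := d22_1 D46466 (iv D46466) F135855
theorem F207347 : act 6 n46466 = n32197 := d40_1 D46466 (iv D32197) (iv F135856)
theorem F207348 : act 9 n46466 = n32330 := d44_2 D32194 D46466 (iv D32330) (iv D22192) (iv F94786)
def n46467 : Q := act 3 n32195
theorem D46467 : act 3 n32195 = n46467 := rfl
theorem F207349 : act 0 n46467 = n32274 := d2_1 D46467 (iv D32274) (iv F135857)
theorem F207350 : act 2 n46467 = n46467 := d17_1 D46467 (iv D46467) F135858 F94792 (iv F135858)
theorem F207351 : act 6 n46467 = n32198 := d26_2 (iv F135859) D46467 (iv D32198)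
theorem F207352 : act 9 n46467 = n32331 := d29_2 (iv F135860) D46467 (iv D32331)
def n46468 : Q := act 8 n32196
theorem D46468 : act 8 n32196 = n46468 := rfl
theorem F207353 : act 0 n46468 = n32197 := d7_1 D46468 (iv D32197) (iv F135861)
theorem F207354 : act 1 n46468 = n32275 := d15_1 D46468 (iv D32275) (iv F135862)
theorem F207355 : act 2 n46468 = n46468 := d22_1 D46468 (iv D46468) F135863
theorem F207356 : act 5 n46468 = n46468 := d37_1 D46468 (iv D46468) F135864
theorem F207357 : act 7 n46468 = n46468 := d42_1 D46468 (iv D46468) F135865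
theorem F207358 : act 9 n46468 = n32332 := d44_2 D32196 D46468 (iv D32332) (iv D22194) (iv F94799)
def n46469 : Q := act 3 n32197
theorem D46469 : act 3 n32197 = n46469 := rfl
theorem F207359 : act 1 n46469 = n32198 := d10_1 D46469 (iv D32198) (iv F135866)
theorem F207360 : act 5 n46469 = n46469 := d25_2 F135868 D46469 (iv D46469)
theorem F207361 : act 7 n46469 = n46469 := d27_2 F135869 D46469 (iv D46469)
theorem F207362 : act 9 n46469 = n32333 := d29_2 (iv F135870) D46469 (iv D32333)
def n46470 : Q := act 4 n32198
theorem D46470 : act 4 n32198 = n46470 := rfl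
theorem F207363 : act 0 n46470 = n32277 := d3_1 D46470 (iv D32277) (iv F135871)
theorem F207364 : act 2 n46470 = n46470 := d18_1 D46470 (iv D46470) F135872
theorem F207365 : act 7 n46470 = n46470 := d32_2 F135874 D46470 (iv D46470)
theorem F207366 : act 9 n46470 = n32334 := d34_2 (iv F135875) D46470 (iv D32334)
def n46471 : Q := act 9 n32201
theorem D46471 : act 9 n32201 = n46471 := rfl
theorem F207367 : act 1 n46471 = n32274 := d16_1 D46471 F136174 (iv F204887)
theorem F207368 : act 2 n46471 = n32203 := d23_1 D46471 (iv D32203) D32201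
theorem F207369 : act 3 n46471 = n32259 := d29_1 D46471 (iv D32259) (iv F135887)
theorem F207370 : act 5 n46471 = n32212 := d38_1 D46471 (iv D32212) (iv F135888)
theorem F207371 : act 6 n46471 = n32276 := d41_1 D46471 F136183 (iv F204888)
theorem F207372 : act 7 n46471 = n32206 := d43_1 D46471 (iv D32206) (iv F135889)
def n46472 : Q := act 8 n32203
theorem D46472 : act 8 n32203 = n46472 := rfl
theorem F207373 : act 1 n46472 = n46472 := d15_1 D46472 (iv D46472) F135894
theorem F207374 : act 3 n46472 = n46472 := d28_1 D46472 (iv D46472) F135895 F94822 (iv F135895)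
theorem F207375 : act 5 n46472 = n32215 := d37_1 D46472 (iv D32215) (iv F135896)
theorem F207376 : act 7 n46472 = n32209 := d42_1 D46472 (iv D32209) (iv F135897)
theorem F207377 : act 9 n46472 = n46472 := d44_2 D32203 D46472 (iv D46472) (iv D32203) F94817
def n46473 : Q := act 0 n32204
theorem D46473 : act 0 n32204 = n46473 := rfl
theorem F207378 : act 2 n46473 = n46473 := d1_2 F135898 D46473 (iv D46473)
theorem F207379 : act 3 n46473 = n32262 := d2_2 (iv F135899) D46473 (iv D32262)
theorem F207380 : act 5 n46473 = n32216 := d4_2 (iv F135900) D46473 (iv D32216)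
theorem F207381 : act 6 n46473 = n46473 := d5_2 F135901 D46473 (iv D46473)
theorem F207382 : act 7 n46473 = n32331 := d6_2 (iv F204893) D46473 F136425
theorem F207383 : act 8 n46473 = n46473 := d7_2 F135902 D46473 (iv D46473)
def n46474 : Q := act 4 n32204
theorem D46474 : act 4 n32204 = n46474 := rfl
theorem F207384 : act 1 n46474 = n32205 := d11_1 D46474 (iv D32205) D32204
theorem F207385 : act 2 n46474 = n46474 := d18_1 D46474 (iv D46474) F135898
theorem F207386 : act 6 n46474 = n46474 := d31_2 F135901 D46474 (iv D46474)
theorem F207387 : act 7 n46474 = n32363 := d32_2 (iv F204893) D46474 (iv D32363)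
theorem F207388 : act 8 n46474 = n46474 := d33_2 F135902 D46474 (iv D46474)
def n46475 : Q := act 9 n32204
theorem D46475 : act 9 n32204 = n46475 := rfl
theorem F207389 : act 1 n46475 = n32206 := d16_1 D46475 (iv D32206) D32204
theorem F207390 : act 2 n46475 = n46475 := d23_1 D46475 (iv D46475) F135898
theorem F207391 : act 3 n46475 = n32264 := d29_1 D46475 (iv D32264) (iv F135899)
theorem F207392 : act 5 n46475 = n32218 := d38_1 D46475 (iv D32218) (iv F135900)
theorem F207393 : act 6 n46475 = n46475 := d41_1 D46475 (iv D46475) F135901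
theorem F207394 : act 7 n46475 = n32274 := d43_1 D46475 F136174 (iv F204893)
def n46476 : Q := act 3 n32205
theorem D46476 : act 3 n32205 = n46476 := rfl
theorem F207395 : act 4 n46476 = n32265 := d24_2 D32205 D46476 (iv D32265) (iv D22141) (iv F94823)
theorem F207396 : act 6 n46476 = n46476 := d26_2 F135904 D46476 (iv D46476)
def n46477 : Q := act 5 n32205
theorem D46477 : act 5 n32205 = n46477 := rfl
theorem F207397 : act 2 n46477 = n32207 := d19_1 D46477 (iv D32207) (iv F135903)
theorem F207398 : act 4 n46477 = n32219 := d30_1 D46477 (iv D32219) (iv D22107) (iv F94824) D32205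
theorem F207399 : act 8 n46477 = n46477 := d37_2 F135905 D46477 (iv D46477)
def n46478 : Q := act 9 n32205
theorem D46478 : act 9 n32205 = n46478 := rfl
theorem F207400 : act 2 n46478 = n32208 := d23_1 D46478 (iv D32208) (iv F135903)
theorem F207401 : act 4 n46478 = n32206 := d34_1 D46478 (iv D32206) D32205
theorem F207402 : act 6 n46478 = n46478 := d41_1 D46478 (iv D46478) F135904
def n46479 : Q := act 8 n32206
theorem D46479 : act 8 n32206 = n46479 := rfl
theorem F207403 : act 2 n46479 = n32209 := d22_1 D46479 (iv D32209) (iv F135906)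
theorem F207404 : act 5 n46479 = n32221 := d37_1 D46479 (iv D32221) (iv F135908)
theorem F207405 : act 6 n46479 = n46479 := d40_1 D46479 (iv D46479) F135909
theorem F207406 : act 9 n46479 = n46479 := d44_2 D32206 D46479 (iv D46479) (iv D32206) F94826
def n46480 : Q := act 6 n32207
theorem D46480 : act 6 n32207 = n46480 := rfl
theorem F207407 : act 1 n46480 = n46480 := d13_1 D46480 (iv D46480) F135910
theorem F207408 : act 4 n46480 = n32222 := d31_1 D46480 (iv D32222) (iv F135911)
theorem F207409 : act 5 n46480 = n46480 := d35_1 D46480 (iv D46480) (iv D32207) F94828 D32207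
theorem F207410 : act 8 n46480 = n46480 := d40_2 F135912 D46480 (iv D46480)
def n46481 : Q := act 9 n32207
theorem D46481 : act 9 n32207 = n46481 := rfl
theorem F207411 : act 1 n46481 = n46481 := d16_1 D46481 (iv D46481) F135910
theorem F207412 : act 4 n46481 = n32223 := d34_1 D46481 (iv D32223) (iv F135911)
theorem F207413 : act 5 n46481 = n32208 := d38_1 D46481 (iv D32208) D32207
def n46482 : Q := act 8 n32208
theorem D46482 : act 8 n32208 = n46482 := rfl
theorem F207414 : act 1 n46482 = n46482 := d15_1 D46482 (iv D46482) F135913
theorem F207415 : act 4 n46482 = n32209 := d33_1 D46482 (iv D32209) (iv F135914)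
theorem F207416 : act 6 n46482 = n46482 := d40_1 D46482 (iv D46482) F135915
theorem F207417 : act 9 n46482 = n46482 := d44_2 D32208 D46482 (iv D46482) (iv D32208) F94829
def n46483 : Q := act 0 n32210
theorem D46483 : act 0 n32210 = n46483 := rfl
theorem F207418 : act 2 n46483 = n46483 := d1_2 F135921 D46483 (iv D46483)
theorem F207419 : act 3 n46483 = n32269 := d2_2 (iv F135922) D46483 (iv D32269)
theorem F207420 : act 5 n46483 = n32331 := d4_2 (iv F204772) D46483 F136425
theorem F207421 : act 6 n46483 = n46483 := d5_2 F135923 D46483 (iv D46483)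
theorem F207422 : act 7 n46483 = n32216 := d6_2 (iv F135924) D46483 (iv D32216)
theorem F207423 : act 8 n46483 = n46483 := d7_2 F135925 D46483 (iv D46483)
def n46484 : Q := act 4 n32210
theorem D46484 : act 4 n32210 = n46484 := rfl
theorem F207424 : act 1 n46484 = n32211 := d11_1 D46484 (iv D32211) D32210
theorem F207425 : act 2 n46484 = n46484 := d18_1 D46484 (iv D46484) F135921
theorem F207426 : act 6 n46484 = n46484 := d31_2 F135923 D46484 (iv D46484)
theorem F207427 : act 7 n46484 = n32217 := d32_2 (iv F135924) D46484 (iv D32217)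
theorem F207428 : act 8 n46484 = n46484 := d33_2 F135925 D46484 (iv D46484)
def n46485 : Q := act 9 n32210
theorem D46485 : act 9 n32210 = n46485 := rfl
theorem F207429 : act 1 n46485 = n32212 := d16_1 D46485 (iv D32212) D32210
theorem F207430 : act 2 n46485 = n46485 := d23_1 D46485 (iv D46485) F135921
theorem F207431 : act 3 n46485 = n32267 := d29_1 D46485 F204776 (iv F135922)
theorem F207432 : act 5 n46485 = n32274 := d38_1 D46485 F136174 (iv F204772)
theorem F207433 : act 6 n46485 = n46485 := d41_1 D46485 (iv D46485) F135923
theorem F207434 : act 7 n46485 = n32218 := d43_1 D46485 (iv D32218) (iv F135924)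
def n46486 : Q := act 5 n32211
theorem D46486 : act 5 n32211 = n46486 := rfl
theorem F207435 : act 2 n46486 = n32213 := d19_1 D46486 (iv D32213) (iv F135926)
theorem F207436 : act 7 n46486 = n32219 := d36_2 (iv F135928) D46486 (iv D32219)
theorem F207437 : act 8 n46486 = n46486 := d37_2 F135929 D46486 (iv D46486)
def n46487 : Q := act 9 n32211
theorem D46487 : act 9 n32211 = n46487 := rfl
theorem F207438 : act 2 n46487 = n32214 := d23_1 D46487 (iv D32214) (iv F135926)
theorem F207439 : act 4 n46487 = n32212 := d34_1 D46487 (iv D32212) D32211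
theorem F207440 : act 6 n46487 = n46487 := d41_1 D46487 (iv D46487) F135927
theorem F207441 : act 7 n46487 = n32220 := d43_1 D46487 (iv D32220) (iv F135928)
def n46488 : Q := act 8 n32212
theorem D46488 : act 8 n32212 = n46488 := rfl
theorem F207442 : act 2 n46488 = n32215 := d22_1 D46488 (iv D32215) (iv F135930)
theorem F207443 : act 6 n46488 = n46488 := d40_1 D46488 (iv D46488) F135932
theorem F207444 : act 7 n46488 = n32221 := d42_1 D46488 (iv D32221) (iv F135933)
theorem F207445 : act 9 n46488 = n46488 := d44_2 D32212 D46488 (iv D46488) (iv D32212) F94837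
def n46489 : Q := act 9 n32213
theorem D46489 : act 9 n32213 = n46489 := rfl
theorem F207446 : act 1 n46489 = n46489 := d16_1 D46489 (iv D46489) F135934
theorem F207447 : act 3 n46489 = n32239 := d29_1 D46489 (iv D32239) (iv F135935)
theorem F207448 : act 5 n46489 = n32214 := d38_1 D46489 (iv D32214) D32213
theorem F207449 : act 7 n46489 = n32223 := d43_1 D46489 (iv D32223) (iv F135936)
def n46490 : Q := act 8 n32214
theorem D46490 : act 8 n32214 = n46490 := rfl
theorem F207450 : act 1 n46490 = n46490 := d15_1 D46490 (iv D46490) F135938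
theorem F207451 : act 4 n46490 = n32215 := d33_1 D46490 (iv D32215) (iv F135940)
theorem F207452 : act 6 n46490 = n46490 := d40_1 D46490 (iv D46490) F135941
theorem F207453 : act 7 n46490 = n32224 := d42_1 D46490 (iv D32224) (iv F135942)
theorem F207454 : act 9 n46490 = n46490 := d44_2 D32214 D46490 (iv D46490) (iv D32214) F94842
def n46491 : Q := act 4 n32216
theorem D46491 : act 4 n32216 = n46491 := rfl
theorem F207455 : act 0 n46491 = n32217 := d3_1 D46491 (iv D32217) D32216
theorem F207456 : act 2 n46491 = n46491 := d18_1 D46491 (iv D46491) F135948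
theorem F207457 : act 6 n46491 = n32225 := d31_2 (iv F135950) D46491 (iv D32225)
theorem F207458 : act 8 n46491 = n46491 := d33_2 F135951 D46491 (iv D46491)
def n46492 : Q := act 9 n32216
theorem D46492 : act 9 n32216 = n46492 := rfl
theorem F207459 : act 0 n46492 = n32218 := d8_1 D46492 (iv D32218) D32216
theorem F207460 : act 2 n46492 = n46492 := d23_1 D46492 (iv D46492) F135948
theorem F207461 : act 3 n46492 = n32272 := d29_1 D46492 (iv D32272) (iv F135949)
theorem F207462 : act 6 n46492 = n32226 := d41_1 D46492 (iv D32226) (iv F135950)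
def n46493 : Q := act 5 n32217
theorem D46493 : act 5 n32217 = n46493 := rfl
theorem F207463 : act 1 n46493 = n32219 := d12_1 D46493 (iv D32219) (iv F135952)
theorem F207464 : act 2 n46493 = n46493 := d19_1 D46493 (iv D46493) F135953
theorem F207465 : act 8 n46493 = n46493 := d37_2 F135955 D46493 (iv D46493)
def n46494 : Q := act 9 n32217
theorem D46494 : act 9 n32217 = n46494 := rfl
theorem F207466 : act 1 n46494 = n32220 := d16_1 D46494 (iv D32220) (iv F135952)
theorem F207467 : act 2 n46494 = n46494 := d23_1 D46494 (iv D46494) F135953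
theorem F207468 : act 4 n46494 = n32218 := d34_1 D46494 (iv D32218) D32217
theorem F207469 : act 6 n46494 = n32228 := d41_1 D46494 (iv D32228) (iv F135954)
def n46495 : Q := act 8 n32218
theorem D46495 : act 8 n32218 = n46495 := rfl
theorem F207470 : act 1 n46495 = n32221 := d15_1 D46495 (iv D32221) (iv F135956)
theorem F207471 : act 2 n46495 = n46495 := d22_1 D46495 (iv D46495) F135957
theorem F207472 : act 6 n46495 = n32229 := d40_1 D46495 (iv D32229) (iv F135959)
theorem F207473 : act 9 n46495 = n46495 := d44_2 D32218 D46495 (iv D46495) (iv D32218) F94850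
def n46496 : Q := act 6 n32219
theorem D46496 : act 6 n32219 = n46496 := rfl
theorem F207474 : act 2 n46496 = n32222 := d20_1 D46496 (iv D32222) (iv F135960)
theorem F207475 : act 5 n46496 = n32230 := d35_1 D46496 (iv D32230) (iv D22115) (iv F94852) D32219
theorem F207476 : act 8 n46496 = n46496 := d40_2 F135961 D46496 (iv D46496)
def n46497 : Q := act 9 n32219
theorem D46497 : act 9 n32219 = n46497 := rfl
theorem F207477 : act 2 n46497 = n32223 := d23_1 D46497 (iv D32223) (iv F135960)
theorem F207478 : act 5 n46497 = n32220 := d38_1 D46497 (iv D32220) D32219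
def n46498 : Q := act 8 n32220
theorem D46498 : act 8 n32220 = n46498 := rfl
theorem F207479 : act 2 n46498 = n32224 := d22_1 D46498 (iv D32224) (iv F135962)
theorem F207480 : act 4 n46498 = n32221 := d33_1 D46498 (iv D32221) (iv F135963)
theorem F207481 : act 6 n46498 = n32232 := d40_1 D46498 (iv D32232) (iv F135964)
theorem F207482 : act 9 n46498 = n46498 := d44_2 D32220 D46498 (iv D46498) (iv D32220) F94853
def n46499 : Q := act 3 n32221
theorem D46499 : act 3 n32221 = n46499 := rfl
theorem F207483 : act 2 n46499 = n46499 := d17_1 D46499 (iv D46499) F135965 F94865 (iv F135965)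
theorem F207484 : act 6 n46499 = n32233 := d26_2 (iv F135966) D46499 (iv D32233)
theorem F207485 : act 8 n46499 = n32274 := d28_2 D32221 D46499 (iv D32274) (iv D22150) (iv F94855)
theorem F207486 : act 9 n46499 = n46499 := d29_2 F135967 D46499 (iv D46499)
def n46500 : Q := act 7 n32222
theorem D46500 : act 7 n32222 = n46500 := rfl
theorem F207487 : act 1 n46500 = n46500 := d14_1 D46500 (iv D46500) F135968
theorem F207488 : act 3 n46500 = n32241 := d27_1 D46500 (iv D32241) (iv F135969)
theorem F207489 : act 5 n46500 = n32234 := d36_1 D46500 (iv D32234) (iv F135970)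
theorem F207490 : act 8 n46500 = n46500 := d42_2 F135971 D46500 (iv D46500)
def n46501 : Q := act 9 n32222
theorem D46501 : act 9 n32222 = n46501 := rfl
theorem F207491 : act 1 n46501 = n46501 := d16_1 D46501 (iv D46501) F135968
theorem F207492 : act 3 n46501 = n32242 := d29_1 D46501 (iv D32242) (iv F135969)
theorem F207493 : act 5 n46501 = n32235 := d38_1 D46501 (iv D32235) (iv F135970)
theorem F207494 : act 6 n46501 = n32223 := d41_1 D46501 (iv D32223) D32222
def n46502 : Q := act 8 n32223
theorem D46502 : act 8 n32223 = n46502 := rfl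
theorem F207495 : act 1 n46502 = n46502 := d15_1 D46502 (iv D46502) F135972
theorem F207496 : act 5 n46502 = n32224 := d37_1 D46502 (iv D32224) (iv F135974)
theorem F207497 : act 9 n46502 = n46502 := d44_2 D32223 D46502 (iv D46502) (iv D32223) F94859
def n46503 : Q := act 5 n32225
theorem D46503 : act 5 n32225 = n46503 := rfl
theorem F207498 : act 0 n46503 = n32227 := d4_1 D46503 (iv D32227) (iv F135979)
theorem F207499 : act 2 n46503 = n46503 := d19_1 D46503 (iv D46503) F135980
theorem F207500 : act 4 n46503 = n46503 := d30_1 D46503 (iv D46503) (iv D32225) F94870 D32225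
theorem F207501 : act 7 n46503 = n46503 := d36_2 F135981 D46503 (iv D46503)
theorem F207502 : act 8 n46503 = n46503 := d37_2 F135982 D46503 (iv D46503)
def n46504 : Q := act 9 n32225
theorem D46504 : act 9 n32225 = n46504 := rfl
theorem F207503 : act 0 n46504 = n32228 := d8_1 D46504 (iv D32228) (iv F135979)
theorem F207504 : act 2 n46504 = n46504 := d23_1 D46504 (iv D46504) F135980
theorem F207505 : act 4 n46504 = n32226 := d34_1 D46504 (iv D32226) D32225
theorem F207506 : act 7 n46504 = n46504 := d43_1 D46504 (iv D46504) F135981
def n46505 : Q := act 8 n32226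
theorem D46505 : act 8 n32226 = n46505 := rfl
theorem F207507 : act 0 n46505 = n32229 := d7_1 D46505 (iv D32229) (iv F135983)
theorem F207508 : act 2 n46505 = n46505 := d22_1 D46505 (iv D46505) F135984
theorem F207509 : act 5 n46505 = n46505 := d37_1 D46505 (iv D46505) F135986
theorem F207510 : act 7 n46505 = n46505 := d42_1 D46505 (iv D46505) F135987
theorem F207511 : act 9 n46505 = n46505 := d44_2 D32226 D46505 (iv D46505) (iv D32226) F94872
def n46506 : Q := act 6 n32227
theorem D46506 : act 6 n32227 = n46506 := rfl
theorem F207512 : act 1 n46506 = n32230 := d13_1 D46506 (iv D32230) (iv F135988)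
theorem F207513 : act 2 n46506 = n46506 := d20_1 D46506 (iv D46506) F135989
theorem F207514 : act 4 n46506 = n46506 := d31_1 D46506 (iv D46506) F135990
theorem F207515 : act 8 n46506 = n46506 := d40_2 F135992 D46506 (iv D46506)
def n46507 : Q := act 9 n32227
theorem D46507 : act 9 n32227 = n46507 := rfl
theorem F207516 : act 1 n46507 = n32231 := d16_1 D46507 (iv D32231) (iv F135988)
theorem F207517 : act 2 n46507 = n46507 := d23_1 D46507 (iv D46507) F135989
theorem F207518 : act 4 n46507 = n46507 := d34_1 D46507 (iv D46507) F135990
theorem F207519 : act 5 n46507 = n32228 := d38_1 D46507 (iv D32228) D32227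
theorem F207520 : act 7 n46507 = n46507 := d43_1 D46507 (iv D46507) F135991
def n46508 : Q := act 8 n32228
theorem D46508 : act 8 n32228 = n46508 := rfl
theorem F207521 : act 1 n46508 = n32232 := d15_1 D46508 (iv D32232) (iv F135993)
theorem F207522 : act 2 n46508 = n46508 := d22_1 D46508 (iv D46508) F135994
theorem F207523 : act 4 n46508 = n32229 := d33_1 D46508 (iv D32229) (iv F135995)
theorem F207524 : act 7 n46508 = n46508 := d42_1 D46508 (iv D46508) F135996
theorem F207525 : act 9 n46508 = n46508 := d44_2 D32228 D46508 (iv D46508) (iv D32228) F94876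
def n46509 : Q := act 3 n32229
theorem D46509 : act 3 n32229 = n46509 := rfl
theorem F207526 : act 1 n46509 = n32233 := d10_1 D46509 (iv D32233) (iv F135997)
theorem F207527 : act 5 n46509 = n46509 := d25_2 F135999 D46509 (iv D46509)
theorem F207528 : act 7 n46509 = n46509 := d27_2 F136000 D46509 (iv D46509)
theorem F207529 : act 8 n46509 = n32276 := d28_2 D32229 D46509 (iv D32276) (iv D22152) (iv F94879)
theorem F207530 : act 9 n46509 = n46509 := d29_2 F136001 D46509 (iv D46509)
def n46510 : Q := act 7 n32230
theorem D46510 : act 7 n32230 = n46510 := rfl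
theorem F207531 : act 2 n46510 = n32234 := d21_1 D46510 (iv D32234) (iv F136002)
theorem F207532 : act 4 n46510 = n46510 := d32_1 D46510 (iv D46510) F136003
theorem F207533 : act 6 n46510 = n46510 := d39_1 D46510 (iv D46510) (iv D32230) F94884 D32230
theorem F207534 : act 8 n46510 = n46510 := d42_2 F136004 D46510 (iv D46510)
def n46511 : Q := act 9 n32230
theorem D46511 : act 9 n32230 = n46511 := rfl
theorem F207535 : act 2 n46511 = n32235 := d23_1 D46511 (iv D32235) (iv F136002)
theorem F207536 : act 4 n46511 = n46511 := d34_1 D46511 (iv D46511) F136003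
theorem F207537 : act 6 n46511 = n32231 := d41_1 D46511 (iv D32231) D32230
def n46512 : Q := act 8 n32231
theorem D46512 : act 8 n32231 = n46512 := rfl
theorem F207538 : act 2 n46512 = n32236 := d22_1 D46512 (iv D32236) (iv F136005)
theorem F207539 : act 4 n46512 = n46512 := d33_1 D46512 (iv D46512) F136006
theorem F207540 : act 5 n46512 = n32232 := d37_1 D46512 (iv D32232) (iv F136007)
theorem F207541 : act 7 n46512 = n46512 := d42_1 D46512 (iv D46512) F136008
theorem F207542 : act 9 n46512 = n46512 := d44_2 D32231 D46512 (iv D46512) (iv D32231) F94885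
def n46513 : Q := act 3 n32232
theorem D46513 : act 3 n32232 = n46513 := rfl
theorem F207543 : act 7 n46513 = n46513 := d27_2 F136011 D46513 (iv D46513)
theorem F207544 : act 9 n46513 = n46513 := d29_2 F136012 D46513 (iv D46513)
def n46514 : Q := act 4 n32233
theorem D46514 : act 4 n32233 = n46514 := rfl
theorem F207545 : act 2 n46514 = n46514 := d18_1 D46514 (iv D46514) F136013
theorem F207546 : act 7 n46514 = n46514 := d32_2 F136015 D46514 (iv D46514)
theorem F207547 : act 8 n46514 = n32277 := d33_2 (iv F136016) D46514 (iv D32277)
theorem F207548 : act 9 n46514 = n46514 := d34_2 F136017 D46514 (iv D46514)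
def n46515 : Q := act 9 n32234
theorem D46515 : act 9 n32234 = n46515 := rfl
theorem F207549 : act 1 n46515 = n46515 := d16_1 D46515 (iv D46515) F136018
theorem F207550 : act 3 n46515 = n32245 := d29_1 D46515 (iv D32245) (iv F136019)
theorem F207551 : act 4 n46515 = n46515 := d34_1 D46515 (iv D46515) F136020
theorem F207552 : act 6 n46515 = n46515 := d41_1 D46515 (iv D46515) F136021
theorem F207553 : act 7 n46515 = n32235 := d43_1 D46515 (iv D32235) D32234
def n46516 : Q := act 8 n32235
theorem D46516 : act 8 n32235 = n46516 := rfl
theorem F207554 : act 1 n46516 = n46516 := d15_1 D46516 (iv D46516) F136023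
theorem F207555 : act 4 n46516 = n46516 := d33_1 D46516 (iv D46516) F136025
theorem F207556 : act 6 n46516 = n32236 := d40_1 D46516 (iv D32236) (iv F136026)
theorem F207557 : act 9 n46516 = n46516 := d44_2 D32235 D46516 (iv D46516) (iv D32235) F94896
def n46517 : Q := act 7 n32238
theorem D46517 : act 7 n32238 = n46517 := rfl
theorem F207558 : act 1 n46517 = n46517 := d14_1 D46517 (iv D46517) F136037
theorem F207559 : act 5 n46517 = n46517 := d36_1 D46517 (iv D46517) F136038
theorem F207560 : act 6 n46517 = n32241 := d39_1 D46517 (iv D32241) (iv D22124) (iv F94907) D32238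
theorem F207561 : act 8 n46517 = n35305 := d42_2 (iv F136039) D46517 (iv D35305)
def n46518 : Q := act 9 n32238
theorem D46518 : act 9 n32238 = n46518 := rfl
theorem F207562 : act 1 n46518 = n46518 := d16_1 D46518 (iv D46518) F136037
theorem F207563 : act 5 n46518 = n46518 := d38_1 D46518 (iv D46518) F136038
theorem F207564 : act 6 n46518 = n32239 := d41_1 D46518 (iv D32239) D32238
def n46519 : Q := act 9 n32241
theorem D46519 : act 9 n32241 = n46519 := rfl
theorem F207565 : act 1 n46519 = n46519 := d16_1 D46519 (iv D46519) F136048
theorem F207566 : act 5 n46519 = n32245 := d38_1 D46519 (iv D32245) (iv F136049)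
theorem F207567 : act 7 n46519 = n32242 := d43_1 D46519 (iv D32242) D32241
def n46520 : Q := act 8 n32265
theorem D46520 : act 8 n32265 = n46520 := rfl
theorem F207568 : act 3 n46520 = n32353 := d28_1 D46520 (iv D32353) (iv D22208) (iv F94985) D32265
theorem F207569 : act 6 n46520 = n46520 := d40_1 D46520 (iv D46520) F136141
def n46521 : Q := act 9 n32265
theorem D46521 : act 9 n32265 = n46521 := rfl
theorem F207570 : act 3 n46521 = n32266 := d29_1 D46521 (iv D32266) D32265
theorem F207571 : act 6 n46521 = n46521 := d41_1 D46521 (iv D46521) F136141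
def n46522 : Q := act 4 n32274
theorem D46522 : act 4 n32274 = n46522 := rfl
theorem F207572 : act 2 n46522 = n46522 := d18_1 D46522 (iv D46522) F136172
theorem F207573 : act 6 n46522 = n32277 := d31_2 (iv F136173) D46522 (iv D32277)
theorem F207574 : act 9 n46522 = n32363 := d34_2 (iv F136174) D46522 (iv D32363)
def n46523 : Q := act 8 n32322
theorem D46523 : act 8 n32322 = n46523 := rfl
theorem F207575 : act 0 n46523 = n32353 := d7_1 D46523 (iv D32353) (iv F136387)
theorem F207576 : act 2 n46523 = n46523 := d22_1 D46523 (iv D46523) F136388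
theorem F207577 : act 4 n46523 = n46523 := d33_1 D46523 (iv D46523) F136389
theorem F207578 : act 6 n46523 = n46523 := d40_1 D46523 (iv D46523) F136390
def n46524 : Q := act 3 n32330
theorem D46524 : act 3 n32330 = n46524 := rfl
theorem F207579 : act 1 n46524 = n32331 := d10_1 D46524 (iv D32331) (iv F136422)
theorem F207580 : act 6 n46524 = n32333 := d26_2 (iv F136424) D46524 (iv D32333)
theorem F207581 : act 8 n46524 = n46524 := d28_2 D32330 D46524 (iv D46524) (iv D32330) F95204
def n46525 : Q := act 4 n32331
theorem D46525 : act 4 n32331 = n46525 := rfl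
theorem F207582 : act 0 n46525 = n32363 := d3_1 D46525 (iv D32363) (iv F136425)
theorem F207583 : act 2 n46525 = n46525 := d18_1 D46525 (iv D46525) F136426
theorem F207584 : act 6 n46525 = n32334 := d31_2 (iv F136427) D46525 (iv D32334)
theorem F207585 : act 8 n46525 = n46525 := d33_2 F136428 D46525 (iv D46525)
def n46526 : Q := act 9 n32353
theorem D46526 : act 9 n32353 = n46526 := rfl
theorem F207586 : act 2 n46526 = n46526 := d23_1 D46526 (iv D46526) F136512
theorem F207587 : act 4 n46526 = n46526 := d34_1 D46526 (iv D46526) F136513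
theorem F207588 : act 6 n46526 = n46526 := d41_1 D46526 (iv D46526) F136514
def n46527 : Q := act 5 n32363
theorem D46527 : act 5 n32363 = n46527 := rfl
theorem F207589 : act 2 n46527 = n46527 := d19_1 D46527 (iv D46527) F136549
theorem F207590 : act 8 n46527 = n46527 := d37_2 F136551 D46527 (iv D46527)
def n46528 : Q := act 7 n33488
theorem D46528 : act 7 n33488 = n46528 := rfl
theorem F207591 : act 1 n46528 = n34387 := d14_1 D46528 (iv D34387) (iv F141224)
theorem F207592 : act 2 n46528 = n46528 := d21_1 D46528 (iv D46528) F141225
theorem F207593 : act 4 n46528 = n33491 := d32_1 D46528 (iv D33491) (iv F141226)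
def n46529 : Q := act 9 n33719
theorem D46529 : act 9 n33719 = n46529 := rfl
theorem F207594 : act 0 n46529 = n33873 := d8_1 D46529 (iv D33873) (iv F198302)
theorem F207595 : act 1 n46529 = n34513 := d16_1 D46529 (iv D34513) (iv F142191)
theorem F207596 : act 2 n46529 = n46529 := d23_1 D46529 (iv D46529) F142192
theorem F207597 : act 3 n46529 = n34651 := d29_1 D46529 (iv D34651) (iv F202315)
theorem F207598 : act 5 n46529 = n33722 := d38_1 D46529 (iv D33722) (iv F142193)
theorem F207599 : act 6 n46529 = n46529 := d41_1 D46529 (iv D46529) F142194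
theorem F207600 : act 7 n46529 = n33822 := d43_1 D46529 (iv D33822) (iv F198304)
theorem F207601 : act 8 n46529 = n33871 := d44_1 D46529 (iv D33871) (iv D23230) (iv F99160) D33719
def n46530 : Q := act 9 n33720
theorem D46530 : act 9 n33720 = n46530 := rfl
theorem F207602 : act 0 n46530 = n33871 := d8_1 D46530 (iv D33871) (iv F197510)
theorem F207603 : act 1 n46530 = n34515 := d16_1 D46530 (iv D34515) (iv F142195)
theorem F207604 : act 2 n46530 = n46530 := d23_1 D46530 (iv D46530) F142196
theorem F207605 : act 3 n46530 = n34653 := d29_1 D46530 (iv D34653) (iv F202293)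
theorem F207606 : act 5 n46530 = n33822 := d38_1 D46530 (iv D33822) (iv F197511)
theorem F207607 : act 6 n46530 = n46530 := d41_1 D46530 (iv D46530) F142197
theorem F207608 : act 7 n46530 = n33722 := d43_1 D46530 (iv D33722) (iv F142198)
theorem F207609 : act 8 n46530 = n33873 := d44_1 D46530 (iv D33873) (iv D23231) (iv F99165) D33720
def n46531 : Q := act 9 n33789
theorem D46531 : act 9 n33789 = n46531 := rfl
theorem F207610 : act 0 n46531 = n34518 := d8_1 D46531 (iv D34518) (iv F203165)
theorem F207611 : act 1 n46531 = n33822 := d16_1 D46531 (iv D33822) (iv F142457)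
theorem F207612 : act 2 n46531 = n34816 := d23_1 D46531 (iv D34816) (iv F198338)
theorem F207613 : act 3 n46531 = n34465 := d29_1 D46531 (iv D34465) (iv F203166)
theorem F207614 : act 5 n46531 = n34515 := d38_1 D46531 (iv D34515) (iv F198339)
theorem F207615 : act 6 n46531 = n33791 := d41_1 D46531 (iv D33791) (iv F142458)
theorem F207616 : act 7 n46531 = n34513 := d43_1 D46531 (iv D34513) (iv F198340)
theorem F207617 : act 8 n46531 = n33876 := d44_1 D46531 (iv D33876) F99584 (iv F202720) D33789
def n46532 : Q := act 9 n33821
theorem D46532 : act 9 n33821 = n46532 := rfl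
theorem F207618 : act 0 n46532 = n33876 := d8_1 D46532 (iv D33876) (iv F142591)
theorem F207619 : act 1 n46532 = n34465 := d16_1 D46532 (iv D34465) (iv F202549)
theorem F207620 : act 2 n46532 = n34891 := d23_1 D46532 (iv D34891) (iv F202550)
theorem F207621 : act 3 n46532 = n33822 := d29_1 D46532 (iv D33822) D33821
theorem F207622 : act 5 n46532 = n34653 := d38_1 D46532 (iv D34653) (iv F202552)
theorem F207623 : act 6 n46532 = n33825 := d41_1 D46532 (iv D33825) (iv F142592)
theorem F207624 : act 7 n46532 = n34651 := d43_1 D46532 (iv D34651) (iv F202553)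
theorem F207625 : act 8 n46532 = n34518 := d44_1 D46532 (iv D34518) F101273 F202296 (iv F142593)
def n46533 : Q := act 9 n33867
theorem D46533 : act 9 n33867 = n46533 := rfl
theorem F207626 : act 1 n46533 = n34690 := d16_1 D46533 (iv D34690) (iv F142778)
theorem F207627 : act 2 n46533 = n46533 := d23_1 D46533 (iv D46533) F142779
theorem F207628 : act 4 n46533 = n33871 := d34_1 D46533 (iv D33871) (iv F142780)
theorem F207629 : act 6 n46533 = n46533 := d41_1 D46533 (iv D46533) F142781
theorem F207630 : act 7 n46533 = n34699 := d43_1 D46533 (iv D34699) (iv F203174)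
def n46534 : Q := act 9 n33875
theorem D46534 : act 9 n33875 = n46534 := rfl
theorem F207631 : act 1 n46534 = n34699 := d16_1 D46534 (iv D34699) (iv F142811)
theorem F207632 : act 2 n46534 = n34895 := d23_1 D46534 (iv D34895) (iv F203211)
theorem F207633 : act 4 n46534 = n33876 := d34_1 D46534 (iv D33876) D33875
theorem F207634 : act 6 n46534 = n33880 := d41_1 D46534 (iv D33880) (iv F142812)
theorem F207635 : act 7 n46534 = n34690 := d43_1 D46534 (iv D34690) (iv F203213)
def n46535 : Q := act 7 n33905
theorem D46535 : act 7 n33905 = n46535 := rfl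
theorem F207636 : act 1 n46535 = n34724 := d14_1 D46535 (iv D34724) (iv F142924)
theorem F207637 : act 2 n46535 = n46535 := d21_1 D46535 (iv D46535) F142925
theorem F207638 : act 5 n46535 = n33908 := d36_1 D46535 (iv D33908) (iv F142926)
def n46536 : Q := act 6 n34354
theorem D46536 : act 6 n34354 = n46536 := rfl
theorem F207639 : act 4 n46536 = n46536 := d31_1 D46536 (iv D46536) F144626
theorem F207640 : act 8 n46536 = n34378 := d40_2 (iv F144627) D46536 (iv D34378)
def n46537 : Q := act 7 n34378
theorem D46537 : act 7 n34378 = n46537 := rfl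
theorem F207641 : act 3 n46537 = n34387 := d27_1 D46537 (iv D34387) (iv F144683)
theorem F207642 : act 4 n46537 = n46537 := d32_1 D46537 (iv D46537) F144684
def n46538 : Q := act 7 n34384
theorem D46538 : act 7 n34384 = n46538 := rfl
theorem F207643 : act 2 n46538 = n35219 := d21_1 D46538 (iv D35219) (iv F144698)
theorem F207644 : act 4 n46538 = n34724 := d32_1 D46538 (iv D34724) (iv F144699)
theorem F207645 : act 5 n46538 = n34387 := d36_1 D46538 (iv D34387) (iv F144700)
def n46539 : Q := act 9 n34462
theorem D46539 : act 9 n34462 = n46539 := rfl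
theorem F207646 : act 0 n46539 = n34513 := d8_1 D46539 (iv D34513) (iv F144988)
theorem F207647 : act 1 n46539 = n34653 := d16_1 D46539 (iv D34653) (iv F198936)
theorem F207648 : act 2 n46539 = n34776 := d23_1 D46539 (iv D34776) (iv F144989)
theorem F207649 : act 3 n46539 = n34515 := d29_1 D46539 (iv D34515) (iv F203148)
theorem F207650 : act 5 n46539 = n34465 := d38_1 D46539 (iv D34465) (iv F144990)
theorem F207651 : act 6 n46539 = n46539 := d41_1 D46539 (iv D46539) F144991
theorem F207652 : act 7 n46539 = n34518 := d43_1 D46539 (iv D34518) (iv F203149)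
theorem F207653 : act 8 n46539 = n34651 := d44_1 D46539 (iv D34651) (iv D23764) (iv F101116) D34462
def n46540 : Q := act 9 n34463
theorem D46540 : act 9 n34463 = n46540 := rfl
theorem F207654 : act 0 n46540 = n34515 := d8_1 D46540 (iv D34515) (iv F144992)
theorem F207655 : act 1 n46540 = n34651 := d16_1 D46540 (iv D34651) (iv F198335)
theorem F207656 : act 2 n46540 = n34778 := d23_1 D46540 (iv D34778) (iv F144993)
theorem F207657 : act 3 n46540 = n34513 := d29_1 D46540 (iv D34513) (iv F203151)
theorem F207658 : act 5 n46540 = n34518 := d38_1 D46540 (iv D34518) (iv F203152)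
theorem F207659 : act 6 n46540 = n46540 := d41_1 D46540 (iv D46540) F144994
theorem F207660 : act 7 n46540 = n34465 := d43_1 D46540 (iv D34465) (iv F144995)
theorem F207661 : act 8 n46540 = n34653 := d44_1 D46540 (iv D34653) (iv D23765) (iv F101121) D34463
def n46541 : Q := act 3 n34509
theorem D46541 : act 3 n34509 = n46541 := rfl
theorem F207662 : act 6 n46541 = n46541 := d26_2 F145189 D46541 (iv D46541)
def n46542 : Q := act 9 n34509
theorem D46542 : act 9 n34509 = n46542 := rfl
theorem F207663 : act 2 n46542 = n34813 := d23_1 D46542 (iv D34813) (iv F145187)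
theorem F207664 : act 4 n46542 = n34513 := d34_1 D46542 (iv D34513) (iv F145188)
theorem F207665 : act 6 n46542 = n46542 := d41_1 D46542 (iv D46542) F145189
theorem F207666 : act 8 n46542 = n34690 := d44_1 D46542 (iv D34690) (iv D23796) (iv F101261) D34509
def n46543 : Q := act 9 n34516
theorem D46543 : act 9 n34516 = n46543 := rfl
theorem F207667 : act 0 n46543 = n34816 := d8_1 D46543 (iv D34816) (iv F203200)
theorem F207668 : act 1 n46543 = n34877 := d16_1 D46543 (iv D34877) (iv F203201)
theorem F207669 : act 2 n46543 = n34518 := d23_1 D46543 (iv D34518) D34516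
theorem F207670 : act 3 n46543 = n34825 := d29_1 D46543 (iv D34825) (iv F145212)
theorem F207671 : act 5 n46543 = n34778 := d38_1 D46543 (iv D34778) (iv F203203)
theorem F207672 : act 6 n46543 = n34521 := d41_1 D46543 (iv D34521) (iv F145213)
theorem F207673 : act 7 n46543 = n34776 := d43_1 D46543 (iv D34776) (iv F203204)
theorem F207674 : act 8 n46543 = n34891 := d44_1 D46543 (iv D34891) (iv D23947) (iv F202765) (iv F145214)
def n46544 : Q := act 3 n34647
theorem D46544 : act 3 n34647 = n46544 := rfl
theorem F207675 : act 0 n46544 = n34689 := d2_1 D46544 (iv D34689) (iv F145670)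
theorem F207676 : act 6 n46544 = n46544 := d26_2 F145673 D46544 (iv D46544)
def n46545 : Q := act 9 n34647
theorem D46545 : act 9 n34647 = n46545 := rfl
theorem F207677 : act 0 n46545 = n34690 := d8_1 D46545 (iv D34690) (iv F145670)
theorem F207678 : act 2 n46545 = n34889 := d23_1 D46545 (iv D34889) (iv F145671)
theorem F207679 : act 4 n46545 = n34651 := d34_1 D46545 (iv D34651) (iv F145672)
theorem F207680 : act 6 n46545 = n46545 := d41_1 D46545 (iv D46545) F145673
def n46546 : Q := act 2 n34689
theorem D46546 : act 2 n34689 = n46546 := rfl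
theorem F207681 : act 3 n46546 = n34896 := d17_2 D34689 D46546 (iv D34896) (iv D23952) (iv F101726)
theorem F207682 : act 6 n46546 = n46546 := d20_2 F145844 D46546 (iv D46546)
def n46547 : Q := act 9 n34689
theorem D46547 : act 9 n34689 = n46547 := rfl
theorem F207683 : act 3 n46547 = n34690 := d29_1 D46547 (iv D34690) D34689
theorem F207684 : act 6 n46547 = n46547 := d41_1 D46547 (iv D46547) F145844
def n46548 : Q := act 6 n34698
theorem D46548 : act 6 n34698 = n46548 := rfl
theorem F207685 : act 2 n46548 = n46548 := d20_1 D46548 (iv D46548) F145874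
theorem F207686 : act 5 n46548 = n34701 := d35_1 D46548 (iv D34701) (iv D23805) (iv F101751) D34698
theorem F207687 : act 8 n46548 = n34714 := d40_2 (iv F145875) D46548 (iv D34714)
def n46549 : Q := act 9 n34698
theorem D46549 : act 9 n34698 = n46549 := rfl
theorem F207688 : act 2 n46549 = n46549 := d23_1 D46549 (iv D46549) F145874
theorem F207689 : act 5 n46549 = n34699 := d38_1 D46549 (iv D34699) D34698
def n46550 : Q := act 7 n34701
theorem D46550 : act 7 n34701 = n46550 := rfl
theorem F207690 : act 2 n46550 = n46550 := d21_1 D46550 (iv D46550) F145882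
theorem F207691 : act 4 n46550 = n46550 := d32_1 D46550 (iv D46550) F145883
theorem F207692 : act 6 n46550 = n46550 := d39_1 D46550 (iv D46550) (iv D34701) F101758 D34701
theorem F207693 : act 8 n46550 = n34717 := d42_2 (iv F145884) D46550 (iv D34717)
def n46551 : Q := act 9 n34701
theorem D46551 : act 9 n34701 = n46551 := rfl
theorem F207694 : act 2 n46551 = n46551 := d23_1 D46551 (iv D46551) F145882
theorem F207695 : act 4 n46551 = n46551 := d34_1 D46551 (iv D46551) F145883
theorem F207696 : act 6 n46551 = n34702 := d41_1 D46551 (iv D34702) D34701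
def n46552 : Q := act 7 n34714
theorem D46552 : act 7 n34714 = n46552 := rfl
theorem F207697 : act 2 n46552 = n46552 := d21_1 D46552 (iv D46552) F145926
theorem F207698 : act 3 n46552 = n34724 := d27_1 D46552 (iv D34724) (iv F145927)
theorem F207699 : act 5 n46552 = n34717 := d36_1 D46552 (iv D34717) (iv F145928)
def n46553 : Q := act 7 n34721
theorem D46553 : act 7 n34721 = n46553 := rfl
theorem F207700 : act 2 n46553 = n35305 := d21_1 D46553 (iv D35305) (iv F145949)
theorem F207701 : act 5 n46553 = n46553 := d36_1 D46553 (iv D46553) F145950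
theorem F207702 : act 6 n46553 = n34724 := d39_1 D46553 (iv D34724) (iv D23824) (iv F101811) D34721
def n46554 : Q := act 3 n34772
theorem D46554 : act 3 n34772 = n46554 := rfl
theorem F207703 : act 0 n46554 = n34812 := d2_1 D46554 (iv D34812) (iv F146164)
theorem F207704 : act 6 n46554 = n46554 := d26_2 F146166 D46554 (iv D46554)
theorem F207705 : act 8 n46554 = n46554 := d28_2 D34772 D46554 (iv D46554) (iv D34772) F101963
def n46555 : Q := act 9 n34772
theorem D46555 : act 9 n34772 = n46555 := rfl
theorem F207706 : act 0 n46555 = n34813 := d8_1 D46555 (iv D34813) (iv F146164)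
theorem F207707 : act 4 n46555 = n34776 := d34_1 D46555 (iv D34776) (iv F146165)
theorem F207708 : act 6 n46555 = n46555 := d41_1 D46555 (iv D46555) F146166
theorem F207709 : act 8 n46555 = n34889 := d44_1 D46555 (iv D34889) (iv D23945) (iv F101965) D34772
def n46556 : Q := act 9 n34811
theorem D46556 : act 9 n34811 = n46556 := rfl
theorem F207710 : act 1 n46556 = n46556 := d16_1 D46556 (iv D46556) F146336
theorem F207711 : act 4 n46556 = n34816 := d34_1 D46556 (iv D34816) (iv F146337)
theorem F207712 : act 7 n46556 = n34813 := d43_1 D46556 (iv D34813) (iv F146338)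
theorem F207713 : act 8 n46556 = n34895 := d44_1 D46556 (iv D34895) (iv D23951) (iv F102095) D34811
def n46557 : Q := act 9 n34812
theorem D46557 : act 9 n34812 = n46557 := rfl
theorem F207714 : act 1 n46557 = n46557 := d16_1 D46557 (iv D46557) F146339
theorem F207715 : act 3 n46557 = n34813 := d29_1 D46557 (iv D34813) D34812
theorem F207716 : act 6 n46557 = n46557 := d41_1 D46557 (iv D46557) F146340
def n46558 : Q := act 2 n34888
theorem D46558 : act 2 n34888 = n46558 := rfl
theorem F207717 : act 0 n46558 = n34896 := d1_1 D46558 (iv D34896) (iv F146659)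
theorem F207718 : act 4 n46558 = n46558 := d18_2 F146660 D46558 (iv D46558)
theorem F207719 : act 6 n46558 = n46558 := d20_2 F146661 D46558 (iv D46558)
theorem F207720 : act 8 n46558 = n46558 := d22_2 F146662 D46558 (iv D46558)
def n46559 : Q := act 9 n34888
theorem D46559 : act 9 n34888 = n46559 := rfl
theorem F207721 : act 0 n46559 = n34897 := d8_1 D46559 (iv D34897) (iv F146659)
theorem F207722 : act 3 n46559 = n34889 := d29_1 D46559 (iv D34889) D34888
theorem F207723 : act 4 n46559 = n46559 := d34_1 D46559 (iv D46559) F146660
theorem F207724 : act 6 n46559 = n46559 := d41_1 D46559 (iv D46559) F146661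
def n46560 : Q := act 2 n34894
theorem D46560 : act 2 n34894 = n46560 := rfl
theorem F207725 : act 4 n46560 = n46560 := d18_2 F146684 D46560 (iv D46560)
theorem F207726 : act 7 n46560 = n34896 := d21_2 (iv F146685) D46560 (iv D34896)
theorem F207727 : act 8 n46560 = n46560 := d22_2 F146686 D46560 (iv D46560)
def n46561 : Q := act 9 n34894
theorem D46561 : act 9 n34894 = n46561 := rfl
theorem F207728 : act 1 n46561 = n46561 := d16_1 D46561 (iv D46561) F146683
theorem F207729 : act 3 n46561 = n34895 := d29_1 D46561 (iv D34895) D34894
theorem F207730 : act 4 n46561 = n46561 := d34_1 D46561 (iv D46561) F146684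
theorem F207731 : act 7 n46561 = n34897 := d43_1 D46561 (iv D34897) (iv F146685)
def n46562 : Q := act 1 n34896
theorem D46562 : act 1 n34896 = n46562 := rfl
theorem F207732 : act 2 n46562 = n46562 := d9_2 D34896 D46562 (iv D46562) (iv D34896) F102373
theorem F207733 : act 4 n46562 = n46562 := d11_2 F146690 D46562 (iv D46562)
theorem F207734 : act 6 n46562 = n46562 := d13_2 F146691 D46562 (iv D46562)
theorem F207735 : act 8 n46562 = n46562 := d15_2 F146692 D46562 (iv D46562)
def n46563 : Q := act 9 n34896
theorem D46563 : act 9 n34896 = n46563 := rfl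
theorem F207736 : act 2 n46563 = n34897 := d23_1 D46563 (iv D34897) D34896
theorem F207737 : act 4 n46563 = n46563 := d34_1 D46563 (iv D46563) F146690
theorem F207738 : act 6 n46563 = n46563 := d41_1 D46563 (iv D46563) F146691
def n46564 : Q := act 8 n34897
theorem D46564 : act 8 n34897 = n46564 := rfl
theorem F207739 : act 1 n46564 = n46564 := d15_1 D46564 (iv D46564) F146693
theorem F207740 : act 4 n46564 = n46564 := d33_1 D46564 (iv D46564) F146695
theorem F207741 : act 6 n46564 = n46564 := d40_1 D46564 (iv D46564) F146696
theorem F207742 : act 9 n46564 = n46564 := d44_2 D34897 D46564 (iv D46564) (iv D34897) F102376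
def n46565 : Q := act 6 n35175
theorem D46565 : act 6 n35175 = n46565 := rfl
theorem F207743 : act 1 n46565 = n46565 := d13_1 D46565 (iv D46565) F147799
theorem F207744 : act 4 n46565 = n46565 := d31_1 D46565 (iv D46565) F147800
theorem F207745 : act 5 n46565 = n35185 := d35_1 D46565 (iv D35185) (iv D24147) (iv F103145) D35175
theorem F207746 : act 8 n46565 = n35200 := d40_2 (iv F147801) D46565 (iv D35200)
def n46566 : Q := act 9 n35175
theorem D46566 : act 9 n35175 = n46566 := rfl
theorem F207747 : act 1 n46566 = n46566 := d16_1 D46566 (iv D46566) F147799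
theorem F207748 : act 3 n46566 = n35219 := d29_1 D46566 (iv F206740) (iv F206544)
theorem F207749 : act 4 n46566 = n46566 := d34_1 D46566 (iv D46566) F147800
theorem F207750 : act 5 n46566 = n35176 := d38_1 D46566 (iv D35176) D35175
theorem F207751 : act 7 n46566 = n35200 := d43_1 D46566 F206426 F206546
def n46567 : Q := act 7 n35216
theorem D46567 : act 7 n35216 = n46567 := rfl
theorem F207752 : act 1 n46567 = n46567 := d14_1 D46567 (iv D46567) F147930
theorem F207753 : act 4 n46567 = n35305 := d32_1 D46567 (iv D35305) (iv F147931)
theorem F207754 : act 6 n46567 = n35219 := d39_1 D46567 (iv D35219) (iv D24171) (iv F103226) D35216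
def n46568 : Q := act 5 n41535
theorem D46568 : act 5 n41535 = n46568 := rfl
theorem F207755 : act 0 n46568 = n45139 := d4_1 D46568 F188263 F206338
theorem F207756 : act 1 n46568 = n46568 := d12_1 D46568 (iv D46568) F173539
theorem F207757 : act 2 n46568 = n41950 := d19_1 D46568 (iv D41950) (iv F173540)
theorem F207758 : act 3 n46568 = n46568 := d25_1 D46568 (iv D46568) F173541
theorem F207759 : act 4 n46568 = n45090 := d30_1 D46568 F188102 F131005 (iv F205165) D41535
theorem F207760 : act 7 n46568 = n41585 := d36_2 (iv F173543) D46568 (iv D41585)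
theorem F207761 : act 8 n46568 = n46568 := d37_2 F173544 D46568 (iv D46568)
def n46569 : Q := act 9 n41535
theorem D46569 : act 9 n41535 = n46569 := rfl
theorem F207762 : act 0 n46569 = n46350 := d8_1 D46569 (iv D46350) F206338
theorem F207763 : act 1 n46569 = n46569 := d16_1 D46569 (iv D46569) F173539
theorem F207764 : act 2 n46569 = n41951 := d23_1 D46569 (iv D41951) (iv F173540)
theorem F207765 : act 3 n46569 = n46569 := d29_1 D46569 (iv D46569) F173541
theorem F207766 : act 4 n46569 = n41536 := d34_1 D46569 (iv D41536) D41535
theorem F207767 : act 6 n46569 = n46569 := d41_1 D46569 (iv D46569) F173542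
theorem F207768 : act 7 n46569 = n41586 := d43_1 D46569 (iv D41586) (iv F173543)
def n46570 : Q := act 8 n41536
theorem D46570 : act 8 n41536 = n46570 := rfl
theorem F207769 : act 0 n46570 = n46351 := d7_1 D46570 (iv D46351) (iv F206436)
theorem F207770 : act 1 n46570 = n46570 := d15_1 D46570 (iv D46570) F173545
theorem F207771 : act 2 n46570 = n41952 := d22_1 D46570 (iv D41952) (iv F173546)
theorem F207772 : act 3 n46570 = n46570 := d28_1 D46570 (iv D46570) F173547 F121051 (iv F173547)
theorem F207773 : act 5 n46570 = n46341 := d37_1 D46570 (iv D46341) (iv F206479)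
theorem F207774 : act 6 n46570 = n46570 := d40_1 D46570 (iv D46570) F173548
theorem F207775 : act 7 n46570 = n41587 := d42_1 D46570 (iv D41587) (iv F173549)
theorem F207776 : act 9 n46570 = n46570 := d44_2 D41536 D46570 (iv D46570) (iv D41536) F121045
def n46571 : Q := act 5 n41564
theorem D46571 : act 5 n41564 = n46571 := rfl
theorem F207777 : act 0 n46571 = n41585 := d4_1 D46571 (iv D41585) (iv F173674)
theorem F207778 : act 1 n46571 = n45152 := d12_1 D46571 F188314 F206335
theorem F207779 : act 2 n46571 = n42049 := d19_1 D46571 (iv D42049) (iv F173675)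
theorem F207780 : act 3 n46571 = n46571 := d25_1 D46571 (iv D46571) F173676
theorem F207781 : act 4 n46571 = n45136 := d30_1 D46571 F188252 F131114 (iv F205026) D41564
theorem F207782 : act 7 n46571 = n45139 := d36_2 (iv F206337) D46571 F188263
theorem F207783 : act 8 n46571 = n46571 := d37_2 F173678 D46571 (iv D46571)
def n46572 : Q := act 9 n41564
theorem D46572 : act 9 n41564 = n46572 := rfl
theorem F207784 : act 0 n46572 = n41586 := d8_1 D46572 (iv D41586) (iv F173674)
theorem F207785 : act 1 n46572 = n46359 := d16_1 D46572 (iv D46359) F206335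
theorem F207786 : act 2 n46572 = n42050 := d23_1 D46572 (iv D42050) (iv F173675)
theorem F207787 : act 3 n46572 = n46572 := d29_1 D46572 (iv D46572) F173676
theorem F207788 : act 4 n46572 = n41565 := d34_1 D46572 (iv D41565) D41564
theorem F207789 : act 6 n46572 = n41630 := d41_1 D46572 (iv D41630) (iv F173677)
theorem F207790 : act 7 n46572 = n46350 := d43_1 D46572 (iv D46350) (iv F206337)
def n46573 : Q := act 8 n41565
theorem D46573 : act 8 n41565 = n46573 := rfl
theorem F207791 : act 0 n46573 = n41587 := d7_1 D46573 (iv D41587) (iv F173679)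
theorem F207792 : act 1 n46573 = n46360 := d15_1 D46573 (iv D46360) F206432
theorem F207793 : act 2 n46573 = n42051 := d22_1 D46573 (iv D42051) (iv F173680)
theorem F207794 : act 3 n46573 = n46573 := d28_1 D46573 (iv D46573) F173681 F121139 (iv F173681)
theorem F207795 : act 5 n46573 = n46352 := d37_1 D46573 (iv D46352) (iv F206430)
theorem F207796 : act 6 n46573 = n41631 := d40_1 D46573 (iv D41631) (iv F173682)
theorem F207797 : act 7 n46573 = n46351 := d42_1 D46573 (iv D46351) F206435
theorem F207798 : act 9 n46573 = n46573 := d44_2 D41565 D46573 (iv D46573) (iv D41565) F121134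
def n46574 : Q := act 5 n41583
theorem D46574 : act 5 n41583 = n46574 := rfl
theorem F207799 : act 0 n46574 = n45136 := d4_1 D46574 F188252 (iv F205127)
theorem F207800 : act 1 n46574 = n46574 := d12_1 D46574 (iv D46574) F173757
theorem F207801 : act 2 n46574 = n42077 := d19_1 D46574 (iv D42077) (iv F173758)
theorem F207802 : act 3 n46574 = n45089 := d25_1 D46574 F188098 (iv F205128)
theorem F207803 : act 4 n46574 = n41585 := d30_1 D46574 (iv D41585) (iv D28555) (iv F121186) D41583
theorem F207804 : act 7 n46574 = n45090 := d36_2 (iv F205130) D46574 F188102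
theorem F207805 : act 8 n46574 = n46574 := d37_2 F173759 D46574 (iv D46574)
def n46575 : Q := act 9 n41583
theorem D46575 : act 9 n41583 = n46575 := rfl
theorem F207806 : act 0 n46575 = n45142 := d8_1 D46575 (iv D45142) (iv F205127)
theorem F207807 : act 1 n46575 = n46575 := d16_1 D46575 (iv D46575) F173757
theorem F207808 : act 2 n46575 = n42078 := d23_1 D46575 (iv D42078) (iv F173758)
theorem F207809 : act 3 n46575 = n45093 := d29_1 D46575 (iv D45093) (iv F205128)
theorem F207810 : act 4 n46575 = n41584 := d34_1 D46575 (iv D41584) D41583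
theorem F207811 : act 6 n46575 = n45365 := d41_1 D46575 (iv D45365) (iv F205129)
theorem F207812 : act 7 n46575 = n45095 := d43_1 D46575 (iv D45095) (iv F205130)
def n46576 : Q := act 8 n41584
theorem D46576 : act 8 n41584 = n46576 := rfl
theorem F207813 : act 0 n46576 = n46352 := d7_1 D46576 (iv D46352) F206431
theorem F207814 : act 1 n46576 = n46576 := d15_1 D46576 (iv D46576) F173760
theorem F207815 : act 2 n46576 = n42079 := d22_1 D46576 (iv D42079) (iv F173761)
theorem F207816 : act 3 n46576 = n46576 := d28_1 D46576 (iv D46576) F173762 F121191 (iv F173762)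
theorem F207817 : act 5 n46576 = n41587 := d37_1 D46576 (iv D41587) (iv F173763)
theorem F207818 : act 6 n46576 = n46376 := d40_1 D46576 (iv D46376) F206481
theorem F207819 : act 7 n46576 = n46341 := d42_1 D46576 (iv D46341) (iv F206480)
theorem F207820 : act 9 n46576 = n46576 := d44_2 D41584 D46576 (iv D46576) (iv D41584) F121187
def n46577 : Q := act 6 n41585
theorem D46577 : act 6 n41585 = n46577 := rfl
theorem F207821 : act 1 n46577 = n46577 := d13_1 D46577 (iv D46577) F173764
theorem F207822 : act 2 n46577 = n42080 := d20_1 D46577 (iv D42080) (iv F173765)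
theorem F207823 : act 3 n46577 = n46577 := d26_1 D46577 (iv D46577) F173766
theorem F207824 : act 5 n46577 = n41660 := d35_1 D46577 (iv D41660) (iv D28605) (iv F121195) D41585
theorem F207825 : act 8 n46577 = n46577 := d40_2 F173767 D46577 (iv D46577)
def n46578 : Q := act 9 n41585
theorem D46578 : act 9 n41585 = n46578 := rfl
theorem F207826 : act 1 n46578 = n46578 := d16_1 D46578 (iv D46578) F173764
theorem F207827 : act 2 n46578 = n42081 := d23_1 D46578 (iv D42081) (iv F173765)
theorem F207828 : act 3 n46578 = n46578 := d29_1 D46578 (iv D46578) F173766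
theorem F207829 : act 5 n46578 = n41586 := d38_1 D46578 (iv D41586) D41585
def n46579 : Q := act 8 n41586
theorem D46579 : act 8 n41586 = n46579 := rfl
theorem F207830 : act 1 n46579 = n46579 := d15_1 D46579 (iv D46579) F173768
theorem F207831 : act 2 n46579 = n42082 := d22_1 D46579 (iv D42082) (iv F173769)
theorem F207832 : act 4 n46579 = n41587 := d33_1 D46579 (iv D41587) (iv F173771)
theorem F207833 : act 6 n46579 = n41662 := d40_1 D46579 (iv D41662) (iv F173772)
theorem F207834 : act 9 n46579 = n46579 := d44_2 D41586 D46579 (iv D46579) (iv D41586) F121196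
def n46580 : Q := act 9 n41614
theorem D46580 : act 9 n41614 = n46580 := rfl
theorem F207835 : act 0 n46580 = n46580 := d8_1 D46580 (iv D46580) F173892
theorem F207836 : act 1 n46580 = n42204 := d16_1 D46580 (iv D42204) (iv F173893)
theorem F207837 : act 2 n46580 = n41616 := d23_1 D46580 (iv D41616) D41614
theorem F207838 : act 3 n46580 = n46580 := d29_1 D46580 (iv D46580) F173894
theorem F207839 : act 4 n46580 = n42750 := d34_1 D46580 (iv D42750) (iv F203042)
theorem F207840 : act 5 n46580 = n45649 := d38_1 D46580 F190003 (iv F203039)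
theorem F207841 : act 6 n46580 = n46358 := d41_1 D46580 (iv D46358) F206334
theorem F207842 : act 7 n46580 = n46580 := d43_1 D46580 (iv D46580) F173895
def n46581 : Q := act 9 n41615
theorem D46581 : act 9 n41615 = n46581 := rfl
theorem F207843 : act 0 n46581 = n46581 := d8_1 D46581 (iv D46581) F173897
theorem F207844 : act 1 n46581 = n41630 := d16_1 D46581 (iv D41630) (iv F173898)
theorem F207845 : act 2 n46581 = n42750 := d23_1 D46581 (iv D42750) (iv F203051)
theorem F207846 : act 3 n46581 = n46581 := d29_1 D46581 (iv D46581) F173899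
theorem F207847 : act 4 n46581 = n41616 := d34_1 D46581 (iv D41616) D41615
theorem F207848 : act 5 n46581 = n43123 := d38_1 D46581 F180077 (iv F203048)
theorem F207849 : act 6 n46581 = n46359 := d41_1 D46581 (iv D46359) F206336
theorem F207850 : act 7 n46581 = n46581 := d43_1 D46581 (iv D46581) F173900
def n46582 : Q := act 8 n41616
theorem D46582 : act 8 n41616 = n46582 := rfl
theorem F207851 : act 0 n46582 = n46582 := d7_1 D46582 (iv D46582) F173902
theorem F207852 : act 1 n46582 = n41631 := d15_1 D46582 (iv D41631) (iv F173903)
theorem F207853 : act 3 n46582 = n46582 := d28_1 D46582 (iv D46582) F173904 F121288 (iv F173904)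
theorem F207854 : act 5 n46582 = n44964 := d37_1 D46582 F187586 (iv F203710)
theorem F207855 : act 6 n46582 = n46360 := d40_1 D46582 (iv D46360) (iv F206501)
theorem F207856 : act 7 n46582 = n46582 := d42_1 D46582 (iv D46582) F173905
theorem F207857 : act 9 n46582 = n46582 := d44_2 D41616 D46582 (iv D46582) (iv D41616) F121282
def n46583 : Q := act 8 n41628
theorem D46583 : act 8 n41628 = n46583 := rfl
theorem F207858 : act 0 n46583 = n41659 := d7_1 D46583 (iv D41659) (iv F173954)
theorem F207859 : act 1 n46583 = n44964 := d15_1 D46583 F187586 (iv F203705)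
theorem F207860 : act 2 n46583 = n42227 := d22_1 D46583 (iv D42227) (iv F173955)
theorem F207861 : act 3 n46583 = n46583 := d28_1 D46583 (iv D46583) F173956 F121321 (iv F173956)
theorem F207862 : act 4 n46583 = n44963 := d33_1 D46583 F187581 (iv F203706)
theorem F207863 : act 5 n46583 = n41631 := d37_1 D46583 (iv D41631) (iv F173957)
theorem F207864 : act 6 n46583 = n46409 := d40_1 D46583 (iv D46409) F206434
theorem F207865 : act 7 n46583 = n46583 := d42_1 D46583 (iv D46583) F173958
theorem F207866 : act 9 n46583 = n46583 := d44_2 D41628 D46583 (iv D46583) (iv D41628) F121316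
def n46584 : Q := act 6 n41629
theorem D46584 : act 6 n41629 = n46584 := rfl
theorem F207867 : act 0 n46584 = n41660 := d5_1 D46584 (iv D41660) (iv F173959)
theorem F207868 : act 1 n46584 = n43723 := d13_1 D46584 F182624 (iv F203049)
theorem F207869 : act 2 n46584 = n42228 := d20_1 D46584 (iv D42228) (iv F173960)
theorem F207870 : act 3 n46584 = n46584 := d26_1 D46584 (iv D46584) F173961
theorem F207871 : act 4 n46584 = n43722 := d31_1 D46584 F182620 (iv F203050)
theorem F207872 : act 8 n46584 = n46584 := d40_2 F173963 D46584 (iv D46584)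
def n46585 : Q := act 9 n41629
theorem D46585 : act 9 n41629 = n46585 := rfl
theorem F207873 : act 0 n46585 = n41661 := d8_1 D46585 (iv D41661) (iv F173959)
theorem F207874 : act 1 n46585 = n43123 := d16_1 D46585 F180077 (iv F203049)
theorem F207875 : act 2 n46585 = n42229 := d23_1 D46585 (iv D42229) (iv F173960)
theorem F207876 : act 3 n46585 = n46585 := d29_1 D46585 (iv D46585) F173961
theorem F207877 : act 4 n46585 = n43122 := d34_1 D46585 F180073 (iv F203050)
theorem F207878 : act 5 n46585 = n41630 := d38_1 D46585 (iv D41630) D41629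
theorem F207879 : act 7 n46585 = n46585 := d43_1 D46585 (iv D46585) F173962
def n46586 : Q := act 8 n41630
theorem D46586 : act 8 n41630 = n46586 := rfl
theorem F207880 : act 0 n46586 = n41662 := d7_1 D46586 (iv D41662) (iv F173964)
theorem F207881 : act 2 n46586 = n42230 := d22_1 D46586 (iv D42230) (iv F173965)
theorem F207882 : act 4 n46586 = n41631 := d33_1 D46586 (iv D41631) (iv F173967)
theorem F207883 : act 7 n46586 = n46586 := d42_1 D46586 (iv D46586) F173968
theorem F207884 : act 9 n46586 = n46586 := d44_2 D41630 D46586 (iv D46586) (iv D41630) F121326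
def n46587 : Q := act 8 n41638
theorem D46587 : act 8 n41638 = n46587 := rfl
theorem F207885 : act 0 n46587 = n41673 := d7_1 D46587 (iv D41673) (iv F174003)
theorem F207886 : act 1 n46587 = n46587 := d15_1 D46587 (iv D46587) F174004
theorem F207887 : act 2 n46587 = n46509 := d22_1 D46587 F207529 (iv F204555)
theorem F207888 : act 3 n46587 = n46587 := d28_1 D46587 (iv D46587) F174005 F121357 (iv F174005)
theorem F207889 : act 4 n46587 = n42241 := d33_1 D46587 (iv D42241) (iv F174006)
theorem F207890 : act 5 n46587 = n46587 := d37_1 D46587 (iv D46587) F174007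
theorem F207891 : act 6 n46587 = n46472 := d40_1 D46587 (iv D46472) (iv F206634)
theorem F207892 : act 7 n46587 = n46587 := d42_1 D46587 (iv D46587) F174008
theorem F207893 : act 9 n46587 = n46587 := d44_2 D41638 D46587 (iv D46587) (iv D41638) F121351
def n46588 : Q := act 5 n41655
theorem D46588 : act 5 n41655 = n46588 := rfl
theorem F207894 : act 0 n46588 = n45430 := d4_1 D46588 (iv F204796) F206639
theorem F207895 : act 1 n46588 = n46588 := d12_1 D46588 (iv D46588) F174080
theorem F207896 : act 2 n46588 = n42268 := d19_1 D46588 (iv D42268) (iv F174081)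
theorem F207897 : act 3 n46588 = n45763 := d25_1 D46588 (iv F204785) F206640
theorem F207898 : act 4 n46588 = n45359 := d30_1 D46588 F189018 F131640 F205003 D41655
theorem F207899 : act 7 n46588 = n45362 := d36_2 (iv F206638) D46588 F189032
theorem F207900 : act 8 n46588 = n46588 := d37_2 F174083 D46588 (iv D46588)
def n46589 : Q := act 9 n41655
theorem D46589 : act 9 n41655 = n46589 := rfl
theorem F207901 : act 0 n46589 = n45913 := d8_1 D46589 F190897 F206639
theorem F207902 : act 1 n46589 = n46589 := d16_1 D46589 (iv D46589) F174080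
theorem F207903 : act 2 n46589 = n42269 := d23_1 D46589 (iv D42269) (iv F174081)
theorem F207904 : act 3 n46589 = n45912 := d29_1 D46589 F190894 F206640
theorem F207905 : act 4 n46589 = n41656 := d34_1 D46589 (iv D41656) D41655
theorem F207906 : act 6 n46589 = n41658 := d41_1 D46589 (iv D41658) (iv F174082)
theorem F207907 : act 7 n46589 = n46374 := d43_1 D46589 (iv D46374) (iv F206638)
def n46590 : Q := act 8 n41656
theorem D46590 : act 8 n41656 = n46590 := rfl
theorem F207908 : act 0 n46590 = n46409 := d7_1 D46590 (iv D46409) F206483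
theorem F207909 : act 1 n46590 = n46590 := d15_1 D46590 (iv D46590) F174084
theorem F207910 : act 2 n46590 = n42270 := d22_1 D46590 (iv D42270) (iv F174085)
theorem F207911 : act 3 n46590 = n46590 := d28_1 D46590 (iv D46590) F174086 F121411 (iv F174086)
theorem F207912 : act 5 n46590 = n46376 := d37_1 D46590 (iv D46376) (iv F206482)
theorem F207913 : act 6 n46590 = n41659 := d40_1 D46590 (iv D41659) (iv F174087)
theorem F207914 : act 7 n46590 = n46375 := d42_1 D46590 (iv D46375) F206484
theorem F207915 : act 9 n46590 = n46590 := d44_2 D41656 D46590 (iv D46590) (iv D41656) F121407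
def n46591 : Q := act 6 n41657
theorem D46591 : act 6 n41657 = n46591 := rfl
theorem F207916 : act 0 n46591 = n43722 := d5_1 D46591 F182620 (iv F204257)
theorem F207917 : act 1 n46591 = n46591 := d13_1 D46591 (iv D46591) F174088
theorem F207918 : act 2 n46591 = n42271 := d20_1 D46591 (iv D42271) (iv F174089)
theorem F207919 : act 3 n46591 = n43721 := d26_1 D46591 F182618 (iv F204258)
theorem F207920 : act 4 n46591 = n41660 := d31_1 D46591 (iv D41660) (iv F174090)
theorem F207921 : act 8 n46591 = n46591 := d40_2 F174092 D46591 (iv D46591)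
def n46592 : Q := act 9 n41657
theorem D46592 : act 9 n41657 = n46592 := rfl
theorem F207922 : act 0 n46592 = n43122 := d8_1 D46592 F180073 (iv F204257)
theorem F207923 : act 1 n46592 = n46592 := d16_1 D46592 (iv D46592) F174088
theorem F207924 : act 2 n46592 = n42272 := d23_1 D46592 (iv D42272) (iv F174089)
theorem F207925 : act 3 n46592 = n43121 := d29_1 D46592 F180069 (iv F204258)
theorem F207926 : act 4 n46592 = n41661 := d34_1 D46592 (iv D41661) (iv F174090)
theorem F207927 : act 5 n46592 = n41658 := d38_1 D46592 (iv D41658) D41657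
theorem F207928 : act 7 n46592 = n46592 := d43_1 D46592 (iv D46592) F174091
def n46593 : Q := act 8 n41658
theorem D46593 : act 8 n41658 = n46593 := rfl
theorem F207929 : act 0 n46593 = n44963 := d7_1 D46593 F187581 (iv F204259)
theorem F207930 : act 1 n46593 = n46593 := d15_1 D46593 (iv D46593) F174093
theorem F207931 : act 2 n46593 = n42273 := d22_1 D46593 (iv D42273) (iv F174094)
theorem F207932 : act 3 n46593 = n44962 := d28_1 D46593 (iv D44962) F130642 D31469 (iv F204260)
theorem F207933 : act 4 n46593 = n41659 := d33_1 D46593 (iv D41659) (iv F174095)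
theorem F207934 : act 7 n46593 = n46593 := d42_1 D46593 (iv D46593) F174096
theorem F207935 : act 9 n46593 = n46593 := d44_2 D41658 D46593 (iv D46593) (iv D41658) F121415
def n46594 : Q := act 7 n41660
theorem D46594 : act 7 n41660 = n46594 := rfl
theorem F207936 : act 1 n46594 = n46594 := d14_1 D46594 (iv D46594) F174103
theorem F207937 : act 2 n46594 = n42274 := d21_1 D46594 (iv D42274) (iv F174104)
theorem F207938 : act 3 n46594 = n46594 := d27_1 D46594 (iv D46594) F174105
theorem F207939 : act 6 n46594 = n46594 := d39_1 D46594 (iv D46594) (iv D41660) F121424 D41660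
theorem F207940 : act 8 n46594 = n46594 := d42_2 F174106 D46594 (iv D46594)
def n46595 : Q := act 9 n41660
theorem D46595 : act 9 n41660 = n46595 := rfl
theorem F207941 : act 1 n46595 = n46595 := d16_1 D46595 (iv D46595) F174103
theorem F207942 : act 2 n46595 = n42275 := d23_1 D46595 (iv D42275) (iv F174104)
theorem F207943 : act 3 n46595 = n46595 := d29_1 D46595 (iv D46595) F174105
theorem F207944 : act 6 n46595 = n41661 := d41_1 D46595 (iv D41661) D41660
def n46596 : Q := act 8 n41661
theorem D46596 : act 8 n41661 = n46596 := rfl
theorem F207945 : act 1 n46596 = n46596 := d15_1 D46596 (iv D46596) F174107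
theorem F207946 : act 2 n46596 = n42276 := d22_1 D46596 (iv D42276) (iv F174108)
theorem F207947 : act 5 n46596 = n41662 := d37_1 D46596 (iv D41662) (iv F174110)
theorem F207948 : act 7 n46596 = n46596 := d42_1 D46596 (iv D46596) F174111
theorem F207949 : act 9 n46596 = n46596 := d44_2 D41661 D46596 (iv D46596) (iv D41661) F121425
def n46597 : Q := act 3 n41662
theorem D46597 : act 3 n41662 = n46597 := rfl
theorem F207950 : act 1 n46597 = n46597 := d10_1 D46597 (iv D46597) F174112
theorem F207951 : act 4 n46597 = n46597 := d24_2 (iv F174114) D46597 (iv D46597) F174114 F121433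
theorem F207952 : act 7 n46597 = n46597 := d27_2 F174115 D46597 (iv D46597)
theorem F207953 : act 8 n46597 = n46597 := d28_2 D41662 D46597 (iv D46597) (iv D41662) F121428
theorem F207954 : act 9 n46597 = n46597 := d29_2 F174116 D46597 (iv D46597)
def n46598 : Q := act 1 n41669
theorem D46598 : act 1 n41669 = n46598 := rfl
theorem F207955 : act 0 n46598 = n46524 := d0_1 D46598 F207579 F136425 (iv F204887) F206646
theorem F207956 : act 2 n46598 = n41682 := d9_2 D41669 D46598 (iv D41682) (iv D28622) (iv F121447)
theorem F207957 : act 3 n46598 = n46454 := d10_2 F206647 D46598 (iv D46454)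
theorem F207958 : act 4 n46598 = n42286 := d11_2 (iv F174143) D46598 (iv D42286)
theorem F207959 : act 5 n46598 = n46445 := d12_2 F206648 D46598 (iv D46445)
theorem F207960 : act 6 n46598 = n41671 := d13_2 (iv F174144) D46598 (iv D41671)
theorem F207961 : act 7 n46598 = n46442 := d14_2 (iv F206645) D46598 (iv D46442)
theorem F207962 : act 8 n46598 = n46598 := d15_2 F174145 D46598 (iv D46598)
def n46599 : Q := act 9 n41669
theorem D46599 : act 9 n41669 = n46599 := rfl
theorem F207963 : act 0 n46599 = n46471 := d8_1 D46599 (iv D46471) F206646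
theorem F207964 : act 2 n46599 = n41670 := d23_1 D46599 (iv D41670) D41669
theorem F207965 : act 3 n46599 = n46455 := d29_1 D46599 (iv D46455) F206647
theorem F207966 : act 4 n46599 = n42287 := d34_1 D46599 (iv D42287) (iv F174143)
theorem F207967 : act 5 n46599 = n46446 := d38_1 D46599 (iv D46446) F206648
theorem F207968 : act 6 n46599 = n41672 := d41_1 D46599 (iv D41672) (iv F174144)
theorem F207969 : act 7 n46599 = n46443 := d43_1 D46599 (iv D46443) (iv F206645)
def n46600 : Q := act 8 n41670
theorem D46600 : act 8 n41670 = n46600 := rfl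
theorem F207970 : act 0 n46600 = n46472 := d7_1 D46600 (iv D46472) F206626
theorem F207971 : act 1 n46600 = n41684 := d15_1 D46600 (iv D41684) (iv F174146)
theorem F207972 : act 3 n46600 = n46600 := d28_1 D46600 (iv D46600) F174147 F121454 (iv F174147)
theorem F207973 : act 4 n46600 = n42288 := d33_1 D46600 (iv D42288) (iv F174148)
theorem F207974 : act 5 n46600 = n46447 := d37_1 D46600 (iv D46447) (iv F206625)
theorem F207975 : act 6 n46600 = n41673 := d40_1 D46600 (iv D41673) (iv F174149)
theorem F207976 : act 7 n46600 = n46444 := d42_1 D46600 (iv D46444) F206627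
theorem F207977 : act 9 n46600 = n46600 := d44_2 D41670 D46600 (iv D46600) (iv D41670) F121450
def n46601 : Q := act 9 n41671
theorem D46601 : act 9 n41671 = n46601 := rfl
theorem F207978 : act 0 n46601 = n46469 := d8_1 D46601 F207362 (iv F204548)
theorem F207979 : act 1 n46601 = n41672 := d16_1 D46601 (iv D41672) D41671
theorem F207980 : act 2 n46601 = n41686 := d23_1 D46601 (iv D41686) (iv F174150)
theorem F207981 : act 3 n46601 = n46468 := d29_1 D46601 F207358 F204552
theorem F207982 : act 4 n46601 = n42290 := d34_1 D46601 (iv D42290) (iv F174151)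
theorem F207983 : act 5 n46601 = n46601 := d38_1 D46601 (iv D46601) F174152
theorem F207984 : act 7 n46601 = n46601 := d43_1 D46601 (iv D46601) F174153
def n46602 : Q := act 8 n41672
theorem D46602 : act 8 n41672 = n46602 := rfl
theorem F207985 : act 0 n46602 = n46509 := d7_1 D46602 F207529 F204554
theorem F207986 : act 2 n46602 = n41673 := d22_1 D46602 (iv D41673) (iv F174155)
theorem F207987 : act 3 n46602 = n46505 := d28_1 D46602 (iv D46505) F135985 D32275 (iv F204553)
theorem F207988 : act 4 n46602 = n42291 := d33_1 D46602 (iv D42291) (iv F174156)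
theorem F207989 : act 5 n46602 = n46602 := d37_1 D46602 (iv D46602) F174157
theorem F207990 : act 7 n46602 = n46602 := d42_1 D46602 (iv D46602) F174158
theorem F207991 : act 9 n46602 = n46602 := d44_2 D41672 D46602 (iv D46602) (iv D41672) F121458
def n46603 : Q := act 1 n41677
theorem D46603 : act 1 n41677 = n46603 := rfl
theorem F207992 : act 2 n46603 = n46445 := d9_2 D41677 D46603 (iv D46445) (iv D32148) (iv F205048)
theorem F207993 : act 3 n46603 = n46603 := d10_2 F174180 D46603 (iv D46603)
theorem F207994 : act 4 n46603 = n44776 := d11_2 (iv F205110) D46603 (iv D44776)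
theorem F207995 : act 5 n46603 = n41682 := d12_2 (iv F174181) D46603 (iv D41682)
theorem F207996 : act 6 n46603 = n46603 := d13_2 F174182 D46603 (iv D46603)
theorem F207997 : act 7 n46603 = n44657 := d14_2 (iv F205111) D46603 (iv D44657)
theorem F207998 : act 8 n46603 = n46603 := d15_2 F174183 D46603 (iv D46603)
def n46604 : Q := act 9 n41677
theorem D46604 : act 9 n41677 = n46604 := rfl
theorem F207999 : act 0 n46604 = n46604 := d8_1 D46604 (iv D46604) F174179
theorem F208000 : act 2 n46604 = n41679 := d23_1 D46604 (iv D41679) D41677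
theorem F208001 : act 3 n46604 = n46604 := d29_1 D46604 (iv D46604) F174180
theorem F208002 : act 4 n46604 = n44777 := d34_1 D46604 (iv D44777) (iv F205110)
theorem F208003 : act 5 n46604 = n41683 := d38_1 D46604 (iv D41683) (iv F174181)
theorem F208004 : act 6 n46604 = n46604 := d41_1 D46604 (iv D46604) F174182
theorem F208005 : act 7 n46604 = n44658 := d43_1 D46604 (iv D44658) (iv F205111)
def n46605 : Q := act 8 n41679
theorem D46605 : act 8 n41679 = n46605 := rfl
theorem F208006 : act 0 n46605 = n46605 := d7_1 D46605 (iv D46605) F174188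
theorem F208007 : act 1 n46605 = n46447 := d15_1 D46605 (iv D46447) F206623
theorem F208008 : act 3 n46605 = n46605 := d28_1 D46605 (iv D46605) F174189 F121487 (iv F174189)
theorem F208009 : act 4 n46605 = n44778 := d33_1 D46605 (iv D44778) (iv F205113)
theorem F208010 : act 5 n46605 = n41684 := d37_1 D46605 (iv D41684) (iv F174190)
theorem F208011 : act 6 n46605 = n46605 := d40_1 D46605 (iv D46605) F174191
theorem F208012 : act 7 n46605 = n44659 := d42_1 D46605 (iv D44659) (iv F205114)
theorem F208013 : act 9 n46605 = n46605 := d44_2 D41679 D46605 (iv D46605) (iv D41679) F121482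
def n46606 : Q := act 1 n41680
theorem D46606 : act 1 n41680 = n46606 := rfl
theorem F208014 : act 2 n46606 = n46442 := d9_2 D41680 D46606 (iv D46442) (iv D32145) (iv F205035)
theorem F208015 : act 3 n46606 = n46606 := d10_2 F174193 D46606 (iv D46606)
theorem F208016 : act 4 n46606 = n42302 := d11_2 (iv F174194) D46606 (iv D42302)
theorem F208017 : act 5 n46606 = n44657 := d12_2 (iv F205100) D46606 (iv D44657)
theorem F208018 : act 6 n46606 = n46606 := d13_2 F174195 D46606 (iv D46606)
theorem F208019 : act 7 n46606 = n41682 := d14_2 (iv F174196) D46606 (iv D41682)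
theorem F208020 : act 8 n46606 = n46606 := d15_2 F174197 D46606 (iv D46606)
def n46607 : Q := act 9 n41680
theorem D46607 : act 9 n41680 = n46607 := rfl
theorem F208021 : act 0 n46607 = n46607 := d8_1 D46607 (iv D46607) F174192
theorem F208022 : act 2 n46607 = n41681 := d23_1 D46607 (iv D41681) D41680
theorem F208023 : act 3 n46607 = n46607 := d29_1 D46607 (iv D46607) F174193
theorem F208024 : act 4 n46607 = n42303 := d34_1 D46607 (iv D42303) (iv F174194)
theorem F208025 : act 5 n46607 = n44658 := d38_1 D46607 (iv D44658) (iv F205100)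
theorem F208026 : act 6 n46607 = n46607 := d41_1 D46607 (iv D46607) F174195
theorem F208027 : act 7 n46607 = n41683 := d43_1 D46607 (iv D41683) (iv F174196)
def n46608 : Q := act 8 n41681
theorem D46608 : act 8 n41681 = n46608 := rfl
theorem F208028 : act 0 n46608 = n46608 := d7_1 D46608 (iv D46608) F174198
theorem F208029 : act 1 n46608 = n46444 := d15_1 D46608 (iv D46444) (iv F206628)
theorem F208030 : act 3 n46608 = n46608 := d28_1 D46608 (iv D46608) F174199 F121498 (iv F174199)
theorem F208031 : act 4 n46608 = n42304 := d33_1 D46608 (iv D42304) (iv F174200)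
theorem F208032 : act 5 n46608 = n44659 := d37_1 D46608 (iv D44659) (iv F205101)
theorem F208033 : act 6 n46608 = n46608 := d40_1 D46608 (iv D46608) F174201
theorem F208034 : act 7 n46608 = n41684 := d42_1 D46608 (iv D41684) (iv F174202)
theorem F208035 : act 9 n46608 = n46608 := d44_2 D41681 D46608 (iv D46608) (iv D41681) F121492
def n46609 : Q := act 0 n41682
theorem D46609 : act 0 n41682 = n46609 := rfl
theorem F208036 : act 1 n46609 = n46609 := d0_2 D41682 D46609 (iv D46609) (iv D41682) F121499
theorem F208037 : act 2 n46609 = n46524 := d1_2 F207956 D46609 (iv F207955)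
theorem F208038 : act 3 n46609 = n46609 := d2_2 F174203 D46609 (iv D46609)
theorem F208039 : act 4 n46609 = n42305 := d3_2 (iv F174204) D46609 (iv D42305)
theorem F208040 : act 6 n46609 = n41685 := d5_2 (iv F174205) D46609 (iv D41685)
theorem F208041 : act 8 n46609 = n46609 := d7_2 F174206 D46609 (iv D46609)
def n46610 : Q := act 9 n41682
theorem D46610 : act 9 n41682 = n46610 := rfl
theorem F208042 : act 1 n46610 = n41683 := d16_1 D46610 (iv D41683) D41682
theorem F208043 : act 3 n46610 = n46610 := d29_1 D46610 (iv D46610) F174203
theorem F208044 : act 4 n46610 = n42306 := d34_1 D46610 (iv D42306) (iv F174204)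
theorem F208045 : act 6 n46610 = n41686 := d41_1 D46610 (iv D41686) (iv F174205)
def n46611 : Q := act 8 n41683
theorem D46611 : act 8 n41683 = n46611 := rfl
theorem F208046 : act 0 n46611 = n46611 := d7_1 D46611 (iv D46611) F174207
theorem F208047 : act 2 n46611 = n41684 := d22_1 D46611 (iv D41684) (iv F174208)
theorem F208048 : act 4 n46611 = n42307 := d33_1 D46611 (iv D42307) (iv F174210)
theorem F208049 : act 6 n46611 = n41687 := d40_1 D46611 (iv D41687) (iv F174211)
theorem F208050 : act 9 n46611 = n46611 := d44_2 D41683 D46611 (iv D46611) (iv D41683) F121503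
def n46612 : Q := act 9 n41685
theorem D46612 : act 9 n41685 = n46612 := rfl
theorem F208051 : act 0 n46612 = n41686 := d8_1 D46612 (iv D41686) D41685
theorem F208052 : act 1 n46612 = n46612 := d16_1 D46612 (iv D46612) F174217
theorem F208053 : act 2 n46612 = n46469 := d23_1 D46612 F207362 F204547
theorem F208054 : act 3 n46612 = n46612 := d29_1 D46612 (iv D46612) F174218
theorem F208055 : act 4 n46612 = n42308 := d34_1 D46612 (iv D42308) (iv F174219)
theorem F208056 : act 5 n46612 = n46612 := d38_1 D46612 (iv D46612) F174220
theorem F208057 : act 7 n46612 = n46612 := d43_1 D46612 (iv D46612) F174221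
def n46613 : Q := act 8 n41686
theorem D46613 : act 8 n41686 = n46613 := rfl
theorem F208058 : act 1 n46613 = n41687 := d15_1 D46613 (iv D41687) (iv F174223)
theorem F208059 : act 4 n46613 = n42309 := d33_1 D46613 (iv D42309) (iv F174225)
theorem F208060 : act 5 n46613 = n46613 := d37_1 D46613 (iv D46613) F174226
theorem F208061 : act 7 n46613 = n46613 := d42_1 D46613 (iv D46613) F174227
theorem F208062 : act 9 n46613 = n46613 := d44_2 D41686 D46613 (iv D46613) (iv D41686) F121512
def n46614 : Q := act 3 n41687
theorem D46614 : act 3 n41687 = n46614 := rfl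
theorem F208063 : act 0 n46614 = n46614 := d2_1 D46614 (iv D46614) F174228
theorem F208064 : act 2 n46614 = n46614 := d17_1 D46614 (iv D46614) F174229 F121520 (iv F174229)
theorem F208065 : act 5 n46614 = n46614 := d25_2 F174231 D46614 (iv D46614)
theorem F208066 : act 7 n46614 = n46614 := d27_2 F174232 D46614 (iv D46614)
theorem F208067 : act 8 n46614 = n46614 := d28_2 D41687 D46614 (iv D46614) (iv D41687) F121515
theorem F208068 : act 9 n46614 = n46614 := d29_2 F174233 D46614 (iv D46614)
def n46615 : Q := act 6 n41802
theorem D46615 : act 6 n41802 = n46615 := rfl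
theorem F208069 : act 0 n46615 = n44134 := d5_1 D46615 F184341 F205718
theorem F208070 : act 1 n46615 = n46615 := d13_1 D46615 (iv D46615) F174745
theorem F208071 : act 2 n46615 = n41993 := d20_1 D46615 (iv D41993) (iv F174746)
theorem F208072 : act 3 n46615 = n41803 := d26_1 D46615 (iv D41803) D41802
theorem F208073 : act 4 n46615 = n46615 := d31_1 D46615 (iv D46615) F174747
theorem F208074 : act 5 n46615 = n44502 := d35_1 D46615 (iv D44502) F129418 F197046 (iv F174748)
theorem F208075 : act 7 n46615 = n46386 := d39_2 (iv F197053) D46615 (iv D46386) (iv F206318) F175300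
theorem F208076 : act 9 n46615 = n41847 := d41_2 (iv F174749) D46615 (iv D41847)
theorem F208077 : act 8 n46403 = n46615 := d42_0 F208075 F207034 D46403
def n46616 : Q := act 8 n41802
theorem D46616 : act 8 n41802 = n46616 := rfl
theorem F208078 : act 0 n46616 = n44137 := d7_1 D46616 (iv D44137) F205718
theorem F208079 : act 1 n46616 = n46616 := d15_1 D46616 (iv D46616) F174745
theorem F208080 : act 2 n46616 = n41994 := d22_1 D46616 (iv D41994) (iv F174746)
theorem F208081 : act 3 n46616 = n46349 := d28_1 D46616 F206876 F135140 F205968 D41802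
theorem F208082 : act 4 n46616 = n46616 := d33_1 D46616 (iv D46616) F174747
theorem F208083 : act 5 n46616 = n44038 := d37_1 D46616 (iv D44038) (iv F174748)
theorem F208084 : act 6 n46616 = n46403 := d40_1 D46616 F208077 (iv D46615)
theorem F208085 : act 7 n46616 = n44269 := d42_1 D46616 (iv D44269) (iv F197053)
theorem F208086 : act 9 n46616 = n44512 := d44_2 (iv F174749) D46616 (iv D44512) (iv D30523) (iv F205444)
def n46617 : Q := act 5 n41803
theorem D46617 : act 5 n41803 = n46617 := rfl
theorem F208087 : act 0 n46617 = n44127 := d4_1 D46617 F206166 (iv F205768)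
theorem F208088 : act 1 n46617 = n46617 := d12_1 D46617 (iv D46617) F174750
theorem F208089 : act 2 n46617 = n41811 := d19_1 D46617 (iv D41811) (iv F174751)
theorem F208090 : act 3 n46617 = n44502 := d25_1 D46617 (iv F208074) F208072
theorem F208091 : act 4 n46617 = n46617 := d30_1 D46617 (iv D46617) F174752 F121880 (iv F174752)
theorem F208092 : act 6 n46617 = n44039 := d35_2 D41803 D46617 (iv D44039) (iv D30207) (iv F121875)
theorem F208093 : act 7 n46617 = n46565 := d36_2 F206309 D46617 F207745
theorem F208094 : act 8 n46617 = n46566 := d37_2 (iv F206314) D46617 F207750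
theorem F208095 : act 9 n46617 = n41849 := d38_2 (iv F174753) D46617 (iv D41849)
def n46618 : Q := act 7 n41811
theorem D46618 : act 7 n41811 = n46618 := rfl
theorem F208096 : act 0 n46618 = n46566 := d6_1 D46618 F207751 (iv F206427)
theorem F208097 : act 1 n46618 = n41818 := d14_1 D46618 (iv D41818) (iv F174784)
theorem F208098 : act 2 n46618 = n46565 := d21_1 D46618 (iv F208093) F208089
theorem F208099 : act 3 n46618 = n42008 := d27_1 D46618 (iv D42008) (iv F174785)
theorem F208100 : act 4 n46618 = n46618 := d32_1 D46618 (iv D46618) F174786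
theorem F208101 : act 5 n46618 = n41812 := d36_1 D46618 (iv D41812) D41811
theorem F208102 : act 6 n46618 = n44128 := d39_1 D46618 F184321 (iv F174994) F205587 (iv F174787)
theorem F208103 : act 9 n46618 = n41862 := d43_2 (iv F174788) D46618 (iv D41862)
theorem F208104 : act 8 n44127 = n46618 := d44_5 F208103 F205511 F128224 D30267 (iv F206167)
def n46619 : Q := act 8 n41811
theorem D46619 : act 8 n41811 = n46619 := rfl
theorem F208105 : act 0 n46619 = n46565 := d7_1 D46619 F207746 (iv F206427)
theorem F208106 : act 1 n46619 = n41819 := d15_1 D46619 (iv D41819) (iv F174784)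
theorem F208107 : act 2 n46619 = n46566 := d22_1 D46619 (iv F208094) F208089
theorem F208108 : act 4 n46619 = n46619 := d33_1 D46619 (iv D46619) F174786
theorem F208109 : act 5 n46619 = n41813 := d37_1 D46619 (iv D41813) D41811
theorem F208110 : act 6 n46619 = n41862 := d40_1 D46619 F205511 (iv F174787)
theorem F208111 : act 7 n46619 = n44127 := d42_1 D46619 F208104 (iv D46618)
theorem F208112 : act 9 n46619 = n44128 := d44_2 (iv F174788) D46619 (iv D44128) (iv F205588) (iv D41863)
theorem F208113 : act 3 n42083 = n46619 := d27_3 F208111 F184316 (iv F175891)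
def n46620 : Q := act 3 n41813
theorem D46620 : act 3 n41813 = n46620 := rfl
theorem F208114 : act 0 n46620 = n46386 := d2_1 D46620 F207032 (iv F206312)
theorem F208115 : act 1 n46620 = n41821 := d10_1 D46620 (iv D41821) (iv F174793)
theorem F208116 : act 2 n46620 = n46537 := d17_1 D46620 F207641 F144707 (iv F205429) F206317
theorem F208117 : act 4 n46620 = n46620 := d24_2 (iv F174794) D46620 (iv D46620) F174794 F121906
theorem F208118 : act 5 n46620 = n42083 := d25_2 F208109 D46620 F208113
theorem F208119 : act 6 n46620 = n41814 := d26_2 (iv F174795) D46620 (iv D41814)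
theorem F208120 : act 7 n46620 = n44134 := d27_2 (iv F205771) D46620 F184339
theorem F208121 : act 8 n46620 = n42011 := d28_2 D41813 D46620 (iv D42011) (iv D28840) (iv F121895)
theorem F208122 : act 9 n46620 = n44131 := d29_2 (iv F205772) D46620 (iv D44131)
def n46621 : Q := act 2 n41814
theorem D46621 : act 2 n41814 = n46621 := rfl
theorem F208123 : act 0 n46621 = n46384 := d1_1 D46621 F207024 F206321
theorem F208124 : act 1 n46621 = n42440 := d9_1 D46621 F177416 F123719 F205797 (iv F174796)
theorem F208125 : act 3 n46621 = n46385 := d17_2 D41814 D46621 F207027 F135140 (iv F206009)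
theorem F208126 : act 4 n46621 = n46621 := d18_2 F174797 D46621 (iv D46621)
theorem F208127 : act 5 n46621 = n41941 := d19_2 (iv F205516) D46621 F175339
theorem F208128 : act 6 n46621 = n46537 := d20_2 F208119 D46621 (iv F208116)
theorem F208129 : act 7 n46621 = n41940 := d21_2 (iv F205517) D46621 F175335
theorem F208130 : act 8 n46621 = n42013 := d22_2 (iv F174799) D46621 (iv D42013)
theorem F208131 : act 9 n46621 = n46383 := d23_2 (iv F206513) D46621 F207022
def n46622 : Q := act 7 n41847
theorem D46622 : act 7 n41847 = n46622 := rfl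
theorem F208132 : act 0 n46622 = n44131 := d6_1 D46622 F184330 (iv F205609)
theorem F208133 : act 1 n46622 = n46622 := d14_1 D46622 (iv D46622) F174935
theorem F208134 : act 2 n46622 = n42061 := d21_1 D46622 (iv D42061) (iv F174936)
theorem F208135 : act 3 n46622 = n41850 := d27_1 D46622 (iv D41850) (iv F174937)
theorem F208136 : act 4 n46622 = n46622 := d32_1 D46622 (iv D46622) F174938
theorem F208137 : act 5 n46622 = n46567 := d36_1 D46622 (iv D46567) (iv F206532)
theorem F208138 : act 6 n46622 = n44042 := d39_1 D46622 F206339 (iv D35021) (iv F202100) D41847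
theorem F208139 : act 8 n46622 = n44506 := d42_2 (iv F205610) D46622 F185808
theorem F208140 : act 9 n46622 = n46386 := d43_2 F208076 D46622 (iv F208075)
def n46623 : Q := act 7 n41849
theorem D46623 : act 7 n41849 = n46623 := rfl
theorem F208141 : act 0 n46623 = n44128 := d6_1 D46623 F184321 (iv F205766)
theorem F208142 : act 1 n46623 = n46623 := d14_1 D46623 (iv D46623) F174943
theorem F208143 : act 2 n46623 = n41862 := d21_1 D46623 (iv D41862) (iv F174944)
theorem F208144 : act 3 n46623 = n46567 := d27_1 D46623 (iv D46567) (iv F206531)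
theorem F208145 : act 4 n46623 = n46623 := d32_1 D46623 (iv D46623) F174945
theorem F208146 : act 5 n46623 = n41850 := d36_1 D46623 (iv D41850) D41849
theorem F208147 : act 6 n46623 = n46566 := d39_1 D46623 F207751 (iv D35200) F202666 (iv F174946)
theorem F208148 : act 8 n46623 = n44039 := d42_2 (iv F205767) D46623 F197074
theorem F208149 : act 9 n46623 = n46565 := d43_2 F208095 D46623 (iv F208093)
def n46624 : Q := act 6 n41893
theorem D46624 : act 6 n41893 = n46624 := rfl
theorem F208150 : act 0 n46624 = n41940 := d5_1 D46624 F175337 (iv F197066)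
theorem F208151 : act 1 n46624 = n42368 := d13_1 D46624 (iv D42368) (iv F175118)
theorem F208152 : act 2 n46624 = n41931 := d20_1 D46624 F175300 (iv F197067)
theorem F208153 : act 3 n46624 = n41894 := d26_1 D46624 (iv D41894) D41893
theorem F208154 : act 4 n46624 = n46624 := d31_1 D46624 (iv D46624) F175119
theorem F208155 : act 5 n46624 = n41923 := d35_1 D46624 (iv D41923) F122220 (iv F196654) (iv F175120)
theorem F208156 : act 9 n46624 = n41938 := d41_2 (iv F175122) D46624 (iv D41938)
theorem F208157 : act 7 n46384 = n46624 := d36_0 F208155 (iv F206616) D46384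
theorem F208158 : act 8 n46345 = n46624 := d37_0 F208155 F206615 D46345
def n46625 : Q := act 8 n41893
theorem D46625 : act 8 n41893 = n46625 := rfl
theorem F208159 : act 0 n46625 = n44282 := d7_1 D46625 (iv D44282) (iv F197066)
theorem F208160 : act 1 n46625 = n42369 := d15_1 D46625 (iv D42369) (iv F175118)
theorem F208161 : act 2 n46625 = n44269 := d22_1 D46625 (iv D44269) (iv F197067)
theorem F208162 : act 4 n46625 = n46625 := d33_1 D46625 (iv D46625) F175119
theorem F208163 : act 5 n46625 = n44210 := d37_1 D46625 (iv D44210) (iv F175120)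
theorem F208164 : act 6 n46625 = n46345 := d40_1 D46625 F208158 (iv D46624)
theorem F208165 : act 7 n46625 = n41994 := d42_1 D46625 (iv D41994) (iv F175121)
def n46626 : Q := act 5 n41894
theorem D46626 : act 5 n41894 = n46626 := rfl
theorem F208166 : act 0 n46626 = n41938 := d4_1 D46626 F206324 F206834
theorem F208167 : act 1 n46626 = n42370 := d12_1 D46626 (iv D42370) (iv F175123)
theorem F208168 : act 2 n46626 = n41902 := d19_1 D46626 (iv D41902) (iv F175124)
theorem F208169 : act 3 n46626 = n41923 := d25_1 D46626 (iv F208155) F208153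
theorem F208170 : act 4 n46626 = n46626 := d30_1 D46626 (iv D46626) F175125 F122133 (iv F175125)
theorem F208171 : act 6 n46626 = n41922 := d35_2 D41894 D46626 F196420 (iv D30323) (iv F122127)
theorem F208172 : act 9 n46626 = n41940 := d38_2 (iv F175126) D46626 (iv D41940)
theorem F208173 : act 7 n46383 = n46626 := d43_3 F208172 (iv F208129) F208131
theorem F208174 : act 8 n44305 = n46626 := d40_0 F208171 F205945 (iv F185065)
def n46627 : Q := act 7 n41894
theorem D46627 : act 7 n41894 = n46627 := rfl
theorem F208175 : act 0 n46627 = n46385 := d6_1 D46627 F207030 F206834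
theorem F208176 : act 1 n46627 = n42371 := d14_1 D46627 (iv D42371) (iv F175123)
theorem F208177 : act 2 n46627 = n41903 := d21_1 D46627 (iv D41903) (iv F175124)
theorem F208178 : act 3 n46627 = n46384 := d27_1 D46627 F208157 F208153
theorem F208179 : act 4 n46627 = n41896 := d32_1 D46627 (iv D41896) (iv F175125)
theorem F208180 : act 5 n46627 = n46383 := d36_1 D46627 F208173 (iv D46626)
theorem F208181 : act 6 n46627 = n41996 := d39_1 D46627 (iv D41996) (iv D28830) (iv F122128) D41894
theorem F208182 : act 9 n46627 = n41941 := d43_2 (iv F175126) D46627 (iv D41941)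
def n46628 : Q := act 8 n41894
theorem D46628 : act 8 n41894 = n46628 := rfl
theorem F208183 : act 0 n46628 = n45128 := d7_1 D46628 F188224 F206834
theorem F208184 : act 1 n46628 = n42372 := d15_1 D46628 (iv D42372) (iv F175123)
theorem F208185 : act 2 n46628 = n41904 := d22_1 D46628 (iv D41904) (iv F175124)
theorem F208186 : act 4 n46628 = n41897 := d33_1 D46628 (iv D41897) (iv F175125)
theorem F208187 : act 5 n46628 = n44305 := d37_1 D46628 F208174 (iv D46626)
theorem F208188 : act 6 n46628 = n41895 := d40_1 D46628 (iv D41895) D41894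
def n46629 : Q := act 3 n41895
theorem D46629 : act 3 n41895 = n46629 := rfl
theorem F208189 : act 0 n46629 = n45120 := d2_1 D46629 F188197 (iv F201907)
theorem F208190 : act 1 n46629 = n42373 := d10_1 D46629 (iv D42373) (iv F175127)
theorem F208191 : act 5 n46629 = n44214 := d25_2 (iv F175130) D46629 (iv D44214)
theorem F208192 : act 7 n46629 = n41998 := d27_2 (iv F175131) D46629 (iv D41998)
def n46630 : Q := act 9 n41895
theorem D46630 : act 9 n41895 = n46630 := rfl
theorem F208193 : act 0 n46630 = n45129 := d8_1 D46630 (iv D45129) (iv F201907)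
theorem F208194 : act 1 n46630 = n42374 := d16_1 D46630 (iv D42374) (iv F175127)
theorem F208195 : act 2 n46630 = n41906 := d23_1 D46630 (iv D41906) (iv F175128)
theorem F208196 : act 4 n46630 = n41899 := d34_1 D46630 (iv D41899) (iv F175129)
theorem F208197 : act 5 n46630 = n44215 := d38_1 D46630 (iv D44215) (iv F175130)
theorem F208198 : act 7 n46630 = n41999 := d43_1 D46630 (iv D41999) (iv F175131)
theorem F208199 : act 8 n46630 = n41944 := d44_1 D46630 (iv D41944) (iv D28795) (iv F122129) D41895
def n46631 : Q := act 8 n41896
theorem D46631 : act 8 n41896 = n46631 := rfl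
theorem F208200 : act 0 n46631 = n45131 := d7_1 D46631 (iv F205438) (iv F206622)
theorem F208201 : act 1 n46631 = n42375 := d15_1 D46631 (iv D42375) (iv F175132)
theorem F208202 : act 2 n46631 = n41907 := d22_1 D46631 (iv D41907) (iv F175133)
theorem F208203 : act 5 n46631 = n46631 := d37_1 D46631 (iv D46631) F175135
theorem F208204 : act 6 n46631 = n42000 := d40_1 D46631 (iv D42000) (iv F175136)
theorem F208205 : act 7 n46631 = n41897 := d42_1 D46631 (iv D41897) D41896
theorem F208206 : act 9 n46631 = n46373 := d44_2 (iv F175137) D46631 (iv D46373) (iv D31975) (iv F205387)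
def n46632 : Q := act 3 n41897
theorem D46632 : act 3 n41897 = n46632 := rfl
theorem F208207 : act 0 n46632 = n42455 := d2_1 D46632 F177467 (iv F202069)
theorem F208208 : act 1 n46632 = n42376 := d10_1 D46632 (iv D42376) (iv F175138)
theorem F208209 : act 2 n46632 = n46632 := d17_1 D46632 (iv D46632) F175139 F122163 (iv F175139)
theorem F208210 : act 5 n46632 = n46632 := d25_2 F175140 D46632 (iv D46632)
theorem F208211 : act 6 n46632 = n41898 := d26_2 (iv F175141) D46632 (iv D41898)
theorem F208212 : act 8 n46632 = n46632 := d28_2 D41897 D46632 (iv D46632) (iv D41897) F122132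
def n46633 : Q := act 9 n41897
theorem D46633 : act 9 n41897 = n46633 := rfl
theorem F208213 : act 0 n46633 = n45132 := d8_1 D46633 (iv D45132) (iv F202069)
theorem F208214 : act 1 n46633 = n42377 := d16_1 D46633 (iv D42377) (iv F175138)
theorem F208215 : act 2 n46633 = n41908 := d23_1 D46633 (iv D41908) (iv F175139)
theorem F208216 : act 5 n46633 = n46633 := d38_1 D46633 (iv D46633) F175140
theorem F208217 : act 6 n46633 = n41899 := d41_1 D46633 (iv D41899) (iv F175141)
theorem F208218 : act 7 n46633 = n46373 := d43_1 D46633 (iv F208206) F208205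
theorem F208219 : act 8 n46633 = n41947 := d44_1 D46633 (iv D41947) (iv D28797) (iv F122134) D41897
def n46634 : Q := act 4 n41898
theorem D46634 : act 4 n41898 = n46634 := rfl
theorem F208220 : act 0 n46634 = n42452 := d3_1 D46634 F177456 (iv F202070)
theorem F208221 : act 1 n46634 = n42378 := d11_1 D46634 (iv D42378) (iv F175142)
theorem F208222 : act 2 n46634 = n46634 := d18_1 D46634 (iv D46634) F175143
theorem F208223 : act 5 n46634 = n42422 := d30_2 (iv F175144) D46634 (iv D42422) F123612 F201965
theorem F208224 : act 7 n46634 = n42003 := d32_2 (iv F175145) D46634 (iv D42003)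
theorem F208225 : act 8 n46634 = n46634 := d33_2 F175146 D46634 (iv D46634)
def n46635 : Q := act 9 n41898
theorem D46635 : act 9 n41898 = n46635 := rfl
theorem F208226 : act 0 n46635 = n42456 := d8_1 D46635 (iv D42456) (iv F202070)
theorem F208227 : act 1 n46635 = n42379 := d16_1 D46635 (iv D42379) (iv F175142)
theorem F208228 : act 2 n46635 = n46635 := d23_1 D46635 (iv D46635) F175143
theorem F208229 : act 3 n46635 = n41899 := d29_1 D46635 (iv D41899) D41898
theorem F208230 : act 5 n46635 = n41901 := d38_1 D46635 (iv D41901) (iv F175144)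
theorem F208231 : act 7 n46635 = n42004 := d43_1 D46635 (iv D42004) (iv F175145)
def n46636 : Q := act 8 n41901
theorem D46636 : act 8 n41901 = n46636 := rfl
theorem F208232 : act 0 n46636 = n42457 := d7_1 D46636 (iv D42457) (iv F202072)
theorem F208233 : act 1 n46636 = n42382 := d15_1 D46636 (iv D42382) (iv F175158)
theorem F208234 : act 2 n46636 = n46636 := d22_1 D46636 (iv D46636) F175159
theorem F208235 : act 3 n46636 = n41952 := d28_1 D46636 (iv D41952) F122295 (iv F122149) (iv F175160)
theorem F208236 : act 4 n46636 = n42426 := d33_1 D46636 (iv D42426) (iv F202073)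
theorem F208237 : act 6 n46636 = n46636 := d40_1 D46636 (iv D46636) F175161
theorem F208238 : act 7 n46636 = n42007 := d42_1 D46636 (iv D42007) (iv F175162)
theorem F208239 : act 9 n46636 = n46636 := d44_2 D41901 D46636 (iv D46636) (iv D41901) F122143
def n46637 : Q := act 8 n41903
theorem D46637 : act 8 n41903 = n46637 := rfl
theorem F208240 : act 0 n46637 = n46349 := d7_1 D46637 F206876 F206515
theorem F208241 : act 1 n46637 = n41911 := d15_1 D46637 (iv D41911) (iv F175167)
theorem F208242 : act 3 n46637 = n44137 := d28_1 D46637 (iv D44137) F128429 (iv F128236) (iv F205518)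
theorem F208243 : act 4 n46637 = n41907 := d33_1 D46637 (iv D41907) (iv F175168)
theorem F208244 : act 5 n46637 = n44303 := d37_1 D46637 (iv F206517) F206510
theorem F208245 : act 6 n46637 = n42010 := d40_1 D46637 (iv D42010) (iv F175169)
theorem F208246 : act 7 n46637 = n41904 := d42_1 D46637 (iv D41904) D41903
theorem F208247 : act 9 n46637 = n44445 := d44_2 (iv F175170) D46637 (iv D44445) (iv D30479) (iv F205389)
def n46638 : Q := act 9 n41904
theorem D46638 : act 9 n41904 = n46638 := rfl
theorem F208248 : act 0 n46638 = n46348 := d8_1 D46638 F206872 (iv F206298)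
theorem F208249 : act 1 n46638 = n41913 := d16_1 D46638 (iv D41913) (iv F175171)
theorem F208250 : act 3 n46638 = n44302 := d29_1 D46638 (iv D44302) (iv F206132)
theorem F208251 : act 4 n46638 = n41908 := d34_1 D46638 (iv D41908) (iv F175172)
theorem F208252 : act 5 n46638 = n44306 := d38_1 D46638 (iv D44306) (iv F206133)
theorem F208253 : act 6 n46638 = n41906 := d41_1 D46638 (iv D41906) (iv F175173)
theorem F208254 : act 7 n46638 = n44445 := d43_1 D46638 (iv F208247) F208246
theorem F208255 : act 8 n46638 = n41957 := d44_1 D46638 (iv D41957) (iv D28804) (iv F122152) D41904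
def n46639 : Q := act 2 n41905
theorem D46639 : act 2 n41905 = n46639 := rfl
theorem F208256 : act 0 n46639 = n46345 := d1_1 D46639 F206857 F206320
theorem F208257 : act 1 n46639 = n42441 := d9_1 D46639 F177419 F123723 F205815 (iv F175174)
theorem F208258 : act 4 n46639 = n46639 := d18_2 F175175 D46639 (iv D46639)
theorem F208259 : act 5 n46639 = n41942 := d19_2 (iv F205522) D46639 F175343
theorem F208260 : act 6 n46639 = n44282 := d20_2 (iv F205523) D46639 F184974
theorem F208261 : act 7 n46639 = n42013 := d21_2 (iv F175177) D46639 (iv D42013)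
theorem F208262 : act 8 n46639 = n41940 := d22_2 (iv F205524) D46639 F175335
def n46640 : Q := act 9 n41905
theorem D46640 : act 9 n41905 = n46640 := rfl
theorem F208263 : act 0 n46640 = n46347 := d8_1 D46640 (iv D46347) F206320
theorem F208264 : act 1 n46640 = n41915 := d16_1 D46640 (iv D41915) (iv F175174)
theorem F208265 : act 3 n46640 = n41906 := d29_1 D46640 (iv D41906) D41905
theorem F208266 : act 4 n46640 = n46640 := d34_1 D46640 (iv D46640) F175175
theorem F208267 : act 5 n46640 = n41957 := d38_1 D46640 (iv D41957) (iv F205522)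
theorem F208268 : act 6 n46640 = n44302 := d41_1 D46640 (iv D44302) (iv F205523)
theorem F208269 : act 7 n46640 = n42014 := d43_1 D46640 (iv D42014) (iv F175177)
theorem F208270 : act 8 n46640 = n44306 := d44_1 D46640 (iv D44306) (iv F205951) F175166 (iv F205524)
def n46641 : Q := act 6 n41917
theorem D46641 : act 6 n41917 = n46641 := rfl
theorem F208271 : act 0 n46641 = n42403 := d5_1 D46641 (iv D42403) (iv F175233)
theorem F208272 : act 1 n46641 = n41923 := d13_1 D46641 (iv D41923) (iv F175234)
theorem F208273 : act 2 n46641 = n46641 := d20_1 D46641 (iv D46641) F175235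
theorem F208274 : act 3 n46641 = n42370 := d26_1 D46641 F177126 (iv F197113)
theorem F208275 : act 4 n46641 = n41918 := d31_1 D46641 (iv D41918) D41917
theorem F208276 : act 5 n46641 = n42368 := d35_1 D46641 (iv D42368) F123472 F197063 (iv F175236)
theorem F208277 : act 9 n46641 = n42435 := d41_2 (iv F197114) D46641 F177401
theorem F208278 : act 7 n46381 = n46641 := d32_0 F208275 (iv F206368) D46381
theorem F208279 : act 8 n46343 = n46641 := d33_0 F208275 F206369 D46343
def n46642 : Q := act 8 n41917
theorem D46642 : act 8 n41917 = n46642 := rfl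
theorem F208280 : act 0 n46642 = n42404 := d7_1 D46642 (iv D42404) (iv F175233)
theorem F208281 : act 1 n46642 = n41924 := d15_1 D46642 (iv D41924) (iv F175234)
theorem F208282 : act 2 n46642 = n46642 := d22_1 D46642 (iv D46642) F175235
theorem F208283 : act 4 n46642 = n41919 := d33_1 D46642 (iv D41919) D41917
theorem F208284 : act 5 n46642 = n44245 := d37_1 D46642 (iv D44245) (iv F175236)
theorem F208285 : act 6 n46642 = n46343 := d40_1 D46642 F208279 (iv D46641)
theorem F208286 : act 7 n46642 = n42029 := d42_1 D46642 (iv D42029) (iv F175237)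
def n46643 : Q := act 9 n41919
theorem D46643 : act 9 n41919 = n46643 := rfl
theorem F208287 : act 0 n46643 = n42408 := d8_1 D46643 (iv D42408) (iv F175243)
theorem F208288 : act 1 n46643 = n41928 := d16_1 D46643 (iv D41928) (iv F175244)
theorem F208289 : act 2 n46643 = n46643 := d23_1 D46643 (iv D46643) F175245
theorem F208290 : act 3 n46643 = n46353 := d29_1 D46643 (iv D46353) F206288
theorem F208291 : act 5 n46643 = n41921 := d38_1 D46643 (iv D41921) (iv F175246)
theorem F208292 : act 6 n46643 = n46344 := d41_1 D46643 (iv D46344) F206370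
theorem F208293 : act 7 n46643 = n42033 := d43_1 D46643 (iv D42033) (iv F175247)
theorem F208294 : act 8 n46643 = n44297 := d44_1 D46643 (iv D44297) F128899 (iv F201344) D41919
def n46644 : Q := act 9 n41920
theorem D46644 : act 9 n41920 = n46644 := rfl
theorem F208295 : act 0 n46644 = n42381 := d8_1 D46644 (iv D42381) F201653
theorem F208296 : act 1 n46644 = n41930 := d16_1 D46644 (iv D41930) (iv F175249)
theorem F208297 : act 2 n46644 = n46361 := d23_1 D46644 (iv D46361) (iv F206290)
theorem F208298 : act 3 n46644 = n41921 := d29_1 D46644 (iv D41921) D41920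
theorem F208299 : act 4 n46644 = n42360 := d34_1 D46644 (iv D42360) (iv F201346)
theorem F208300 : act 5 n46644 = n46353 := d38_1 D46644 (iv D46353) F206289
theorem F208301 : act 6 n46644 = n46644 := d41_1 D46644 (iv D46644) F175250
theorem F208302 : act 7 n46644 = n42036 := d43_1 D46644 (iv D42036) (iv F175251)
def n46645 : Q := act 3 n41924
theorem D46645 : act 3 n41924 = n46645 := rfl
theorem F208303 : act 0 n46645 = n41943 := d2_1 D46645 (iv D41943) (iv F175266)
theorem F208304 : act 2 n46645 = n44279 := d17_1 D46645 (iv D44279) (iv F201783) F205342 (iv F175267)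
theorem F208305 : act 4 n46645 = n45114 := d24_2 (iv F175268) D46645 F188183 F131122 (iv F205237)
theorem F208306 : act 5 n46645 = n44258 := d25_2 (iv F175269) D46645 (iv D44258)
theorem F208307 : act 6 n46645 = n45118 := d26_2 (iv F206614) D46645 F188192
theorem F208308 : act 7 n46645 = n42042 := d27_2 (iv F175270) D46645 (iv D42042)
theorem F208309 : act 8 n46645 = n44286 := d28_2 D41924 D46645 F184988 (iv F205945) (iv D41922)
def n46646 : Q := act 9 n41924
theorem D46646 : act 9 n41924 = n46646 := rfl
theorem F208310 : act 0 n46646 = n41944 := d8_1 D46646 (iv D41944) (iv F175266)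
theorem F208311 : act 2 n46646 = n41935 := d23_1 D46646 (iv D41935) (iv F175267)
theorem F208312 : act 4 n46646 = n41928 := d34_1 D46646 (iv D41928) (iv F175268)
theorem F208313 : act 5 n46646 = n44259 := d38_1 D46646 (iv D44259) (iv F175269)
theorem F208314 : act 6 n46646 = n46346 := d41_1 D46646 (iv D46346) (iv F206614)
theorem F208315 : act 7 n46646 = n42043 := d43_1 D46646 (iv D42043) (iv F175270)
theorem F208316 : act 8 n46646 = n45129 := d44_1 D46646 (iv D45129) F131080 F201788 D41924
def n46647 : Q := act 5 n41929
theorem D46647 : act 5 n41929 = n46647 := rfl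
theorem F208317 : act 0 n46647 = n41950 := d4_1 D46647 (iv D41950) (iv F175288)
theorem F208318 : act 1 n46647 = n42357 := d12_1 D46647 F177062 (iv F201353)
theorem F208319 : act 2 n46647 = n45139 := d19_1 D46647 F188263 F206328
theorem F208320 : act 3 n46647 = n42349 := d25_1 D46647 F177024 (iv F201354)
theorem F208321 : act 4 n46647 = n45138 := d30_1 D46647 F188259 F131122 (iv F205167) D41929
theorem F208322 : act 7 n46647 = n42049 := d36_2 (iv F175291) D46647 (iv D42049)
theorem F208323 : act 8 n46647 = n46647 := d37_2 F175292 D46647 (iv D46647)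
def n46648 : Q := act 9 n41929
theorem D46648 : act 9 n41929 = n46648 := rfl
theorem F208324 : act 0 n46648 = n41951 := d8_1 D46648 (iv D41951) (iv F175288)
theorem F208325 : act 1 n46648 = n42360 := d16_1 D46648 (iv D42360) (iv F201353)
theorem F208326 : act 2 n46648 = n46350 := d23_1 D46648 (iv D46350) F206328
theorem F208327 : act 3 n46648 = n42351 := d29_1 D46648 (iv D42351) (iv F201354)
theorem F208328 : act 4 n46648 = n41930 := d34_1 D46648 (iv D41930) D41929
theorem F208329 : act 6 n46648 = n46648 := d41_1 D46648 (iv D46648) F175290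
theorem F208330 : act 7 n46648 = n42050 := d43_1 D46648 (iv D42050) (iv F175291)
def n46649 : Q := act 8 n41930
theorem D46649 : act 8 n41930 = n46649 := rfl
theorem F208331 : act 0 n46649 = n41952 := d7_1 D46649 (iv D41952) (iv F175293)
theorem F208332 : act 2 n46649 = n46351 := d22_1 D46649 (iv D46351) (iv F206437)
theorem F208333 : act 3 n46649 = n42457 := d28_1 D46649 (iv D42457) F123711 F201974 (iv F175294)
theorem F208334 : act 5 n46649 = n46354 := d37_1 D46649 (iv D46354) F206438
theorem F208335 : act 6 n46649 = n46649 := d40_1 D46649 (iv D46649) F175295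
theorem F208336 : act 7 n46649 = n42051 := d42_1 D46649 (iv D42051) (iv F175296)
theorem F208337 : act 9 n46649 = n46649 := d44_2 D41930 D46649 (iv D46649) (iv D41930) F122233
def n46650 : Q := act 7 n41938
theorem D46650 : act 7 n41938 = n46650 := rfl
theorem F208338 : act 0 n46650 = n46383 := d6_1 D46650 F208173 F208166
theorem F208339 : act 1 n46650 = n42436 := d14_1 D46650 (iv D42436) (iv F175327)
theorem F208340 : act 2 n46650 = n44042 := d21_1 D46650 F206339 F206325
theorem F208341 : act 3 n46650 = n41941 := d27_1 D46650 (iv D41941) (iv F175328)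
theorem F208342 : act 4 n46650 = n46650 := d32_1 D46650 (iv D46650) F175329
theorem F208343 : act 5 n46650 = n46385 := d36_1 D46650 F207030 (iv F206324)
theorem F208344 : act 6 n46650 = n42061 := d39_1 D46650 (iv D42061) (iv D28874) (iv F122263) D41938
theorem F208345 : act 9 n46650 = n46384 := d43_2 F208156 D46650 F208157
def n46651 : Q := act 8 n41938
theorem D46651 : act 8 n41938 = n46651 := rfl
theorem F208346 : act 0 n46651 = n44305 := d7_1 D46651 F208174 F208166
theorem F208347 : act 1 n46651 = n42437 := d15_1 D46651 (iv D42437) (iv F175327)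
theorem F208348 : act 2 n46651 = n44271 := d22_1 D46651 F206294 F206325
theorem F208349 : act 4 n46651 = n46651 := d33_1 D46651 (iv D46651) F175329
theorem F208350 : act 5 n46651 = n45128 := d37_1 D46651 F188224 (iv F206324)
theorem F208351 : act 6 n46651 = n41939 := d40_1 D46651 (iv D41939) D41938
def n46652 : Q := act 3 n41939
theorem D46652 : act 3 n41939 = n46652 := rfl
theorem F208352 : act 0 n46652 = n44286 := d2_1 D46652 F184988 (iv F205605)
theorem F208353 : act 1 n46652 = n42438 := d10_1 D46652 (iv D42438) (iv F175330)
theorem F208354 : act 2 n46652 = n44258 := d17_1 D46652 (iv D44258) F128789 D30363 (iv F205606)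
theorem F208355 : act 5 n46652 = n44279 := d25_2 (iv F175332) D46652 (iv D44279)
theorem F208356 : act 7 n46652 = n42063 := d27_2 (iv F175333) D46652 (iv D42063)
theorem F208357 : act 8 n46652 = n41943 := d28_2 D41939 D46652 (iv D41943) (iv D28795) D28793
def n46653 : Q := act 9 n41939
theorem D46653 : act 9 n41939 = n46653 := rfl
theorem F208358 : act 0 n46653 = n44308 := d8_1 D46653 (iv D44308) (iv F205605)
theorem F208359 : act 1 n46653 = n42439 := d16_1 D46653 (iv D42439) (iv F175330)
theorem F208360 : act 2 n46653 = n44274 := d23_1 D46653 (iv D44274) (iv F205606)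
theorem F208361 : act 4 n46653 = n46653 := d34_1 D46653 (iv D46653) F175331
theorem F208362 : act 5 n46653 = n44280 := d38_1 D46653 (iv D44280) (iv F175332)
theorem F208363 : act 7 n46653 = n42064 := d43_1 D46653 (iv D42064) (iv F175333)
def n46654 : Q := act 3 n41942
theorem D46654 : act 3 n41942 = n46654 := rfl
theorem F208364 : act 0 n46654 = n45118 := d2_1 D46654 F188192 F206613
theorem F208365 : act 1 n46654 = n42443 := d10_1 D46654 (iv D42443) (iv F175342)
theorem F208366 : act 2 n46654 = n44214 := d17_1 D46654 (iv D44214) F128671 F205520 (iv F175343)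
theorem F208367 : act 4 n46654 = n45075 := d24_2 (iv F175344) D46654 F188034 F131013 (iv F205392)
theorem F208368 : act 6 n46654 = n41943 := d26_2 (iv F175345) D46654 (iv D41943)
theorem F208369 : act 7 n46654 = n44422 := d27_2 (iv F205519) D46654 F185528
def n46655 : Q := act 9 n41942
theorem D46655 : act 9 n41942 = n46655 := rfl
theorem F208370 : act 0 n46655 = n46346 := d8_1 D46655 (iv D46346) F206613
theorem F208371 : act 1 n46655 = n42444 := d16_1 D46655 (iv D42444) (iv F175342)
theorem F208372 : act 2 n46655 = n41957 := d23_1 D46655 (iv D41957) (iv F175343)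
theorem F208373 : act 4 n46655 = n41947 := d34_1 D46655 (iv D41947) (iv F175344)
theorem F208374 : act 6 n46655 = n41944 := d41_1 D46655 (iv D41944) (iv F175345)
theorem F208375 : act 7 n46655 = n44444 := d43_1 D46655 (iv D44444) (iv F205519)
def n46656 : Q := act 2 n41943
theorem D46656 : act 2 n41943 = n46656 := rfl
theorem F208376 : act 0 n46656 = n44279 := d1_1 D46656 (iv F208304) F208303
theorem F208377 : act 3 n46656 = n41958 := d17_2 D41943 D46656 (iv D41958) (iv D28805) (iv F122268)
theorem F208378 : act 5 n46656 = n44286 := d19_2 (iv F175347) D46656 (iv D44286)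
theorem F208379 : act 6 n46656 = n44214 := d20_2 F208368 D46656 (iv F208366)
theorem F208380 : act 7 n46656 = n42070 := d21_2 (iv F175348) D46656 (iv D42070)
theorem F208381 : act 8 n46656 = n44258 := d22_2 F208357 D46656 (iv F208354)
theorem F208382 : act 1 n45006 = n46656 := d13_3 F208379 F184702 (iv F187769)
theorem F208383 : act 4 n45073 = n46656 := d31_3 F208379 F201909 (iv F188028)
def n46657 : Q := act 4 n41943
theorem D46657 : act 4 n41943 = n46657 := rfl
theorem F208384 : act 0 n46657 = n45114 := d3_1 D46657 (iv F208305) F208303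
theorem F208385 : act 1 n46657 = n42446 := d11_1 D46657 (iv D42446) (iv F175346)
theorem F208386 : act 2 n46657 = n45073 := d18_1 D46657 F208383 (iv D46656)
theorem F208387 : act 3 n46657 = n41948 := d24_1 D46657 (iv D41948) (iv D28798) (iv F122269) D41943
theorem F208388 : act 6 n46657 = n45075 := d31_2 F208368 D46657 (iv F208367)
theorem F208389 : act 7 n46657 = n42071 := d32_2 (iv F175348) D46657 (iv D42071)
def n46658 : Q := act 9 n41943
theorem D46658 : act 9 n41943 = n46658 := rfl
theorem F208390 : act 1 n46658 = n42447 := d16_1 D46658 (iv D42447) (iv F175346)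
theorem F208391 : act 3 n46658 = n41944 := d29_1 D46658 (iv D41944) D41943
theorem F208392 : act 5 n46658 = n44288 := d38_1 D46658 (iv D44288) (iv F175347)
theorem F208393 : act 7 n46658 = n42072 := d43_1 D46658 (iv D42072) (iv F175348)
def n46659 : Q := act 5 n41948
theorem D46659 : act 5 n41948 = n46659 := rfl
theorem F208394 : act 0 n46659 = n45138 := d4_1 D46659 F188259 (iv F205322)
theorem F208395 : act 1 n46659 = n42452 := d12_1 D46659 (iv D42452) (iv F175367)
theorem F208396 : act 2 n46659 = n45090 := d19_1 D46659 F188102 (iv F205323)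
theorem F208397 : act 4 n46659 = n41950 := d30_1 D46659 (iv D41950) (iv D28800) (iv F122282) D41948
theorem F208398 : act 7 n46659 = n42077 := d36_2 (iv F175368) D46659 (iv D42077)
theorem F208399 : act 8 n46659 = n46659 := d37_2 F175369 D46659 (iv D46659)
def n46660 : Q := act 9 n41948
theorem D46660 : act 9 n41948 = n46660 := rfl
theorem F208400 : act 0 n46660 = n45144 := d8_1 D46660 (iv D45144) (iv F205322)
theorem F208401 : act 1 n46660 = n42453 := d16_1 D46660 (iv D42453) (iv F175367)
theorem F208402 : act 2 n46660 = n45095 := d23_1 D46660 (iv D45095) (iv F205323)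
theorem F208403 : act 4 n46660 = n41949 := d34_1 D46660 (iv D41949) D41948
theorem F208404 : act 6 n46660 = n45097 := d41_1 D46660 (iv D45097) (iv F205324)
theorem F208405 : act 7 n46660 = n42078 := d43_1 D46660 (iv D42078) (iv F175368)
def n46661 : Q := act 8 n41949
theorem D46661 : act 8 n41949 = n46661 := rfl
theorem F208406 : act 0 n46661 = n46354 := d7_1 D46661 (iv D46354) (iv F206439)
theorem F208407 : act 1 n46661 = n42454 := d15_1 D46661 (iv D42454) (iv F175370)
theorem F208408 : act 2 n46661 = n46341 := d22_1 D46661 (iv D46341) F206478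
theorem F208409 : act 5 n46661 = n41952 := d37_1 D46661 (iv D41952) (iv F175372)
theorem F208410 : act 6 n46661 = n46342 := d40_1 D46661 (iv D46342) (iv F206476)
theorem F208411 : act 7 n46661 = n42079 := d42_1 D46661 (iv D42079) (iv F175373)
theorem F208412 : act 9 n46661 = n46661 := d44_2 D41949 D46661 (iv D46661) (iv D41949) F122284
def n46662 : Q := act 6 n41950
theorem D46662 : act 6 n41950 = n46662 := rfl
theorem F208413 : act 1 n46662 = n42455 := d13_1 D46662 (iv D42455) (iv F175374)
theorem F208414 : act 3 n46662 = n44296 := d26_1 D46662 (iv D44296) (iv F175375)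
theorem F208415 : act 5 n46662 = n46662 := d35_1 D46662 (iv D46662) (iv D41950) F122291 D41950
theorem F208416 : act 8 n46662 = n46662 := d40_2 F175377 D46662 (iv D46662)
def n46663 : Q := act 9 n41950
theorem D46663 : act 9 n41950 = n46663 := rfl
theorem F208417 : act 1 n46663 = n42456 := d16_1 D46663 (iv D42456) (iv F175374)
theorem F208418 : act 3 n46663 = n44297 := d29_1 D46663 (iv D44297) (iv F175375)
theorem F208419 : act 5 n46663 = n41951 := d38_1 D46663 (iv D41951) D41950
theorem F208420 : act 7 n46663 = n42081 := d43_1 D46663 (iv D42081) (iv F175376)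
def n46664 : Q := act 8 n41951
theorem D46664 : act 8 n41951 = n46664 := rfl
theorem F208421 : act 1 n46664 = n42457 := d15_1 D46664 (iv D42457) (iv F175378)
theorem F208422 : act 4 n46664 = n41952 := d33_1 D46664 (iv D41952) (iv F175380)
theorem F208423 : act 6 n46664 = n46664 := d40_1 D46664 (iv D46664) F175381
theorem F208424 : act 7 n46664 = n42082 := d42_1 D46664 (iv D42082) (iv F175382)
theorem F208425 : act 9 n46664 = n46664 := d44_2 D41951 D46664 (iv D46664) (iv D41951) F122293
def n46665 : Q := act 9 n41958
theorem D46665 : act 9 n41958 = n46665 := rfl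
theorem F208426 : act 0 n46665 = n44280 := d8_1 D46665 (iv D44280) (iv F205566)
theorem F208427 : act 1 n46665 = n45007 := d16_1 D46665 (iv D45007) (iv F205567)
theorem F208428 : act 2 n46665 = n41959 := d23_1 D46665 (iv D41959) D41958
theorem F208429 : act 4 n46665 = n44218 := d34_1 D46665 (iv D44218) (iv F205568)
theorem F208430 : act 5 n46665 = n44308 := d38_1 D46665 (iv D44308) (iv F175403)
theorem F208431 : act 6 n46665 = n44215 := d41_1 D46665 (iv D44215) (iv F205569)
theorem F208432 : act 7 n46665 = n42092 := d43_1 D46665 (iv D42092) (iv F175404)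
theorem F208433 : act 8 n46665 = n44285 := d44_1 D46665 (iv D44285) (iv D30371) (iv F128669) (iv F205570)
def n46666 : Q := act 5 n41993
theorem D46666 : act 5 n41993 = n46666 := rfl
theorem F208434 : act 0 n46666 = n44522 := d4_1 D46666 F206412 F206416
theorem F208435 : act 1 n46666 = n42571 := d12_1 D46666 (iv D42571) (iv F175552)
theorem F208436 : act 2 n46666 = n44502 := d19_1 D46666 (iv F208074) F208071
theorem F208437 : act 3 n46666 = n41995 := d25_1 D46666 (iv D41995) (iv F175553)
theorem F208438 : act 6 n46666 = n44412 := d35_2 D41993 D46666 (iv D44412) (iv D30458) (iv F122410)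
theorem F208439 : act 9 n46666 = n42060 := d38_2 (iv F175555) D46666 (iv D42060)
theorem F208440 : act 4 n44826 = n46666 := d34_3 F208439 F206556 (iv F206823)
def n46667 : Q := act 7 n41993
theorem D46667 : act 7 n41993 = n46667 := rfl
theorem F208441 : act 0 n46667 = n46537 := d6_1 D46667 (iv D46537) F206416
theorem F208442 : act 1 n46667 = n42572 := d14_1 D46667 (iv D42572) (iv F175552)
theorem F208443 : act 2 n46667 = n46386 := d21_1 D46667 (iv F208075) F208071
theorem F208444 : act 3 n46667 = n41996 := d27_1 D46667 (iv D41996) (iv F175553)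
theorem F208445 : act 4 n46667 = n46667 := d32_1 D46667 (iv D46667) F175554
theorem F208446 : act 6 n46667 = n46384 := d39_1 D46667 F208157 (iv D46624) F175121 D41993
theorem F208447 : act 9 n46667 = n42061 := d43_2 (iv F175555) D46667 (iv D42061)
theorem F208448 : act 8 n46399 = n46667 := d40_0 F208446 F207026 D46399
def n46668 : Q := act 8 n41993
theorem D46668 : act 8 n41993 = n46668 := rfl
theorem F208449 : act 0 n46668 = n46536 := d7_1 D46668 F207640 F206416
theorem F208450 : act 1 n46668 = n42573 := d15_1 D46668 (iv D42573) (iv F175552)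
theorem F208451 : act 2 n46668 = n46403 := d22_1 D46668 F208077 F208071
theorem F208452 : act 4 n46668 = n46668 := d33_1 D46668 (iv D46668) F175554
theorem F208453 : act 6 n46668 = n41994 := d40_1 D46668 (iv D41994) D41993
theorem F208454 : act 7 n46668 = n46399 := d42_1 D46668 F208448 (iv D46667)
def n46669 : Q := act 3 n41994
theorem D46669 : act 3 n41994 = n46669 := rfl
theorem F208455 : act 0 n46669 = n45386 := d2_1 D46669 F189106 (iv F206837)
theorem F208456 : act 1 n46669 = n42574 := d10_1 D46669 (iv D42574) (iv F175556)
theorem F208457 : act 5 n46669 = n44415 := d25_2 (iv F175558) D46669 (iv D44415)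
theorem F208458 : act 8 n46669 = n41998 := d28_2 D41994 D46669 (iv D41998) (iv D28831) D28829
def n46670 : Q := act 9 n41994
theorem D46670 : act 9 n41994 = n46670 := rfl
theorem F208459 : act 0 n46670 = n44562 := d8_1 D46670 F206522 (iv F206837)
theorem F208460 : act 1 n46670 = n42575 := d16_1 D46670 (iv D42575) (iv F175556)
theorem F208461 : act 2 n46670 = n44512 := d23_1 D46670 (iv F208086) F208080
theorem F208462 : act 4 n46670 = n46670 := d34_1 D46670 (iv D46670) F175557
theorem F208463 : act 5 n46670 = n44416 := d38_1 D46670 (iv D44416) (iv F175558)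
theorem F208464 : act 8 n46670 = n42064 := d44_1 D46670 (iv D42064) (iv D28875) (iv F122411) D41994
def n46671 : Q := act 7 n41995
theorem D46671 : act 7 n41995 = n46671 := rfl
theorem F208465 : act 0 n46671 = n46538 := d6_1 D46671 (iv D46538) F206819
theorem F208466 : act 1 n46671 = n42576 := d14_1 D46671 (iv D42576) (iv F175559)
theorem F208467 : act 2 n46671 = n42008 := d21_1 D46671 (iv D42008) (iv F175560)
theorem F208468 : act 4 n46671 = n42146 := d32_1 D46671 (iv D42146) (iv F175561)
theorem F208469 : act 5 n46671 = n41996 := d36_1 D46671 (iv D41996) D41995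
theorem F208470 : act 9 n46671 = n42065 := d43_2 (iv F175563) D46671 (iv D42065)
def n46672 : Q := act 8 n41995
theorem D46672 : act 8 n41995 = n46672 := rfl
theorem F208471 : act 0 n46672 = n45416 := d7_1 D46672 F189173 F206819
theorem F208472 : act 1 n46672 = n42577 := d15_1 D46672 (iv D42577) (iv F175559)
theorem F208473 : act 2 n46672 = n42009 := d22_1 D46672 (iv D42009) (iv F175560)
theorem F208474 : act 4 n46672 = n42147 := d33_1 D46672 (iv D42147) (iv F175561)
theorem F208475 : act 5 n46672 = n41997 := d37_1 D46672 (iv D41997) D41995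
theorem F208476 : act 6 n46672 = n44418 := d40_1 D46672 (iv D44418) (iv F175562)
def n46673 : Q := act 8 n41996
theorem D46673 : act 8 n41996 = n46673 := rfl
theorem F208477 : act 0 n46673 = n45419 := d7_1 D46673 F189183 F206812
theorem F208478 : act 1 n46673 = n42578 := d15_1 D46673 (iv D42578) (iv F175564)
theorem F208479 : act 2 n46673 = n42010 := d22_1 D46673 (iv D42010) (iv F175565)
theorem F208480 : act 4 n46673 = n42000 := d33_1 D46673 (iv D42000) (iv F175566)
theorem F208481 : act 7 n46673 = n41997 := d42_1 D46673 (iv D41997) D41996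
def n46674 : Q := act 3 n41997
theorem D46674 : act 3 n41997 = n46674 := rfl
theorem F208482 : act 0 n46674 = n45410 := d2_1 D46674 F189155 (iv F202758)
theorem F208483 : act 1 n46674 = n42579 := d10_1 D46674 (iv D42579) (iv F175568)
theorem F208484 : act 6 n46674 = n41998 := d26_2 (iv F175571) D46674 (iv D41998)
def n46675 : Q := act 9 n41997
theorem D46675 : act 9 n41997 = n46675 := rfl
theorem F208485 : act 0 n46675 = n45420 := d8_1 D46675 (iv D45420) (iv F202758)
theorem F208486 : act 1 n46675 = n42580 := d16_1 D46675 (iv D42580) (iv F175568)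
theorem F208487 : act 2 n46675 = n42012 := d23_1 D46675 (iv D42012) (iv F175569)
theorem F208488 : act 4 n46675 = n42002 := d34_1 D46675 (iv D42002) (iv F175570)
theorem F208489 : act 6 n46675 = n41999 := d41_1 D46675 (iv D41999) (iv F175571)
theorem F208490 : act 8 n46675 = n42069 := d44_1 D46675 (iv D42069) (iv D28878) (iv F122415) D41997
def n46676 : Q := act 2 n41998
theorem D46676 : act 2 n41998 = n46676 := rfl
theorem F208491 : act 0 n46676 = n45407 := d1_1 D46676 F189149 (iv F202759)
theorem F208492 : act 3 n46676 = n42013 := d17_2 D41998 D46676 (iv D42013) (iv D28841) (iv F122417)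
theorem F208493 : act 5 n46676 = n44422 := d19_2 (iv F175573) D46676 (iv D44422)
def n46677 : Q := act 4 n41998
theorem D46677 : act 4 n41998 = n46677 := rfl
theorem F208494 : act 0 n46677 = n42693 := d3_1 D46677 F178383 (iv F202759)
theorem F208495 : act 1 n46677 = n42582 := d11_1 D46677 (iv D42582) (iv F175572)
theorem F208496 : act 3 n46677 = n42003 := d24_1 D46677 (iv D42003) (iv D28834) (iv F122418) D41998
theorem F208497 : act 5 n46677 = n42649 := d30_2 (iv F175573) D46677 (iv D42649) F124217 F202683
def n46678 : Q := act 9 n41998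
theorem D46678 : act 9 n41998 = n46678 := rfl
theorem F208498 : act 0 n46678 = n45411 := d8_1 D46678 (iv D45411) (iv F202759)
theorem F208499 : act 1 n46678 = n42583 := d16_1 D46678 (iv D42583) (iv F175572)
theorem F208500 : act 3 n46678 = n41999 := d29_1 D46678 (iv D41999) D41998
theorem F208501 : act 5 n46678 = n44424 := d38_1 D46678 (iv D44424) (iv F175573)
def n46679 : Q := act 3 n42000
theorem D46679 : act 3 n42000 = n46679 := rfl
theorem F208502 : act 0 n46679 = n42704 := d2_1 D46679 F178414 (iv F202862)
theorem F208503 : act 1 n46679 = n42584 := d10_1 D46679 (iv D42584) (iv F175579)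
theorem F208504 : act 2 n46679 = n46679 := d17_1 D46679 (iv D46679) F175580 F122464 (iv F175580)
theorem F208505 : act 5 n46679 = n42154 := d25_2 (iv F175581) D46679 (iv D42154)
theorem F208506 : act 7 n46679 = n42001 := d27_2 (iv F175582) D46679 (iv D42001)
theorem F208507 : act 8 n46679 = n46679 := d28_2 D42000 D46679 (iv D46679) (iv D42000) F122422
def n46680 : Q := act 9 n42000
theorem D46680 : act 9 n42000 = n46680 := rfl
theorem F208508 : act 0 n46680 = n45423 := d8_1 D46680 (iv D45423) (iv F202862)
theorem F208509 : act 1 n46680 = n42585 := d16_1 D46680 (iv D42585) (iv F175579)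
theorem F208510 : act 2 n46680 = n42015 := d23_1 D46680 (iv D42015) (iv F175580)
theorem F208511 : act 5 n46680 = n42155 := d38_1 D46680 (iv D42155) (iv F175581)
theorem F208512 : act 6 n46680 = n46373 := d41_1 D46680 (iv F208206) F208204
theorem F208513 : act 7 n46680 = n42002 := d43_1 D46680 (iv D42002) (iv F175582)
theorem F208514 : act 8 n46680 = n42074 := d44_1 D46680 (iv D42074) (iv D28881) (iv F122424) D42000
def n46681 : Q := act 4 n42001
theorem D46681 : act 4 n42001 = n46681 := rfl
theorem F208515 : act 0 n46681 = n42701 := d3_1 D46681 F178405 (iv F202863)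
theorem F208516 : act 1 n46681 = n42586 := d11_1 D46681 (iv D42586) (iv F175583)
theorem F208517 : act 2 n46681 = n46681 := d18_1 D46681 (iv D46681) F175584
theorem F208518 : act 6 n46681 = n42003 := d31_2 (iv F175586) D46681 (iv D42003)
theorem F208519 : act 8 n46681 = n46681 := d33_2 F175587 D46681 (iv D46681)
def n46682 : Q := act 9 n42001
theorem D46682 : act 9 n42001 = n46682 := rfl
theorem F208520 : act 0 n46682 = n42705 := d8_1 D46682 (iv D42705) (iv F202863)
theorem F208521 : act 1 n46682 = n42587 := d16_1 D46682 (iv D42587) (iv F175583)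
theorem F208522 : act 2 n46682 = n46682 := d23_1 D46682 (iv D46682) F175584
theorem F208523 : act 3 n46682 = n42002 := d29_1 D46682 (iv D42002) D42001
theorem F208524 : act 5 n46682 = n42157 := d38_1 D46682 (iv D42157) (iv F175585)
theorem F208525 : act 6 n46682 = n42004 := d41_1 D46682 (iv D42004) (iv F175586)
def n46683 : Q := act 9 n42003
theorem D46683 : act 9 n42003 = n46683 := rfl
theorem F208526 : act 0 n46683 = n42702 := d8_1 D46683 (iv D42702) (iv F202864)
theorem F208527 : act 1 n46683 = n42589 := d16_1 D46683 (iv D42589) (iv F175593)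
theorem F208528 : act 2 n46683 = n46683 := d23_1 D46683 (iv D46683) F175594
theorem F208529 : act 4 n46683 = n42004 := d34_1 D46683 (iv D42004) D42003
theorem F208530 : act 5 n46683 = n42656 := d38_1 D46683 (iv D42656) (iv F202865)
def n46684 : Q := act 8 n42004
theorem D46684 : act 8 n42004 = n46684 := rfl
theorem F208531 : act 0 n46684 = n42706 := d7_1 D46684 (iv D42706) (iv F202839)
theorem F208532 : act 1 n46684 = n42590 := d15_1 D46684 (iv D42590) (iv F175596)
theorem F208533 : act 2 n46684 = n46684 := d22_1 D46684 (iv D46684) F175597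
theorem F208534 : act 3 n46684 = n42079 := d28_1 D46684 (iv D42079) F122625 (iv F122436) (iv F175598)
theorem F208535 : act 5 n46684 = n42007 := d37_1 D46684 (iv D42007) (iv F175599)
theorem F208536 : act 9 n46684 = n46684 := d44_2 D42004 D46684 (iv D46684) (iv D42004) F122432
def n46685 : Q := act 6 n42008
theorem D46685 : act 6 n42008 = n46685 := rfl
theorem F208537 : act 0 n46685 = n46567 := d5_1 D46685 F207754 F206743
theorem F208538 : act 1 n46685 = n42016 := d13_1 D46685 (iv D42016) (iv F175614)
theorem F208539 : act 3 n46685 = n44128 := d26_1 D46685 (iv F208102) F208099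
theorem F208540 : act 4 n46685 = n42164 := d31_1 D46685 (iv D42164) (iv F175615)
theorem F208541 : act 5 n46685 = n44131 := d35_1 D46685 (iv F206516) F206510 F175169 (iv F175616)
theorem F208542 : act 7 n46685 = n44129 := d39_2 D42008 D46685 F205889 (iv D30473) (iv F122448)
theorem F208543 : act 9 n46685 = n42083 := d41_2 (iv F175617) D46685 (iv D42083)
theorem F208544 : act 8 n44550 = n46685 := d42_0 F208542 F184324 (iv F185946)
def n46686 : Q := act 8 n42008
theorem D46686 : act 8 n42008 = n46686 := rfl
theorem F208545 : act 0 n46686 = n46407 := d7_1 D46686 F207099 F206743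
theorem F208546 : act 1 n46686 = n42017 := d15_1 D46686 (iv D42017) (iv F175614)
theorem F208547 : act 3 n46686 = n44549 := d28_1 D46686 (iv D44549) (iv F184316) F208104 F208099
theorem F208548 : act 4 n46686 = n42165 := d33_1 D46686 (iv D42165) (iv F175615)
theorem F208549 : act 5 n46686 = n42010 := d37_1 D46686 (iv D42010) (iv F175616)
theorem F208550 : act 6 n46686 = n44550 := d40_1 D46686 F208544 (iv D46685)
theorem F208551 : act 7 n46686 = n42009 := d42_1 D46686 (iv D42009) D42008
def n46687 : Q := act 3 n42009
theorem D46687 : act 3 n42009 = n46687 := rfl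
theorem F208552 : act 0 n46687 = n46391 := d2_1 D46687 F207047 (iv F206738)
theorem F208553 : act 1 n46687 = n42018 := d10_1 D46687 (iv D42018) (iv F175618)
theorem F208554 : act 5 n46687 = n42011 := d25_2 (iv F175620) D46687 (iv D42011)
theorem F208555 : act 6 n46687 = n42084 := d26_2 (iv F175621) D46687 F205282
theorem F208556 : act 7 n46687 = n44549 := d27_2 F208551 D46687 (iv F208547)
theorem F208557 : act 8 n46687 = n42083 := d28_2 D42009 D46687 F208113 (iv D46619) F174785
theorem F208558 : act 4 n42278 = n46687 := d33_3 F208557 F175890 D42278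
def n46688 : Q := act 9 n42009
theorem D46688 : act 9 n42009 = n46688 := rfl
theorem F208559 : act 0 n46688 = n46408 := d8_1 D46688 (iv D46408) (iv F206738)
theorem F208560 : act 1 n46688 = n42019 := d16_1 D46688 (iv D42019) (iv F175618)
theorem F208561 : act 4 n46688 = n42167 := d34_1 D46688 (iv D42167) (iv F175619)
theorem F208562 : act 5 n46688 = n42012 := d38_1 D46688 (iv D42012) (iv F175620)
theorem F208563 : act 6 n46688 = n44438 := d41_1 D46688 (iv D44438) (iv F175621)
theorem F208564 : act 8 n46688 = n42086 := d44_1 D46688 (iv D42086) (iv D28890) (iv F122449) D42009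
def n46689 : Q := act 3 n42010
theorem D46689 : act 3 n42010 = n46689 := rfl
theorem F208565 : act 0 n46689 = n46403 := d2_1 D46689 F207083 (iv F206808)
theorem F208566 : act 1 n46689 = n42020 := d10_1 D46689 (iv D42020) (iv F175622)
theorem F208567 : act 4 n46689 = n46689 := d24_2 (iv F175623) D46689 (iv D46689) F175623 F122464
theorem F208568 : act 5 n46689 = n44549 := d25_2 F208549 D46689 (iv F208547)
theorem F208569 : act 6 n46689 = n44137 := d26_2 F208245 D46689 (iv F208242)
theorem F208570 : act 7 n46689 = n42011 := d27_2 (iv F175624) D46689 (iv D42011)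
theorem F208571 : act 8 n46689 = n44134 := d28_2 D42010 D46689 F184339 (iv F205513) F174790
theorem F208572 : act 2 n46536 = n46689 := d22_3 F208571 (iv F206414) (iv F207640)
theorem F208573 : act 9 n44559 = n46689 := d44_0 F208571 (iv D44134) F128422 D30555 D44559
def n46690 : Q := act 9 n42010
theorem D46690 : act 9 n42010 = n46690 := rfl
theorem F208574 : act 0 n46690 = n46393 := d8_1 D46690 F207056 (iv F206808)
theorem F208575 : act 1 n46690 = n42021 := d16_1 D46690 (iv D42021) (iv F175622)
theorem F208576 : act 3 n46690 = n44559 := d29_1 D46690 F208573 (iv D46689)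
theorem F208577 : act 4 n46690 = n42015 := d34_1 D46690 (iv D42015) (iv F175623)
theorem F208578 : act 6 n46690 = n44445 := d41_1 D46690 (iv F208247) F208245
theorem F208579 : act 7 n46690 = n42012 := d43_1 D46690 (iv D42012) (iv F175624)
theorem F208580 : act 8 n46690 = n42088 := d44_1 D46690 (iv D42088) (iv D28891) (iv F122452) D42010
def n46691 : Q := act 2 n42011
theorem D46691 : act 2 n42011 = n46691 := rfl
theorem F208581 : act 0 n46691 = n46399 := d1_1 D46691 F207072 (iv F206816)
theorem F208582 : act 4 n46691 = n46691 := d18_2 F175626 D46691 (iv D46691)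
theorem F208583 : act 6 n46691 = n42013 := d20_2 (iv F175627) D46691 (iv D42013)
theorem F208584 : act 7 n46691 = n46536 := d21_2 F208570 D46691 F208572
theorem F208585 : act 8 n46691 = n46537 := d22_2 F208121 D46691 (iv F208116)
def n46692 : Q := act 9 n42011
theorem D46692 : act 9 n42011 = n46692 := rfl
theorem F208586 : act 0 n46692 = n46404 := d8_1 D46692 (iv D46404) (iv F206816)
theorem F208587 : act 1 n46692 = n42023 := d16_1 D46692 (iv D42023) (iv F175625)
theorem F208588 : act 3 n46692 = n42012 := d29_1 D46692 (iv D42012) D42011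
theorem F208589 : act 4 n46692 = n46692 := d34_1 D46692 (iv D46692) F175626
theorem F208590 : act 6 n46692 = n42014 := d41_1 D46692 (iv D42014) (iv F175627)
theorem F208591 : act 7 n46692 = n44559 := d43_1 D46692 F208573 F208570
theorem F208592 : act 8 n46692 = n44556 := d44_1 D46692 (iv D44556) (iv F184331) (iv F208122) F208121
def n46693 : Q := act 1 n42013
theorem D46693 : act 1 n42013 = n46693 := rfl
theorem F208593 : act 2 n46693 = n42024 := d9_2 D42013 D46693 (iv D42024) (iv D28850) (iv F122456)
theorem F208594 : act 4 n46693 = n46693 := d11_2 F175632 D46693 (iv D46693)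
theorem F208595 : act 5 n46693 = n42442 := d12_2 (iv F175633) D46693 F205824
theorem F208596 : act 7 n46693 = n42441 := d14_2 F208261 D46693 (iv F208257)
theorem F208597 : act 8 n46693 = n42440 := d15_2 F208130 D46693 (iv F208124)
def n46694 : Q := act 9 n42013
theorem D46694 : act 9 n42013 = n46694 := rfl
theorem F208598 : act 0 n46694 = n46400 := d8_1 D46694 (iv D46400) (iv F206817)
theorem F208599 : act 2 n46694 = n42014 := d23_1 D46694 (iv D42014) D42013
theorem F208600 : act 4 n46694 = n46694 := d34_1 D46694 (iv D46694) F175632
theorem F208601 : act 5 n46694 = n44444 := d38_1 D46694 (iv D44444) (iv F175633)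
def n46695 : Q := act 8 n42014
theorem D46695 : act 8 n42014 = n46695 := rfl
theorem F208602 : act 0 n46695 = n46405 := d7_1 D46695 (iv D46405) (iv F206815)
theorem F208603 : act 1 n46695 = n42026 := d15_1 D46695 (iv D42026) (iv F175634)
theorem F208604 : act 3 n46695 = n42093 := d28_1 D46695 (iv D42093) F122654 (iv F122462) (iv F175635)
theorem F208605 : act 4 n46695 = n46695 := d33_1 D46695 (iv D46695) F175636
theorem F208606 : act 5 n46695 = n44445 := d37_1 D46695 (iv D44445) (iv F175637)
theorem F208607 : act 6 n46695 = n44556 := d40_1 D46695 (iv F208592) F208590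
theorem F208608 : act 7 n46695 = n44306 := d42_1 D46695 (iv F208270) F208269
theorem F208609 : act 9 n46695 = n44303 := d44_2 D42014 D46695 (iv F206517) (iv F206513) F174799
def n46696 : Q := act 9 n42017
theorem D46696 : act 9 n42017 = n46696 := rfl
theorem F208610 : act 0 n46696 = n46696 := d8_1 D46696 (iv D46696) F175648
theorem F208611 : act 2 n46696 = n42607 := d23_1 D46696 (iv D42607) (iv F175649)
theorem F208612 : act 3 n46696 = n44564 := d29_1 D46696 (iv D44564) (iv F206394)
theorem F208613 : act 4 n46696 = n42177 := d34_1 D46696 (iv D42177) (iv F175650)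
theorem F208614 : act 5 n46696 = n42021 := d38_1 D46696 (iv D42021) (iv F175651)
theorem F208615 : act 6 n46696 = n44567 := d41_1 D46696 (iv D44567) (iv F206395)
theorem F208616 : act 7 n46696 = n42019 := d43_1 D46696 (iv D42019) (iv F175652)
theorem F208617 : act 8 n46696 = n42096 := d44_1 D46696 (iv D42096) (iv D28898) (iv F122476) D42017
def n46697 : Q := act 9 n42018
theorem D46697 : act 9 n42018 = n46697 := rfl
theorem F208618 : act 0 n46697 = n46697 := d8_1 D46697 (iv D46697) F175653
theorem F208619 : act 2 n46697 = n42723 := d23_1 D46697 (iv D42723) (iv F205488)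
theorem F208620 : act 3 n46697 = n42019 := d29_1 D46697 (iv D42019) D42018
theorem F208621 : act 4 n46697 = n42293 := d34_1 D46697 (iv D42293) (iv F205489)
theorem F208622 : act 5 n46697 = n42023 := d38_1 D46697 (iv D42023) (iv F175654)
theorem F208623 : act 6 n46697 = n42096 := d41_1 D46697 (iv D42096) (iv F205490)
theorem F208624 : act 7 n46697 = n44564 := d43_1 D46697 (iv D44564) (iv F205491)
theorem F208625 : act 8 n46697 = n44567 := d44_1 D46697 (iv D44567) (iv F205894) F175647 (iv F205492)
def n46698 : Q := act 1 n42022
theorem D46698 : act 1 n42022 = n46698 := rfl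
theorem F208626 : act 3 n46698 = n42613 := d10_2 (iv F175671) D46698 (iv D42613)
theorem F208627 : act 4 n46698 = n46698 := d11_2 F175672 D46698 (iv D46698)
theorem F208628 : act 5 n46698 = n42708 := d12_2 (iv F205833) D46698 F178427
theorem F208629 : act 6 n46698 = n42024 := d13_2 (iv F175673) D46698 (iv D42024)
theorem F208630 : act 7 n46698 = n45135 := d14_2 (iv F205834) D46698 F188247
theorem F208631 : act 8 n46698 = n42458 := d15_2 (iv F205835) D46698 F177479
def n46699 : Q := act 9 n42022
theorem D46699 : act 9 n42022 = n46699 := rfl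
theorem F208632 : act 0 n46699 = n46699 := d8_1 D46699 (iv D46699) F175670
theorem F208633 : act 2 n46699 = n42023 := d23_1 D46699 (iv D42023) D42022
theorem F208634 : act 3 n46699 = n42614 := d29_1 D46699 (iv D42614) (iv F175671)
theorem F208635 : act 4 n46699 = n46699 := d34_1 D46699 (iv D46699) F175672
theorem F208636 : act 5 n46699 = n42723 := d38_1 D46699 (iv D42723) (iv F205833)
theorem F208637 : act 6 n46699 = n42025 := d41_1 D46699 (iv D42025) (iv F175673)
theorem F208638 : act 7 n46699 = n44578 := d43_1 D46699 F206211 (iv F205834)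
theorem F208639 : act 8 n46699 = n44574 := d44_1 D46699 (iv D44574) (iv F206163) F177206 (iv F205835)
def n46700 : Q := act 0 n42024
theorem D46700 : act 0 n42024 = n46700 := rfl
theorem F208640 : act 1 n46700 = n46700 := d0_2 D42024 D46700 (iv D46700) (iv D42024) F122494
theorem F208641 : act 3 n46700 = n42616 := d2_2 (iv F175678) D46700 (iv D42616)
theorem F208642 : act 4 n46700 = n46700 := d3_2 F175679 D46700 (iv D46700)
theorem F208643 : act 5 n46700 = n42429 := d4_2 (iv F205827) D46700 F177368
theorem F208644 : act 7 n46700 = n42428 := d6_2 (iv F205828) D46700 F177363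
theorem F208645 : act 8 n46700 = n42427 := d7_2 (iv F205829) D46700 F177358
def n46701 : Q := act 9 n42024
theorem D46701 : act 9 n42024 = n46701 := rfl
theorem F208646 : act 1 n46701 = n42025 := d16_1 D46701 (iv D42025) D42024
theorem F208647 : act 3 n46701 = n42617 := d29_1 D46701 (iv D42617) (iv F175678)
theorem F208648 : act 4 n46701 = n46701 := d34_1 D46701 (iv D46701) F175679
theorem F208649 : act 5 n46701 = n42463 := d38_1 D46701 (iv D42463) (iv F205827)
theorem F208650 : act 7 n46701 = n42461 := d43_1 D46701 (iv D42461) (iv F205828)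
def n46702 : Q := act 8 n42025
theorem D46702 : act 8 n42025 = n46702 := rfl
theorem F208651 : act 0 n46702 = n46702 := d7_1 D46702 (iv D46702) F175681
theorem F208652 : act 2 n46702 = n42026 := d22_1 D46702 (iv D42026) (iv F175682)
theorem F208653 : act 4 n46702 = n46702 := d33_1 D46702 (iv D46702) F175684
theorem F208654 : act 5 n46702 = n42396 := d37_1 D46702 F177228 (iv F205836)
theorem F208655 : act 6 n46702 = n44574 := d40_1 D46702 (iv F208639) F208637
theorem F208656 : act 7 n46702 = n42394 := d42_1 D46702 F177219 (iv F205837)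
theorem F208657 : act 9 n46702 = n42392 := d44_2 D42025 D46702 (iv D42392) F123538 F205798
theorem F208658 : act 3 n45160 = n46702 := d29_3 F208657 F206195 D45160
def n46703 : Q := act 6 n42027
theorem D46703 : act 6 n42027 = n46703 := rfl
theorem F208659 : act 0 n46703 = n42620 := d5_1 D46703 (iv D42620) (iv F175690)
theorem F208660 : act 1 n46703 = n42037 := d13_1 D46703 (iv D42037) (iv F175691)
theorem F208661 : act 2 n46703 = n44146 := d20_1 D46703 F184385 F206050
theorem F208662 : act 3 n46703 = n42028 := d26_1 D46703 (iv D42028) D42027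
theorem F208663 : act 4 n46703 = n46703 := d31_1 D46703 (iv D46703) F175692
theorem F208664 : act 5 n46703 = n45230 := d35_1 D46703 (iv D45230) F131342 F197081 (iv F175693)
theorem F208665 : act 8 n46703 = n44557 := d40_2 (iv F205941) D46703 F185966
theorem F208666 : act 9 n46703 = n45108 := d41_2 (iv F197095) D46703 (iv D45108)
def n46704 : Q := act 5 n42028
theorem D46704 : act 5 n42028 = n46704 := rfl
theorem F208667 : act 0 n46704 = n42622 := d4_1 D46704 (iv D42622) (iv F175694)
theorem F208668 : act 1 n46704 = n42039 := d12_1 D46704 (iv D42039) (iv F175695)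
theorem F208669 : act 2 n46704 = n46704 := d19_1 D46704 (iv D46704) F175696
theorem F208670 : act 3 n46704 = n45230 := d25_1 D46704 (iv F208664) F208662
theorem F208671 : act 4 n46704 = n42192 := d30_1 D46704 (iv D42192) F122966 (iv F122516) (iv F175697)
theorem F208672 : act 6 n46704 = n44463 := d35_2 D42028 D46704 (iv D44463) (iv D30493) (iv F122511)
theorem F208673 : act 9 n46704 = n45374 := d38_2 (iv F206831) D46704 (iv F206418)
def n46705 : Q := act 7 n42028
theorem D46705 : act 7 n42028 = n46705 := rfl
theorem F208674 : act 0 n46705 = n42623 := d6_1 D46705 (iv D42623) (iv F175694)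
theorem F208675 : act 1 n46705 = n42040 := d14_1 D46705 (iv D42040) (iv F175695)
theorem F208676 : act 2 n46705 = n46705 := d21_1 D46705 (iv D46705) F175696
theorem F208677 : act 4 n46705 = n42030 := d32_1 D46705 (iv D42030) (iv F175697)
theorem F208678 : act 6 n46705 = n46381 := d39_1 D46705 F208278 (iv D46641) F175237 D42028
theorem F208679 : act 9 n46705 = n46528 := d43_2 (iv F206831) D46705 (iv D46528)
theorem F208680 : act 8 n46387 = n46705 := d40_0 F208678 F207015 (iv F207037)
def n46706 : Q := act 8 n42028
theorem D46706 : act 8 n42028 = n46706 := rfl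
theorem F208681 : act 0 n46706 = n42624 := d7_1 D46706 (iv D42624) (iv F175694)
theorem F208682 : act 1 n46706 = n42041 := d15_1 D46706 (iv D42041) (iv F175695)
theorem F208683 : act 2 n46706 = n46706 := d22_1 D46706 (iv D46706) F175696
theorem F208684 : act 4 n46706 = n42031 := d33_1 D46706 (iv D42031) (iv F175697)
theorem F208685 : act 6 n46706 = n42029 := d40_1 D46706 (iv D42029) D42028
theorem F208686 : act 7 n46706 = n46387 := d42_1 D46706 F208680 (iv D46705)
def n46707 : Q := act 3 n42029
theorem D46707 : act 3 n42029 = n46707 := rfl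
theorem F208687 : act 0 n46707 = n42625 := d2_1 D46707 (iv D42625) (iv F175698)
theorem F208688 : act 1 n46707 = n42042 := d10_1 D46707 (iv D42042) (iv F175699)
theorem F208689 : act 5 n46707 = n44466 := d25_2 (iv F175702) D46707 (iv D44466)
theorem F208690 : act 8 n46707 = n44531 := d28_2 D42029 D46707 F185881 (iv F205941) (iv D42027)
theorem F208691 : act 2 n45383 = n46707 := d22_3 F208690 F185880 (iv F189101)
def n46708 : Q := act 9 n42029
theorem D46708 : act 9 n42029 = n46708 := rfl
theorem F208692 : act 0 n46708 = n42626 := d8_1 D46708 (iv D42626) (iv F175698)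
theorem F208693 : act 1 n46708 = n42043 := d16_1 D46708 (iv D42043) (iv F175699)
theorem F208694 : act 2 n46708 = n46708 := d23_1 D46708 (iv D46708) F175700
theorem F208695 : act 4 n46708 = n42033 := d34_1 D46708 (iv D42033) (iv F175701)
theorem F208696 : act 5 n46708 = n44467 := d38_1 D46708 (iv D44467) (iv F175702)
theorem F208697 : act 8 n46708 = n44543 := d44_1 D46708 (iv D44543) F129502 F201900 D42029
def n46709 : Q := act 9 n42031
theorem D46709 : act 9 n42031 = n46709 := rfl
theorem F208698 : act 0 n46709 = n42629 := d8_1 D46709 (iv D42629) (iv F175708)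
theorem F208699 : act 1 n46709 = n42046 := d16_1 D46709 (iv D42046) (iv F175709)
theorem F208700 : act 2 n46709 = n46709 := d23_1 D46709 (iv D46709) F175710
theorem F208701 : act 3 n46709 = n46416 := d29_1 D46709 (iv D46416) F206373
theorem F208702 : act 5 n46709 = n42199 := d38_1 D46709 (iv D42199) (iv F175711)
theorem F208703 : act 6 n46709 = n42033 := d41_1 D46709 (iv D42033) (iv F175712)
theorem F208704 : act 7 n46709 = n46388 := d43_1 D46709 (iv D46388) (iv F206371)
theorem F208705 : act 8 n46709 = n44546 := d44_1 D46709 (iv D44546) F129513 F201994 D42031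
def n46710 : Q := act 4 n42032
theorem D46710 : act 4 n42032 = n46710 := rfl
theorem F208706 : act 0 n46710 = n42588 := d3_1 D46710 F178019 F202454
theorem F208707 : act 1 n46710 = n42047 := d11_1 D46710 (iv D42047) (iv F175714)
theorem F208708 : act 2 n46710 = n45159 := d18_1 D46710 F188337 F206282
theorem F208709 : act 5 n46710 = n42558 := d30_2 (iv F175715) D46710 (iv D42558) F124005 F202055
theorem F208710 : act 6 n46710 = n45437 := d31_2 (iv F206285) D46710 F189238
theorem F208711 : act 7 n46710 = n45143 := d32_2 (iv F206286) D46710 F188278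
theorem F208712 : act 8 n46710 = n46710 := d33_2 F175716 D46710 (iv D46710)
def n46711 : Q := act 9 n42032
theorem D46711 : act 9 n42032 = n46711 := rfl
theorem F208713 : act 0 n46711 = n42592 := d8_1 D46711 (iv D42592) F202454
theorem F208714 : act 1 n46711 = n42048 := d16_1 D46711 (iv D42048) (iv F175714)
theorem F208715 : act 2 n46711 = n46365 := d23_1 D46711 (iv D46365) F206282
theorem F208716 : act 3 n46711 = n42033 := d29_1 D46711 (iv D42033) D42032
theorem F208717 : act 5 n46711 = n42036 := d38_1 D46711 (iv D42036) (iv F175715)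
theorem F208718 : act 6 n46711 = n46416 := d41_1 D46711 (iv D46416) (iv F206285)
theorem F208719 : act 7 n46711 = n46353 := d43_1 D46711 (iv D46353) (iv F206286)
def n46712 : Q := act 9 n42034
theorem D46712 : act 9 n42034 = n46712 := rfl
theorem F208720 : act 0 n46712 = n42517 := d8_1 D46712 (iv D42517) F202453
theorem F208721 : act 1 n46712 = n46358 := d16_1 D46712 (iv D46358) F206333
theorem F208722 : act 2 n46712 = n42036 := d23_1 D46712 (iv D42036) D42034
theorem F208723 : act 3 n46712 = n46712 := d29_1 D46712 (iv D46712) F175722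
theorem F208724 : act 4 n46712 = n42496 := d34_1 D46712 (iv D42496) (iv F202159)
theorem F208725 : act 5 n46712 = n46365 := d38_1 D46712 (iv D46365) (iv F206284)
theorem F208726 : act 6 n46712 = n42204 := d41_1 D46712 (iv D42204) (iv F175723)
theorem F208727 : act 7 n46712 = n46361 := d43_1 D46712 (iv D46361) F206293
def n46713 : Q := act 8 n42036
theorem D46713 : act 8 n42036 = n46713 := rfl
theorem F208728 : act 0 n46713 = n42593 := d7_1 D46713 (iv D42593) F202446
theorem F208729 : act 1 n46713 = n42051 := d15_1 D46713 (iv D42051) (iv F175731)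
theorem F208730 : act 3 n46713 = n42082 := d28_1 D46713 (iv D42082) F122631 F201946 (iv F175732)
theorem F208731 : act 4 n46713 = n42562 := d33_1 D46713 (iv D42562) (iv F202160)
theorem F208732 : act 6 n46713 = n42207 := d40_1 D46713 (iv D42207) (iv F175733)
theorem F208733 : act 9 n46713 = n46713 := d44_2 D42036 D46713 (iv D46713) (iv D42036) F122524
def n46714 : Q := act 5 n42037
theorem D46714 : act 5 n42037 = n46714 := rfl
theorem F208734 : act 0 n46714 = n42060 := d4_1 D46714 (iv D42060) (iv F175734)
theorem F208735 : act 1 n46714 = n45230 := d12_1 D46714 (iv F208664) F208660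
theorem F208736 : act 2 n46714 = n44129 := d19_1 D46714 F184323 (iv F205942)
theorem F208737 : act 3 n46714 = n42039 := d25_1 D46714 (iv D42039) (iv F175735)
theorem F208738 : act 6 n46714 = n44417 := d35_2 D42037 D46714 F185511 F196659 (iv F122532)
theorem F208739 : act 8 n46714 = n44552 := d37_2 (iv F205943) D46714 F185951
theorem F208740 : act 9 n46714 = n44522 := d38_2 (iv F206415) D46714 F206412
theorem F208741 : act 4 n44725 = n46714 := d34_3 F208740 F185854 (iv F186682)
def n46715 : Q := act 7 n42037
theorem D46715 : act 7 n42037 = n46715 := rfl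
theorem F208742 : act 0 n46715 = n42061 := d6_1 D46715 (iv D42061) (iv F175734)
theorem F208743 : act 2 n46715 = n44131 := d21_1 D46715 F184330 (iv F205942)
theorem F208744 : act 3 n46715 = n42040 := d27_1 D46715 (iv D42040) (iv F175735)
theorem F208745 : act 4 n46715 = n46715 := d32_1 D46715 (iv D46715) F175736
theorem F208746 : act 6 n46715 = n46383 := d39_1 D46715 F208173 F208171 F175262 D42037
theorem F208747 : act 8 n46715 = n44555 := d42_2 (iv F205943) D46715 F185959
theorem F208748 : act 9 n46715 = n46537 := d43_2 (iv F206415) D46715 (iv D46537)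
def n46716 : Q := act 7 n42039
theorem D46716 : act 7 n42039 = n46716 := rfl
theorem F208749 : act 0 n46716 = n42065 := d6_1 D46716 (iv D42065) (iv F175740)
theorem F208750 : act 2 n46716 = n42052 := d21_1 D46716 (iv D42052) (iv F175741)
theorem F208751 : act 4 n46716 = n42213 := d32_1 D46716 (iv D42213) (iv F175742)
theorem F208752 : act 5 n46716 = n42040 := d36_1 D46716 (iv D42040) D42039
theorem F208753 : act 9 n46716 = n46538 := d43_2 (iv F206818) D46716 (iv D46538)
theorem F208754 : act 8 n46389 = n46716 := d37_0 F208752 (iv F206619) D46389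
def n46717 : Q := act 8 n42039
theorem D46717 : act 8 n42039 = n46717 := rfl
theorem F208755 : act 0 n46717 = n42066 := d7_1 D46717 (iv D42066) (iv F175740)
theorem F208756 : act 2 n46717 = n42053 := d22_1 D46717 (iv D42053) (iv F175741)
theorem F208757 : act 4 n46717 = n42214 := d33_1 D46717 (iv D42214) (iv F175742)
theorem F208758 : act 5 n46717 = n42041 := d37_1 D46717 (iv D42041) D42039
theorem F208759 : act 6 n46717 = n44485 := d40_1 D46717 (iv D44485) (iv F175743)
theorem F208760 : act 7 n46717 = n46389 := d42_1 D46717 F208754 (iv D46716)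
def n46718 : Q := act 3 n42041
theorem D46718 : act 3 n42041 = n46718 := rfl
theorem F208761 : act 0 n46718 = n42068 := d2_1 D46718 (iv D42068) (iv F175747)
theorem F208762 : act 2 n46718 = n44517 := d17_1 D46718 (iv D44517) (iv F202497) F205150 (iv F175748)
theorem F208763 : act 4 n46718 = n45395 := d24_2 (iv F175749) D46718 F189125 F131772 (iv F205075)
theorem F208764 : act 6 n46718 = n42042 := d26_2 (iv F175750) D46718 (iv D42042)
theorem F208765 : act 7 n46718 = n45399 := d27_2 (iv F206621) D46718 F189134
theorem F208766 : act 8 n46718 = n44528 := d28_2 D42041 D46718 F185872 (iv F205943) F175735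
def n46719 : Q := act 9 n42041
theorem D46719 : act 9 n42041 = n46719 := rfl
theorem F208767 : act 0 n46719 = n42069 := d8_1 D46719 (iv D42069) (iv F175747)
theorem F208768 : act 2 n46719 = n42056 := d23_1 D46719 (iv D42056) (iv F175748)
theorem F208769 : act 4 n46719 = n42046 := d34_1 D46719 (iv D42046) (iv F175749)
theorem F208770 : act 6 n46719 = n42043 := d41_1 D46719 (iv D42043) (iv F175750)
theorem F208771 : act 7 n46719 = n46390 := d43_1 D46719 (iv D46390) (iv F206621)
theorem F208772 : act 8 n46719 = n45420 := d44_1 D46719 (iv D45420) F131734 F202701 D42041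
def n46720 : Q := act 4 n42042
theorem D46720 : act 4 n42042 = n46720 := rfl
theorem F208773 : act 0 n46720 = n42071 := d3_1 D46720 (iv D42071) (iv F175751)
theorem F208774 : act 2 n46720 = n44520 := d18_1 D46720 (iv D44520) (iv F206561)
theorem F208775 : act 3 n46720 = n42047 := d24_1 D46720 (iv D42047) (iv D28863) (iv F122538) D42042
theorem F208776 : act 6 n46720 = n45395 := d31_2 F208764 D46720 (iv F208763)
theorem F208777 : act 7 n46720 = n45114 := d32_2 F208308 D46720 (iv F208305)
theorem F208778 : act 8 n46720 = n44532 := d33_2 (iv F206562) D46720 (iv D44532)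
def n46721 : Q := act 9 n42042
theorem D46721 : act 9 n42042 = n46721 := rfl
theorem F208779 : act 0 n46721 = n42072 := d8_1 D46721 (iv D42072) (iv F175751)
theorem F208780 : act 2 n46721 = n44521 := d23_1 D46721 (iv D44521) (iv F206561)
theorem F208781 : act 3 n46721 = n42043 := d29_1 D46721 (iv D42043) D42042
theorem F208782 : act 5 n46721 = n44491 := d38_1 D46721 (iv D44491) (iv F175752)
def n46722 : Q := act 5 n42047
theorem D46722 : act 5 n42047 = n46722 := rfl
theorem F208783 : act 0 n46722 = n42077 := d4_1 D46722 (iv D42077) (iv F175769)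
theorem F208784 : act 1 n46722 = n42558 := d12_1 D46722 (iv F208709) F208707
theorem F208785 : act 2 n46722 = n45136 := d19_1 D46722 F188252 (iv F205154)
theorem F208786 : act 4 n46722 = n42049 := d30_1 D46722 (iv D42049) (iv D28865) (iv F122549) D42047
theorem F208787 : act 7 n46722 = n45138 := d36_2 (iv F205156) D46722 F188259
theorem F208788 : act 8 n46722 = n46722 := d37_2 F175770 D46722 (iv D46722)
def n46723 : Q := act 9 n42047
theorem D46723 : act 9 n42047 = n46723 := rfl
theorem F208789 : act 0 n46723 = n42078 := d8_1 D46723 (iv D42078) (iv F175769)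
theorem F208790 : act 2 n46723 = n45142 := d23_1 D46723 (iv D45142) (iv F205154)
theorem F208791 : act 4 n46723 = n42048 := d34_1 D46723 (iv D42048) D42047
theorem F208792 : act 6 n46723 = n45438 := d41_1 D46723 (iv D45438) (iv F205155)
theorem F208793 : act 7 n46723 = n45144 := d43_1 D46723 (iv D45144) (iv F205156)
def n46724 : Q := act 8 n42048
theorem D46724 : act 8 n42048 = n46724 := rfl
theorem F208794 : act 0 n46724 = n42079 := d7_1 D46724 (iv D42079) (iv F175771)
theorem F208795 : act 2 n46724 = n46352 := d22_1 D46724 (iv D46352) F206433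
theorem F208796 : act 3 n46724 = n42706 := d28_1 D46724 (iv D42706) F124352 F202813 (iv F175772)
theorem F208797 : act 5 n46724 = n42051 := d37_1 D46724 (iv D42051) (iv F175773)
theorem F208798 : act 6 n46724 = n46417 := d40_1 D46724 (iv D46417) F206442
theorem F208799 : act 7 n46724 = n46354 := d42_1 D46724 (iv D46354) (iv F206441)
theorem F208800 : act 9 n46724 = n46724 := d44_2 D42048 D46724 (iv D46724) (iv D42048) F122550
def n46725 : Q := act 6 n42049
theorem D46725 : act 6 n42049 = n46725 := rfl
theorem F208801 : act 0 n46725 = n42080 := d5_1 D46725 (iv D42080) (iv F175774)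
theorem F208802 : act 1 n46725 = n42556 := d13_1 D46725 F177910 (iv F202167)
theorem F208803 : act 3 n46725 = n42542 := d26_1 D46725 F177857 (iv F202168)
theorem F208804 : act 5 n46725 = n42228 := d35_1 D46725 (iv D42228) (iv D28985) (iv F122556) D42049
theorem F208805 : act 8 n46725 = n46725 := d40_2 F175776 D46725 (iv D46725)
def n46726 : Q := act 9 n42049
theorem D46726 : act 9 n42049 = n46726 := rfl
theorem F208806 : act 0 n46726 = n42081 := d8_1 D46726 (iv D42081) (iv F175774)
theorem F208807 : act 1 n46726 = n42559 := d16_1 D46726 (iv D42559) (iv F202167)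
theorem F208808 : act 3 n46726 = n42544 := d29_1 D46726 (iv D42544) (iv F202168)
theorem F208809 : act 5 n46726 = n42050 := d38_1 D46726 (iv D42050) D42049
def n46727 : Q := act 8 n42050
theorem D46727 : act 8 n42050 = n46727 := rfl
theorem F208810 : act 0 n46727 = n42082 := d7_1 D46727 (iv D42082) (iv F175777)
theorem F208811 : act 1 n46727 = n42562 := d15_1 D46727 (iv D42562) (iv F202164)
theorem F208812 : act 3 n46727 = n42593 := d28_1 D46727 (iv D42593) F202447 (iv F123981) (iv F202165)
theorem F208813 : act 4 n46727 = n42051 := d33_1 D46727 (iv D42051) (iv F175779)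
theorem F208814 : act 6 n46727 = n42230 := d40_1 D46727 (iv D42230) (iv F175780)
theorem F208815 : act 9 n46727 = n46727 := d44_2 D42050 D46727 (iv D46727) (iv D42050) F122557
def n46728 : Q := act 6 n42052
theorem D46728 : act 6 n42052 = n46728 := rfl
theorem F208816 : act 0 n46728 = n42083 := d5_1 D46728 (iv D42083) (iv F175784)
theorem F208817 : act 1 n46728 = n46728 := d13_1 D46728 (iv D46728) F175785
theorem F208818 : act 3 n46728 = n46565 := d26_1 D46728 (iv D46565) F206544
theorem F208819 : act 4 n46728 = n42231 := d31_1 D46728 (iv D42231) (iv F175786)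
theorem F208820 : act 5 n46728 = n46386 := d35_1 D46728 (iv D46386) (iv D32017) F205336 (iv F175787)
theorem F208821 : act 7 n46728 = n44502 := d39_2 D42052 D46728 (iv D44502) (iv D30517) (iv F122564)
theorem F208822 : act 8 n46728 = n46391 := d40_2 (iv F206543) D46728 (iv D46391)
theorem F208823 : act 9 n46728 = n46567 := d41_2 (iv F206740) D46728 F207754
def n46729 : Q := act 9 n42053
theorem D46729 : act 9 n42053 = n46729 := rfl
theorem F208824 : act 0 n46729 = n42086 := d8_1 D46729 (iv D42086) (iv F175788)
theorem F208825 : act 1 n46729 = n46729 := d16_1 D46729 (iv D46729) F175789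
theorem F208826 : act 3 n46729 = n46406 := d29_1 D46729 (iv D46406) (iv F206538)
theorem F208827 : act 4 n46729 = n42234 := d34_1 D46729 (iv D42234) (iv F175790)
theorem F208828 : act 5 n46729 = n42056 := d38_1 D46729 (iv D42056) (iv F175791)
theorem F208829 : act 6 n46729 = n44505 := d41_1 D46729 (iv D44505) (iv F175792)
theorem F208830 : act 7 n46729 = n46392 := d43_1 D46729 (iv D46392) F206540
theorem F208831 : act 8 n46729 = n46408 := d44_1 D46729 (iv D46408) F135234 F203442 D42053
def n46730 : Q := act 8 n42058
theorem D46730 : act 8 n42058 = n46730 := rfl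
theorem F208832 : act 0 n46730 = n42093 := d7_1 D46730 (iv D42093) (iv F175806)
theorem F208833 : act 1 n46730 = n46730 := d15_1 D46730 (iv D46730) F175807
theorem F208834 : act 2 n46730 = n44416 := d22_1 D46730 F185507 (iv F205345)
theorem F208835 : act 3 n46730 = n46405 := d28_1 D46730 (iv D46405) F135214 F203542 (iv F175808)
theorem F208836 : act 4 n46730 = n44275 := d33_1 D46730 (iv F206612) (iv F205346)
theorem F208837 : act 5 n46730 = n44512 := d37_1 D46730 (iv D44512) (iv F175809)
theorem F208838 : act 6 n46730 = n44507 := d40_1 D46730 (iv F206575) F206568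
theorem F208839 : act 7 n46730 = n44272 := d42_1 D46730 F206567 (iv F206566)
theorem F208840 : act 9 n46730 = n44038 := d44_2 D42058 D46730 (iv D44038) F128191 F205344
def n46731 : Q := act 7 n42060
theorem D46731 : act 7 n42060 = n46731 := rfl
theorem F208841 : act 1 n46731 = n42673 := d14_1 D46731 (iv D42673) (iv F175814)
theorem F208842 : act 2 n46731 = n46567 := d21_1 D46731 (iv D46567) F206555
theorem F208843 : act 3 n46731 = n42065 := d27_1 D46731 (iv D42065) (iv F175815)
theorem F208844 : act 4 n46731 = n46553 := d32_1 D46731 (iv D46553) (iv F206556)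
theorem F208845 : act 5 n46731 = n42061 := d36_1 D46731 (iv D42061) D42060
theorem F208846 : act 6 n46731 = n46538 := d39_1 D46731 (iv D46538) (iv D34384) F202505 (iv F175816)
def n46732 : Q := act 8 n42060
theorem D46732 : act 8 n42060 = n46732 := rfl
theorem F208847 : act 0 n46732 = n44552 := d7_1 D46732 (iv F208739) F208734
theorem F208848 : act 1 n46732 = n42674 := d15_1 D46732 (iv D42674) (iv F175814)
theorem F208849 : act 2 n46732 = n44504 := d22_1 D46732 F206533 F206555
theorem F208850 : act 4 n46732 = n45846 := d33_1 D46732 F190657 (iv F206556)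
theorem F208851 : act 5 n46732 = n42062 := d37_1 D46732 (iv D42062) D42060
theorem F208852 : act 6 n46732 = n44515 := d40_1 D46732 (iv D44515) (iv F175816)
def n46733 : Q := act 8 n42061
theorem D46733 : act 8 n42061 = n46733 := rfl
theorem F208853 : act 0 n46733 = n44555 := d7_1 D46733 (iv F208747) F208742
theorem F208854 : act 1 n46733 = n42675 := d15_1 D46733 (iv D42675) (iv F175817)
theorem F208855 : act 2 n46733 = n44506 := d22_1 D46733 (iv F208139) F208134
theorem F208856 : act 4 n46733 = n46733 := d33_1 D46733 (iv D46733) F175819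
theorem F208857 : act 7 n46733 = n42062 := d42_1 D46733 (iv D42062) D42061
def n46734 : Q := act 3 n42062
theorem D46734 : act 3 n42062 = n46734 := rfl
theorem F208858 : act 0 n46734 = n44528 := d2_1 D46734 F185872 (iv F205603)
theorem F208859 : act 1 n46734 = n42676 := d10_1 D46734 (iv D42676) (iv F175820)
theorem F208860 : act 2 n46734 = n44487 := d17_1 D46734 (iv D44487) F129377 D30520 (iv F205604)
theorem F208861 : act 6 n46734 = n42063 := d26_2 (iv F175822) D46734 (iv D42063)
theorem F208862 : act 8 n46734 = n42068 := d28_2 D42062 D46734 (iv D42068) (iv D28878) (iv F122588)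
def n46735 : Q := act 9 n42062
theorem D46735 : act 9 n42062 = n46735 := rfl
theorem F208863 : act 0 n46735 = n44558 := d8_1 D46735 (iv D44558) (iv F205603)
theorem F208864 : act 1 n46735 = n42677 := d16_1 D46735 (iv D42677) (iv F175820)
theorem F208865 : act 2 n46735 = n44509 := d23_1 D46735 (iv D44509) (iv F205604)
theorem F208866 : act 4 n46735 = n46735 := d34_1 D46735 (iv D46735) F175821
theorem F208867 : act 6 n46735 = n42064 := d41_1 D46735 (iv D42064) (iv F175822)
def n46736 : Q := act 4 n42063
theorem D46736 : act 4 n42063 = n46736 := rfl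
theorem F208868 : act 0 n46736 = n44532 := d3_1 D46736 (iv D44532) (iv F205601)
theorem F208869 : act 1 n46736 = n42679 := d11_1 D46736 (iv D42679) (iv F175823)
theorem F208870 : act 2 n46736 = n44490 := d18_1 D46736 (iv D44490) (iv F205602)
theorem F208871 : act 3 n46736 = n46736 := d24_1 D46736 (iv D46736) (iv D42063) F122591 D42063
theorem F208872 : act 8 n46736 = n42071 := d33_2 (iv F175825) D46736 (iv D42071)
def n46737 : Q := act 9 n42063
theorem D46737 : act 9 n42063 = n46737 := rfl
theorem F208873 : act 0 n46737 = n44533 := d8_1 D46737 (iv D44533) (iv F205601)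
theorem F208874 : act 1 n46737 = n42680 := d16_1 D46737 (iv D42680) (iv F175823)
theorem F208875 : act 2 n46737 = n44491 := d23_1 D46737 (iv D44491) (iv F205602)
theorem F208876 : act 3 n46737 = n42064 := d29_1 D46737 (iv D42064) D42063
theorem F208877 : act 5 n46737 = n44521 := d38_1 D46737 (iv D44521) (iv F175824)
def n46738 : Q := act 6 n42065
theorem D46738 : act 6 n42065 = n46738 := rfl
theorem F208878 : act 1 n46738 = n42681 := d13_1 D46738 (iv D42681) (iv F175829)
theorem F208879 : act 2 n46738 = n42083 := d20_1 D46738 (iv D42083) (iv F175830)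
theorem F208880 : act 3 n46738 = n46538 := d26_1 D46738 (iv F208846) F208843
theorem F208881 : act 4 n46738 = n42251 := d31_1 D46738 (iv D42251) (iv F175831)
theorem F208882 : act 5 n46738 = n46537 := d35_1 D46738 (iv F208128) F208127 F175341 (iv F175832)
theorem F208883 : act 7 n46738 = n44522 := d39_2 D42065 D46738 (iv D44522) (iv D30530) (iv F122596)
def n46739 : Q := act 8 n42065
theorem D46739 : act 8 n42065 = n46739 := rfl
theorem F208884 : act 0 n46739 = n46389 := d7_1 D46739 F208754 F208749
theorem F208885 : act 1 n46739 = n42682 := d15_1 D46739 (iv D42682) (iv F175829)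
theorem F208886 : act 2 n46739 = n42084 := d22_1 D46739 (iv D42084) (iv F175830)
theorem F208887 : act 4 n46739 = n42252 := d33_1 D46739 (iv D42252) (iv F175831)
theorem F208888 : act 5 n46739 = n42067 := d37_1 D46739 (iv D42067) (iv F175832)
theorem F208889 : act 7 n46739 = n42066 := d42_1 D46739 (iv D42066) D42065
def n46740 : Q := act 3 n42066
theorem D46740 : act 3 n42066 = n46740 := rfl
theorem F208890 : act 1 n46740 = n42683 := d10_1 D46740 (iv D42683) (iv F175833)
theorem F208891 : act 5 n46740 = n42068 := d25_2 (iv F175836) D46740 (iv D42068)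
theorem F208892 : act 6 n46740 = n44524 := d26_2 (iv F175837) D46740 (iv D44524)
def n46741 : Q := act 9 n42066
theorem D46741 : act 9 n42066 = n46741 := rfl
theorem F208893 : act 1 n46741 = n42684 := d16_1 D46741 (iv D42684) (iv F175833)
theorem F208894 : act 2 n46741 = n42086 := d23_1 D46741 (iv D42086) (iv F175834)
theorem F208895 : act 4 n46741 = n42254 := d34_1 D46741 (iv D42254) (iv F175835)
theorem F208896 : act 5 n46741 = n42069 := d38_1 D46741 (iv D42069) (iv F175836)
theorem F208897 : act 6 n46741 = n44525 := d41_1 D46741 (iv D44525) (iv F175837)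
def n46742 : Q := act 3 n42067
theorem D46742 : act 3 n42067 = n46742 := rfl
theorem F208898 : act 0 n46742 = n45399 := d2_1 D46742 F189134 (iv F206620)
theorem F208899 : act 1 n46742 = n42685 := d10_1 D46742 (iv D42685) (iv F175838)
theorem F208900 : act 2 n46742 = n44420 := d17_1 D46742 (iv D44420) F129231 F205280 (iv F175839)
theorem F208901 : act 4 n46742 = n45337 := d24_2 (iv F175840) D46742 F188942 F131648 (iv F205194)
theorem F208902 : act 6 n46742 = n44422 := d26_2 (iv F205279) D46742 F185528
theorem F208903 : act 7 n46742 = n42068 := d27_2 (iv F175841) D46742 (iv D42068)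
def n46743 : Q := act 9 n42067
theorem D46743 : act 9 n42067 = n46743 := rfl
theorem F208904 : act 0 n46743 = n46390 := d8_1 D46743 (iv D46390) (iv F206620)
theorem F208905 : act 1 n46743 = n42686 := d16_1 D46743 (iv D42686) (iv F175838)
theorem F208906 : act 2 n46743 = n42088 := d23_1 D46743 (iv D42088) (iv F175839)
theorem F208907 : act 4 n46743 = n42074 := d34_1 D46743 (iv D42074) (iv F175840)
theorem F208908 : act 6 n46743 = n44444 := d41_1 D46743 (iv D44444) (iv F205279)
theorem F208909 : act 7 n46743 = n42069 := d43_1 D46743 (iv D42069) (iv F175841)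
def n46744 : Q := act 2 n42068
theorem D46744 : act 2 n42068 = n46744 := rfl
theorem F208910 : act 0 n46744 = n44517 := d1_1 D46744 (iv F208762) F208761
theorem F208911 : act 3 n46744 = n42089 := d17_2 D42068 D46744 (iv D42089) (iv D28892) (iv F122601)
theorem F208912 : act 6 n46744 = n42070 := d20_2 (iv F175843) D46744 (iv D42070)
theorem F208913 : act 7 n46744 = n44420 := d21_2 F208903 D46744 (iv F208900)
theorem F208914 : act 8 n46744 = n44487 := d22_2 F208862 D46744 (iv F208860)
theorem F208915 : act 1 n45234 = n46744 := d14_3 F208913 F185521 (iv F188613)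
theorem F208916 : act 4 n45335 = n46744 := d32_3 F208913 F202622 (iv F188936)
def n46745 : Q := act 4 n42068
theorem D46745 : act 4 n42068 = n46745 := rfl
theorem F208917 : act 0 n46745 = n45395 := d3_1 D46745 (iv F208763) F208761
theorem F208918 : act 1 n46745 = n42688 := d11_1 D46745 (iv D42688) (iv F175842)
theorem F208919 : act 2 n46745 = n45335 := d18_1 D46745 F208916 (iv D46744)
theorem F208920 : act 3 n46745 = n42075 := d24_1 D46745 (iv D42075) (iv D28882) (iv F122602) D42068
theorem F208921 : act 6 n46745 = n42071 := d31_2 (iv F175843) D46745 (iv D42071)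
theorem F208922 : act 7 n46745 = n45337 := d32_2 F208903 D46745 (iv F208901)
def n46746 : Q := act 9 n42068
theorem D46746 : act 9 n42068 = n46746 := rfl
theorem F208923 : act 1 n46746 = n42689 := d16_1 D46746 (iv D42689) (iv F175842)
theorem F208924 : act 3 n46746 = n42069 := d29_1 D46746 (iv D42069) D42068
theorem F208925 : act 6 n46746 = n42072 := d41_1 D46746 (iv D42072) (iv F175843)
def n46747 : Q := act 1 n42070
theorem D46747 : act 1 n42070 = n46747 := rfl
theorem F208926 : act 0 n46747 = n45228 := d0_1 D46747 F202599 F131551 (iv F129454) (iv F205563)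
theorem F208927 : act 2 n46747 = n42690 := d9_2 D42070 D46747 (iv D42690) (iv D29294) (iv F122604)
theorem F208928 : act 3 n46747 = n42091 := d10_2 (iv F175848) D46747 (iv D42091)
theorem F208929 : act 5 n46747 = n44531 := d12_2 (iv F175849) D46747 (iv D44531)
theorem F208930 : act 6 n46747 = n45234 := d13_2 F208912 D46747 F208915
theorem F208931 : act 7 n46747 = n45006 := d14_2 F208380 D46747 F208382
theorem F208932 : act 8 n46747 = n44466 := d15_2 (iv F205564) D46747 F185660
theorem F208933 : act 4 n45190 = n46747 := d33_3 F208932 F202120 (iv F188454)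
def n46748 : Q := act 4 n42070
theorem D46748 : act 4 n42070 = n46748 := rfl
theorem F208934 : act 0 n46748 = n44520 := d3_1 D46748 (iv D44520) (iv F205563)
theorem F208935 : act 1 n46748 = n45190 := d11_1 D46748 F208933 (iv D46747)
theorem F208936 : act 2 n46748 = n42071 := d18_1 D46748 (iv D42071) D42070
theorem F208937 : act 3 n46748 = n45072 := d24_1 D46748 F188024 F201412 (iv F205415) (iv F175848)
theorem F208938 : act 6 n46748 = n45335 := d31_2 F208912 D46748 F208916
theorem F208939 : act 7 n46748 = n45073 := d32_2 F208380 D46748 F208383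
theorem F208940 : act 8 n46748 = n44490 := d33_2 (iv F205564) D46748 (iv D44490)
def n46749 : Q := act 9 n42070
theorem D46749 : act 9 n42070 = n46749 := rfl
theorem F208941 : act 0 n46749 = n44521 := d8_1 D46749 (iv D44521) (iv F205563)
theorem F208942 : act 2 n46749 = n42072 := d23_1 D46749 (iv D42072) D42070
theorem F208943 : act 3 n46749 = n42092 := d29_1 D46749 (iv D42092) (iv F175848)
theorem F208944 : act 5 n46749 = n44533 := d38_1 D46749 (iv D44533) (iv F175849)
def n46750 : Q := act 5 n42071
theorem D46750 : act 5 n42071 = n46750 := rfl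
theorem F208945 : act 1 n46750 = n42693 := d12_1 D46750 (iv D42693) (iv F175850)
theorem F208946 : act 3 n46750 = n42077 := d25_1 D46750 (iv D42077) (iv F175851)
theorem F208947 : act 4 n46750 = n44534 := d30_1 D46750 (iv D44534) (iv D30536) (iv F122605) D42071
def n46751 : Q := act 9 n42071
theorem D46751 : act 9 n42071 = n46751 := rfl
theorem F208948 : act 1 n46751 = n42694 := d16_1 D46751 (iv D42694) (iv F175850)
theorem F208949 : act 3 n46751 = n42078 := d29_1 D46751 (iv D42078) (iv F175851)
theorem F208950 : act 4 n46751 = n42072 := d34_1 D46751 (iv D42072) D42071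
def n46752 : Q := act 8 n42072
theorem D46752 : act 8 n42072 = n46752 := rfl
theorem F208951 : act 1 n46752 = n42695 := d15_1 D46752 (iv D42695) (iv F175852)
theorem F208952 : act 5 n46752 = n44536 := d37_1 D46752 (iv D44536) (iv F175854)
def n46753 : Q := act 5 n42075
theorem D46753 : act 5 n42075 = n46753 := rfl
theorem F208953 : act 0 n46753 = n45429 := d4_1 D46753 F189210 (iv F205124)
theorem F208954 : act 1 n46753 = n42698 := d12_1 D46753 (iv D42698) (iv F175863)
theorem F208955 : act 2 n46753 = n45359 := d19_1 D46753 F189018 (iv F205125)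
theorem F208956 : act 4 n46753 = n42268 := d30_1 D46753 (iv D42268) (iv D29011) (iv F122615) D42075
theorem F208957 : act 7 n46753 = n45361 := d36_2 (iv F205126) D46753 F189027
theorem F208958 : act 8 n46753 = n46753 := d37_2 F175865 D46753 (iv D46753)
def n46754 : Q := act 9 n42075
theorem D46754 : act 9 n42075 = n46754 := rfl
theorem F208959 : act 0 n46754 = n45438 := d8_1 D46754 (iv D45438) (iv F205124)
theorem F208960 : act 1 n46754 = n42699 := d16_1 D46754 (iv D42699) (iv F175863)
theorem F208961 : act 2 n46754 = n45365 := d23_1 D46754 (iv D45365) (iv F205125)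
theorem F208962 : act 4 n46754 = n42076 := d34_1 D46754 (iv D42076) D42075
theorem F208963 : act 6 n46754 = n42078 := d41_1 D46754 (iv D42078) (iv F175864)
theorem F208964 : act 7 n46754 = n45367 := d43_1 D46754 (iv D45367) (iv F205126)
def n46755 : Q := act 8 n42076
theorem D46755 : act 8 n42076 = n46755 := rfl
theorem F208965 : act 0 n46755 = n46417 := d7_1 D46755 (iv D46417) (iv F206443)
theorem F208966 : act 1 n46755 = n42700 := d15_1 D46755 (iv D42700) (iv F175866)
theorem F208967 : act 2 n46755 = n46376 := d22_1 D46755 (iv D46376) (iv F206475)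
theorem F208968 : act 5 n46755 = n42270 := d37_1 D46755 (iv D42270) (iv F175868)
theorem F208969 : act 6 n46755 = n42079 := d40_1 D46755 (iv D42079) (iv F175869)
theorem F208970 : act 7 n46755 = n46377 := d42_1 D46755 (iv D46377) F206474
theorem F208971 : act 9 n46755 = n46755 := d44_2 D42076 D46755 (iv D46755) (iv D42076) F122617
def n46756 : Q := act 6 n42077
theorem D46756 : act 6 n42077 = n46756 := rfl
theorem F208972 : act 1 n46756 = n42701 := d13_1 D46756 (iv D42701) (iv F175870)
theorem F208973 : act 4 n46756 = n42080 := d31_1 D46756 (iv D42080) (iv F175871)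
theorem F208974 : act 8 n46756 = n46756 := d40_2 F175872 D46756 (iv D46756)
def n46757 : Q := act 9 n42077
theorem D46757 : act 9 n42077 = n46757 := rfl
theorem F208975 : act 1 n46757 = n42702 := d16_1 D46757 (iv D42702) (iv F175870)
theorem F208976 : act 4 n46757 = n42081 := d34_1 D46757 (iv D42081) (iv F175871)
theorem F208977 : act 5 n46757 = n42078 := d38_1 D46757 (iv D42078) D42077
def n46758 : Q := act 8 n42078
theorem D46758 : act 8 n42078 = n46758 := rfl
theorem F208978 : act 1 n46758 = n42703 := d15_1 D46758 (iv D42703) (iv F175873)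
theorem F208979 : act 4 n46758 = n42079 := d33_1 D46758 (iv D42079) (iv F175874)
theorem F208980 : act 9 n46758 = n46758 := d44_2 D42078 D46758 (iv D46758) (iv D42078) F122623
def n46759 : Q := act 7 n42080
theorem D46759 : act 7 n42080 = n46759 := rfl
theorem F208981 : act 1 n46759 = n42704 := d14_1 D46759 (iv D42704) (iv F175878)
theorem F208982 : act 3 n46759 = n44545 := d27_1 D46759 (iv D44545) (iv F175879)
theorem F208983 : act 5 n46759 = n42274 := d36_1 D46759 (iv D42274) (iv F175880)
theorem F208984 : act 8 n46759 = n46759 := d42_2 F175881 D46759 (iv D46759)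
def n46760 : Q := act 9 n42080
theorem D46760 : act 9 n42080 = n46760 := rfl
theorem F208985 : act 1 n46760 = n42705 := d16_1 D46760 (iv D42705) (iv F175878)
theorem F208986 : act 3 n46760 = n44546 := d29_1 D46760 (iv D44546) (iv F175879)
theorem F208987 : act 5 n46760 = n42275 := d38_1 D46760 (iv D42275) (iv F175880)
theorem F208988 : act 6 n46760 = n42081 := d41_1 D46760 (iv D42081) D42080
def n46761 : Q := act 8 n42081
theorem D46761 : act 8 n42081 = n46761 := rfl
theorem F208989 : act 1 n46761 = n42706 := d15_1 D46761 (iv D42706) (iv F175882)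
theorem F208990 : act 5 n46761 = n42082 := d37_1 D46761 (iv D42082) (iv F175884)
theorem F208991 : act 9 n46761 = n46761 := d44_2 D42081 D46761 (iv D46761) (iv D42081) F122629
def n46762 : Q := act 9 n42084
theorem D46762 : act 9 n42084 = n46762 := rfl
theorem F208992 : act 0 n46762 = n46392 := d8_1 D46762 (iv D46392) (iv F206541)
theorem F208993 : act 1 n46762 = n42096 := d16_1 D46762 (iv D42096) (iv F175892)
theorem F208994 : act 3 n46762 = n44438 := d29_1 D46762 (iv D44438) (iv F205282)
theorem F208995 : act 4 n46762 = n42280 := d34_1 D46762 (iv D42280) (iv F175893)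
theorem F208996 : act 5 n46762 = n42088 := d38_1 D46762 (iv D42088) (iv F175894)
theorem F208997 : act 7 n46762 = n42086 := d43_1 D46762 (iv D42086) (iv F175895)
def n46763 : Q := act 2 n42085
theorem D46763 : act 2 n42085 = n46763 := rfl
theorem F208998 : act 0 n46763 = n44515 := d1_1 D46763 F202507 (iv F206537)
theorem F208999 : act 1 n46763 = n45231 := d9_1 D46763 F188604 F131395 F205529 (iv F175896)
theorem F209000 : act 4 n46763 = n44726 := d18_2 (iv F205307) D46763 F186684
theorem F209001 : act 5 n46763 = n42089 := d19_2 (iv F175897) D46763 (iv D42089)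
theorem F209002 : act 6 n46763 = n44552 := d20_2 (iv F175898) D46763 (iv D44552)
theorem F209003 : act 7 n46763 = n44418 := d21_2 (iv F205308) D46763 F185514
theorem F209004 : act 8 n46763 = n44417 := d22_2 (iv F205309) D46763 F185509
def n46764 : Q := act 9 n42085
theorem D46764 : act 9 n42085 = n46764 := rfl
theorem F209005 : act 0 n46764 = n46406 := d8_1 D46764 (iv D46406) (iv F206537)
theorem F209006 : act 1 n46764 = n42099 := d16_1 D46764 (iv D42099) (iv F175896)
theorem F209007 : act 3 n46764 = n42086 := d29_1 D46764 (iv D42086) D42085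
theorem F209008 : act 4 n46764 = n44754 := d34_1 D46764 (iv D44754) (iv F205307)
theorem F209009 : act 5 n46764 = n42090 := d38_1 D46764 (iv D42090) (iv F175897)
theorem F209010 : act 6 n46764 = n44554 := d41_1 D46764 (iv D44554) (iv F175898)
theorem F209011 : act 7 n46764 = n44438 := d43_1 D46764 (iv D44438) (iv F205308)
theorem F209012 : act 8 n46764 = n44551 := d44_1 D46764 (iv D44551) (iv D30549) (iv F129269) (iv F205309)
def n46765 : Q := act 9 n42089
theorem D46765 : act 9 n42089 = n46765 := rfl
theorem F209013 : act 0 n46765 = n44518 := d8_1 D46765 (iv D44518) (iv F205302)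
theorem F209014 : act 1 n46765 = n45235 := d16_1 D46765 (iv D45235) (iv F205303)
theorem F209015 : act 2 n46765 = n42090 := d23_1 D46765 (iv D42090) D42089
theorem F209016 : act 4 n46765 = n44426 := d34_1 D46765 (iv D44426) (iv F205304)
theorem F209017 : act 6 n46765 = n42092 := d41_1 D46765 (iv D42092) (iv F175908)
theorem F209018 : act 7 n46765 = n44421 := d43_1 D46765 (iv D44421) (iv F205305)
theorem F209019 : act 8 n46765 = n44527 := d44_1 D46765 (iv D44527) (iv D30532) (iv F129229) (iv F205306)
def n46766 : Q := act 9 n42091
theorem D46766 : act 9 n42091 = n46766 := rfl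
theorem F209020 : act 0 n46766 = n45296 := d8_1 D46766 (iv D45296) (iv F205558)
theorem F209021 : act 1 n46766 = n42092 := d16_1 D46766 (iv D42092) D42091
theorem F209022 : act 2 n46766 = n42106 := d23_1 D46766 (iv D42106) (iv F175912)
theorem F209023 : act 4 n46766 = n45012 := d34_1 D46766 (iv D45012) (iv F205559)
theorem F209024 : act 5 n46766 = n44561 := d38_1 D46766 (iv D44561) (iv F175913)
theorem F209025 : act 6 n46766 = n45235 := d41_1 D46766 (iv D45235) (iv F205560)
theorem F209026 : act 7 n46766 = n45007 := d43_1 D46766 (iv D45007) (iv F205561)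
theorem F209027 : act 8 n46766 = n45113 := d44_1 D46766 (iv D45113) (iv D30926) F197100 (iv F205562)
def n46767 : Q := act 9 n42105
theorem D46767 : act 9 n42105 = n46767 := rfl
theorem F209028 : act 0 n46767 = n42106 := d8_1 D46767 (iv D42106) D42105
theorem F209029 : act 1 n46767 = n46767 := d16_1 D46767 (iv D46767) F175956
theorem F209030 : act 2 n46767 = n45296 := d23_1 D46767 (iv D45296) (iv F205905)
theorem F209031 : act 3 n46767 = n42738 := d29_1 D46767 (iv D42738) (iv F175957)
theorem F209032 : act 4 n46767 = n44997 := d34_1 D46767 (iv D44997) (iv F205906)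
theorem F209033 : act 5 n46767 = n44579 := d38_1 D46767 (iv D44579) (iv F175958)
theorem F209034 : act 6 n46767 = n45215 := d41_1 D46767 (iv D45215) (iv F205907)
theorem F209035 : act 7 n46767 = n44994 := d43_1 D46767 (iv D44994) (iv F205908)
theorem F209036 : act 8 n46767 = n45093 := d44_1 D46767 (iv D45093) (iv D30913) (iv F130728) (iv F205909)
def n46768 : Q := act 4 n42141
theorem D46768 : act 4 n42141 = n46768 := rfl
theorem F209037 : act 0 n46768 = n44869 := d3_1 D46768 F206411 F206423
theorem F209038 : act 1 n46768 = n42875 := d11_1 D46768 (iv D42875) (iv F176126)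
theorem F209039 : act 2 n46768 = n46768 := d18_1 D46768 (iv D46768) F176127
theorem F209040 : act 3 n46768 = n44826 := d24_1 D46768 F208440 F208437 F175561 (iv F176128)
theorem F209041 : act 5 n46768 = n46768 := d30_2 D42141 D46768 (iv D46768) (iv D42141) F122804
theorem F209042 : act 6 n46768 = n44716 := d31_2 (iv F176129) D46768 (iv D44716)
theorem F209043 : act 9 n46768 = n42242 := d34_2 (iv F176130) D46768 (iv D42242)
def n46769 : Q := act 7 n42141
theorem D46769 : act 7 n42141 = n46769 := rfl
theorem F209044 : act 0 n46769 = n46552 := d6_1 D46769 (iv D46552) F206423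
theorem F209045 : act 1 n46769 = n42876 := d14_1 D46769 (iv D42876) (iv F176126)
theorem F209046 : act 2 n46769 = n46769 := d21_1 D46769 (iv D46769) F176127
theorem F209047 : act 3 n46769 = n42146 := d27_1 D46769 (iv D42146) (iv F176128)
theorem F209048 : act 5 n46769 = n42142 := d36_1 D46769 (iv D42142) D42141
theorem F209049 : act 9 n46769 = n42243 := d43_2 (iv F176130) D46769 (iv D42243)
def n46770 : Q := act 8 n42141
theorem D46770 : act 8 n42141 = n46770 := rfl
theorem F209050 : act 0 n46770 = n46548 := d7_1 D46770 F207687 F206423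
theorem F209051 : act 1 n46770 = n42877 := d15_1 D46770 (iv D42877) (iv F176126)
theorem F209052 : act 2 n46770 = n46770 := d22_1 D46770 (iv D46770) F176127
theorem F209053 : act 5 n46770 = n42143 := d37_1 D46770 (iv D42143) D42141
theorem F209054 : act 6 n46770 = n44718 := d40_1 D46770 (iv D44718) (iv F176129)
def n46771 : Q := act 8 n42142
theorem D46771 : act 8 n42142 = n46771 := rfl
theorem F209055 : act 0 n46771 = n46550 := d7_1 D46771 F207693 F206800
theorem F209056 : act 1 n46771 = n42878 := d15_1 D46771 (iv D42878) (iv F176131)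
theorem F209057 : act 2 n46771 = n46771 := d22_1 D46771 (iv D46771) F176132
theorem F209058 : act 4 n46771 = n46771 := d33_1 D46771 (iv D46771) F176134
theorem F209059 : act 6 n46771 = n46771 := d40_1 D46771 (iv D46771) F176135
theorem F209060 : act 7 n46771 = n42143 := d42_1 D46771 (iv D42143) D42142
def n46772 : Q := act 3 n42143
theorem D46772 : act 3 n42143 = n46772 := rfl
theorem F209061 : act 0 n46772 = n45804 := d2_1 D46772 F190551 (iv F206804)
theorem F209062 : act 1 n46772 = n42879 := d10_1 D46772 (iv D42879) (iv F176137)
theorem F209063 : act 6 n46772 = n42144 := d26_2 (iv F176140) D46772 (iv D42144)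
theorem F209064 : act 8 n46772 = n42149 := d28_2 D42143 D46772 (iv D42149) (iv D28933) (iv F122803)
def n46773 : Q := act 9 n42143
theorem D46773 : act 9 n42143 = n46773 := rfl
theorem F209065 : act 0 n46773 = n46551 := d8_1 D46773 (iv D46551) (iv F206804)
theorem F209066 : act 1 n46773 = n42880 := d16_1 D46773 (iv D42880) (iv F176137)
theorem F209067 : act 2 n46773 = n46773 := d23_1 D46773 (iv D46773) F176138
theorem F209068 : act 4 n46773 = n46773 := d34_1 D46773 (iv D46773) F176139
theorem F209069 : act 6 n46773 = n42145 := d41_1 D46773 (iv D42145) (iv F176140)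
theorem F209070 : act 8 n46773 = n42247 := d44_1 D46773 (iv D42247) (iv D28998) (iv F122805) D42143
def n46774 : Q := act 2 n42144
theorem D46774 : act 2 n42144 = n46774 := rfl
theorem F209071 : act 0 n46774 = n45801 := d1_1 D46774 F190540 (iv F203714)
theorem F209072 : act 1 n46774 = n44836 := d9_1 D46774 F187093 (iv F202957) (iv F203375) (iv F176141)
theorem F209073 : act 3 n46774 = n46774 := d17_2 D42144 D46774 (iv D46774) (iv D42144) F122807
theorem F209074 : act 5 n46774 = n43694 := d19_2 (iv F176142) D46774 F204016
theorem F209075 : act 7 n46774 = n46774 := d21_2 F176143 D46774 (iv D46774)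
theorem F209076 : act 8 n46774 = n42151 := d22_2 (iv F176144) D46774 (iv D42151)
theorem F209077 : act 4 n44835 = n46774 := d30_5 F209074 (iv D43694) F127174 D31768 (iv F204546)
def n46775 : Q := act 4 n42144
theorem D46775 : act 4 n42144 = n46775 := rfl
theorem F209078 : act 0 n46775 = n43040 := d3_1 D46775 F179771 (iv F203714)
theorem F209079 : act 1 n46775 = n42882 := d11_1 D46775 (iv D42882) (iv F176141)
theorem F209080 : act 2 n46775 = n44835 := d18_1 D46775 F209077 (iv D46774)
theorem F209081 : act 3 n46775 = n46775 := d24_1 D46775 (iv D46775) (iv D42144) F122808 D42144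
theorem F209082 : act 5 n46775 = n42983 := d30_2 (iv F176142) D46775 (iv D42983) F125108 F203654
theorem F209083 : act 7 n46775 = n46775 := d32_2 F176143 D46775 (iv D46775)
theorem F209084 : act 8 n46775 = n42152 := d33_2 (iv F176144) D46775 (iv D42152)
def n46776 : Q := act 9 n42144
theorem D46776 : act 9 n42144 = n46776 := rfl
theorem F209085 : act 0 n46776 = n45805 := d8_1 D46776 (iv D45805) (iv F203714)
theorem F209086 : act 1 n46776 = n42883 := d16_1 D46776 (iv D42883) (iv F176141)
theorem F209087 : act 3 n46776 = n42145 := d29_1 D46776 (iv D42145) D42144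
theorem F209088 : act 5 n46776 = n44724 := d38_1 D46776 (iv D44724) (iv F176142)
theorem F209089 : act 7 n46776 = n46776 := d43_1 D46776 (iv D46776) F176143
def n46777 : Q := act 6 n42146
theorem D46777 : act 6 n42146 = n46777 := rfl
theorem F209090 : act 0 n46777 = n46553 := d5_1 D46777 F207702 F206744
theorem F209091 : act 1 n46777 = n42884 := d13_1 D46777 (iv D42884) (iv F176151)
theorem F209092 : act 2 n46777 = n42164 := d20_1 D46777 (iv D42164) (iv F176152)
theorem F209093 : act 5 n46777 = n46777 := d35_1 D46777 (iv D46777) F176153 F122818 (iv F176153)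
theorem F209094 : act 7 n46777 = n44725 := d39_2 D42146 D46777 (iv D44725) (iv D30666) (iv F122813)
theorem F209095 : act 9 n46777 = n42251 := d41_2 (iv F176154) D46777 (iv D42251)
def n46778 : Q := act 8 n42146
theorem D46778 : act 8 n42146 = n46778 := rfl
theorem F209096 : act 0 n46778 = n45849 := d7_1 D46778 F190668 F206744
theorem F209097 : act 1 n46778 = n42885 := d15_1 D46778 (iv D42885) (iv F176151)
theorem F209098 : act 2 n46778 = n42165 := d22_1 D46778 (iv D42165) (iv F176152)
theorem F209099 : act 5 n46778 = n42148 := d37_1 D46778 (iv D42148) (iv F176153)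
theorem F209100 : act 7 n46778 = n42147 := d42_1 D46778 (iv D42147) D42146
def n46779 : Q := act 3 n42147
theorem D46779 : act 3 n42147 = n46779 := rfl
theorem F209101 : act 0 n46779 = n45830 := d2_1 D46779 F190615 (iv F203510)
theorem F209102 : act 1 n46779 = n42886 := d10_1 D46779 (iv D42886) (iv F176155)
theorem F209103 : act 5 n46779 = n42149 := d25_2 (iv F176157) D46779 (iv D42149)
theorem F209104 : act 6 n46779 = n44727 := d26_2 (iv F176158) D46779 (iv D44727)
def n46780 : Q := act 9 n42147
theorem D46780 : act 9 n42147 = n46780 := rfl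
theorem F209105 : act 0 n46780 = n45850 := d8_1 D46780 (iv D45850) (iv F203510)
theorem F209106 : act 1 n46780 = n42887 := d16_1 D46780 (iv D42887) (iv F176155)
theorem F209107 : act 2 n46780 = n42167 := d23_1 D46780 (iv D42167) (iv F176156)
theorem F209108 : act 5 n46780 = n42150 := d38_1 D46780 (iv D42150) (iv F176157)
theorem F209109 : act 6 n46780 = n44728 := d41_1 D46780 (iv D44728) (iv F176158)
theorem F209110 : act 8 n46780 = n42254 := d44_1 D46780 (iv D42254) (iv D29002) (iv F122814) D42147
def n46781 : Q := act 3 n42148
theorem D46781 : act 3 n42148 = n46781 := rfl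
theorem F209111 : act 0 n46781 = n45842 := d2_1 D46781 F190647 (iv F203715)
theorem F209112 : act 1 n46781 = n42888 := d10_1 D46781 (iv D42888) (iv F176159)
theorem F209113 : act 6 n46781 = n46781 := d26_2 F176162 D46781 (iv D46781)
theorem F209114 : act 7 n46781 = n42149 := d27_2 (iv F176163) D46781 (iv D42149)
def n46782 : Q := act 9 n42148
theorem D46782 : act 9 n42148 = n46782 := rfl
theorem F209115 : act 0 n46782 = n45853 := d8_1 D46782 (iv D45853) (iv F203715)
theorem F209116 : act 1 n46782 = n42889 := d16_1 D46782 (iv D42889) (iv F176159)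
theorem F209117 : act 2 n46782 = n42169 := d23_1 D46782 (iv D42169) (iv F176160)
theorem F209118 : act 4 n46782 = n42155 := d34_1 D46782 (iv D42155) (iv F176161)
theorem F209119 : act 6 n46782 = n46782 := d41_1 D46782 (iv D46782) F176162
theorem F209120 : act 7 n46782 = n42150 := d43_1 D46782 (iv D42150) (iv F176163)
theorem F209121 : act 8 n46782 = n42256 := d44_1 D46782 (iv D42256) (iv D29003) (iv F122819) D42148
def n46783 : Q := act 2 n42149
theorem D46783 : act 2 n42149 = n46783 := rfl
theorem F209122 : act 0 n46783 = n45838 := d1_1 D46783 F190636 (iv F203716)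
theorem F209123 : act 3 n46783 = n42170 := d17_2 D42149 D46783 (iv D42170) (iv D28947) (iv F122821)
theorem F209124 : act 6 n46783 = n42151 := d20_2 (iv F176165) D46783 (iv D42151)
def n46784 : Q := act 4 n42149
theorem D46784 : act 4 n42149 = n46784 := rfl
theorem F209125 : act 0 n46784 = n43064 := d3_1 D46784 F179840 (iv F203716)
theorem F209126 : act 1 n46784 = n42891 := d11_1 D46784 (iv D42891) (iv F176164)
theorem F209127 : act 3 n46784 = n42156 := d24_1 D46784 (iv D42156) (iv D28937) (iv F122822) D42149
theorem F209128 : act 6 n46784 = n42152 := d31_2 (iv F176165) D46784 (iv D42152)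
def n46785 : Q := act 9 n42149
theorem D46785 : act 9 n42149 = n46785 := rfl
theorem F209129 : act 0 n46785 = n45843 := d8_1 D46785 (iv D45843) (iv F203716)
theorem F209130 : act 1 n46785 = n42892 := d16_1 D46785 (iv D42892) (iv F176164)
theorem F209131 : act 3 n46785 = n42150 := d29_1 D46785 (iv D42150) D42149
theorem F209132 : act 6 n46785 = n42153 := d41_1 D46785 (iv D42153) (iv F176165)
def n46786 : Q := act 1 n42151
theorem D46786 : act 1 n42151 = n46786 := rfl
theorem F209133 : act 2 n46786 = n42893 := d9_2 D42151 D46786 (iv D42893) (iv D29430) (iv F122824)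
theorem F209134 : act 3 n46786 = n42172 := d10_2 (iv F176171) D46786 (iv D42172)
theorem F209135 : act 5 n46786 = n44734 := d12_2 (iv F176172) D46786 (iv D44734)
theorem F209136 : act 7 n46786 = n46786 := d14_2 F176173 D46786 (iv D46786)
theorem F209137 : act 8 n46786 = n44836 := d15_2 F209076 D46786 (iv F209072)
theorem F209138 : act 0 n44879 = n46786 := d7_3 F209137 F187092 (iv F187268)
theorem F209139 : act 4 n44823 = n46786 := d33_3 F209137 (iv D44836) (iv F187053)
def n46787 : Q := act 4 n42151
theorem D46787 : act 4 n42151 = n46787 := rfl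
theorem F209140 : act 0 n46787 = n43061 := d3_1 D46787 F179830 (iv F203719)
theorem F209141 : act 1 n46787 = n44823 := d11_1 D46787 F209139 (iv D46786)
theorem F209142 : act 2 n46787 = n42152 := d18_1 D46787 (iv D42152) D42151
theorem F209143 : act 3 n46787 = n46787 := d24_1 D46787 (iv D46787) F176171 F122888 (iv F176171)
theorem F209144 : act 5 n46787 = n42995 := d30_2 (iv F176172) D46787 (iv D42995) F125136 F203656
theorem F209145 : act 7 n46787 = n46787 := d32_2 F176173 D46787 (iv D46787)
theorem F209146 : act 8 n46787 = n44835 := d33_2 F209076 D46787 F209077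
def n46788 : Q := act 9 n42151
theorem D46788 : act 9 n42151 = n46788 := rfl
theorem F209147 : act 0 n46788 = n45839 := d8_1 D46788 (iv D45839) (iv F203719)
theorem F209148 : act 2 n46788 = n42153 := d23_1 D46788 (iv D42153) D42151
theorem F209149 : act 3 n46788 = n42173 := d29_1 D46788 (iv D42173) (iv F176171)
theorem F209150 : act 5 n46788 = n44736 := d38_1 D46788 (iv D44736) (iv F176172)
theorem F209151 : act 7 n46788 = n46788 := d43_1 D46788 (iv D46788) F176173
def n46789 : Q := act 9 n42152
theorem D46789 : act 9 n42152 = n46789 := rfl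
theorem F209152 : act 0 n46789 = n43065 := d8_1 D46789 (iv D43065) (iv F203720)
theorem F209153 : act 1 n46789 = n42897 := d16_1 D46789 (iv D42897) (iv F176174)
theorem F209154 : act 3 n46789 = n42159 := d29_1 D46789 (iv D42159) (iv F176175)
theorem F209155 : act 4 n46789 = n42153 := d34_1 D46789 (iv D42153) D42152
theorem F209156 : act 5 n46789 = n42998 := d38_1 D46789 (iv D42998) (iv F203721)
theorem F209157 : act 7 n46789 = n46789 := d43_1 D46789 (iv D46789) F176176
def n46790 : Q := act 8 n42153
theorem D46790 : act 8 n42153 = n46790 := rfl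
theorem F209158 : act 0 n46790 = n45844 := d7_1 D46790 (iv D45844) (iv F203718)
theorem F209159 : act 1 n46790 = n42898 := d15_1 D46790 (iv D42898) (iv F176177)
theorem F209160 : act 3 n46790 = n42265 := d28_1 D46790 (iv D42265) F123142 (iv F122832) (iv F176178)
theorem F209161 : act 5 n46790 = n44739 := d37_1 D46790 (iv D44739) (iv F176179)
theorem F209162 : act 7 n46790 = n46790 := d42_1 D46790 (iv D46790) F176180
def n46791 : Q := act 4 n42154
theorem D46791 : act 4 n42154 = n46791 := rfl
theorem F209163 : act 0 n46791 = n43073 := d3_1 D46791 F179868 (iv F203722)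
theorem F209164 : act 1 n46791 = n42899 := d11_1 D46791 (iv D42899) (iv F176181)
theorem F209165 : act 2 n46791 = n46791 := d18_1 D46791 (iv D46791) F176182
theorem F209166 : act 6 n46791 = n46791 := d31_2 F176183 D46791 (iv D46791)
theorem F209167 : act 7 n46791 = n42156 := d32_2 (iv F176184) D46791 (iv D42156)
theorem F209168 : act 8 n46791 = n46791 := d33_2 F176185 D46791 (iv D46791)
def n46792 : Q := act 9 n42154
theorem D46792 : act 9 n42154 = n46792 := rfl
theorem F209169 : act 0 n46792 = n43077 := d8_1 D46792 (iv D43077) (iv F203722)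
theorem F209170 : act 1 n46792 = n42900 := d16_1 D46792 (iv D42900) (iv F176181)
theorem F209171 : act 2 n46792 = n46792 := d23_1 D46792 (iv D46792) F176182
theorem F209172 : act 3 n46792 = n42155 := d29_1 D46792 (iv D42155) D42154
theorem F209173 : act 6 n46792 = n46792 := d41_1 D46792 (iv D46792) F176183
theorem F209174 : act 7 n46792 = n42157 := d43_1 D46792 (iv D42157) (iv F176184)
def n46793 : Q := act 5 n42156
theorem D46793 : act 5 n42156 = n46793 := rfl
theorem F209175 : act 0 n46793 = n43070 := d4_1 D46793 F179859 (iv F203725)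
theorem F209176 : act 1 n46793 = n42901 := d12_1 D46793 (iv D42901) (iv F176191)
theorem F209177 : act 2 n46793 = n46793 := d19_1 D46793 (iv D46793) F176192
theorem F209178 : act 6 n46793 = n43002 := d35_2 (iv F176193) D46793 (iv D43002) F125156 F203647
theorem F209179 : act 8 n46793 = n46793 := d37_2 F176194 D46793 (iv D46793)
def n46794 : Q := act 9 n42156
theorem D46794 : act 9 n42156 = n46794 := rfl
theorem F209180 : act 0 n46794 = n43074 := d8_1 D46794 (iv D43074) (iv F203725)
theorem F209181 : act 1 n46794 = n42902 := d16_1 D46794 (iv D42902) (iv F176191)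
theorem F209182 : act 2 n46794 = n46794 := d23_1 D46794 (iv D46794) F176192
theorem F209183 : act 4 n46794 = n42157 := d34_1 D46794 (iv D42157) D42156
theorem F209184 : act 6 n46794 = n42159 := d41_1 D46794 (iv D42159) (iv F176193)
def n46795 : Q := act 8 n42157
theorem D46795 : act 8 n42157 = n46795 := rfl
theorem F209185 : act 0 n46795 = n43078 := d7_1 D46795 (iv D43078) (iv F203724)
theorem F209186 : act 1 n46795 = n42903 := d15_1 D46795 (iv D42903) (iv F176195)
theorem F209187 : act 2 n46795 = n46795 := d22_1 D46795 (iv D46795) F176196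
theorem F209188 : act 3 n46795 = n42270 := d28_1 D46795 (iv D42270) F123157 (iv F122844) (iv F176197)
theorem F209189 : act 6 n46795 = n42160 := d40_1 D46795 (iv D42160) (iv F176198)
theorem F209190 : act 9 n46795 = n46795 := d44_2 D42157 D46795 (iv D46795) (iv D42157) F122840
def n46796 : Q := act 8 n42159
theorem D46796 : act 8 n42159 = n46796 := rfl
theorem F209191 : act 0 n46796 = n43075 := d7_1 D46796 (iv D43075) (iv F203726)
theorem F209192 : act 1 n46796 = n42906 := d15_1 D46796 (iv D42906) (iv F176204)
theorem F209193 : act 2 n46796 = n46796 := d22_1 D46796 (iv D46796) F176205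
theorem F209194 : act 4 n46796 = n42160 := d33_1 D46796 (iv D42160) (iv F176206)
theorem F209195 : act 5 n46796 = n43007 := d37_1 D46796 (iv D43007) (iv F203727)
theorem F209196 : act 7 n46796 = n46796 := d42_1 D46796 (iv D46796) F176207
theorem F209197 : act 9 n46796 = n46796 := d44_2 D42159 D46796 (iv D46796) (iv D42159) F122848
def n46797 : Q := act 8 n42164
theorem D46797 : act 8 n42164 = n46797 := rfl
theorem F209198 : act 0 n46797 = n46517 := d7_1 D46797 F207561 F206742
theorem F209199 : act 1 n46797 = n42175 := d15_1 D46797 (iv D42175) (iv F176228)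
theorem F209200 : act 4 n46797 = n44550 := d33_1 D46797 F208544 F208540
theorem F209201 : act 5 n46797 = n46797 := d37_1 D46797 (iv D46797) F176230
theorem F209202 : act 6 n46797 = n42165 := d40_1 D46797 (iv D42165) D42164
theorem F209203 : act 7 n46797 = n44553 := d42_1 D46797 F205536 (iv F176231)
theorem F209204 : act 3 n44925 = n46797 := d27_3 F209203 F185953 (iv F187428)
def n46798 : Q := act 3 n42165
theorem D46798 : act 3 n42165 = n46798 := rfl
theorem F209205 : act 0 n46798 = n46500 := d2_1 D46798 F207488 (iv F206706)
theorem F209206 : act 1 n46798 = n42176 := d10_1 D46798 (iv D42176) (iv F176233)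
theorem F209207 : act 4 n46798 = n44922 := d24_2 F208548 D46798 (iv D44922) (iv F185942) (iv F208547)
theorem F209208 : act 5 n46798 = n42168 := d25_2 (iv F176234) D46798 (iv D42168)
theorem F209209 : act 6 n46798 = n44925 := d26_2 F209202 D46798 F209204
theorem F209210 : act 7 n46798 = n42166 := d27_2 (iv F176235) D46798 (iv D42166)
theorem F209211 : act 8 n46798 = n46798 := d28_2 D42165 D46798 (iv D46798) (iv D42165) F122870
def n46799 : Q := act 9 n42165
theorem D46799 : act 9 n42165 = n46799 := rfl
theorem F209212 : act 0 n46799 = n46519 := d8_1 D46799 (iv D46519) (iv F206706)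
theorem F209213 : act 1 n46799 = n42177 := d16_1 D46799 (iv D42177) (iv F176233)
theorem F209214 : act 5 n46799 = n42169 := d38_1 D46799 (iv D42169) (iv F176234)
theorem F209215 : act 7 n46799 = n42167 := d43_1 D46799 (iv D42167) (iv F176235)
theorem F209216 : act 8 n46799 = n42280 := d44_1 D46799 (iv D42280) (iv D29020) (iv F122872) D42165
def n46800 : Q := act 2 n42166
theorem D46800 : act 2 n42166 = n46800 := rfl
theorem F209217 : act 0 n46800 = n46496 := d1_1 D46800 F207474 (iv F206711)
theorem F209218 : act 5 n46800 = n42170 := d19_2 (iv F176237) D46800 (iv D42170)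
theorem F209219 : act 6 n46800 = n44755 := d20_2 (iv F176238) D46800 (iv D44755)
theorem F209220 : act 8 n46800 = n46800 := d22_2 F176239 D46800 (iv D46800)
def n46801 : Q := act 4 n42166
theorem D46801 : act 4 n42166 = n46801 := rfl
theorem F209221 : act 0 n46801 = n46480 := d3_1 D46801 F207408 (iv F206711)
theorem F209222 : act 1 n46801 = n42179 := d11_1 D46801 (iv D42179) (iv F176236)
theorem F209223 : act 3 n46801 = n42278 := d24_1 D46801 F208558 (iv D46687) F175619 D42166
theorem F209224 : act 5 n46801 = n46801 := d30_2 (iv F176237) D46801 (iv D46801) F176237 F122881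
theorem F209225 : act 6 n46801 = n42279 := d31_2 (iv F176238) D46801 F205256
theorem F209226 : act 7 n46801 = n44922 := d32_2 F209210 D46801 (iv F209207)
theorem F209227 : act 8 n46801 = n46801 := d33_2 F176239 D46801 (iv D46801)
def n46802 : Q := act 9 n42166
theorem D46802 : act 9 n42166 = n46802 := rfl
theorem F209228 : act 0 n46802 = n46501 := d8_1 D46802 (iv D46501) (iv F206711)
theorem F209229 : act 1 n46802 = n42180 := d16_1 D46802 (iv D42180) (iv F176236)
theorem F209230 : act 3 n46802 = n42167 := d29_1 D46802 (iv D42167) D42166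
theorem F209231 : act 5 n46802 = n42171 := d38_1 D46802 (iv D42171) (iv F176237)
theorem F209232 : act 6 n46802 = n44757 := d41_1 D46802 (iv D44757) (iv F176238)
def n46803 : Q := act 2 n42168
theorem D46803 : act 2 n42168 = n46803 := rfl
theorem F209233 : act 0 n46803 = n46510 := d1_1 D46803 F207531 (iv F206705)
theorem F209234 : act 1 n46803 = n46558 := d9_1 D46803 (iv D46558) F206789 (iv D42181) (iv F176244)
theorem F209235 : act 4 n46803 = n46803 := d18_2 F176245 D46803 (iv D46803)
theorem F209236 : act 6 n46803 = n46803 := d20_2 F176246 D46803 (iv D46803)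
theorem F209237 : act 7 n46803 = n42170 := d21_2 (iv F176247) D46803 (iv D42170)
theorem F209238 : act 8 n46803 = n46803 := d22_2 F176248 D46803 (iv D46803)
def n46804 : Q := act 9 n42168
theorem D46804 : act 9 n42168 = n46804 := rfl
theorem F209239 : act 0 n46804 = n46515 := d8_1 D46804 (iv D46515) (iv F206705)
theorem F209240 : act 1 n46804 = n42182 := d16_1 D46804 (iv D42182) (iv F176244)
theorem F209241 : act 3 n46804 = n42169 := d29_1 D46804 (iv D42169) D42168
theorem F209242 : act 4 n46804 = n46804 := d34_1 D46804 (iv D46804) F176245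
theorem F209243 : act 6 n46804 = n46804 := d41_1 D46804 (iv D46804) F176246
theorem F209244 : act 7 n46804 = n42171 := d43_1 D46804 (iv D42171) (iv F176247)
def n46805 : Q := act 1 n42170
theorem D46805 : act 1 n42170 = n46805 := rfl
theorem F209245 : act 2 n46805 = n42183 := d9_2 D42170 D46805 (iv D42183) (iv D28958) (iv F122880)
theorem F209246 : act 4 n46805 = n46805 := d11_2 F176254 D46805 (iv D46805)
theorem F209247 : act 6 n46805 = n42172 := d13_2 (iv F176255) D46805 (iv D42172)
theorem F209248 : act 7 n46805 = n46558 := d14_2 F209237 D46805 (iv F209234)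
theorem F209249 : act 8 n46805 = n46805 := d15_2 F176256 D46805 (iv D46805)
theorem F209250 : act 0 n46560 = n46805 := d6_3 F209248 F207717 (iv F207726)
def n46806 : Q := act 9 n42170
theorem D46806 : act 9 n42170 = n46806 := rfl
theorem F209251 : act 0 n46806 = n46511 := d8_1 D46806 (iv D46511) (iv F206710)
theorem F209252 : act 2 n46806 = n42171 := d23_1 D46806 (iv D42171) D42170
theorem F209253 : act 4 n46806 = n46806 := d34_1 D46806 (iv D46806) F176254
theorem F209254 : act 6 n46806 = n42173 := d41_1 D46806 (iv D42173) (iv F176255)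
def n46807 : Q := act 8 n42171
theorem D46807 : act 8 n42171 = n46807 := rfl
theorem F209255 : act 0 n46807 = n46516 := d7_1 D46807 (iv D46516) (iv F206704)
theorem F209256 : act 1 n46807 = n42185 := d15_1 D46807 (iv D42185) (iv F176257)
theorem F209257 : act 3 n46807 = n42288 := d28_1 D46807 (iv D42288) F123206 (iv F122887) (iv F176258)
theorem F209258 : act 4 n46807 = n46807 := d33_1 D46807 (iv D46807) F176259
theorem F209259 : act 6 n46807 = n42174 := d40_1 D46807 (iv D42174) (iv F176260)
theorem F209260 : act 9 n46807 = n46807 := d44_2 D42171 D46807 (iv D46807) (iv D42171) F122883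
def n46808 : Q := act 0 n42172
theorem D46808 : act 0 n42172 = n46808 := rfl
theorem F209261 : act 1 n46808 = n46503 := d0_2 D42172 D46808 F207498 F135988 F204219
theorem F209262 : act 2 n46808 = n42186 := d1_2 (iv F176261) D46808 (iv D42186)
theorem F209263 : act 3 n46808 = n44879 := d2_2 F209134 D46808 F209138
theorem F209264 : act 4 n46808 = n46808 := d3_2 F176262 D46808 (iv D46808)
theorem F209265 : act 5 n46808 = n44763 := d4_2 (iv F176263) D46808 (iv D44763)
theorem F209266 : act 6 n46808 = n46560 := d5_2 F209247 D46808 F209250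
theorem F209267 : act 7 n46808 = n46808 := d6_2 F176264 D46808 (iv D46808)
theorem F209268 : act 8 n46808 = n46808 := d7_2 F176265 D46808 (iv D46808)
def n46809 : Q := act 9 n42172
theorem D46809 : act 9 n42172 = n46809 := rfl
theorem F209269 : act 1 n46809 = n42173 := d16_1 D46809 (iv D42173) D42172
theorem F209270 : act 2 n46809 = n42187 := d23_1 D46809 (iv D42187) (iv F176261)
theorem F209271 : act 4 n46809 = n46809 := d34_1 D46809 (iv D46809) F176262
theorem F209272 : act 5 n46809 = n44764 := d38_1 D46809 (iv D44764) (iv F176263)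
theorem F209273 : act 7 n46809 = n46809 := d43_1 D46809 (iv D46809) F176264
def n46810 : Q := act 8 n42173
theorem D46810 : act 8 n42173 = n46810 := rfl
theorem F209274 : act 0 n46810 = n46512 := d7_1 D46810 (iv D46512) (iv F206709)
theorem F209275 : act 2 n46810 = n42174 := d22_1 D46810 (iv D42174) (iv F176266)
theorem F209276 : act 4 n46810 = n46810 := d33_1 D46810 (iv D46810) F176267
theorem F209277 : act 5 n46810 = n44765 := d37_1 D46810 (iv D44765) (iv F176268)
theorem F209278 : act 7 n46810 = n46810 := d42_1 D46810 (iv D46810) F176269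
theorem F209279 : act 9 n46810 = n46810 := d44_2 D42173 D46810 (iv D46810) (iv D42173) F122891
def n46811 : Q := act 9 n42175
theorem D46811 : act 9 n42175 = n46811 := rfl
theorem F209280 : act 0 n46811 = n46811 := d8_1 D46811 (iv D46811) F176276
theorem F209281 : act 2 n46811 = n42926 := d23_1 D46811 (iv D42926) (iv F176277)
theorem F209282 : act 3 n46811 = n44947 := d29_1 D46811 (iv D44947) (iv F205538)
theorem F209283 : act 4 n46811 = n44567 := d34_1 D46811 (iv D44567) (iv F205539)
theorem F209284 : act 5 n46811 = n46811 := d38_1 D46811 (iv D46811) F176278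
theorem F209285 : act 6 n46811 = n42177 := d41_1 D46811 (iv D42177) (iv F176279)
theorem F209286 : act 7 n46811 = n44571 := d43_1 D46811 (iv D44571) (iv F205540)
theorem F209287 : act 8 n46811 = n42293 := d44_1 D46811 (iv D42293) (iv D29030) (iv F122907) D42175
def n46812 : Q := act 2 n42176
theorem D46812 : act 2 n42176 = n46812 := rfl
theorem F209288 : act 0 n46812 = n46812 := d1_1 D46812 (iv D46812) F176281
theorem F209289 : act 3 n46812 = n42927 := d17_2 D42176 D46812 (iv D42927) (iv D29455) (iv F122909)
theorem F209290 : act 4 n46812 = n43717 := d18_2 (iv F206428) D46812 F204582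
theorem F209291 : act 5 n46812 = n42181 := d19_2 (iv F176282) D46812 (iv D42181)
theorem F209292 : act 6 n46812 = n44945 := d20_2 (iv F206429) D46812 F187502
theorem F209293 : act 7 n46812 = n42178 := d21_2 (iv F176283) D46812 (iv D42178)
theorem F209294 : act 8 n46812 = n46812 := d22_2 F176284 D46812 (iv D46812)
theorem F209295 : act 1 n46201 = n46812 := d12_3 F209291 (iv F206789) (iv F192034)
def n46813 : Q := act 9 n42176
theorem D46813 : act 9 n42176 = n46813 := rfl
theorem F209296 : act 0 n46813 = n46813 := d8_1 D46813 (iv D46813) F176281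
theorem F209297 : act 3 n46813 = n42177 := d29_1 D46813 (iv D42177) D42176
theorem F209298 : act 4 n46813 = n44943 := d34_1 D46813 (iv D44943) (iv F206428)
theorem F209299 : act 5 n46813 = n42182 := d38_1 D46813 (iv D42182) (iv F176282)
theorem F209300 : act 6 n46813 = n44947 := d41_1 D46813 (iv D44947) (iv F206429)
theorem F209301 : act 7 n46813 = n42180 := d43_1 D46813 (iv D42180) (iv F176283)
def n46814 : Q := act 1 n42178
theorem D46814 : act 1 n42178 = n46814 := rfl
theorem F209302 : act 3 n46814 = n42930 := d10_2 (iv F176291) D46814 (iv D42930)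
theorem F209303 : act 5 n46814 = n42183 := d12_2 (iv F176292) D46814 (iv D42183)
theorem F209304 : act 6 n46814 = n44771 := d13_2 (iv F176293) D46814 (iv D44771)
theorem F209305 : act 7 n46814 = n46201 := d14_2 F209293 D46814 F209295
theorem F209306 : act 8 n46814 = n46814 := d15_2 F176294 D46814 (iv D46814)
theorem F209307 : act 0 n46262 = n46814 := d6_3 F209305 F192033 (iv F192264)
def n46815 : Q := act 4 n42178
theorem D46815 : act 4 n42178 = n46815 := rfl
theorem F209308 : act 0 n46815 = n46815 := d3_1 D46815 (iv D46815) F176290
theorem F209309 : act 2 n46815 = n42179 := d18_1 D46815 (iv D42179) D42178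
theorem F209310 : act 3 n46815 = n43100 := d24_1 D46815 F204579 (iv F204273) (iv D42931) (iv F176291)
theorem F209311 : act 5 n46815 = n46815 := d30_2 (iv F176292) D46815 (iv D46815) F176292 F122934
theorem F209312 : act 6 n46815 = n42294 := d31_2 (iv F176293) D46815 F205257
theorem F209313 : act 7 n46815 = n43717 := d32_2 F209293 D46815 (iv F209290)
theorem F209314 : act 8 n46815 = n46815 := d33_2 F176294 D46815 (iv D46815)
def n46816 : Q := act 9 n42178
theorem D46816 : act 9 n42178 = n46816 := rfl
theorem F209315 : act 0 n46816 = n46816 := d8_1 D46816 (iv D46816) F176290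
theorem F209316 : act 2 n46816 = n42180 := d23_1 D46816 (iv D42180) D42178
theorem F209317 : act 3 n46816 = n42932 := d29_1 D46816 (iv D42932) (iv F176291)
theorem F209318 : act 5 n46816 = n42184 := d38_1 D46816 (iv D42184) (iv F176292)
theorem F209319 : act 6 n46816 = n44773 := d41_1 D46816 (iv D44773) (iv F176293)
def n46817 : Q := act 9 n42179
theorem D46817 : act 9 n42179 = n46817 := rfl
theorem F209320 : act 0 n46817 = n46817 := d8_1 D46817 (iv D46817) F176295
theorem F209321 : act 3 n46817 = n42293 := d29_1 D46817 (iv D42293) (iv F205260)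
theorem F209322 : act 4 n46817 = n42180 := d34_1 D46817 (iv D42180) D42179
theorem F209323 : act 5 n46817 = n46817 := d38_1 D46817 (iv D46817) F176296
theorem F209324 : act 6 n46817 = n42296 := d41_1 D46817 (iv D42296) (iv F205261)
theorem F209325 : act 7 n46817 = n44943 := d43_1 D46817 (iv D44943) (iv F205262)
def n46818 : Q := act 8 n42180
theorem D46818 : act 8 n42180 = n46818 := rfl
theorem F209326 : act 0 n46818 = n46818 := d7_1 D46818 (iv D46818) F176299
theorem F209327 : act 3 n46818 = n42301 := d28_1 D46818 (iv D42301) F123241 (iv F122920) (iv F176300)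
theorem F209328 : act 5 n46818 = n42185 := d37_1 D46818 (iv D42185) (iv F176301)
theorem F209329 : act 6 n46818 = n44775 := d40_1 D46818 (iv D44775) (iv F176302)
theorem F209330 : act 9 n46818 = n46818 := d44_2 D42180 D46818 (iv D46818) (iv D42180) F122915
def n46819 : Q := act 9 n42181
theorem D46819 : act 9 n42181 = n46819 := rfl
theorem F209331 : act 0 n46819 = n46819 := d8_1 D46819 (iv D46819) F176303
theorem F209332 : act 1 n46819 = n46559 := d16_1 D46819 (iv D46559) F206789
theorem F209333 : act 2 n46819 = n42182 := d23_1 D46819 (iv D42182) D42181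
theorem F209334 : act 3 n46819 = n42936 := d29_1 D46819 (iv D42936) (iv F176304)
theorem F209335 : act 4 n46819 = n46819 := d34_1 D46819 (iv D46819) F176305
theorem F209336 : act 6 n46819 = n46819 := d41_1 D46819 (iv D46819) F176306
theorem F209337 : act 7 n46819 = n42184 := d43_1 D46819 (iv D42184) (iv F176307)
def n46820 : Q := act 8 n42182
theorem D46820 : act 8 n42182 = n46820 := rfl
theorem F209338 : act 0 n46820 = n46820 := d7_1 D46820 (iv D46820) F176309
theorem F209339 : act 3 n46820 = n42304 := d28_1 D46820 (iv D42304) F123250 (iv F122931) (iv F176310)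
theorem F209340 : act 4 n46820 = n46820 := d33_1 D46820 (iv D46820) F176311
theorem F209341 : act 6 n46820 = n46820 := d40_1 D46820 (iv D46820) F176312
theorem F209342 : act 7 n46820 = n42185 := d42_1 D46820 (iv D42185) (iv F176313)
theorem F209343 : act 9 n46820 = n46820 := d44_2 D42182 D46820 (iv D46820) (iv D42182) F122925
def n46821 : Q := act 9 n42183
theorem D46821 : act 9 n42183 = n46821 := rfl
theorem F209344 : act 0 n46821 = n46561 := d8_1 D46821 (iv D46561) F206791
theorem F209345 : act 1 n46821 = n42184 := d16_1 D46821 (iv D42184) D42183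
theorem F209346 : act 3 n46821 = n42939 := d29_1 D46821 (iv D42939) (iv F176314)
theorem F209347 : act 4 n46821 = n46821 := d34_1 D46821 (iv D46821) F176315
theorem F209348 : act 6 n46821 = n42187 := d41_1 D46821 (iv D42187) (iv F176316)
theorem F209349 : act 7 n46821 = n46559 := d43_1 D46821 (iv D46559) (iv F206790)
def n46822 : Q := act 8 n42184
theorem D46822 : act 8 n42184 = n46822 := rfl
theorem F209350 : act 0 n46822 = n46822 := d7_1 D46822 (iv D46822) F176318
theorem F209351 : act 2 n46822 = n42185 := d22_1 D46822 (iv D42185) (iv F176319)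
theorem F209352 : act 4 n46822 = n46822 := d33_1 D46822 (iv D46822) F176321
theorem F209353 : act 6 n46822 = n42188 := d40_1 D46822 (iv D42188) (iv F176322)
theorem F209354 : act 9 n46822 = n46822 := d44_2 D42184 D46822 (iv D46822) (iv D42184) F122936
def n46823 : Q := act 9 n42186
theorem D46823 : act 9 n42186 = n46823 := rfl
theorem F209355 : act 0 n46823 = n42187 := d8_1 D46823 (iv D42187) D42186
theorem F209356 : act 1 n46823 = n46823 := d16_1 D46823 (iv D46823) F176328
theorem F209357 : act 3 n46823 = n42941 := d29_1 D46823 (iv D42941) (iv F176329)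
theorem F209358 : act 4 n46823 = n46823 := d34_1 D46823 (iv D46823) F176330
theorem F209359 : act 5 n46823 = n44782 := d38_1 D46823 (iv D44782) (iv F176331)
theorem F209360 : act 6 n46823 = n46561 := d41_1 D46823 (iv D46561) (iv F206792)
theorem F209361 : act 7 n46823 = n46823 := d43_1 D46823 (iv D46823) F176332
def n46824 : Q := act 8 n42187
theorem D46824 : act 8 n42187 = n46824 := rfl
theorem F209362 : act 1 n46824 = n42188 := d15_1 D46824 (iv D42188) (iv F176334)
theorem F209363 : act 4 n46824 = n46824 := d33_1 D46824 (iv D46824) F176336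
theorem F209364 : act 5 n46824 = n44783 := d37_1 D46824 (iv D44783) (iv F176337)
theorem F209365 : act 7 n46824 = n46824 := d42_1 D46824 (iv D46824) F176338
theorem F209366 : act 9 n46824 = n46824 := d44_2 D42187 D46824 (iv D46824) (iv D42187) F122945
def n46825 : Q := act 3 n42188
theorem D46825 : act 3 n42188 = n46825 := rfl
theorem F209367 : act 0 n46825 = n46825 := d2_1 D46825 (iv D46825) F176339
theorem F209368 : act 2 n46825 = n42310 := d17_1 D46825 (iv D42310) F123273 (iv F122953) (iv F176340)
theorem F209369 : act 5 n46825 = n44784 := d25_2 (iv F176342) D46825 (iv D44784)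
theorem F209370 : act 7 n46825 = n46825 := d27_2 F176343 D46825 (iv D46825)
theorem F209371 : act 8 n46825 = n42943 := d28_2 D42188 D46825 (iv D42943) (iv D29467) (iv F122948)
theorem F209372 : act 9 n46825 = n46825 := d29_2 F176344 D46825 (iv D46825)
def n46826 : Q := act 5 n42190
theorem D46826 : act 5 n42190 = n46826 := rfl
theorem F209373 : act 0 n46826 = n42946 := d4_1 D46826 (iv D42946) (iv F176351)
theorem F209374 : act 1 n46826 = n42208 := d12_1 D46826 (iv D42208) (iv F176352)
theorem F209375 : act 2 n46826 = n46034 := d19_1 D46826 F204085 (iv F203467)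
theorem F209376 : act 3 n46826 = n42192 := d25_1 D46826 (iv D42192) (iv F176353)
theorem F209377 : act 6 n46826 = n44787 := d35_2 D42190 D46826 (iv D44787) (iv D30710) (iv F122961)
theorem F209378 : act 9 n46826 = n45779 := d38_2 (iv F203468) D46826 F204076
theorem F209379 : act 4 n45554 = n46826 := d34_3 F209378 F190478 (iv F189686)
def n46827 : Q := act 7 n42190
theorem D46827 : act 7 n42190 = n46827 := rfl
theorem F209380 : act 0 n46827 = n42947 := d6_1 D46827 (iv D42947) (iv F176351)
theorem F209381 : act 1 n46827 = n42209 := d14_1 D46827 (iv D42209) (iv F176352)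
theorem F209382 : act 2 n46827 = n46153 := d21_1 D46827 F191833 (iv F203467)
theorem F209383 : act 3 n46827 = n42193 := d27_1 D46827 (iv D42193) (iv F176353)
theorem F209384 : act 4 n46827 = n46827 := d32_1 D46827 (iv D46827) F176354
theorem F209385 : act 6 n46827 = n46827 := d39_1 D46827 (iv D46827) (iv D42190) F122962 D42190
theorem F209386 : act 9 n46827 = n46121 := d43_2 (iv F203468) D46827 F191711
def n46828 : Q := act 8 n42190
theorem D46828 : act 8 n42190 = n46828 := rfl
theorem F209387 : act 0 n46828 = n42948 := d7_1 D46828 (iv D42948) (iv F176351)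
theorem F209388 : act 1 n46828 = n42210 := d15_1 D46828 (iv D42210) (iv F176352)
theorem F209389 : act 2 n46828 = n46156 := d22_1 D46828 (iv D46156) (iv F203467)
theorem F209390 : act 4 n46828 = n46828 := d33_1 D46828 (iv D46828) F176354
theorem F209391 : act 6 n46828 = n42191 := d40_1 D46828 (iv D42191) D42190
def n46829 : Q := act 3 n42191
theorem D46829 : act 3 n42191 = n46829 := rfl
theorem F209392 : act 0 n46829 = n42949 := d2_1 D46829 (iv D42949) (iv F176355)
theorem F209393 : act 1 n46829 = n42211 := d10_1 D46829 (iv D42211) (iv F176356)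
theorem F209394 : act 2 n46829 = n42896 := d17_1 D46829 F179225 (iv F178792) F206387 (iv F203469)
theorem F209395 : act 5 n46829 = n42894 := d25_2 (iv F176358) D46829 F203474
theorem F209396 : act 7 n46829 = n46829 := d27_2 F176359 D46829 (iv D46829)
theorem F209397 : act 8 n46829 = n42195 := d28_2 D42191 D46829 (iv D42195) (iv D28965) D28963
theorem F209398 : act 4 n42956 = n46829 := d30_5 F209395 (iv D42894) F124893 D31242 (iv F203844)
def n46830 : Q := act 9 n42191
theorem D46830 : act 9 n42191 = n46830 := rfl
theorem F209399 : act 0 n46830 = n42950 := d8_1 D46830 (iv D42950) (iv F176355)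
theorem F209400 : act 1 n46830 = n42212 := d16_1 D46830 (iv D42212) (iv F176356)
theorem F209401 : act 2 n46830 = n45647 := d23_1 D46830 F189995 (iv F203469)
theorem F209402 : act 4 n46830 = n46830 := d34_1 D46830 (iv D46830) F176357
theorem F209403 : act 5 n46830 = n44791 := d38_1 D46830 (iv D44791) (iv F176358)
theorem F209404 : act 7 n46830 = n46830 := d43_1 D46830 (iv D46830) F176359
theorem F209405 : act 8 n46830 = n45623 := d44_1 D46830 (iv D45623) F132232 (iv F203037) D42191
def n46831 : Q := act 7 n42192
theorem D46831 : act 7 n42192 = n46831 := rfl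
theorem F209406 : act 0 n46831 = n42951 := d6_1 D46831 (iv D42951) (iv F176360)
theorem F209407 : act 1 n46831 = n42213 := d14_1 D46831 (iv D42213) (iv F176361)
theorem F209408 : act 2 n46831 = n46831 := d21_1 D46831 (iv D46831) F176362
theorem F209409 : act 5 n46831 = n42193 := d36_1 D46831 (iv D42193) D42192
theorem F209410 : act 9 n46831 = n46535 := d43_2 F206425 D46831 (iv D46535)
def n46832 : Q := act 8 n42192
theorem D46832 : act 8 n42192 = n46832 := rfl
theorem F209411 : act 0 n46832 = n42952 := d7_1 D46832 (iv D42952) (iv F176360)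
theorem F209412 : act 1 n46832 = n42214 := d15_1 D46832 (iv D42214) (iv F176361)
theorem F209413 : act 2 n46832 = n46832 := d22_1 D46832 (iv D46832) F176362
theorem F209414 : act 5 n46832 = n42194 := d37_1 D46832 (iv D42194) D42192
theorem F209415 : act 6 n46832 = n44793 := d40_1 D46832 (iv D44793) (iv F176363)
def n46833 : Q := act 8 n42193
theorem D46833 : act 8 n42193 = n46833 := rfl
theorem F209416 : act 0 n46833 = n42953 := d7_1 D46833 (iv D42953) (iv F176364)
theorem F209417 : act 1 n46833 = n42215 := d15_1 D46833 (iv D42215) (iv F176365)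
theorem F209418 : act 2 n46833 = n46833 := d22_1 D46833 (iv D46833) F176366
theorem F209419 : act 4 n46833 = n42197 := d33_1 D46833 (iv D42197) (iv F176367)
theorem F209420 : act 6 n46833 = n46833 := d40_1 D46833 (iv D46833) F176368
theorem F209421 : act 7 n46833 = n42194 := d42_1 D46833 (iv D42194) D42193
def n46834 : Q := act 3 n42194
theorem D46834 : act 3 n42194 = n46834 := rfl
theorem F209422 : act 0 n46834 = n42954 := d2_1 D46834 (iv D42954) (iv F176369)
theorem F209423 : act 1 n46834 = n42216 := d10_1 D46834 (iv D42216) (iv F176370)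
theorem F209424 : act 6 n46834 = n42195 := d26_2 (iv F176373) D46834 (iv D42195)
def n46835 : Q := act 9 n42194
theorem D46835 : act 9 n42194 = n46835 := rfl
theorem F209425 : act 0 n46835 = n42955 := d8_1 D46835 (iv D42955) (iv F176369)
theorem F209426 : act 1 n46835 = n42217 := d16_1 D46835 (iv D42217) (iv F176370)
theorem F209427 : act 2 n46835 = n46835 := d23_1 D46835 (iv D46835) F176371
theorem F209428 : act 4 n46835 = n42199 := d34_1 D46835 (iv D42199) (iv F176372)
theorem F209429 : act 6 n46835 = n42196 := d41_1 D46835 (iv D42196) (iv F176373)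
theorem F209430 : act 8 n46835 = n44915 := d44_1 D46835 (iv D44915) F130496 F202869 D42194
def n46836 : Q := act 2 n42195
theorem D46836 : act 2 n42195 = n46836 := rfl
theorem F209431 : act 0 n46836 = n42956 := d1_1 D46836 (iv D42956) (iv F176374)
theorem F209432 : act 1 n46836 = n42983 := d9_1 D46836 F204201 F204545 (iv D42218) (iv F176375)
theorem F209433 : act 3 n46836 = n46836 := d17_2 D42195 D46836 (iv D46836) (iv D42195) F122969
theorem F209434 : act 5 n46836 = n42882 := d19_2 (iv F176376) D46836 F203476
theorem F209435 : act 7 n46836 = n46836 := d21_2 F176377 D46836 (iv D46836)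
theorem F209436 : act 8 n46836 = n42896 := d22_2 F209397 D46836 (iv F209394)
theorem F209437 : act 4 n42949 = n46836 := d46_2 (iv F132108) (iv F203845) F209433 (iv D46836) F176375 F123025 (iv F123111) F123109 D30769 F130420 (iv F202576) F125010 (iv D29465) F87339 F61908 F45743 F45742 (iv F65123) (iv D14896) F202928 D20218 F87236 F64455 D16251 D23674 (iv F203401) F71543 (iv D16443) F50189 (iv F203392) F61912 F61911 F203651 F32236 D7088 (iv F43622) F43621 D14135 D20556 D29926 D43626 F182235 F127052 F93508 F93507 F65436 F45982 (iv D10319) (iv F45502) (iv F61364) F61363 (iv F86156) (iv F123208) (iv D29027) (iv F123082) F123085 F123083 F90995 (iv F130295) (iv D30738) (iv F130201) (iv F202948)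
def n46837 : Q := act 4 n42195
theorem D46837 : act 4 n42195 = n46837 := rfl
theorem F209438 : act 0 n46837 = n42896 := d3_1 D46837 F203840 (iv F176374)
theorem F209439 : act 1 n46837 = n42219 := d11_1 D46837 (iv D42219) (iv F176375)
theorem F209440 : act 2 n46837 = n42949 := d18_1 D46837 F209437 (iv D46836)
theorem F209441 : act 3 n46837 = n42201 := d24_1 D46837 (iv D42201) (iv D28968) (iv F122970) D42195
theorem F209442 : act 5 n46837 = n42852 := d30_2 (iv F176376) D46837 (iv D42852) F124782 F202958
theorem F209443 : act 7 n46837 = n46837 := d32_2 F176377 D46837 (iv D46837)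
theorem F209444 : act 8 n46837 = n42956 := d33_2 F209397 D46837 F209398
def n46838 : Q := act 9 n42195
theorem D46838 : act 9 n42195 = n46838 := rfl
theorem F209445 : act 0 n46838 = n42958 := d8_1 D46838 (iv D42958) (iv F176374)
theorem F209446 : act 1 n46838 = n42220 := d16_1 D46838 (iv D42220) (iv F176375)
theorem F209447 : act 3 n46838 = n42196 := d29_1 D46838 (iv D42196) D42195
theorem F209448 : act 5 n46838 = n44799 := d38_1 D46838 (iv D44799) (iv F176376)
theorem F209449 : act 7 n46838 = n46838 := d43_1 D46838 (iv D46838) F176377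
def n46839 : Q := act 9 n42197
theorem D46839 : act 9 n42197 = n46839 := rfl
theorem F209450 : act 0 n46839 = n42960 := d8_1 D46839 (iv D42960) (iv F176384)
theorem F209451 : act 1 n46839 = n42222 := d16_1 D46839 (iv D42222) (iv F176385)
theorem F209452 : act 2 n46839 = n46839 := d23_1 D46839 (iv D46839) F176386
theorem F209453 : act 3 n46839 = n46411 := d29_1 D46839 (iv D46411) (iv F206376)
theorem F209454 : act 5 n46839 = n46388 := d38_1 D46839 (iv D46388) F206374
theorem F209455 : act 6 n46839 = n46839 := d41_1 D46839 (iv D46839) F176387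
theorem F209456 : act 7 n46839 = n42199 := d43_1 D46839 (iv D42199) (iv F176388)
theorem F209457 : act 8 n46839 = n44918 := d44_1 D46839 (iv D44918) F130510 F202871 D42197
def n46840 : Q := act 4 n42198
theorem D46840 : act 4 n42198 = n46840 := rfl
theorem F209458 : act 0 n46840 = n42904 := d3_1 D46840 F179246 F203388
theorem F209459 : act 1 n46840 = n42223 := d11_1 D46840 (iv D42223) (iv F176390)
theorem F209460 : act 2 n46840 = n46157 := d18_1 D46840 F206383 (iv F206378)
theorem F209461 : act 6 n46840 = n42201 := d31_2 (iv F176391) D46840 (iv D42201)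
theorem F209462 : act 7 n46840 = n46410 := d32_2 F206377 D46840 (iv D46410)
theorem F209463 : act 8 n46840 = n46840 := d33_2 F176392 D46840 (iv D46840)
def n46841 : Q := act 9 n42198
theorem D46841 : act 9 n42198 = n46841 := rfl
theorem F209464 : act 0 n46841 = n42908 := d8_1 D46841 (iv D42908) F203388
theorem F209465 : act 1 n46841 = n42224 := d16_1 D46841 (iv D42224) (iv F176390)
theorem F209466 : act 2 n46841 = n46424 := d23_1 D46841 (iv D46424) (iv F206378)
theorem F209467 : act 3 n46841 = n42199 := d29_1 D46841 (iv D42199) D42198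
theorem F209468 : act 5 n46841 = n46416 := d38_1 D46841 (iv D46416) (iv F206379)
theorem F209469 : act 6 n46841 = n42202 := d41_1 D46841 (iv D42202) (iv F176391)
theorem F209470 : act 7 n46841 = n46411 := d43_1 D46841 (iv D46411) F206377
def n46842 : Q := act 9 n42200
theorem D46842 : act 9 n42200 = n46842 := rfl
theorem F209471 : act 0 n46842 = n42795 := d8_1 D46842 (iv D42795) F203386
theorem F209472 : act 1 n46842 = n45649 := d16_1 D46842 F190003 (iv F206381)
theorem F209473 : act 2 n46842 = n42202 := d23_1 D46842 (iv D42202) D42200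
theorem F209474 : act 3 n46842 = n46842 := d29_1 D46842 (iv D46842) F176398
theorem F209475 : act 4 n46842 = n45648 := d34_1 D46842 F189998 (iv F206382)
theorem F209476 : act 5 n46842 = n42204 := d38_1 D46842 (iv D42204) (iv F176399)
theorem F209477 : act 6 n46842 = n46424 := d41_1 D46842 (iv D46424) F206380
theorem F209478 : act 7 n46842 = n46842 := d43_1 D46842 (iv D46842) F176400
def n46843 : Q := act 9 n42201
theorem D46843 : act 9 n42201 = n46843 := rfl
theorem F209479 : act 0 n46843 = n42905 := d8_1 D46843 (iv D42905) F203387
theorem F209480 : act 1 n46843 = n42226 := d16_1 D46843 (iv D42226) (iv F176403)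
theorem F209481 : act 2 n46843 = n45648 := d23_1 D46843 F189998 (iv F203707)
theorem F209482 : act 4 n46843 = n42202 := d34_1 D46843 (iv D42202) D42201
theorem F209483 : act 5 n46843 = n42859 := d38_1 D46843 (iv D42859) (iv F203041)
theorem F209484 : act 7 n46843 = n46843 := d43_1 D46843 (iv D46843) F176404
def n46844 : Q := act 8 n42202
theorem D46844 : act 8 n42202 = n46844 := rfl
theorem F209485 : act 0 n46844 = n42909 := d7_1 D46844 (iv D42909) F203382
theorem F209486 : act 1 n46844 = n42227 := d15_1 D46844 (iv D42227) (iv F176407)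
theorem F209487 : act 3 n46844 = n42276 := d28_1 D46844 (iv D42276) F123174 F202818 (iv F176408)
theorem F209488 : act 5 n46844 = n42207 := d37_1 D46844 (iv D42207) (iv F176409)
theorem F209489 : act 7 n46844 = n46844 := d42_1 D46844 (iv D46844) F176410
theorem F209490 : act 9 n46844 = n46844 := d44_2 D42202 D46844 (iv D46844) (iv D42202) F122986
def n46845 : Q := act 8 n42204
theorem D46845 : act 8 n42204 = n46845 := rfl
theorem F209491 : act 0 n46845 = n42796 := d7_1 D46845 (iv D42796) F203381
theorem F209492 : act 2 n46845 = n42207 := d22_1 D46845 (iv D42207) (iv F176416)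
theorem F209493 : act 4 n46845 = n42765 := d33_1 D46845 (iv D42765) (iv F203043)
theorem F209494 : act 7 n46845 = n46845 := d42_1 D46845 (iv D46845) F176418
theorem F209495 : act 9 n46845 = n46845 := d44_2 D42204 D46845 (iv D46845) (iv D42204) F122995
def n46846 : Q := act 4 n42208
theorem D46846 : act 4 n42208 = n46846 := rfl
theorem F209496 : act 0 n46846 = n42242 := d3_1 D46846 (iv D42242) (iv F176433)
theorem F209497 : act 1 n46846 = n45554 := d11_1 D46846 F209379 F209374
theorem F209498 : act 2 n46846 = n46846 := d18_1 D46846 (iv D46846) F176434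
theorem F209499 : act 3 n46846 = n44725 := d24_1 D46846 F208741 F208737 F175742 (iv F176435)
theorem F209500 : act 5 n46846 = n46846 := d30_2 D42208 D46846 (iv D46846) (iv D42208) F123008
theorem F209501 : act 6 n46846 = n44717 := d31_2 (iv F176436) D46846 F197968
theorem F209502 : act 9 n46846 = n44869 := d34_2 (iv F206424) D46846 F206411
def n46847 : Q := act 7 n42208
theorem D46847 : act 7 n42208 = n46847 := rfl
theorem F209503 : act 0 n46847 = n42243 := d6_1 D46847 (iv D42243) (iv F176433)
theorem F209504 : act 2 n46847 = n46847 := d21_1 D46847 (iv D46847) F176434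
theorem F209505 : act 3 n46847 = n42213 := d27_1 D46847 (iv D42213) (iv F176435)
theorem F209506 : act 5 n46847 = n42209 := d36_1 D46847 (iv D42209) D42208
theorem F209507 : act 9 n46847 = n46552 := d43_2 (iv F206424) D46847 (iv D46552)
def n46848 : Q := act 8 n42208
theorem D46848 : act 8 n42208 = n46848 := rfl
theorem F209508 : act 0 n46848 = n42244 := d7_1 D46848 (iv D42244) (iv F176433)
theorem F209509 : act 2 n46848 = n46848 := d22_1 D46848 (iv D46848) F176434
theorem F209510 : act 5 n46848 = n42210 := d37_1 D46848 (iv D42210) D42208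
theorem F209511 : act 6 n46848 = n44819 := d40_1 D46848 (iv D44819) (iv F176436)
def n46849 : Q := act 8 n42209
theorem D46849 : act 8 n42209 = n46849 := rfl
theorem F209512 : act 0 n46849 = n42245 := d7_1 D46849 (iv D42245) (iv F176437)
theorem F209513 : act 2 n46849 = n46849 := d22_1 D46849 (iv D46849) F176438
theorem F209514 : act 4 n46849 = n46849 := d33_1 D46849 (iv D46849) F176440
theorem F209515 : act 6 n46849 = n46849 := d40_1 D46849 (iv D46849) F176441
theorem F209516 : act 7 n46849 = n42210 := d42_1 D46849 (iv D42210) D42209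
def n46850 : Q := act 3 n42210
theorem D46850 : act 3 n42210 = n46850 := rfl
theorem F209517 : act 0 n46850 = n42246 := d2_1 D46850 (iv D42246) (iv F176442)
theorem F209518 : act 6 n46850 = n42211 := d26_2 (iv F176445) D46850 (iv D42211)
theorem F209519 : act 8 n46850 = n42216 := d28_2 D42210 D46850 (iv D42216) (iv D28977) (iv F123007)
def n46851 : Q := act 9 n42210
theorem D46851 : act 9 n42210 = n46851 := rfl
theorem F209520 : act 0 n46851 = n42247 := d8_1 D46851 (iv D42247) (iv F176442)
theorem F209521 : act 2 n46851 = n46851 := d23_1 D46851 (iv D46851) F176443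
theorem F209522 : act 4 n46851 = n46851 := d34_1 D46851 (iv D46851) F176444
theorem F209523 : act 6 n46851 = n42212 := d41_1 D46851 (iv D42212) (iv F176445)
theorem F209524 : act 8 n46851 = n46551 := d44_1 D46851 (iv D46551) F145884 F203694 D42210
def n46852 : Q := act 2 n42211
theorem D46852 : act 2 n42211 = n46852 := rfl
theorem F209525 : act 0 n46852 = n42248 := d1_1 D46852 (iv D42248) (iv F176446)
theorem F209526 : act 1 n46852 = n42995 := d9_1 D46852 F179583 (iv F203839) (iv F209394) F209393
theorem F209527 : act 3 n46852 = n46852 := d17_2 D42211 D46852 (iv D46852) (iv D42211) F123010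
theorem F209528 : act 5 n46852 = n44823 := d19_2 (iv F176447) D46852 (iv D44823)
theorem F209529 : act 7 n46852 = n46852 := d21_2 F176448 D46852 (iv D46852)
theorem F209530 : act 8 n46852 = n42218 := d22_2 (iv F176449) D46852 (iv D42218)
theorem F209531 : act 4 n42994 = n46852 := d33_3 F209530 F204542 (iv F204203)
def n46853 : Q := act 4 n42211
theorem D46853 : act 4 n42211 = n46853 := rfl
theorem F209532 : act 0 n46853 = n42249 := d3_1 D46853 (iv D42249) (iv F176446)
theorem F209533 : act 1 n46853 = n42956 := d11_1 D46853 F209398 F209393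
theorem F209534 : act 2 n46853 = n42994 := d18_1 D46853 F209531 (iv D46852)
theorem F209535 : act 3 n46853 = n46853 := d24_1 D46853 (iv D46853) (iv D42211) F123011 D42211
theorem F209536 : act 5 n46853 = n45585 := d30_2 (iv F176447) D46853 (iv D45585) (iv F179217) F203071
theorem F209537 : act 7 n46853 = n46853 := d32_2 F176448 D46853 (iv D46853)
theorem F209538 : act 8 n46853 = n42219 := d33_2 (iv F176449) D46853 (iv D42219)
def n46854 : Q := act 9 n42211
theorem D46854 : act 9 n42211 = n46854 := rfl
theorem F209539 : act 0 n46854 = n42250 := d8_1 D46854 (iv D42250) (iv F176446)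
theorem F209540 : act 3 n46854 = n42212 := d29_1 D46854 (iv D42212) D42211
theorem F209541 : act 5 n46854 = n44825 := d38_1 D46854 (iv D44825) (iv F176447)
theorem F209542 : act 7 n46854 = n46854 := d43_1 D46854 (iv D46854) F176448
def n46855 : Q := act 6 n42213
theorem D46855 : act 6 n42213 = n46855 := rfl
theorem F209543 : act 0 n46855 = n42251 := d5_1 D46855 (iv D42251) (iv F176455)
theorem F209544 : act 2 n46855 = n42231 := d20_1 D46855 (iv D42231) (iv F176456)
theorem F209545 : act 5 n46855 = n46855 := d35_1 D46855 (iv D46855) F176457 F123020 (iv F176457)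
theorem F209546 : act 7 n46855 = n44826 := d39_2 D42213 D46855 (iv D44826) (iv D30733) (iv F123016)
theorem F209547 : act 9 n46855 = n46553 := d41_2 (iv F206739) D46855 F207702
def n46856 : Q := act 8 n42213
theorem D46856 : act 8 n42213 = n46856 := rfl
theorem F209548 : act 0 n46856 = n42252 := d7_1 D46856 (iv D42252) (iv F176455)
theorem F209549 : act 2 n46856 = n42232 := d22_1 D46856 (iv D42232) (iv F176456)
theorem F209550 : act 4 n46856 = n46389 := d33_1 D46856 F208754 F208751
theorem F209551 : act 5 n46856 = n42215 := d37_1 D46856 (iv D42215) (iv F176457)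
theorem F209552 : act 7 n46856 = n42214 := d42_1 D46856 (iv D42214) D42213
def n46857 : Q := act 3 n42214
theorem D46857 : act 3 n42214 = n46857 := rfl
theorem F209553 : act 0 n46857 = n42253 := d2_1 D46857 (iv D42253) (iv F176458)
theorem F209554 : act 5 n46857 = n42216 := d25_2 (iv F176460) D46857 (iv D42216)
theorem F209555 : act 6 n46857 = n44828 := d26_2 (iv F176461) D46857 (iv D44828)
def n46858 : Q := act 9 n42214
theorem D46858 : act 9 n42214 = n46858 := rfl
theorem F209556 : act 0 n46858 = n42254 := d8_1 D46858 (iv D42254) (iv F176458)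
theorem F209557 : act 2 n46858 = n42234 := d23_1 D46858 (iv D42234) (iv F176459)
theorem F209558 : act 5 n46858 = n42217 := d38_1 D46858 (iv D42217) (iv F176460)
theorem F209559 : act 6 n46858 = n44829 := d41_1 D46858 (iv D44829) (iv F176461)
theorem F209560 : act 8 n46858 = n45850 := d44_1 D46858 (iv D45850) F132738 F203453 D42214
def n46859 : Q := act 3 n42215
theorem D46859 : act 3 n42215 = n46859 := rfl
theorem F209561 : act 0 n46859 = n42255 := d2_1 D46859 (iv D42255) (iv F176462)
theorem F209562 : act 2 n46859 = n46476 := d17_1 D46859 (iv D46476) F135903 (iv F205071) (iv F176463)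
theorem F209563 : act 4 n46859 = n46412 := d24_2 (iv F176464) D46859 (iv D46412) (iv D32064) (iv F205070)
theorem F209564 : act 6 n46859 = n46859 := d26_2 F176465 D46859 (iv D46859)
theorem F209565 : act 7 n46859 = n42216 := d27_2 (iv F176466) D46859 (iv D42216)
def n46860 : Q := act 9 n42215
theorem D46860 : act 9 n42215 = n46860 := rfl
theorem F209566 : act 0 n46860 = n42256 := d8_1 D46860 (iv D42256) (iv F176462)
theorem F209567 : act 2 n46860 = n42236 := d23_1 D46860 (iv D42236) (iv F176463)
theorem F209568 : act 4 n46860 = n42222 := d34_1 D46860 (iv D42222) (iv F176464)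
theorem F209569 : act 6 n46860 = n46860 := d41_1 D46860 (iv D46860) F176465
theorem F209570 : act 7 n46860 = n42217 := d43_1 D46860 (iv D42217) (iv F176466)
theorem F209571 : act 8 n46860 = n45853 := d44_1 D46860 (iv D45853) F132748 F203697 D42215
def n46861 : Q := act 2 n42216
theorem D46861 : act 2 n42216 = n46861 := rfl
theorem F209572 : act 0 n46861 = n42257 := d1_1 D46861 (iv D42257) (iv F176467)
theorem F209573 : act 3 n46861 = n42237 := d17_2 D42216 D46861 (iv D42237) (iv D28991) (iv F123022)
theorem F209574 : act 6 n46861 = n42218 := d20_2 (iv F176468) D46861 (iv D42218)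
theorem F209575 : act 7 n46861 = n46476 := d21_2 F209565 D46861 (iv F209562)
theorem F209576 : act 4 n46337 = n46861 := d32_3 F209575 F207395 (iv F206674)
theorem F209577 : act 1 n46861 = n46338 := d11_1 F209576 (iv D46338) (iv F192521)
def n46862 : Q := act 4 n42216
theorem D46862 : act 4 n42216 = n46862 := rfl
theorem F209578 : act 0 n46862 = n42258 := d3_1 D46862 (iv D42258) (iv F176467)
theorem F209579 : act 2 n46862 = n46337 := d18_1 D46862 F209576 (iv D46861)
theorem F209580 : act 3 n46862 = n42223 := d24_1 D46862 (iv D42223) (iv D28981) (iv F123023) D42216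
theorem F209581 : act 6 n46862 = n42219 := d31_2 (iv F176468) D46862 (iv D42219)
theorem F209582 : act 7 n46862 = n46412 := d32_2 F209565 D46862 (iv F209563)
def n46863 : Q := act 9 n42216
theorem D46863 : act 9 n42216 = n46863 := rfl
theorem F209583 : act 0 n46863 = n42259 := d8_1 D46863 (iv D42259) (iv F176467)
theorem F209584 : act 3 n46863 = n42217 := d29_1 D46863 (iv D42217) D42216
theorem F209585 : act 6 n46863 = n42220 := d41_1 D46863 (iv D42220) (iv F176468)
def n46864 : Q := act 9 n42218
theorem D46864 : act 9 n42218 = n46864 := rfl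
theorem F209586 : act 0 n46864 = n42262 := d8_1 D46864 (iv D42262) (iv F176473)
theorem F209587 : act 1 n46864 = n45885 := d16_1 D46864 F190792 F204545
theorem F209588 : act 2 n46864 = n42220 := d23_1 D46864 (iv D42220) D42218
theorem F209589 : act 3 n46864 = n42240 := d29_1 D46864 (iv D42240) (iv F176474)
theorem F209590 : act 4 n46864 = n45884 := d34_1 D46864 F190789 (iv F204542)
theorem F209591 : act 5 n46864 = n44837 := d38_1 D46864 (iv D44837) (iv F176475)
theorem F209592 : act 7 n46864 = n46864 := d43_1 D46864 (iv D46864) F176476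
def n46865 : Q := act 5 n42219
theorem D46865 : act 5 n42219 = n46865 := rfl
theorem F209593 : act 0 n46865 = n42263 := d4_1 D46865 (iv D42263) (iv F176477)
theorem F209594 : act 1 n46865 = n42852 := d12_1 D46865 (iv F209442) F209439
theorem F209595 : act 2 n46865 = n43693 := d19_1 D46865 F182496 (iv F203699)
theorem F209596 : act 3 n46865 = n42225 := d25_1 D46865 (iv D42225) (iv F176478)
theorem F209597 : act 4 n46865 = n42828 := d30_1 D46865 F203061 (iv D30739) (iv F123026) D42219
theorem F209598 : act 7 n46865 = n46865 := d36_2 F176479 D46865 (iv D46865)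
theorem F209599 : act 8 n46865 = n45585 := d37_2 F209538 D46865 (iv F209536)
def n46866 : Q := act 9 n42219
theorem D46866 : act 9 n42219 = n46866 := rfl
theorem F209600 : act 0 n46866 = n42264 := d8_1 D46866 (iv D42264) (iv F176477)
theorem F209601 : act 2 n46866 = n45884 := d23_1 D46866 F190789 (iv F203699)
theorem F209602 : act 3 n46866 = n42226 := d29_1 D46866 (iv D42226) (iv F176478)
theorem F209603 : act 4 n46866 = n42220 := d34_1 D46866 (iv D42220) D42219
theorem F209604 : act 7 n46866 = n46866 := d43_1 D46866 (iv D46866) F176479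
def n46867 : Q := act 8 n42220
theorem D46867 : act 8 n42220 = n46867 := rfl
theorem F209605 : act 0 n46867 = n42265 := d7_1 D46867 (iv D42265) (iv F176480)
theorem F209606 : act 3 n46867 = n45844 := d28_1 D46867 (iv D45844) F132720 F203674 (iv F176481)
theorem F209607 : act 5 n46867 = n44840 := d37_1 D46867 (iv D44840) (iv F176482)
theorem F209608 : act 7 n46867 = n46867 := d42_1 D46867 (iv D46867) F176483
def n46868 : Q := act 5 n42223
theorem D46868 : act 5 n42223 = n46868 := rfl
theorem F209609 : act 0 n46868 = n42268 := d4_1 D46868 (iv D42268) (iv F176492)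
theorem F209610 : act 2 n46868 = n45430 := d19_1 D46868 (iv F204796) (iv F206641)
theorem F209611 : act 4 n46868 = n45429 := d30_1 D46868 F189210 F131772 F205017 D42223
theorem F209612 : act 7 n46868 = n45433 := d36_2 F206642 D46868 F189226
theorem F209613 : act 8 n46868 = n46868 := d37_2 F176494 D46868 (iv D46868)
def n46869 : Q := act 9 n42223
theorem D46869 : act 9 n42223 = n46869 := rfl
theorem F209614 : act 0 n46869 = n42269 := d8_1 D46869 (iv D42269) (iv F176492)
theorem F209615 : act 2 n46869 = n45913 := d23_1 D46869 F190897 (iv F206641)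
theorem F209616 : act 4 n46869 = n42224 := d34_1 D46869 (iv D42224) D42223
theorem F209617 : act 6 n46869 = n42226 := d41_1 D46869 (iv D42226) (iv F176493)
theorem F209618 : act 7 n46869 = n46413 := d43_1 D46869 (iv D46413) F206642
def n46870 : Q := act 8 n42224
theorem D46870 : act 8 n42224 = n46870 := rfl
theorem F209619 : act 0 n46870 = n42270 := d7_1 D46870 (iv D42270) (iv F176495)
theorem F209620 : act 2 n46870 = n46409 := d22_1 D46870 (iv D46409) F206446
theorem F209621 : act 3 n46870 = n43078 := d28_1 D46870 (iv D43078) F125345 F203680 (iv F176496)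
theorem F209622 : act 5 n46870 = n46417 := d37_1 D46870 (iv D46417) (iv F206445)
theorem F209623 : act 6 n46870 = n42227 := d40_1 D46870 (iv D42227) (iv F176497)
theorem F209624 : act 7 n46870 = n46414 := d42_1 D46870 (iv D46414) F206447
theorem F209625 : act 9 n46870 = n46870 := d44_2 D42224 D46870 (iv D46870) (iv D42224) F123039
def n46871 : Q := act 6 n42225
theorem D46871 : act 6 n42225 = n46871 := rfl
theorem F209626 : act 0 n46871 = n42271 := d5_1 D46871 (iv D42271) (iv F176498)
theorem F209627 : act 1 n46871 = n42856 := d13_1 D46871 F179079 (iv F203057)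
theorem F209628 : act 2 n46871 = n43722 := d20_1 D46871 F182620 (iv F203052)
theorem F209629 : act 4 n46871 = n42228 := d31_1 D46871 (iv D42228) (iv F176499)
theorem F209630 : act 8 n46871 = n46871 := d40_2 F176501 D46871 (iv D46871)
def n46872 : Q := act 9 n42225
theorem D46872 : act 9 n42225 = n46872 := rfl
theorem F209631 : act 0 n46872 = n42272 := d8_1 D46872 (iv D42272) (iv F176498)
theorem F209632 : act 1 n46872 = n42859 := d16_1 D46872 (iv D42859) (iv F203057)
theorem F209633 : act 2 n46872 = n43122 := d23_1 D46872 F180073 (iv F203052)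
theorem F209634 : act 4 n46872 = n42229 := d34_1 D46872 (iv D42229) (iv F176499)
theorem F209635 : act 5 n46872 = n42226 := d38_1 D46872 (iv D42226) D42225
theorem F209636 : act 7 n46872 = n46872 := d43_1 D46872 (iv D46872) F176500
def n46873 : Q := act 8 n42226
theorem D46873 : act 8 n42226 = n46873 := rfl
theorem F209637 : act 0 n46873 = n42273 := d7_1 D46873 (iv D42273) (iv F176502)
theorem F209638 : act 2 n46873 = n44963 := d22_1 D46873 F187581 (iv F203708)
theorem F209639 : act 4 n46873 = n42227 := d33_1 D46873 (iv D42227) (iv F176503)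
theorem F209640 : act 7 n46873 = n46873 := d42_1 D46873 (iv D46873) F176504
theorem F209641 : act 9 n46873 = n46873 := d44_2 D42226 D46873 (iv D46873) (iv D42226) F123045
def n46874 : Q := act 7 n42228
theorem D46874 : act 7 n42228 = n46874 := rfl
theorem F209642 : act 0 n46874 = n42274 := d6_1 D46874 (iv D42274) (iv F176509)
theorem F209643 : act 1 n46874 = n42854 := d14_1 D46874 F179071 (iv F203058)
theorem F209644 : act 3 n46874 = n42830 := d27_1 D46874 F178976 (iv F203059)
theorem F209645 : act 6 n46874 = n46874 := d39_1 D46874 (iv D46874) (iv D42228) F123052 D42228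
theorem F209646 : act 8 n46874 = n46874 := d42_2 F176511 D46874 (iv D46874)
def n46875 : Q := act 9 n42228
theorem D46875 : act 9 n42228 = n46875 := rfl
theorem F209647 : act 0 n46875 = n42275 := d8_1 D46875 (iv D42275) (iv F176509)
theorem F209648 : act 1 n46875 = n42857 := d16_1 D46875 (iv D42857) (iv F203058)
theorem F209649 : act 3 n46875 = n42832 := d29_1 D46875 (iv D42832) (iv F203059)
theorem F209650 : act 6 n46875 = n42229 := d41_1 D46875 (iv D42229) D42228
def n46876 : Q := act 8 n42229
theorem D46876 : act 8 n42229 = n46876 := rfl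
theorem F209651 : act 0 n46876 = n42276 := d7_1 D46876 (iv D42276) (iv F176512)
theorem F209652 : act 1 n46876 = n42860 := d15_1 D46876 (iv D42860) (iv F203054)
theorem F209653 : act 3 n46876 = n42909 := d28_1 D46876 (iv D42909) F203383 (iv F124747) (iv F203055)
theorem F209654 : act 5 n46876 = n42230 := d37_1 D46876 (iv D42230) (iv F176514)
theorem F209655 : act 7 n46876 = n46876 := d42_1 D46876 (iv D46876) F176515
theorem F209656 : act 9 n46876 = n46876 := d44_2 D42229 D46876 (iv D46876) (iv D42229) F123053
def n46877 : Q := act 8 n42231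
theorem D46877 : act 8 n42231 = n46877 := rfl
theorem F209657 : act 0 n46877 = n42278 := d7_1 D46877 (iv D42278) (iv F176520)
theorem F209658 : act 1 n46877 = n46877 := d15_1 D46877 (iv D46877) F176521
theorem F209659 : act 4 n46877 = n46391 := d33_1 D46877 (iv F208822) F208819
theorem F209660 : act 5 n46877 = n46877 := d37_1 D46877 (iv D46877) F176523
theorem F209661 : act 6 n46877 = n42232 := d40_1 D46877 (iv D42232) D42231
theorem F209662 : act 7 n46877 = n44853 := d42_1 D46877 (iv D44853) (iv F176524)
theorem F209663 : act 3 n46480 = n46877 := d26_3 F209661 (iv F206548) D46480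
def n46878 : Q := act 9 n42232
theorem D46878 : act 9 n42232 = n46878 := rfl
theorem F209664 : act 0 n46878 = n42280 := d8_1 D46878 (iv D42280) (iv F176525)
theorem F209665 : act 1 n46878 = n46878 := d16_1 D46878 (iv D46878) F176526
theorem F209666 : act 3 n46878 = n46481 := d29_1 D46878 (iv D46481) F206548
theorem F209667 : act 4 n46878 = n46392 := d34_1 D46878 (iv D46392) (iv F206542)
theorem F209668 : act 5 n46878 = n42236 := d38_1 D46878 (iv D42236) (iv F176527)
theorem F209669 : act 7 n46878 = n42234 := d43_1 D46878 (iv D42234) (iv F176528)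
theorem F209670 : act 8 n46878 = n46519 := d44_1 D46878 (iv D46519) F136050 F204067 D42232
def n46879 : Q := act 2 n42233
theorem D46879 : act 2 n42233 = n46879 := rfl
theorem F209671 : act 0 n46879 = n42281 := d1_1 D46879 (iv D42281) (iv F176529)
theorem F209672 : act 4 n46879 = n46486 := d18_2 F206539 D46879 F207435
theorem F209673 : act 5 n46879 = n42237 := d19_2 (iv F176531) D46879 (iv D42237)
theorem F209674 : act 6 n46879 = n44856 := d20_2 (iv F176532) D46879 (iv D44856)
theorem F209675 : act 7 n46879 = n46477 := d21_2 (iv F206550) D46879 F207397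
theorem F209676 : act 8 n46879 = n46879 := d22_2 F176533 D46879 (iv D46879)
theorem F209677 : act 1 n46527 = n46879 := d12_3 F209673 (iv F206650) D46527
def n46880 : Q := act 9 n42233
theorem D46880 : act 9 n42233 = n46880 := rfl
theorem F209678 : act 0 n46880 = n42283 := d8_1 D46880 (iv D42283) (iv F176529)
theorem F209679 : act 1 n46880 = n46880 := d16_1 D46880 (iv D46880) F176530
theorem F209680 : act 3 n46880 = n42234 := d29_1 D46880 (iv D42234) D42233
theorem F209681 : act 4 n46880 = n46489 := d34_1 D46880 (iv D46489) F206539
theorem F209682 : act 5 n46880 = n42238 := d38_1 D46880 (iv D42238) (iv F176531)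
theorem F209683 : act 6 n46880 = n44858 := d41_1 D46880 (iv D44858) (iv F176532)
theorem F209684 : act 7 n46880 = n46481 := d43_1 D46880 (iv D46481) (iv F206550)
def n46881 : Q := act 9 n42237
theorem D46881 : act 9 n42237 = n46881 := rfl
theorem F209685 : act 0 n46881 = n42287 := d8_1 D46881 (iv D42287) (iv F176548)
theorem F209686 : act 1 n46881 = n46522 := d16_1 D46881 F207574 F206650
theorem F209687 : act 2 n46881 = n42238 := d23_1 D46881 (iv D42238) D42237
theorem F209688 : act 4 n46881 = n46471 := d34_1 D46881 (iv D46471) (iv F206649)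
theorem F209689 : act 6 n46881 = n42240 := d41_1 D46881 (iv D42240) (iv F176549)
theorem F209690 : act 7 n46881 = n46478 := d43_1 D46881 (iv D46478) F206651
def n46882 : Q := act 8 n42238
theorem D46882 : act 8 n42238 = n46882 := rfl
theorem F209691 : act 0 n46882 = n42288 := d7_1 D46882 (iv D42288) (iv F176551)
theorem F209692 : act 1 n46882 = n46882 := d15_1 D46882 (iv D46882) F176552
theorem F209693 : act 3 n46882 = n46516 := d28_1 D46882 (iv D46516) F136024 F204227 (iv F176553)
theorem F209694 : act 4 n46882 = n46472 := d33_1 D46882 (iv D46472) F206633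
theorem F209695 : act 6 n46882 = n42241 := d40_1 D46882 (iv D42241) (iv F176554)
theorem F209696 : act 7 n46882 = n46482 := d42_1 D46882 (iv D46482) (iv F206632)
theorem F209697 : act 9 n46882 = n46882 := d44_2 D42238 D46882 (iv D46882) (iv D42238) F123077
def n46883 : Q := act 8 n42240
theorem D46883 : act 8 n42240 = n46883 := rfl
theorem F209698 : act 0 n46883 = n42291 := d7_1 D46883 (iv D42291) (iv F176559)
theorem F209699 : act 1 n46883 = n46514 := d15_1 D46883 F207547 F204557
theorem F209700 : act 2 n46883 = n42241 := d22_1 D46883 (iv D42241) (iv F176560)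
theorem F209701 : act 4 n46883 = n46509 := d33_1 D46883 F207529 (iv F204556)
theorem F209702 : act 5 n46883 = n44866 := d37_1 D46883 (iv D44866) (iv F176561)
theorem F209703 : act 7 n46883 = n46883 := d42_1 D46883 (iv D46883) F176562
theorem F209704 : act 9 n46883 = n46883 := d44_2 D42240 D46883 (iv D46883) (iv D42240) F123085
def n46884 : Q := act 7 n42242
theorem D46884 : act 7 n42242 = n46884 := rfl
theorem F209705 : act 1 n46884 = n43026 := d14_1 D46884 (iv D43026) (iv F176568)
theorem F209706 : act 2 n46884 = n46884 := d21_1 D46884 (iv D46884) F176569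
theorem F209707 : act 3 n46884 = n46553 := d27_1 D46884 (iv D46553) F206558
theorem F209708 : act 4 n46884 = n42243 := d32_1 D46884 (iv D42243) D42242
theorem F209709 : act 5 n46884 = n46884 := d36_1 D46884 (iv D46884) F176570
theorem F209710 : act 6 n46884 = n46552 := d39_1 D46884 (iv D46552) (iv D34714) F203450 (iv F176571)
def n46885 : Q := act 8 n42242
theorem D46885 : act 8 n42242 = n46885 := rfl
theorem F209711 : act 1 n46885 = n43027 := d15_1 D46885 (iv D43027) (iv F176568)
theorem F209712 : act 2 n46885 = n46885 := d22_1 D46885 (iv D46885) F176569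
theorem F209713 : act 4 n46885 = n42244 := d33_1 D46885 (iv D42244) D42242
theorem F209714 : act 5 n46885 = n46885 := d37_1 D46885 (iv D46885) F176570
theorem F209715 : act 6 n46885 = n44868 := d40_1 D46885 (iv D44868) (iv F176571)
def n46886 : Q := act 6 n42243
theorem D46886 : act 6 n42243 = n46886 := rfl
theorem F209716 : act 1 n46886 = n43028 := d13_1 D46886 (iv D43028) (iv F176572)
theorem F209717 : act 2 n46886 = n46886 := d20_1 D46886 (iv D46886) F176573
theorem F209718 : act 3 n46886 = n42251 := d26_1 D46886 (iv D42251) (iv F176574)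
theorem F209719 : act 4 n46886 = n46552 := d31_1 D46886 (iv F209710) F209708
theorem F209720 : act 5 n46886 = n46886 := d35_1 D46886 (iv D46886) F176575 F123103 (iv F176575)
theorem F209721 : act 7 n46886 = n44869 := d39_2 D42243 D46886 (iv D44869) (iv D30763) (iv F123098)
def n46887 : Q := act 8 n42243
theorem D46887 : act 8 n42243 = n46887 := rfl
theorem F209722 : act 1 n46887 = n43029 := d15_1 D46887 (iv D43029) (iv F176572)
theorem F209723 : act 2 n46887 = n46887 := d22_1 D46887 (iv D46887) F176573
theorem F209724 : act 5 n46887 = n42245 := d37_1 D46887 (iv D42245) (iv F176575)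
theorem F209725 : act 7 n46887 = n42244 := d42_1 D46887 (iv D42244) D42243
def n46888 : Q := act 3 n42244
theorem D46888 : act 3 n42244 = n46888 := rfl
theorem F209726 : act 1 n46888 = n43030 := d10_1 D46888 (iv D43030) (iv F176576)
theorem F209727 : act 5 n46888 = n42246 := d25_2 (iv F176578) D46888 (iv D42246)
theorem F209728 : act 6 n46888 = n44871 := d26_2 (iv F176579) D46888 (iv D44871)
theorem F209729 : act 8 n46888 = n42253 := d28_2 D42244 D46888 (iv D42253) (iv D29002) (iv F123097)
def n46889 : Q := act 9 n42244
theorem D46889 : act 9 n42244 = n46889 := rfl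
theorem F209730 : act 1 n46889 = n43031 := d16_1 D46889 (iv D43031) (iv F176576)
theorem F209731 : act 2 n46889 = n46889 := d23_1 D46889 (iv D46889) F176577
theorem F209732 : act 5 n46889 = n42247 := d38_1 D46889 (iv D42247) (iv F176578)
theorem F209733 : act 6 n46889 = n44872 := d41_1 D46889 (iv D44872) (iv F176579)
def n46890 : Q := act 3 n42245
theorem D46890 : act 3 n42245 = n46890 := rfl
theorem F209734 : act 1 n46890 = n43032 := d10_1 D46890 (iv D43032) (iv F176580)
theorem F209735 : act 6 n46890 = n46890 := d26_2 F176583 D46890 (iv D46890)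
theorem F209736 : act 7 n46890 = n42246 := d27_2 (iv F176584) D46890 (iv D42246)
theorem F209737 : act 8 n46890 = n42255 := d28_2 D42245 D46890 (iv D42255) (iv D29003) (iv F123101)
def n46891 : Q := act 9 n42245
theorem D46891 : act 9 n42245 = n46891 := rfl
theorem F209738 : act 1 n46891 = n43033 := d16_1 D46891 (iv D43033) (iv F176580)
theorem F209739 : act 2 n46891 = n46891 := d23_1 D46891 (iv D46891) F176581
theorem F209740 : act 4 n46891 = n46891 := d34_1 D46891 (iv D46891) F176582
theorem F209741 : act 6 n46891 = n46891 := d41_1 D46891 (iv D46891) F176583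
theorem F209742 : act 7 n46891 = n42247 := d43_1 D46891 (iv D42247) (iv F176584)
def n46892 : Q := act 2 n42246
theorem D46892 : act 2 n42246 = n46892 := rfl
theorem F209743 : act 3 n46892 = n46892 := d17_2 D42246 D46892 (iv D46892) (iv D42246) F123105
theorem F209744 : act 6 n46892 = n42248 := d20_2 (iv F176586) D46892 (iv D42248)
theorem F209745 : act 8 n46892 = n42257 := d22_2 (iv F176587) D46892 (iv D42257)
def n46893 : Q := act 4 n42246
theorem D46893 : act 4 n42246 = n46893 := rfl
theorem F209746 : act 1 n46893 = n43035 := d11_1 D46893 (iv D43035) (iv F176585)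
theorem F209747 : act 3 n46893 = n46893 := d24_1 D46893 (iv D46893) (iv D42246) F123106 D42246
theorem F209748 : act 6 n46893 = n42249 := d31_2 (iv F176586) D46893 (iv D42249)
theorem F209749 : act 8 n46893 = n42258 := d33_2 (iv F176587) D46893 (iv D42258)
def n46894 : Q := act 9 n42246
theorem D46894 : act 9 n42246 = n46894 := rfl
theorem F209750 : act 1 n46894 = n43036 := d16_1 D46894 (iv D43036) (iv F176585)
theorem F209751 : act 3 n46894 = n42247 := d29_1 D46894 (iv D42247) D42246
theorem F209752 : act 6 n46894 = n42250 := d41_1 D46894 (iv D42250) (iv F176586)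
def n46895 : Q := act 1 n42248
theorem D46895 : act 1 n42248 = n46895 := rfl
theorem F209753 : act 0 n46895 = n43059 := d0_1 D46895 F179821 (iv F179582) (iv F209526) F209525
theorem F209754 : act 2 n46895 = n43037 := d9_2 D42248 D46895 (iv D43037) (iv D29527) (iv F123108)
theorem F209755 : act 3 n46895 = n46895 := d10_2 F176592 D46895 (iv D46895)
theorem F209756 : act 5 n46895 = n44878 := d12_2 (iv F176593) D46895 (iv D44878)
theorem F209757 : act 7 n46895 = n46895 := d14_2 F176594 D46895 (iv D46895)
theorem F209758 : act 8 n46895 = n42260 := d15_2 (iv F176595) D46895 (iv D42260)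
theorem F209759 : act 4 n43058 = n46895 := d46_2 F190532 (iv F179819) F209755 F209754 (iv D43037) (iv F204198) F204200 F125136 F203656 F130041 (iv D21071) F63540 F44650 F44652 (iv F60207) F60206 (iv D13701) F42356 (iv F42977) (iv F61061) (iv D13903) F42935 (iv D6976) F22513 F15963 F12368 F9778 F6971 (iv D1375) (iv D955) F3499 F3498 (iv D659) (iv F3149) F3153 F3151 D592 D858 F4509 (iv F6327) (iv F8872) D2561 (iv F17601) (iv F24849) D7771 D11282 F193616 F50052 (iv F49676) F49674 F49673 (iv F70802) (iv D16258) (iv F202377) F35006 D7734 F35072 (iv F45408) D14790 D21533 D31385 D45798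
def n46896 : Q := act 4 n42248
theorem D46896 : act 4 n42248 = n46896 := rfl
theorem F209760 : act 0 n46896 = n42994 := d3_1 D46896 F209531 F209525
theorem F209761 : act 1 n46896 = n43058 := d11_1 D46896 F209759 (iv D46895)
theorem F209762 : act 2 n46896 = n42249 := d18_1 D46896 (iv D42249) D42248
theorem F209763 : act 7 n46896 = n46896 := d32_2 F176594 D46896 (iv D46896)
theorem F209764 : act 8 n46896 = n42261 := d33_2 (iv F176595) D46896 (iv D42261)
theorem F209765 : act 3 n46896 = n43023 := d46_3 (iv F130418) (iv F176593) D46896 F179708 F179707 (iv D29568) F87594 F62173 F45931 F32977 F32976 (iv D5013) F16558 (iv F23235) F23233 (iv F32038) (iv F44792) (iv D10011) (iv F44757) (iv F63654) F63658 (iv F86026) (iv F121348) (iv D28589) F204923 F66420 F46646 (iv D10472) F32852 (iv F46350) F46349 F46348 F204982 F59452 D13540 F59500 F41881 D13541 F59503 F42420 (iv F43037) F43040 (iv F61206) D20271 (iv F125139) (iv F179583) (iv F209526) F209525 F176595 F123136 D30781 F130458 F130457 F91046 F203244 (iv F130016) (iv F176142) D46775 F209081 F209080 (iv D44835) F130294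
theorem F209766 : act 5 n45737 = n46896 := d25_0 F209765 F179710 (iv F190304)
def n46897 : Q := act 9 n42248
theorem D46897 : act 9 n42248 = n46897 := rfl
theorem F209767 : act 2 n46897 = n42250 := d23_1 D46897 (iv D42250) D42248
theorem F209768 : act 3 n46897 = n46897 := d29_1 D46897 (iv D46897) F176592
theorem F209769 : act 5 n46897 = n44880 := d38_1 D46897 (iv D44880) (iv F176593)
theorem F209770 : act 7 n46897 = n46897 := d43_1 D46897 (iv D46897) F176594
def n46898 : Q := act 5 n42249
theorem D46898 : act 5 n42249 = n46898 := rfl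
theorem F209771 : act 0 n46898 = n45585 := d4_1 D46898 (iv F209536) F209532
theorem F209772 : act 1 n46898 = n43040 := d12_1 D46898 (iv D43040) (iv F176596)
theorem F209773 : act 2 n46898 = n45737 := d19_1 D46898 F209766 F209762
theorem F209774 : act 3 n46898 = n46898 := d25_1 D46898 (iv D46898) F176597
theorem F209775 : act 4 n46898 = n44881 := d30_1 D46898 (iv D44881) (iv D30769) (iv F123109) D42249
theorem F209776 : act 7 n46898 = n46898 := d36_2 F176598 D46898 (iv D46898)
theorem F209777 : act 8 n46898 = n42263 := d37_2 (iv F176599) D46898 (iv D42263)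
def n46899 : Q := act 9 n42249
theorem D46899 : act 9 n42249 = n46899 := rfl
theorem F209778 : act 1 n46899 = n43041 := d16_1 D46899 (iv D43041) (iv F176596)
theorem F209779 : act 3 n46899 = n46899 := d29_1 D46899 (iv D46899) F176597
theorem F209780 : act 4 n46899 = n42250 := d34_1 D46899 (iv D42250) D42249
theorem F209781 : act 7 n46899 = n46899 := d43_1 D46899 (iv D46899) F176598
def n46900 : Q := act 8 n42250
theorem D46900 : act 8 n42250 = n46900 := rfl
theorem F209782 : act 1 n46900 = n43042 := d15_1 D46900 (iv D43042) (iv F176600)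
theorem F209783 : act 5 n46900 = n44883 := d37_1 D46900 (iv D44883) (iv F176602)
theorem F209784 : act 7 n46900 = n46900 := d42_1 D46900 (iv D46900) F176603
theorem F209785 : act 9 n46900 = n42265 := d44_2 D42250 D46900 (iv D42265) (iv D29008) (iv F123111)
def n46901 : Q := act 8 n42251
theorem D46901 : act 8 n42251 = n46901 := rfl
theorem F209786 : act 1 n46901 = n43043 := d15_1 D46901 (iv D43043) (iv F176604)
theorem F209787 : act 2 n46901 = n42278 := d22_1 D46901 (iv D42278) (iv F176605)
theorem F209788 : act 5 n46901 = n46901 := d37_1 D46901 (iv D46901) F176606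
theorem F209789 : act 6 n46901 = n42252 := d40_1 D46901 (iv D42252) D42251
theorem F209790 : act 7 n46901 = n44884 := d42_1 D46901 (iv D44884) (iv F176607)
def n46902 : Q := act 3 n42252
theorem D46902 : act 3 n42252 = n46902 := rfl
theorem F209791 : act 1 n46902 = n43044 := d10_1 D46902 (iv D43044) (iv F176608)
theorem F209792 : act 5 n46902 = n42255 := d25_2 (iv F176610) D46902 (iv D42255)
theorem F209793 : act 7 n46902 = n42253 := d27_2 (iv F176611) D46902 (iv D42253)
def n46903 : Q := act 9 n42252
theorem D46903 : act 9 n42252 = n46903 := rfl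
theorem F209794 : act 1 n46903 = n43045 := d16_1 D46903 (iv D43045) (iv F176608)
theorem F209795 : act 2 n46903 = n42280 := d23_1 D46903 (iv D42280) (iv F176609)
theorem F209796 : act 5 n46903 = n42256 := d38_1 D46903 (iv D42256) (iv F176610)
theorem F209797 : act 7 n46903 = n42254 := d43_1 D46903 (iv D42254) (iv F176611)
def n46904 : Q := act 2 n42253
theorem D46904 : act 2 n42253 = n46904 := rfl
theorem F209798 : act 3 n46904 = n42281 := d17_2 D42253 D46904 (iv D42281) (iv D29021) (iv F123121)
theorem F209799 : act 5 n46904 = n42257 := d19_2 (iv F176613) D46904 (iv D42257)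
theorem F209800 : act 6 n46904 = n44887 := d20_2 (iv F176614) D46904 (iv D44887)
def n46905 : Q := act 4 n42253
theorem D46905 : act 4 n42253 = n46905 := rfl
theorem F209801 : act 1 n46905 = n43047 := d11_1 D46905 (iv D43047) (iv F176612)
theorem F209802 : act 6 n46905 = n44888 := d31_2 (iv F176614) D46905 (iv D44888)
def n46906 : Q := act 9 n42253
theorem D46906 : act 9 n42253 = n46906 := rfl
theorem F209803 : act 1 n46906 = n43048 := d16_1 D46906 (iv D43048) (iv F176612)
theorem F209804 : act 3 n46906 = n42254 := d29_1 D46906 (iv D42254) D42253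
theorem F209805 : act 5 n46906 = n42259 := d38_1 D46906 (iv D42259) (iv F176613)
theorem F209806 : act 6 n46906 = n44889 := d41_1 D46906 (iv D44889) (iv F176614)
def n46907 : Q := act 2 n42255
theorem D46907 : act 2 n42255 = n46907 := rfl
theorem F209807 : act 0 n46907 = n46476 := d1_1 D46907 (iv F209562) F209561
theorem F209808 : act 3 n46907 = n42284 := d17_2 D42255 D46907 (iv D42284) (iv D29023) (iv F123125)
theorem F209809 : act 6 n46907 = n46907 := d20_2 F176620 D46907 (iv D46907)
theorem F209810 : act 7 n46907 = n42257 := d21_2 (iv F176621) D46907 (iv D42257)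
theorem F209811 : act 4 n46459 = n46907 := d24_0 F209808 (iv F206643) F135649 D32186 D46459
def n46908 : Q := act 4 n42255
theorem D46908 : act 4 n42255 = n46908 := rfl
theorem F209812 : act 0 n46908 = n46412 := d3_1 D46908 (iv F209563) F209561
theorem F209813 : act 1 n46908 = n43050 := d11_1 D46908 (iv D43050) (iv F176619)
theorem F209814 : act 2 n46908 = n46459 := d18_1 D46908 F209811 (iv D46907)
theorem F209815 : act 3 n46908 = n42266 := d24_1 D46908 (iv D42266) (iv D29009) (iv F123126) D42255
theorem F209816 : act 6 n46908 = n46908 := d31_2 F176620 D46908 (iv D46908)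
theorem F209817 : act 7 n46908 = n42258 := d32_2 (iv F176621) D46908 (iv D42258)
def n46909 : Q := act 9 n42255
theorem D46909 : act 9 n42255 = n46909 := rfl
theorem F209818 : act 1 n46909 = n43051 := d16_1 D46909 (iv D43051) (iv F176619)
theorem F209819 : act 3 n46909 = n42256 := d29_1 D46909 (iv D42256) D42255
theorem F209820 : act 6 n46909 = n46909 := d41_1 D46909 (iv D46909) F176620
theorem F209821 : act 7 n46909 = n42259 := d43_1 D46909 (iv D42259) (iv F176621)
def n46910 : Q := act 1 n42257
theorem D46910 : act 1 n42257 = n46910 := rfl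
theorem F209822 : act 2 n46910 = n43052 := d9_2 D42257 D46910 (iv D43052) (iv D29536) (iv F123129)
theorem F209823 : act 3 n46910 = n42286 := d10_2 (iv F176627) D46910 (iv D42286)
theorem F209824 : act 6 n46910 = n42260 := d13_2 (iv F176628) D46910 (iv D42260)
def n46911 : Q := act 4 n42257
theorem D46911 : act 4 n42257 = n46911 := rfl
theorem F209825 : act 0 n46911 = n46337 := d3_1 D46911 F209576 F209572
theorem F209826 : act 2 n46911 = n42258 := d18_1 D46911 (iv D42258) D42257
theorem F209827 : act 3 n46911 = n46336 := d24_1 D46911 (iv F204884) F206647 F174143 (iv F176627)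
theorem F209828 : act 6 n46911 = n42261 := d31_2 (iv F176628) D46911 (iv D42261)
theorem F209829 : act 7 n46911 = n46459 := d32_2 F209810 D46911 F209811
def n46912 : Q := act 9 n42257
theorem D46912 : act 9 n42257 = n46912 := rfl
theorem F209830 : act 2 n46912 = n42259 := d23_1 D46912 (iv D42259) D42257
theorem F209831 : act 3 n46912 = n42287 := d29_1 D46912 (iv D42287) (iv F176627)
theorem F209832 : act 6 n46912 = n42262 := d41_1 D46912 (iv D42262) (iv F176628)
def n46913 : Q := act 5 n42258
theorem D46913 : act 5 n42258 = n46913 := rfl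
theorem F209833 : act 1 n46913 = n43055 := d12_1 D46913 (iv D43055) (iv F176629)
theorem F209834 : act 3 n46913 = n42268 := d25_1 D46913 (iv D42268) (iv F176630)
def n46914 : Q := act 9 n42258
theorem D46914 : act 9 n42258 = n46914 := rfl
theorem F209835 : act 1 n46914 = n43056 := d16_1 D46914 (iv D43056) (iv F176629)
theorem F209836 : act 3 n46914 = n42269 := d29_1 D46914 (iv D42269) (iv F176630)
theorem F209837 : act 4 n46914 = n42259 := d34_1 D46914 (iv D42259) D42258
theorem F209838 : act 6 n46914 = n42264 := d41_1 D46914 (iv D42264) (iv F176631)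
def n46915 : Q := act 8 n42259
theorem D46915 : act 8 n42259 = n46915 := rfl
theorem F209839 : act 1 n46915 = n43057 := d15_1 D46915 (iv D43057) (iv F176632)
theorem F209840 : act 6 n46915 = n42265 := d40_1 D46915 (iv D42265) (iv F176634)
def n46916 : Q := act 0 n42260
theorem D46916 : act 0 n42260 = n46916 := rfl
theorem F209841 : act 1 n46916 = n43038 := d0_2 D42260 D46916 F204215 F204545 F176473
theorem F209842 : act 2 n46916 = n43058 := d1_2 (iv F176635) D46916 (iv D43058)
theorem F209843 : act 3 n46916 = n42289 := d2_2 (iv F176636) D46916 (iv D42289)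
theorem F209844 : act 5 n46916 = n44899 := d4_2 (iv F176637) D46916 (iv D44899)
theorem F209845 : act 7 n46916 = n46916 := d6_2 F176638 D46916 (iv D46916)
theorem F209846 : act 8 n46916 = n43059 := d7_2 F209758 D46916 (iv F209753)
theorem F209847 : act 4 n43037 = n46916 := d33_3 F209846 (iv D43059) (iv F179762)
def n46917 : Q := act 4 n42260
theorem D46917 : act 4 n42260 = n46917 := rfl
theorem F209848 : act 0 n46917 = n43037 := d3_1 D46917 F209847 (iv D46916)
theorem F209849 : act 1 n46917 = n42261 := d11_1 D46917 (iv D42261) D42260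
theorem F209850 : act 2 n46917 = n43059 := d18_1 D46917 (iv D43059) (iv F176635)
theorem F209851 : act 3 n46917 = n43626 := d24_1 D46917 F204476 F204552 F174151 (iv F176636)
theorem F209852 : act 7 n46917 = n46917 := d32_2 F176638 D46917 (iv D46917)
theorem F209853 : act 8 n46917 = n43058 := d33_2 F209758 D46917 F209759
theorem F209854 : act 5 n45798 = n46917 := d45_3 F204517 (iv F133931) (iv F190530) (iv D46917) F176636 (iv D29027) (iv D19953) (iv D13729) D13730 (iv F85904) (iv F122893) F122895 (iv F204012) F66218 F203692 F63427 (iv F90645) (iv D21028) F63425 (iv D14452) F44547 F44546 F31396 (iv F31443) (iv F44609) (iv F202341) D10163 (iv F64407) F202460 F90902 (iv F85974) (iv F123003) F123002 (iv F121328) F121329 (iv D19658) (iv D13532) F41854 D13531 F204964 F46605 F32942 F23321 F16574 F16578 F204930 F11818 F8429 F8428 F6028 F6027 (iv F8400) (iv F11537) (iv D2355) (iv D1634) F5862 (iv D790) (iv D546) (iv F2824) D755 F3989 F3990 (iv F4143) F4142 (iv F5587) (iv F7739) D2207 D3174 F15223 (iv F15022) (iv D3133) F10710 (iv F10616) D3105 D4474 D6458 F29574 (iv F41883)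 (iv F59490) F204938 F46712 F204916 (iv F46879) F46880 (iv F65510) F65509 F65508 (iv F93570) (iv F204516)
def n46918 : Q := act 9 n42260
theorem D46918 : act 9 n42260 = n46918 := rfl
theorem F209855 : act 1 n46918 = n42262 := d16_1 D46918 (iv D42262) D42260
theorem F209856 : act 2 n46918 = n43060 := d23_1 D46918 (iv D43060) (iv F176635)
theorem F209857 : act 3 n46918 = n42290 := d29_1 D46918 (iv D42290) (iv F176636)
theorem F209858 : act 5 n46918 = n44901 := d38_1 D46918 (iv D44901) (iv F176637)
theorem F209859 : act 7 n46918 = n46918 := d43_1 D46918 (iv D46918) F176638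
def n46919 : Q := act 5 n42261
theorem D46919 : act 5 n42261 = n46919 := rfl
theorem F209860 : act 0 n46919 = n43693 := d4_1 D46919 F182496 (iv F204543)
theorem F209861 : act 1 n46919 = n45798 := d12_1 D46919 F209854 F209849
theorem F209862 : act 2 n46919 = n42263 := d19_1 D46919 (iv D42263) (iv F176639)
theorem F209863 : act 3 n46919 = n43692 := d25_1 D46919 F182493 (iv F204544)
theorem F209864 : act 4 n46919 = n44902 := d30_1 D46919 (iv D44902) (iv D30781) (iv F123136) D42261
theorem F209865 : act 7 n46919 = n46919 := d36_2 F176640 D46919 (iv D46919)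
theorem F209866 : act 8 n46919 = n45737 := d37_2 F209764 D46919 F209766
def n46920 : Q := act 9 n42261
theorem D46920 : act 9 n42261 = n46920 := rfl
theorem F209867 : act 0 n46920 = n45884 := d8_1 D46920 F190789 (iv F204543)
theorem F209868 : act 2 n46920 = n42264 := d23_1 D46920 (iv D42264) (iv F176639)
theorem F209869 : act 3 n46920 = n45883 := d29_1 D46920 F190786 (iv F204544)
theorem F209870 : act 4 n46920 = n42262 := d34_1 D46920 (iv D42262) D42261
theorem F209871 : act 7 n46920 = n46920 := d43_1 D46920 (iv D46920) F176640
def n46921 : Q := act 8 n42262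
theorem D46921 : act 8 n42262 = n46921 := rfl
theorem F209872 : act 2 n46921 = n42265 := d22_1 D46921 (iv D42265) (iv F176641)
theorem F209873 : act 5 n46921 = n44904 := d37_1 D46921 (iv D44904) (iv F176643)
theorem F209874 : act 7 n46921 = n46921 := d42_1 D46921 (iv D46921) F176644
def n46922 : Q := act 6 n42263
theorem D46922 : act 6 n42263 = n46922 := rfl
theorem F209875 : act 1 n46922 = n43064 := d13_1 D46922 (iv D43064) (iv F176645)
theorem F209876 : act 3 n46922 = n42271 := d26_1 D46922 (iv D42271) (iv F176646)
theorem F209877 : act 4 n46922 = n44905 := d31_1 D46922 (iv D44905) (iv F176647)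
def n46923 : Q := act 9 n42263
theorem D46923 : act 9 n42263 = n46923 := rfl
theorem F209878 : act 1 n46923 = n43065 := d16_1 D46923 (iv D43065) (iv F176645)
theorem F209879 : act 3 n46923 = n42272 := d29_1 D46923 (iv D42272) (iv F176646)
theorem F209880 : act 4 n46923 = n44906 := d34_1 D46923 (iv D44906) (iv F176647)
theorem F209881 : act 5 n46923 = n42264 := d38_1 D46923 (iv D42264) D42263
theorem F209882 : act 7 n46923 = n46923 := d43_1 D46923 (iv D46923) F176648
def n46924 : Q := act 8 n42264
theorem D46924 : act 8 n42264 = n46924 := rfl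
theorem F209883 : act 1 n46924 = n43066 := d15_1 D46924 (iv D43066) (iv F176649)
theorem F209884 : act 4 n46924 = n42265 := d33_1 D46924 (iv D42265) (iv F176651)
theorem F209885 : act 7 n46924 = n46924 := d42_1 D46924 (iv D46924) F176652
def n46925 : Q := act 5 n42266
theorem D46925 : act 5 n42266 = n46925 := rfl
theorem F209886 : act 0 n46925 = n45433 := d4_1 D46925 F189226 (iv F206637)
theorem F209887 : act 1 n46925 = n43067 := d12_1 D46925 (iv D43067) (iv F176656)
theorem F209888 : act 2 n46925 = n45362 := d19_1 D46925 F189032 F206636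
theorem F209889 : act 4 n46925 = n45361 := d30_1 D46925 F189027 F131648 F205108 D42266
theorem F209890 : act 7 n46925 = n42268 := d36_2 (iv F176658) D46925 (iv D42268)
theorem F209891 : act 8 n46925 = n46925 := d37_2 F176659 D46925 (iv D46925)
def n46926 : Q := act 9 n42266
theorem D46926 : act 9 n42266 = n46926 := rfl
theorem F209892 : act 0 n46926 = n46413 := d8_1 D46926 (iv D46413) (iv F206637)
theorem F209893 : act 1 n46926 = n43068 := d16_1 D46926 (iv D43068) (iv F176656)
theorem F209894 : act 2 n46926 = n46374 := d23_1 D46926 (iv D46374) F206636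
theorem F209895 : act 4 n46926 = n42267 := d34_1 D46926 (iv D42267) D42266
theorem F209896 : act 6 n46926 = n46926 := d41_1 D46926 (iv D46926) F176657
theorem F209897 : act 7 n46926 = n42269 := d43_1 D46926 (iv D42269) (iv F176658)
def n46927 : Q := act 8 n42267
theorem D46927 : act 8 n42267 = n46927 := rfl
theorem F209898 : act 0 n46927 = n46414 := d7_1 D46927 (iv D46414) (iv F206448)
theorem F209899 : act 1 n46927 = n43069 := d15_1 D46927 (iv D43069) (iv F176660)
theorem F209900 : act 2 n46927 = n46375 := d22_1 D46927 (iv D46375) (iv F206485)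
theorem F209901 : act 5 n46927 = n46377 := d37_1 D46927 (iv D46377) F206473
theorem F209902 : act 6 n46927 = n46927 := d40_1 D46927 (iv D46927) F176662
theorem F209903 : act 7 n46927 = n42270 := d42_1 D46927 (iv D42270) (iv F176663)
theorem F209904 : act 9 n46927 = n46927 := d44_2 D42267 D46927 (iv D46927) (iv D42267) F123148
def n46928 : Q := act 6 n42268
theorem D46928 : act 6 n42268 = n46928 := rfl
theorem F209905 : act 1 n46928 = n43070 := d13_1 D46928 (iv D43070) (iv F176664)
theorem F209906 : act 5 n46928 = n42271 := d35_1 D46928 (iv D42271) (iv D29013) (iv F123154) D42268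
theorem F209907 : act 8 n46928 = n46928 := d40_2 F176665 D46928 (iv D46928)
def n46929 : Q := act 9 n42268
theorem D46929 : act 9 n42268 = n46929 := rfl
theorem F209908 : act 1 n46929 = n43071 := d16_1 D46929 (iv D43071) (iv F176664)
theorem F209909 : act 5 n46929 = n42269 := d38_1 D46929 (iv D42269) D42268
def n46930 : Q := act 8 n42269
theorem D46930 : act 8 n42269 = n46930 := rfl
theorem F209910 : act 1 n46930 = n43072 := d15_1 D46930 (iv D43072) (iv F176666)
theorem F209911 : act 4 n46930 = n42270 := d33_1 D46930 (iv D42270) (iv F176667)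
theorem F209912 : act 6 n46930 = n42273 := d40_1 D46930 (iv D42273) (iv F176668)
theorem F209913 : act 9 n46930 = n46930 := d44_2 D42269 D46930 (iv D46930) (iv D42269) F123155
def n46931 : Q := act 7 n42271
theorem D46931 : act 7 n42271 = n46931 := rfl
theorem F209914 : act 1 n46931 = n43073 := d14_1 D46931 (iv D43073) (iv F176672)
theorem F209915 : act 4 n46931 = n42274 := d32_1 D46931 (iv D42274) (iv F176673)
theorem F209916 : act 6 n46931 = n46931 := d39_1 D46931 (iv D46931) (iv D42271) F123161 D42271
theorem F209917 : act 8 n46931 = n46931 := d42_2 F176674 D46931 (iv D46931)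
def n46932 : Q := act 9 n42271
theorem D46932 : act 9 n42271 = n46932 := rfl
theorem F209918 : act 1 n46932 = n43074 := d16_1 D46932 (iv D43074) (iv F176672)
theorem F209919 : act 4 n46932 = n42275 := d34_1 D46932 (iv D42275) (iv F176673)
theorem F209920 : act 6 n46932 = n42272 := d41_1 D46932 (iv D42272) D42271
def n46933 : Q := act 8 n42272
theorem D46933 : act 8 n42272 = n46933 := rfl
theorem F209921 : act 1 n46933 = n43075 := d15_1 D46933 (iv D43075) (iv F176675)
theorem F209922 : act 4 n46933 = n42276 := d33_1 D46933 (iv D42276) (iv F176676)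
theorem F209923 : act 5 n46933 = n42273 := d37_1 D46933 (iv D42273) (iv F176677)
theorem F209924 : act 7 n46933 = n46933 := d42_1 D46933 (iv D46933) F176678
theorem F209925 : act 9 n46933 = n46933 := d44_2 D42272 D46933 (iv D46933) (iv D42272) F123162
def n46934 : Q := act 3 n42273
theorem D46934 : act 3 n42273 = n46934 := rfl
theorem F209926 : act 1 n46934 = n43076 := d10_1 D46934 (iv D43076) (iv F176679)
theorem F209927 : act 7 n46934 = n46934 := d27_2 F176681 D46934 (iv D46934)
theorem F209928 : act 9 n46934 = n46934 := d29_2 F176682 D46934 (iv D46934)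
def n46935 : Q := act 9 n42274
theorem D46935 : act 9 n42274 = n46935 := rfl
theorem F209929 : act 1 n46935 = n43077 := d16_1 D46935 (iv D43077) (iv F176683)
theorem F209930 : act 3 n46935 = n44918 := d29_1 D46935 (iv D44918) (iv F176684)
theorem F209931 : act 6 n46935 = n46935 := d41_1 D46935 (iv D46935) F176685
theorem F209932 : act 7 n46935 = n42275 := d43_1 D46935 (iv D42275) D42274
def n46936 : Q := act 8 n42275
theorem D46936 : act 8 n42275 = n46936 := rfl
theorem F209933 : act 1 n46936 = n43078 := d15_1 D46936 (iv D43078) (iv F176687)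
theorem F209934 : act 6 n46936 = n42276 := d40_1 D46936 (iv D42276) (iv F176689)
theorem F209935 : act 9 n46936 = n46936 := d44_2 D42275 D46936 (iv D46936) (iv D42275) F123172
def n46937 : Q := act 9 n42278
theorem D46937 : act 9 n42278 = n46937 := rfl
theorem F209936 : act 1 n46937 = n42293 := d16_1 D46937 (iv D42293) (iv F176698)
theorem F209937 : act 5 n46937 = n46937 := d38_1 D46937 (iv D46937) F176699
theorem F209938 : act 6 n46937 = n42280 := d41_1 D46937 (iv D42280) (iv F176700)
theorem F209939 : act 7 n46937 = n44923 := d43_1 D46937 (iv D44923) (iv F176701)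
def n46938 : Q := act 2 n42279
theorem D46938 : act 2 n42279 = n46938 := rfl
theorem F209940 : act 0 n46938 = n46477 := d1_1 D46938 F207397 (iv F206549)
theorem F209941 : act 4 n46938 = n44755 := d18_2 (iv F205256) D46938 (iv D44755)
theorem F209942 : act 5 n46938 = n42284 := d19_2 (iv F176703) D46938 (iv D42284)
theorem F209943 : act 7 n46938 = n42281 := d21_2 (iv F176704) D46938 (iv D42281)
theorem F209944 : act 8 n46938 = n46938 := d22_2 F176705 D46938 (iv D46938)
def n46939 : Q := act 9 n42279
theorem D46939 : act 9 n42279 = n46939 := rfl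
theorem F209945 : act 0 n46939 = n46481 := d8_1 D46939 (iv D46481) (iv F206549)
theorem F209946 : act 1 n46939 = n42296 := d16_1 D46939 (iv D42296) (iv F176702)
theorem F209947 : act 3 n46939 = n42280 := d29_1 D46939 (iv D42280) D42279
theorem F209948 : act 4 n46939 = n44757 := d34_1 D46939 (iv D44757) (iv F205256)
theorem F209949 : act 5 n46939 = n42285 := d38_1 D46939 (iv D42285) (iv F176703)
theorem F209950 : act 7 n46939 = n42283 := d43_1 D46939 (iv D42283) (iv F176704)
def n46940 : Q := act 1 n42281
theorem D46940 : act 1 n42281 = n46940 := rfl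
theorem F209951 : act 2 n46940 = n42297 := d9_2 D42281 D46940 (iv D42297) (iv D29033) (iv F123188)
theorem F209952 : act 5 n46940 = n42286 := d12_2 (iv F176709) D46940 (iv D42286)
theorem F209953 : act 6 n46940 = n44927 := d13_2 (iv F176710) D46940 (iv D44927)
theorem F209954 : act 8 n46940 = n46940 := d15_2 F176711 D46940 (iv D46940)
def n46941 : Q := act 4 n42281
theorem D46941 : act 4 n42281 = n46941 := rfl
theorem F209955 : act 0 n46941 = n46486 := d3_1 D46941 (iv F209672) F209671
theorem F209956 : act 2 n46941 = n42282 := d18_1 D46941 (iv D42282) D42281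
theorem F209957 : act 5 n46941 = n44758 := d30_2 (iv F176709) D46941 F206730 F206648 F174143
theorem F209958 : act 6 n46941 = n44928 := d31_2 (iv F176710) D46941 (iv D44928)
theorem F209959 : act 7 n46941 = n44755 := d32_2 F209943 D46941 (iv F209941)
theorem F209960 : act 8 n46941 = n46941 := d33_2 F176711 D46941 (iv D46941)
def n46942 : Q := act 9 n42281
theorem D46942 : act 9 n42281 = n46942 := rfl
theorem F209961 : act 2 n46942 = n42283 := d23_1 D46942 (iv D42283) D42281
theorem F209962 : act 5 n46942 = n42287 := d38_1 D46942 (iv D42287) (iv F176709)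
theorem F209963 : act 6 n46942 = n44929 := d41_1 D46942 (iv D44929) (iv F176710)
def n46943 : Q := act 9 n42282
theorem D46943 : act 9 n42282 = n46943 := rfl
theorem F209964 : act 0 n46943 = n46489 := d8_1 D46943 (iv D46489) (iv F206551)
theorem F209965 : act 1 n46943 = n42300 := d16_1 D46943 (iv D42300) (iv F176712)
theorem F209966 : act 3 n46943 = n44754 := d29_1 D46943 (iv D44754) (iv F205288)
theorem F209967 : act 4 n46943 = n42283 := d34_1 D46943 (iv D42283) D42282
theorem F209968 : act 5 n46943 = n44759 := d38_1 D46943 (iv D44759) (iv F205289)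
theorem F209969 : act 6 n46943 = n44930 := d41_1 D46943 (iv D44930) (iv F176713)
theorem F209970 : act 7 n46943 = n44757 := d43_1 D46943 (iv D44757) (iv F205290)
def n46944 : Q := act 8 n42283
theorem D46944 : act 8 n42283 = n46944 := rfl
theorem F209971 : act 1 n46944 = n42301 := d15_1 D46944 (iv D42301) (iv F176715)
theorem F209972 : act 5 n46944 = n42288 := d37_1 D46944 (iv D42288) (iv F176717)
theorem F209973 : act 6 n46944 = n44931 := d40_1 D46944 (iv D44931) (iv F176718)
theorem F209974 : act 9 n46944 = n46944 := d44_2 D42283 D46944 (iv D46944) (iv D42283) F123191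
def n46945 : Q := act 1 n42284
theorem D46945 : act 1 n42284 = n46945 := rfl
theorem F209975 : act 2 n46945 = n42302 := d9_2 D42284 D46945 (iv D42302) (iv D29036) (iv F123195)
theorem F209976 : act 4 n46945 = n46442 := d11_2 F206643 D46945 (iv D46442)
theorem F209977 : act 6 n46945 = n46945 := d13_2 F176719 D46945 (iv D46945)
theorem F209978 : act 7 n46945 = n42286 := d14_2 (iv F176720) D46945 (iv D42286)
theorem F209979 : act 8 n46945 = n46945 := d15_2 F176721 D46945 (iv D46945)
def n46946 : Q := act 9 n42284
theorem D46946 : act 9 n42284 = n46946 := rfl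
theorem F209980 : act 0 n46946 = n46478 := d8_1 D46946 (iv D46478) (iv F206644)
theorem F209981 : act 2 n46946 = n42285 := d23_1 D46946 (iv D42285) D42284
theorem F209982 : act 4 n46946 = n46443 := d34_1 D46946 (iv D46443) F206643
theorem F209983 : act 6 n46946 = n46946 := d41_1 D46946 (iv D46946) F176719
theorem F209984 : act 7 n46946 = n42287 := d43_1 D46946 (iv D42287) (iv F176720)
def n46947 : Q := act 8 n42285
theorem D46947 : act 8 n42285 = n46947 := rfl
theorem F209985 : act 0 n46947 = n46482 := d7_1 D46947 (iv D46482) F206630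
theorem F209986 : act 1 n46947 = n42304 := d15_1 D46947 (iv D42304) (iv F176722)
theorem F209987 : act 4 n46947 = n46444 := d33_1 D46947 (iv D46444) (iv F206629)
theorem F209988 : act 6 n46947 = n46947 := d40_1 D46947 (iv D46947) F176724
theorem F209989 : act 7 n46947 = n42288 := d42_1 D46947 (iv D42288) (iv F176725)
theorem F209990 : act 9 n46947 = n46947 := d44_2 D42285 D46947 (iv D46947) (iv D42285) F123198
def n46948 : Q := act 0 n42286
theorem D46948 : act 0 n42286 = n46948 := rfl
theorem F209991 : act 1 n46948 = n46525 := d0_2 D42286 D46948 F207582 F206650 F176548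
theorem F209992 : act 2 n46948 = n42305 := d1_2 (iv F176726) D46948 (iv D42305)
theorem F209993 : act 4 n46948 = n46524 := d3_2 F207958 D46948 (iv F207955)
theorem F209994 : act 6 n46948 = n42289 := d5_2 (iv F176727) D46948 (iv D42289)
theorem F209995 : act 8 n46948 = n46948 := d7_2 F176728 D46948 (iv D46948)
def n46949 : Q := act 9 n42286
theorem D46949 : act 9 n42286 = n46949 := rfl
theorem F209996 : act 1 n46949 = n42287 := d16_1 D46949 (iv D42287) D42286
theorem F209997 : act 2 n46949 = n42306 := d23_1 D46949 (iv D42306) (iv F176726)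
theorem F209998 : act 6 n46949 = n42290 := d41_1 D46949 (iv D42290) (iv F176727)
def n46950 : Q := act 8 n42287
theorem D46950 : act 8 n42287 = n46950 := rfl
theorem F209999 : act 2 n46950 = n42288 := d22_1 D46950 (iv D42288) (iv F176729)
theorem F210000 : act 6 n46950 = n42291 := d40_1 D46950 (iv D42291) (iv F176730)
theorem F210001 : act 9 n46950 = n46950 := d44_2 D42287 D46950 (iv D46950) (iv D42287) F123204
def n46951 : Q := act 9 n42289
theorem D46951 : act 9 n42289 = n46951 := rfl
theorem F210002 : act 0 n46951 = n42290 := d8_1 D46951 (iv D42290) D42289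
theorem F210003 : act 1 n46951 = n46470 := d16_1 D46951 F207366 F204550
theorem F210004 : act 2 n46951 = n42308 := d23_1 D46951 (iv D42308) (iv F176734)
theorem F210005 : act 4 n46951 = n46469 := d34_1 D46951 F207362 (iv F204549)
theorem F210006 : act 5 n46951 = n44938 := d38_1 D46951 (iv D44938) (iv F176735)
theorem F210007 : act 7 n46951 = n46951 := d43_1 D46951 (iv D46951) F176736
def n46952 : Q := act 8 n42290
theorem D46952 : act 8 n42290 = n46952 := rfl
theorem F210008 : act 1 n46952 = n42291 := d15_1 D46952 (iv D42291) (iv F176738)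
theorem F210009 : act 2 n46952 = n42309 := d22_1 D46952 (iv D42309) (iv F176739)
theorem F210010 : act 5 n46952 = n44939 := d37_1 D46952 (iv D44939) (iv F176740)
theorem F210011 : act 7 n46952 = n46952 := d42_1 D46952 (iv D46952) F176741
theorem F210012 : act 9 n46952 = n46952 := d44_2 D42290 D46952 (iv D46952) (iv D42290) F123211
def n46953 : Q := act 3 n42291
theorem D46953 : act 3 n42291 = n46953 := rfl
theorem F210013 : act 5 n46953 = n44940 := d25_2 (iv F176743) D46953 (iv D44940)
theorem F210014 : act 7 n46953 = n46953 := d27_2 F176744 D46953 (iv D46953)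
theorem F210015 : act 9 n46953 = n46953 := d29_2 F176745 D46953 (iv D46953)
def n46954 : Q := act 1 n42294
theorem D46954 : act 1 n42294 = n46954 := rfl
theorem F210016 : act 3 n46954 = n43103 := d10_2 (iv F176757) D46954 (iv D43103)
theorem F210017 : act 4 n46954 = n44771 := d11_2 (iv F205257) D46954 (iv D44771)
theorem F210018 : act 5 n46954 = n42302 := d12_2 (iv F176758) D46954 (iv D42302)
theorem F210019 : act 7 n46954 = n42297 := d14_2 (iv F176759) D46954 (iv D42297)
theorem F210020 : act 8 n46954 = n46954 := d15_2 F176760 D46954 (iv D46954)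
def n46955 : Q := act 9 n42294
theorem D46955 : act 9 n42294 = n46955 := rfl
theorem F210021 : act 0 n46955 = n46955 := d8_1 D46955 (iv D46955) F176756
theorem F210022 : act 2 n46955 = n42296 := d23_1 D46955 (iv D42296) D42294
theorem F210023 : act 3 n46955 = n43105 := d29_1 D46955 (iv D43105) (iv F176757)
theorem F210024 : act 4 n46955 = n44773 := d34_1 D46955 (iv D44773) (iv F205257)
theorem F210025 : act 5 n46955 = n42303 := d38_1 D46955 (iv D42303) (iv F176758)
theorem F210026 : act 7 n46955 = n42299 := d43_1 D46955 (iv D42299) (iv F176759)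
def n46956 : Q := act 8 n42296
theorem D46956 : act 8 n42296 = n46956 := rfl
theorem F210027 : act 0 n46956 = n46956 := d7_1 D46956 (iv D46956) F176764
theorem F210028 : act 4 n46956 = n44775 := d33_1 D46956 (iv D44775) (iv F205263)
theorem F210029 : act 5 n46956 = n42304 := d37_1 D46956 (iv D42304) (iv F176766)
theorem F210030 : act 7 n46956 = n42301 := d42_1 D46956 (iv D42301) (iv F176767)
theorem F210031 : act 9 n46956 = n46956 := d44_2 D42296 D46956 (iv D46956) (iv D42296) F123227
def n46957 : Q := act 0 n42297
theorem D46957 : act 0 n42297 = n46957 := rfl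
theorem F210032 : act 1 n46957 = n46957 := d0_2 D42297 D46957 (iv D46957) (iv D42297) F123232
theorem F210033 : act 3 n46957 = n43108 := d2_2 (iv F176768) D46957 (iv D43108)
theorem F210034 : act 5 n46957 = n42305 := d4_2 (iv F176769) D46957 (iv D42305)
theorem F210035 : act 6 n46957 = n44949 := d5_2 (iv F176770) D46957 (iv D44949)
theorem F210036 : act 8 n46957 = n46957 := d7_2 F176771 D46957 (iv D46957)
def n46958 : Q := act 4 n42297
theorem D46958 : act 4 n42297 = n46958 := rfl
theorem F210037 : act 1 n46958 = n42298 := d11_1 D46958 (iv D42298) D42297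
theorem F210038 : act 5 n46958 = n44776 := d30_2 (iv F176769) D46958 (iv F207994) F207995 F174204
theorem F210039 : act 6 n46958 = n44950 := d31_2 (iv F176770) D46958 (iv D44950)
theorem F210040 : act 7 n46958 = n44771 := d32_2 F210019 D46958 (iv F210017)
theorem F210041 : act 8 n46958 = n46958 := d33_2 F176771 D46958 (iv D46958)
theorem F210042 : act 3 n45629 = n46958 := d27_3 F210040 F186833 (iv F189922)
def n46959 : Q := act 9 n42297
theorem D46959 : act 9 n42297 = n46959 := rfl
theorem F210043 : act 1 n46959 = n42299 := d16_1 D46959 (iv D42299) D42297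
theorem F210044 : act 3 n46959 = n43110 := d29_1 D46959 (iv D43110) (iv F176768)
theorem F210045 : act 5 n46959 = n42306 := d38_1 D46959 (iv D42306) (iv F176769)
theorem F210046 : act 6 n46959 = n44951 := d41_1 D46959 (iv D44951) (iv F176770)
def n46960 : Q := act 9 n42298
theorem D46960 : act 9 n42298 = n46960 := rfl
theorem F210047 : act 0 n46960 = n46960 := d8_1 D46960 (iv D46960) F176772
theorem F210048 : act 2 n46960 = n42300 := d23_1 D46960 (iv D42300) (iv F176773)
theorem F210049 : act 3 n46960 = n45631 := d29_1 D46960 (iv D45631) (iv F205291)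
theorem F210050 : act 4 n46960 = n42299 := d34_1 D46960 (iv D42299) D42298
theorem F210051 : act 5 n46960 = n44777 := d38_1 D46960 (iv D44777) (iv F205292)
theorem F210052 : act 6 n46960 = n44953 := d41_1 D46960 (iv D44953) (iv F176774)
theorem F210053 : act 7 n46960 = n44773 := d43_1 D46960 (iv D44773) (iv F205293)
def n46961 : Q := act 8 n42299
theorem D46961 : act 8 n42299 = n46961 := rfl
theorem F210054 : act 0 n46961 = n46961 := d7_1 D46961 (iv D46961) F176776
theorem F210055 : act 2 n46961 = n42301 := d22_1 D46961 (iv D42301) (iv F176777)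
theorem F210056 : act 5 n46961 = n42307 := d37_1 D46961 (iv D42307) (iv F176779)
theorem F210057 : act 6 n46961 = n44954 := d40_1 D46961 (iv D44954) (iv F176780)
theorem F210058 : act 9 n46961 = n46961 := d44_2 D42299 D46961 (iv D46961) (iv D42299) F123236
def n46962 : Q := act 8 n42300
theorem D46962 : act 8 n42300 = n46962 := rfl
theorem F210059 : act 0 n46962 = n46962 := d7_1 D46962 (iv D46962) F176781
theorem F210060 : act 3 n46962 = n44948 := d28_1 D46962 (iv D44948) F130590 (iv F130133) (iv F205295)
theorem F210061 : act 4 n46962 = n42301 := d33_1 D46962 (iv D42301) (iv F176782)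
theorem F210062 : act 5 n46962 = n44778 := d37_1 D46962 (iv D44778) (iv F205296)
theorem F210063 : act 6 n46962 = n44955 := d40_1 D46962 (iv D44955) (iv F176783)
theorem F210064 : act 7 n46962 = n44775 := d42_1 D46962 (iv D44775) (iv F205297)
theorem F210065 : act 9 n46962 = n46962 := d44_2 D42300 D46962 (iv D46962) (iv D42300) F123239
def n46963 : Q := act 0 n42302
theorem D46963 : act 0 n42302 = n46963 := rfl
theorem F210066 : act 1 n46963 = n46963 := d0_2 D42302 D46963 (iv D46963) (iv D42302) F123244
theorem F210067 : act 3 n46963 = n43115 := d2_2 (iv F176788) D46963 (iv D43115)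
theorem F210068 : act 6 n46963 = n46963 := d5_2 F176789 D46963 (iv D46963)
theorem F210069 : act 7 n46963 = n42305 := d6_2 (iv F176790) D46963 (iv D42305)
theorem F210070 : act 8 n46963 = n46963 := d7_2 F176791 D46963 (iv D46963)
def n46964 : Q := act 9 n42302
theorem D46964 : act 9 n42302 = n46964 := rfl
theorem F210071 : act 1 n46964 = n42303 := d16_1 D46964 (iv D42303) D42302
theorem F210072 : act 3 n46964 = n43116 := d29_1 D46964 (iv D43116) (iv F176788)
theorem F210073 : act 6 n46964 = n46964 := d41_1 D46964 (iv D46964) F176789
theorem F210074 : act 7 n46964 = n42306 := d43_1 D46964 (iv D42306) (iv F176790)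
def n46965 : Q := act 8 n42303
theorem D46965 : act 8 n42303 = n46965 := rfl
theorem F210075 : act 0 n46965 = n46965 := d7_1 D46965 (iv D46965) F176792
theorem F210076 : act 2 n46965 = n42304 := d22_1 D46965 (iv D42304) (iv F176793)
theorem F210077 : act 6 n46965 = n46965 := d40_1 D46965 (iv D46965) F176795
theorem F210078 : act 7 n46965 = n42307 := d42_1 D46965 (iv D42307) (iv F176796)
theorem F210079 : act 9 n46965 = n46965 := d44_2 D42303 D46965 (iv D46965) (iv D42303) F123248
def n46966 : Q := act 9 n42305
theorem D46966 : act 9 n42305 = n46966 := rfl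
theorem F210080 : act 0 n46966 = n42306 := d8_1 D46966 (iv D42306) D42305
theorem F210081 : act 1 n46966 = n46966 := d16_1 D46966 (iv D46966) F176801
theorem F210082 : act 3 n46966 = n43118 := d29_1 D46966 (iv D43118) (iv F176802)
theorem F210083 : act 6 n46966 = n42308 := d41_1 D46966 (iv D42308) (iv F176803)
def n46967 : Q := act 8 n42306
theorem D46967 : act 8 n42306 = n46967 := rfl
theorem F210084 : act 1 n46967 = n42307 := d15_1 D46967 (iv D42307) (iv F176805)
theorem F210085 : act 6 n46967 = n42309 := d40_1 D46967 (iv D42309) (iv F176807)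
theorem F210086 : act 9 n46967 = n46967 := d44_2 D42306 D46967 (iv D46967) (iv D42306) F123255
def n46968 : Q := act 3 n42307
theorem D46968 : act 3 n42307 = n46968 := rfl
theorem F210087 : act 0 n46968 = n46968 := d2_1 D46968 (iv D46968) F176808
theorem F210088 : act 6 n46968 = n42310 := d26_2 (iv F176810) D46968 (iv D42310)
theorem F210089 : act 8 n46968 = n43120 := d28_2 D42307 D46968 (iv D43120) (iv D29586) (iv F123258)
theorem F210090 : act 9 n46968 = n46968 := d29_2 F176811 D46968 (iv D46968)
def n46969 : Q := act 8 n42308
theorem D46969 : act 8 n42308 = n46969 := rfl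
theorem F210091 : act 0 n46969 = n42309 := d7_1 D46969 (iv D42309) (iv F176812)
theorem F210092 : act 1 n46969 = n46969 := d15_1 D46969 (iv D46969) F176813
theorem F210093 : act 5 n46969 = n44962 := d37_1 D46969 (iv D44962) (iv F176815)
theorem F210094 : act 7 n46969 = n46969 := d42_1 D46969 (iv D46969) F176816
theorem F210095 : act 9 n46969 = n46969 := d44_2 D42308 D46969 (iv D46969) (iv D42308) F123267
def n46970 : Q := act 3 n42309
theorem D46970 : act 3 n42309 = n46970 := rfl
theorem F210096 : act 1 n46970 = n42310 := d10_1 D46970 (iv D42310) (iv F176817)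
theorem F210097 : act 5 n46970 = n44963 := d25_2 (iv F176818) D46970 (iv D44963)
theorem F210098 : act 7 n46970 = n46970 := d27_2 F176819 D46970 (iv D46970)
theorem F210099 : act 8 n46970 = n43122 := d28_2 D42309 D46970 (iv D43122) (iv D29588) (iv F123269)
theorem F210100 : act 9 n46970 = n46970 := d29_2 F176820 D46970 (iv D46970)
def n46971 : Q := act 4 n42310
theorem D46971 : act 4 n42310 = n46971 := rfl
theorem F210101 : act 0 n46971 = n46971 := d3_1 D46971 (iv D46971) F176821
theorem F210102 : act 7 n46971 = n46971 := d32_2 F176823 D46971 (iv D46971)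
theorem F210103 : act 8 n46971 = n43123 := d33_2 (iv F176824) D46971 (iv D43123)
theorem F210104 : act 9 n46971 = n46971 := d34_2 F176825 D46971 (iv D46971)
def n46972 : Q := act 9 n42312
theorem D46972 : act 9 n42312 = n46972 := rfl
theorem F210105 : act 0 n46972 = n46972 := d8_1 D46972 (iv D46972) F176832
theorem F210106 : act 1 n46972 = n42317 := d16_1 D46972 (iv D42317) (iv F176833)
theorem F210107 : act 2 n46972 = n46972 := d23_1 D46972 (iv D46972) F176834
theorem F210108 : act 3 n46972 = n46362 := d29_1 D46972 (iv D46362) F206329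
theorem F210109 : act 4 n46972 = n46972 := d34_1 D46972 (iv D46972) F176835
theorem F210110 : act 5 n46972 = n42343 := d38_1 D46972 (iv D42343) (iv F199651)
theorem F210111 : act 6 n46972 = n46972 := d41_1 D46972 (iv D46972) F176836
theorem F210112 : act 7 n46972 = n42487 := d43_1 D46972 (iv D42487) (iv F176837)
theorem F210113 : act 8 n46972 = n46972 := d44_1 D46972 (iv D46972) (iv D42312) F123283 D42312
def n46973 : Q := act 3 n42315
theorem D46973 : act 3 n42315 = n46973 := rfl
theorem F210114 : act 0 n46973 = n42328 := d2_1 D46973 (iv D42328) (iv F176848)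
theorem F210115 : act 1 n46973 = n42342 := d10_1 D46973 (iv D42342) (iv F199576)
theorem F210116 : act 2 n46973 = n42357 := d17_1 D46973 (iv D42357) F123432 (iv F123307) (iv F176849)
theorem F210117 : act 4 n46973 = n42386 := d24_2 (iv F199577) D46973 (iv D42386) F123515 (iv F123364)
theorem F210118 : act 5 n46973 = n42316 := d25_2 (iv F176850) D46973 (iv D42316)
theorem F210119 : act 6 n46973 = n42335 := d26_2 (iv F199578) D46973 (iv D42335)
theorem F210120 : act 7 n46973 = n42493 := d27_2 (iv F176851) D46973 (iv D42493)
theorem F210121 : act 8 n46973 = n46973 := d28_2 D42315 D46973 (iv D46973) (iv D42315) F123286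
def n46974 : Q := act 9 n42315
theorem D46974 : act 9 n42315 = n46974 := rfl
theorem F210122 : act 0 n46974 = n42329 := d8_1 D46974 (iv D42329) (iv F176848)
theorem F210123 : act 1 n46974 = n42343 := d16_1 D46974 (iv D42343) (iv F199576)
theorem F210124 : act 2 n46974 = n42322 := d23_1 D46974 (iv D42322) (iv F176849)
theorem F210125 : act 4 n46974 = n42338 := d34_1 D46974 (iv D42338) (iv F199577)
theorem F210126 : act 5 n46974 = n42317 := d38_1 D46974 (iv D42317) (iv F176850)
theorem F210127 : act 6 n46974 = n42336 := d41_1 D46974 (iv D42336) (iv F199578)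
theorem F210128 : act 7 n46974 = n42494 := d43_1 D46974 (iv D42494) (iv F176851)
theorem F210129 : act 8 n46974 = n46974 := d44_1 D46974 (iv D46974) (iv D42315) F123288 D42315
def n46975 : Q := act 9 n42316
theorem D46975 : act 9 n42316 = n46975 := rfl
theorem F210130 : act 0 n46975 = n42331 := d8_1 D46975 (iv D42331) (iv F176852)
theorem F210131 : act 1 n46975 = n46362 := d16_1 D46975 (iv D46362) (iv F206327)
theorem F210132 : act 2 n46975 = n42360 := d23_1 D46975 (iv D42360) (iv F176853)
theorem F210133 : act 3 n46975 = n42317 := d29_1 D46975 (iv D42317) D42316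
theorem F210134 : act 4 n46975 = n46361 := d34_1 D46975 (iv D46361) F206292
theorem F210135 : act 6 n46975 = n46975 := d41_1 D46975 (iv D46975) F176854
theorem F210136 : act 7 n46975 = n42496 := d43_1 D46975 (iv D42496) (iv F176855)
def n46976 : Q := act 3 n42319
theorem D46976 : act 3 n42319 = n46976 := rfl
theorem F210137 : act 0 n46976 = n42335 := d2_1 D46976 (iv D42335) (iv F176868)
theorem F210138 : act 1 n46976 = n46976 := d10_1 D46976 (iv D46976) F176869
theorem F210139 : act 2 n46976 = n42376 := d17_1 D46976 (iv D42376) F123487 (iv F123364) (iv F199649)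
theorem F210140 : act 4 n46976 = n42364 := d24_2 (iv F176870) D46976 (iv D42364) F123452 (iv F123307)
theorem F210141 : act 5 n46976 = n46976 := d25_2 F176871 D46976 (iv D46976)
theorem F210142 : act 6 n46976 = n42328 := d26_2 (iv F199650) D46976 (iv D42328)
theorem F210143 : act 7 n46976 = n42500 := d27_2 (iv F176872) D46976 (iv D42500)
theorem F210144 : act 8 n46976 = n46976 := d28_2 D42319 D46976 (iv D46976) (iv D42319) F123296
def n46977 : Q := act 9 n42319
theorem D46977 : act 9 n42319 = n46977 := rfl
theorem F210145 : act 0 n46977 = n42336 := d8_1 D46977 (iv D42336) (iv F176868)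
theorem F210146 : act 1 n46977 = n46977 := d16_1 D46977 (iv D46977) F176869
theorem F210147 : act 2 n46977 = n42338 := d23_1 D46977 (iv D42338) (iv F199649)
theorem F210148 : act 4 n46977 = n42322 := d34_1 D46977 (iv D42322) (iv F176870)
theorem F210149 : act 5 n46977 = n46977 := d38_1 D46977 (iv D46977) F176871
theorem F210150 : act 6 n46977 = n42329 := d41_1 D46977 (iv D42329) (iv F199650)
theorem F210151 : act 7 n46977 = n42501 := d43_1 D46977 (iv D42501) (iv F176872)
theorem F210152 : act 8 n46977 = n46977 := d44_1 D46977 (iv D46977) (iv D42319) F123299 D42319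
def n46978 : Q := act 9 n42321
theorem D46978 : act 9 n42321 = n46978 := rfl
theorem F210153 : act 0 n46978 = n42338 := d8_1 D46978 (iv D42338) (iv F176879)
theorem F210154 : act 1 n46978 = n46978 := d16_1 D46978 (iv D46978) F176880
theorem F210155 : act 2 n46978 = n42336 := d23_1 D46978 (iv D42336) (iv F199569)
theorem F210156 : act 3 n46978 = n42367 := d29_1 D46978 (iv D42367) (iv F176881)
theorem F210157 : act 4 n46978 = n42329 := d34_1 D46978 (iv D42329) (iv F199570)
theorem F210158 : act 5 n46978 = n46978 := d38_1 D46978 (iv D46978) F176882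
theorem F210159 : act 6 n46978 = n42322 := d41_1 D46978 (iv D42322) (iv F176883)
theorem F210160 : act 7 n46978 = n42510 := d43_1 D46978 (iv D42510) (iv F199571)
theorem F210161 : act 8 n46978 = n46978 := d44_1 D46978 (iv D46978) (iv D42321) F123304 D42321
def n46979 : Q := act 4 n42328
theorem D46979 : act 4 n42328 = n46979 := rfl
theorem F210162 : act 0 n46979 = n42386 := d3_1 D46979 (iv F210117) F210114
theorem F210163 : act 1 n46979 = n46979 := d11_1 D46979 (iv D46979) F176915
theorem F210164 : act 2 n46979 = n42378 := d18_1 D46979 (iv D42378) (iv F176916)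
theorem F210165 : act 3 n46979 = n42363 := d24_1 D46979 F177093 (iv F176881) F199570 D42328
theorem F210166 : act 5 n46979 = n45162 := d30_2 (iv F176917) D46979 F188352 (iv F206343) (iv D42330)
theorem F210167 : act 6 n46979 = n42364 := d31_2 F210142 D46979 (iv F210140)
theorem F210168 : act 7 n46979 = n42514 := d32_2 (iv F176918) D46979 (iv D42514)
theorem F210169 : act 8 n46979 = n46979 := d33_2 F176919 D46979 (iv D46979)
def n46980 : Q := act 9 n42328
theorem D46980 : act 9 n42328 = n46980 := rfl
theorem F210170 : act 1 n46980 = n46980 := d16_1 D46980 (iv D46980) F176915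
theorem F210171 : act 2 n46980 = n42379 := d23_1 D46980 (iv D42379) (iv F176916)
theorem F210172 : act 3 n46980 = n42329 := d29_1 D46980 (iv D42329) D42328
theorem F210173 : act 5 n46980 = n42331 := d38_1 D46980 (iv D42331) (iv F176917)
theorem F210174 : act 7 n46980 = n42515 := d43_1 D46980 (iv D42515) (iv F176918)
def n46981 : Q := act 9 n42330
theorem D46981 : act 9 n42330 = n46981 := rfl
theorem F210175 : act 0 n46981 = n46361 := d8_1 D46981 (iv D46361) F206291
theorem F210176 : act 1 n46981 = n46981 := d16_1 D46981 (iv D46981) F176925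
theorem F210177 : act 2 n46981 = n42381 := d23_1 D46981 (iv D42381) (iv F176926)
theorem F210178 : act 3 n46981 = n46981 := d29_1 D46981 (iv D46981) F176927
theorem F210179 : act 4 n46981 = n42331 := d34_1 D46981 (iv D42331) D42330
theorem F210180 : act 5 n46981 = n46367 := d38_1 D46981 (iv D46367) (iv F206343)
theorem F210181 : act 6 n46981 = n46981 := d41_1 D46981 (iv D46981) F176928
theorem F210182 : act 7 n46981 = n42517 := d43_1 D46981 (iv D42517) (iv F176929)
def n46982 : Q := act 8 n42331
theorem D46982 : act 8 n42331 = n46982 := rfl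
theorem F210183 : act 1 n46982 = n46982 := d15_1 D46982 (iv D46982) F176931
theorem F210184 : act 2 n46982 = n42382 := d22_1 D46982 (iv D42382) (iv F176932)
theorem F210185 : act 3 n46982 = n46982 := d28_1 D46982 (iv D46982) F176933 F123349 (iv F176933)
theorem F210186 : act 6 n46982 = n46982 := d40_1 D46982 (iv D46982) F176934
theorem F210187 : act 7 n46982 = n42518 := d42_1 D46982 (iv D42518) (iv F176935)
theorem F210188 : act 9 n46982 = n46982 := d44_2 D42331 D46982 (iv D46982) (iv D42331) F123343
def n46983 : Q := act 2 n42335
theorem D46983 : act 2 n42335 = n46983 := rfl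
theorem F210189 : act 0 n46983 = n42376 := d1_1 D46983 (iv F210139) F210137
theorem F210190 : act 3 n46983 = n42356 := d17_2 D42335 D46983 F177058 (iv F176881) F199569
theorem F210191 : act 4 n46983 = n42388 := d18_2 (iv F176950) D46983 (iv D42388)
theorem F210192 : act 5 n46983 = n46983 := d19_2 F176951 D46983 (iv D46983)
theorem F210193 : act 6 n46983 = n42357 := d20_2 F210119 D46983 (iv F210116)
theorem F210194 : act 7 n46983 = n42524 := d21_2 (iv F176952) D46983 (iv D42524)
theorem F210195 : act 8 n46983 = n46983 := d22_2 F176953 D46983 (iv D46983)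
def n46984 : Q := act 9 n42335
theorem D46984 : act 9 n42335 = n46984 := rfl
theorem F210196 : act 1 n46984 = n42345 := d16_1 D46984 (iv D42345) (iv F176949)
theorem F210197 : act 3 n46984 = n42336 := d29_1 D46984 (iv D42336) D42335
theorem F210198 : act 4 n46984 = n42389 := d34_1 D46984 (iv D42389) (iv F176950)
theorem F210199 : act 5 n46984 = n46984 := d38_1 D46984 (iv D46984) F176951
theorem F210200 : act 7 n46984 = n42525 := d43_1 D46984 (iv D42525) (iv F176952)
def n46985 : Q := act 9 n42337
theorem D46985 : act 9 n42337 = n46985 := rfl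
theorem F210201 : act 0 n46985 = n42510 := d8_1 D46985 (iv D42510) (iv F199563)
theorem F210202 : act 1 n46985 = n42346 := d16_1 D46985 (iv D42346) (iv F176959)
theorem F210203 : act 2 n46985 = n42501 := d23_1 D46985 (iv D42501) (iv F199564)
theorem F210204 : act 3 n46985 = n42390 := d29_1 D46985 (iv D42390) (iv F176960)
theorem F210205 : act 4 n46985 = n42494 := d34_1 D46985 (iv D42494) (iv F199565)
theorem F210206 : act 5 n46985 = n46985 := d38_1 D46985 (iv D46985) F176961
theorem F210207 : act 6 n46985 = n42526 := d41_1 D46985 (iv D42526) (iv F176962)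
theorem F210208 : act 7 n46985 = n42338 := d43_1 D46985 (iv D42338) (iv F176963)
theorem F210209 : act 8 n46985 = n46985 := d44_1 D46985 (iv D46985) (iv D42337) F123362 D42337
def n46986 : Q := act 3 n42341
theorem D46986 : act 3 n42341 = n46986 := rfl
theorem F210210 : act 0 n46986 = n46986 := d2_1 D46986 (iv D46986) F176980
theorem F210211 : act 1 n46986 = n42493 := d10_1 D46986 (iv D42493) (iv F199574)
theorem F210212 : act 4 n46986 = n42395 := d24_2 (iv F176982) D46986 (iv D42395) F123544 (iv F123401)
theorem F210213 : act 5 n46986 = n42486 := d25_2 (iv F199575) D46986 (iv D42486)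
theorem F210214 : act 6 n46986 = n42531 := d26_2 (iv F176983) D46986 (iv D42531)
theorem F210215 : act 7 n46986 = n42342 := d27_2 (iv F176984) D46986 (iv D42342)
theorem F210216 : act 8 n46986 = n46986 := d28_2 D42341 D46986 (iv D46986) (iv D42341) F123380
theorem F210217 : act 2 n46986 = n45152 := d46_4 D29067 F123402 (iv F176982) D46986 (iv F207778) F207777 F173767 (iv D41585) (iv D28555) (iv D19638) F59400 F41820 F29526 (iv D6449) D6448 D9331 (iv F59294) (iv F205447) F44172 F33723 F26312 F18682 (iv F25952) F25951 (iv F195549) F18576 (iv F16861) D5100 F23783 F16867 F16866 F16865 (iv F23764) (iv F33610) (iv D7376) D7375 D10698 F47687 (iv F48258) (iv F68768) (iv F201026) (iv D11071) F34662 (iv D7624) (iv F31708) F31707 F22424 F15903 D4797 F22445 (iv F21353) (iv F30105) F30104 (iv F42655) (iv F60617) (iv D13795) D13794 D20047 F86536 F199558 F123358 F86239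
def n46987 : Q := act 9 n42341
theorem D46987 : act 9 n42341 = n46987 := rfl
theorem F210218 : act 0 n46987 = n46987 := d8_1 D46987 (iv D46987) F176980
theorem F210219 : act 1 n46987 = n42494 := d16_1 D46987 (iv D42494) (iv F199574)
theorem F210220 : act 2 n46987 = n46987 := d23_1 D46987 (iv D46987) F176981
theorem F210221 : act 4 n46987 = n42346 := d34_1 D46987 (iv D42346) (iv F176982)
theorem F210222 : act 5 n46987 = n42487 := d38_1 D46987 (iv D42487) (iv F199575)
theorem F210223 : act 6 n46987 = n42532 := d41_1 D46987 (iv D42532) (iv F176983)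
theorem F210224 : act 7 n46987 = n42343 := d43_1 D46987 (iv D42343) (iv F176984)
theorem F210225 : act 8 n46987 = n46987 := d44_1 D46987 (iv D46987) (iv D42341) F123383 D42341
def n46988 : Q := act 9 n42342
theorem D46988 : act 9 n42342 = n46988 := rfl
theorem F210226 : act 0 n46988 = n46988 := d8_1 D46988 (iv D46988) F176985
theorem F210227 : act 2 n46988 = n45157 := d23_1 D46988 (iv D45157) (iv F206267)
theorem F210228 : act 3 n46988 = n42343 := d29_1 D46988 (iv D42343) D42342
theorem F210229 : act 4 n46988 = n42398 := d34_1 D46988 (iv D42398) (iv F176986)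
theorem F210230 : act 5 n46988 = n46362 := d38_1 D46988 (iv D46362) (iv F206268)
theorem F210231 : act 6 n46988 = n42345 := d41_1 D46988 (iv D42345) (iv F176987)
def n46989 : Q := act 1 n42344
theorem D46989 : act 1 n42344 = n46989 := rfl
theorem F210232 : act 3 n46989 = n46989 := d10_2 F176995 D46989 (iv D46989)
theorem F210233 : act 4 n46989 = n42399 := d11_2 (iv F176996) D46989 (iv D42399)
theorem F210234 : act 5 n46989 = n46989 := d12_2 F176997 D46989 (iv D46989)
theorem F210235 : act 6 n46989 = n45139 := d13_2 (iv F206144) D46989 F188261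
theorem F210236 : act 7 n46989 = n42535 := d14_2 (iv F176998) D46989 (iv D42535)
theorem F210237 : act 8 n46989 = n46989 := d15_2 F176999 D46989 (iv D46989)
def n46990 : Q := act 9 n42344
theorem D46990 : act 9 n42344 = n46990 := rfl
theorem F210238 : act 0 n46990 = n46990 := d8_1 D46990 (iv D46990) F176994
theorem F210239 : act 2 n46990 = n42345 := d23_1 D46990 (iv D42345) D42344
theorem F210240 : act 3 n46990 = n46990 := d29_1 D46990 (iv D46990) F176995
theorem F210241 : act 4 n46990 = n42400 := d34_1 D46990 (iv D42400) (iv F176996)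
theorem F210242 : act 5 n46990 = n46990 := d38_1 D46990 (iv D46990) F176997
theorem F210243 : act 6 n46990 = n45157 := d41_1 D46990 (iv D45157) (iv F206144)
theorem F210244 : act 7 n46990 = n42536 := d43_1 D46990 (iv D42536) (iv F176998)
def n46991 : Q := act 8 n42345
theorem D46991 : act 8 n42345 = n46991 := rfl
theorem F210245 : act 0 n46991 = n46991 := d7_1 D46991 (iv D46991) F177000
theorem F210246 : act 3 n46991 = n46991 := d28_1 D46991 (iv D46991) F177001 F123398 (iv F177001)
theorem F210247 : act 4 n46991 = n42401 := d33_1 D46991 (iv D42401) (iv F177002)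
theorem F210248 : act 5 n46991 = n46991 := d37_1 D46991 (iv D46991) F177003
theorem F210249 : act 7 n46991 = n42537 := d42_1 D46991 (iv D42537) (iv F177004)
theorem F210250 : act 9 n46991 = n46991 := d44_2 D42345 D46991 (iv D46991) (iv D42345) F123392
def n46992 : Q := act 6 n42347
theorem D46992 : act 6 n42347 = n46992 := rfl
theorem F210251 : act 0 n46992 = n42435 := d5_1 D46992 F177401 (iv F197840)
theorem F210252 : act 1 n46992 = n42353 := d13_1 D46992 (iv D42353) (iv F177012)
theorem F210253 : act 2 n46992 = n46992 := d20_1 D46992 (iv D46992) F177013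
theorem F210254 : act 3 n46992 = n42414 := d26_1 D46992 F177302 (iv F197841)
theorem F210255 : act 4 n46992 = n42348 := d31_1 D46992 (iv D42348) D42347
theorem F210256 : act 5 n46992 = n42412 := d35_1 D46992 (iv D42412) F123591 (iv F197378) (iv F177014)
theorem F210257 : act 9 n46992 = n42403 := d41_2 (iv F177016) D46992 (iv D42403)
def n46993 : Q := act 8 n42347
theorem D46993 : act 8 n42347 = n46993 := rfl
theorem F210258 : act 0 n46993 = n44293 := d7_1 D46993 F201814 (iv F197840)
theorem F210259 : act 1 n46993 = n42354 := d15_1 D46993 (iv D42354) (iv F177012)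
theorem F210260 : act 2 n46993 = n46993 := d22_1 D46993 (iv D46993) F177013
theorem F210261 : act 4 n46993 = n42349 := d33_1 D46993 (iv D42349) D42347
theorem F210262 : act 5 n46993 = n44263 := d37_1 D46993 F201339 (iv F177014)
theorem F210263 : act 7 n46993 = n42540 := d42_1 D46993 (iv D42540) (iv F177015)
def n46994 : Q := act 7 n42348
theorem D46994 : act 7 n42348 = n46994 := rfl
theorem F210264 : act 0 n46994 = n46382 := d6_1 D46994 F207021 F206836
theorem F210265 : act 1 n46994 = n42355 := d14_1 D46994 (iv D42355) (iv F177017)
theorem F210266 : act 2 n46994 = n46994 := d21_1 D46994 (iv D46994) F177018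
theorem F210267 : act 3 n46994 = n46994 := d27_1 D46994 (iv D46994) F177019
theorem F210268 : act 5 n46994 = n46994 := d36_1 D46994 (iv D46994) F177020
theorem F210269 : act 6 n46994 = n42541 := d39_1 D46994 (iv D42541) (iv D29197) (iv F123414) D42348
theorem F210270 : act 9 n46994 = n42405 := d43_2 (iv F177021) D46994 (iv D42405)
def n46995 : Q := act 8 n42348
theorem D46995 : act 8 n42348 = n46995 := rfl
theorem F210271 : act 0 n46995 = n44296 := d7_1 D46995 F185033 F206836
theorem F210272 : act 1 n46995 = n42356 := d15_1 D46995 (iv D42356) (iv F177017)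
theorem F210273 : act 2 n46995 = n46995 := d22_1 D46995 (iv D46995) F177018
theorem F210274 : act 5 n46995 = n46995 := d37_1 D46995 (iv D46995) F177020
theorem F210275 : act 6 n46995 = n42349 := d40_1 D46995 (iv D42349) D42348
def n46996 : Q := act 9 n42349
theorem D46996 : act 9 n42349 = n46996 := rfl
theorem F210276 : act 0 n46996 = n44297 := d8_1 D46996 (iv D44297) (iv F201355)
theorem F210277 : act 1 n46996 = n42358 := d16_1 D46996 (iv D42358) (iv F177022)
theorem F210278 : act 2 n46996 = n46996 := d23_1 D46996 (iv D46996) F177023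
theorem F210279 : act 5 n46996 = n42351 := d38_1 D46996 (iv D42351) (iv F177024)
theorem F210280 : act 7 n46996 = n42544 := d43_1 D46996 (iv D42544) (iv F177025)
theorem F210281 : act 8 n46996 = n42408 := d44_1 D46996 (iv D42408) (iv D29107) (iv F123415) D42349
def n46997 : Q := act 6 n42352
theorem D46997 : act 6 n42352 = n46997 := rfl
theorem F210282 : act 0 n46997 = n42368 := d5_1 D46997 (iv D42368) (iv F177036)
theorem F210283 : act 1 n46997 = n42414 := d13_1 D46997 F177302 (iv F197898)
theorem F210284 : act 2 n46997 = n46997 := d20_1 D46997 (iv D46997) F177037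
theorem F210285 : act 3 n46997 = n42353 := d26_1 D46997 (iv D42353) D42352
theorem F210286 : act 4 n46997 = n46997 := d31_1 D46997 (iv D46997) F177038
theorem F210287 : act 5 n46997 = n42403 := d35_1 D46997 (iv D42403) F123569 (iv F197405) (iv F177039)
theorem F210288 : act 9 n46997 = n42412 := d41_2 (iv F177041) D46997 (iv D42412)
def n46998 : Q := act 8 n42352
theorem D46998 : act 8 n42352 = n46998 := rfl
theorem F210289 : act 0 n46998 = n42369 := d7_1 D46998 (iv D42369) (iv F177036)
theorem F210290 : act 1 n46998 = n45071 := d15_1 D46998 (iv D45071) (iv F197898)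
theorem F210291 : act 2 n46998 = n46998 := d22_1 D46998 (iv D46998) F177037
theorem F210292 : act 4 n46998 = n46998 := d33_1 D46998 (iv D46998) F177038
theorem F210293 : act 5 n46998 = n44976 := d37_1 D46998 (iv D44976) (iv F177039)
theorem F210294 : act 7 n46998 = n42549 := d42_1 D46998 (iv D42549) (iv F177040)
def n46999 : Q := act 5 n42353
theorem D46999 : act 5 n42353 = n46999 := rfl
theorem F210295 : act 0 n46999 = n42370 := d4_1 D46999 (iv D42370) (iv F177042)
theorem F210296 : act 1 n46999 = n42412 := d12_1 D46999 (iv F210256) F210252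
theorem F210297 : act 2 n46999 = n42361 := d19_1 D46999 (iv D42361) (iv F177043)
theorem F210298 : act 3 n46999 = n42403 := d25_1 D46999 (iv F210287) F210285
theorem F210299 : act 4 n46999 = n46999 := d30_1 D46999 (iv D46999) F177044 F123429 (iv F177044)
theorem F210300 : act 6 n46999 = n42402 := d35_2 D42353 D46999 F197109 (iv D30837) (iv F123423)
theorem F210301 : act 9 n46999 = n42414 := d38_2 (iv F177045) D46999 (iv D42414)
def n47000 : Q := act 7 n42353
theorem D47000 : act 7 n42353 = n47000 := rfl
theorem F210302 : act 0 n47000 = n42371 := d6_1 D47000 (iv D42371) (iv F177042)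
theorem F210303 : act 2 n47000 = n42362 := d21_1 D47000 (iv D42362) (iv F177043)
theorem F210304 : act 4 n47000 = n42355 := d32_1 D47000 (iv D42355) (iv F177044)
theorem F210305 : act 6 n47000 = n42551 := d39_1 D47000 (iv D42551) (iv D29202) (iv F123424) D42353
theorem F210306 : act 9 n47000 = n42415 := d43_2 (iv F177045) D47000 (iv D42415)
def n47001 : Q := act 8 n42353
theorem D47001 : act 8 n42353 = n47001 := rfl
theorem F210307 : act 0 n47001 = n42372 := d7_1 D47001 (iv D42372) (iv F177042)
theorem F210308 : act 2 n47001 = n42363 := d22_1 D47001 (iv D42363) (iv F177043)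
theorem F210309 : act 4 n47001 = n42356 := d33_1 D47001 (iv D42356) (iv F177044)
theorem F210310 : act 6 n47001 = n42354 := d40_1 D47001 (iv D42354) D42353
def n47002 : Q := act 3 n42354
theorem D47002 : act 3 n42354 = n47002 := rfl
theorem F210311 : act 0 n47002 = n42373 := d2_1 D47002 (iv D42373) (iv F177046)
theorem F210312 : act 5 n47002 = n44980 := d25_2 (iv F177049) D47002 (iv D44980)
theorem F210313 : act 7 n47002 = n42553 := d27_2 (iv F177050) D47002 (iv D42553)
def n47003 : Q := act 9 n42354
theorem D47003 : act 9 n42354 = n47003 := rfl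
theorem F210314 : act 0 n47003 = n42374 := d8_1 D47003 (iv D42374) (iv F177046)
theorem F210315 : act 2 n47003 = n42365 := d23_1 D47003 (iv D42365) (iv F177047)
theorem F210316 : act 4 n47003 = n42358 := d34_1 D47003 (iv D42358) (iv F177048)
theorem F210317 : act 5 n47003 = n44981 := d38_1 D47003 (iv D44981) (iv F177049)
theorem F210318 : act 7 n47003 = n42554 := d43_1 D47003 (iv D42554) (iv F177050)
theorem F210319 : act 8 n47003 = n42418 := d44_1 D47003 (iv D42418) (iv D29112) (iv F123425) D42354
def n47004 : Q := act 8 n42355
theorem D47004 : act 8 n42355 = n47004 := rfl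
theorem F210320 : act 0 n47004 = n42375 := d7_1 D47004 (iv D42375) (iv F177051)
theorem F210321 : act 2 n47004 = n42366 := d22_1 D47004 (iv D42366) (iv F177052)
theorem F210322 : act 5 n47004 = n47004 := d37_1 D47004 (iv D47004) F177054
theorem F210323 : act 6 n47004 = n42555 := d40_1 D47004 (iv D42555) (iv F177055)
theorem F210324 : act 7 n47004 = n42356 := d42_1 D47004 (iv D42356) D42355
theorem F210325 : act 3 n42524 = n47004 := d27_3 F210324 (iv F210190) F210194
def n47005 : Q := act 9 n42356
theorem D47005 : act 9 n42356 = n47005 := rfl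
theorem F210326 : act 0 n47005 = n42377 := d8_1 D47005 (iv D42377) (iv F177057)
theorem F210327 : act 2 n47005 = n42367 := d23_1 D47005 (iv D42367) (iv F177058)
theorem F210328 : act 5 n47005 = n47005 := d38_1 D47005 (iv D47005) F177059
theorem F210329 : act 6 n47005 = n42358 := d41_1 D47005 (iv D42358) (iv F177060)
theorem F210330 : act 8 n47005 = n42421 := d44_1 D47005 (iv D42421) (iv D29114) (iv F123430) D42356
def n47006 : Q := act 4 n42357
theorem D47006 : act 4 n42357 = n47006 := rfl
theorem F210331 : act 0 n47006 = n42378 := d3_1 D47006 (iv D42378) (iv F177061)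
theorem F210332 : act 1 n47006 = n45138 := d11_1 D47006 (iv F208321) F208318
theorem F210333 : act 2 n47006 = n42386 := d18_1 D47006 (iv F210117) F210116
theorem F210334 : act 5 n47006 = n45143 := d30_2 (iv F177062) D47006 F188278 F206289 F201346
theorem F210335 : act 6 n47006 = n42388 := d31_2 F210193 D47006 (iv F210191)
theorem F210336 : act 7 n47006 = n42558 := d32_2 (iv F177063) D47006 (iv D42558)
theorem F210337 : act 8 n47006 = n47006 := d33_2 F177064 D47006 (iv D47006)
def n47007 : Q := act 9 n42357
theorem D47007 : act 9 n42357 = n47007 := rfl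
theorem F210338 : act 0 n47007 = n42379 := d8_1 D47007 (iv D42379) (iv F177061)
theorem F210339 : act 3 n47007 = n42358 := d29_1 D47007 (iv D42358) D42357
theorem F210340 : act 5 n47007 = n42360 := d38_1 D47007 (iv D42360) (iv F177062)
theorem F210341 : act 7 n47007 = n42559 := d43_1 D47007 (iv D42559) (iv F177063)
def n47008 : Q := act 8 n42360
theorem D47008 : act 8 n42360 = n47008 := rfl
theorem F210342 : act 0 n47008 = n42382 := d7_1 D47008 (iv D42382) (iv F177075)
theorem F210343 : act 3 n47008 = n42426 := d28_1 D47008 (iv D42426) F123627 (iv F123444) (iv F177076)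
theorem F210344 : act 6 n47008 = n47008 := d40_1 D47008 (iv D47008) F177077
theorem F210345 : act 7 n47008 = n42562 := d42_1 D47008 (iv D42562) (iv F177078)
theorem F210346 : act 9 n47008 = n47008 := d44_2 D42360 D47008 (iv D47008) (iv D42360) F123438
def n47009 : Q := act 7 n42361
theorem D47009 : act 7 n42361 = n47009 := rfl
theorem F210347 : act 0 n47009 = n42383 := d6_1 D47009 (iv D42383) (iv F177079)
theorem F210348 : act 1 n47009 = n47009 := d14_1 D47009 (iv D47009) F177080
theorem F210349 : act 3 n47009 = n47009 := d27_1 D47009 (iv D47009) F177081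
theorem F210350 : act 4 n47009 = n47009 := d32_1 D47009 (iv D47009) F177082
theorem F210351 : act 5 n47009 = n42362 := d36_1 D47009 (iv D42362) D42361
theorem F210352 : act 9 n47009 = n42427 := d43_2 (iv F177084) D47009 (iv D42427)
def n47010 : Q := act 8 n42361
theorem D47010 : act 8 n42361 = n47010 := rfl
theorem F210353 : act 0 n47010 = n42384 := d7_1 D47010 (iv D42384) (iv F177079)
theorem F210354 : act 1 n47010 = n47010 := d15_1 D47010 (iv D47010) F177080
theorem F210355 : act 4 n47010 = n47010 := d33_1 D47010 (iv D47010) F177082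
theorem F210356 : act 5 n47010 = n42363 := d37_1 D47010 (iv D42363) D42361
theorem F210357 : act 6 n47010 = n44321 := d40_1 D47010 F206182 (iv F177083)
theorem F210358 : act 3 n45162 = n47010 := d26_3 F210357 F185123 (iv F188353)
def n47011 : Q := act 8 n42362
theorem D47011 : act 8 n42362 = n47011 := rfl
theorem F210359 : act 0 n47011 = n42385 := d7_1 D47011 (iv D42385) (iv F177085)
theorem F210360 : act 1 n47011 = n47011 := d15_1 D47011 (iv D47011) F177086
theorem F210361 : act 4 n47011 = n42366 := d33_1 D47011 (iv D42366) (iv F177088)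
theorem F210362 : act 6 n47011 = n42565 := d40_1 D47011 (iv D42565) (iv F177089)
theorem F210363 : act 7 n47011 = n42363 := d42_1 D47011 (iv D42363) D42362
theorem F210364 : act 3 n42514 = n47011 := d27_3 F210363 (iv F210165) F210168
def n47012 : Q := act 9 n42363
theorem D47012 : act 9 n42363 = n47012 := rfl
theorem F210365 : act 0 n47012 = n42387 := d8_1 D47012 (iv D42387) (iv F177091)
theorem F210366 : act 1 n47012 = n47012 := d16_1 D47012 (iv D47012) F177092
theorem F210367 : act 4 n47012 = n42367 := d34_1 D47012 (iv D42367) (iv F177093)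
theorem F210368 : act 6 n47012 = n42365 := d41_1 D47012 (iv D42365) (iv F177094)
theorem F210369 : act 8 n47012 = n42431 := d44_1 D47012 (iv D42431) (iv D29121) (iv F123449) D42363
def n47013 : Q := act 2 n42364
theorem D47013 : act 2 n42364 = n47013 := rfl
theorem F210370 : act 0 n47013 = n42388 := d1_1 D47013 (iv D42388) (iv F177095)
theorem F210371 : act 4 n47013 = n42376 := d18_2 F210140 D47013 (iv F210139)
theorem F210372 : act 5 n47013 = n44995 := d19_2 (iv F177097) D47013 (iv D44995)
theorem F210373 : act 6 n47013 = n42378 := d20_2 F210167 D47013 (iv F210164)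
theorem F210374 : act 7 n47013 = n42568 := d21_2 (iv F177098) D47013 (iv D42568)
theorem F210375 : act 8 n47013 = n47013 := d22_2 F177099 D47013 (iv D47013)
def n47014 : Q := act 9 n42364
theorem D47014 : act 9 n42364 = n47014 := rfl
theorem F210376 : act 0 n47014 = n42389 := d8_1 D47014 (iv D42389) (iv F177095)
theorem F210377 : act 1 n47014 = n47014 := d16_1 D47014 (iv D47014) F177096
theorem F210378 : act 3 n47014 = n42365 := d29_1 D47014 (iv D42365) D42364
theorem F210379 : act 5 n47014 = n44996 := d38_1 D47014 (iv D44996) (iv F177097)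
theorem F210380 : act 7 n47014 = n42569 := d43_1 D47014 (iv D42569) (iv F177098)
def n47015 : Q := act 9 n42366
theorem D47015 : act 9 n42366 = n47015 := rfl
theorem F210381 : act 0 n47015 = n42390 := d8_1 D47015 (iv D42390) (iv F177106)
theorem F210382 : act 1 n47015 = n47015 := d16_1 D47015 (iv D47015) F177107
theorem F210383 : act 3 n47015 = n42510 := d29_1 D47015 (iv D42510) (iv F206838)
theorem F210384 : act 5 n47015 = n47015 := d38_1 D47015 (iv D47015) F177108
theorem F210385 : act 6 n47015 = n42570 := d41_1 D47015 (iv D42570) (iv F177109)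
theorem F210386 : act 7 n47015 = n42367 := d43_1 D47015 (iv D42367) (iv F177110)
theorem F210387 : act 8 n47015 = n42434 := d44_1 D47015 (iv D42434) (iv D29124) (iv F123460) D42366
def n47016 : Q := act 7 n42368
theorem D47016 : act 7 n42368 = n47016 := rfl
theorem F210388 : act 1 n47016 = n46384 := d14_1 D47016 F208157 F208151
theorem F210389 : act 2 n47016 = n47016 := d21_1 D47016 (iv D47016) F177116
theorem F210390 : act 3 n47016 = n42371 := d27_1 D47016 (iv D42371) (iv F177117)
theorem F210391 : act 4 n47016 = n47016 := d32_1 D47016 (iv D47016) F177118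
theorem F210392 : act 5 n47016 = n46381 := d36_1 D47016 F208278 F208276
theorem F210393 : act 6 n47016 = n42572 := d39_1 D47016 (iv D42572) (iv D29217) (iv F123473) D42368
theorem F210394 : act 9 n47016 = n42436 := d43_2 (iv F177119) D47016 (iv D42436)
theorem F210395 : act 8 n46396 = n47016 := d37_0 F210392 F207015 D46396
def n47017 : Q := act 8 n42368
theorem D47017 : act 8 n42368 = n47017 := rfl
theorem F210396 : act 1 n47017 = n46345 := d15_1 D47017 F208158 F208151
theorem F210397 : act 2 n47017 = n47017 := d22_1 D47017 (iv D47017) F177116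
theorem F210398 : act 4 n47017 = n47017 := d33_1 D47017 (iv D47017) F177118
theorem F210399 : act 5 n47017 = n46343 := d37_1 D47017 F208279 F208276
theorem F210400 : act 6 n47017 = n42369 := d40_1 D47017 (iv D42369) D42368
theorem F210401 : act 7 n47017 = n46396 := d42_1 D47017 F210395 (iv D47016)
def n47018 : Q := act 3 n42369
theorem D47018 : act 3 n42369 = n47018 := rfl
theorem F210402 : act 5 n47018 = n45001 := d25_2 (iv F177122) D47018 (iv D45001)
theorem F210403 : act 7 n47018 = n42574 := d27_2 (iv F177123) D47018 (iv D42574)
theorem F210404 : act 8 n47018 = n42373 := d28_2 D42369 D47018 (iv D42373) (iv D29083) D29081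
def n47019 : Q := act 9 n42369
theorem D47019 : act 9 n42369 = n47019 := rfl
theorem F210405 : act 2 n47019 = n47019 := d23_1 D47019 (iv D47019) F177120
theorem F210406 : act 4 n47019 = n47019 := d34_1 D47019 (iv D47019) F177121
theorem F210407 : act 5 n47019 = n45002 := d38_1 D47019 (iv D45002) (iv F177122)
theorem F210408 : act 7 n47019 = n42575 := d43_1 D47019 (iv D42575) (iv F177123)
theorem F210409 : act 8 n47019 = n42439 := d44_1 D47019 (iv D42439) (iv D29127) (iv F123474) D42369
def n47020 : Q := act 7 n42370
theorem D47020 : act 7 n42370 = n47020 := rfl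
theorem F210410 : act 1 n47020 = n46383 := d14_1 D47020 F208173 F208167
theorem F210411 : act 2 n47020 = n42383 := d21_1 D47020 (iv D42383) (iv F177124)
theorem F210412 : act 3 n47020 = n46381 := d27_1 D47020 F208278 F208274
theorem F210413 : act 4 n47020 = n47020 := d32_1 D47020 (iv D47020) F177125
theorem F210414 : act 5 n47020 = n42371 := d36_1 D47020 (iv D42371) D42370
theorem F210415 : act 9 n47020 = n42440 := d43_2 (iv F177127) D47020 (iv D42440)
def n47021 : Q := act 8 n42370
theorem D47021 : act 8 n42370 = n47021 := rfl
theorem F210416 : act 1 n47021 = n44305 := d15_1 D47021 F208174 F208167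
theorem F210417 : act 2 n47021 = n42384 := d22_1 D47021 (iv D42384) (iv F177124)
theorem F210418 : act 4 n47021 = n47021 := d33_1 D47021 (iv D47021) F177125
theorem F210419 : act 5 n47021 = n42372 := d37_1 D47021 (iv D42372) D42370
theorem F210420 : act 6 n47021 = n44307 := d40_1 D47021 F206184 (iv F177126)
def n47022 : Q := act 8 n42371
theorem D47022 : act 8 n42371 = n47022 := rfl
theorem F210421 : act 2 n47022 = n42385 := d22_1 D47022 (iv D42385) (iv F177128)
theorem F210422 : act 4 n47022 = n42375 := d33_1 D47022 (iv D42375) (iv F177129)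
theorem F210423 : act 6 n47022 = n42578 := d40_1 D47022 (iv D42578) (iv F177130)
theorem F210424 : act 7 n47022 = n42372 := d42_1 D47022 (iv D42372) D42371
def n47023 : Q := act 3 n42372
theorem D47023 : act 3 n42372 = n47023 := rfl
theorem F210425 : act 6 n47023 = n42373 := d26_2 (iv F177134) D47023 (iv D42373)
def n47024 : Q := act 9 n42372
theorem D47024 : act 9 n42372 = n47024 := rfl
theorem F210426 : act 2 n47024 = n42387 := d23_1 D47024 (iv D42387) (iv F177132)
theorem F210427 : act 4 n47024 = n42377 := d34_1 D47024 (iv D42377) (iv F177133)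
theorem F210428 : act 6 n47024 = n42374 := d41_1 D47024 (iv D42374) (iv F177134)
theorem F210429 : act 8 n47024 = n42444 := d44_1 D47024 (iv D42444) (iv D29130) (iv F123477) D42372
def n47025 : Q := act 2 n42373
theorem D47025 : act 2 n42373 = n47025 := rfl
theorem F210430 : act 3 n47025 = n42388 := d17_2 D42373 D47025 (iv D42388) (iv D29093) (iv F123478)
theorem F210431 : act 5 n47025 = n45008 := d19_2 (iv F177135) D47025 (iv D45008)
theorem F210432 : act 7 n47025 = n42581 := d21_2 (iv F177136) D47025 (iv D42581)
def n47026 : Q := act 4 n42373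
theorem D47026 : act 4 n42373 = n47026 := rfl
theorem F210433 : act 3 n47026 = n42378 := d24_1 D47026 (iv D42378) (iv D29086) (iv F123479) D42373
theorem F210434 : act 7 n47026 = n42582 := d32_2 (iv F177136) D47026 (iv D42582)
def n47027 : Q := act 9 n42373
theorem D47027 : act 9 n42373 = n47027 := rfl
theorem F210435 : act 3 n47027 = n42374 := d29_1 D47027 (iv D42374) D42373
theorem F210436 : act 5 n47027 = n45010 := d38_1 D47027 (iv D45010) (iv F177135)
theorem F210437 : act 7 n47027 = n42583 := d43_1 D47027 (iv D42583) (iv F177136)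
def n47028 : Q := act 3 n42375
theorem D47028 : act 3 n42375 = n47028 := rfl
theorem F210438 : act 0 n47028 = n42524 := d2_1 D47028 F210325 F210320
theorem F210439 : act 2 n47028 = n42500 := d17_1 D47028 (iv D42500) (iv F199564) F176960 (iv F177142)
theorem F210440 : act 5 n47028 = n47028 := d25_2 F177143 D47028 (iv D47028)
theorem F210441 : act 6 n47028 = n42584 := d26_2 (iv F177144) D47028 (iv D42584)
theorem F210442 : act 7 n47028 = n42376 := d27_2 (iv F177145) D47028 (iv D42376)
theorem F210443 : act 8 n47028 = n47028 := d28_2 D42375 D47028 (iv D47028) (iv D42375) F123483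
theorem F210444 : act 4 n42568 = n47028 := d32_3 F210442 (iv F210371) F210374
def n47029 : Q := act 9 n42375
theorem D47029 : act 9 n42375 = n47029 := rfl
theorem F210445 : act 1 n47029 = n46373 := d16_1 D47029 (iv F208206) F208201
theorem F210446 : act 2 n47029 = n42390 := d23_1 D47029 (iv D42390) (iv F177142)
theorem F210447 : act 5 n47029 = n47029 := d38_1 D47029 (iv D47029) F177143
theorem F210448 : act 6 n47029 = n42585 := d41_1 D47029 (iv D42585) (iv F177144)
theorem F210449 : act 7 n47029 = n42377 := d43_1 D47029 (iv D42377) (iv F177145)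
theorem F210450 : act 8 n47029 = n42449 := d44_1 D47029 (iv D42449) (iv D29133) (iv F123486) D42375
def n47030 : Q := act 9 n42376
theorem D47030 : act 9 n42376 = n47030 := rfl
theorem F210451 : act 3 n47030 = n42377 := d29_1 D47030 (iv D42377) D42376
theorem F210452 : act 5 n47030 = n47030 := d38_1 D47030 (iv D47030) F177146
theorem F210453 : act 6 n47030 = n42379 := d41_1 D47030 (iv D42379) (iv F177147)
def n47031 : Q := act 5 n42378
theorem D47031 : act 5 n42378 = n47031 := rfl
theorem F210454 : act 0 n47031 = n45143 := d4_1 D47031 (iv F210334) F210331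
theorem F210455 : act 1 n47031 = n42422 := d12_1 D47031 (iv F208223) F208221
theorem F210456 : act 2 n47031 = n45162 := d19_1 D47031 (iv F210166) F210164
theorem F210457 : act 4 n47031 = n42380 := d30_1 D47031 (iv D42380) (iv D29088) (iv F123490) D42378
theorem F210458 : act 7 n47031 = n42588 := d36_2 (iv F177153) D47031 (iv D42588)
theorem F210459 : act 8 n47031 = n47031 := d37_2 F177154 D47031 (iv D47031)
theorem F210460 : act 6 n45146 = n47031 := d31_0 F210457 F206358 (iv F188289)
def n47032 : Q := act 9 n42378
theorem D47032 : act 9 n42378 = n47032 := rfl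
theorem F210461 : act 4 n47032 = n42379 := d34_1 D47032 (iv D42379) D42378
theorem F210462 : act 7 n47032 = n42589 := d43_1 D47032 (iv D42589) (iv F177153)
def n47033 : Q := act 8 n42379
theorem D47033 : act 8 n42379 = n47033 := rfl
theorem F210463 : act 3 n47033 = n42454 := d28_1 D47033 (iv D42454) F123703 (iv F123496) (iv F177155)
theorem F210464 : act 5 n47033 = n42382 := d37_1 D47033 (iv D42382) (iv F177156)
theorem F210465 : act 7 n47033 = n42590 := d42_1 D47033 (iv D42590) (iv F177157)
theorem F210466 : act 9 n47033 = n47033 := d44_2 D42379 D47033 (iv D47033) (iv D42379) F123492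
def n47034 : Q := act 9 n42380
theorem D47034 : act 9 n42380 = n47034 := rfl
theorem F210467 : act 0 n47034 = n46353 := d8_1 D47034 (iv D46353) F206287
theorem F210468 : act 1 n47034 = n42423 := d16_1 D47034 (iv D42423) (iv F202062)
theorem F210469 : act 2 n47034 = n46367 := d23_1 D47034 (iv D46367) F206344
theorem F210470 : act 3 n47034 = n42408 := d29_1 D47034 (iv D42408) (iv F202063)
theorem F210471 : act 5 n47034 = n42381 := d38_1 D47034 (iv D42381) D42380
theorem F210472 : act 6 n47034 = n46355 := d41_1 D47034 (iv D46355) (iv F206358)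
theorem F210473 : act 7 n47034 = n42592 := d43_1 D47034 (iv D42592) (iv F177159)
def n47035 : Q := act 8 n42381
theorem D47035 : act 8 n42381 = n47035 := rfl
theorem F210474 : act 1 n47035 = n42426 := d15_1 D47035 (iv D42426) (iv F202064)
theorem F210475 : act 4 n47035 = n42382 := d33_1 D47035 (iv D42382) (iv F177162)
theorem F210476 : act 6 n47035 = n47035 := d40_1 D47035 (iv D47035) F177163
theorem F210477 : act 7 n47035 = n42593 := d42_1 D47035 (iv D42593) (iv F177164)
theorem F210478 : act 9 n47035 = n47035 := d44_2 D42381 D47035 (iv D47035) (iv D42381) F123500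
def n47036 : Q := act 6 n42383
theorem D47036 : act 6 n42383 = n47036 := rfl
theorem F210479 : act 1 n47036 = n42391 := d13_1 D47036 (iv D42391) (iv F177169)
theorem F210480 : act 3 n47036 = n47036 := d26_1 D47036 (iv D47036) F177170
theorem F210481 : act 4 n47036 = n47036 := d31_1 D47036 (iv D47036) F177171
theorem F210482 : act 5 n47036 = n42594 := d35_1 D47036 (iv D42594) F124097 (iv F123512) (iv F177172)
theorem F210483 : act 7 n47036 = n44146 := d39_2 D42383 D47036 F184385 (iv F206187) (iv F123507)
theorem F210484 : act 9 n47036 = n42458 := d41_2 (iv F177173) D47036 (iv D42458)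
theorem F210485 : act 8 n44573 = n47036 := d42_0 F210483 F184386 (iv F186015)
def n47037 : Q := act 8 n42383
theorem D47037 : act 8 n42383 = n47037 := rfl
theorem F210486 : act 1 n47037 = n42392 := d15_1 D47037 (iv D42392) (iv F177169)
theorem F210487 : act 4 n47037 = n47037 := d33_1 D47037 (iv D47037) F177171
theorem F210488 : act 5 n47037 = n42385 := d37_1 D47037 (iv D42385) (iv F177172)
theorem F210489 : act 6 n47037 = n44573 := d40_1 D47037 F210485 (iv D47036)
theorem F210490 : act 7 n47037 = n42384 := d42_1 D47037 (iv D42384) D42383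
theorem F210491 : act 3 n45159 = n47037 := d27_3 F210490 F206185 (iv F188339)
def n47038 : Q := act 9 n42384
theorem D47038 : act 9 n42384 = n47038 := rfl
theorem F210492 : act 1 n47038 = n42394 := d16_1 D47038 (iv D42394) (iv F177174)
theorem F210493 : act 3 n47038 = n45163 := d29_1 D47038 (iv D45163) (iv F206185)
theorem F210494 : act 4 n47038 = n47038 := d34_1 D47038 (iv D47038) F177175
theorem F210495 : act 5 n47038 = n42387 := d38_1 D47038 (iv D42387) (iv F177176)
theorem F210496 : act 6 n47038 = n44322 := d41_1 D47038 (iv D44322) (iv F206186)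
theorem F210497 : act 8 n47038 = n42461 := d44_1 D47038 (iv D42461) (iv D29142) (iv F123508) D42384
def n47039 : Q := act 3 n42385
theorem D47039 : act 3 n42385 = n47039 := rfl
theorem F210498 : act 0 n47039 = n42514 := d2_1 D47039 F210364 F210359
theorem F210499 : act 1 n47039 = n42395 := d10_1 D47039 (iv D42395) (iv F177178)
theorem F210500 : act 4 n47039 = n42493 := d24_2 (iv F177179) D47039 (iv D42493) (iv F199565) F176960
theorem F210501 : act 5 n47039 = n45159 := d25_2 F210488 D47039 F210491
theorem F210502 : act 6 n47039 = n42598 := d26_2 (iv F177180) D47039 (iv D42598)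
theorem F210503 : act 7 n47039 = n42386 := d27_2 (iv F177181) D47039 (iv D42386)
theorem F210504 : act 8 n47039 = n47039 := d28_2 D42385 D47039 (iv D47039) (iv D42385) F123510
theorem F210505 : act 2 n42558 = n47039 := d21_3 F210503 (iv F210333) F210336
def n47040 : Q := act 9 n42385
theorem D47040 : act 9 n42385 = n47040 := rfl
theorem F210506 : act 1 n47040 = n42396 := d16_1 D47040 (iv D42396) (iv F177178)
theorem F210507 : act 4 n47040 = n42390 := d34_1 D47040 (iv D42390) (iv F177179)
theorem F210508 : act 6 n47040 = n42599 := d41_1 D47040 (iv D42599) (iv F177180)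
theorem F210509 : act 7 n47040 = n42387 := d43_1 D47040 (iv D42387) (iv F177181)
theorem F210510 : act 8 n47040 = n42463 := d44_1 D47040 (iv D42463) (iv D29143) (iv F123513) D42385
def n47041 : Q := act 9 n42386
theorem D47041 : act 9 n42386 = n47041 := rfl
theorem F210511 : act 1 n47041 = n42398 := d16_1 D47041 (iv D42398) (iv F177182)
theorem F210512 : act 3 n47041 = n42387 := d29_1 D47041 (iv D42387) D42386
theorem F210513 : act 5 n47041 = n45163 := d38_1 D47041 (iv D45163) (iv F206266)
theorem F210514 : act 6 n47041 = n42389 := d41_1 D47041 (iv D42389) (iv F177183)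
def n47042 : Q := act 1 n42388
theorem D47042 : act 1 n42388 = n47042 := rfl
theorem F210515 : act 2 n47042 = n42399 := d9_2 D42388 D47042 (iv D42399) (iv D29102) (iv F123517)
theorem F210516 : act 5 n47042 = n42464 := d12_2 (iv F177189) D47042 F206138
theorem F210517 : act 6 n47042 = n45138 := d13_2 F210335 D47042 (iv F210332)
theorem F210518 : act 7 n47042 = n42602 := d14_2 (iv F177190) D47042 (iv D42602)
theorem F210519 : act 8 n47042 = n47042 := d15_2 F177191 D47042 (iv D47042)
def n47043 : Q := act 9 n42388
theorem D47043 : act 9 n42388 = n47043 := rfl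
theorem F210520 : act 2 n47043 = n42389 := d23_1 D47043 (iv D42389) D42388
theorem F210521 : act 5 n47043 = n45030 := d38_1 D47043 (iv D45030) (iv F177189)
theorem F210522 : act 7 n47043 = n42603 := d43_1 D47043 (iv D42603) (iv F177190)
def n47044 : Q := act 8 n42389
theorem D47044 : act 8 n42389 = n47044 := rfl
theorem F210523 : act 1 n47044 = n42401 := d15_1 D47044 (iv D42401) (iv F177192)
theorem F210524 : act 3 n47044 = n42468 := d28_1 D47044 (iv D42468) F123743 (iv F123525) (iv F177193)
theorem F210525 : act 5 n47044 = n45031 := d37_1 D47044 (iv D45031) (iv F177194)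
theorem F210526 : act 7 n47044 = n42604 := d42_1 D47044 (iv D42604) (iv F177195)
theorem F210527 : act 9 n47044 = n47044 := d44_2 D42389 D47044 (iv D47044) (iv D42389) F123520
def n47045 : Q := act 9 n42395
theorem D47045 : act 9 n42395 = n47045 := rfl
theorem F210528 : act 0 n47045 = n47045 := d8_1 D47045 (iv D47045) F177220
theorem F210529 : act 2 n47045 = n44581 := d23_1 D47045 F206209 (iv F206269)
theorem F210530 : act 3 n47045 = n42396 := d29_1 D47045 (iv D42396) D42395
theorem F210531 : act 5 n47045 = n45160 := d38_1 D47045 (iv D45160) (iv F206270)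
theorem F210532 : act 6 n47045 = n42612 := d41_1 D47045 (iv D42612) (iv F177221)
theorem F210533 : act 7 n47045 = n42398 := d43_1 D47045 (iv D42398) (iv F177222)
theorem F210534 : act 8 n45289 = n47045 := d28_0 F210530 F177228 (iv F205831) D31047 D45289
def n47046 : Q := act 8 n42398
theorem D47046 : act 8 n42398 = n47046 := rfl
theorem F210535 : act 0 n47046 = n47046 := d7_1 D47046 (iv D47046) F177232
theorem F210536 : act 2 n47046 = n45158 := d22_1 D47046 (iv D45158) (iv F206271)
theorem F210537 : act 3 n47046 = n42479 := d28_1 D47046 (iv D42479) F123783 (iv F123553) (iv F177233)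
theorem F210538 : act 5 n47046 = n45164 := d37_1 D47046 (iv D45164) (iv F206272)
theorem F210539 : act 6 n47046 = n42401 := d40_1 D47046 (iv D42401) (iv F177234)
theorem F210540 : act 7 n47046 = n45289 := d42_1 D47046 F210534 F210533
theorem F210541 : act 9 n47046 = n47046 := d44_2 D42398 D47046 (iv D47046) (iv D42398) F123549
def n47047 : Q := act 0 n42399
theorem D47047 : act 0 n42399 = n47047 := rfl
theorem F210542 : act 1 n47047 = n47047 := d0_2 D42399 D47047 (iv D47047) (iv D42399) F123554
theorem F210543 : act 3 n47047 = n42428 := d2_2 (iv F206140) D47047 F177363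
theorem F210544 : act 5 n47047 = n42430 := d4_2 (iv F206141) D47047 F177373
theorem F210545 : act 6 n47047 = n45090 := d5_2 (iv F206142) D47047 F188100
theorem F210546 : act 7 n47047 = n42616 := d6_2 (iv F177236) D47047 (iv D42616)
theorem F210547 : act 8 n47047 = n47047 := d7_2 F177237 D47047 (iv D47047)
def n47048 : Q := act 9 n42399
theorem D47048 : act 9 n42399 = n47048 := rfl
theorem F210548 : act 1 n47048 = n42400 := d16_1 D47048 (iv D42400) D42399
theorem F210549 : act 3 n47048 = n42461 := d29_1 D47048 (iv D42461) (iv F206140)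
theorem F210550 : act 5 n47048 = n42465 := d38_1 D47048 (iv D42465) (iv F206141)
theorem F210551 : act 6 n47048 = n45140 := d41_1 D47048 (iv D45140) (iv F206142)
theorem F210552 : act 7 n47048 = n42617 := d43_1 D47048 (iv D42617) (iv F177236)
def n47049 : Q := act 8 n42400
theorem D47049 : act 8 n42400 = n47049 := rfl
theorem F210553 : act 0 n47049 = n47049 := d7_1 D47049 (iv D47049) F177238
theorem F210554 : act 2 n47049 = n42401 := d22_1 D47049 (iv D42401) (iv F177239)
theorem F210555 : act 3 n47049 = n45164 := d28_1 D47049 (iv D45164) (iv F206198) F177219 (iv F206146)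
theorem F210556 : act 5 n47049 = n42479 := d37_1 D47049 (iv D42479) (iv F206147)
theorem F210557 : act 6 n47049 = n45158 := d40_1 D47049 (iv D45158) (iv F206148)
theorem F210558 : act 7 n47049 = n42618 := d42_1 D47049 (iv D42618) (iv F177241)
theorem F210559 : act 9 n47049 = n47049 := d44_2 D42400 D47049 (iv D47049) (iv D42400) F123557
def n47050 : Q := act 8 n42402
theorem D47050 : act 8 n42402 = n47050 := rfl
theorem F210560 : act 0 n47050 = n44307 := d7_1 D47050 F206184 (iv F197107)
theorem F210561 : act 1 n47050 = n42413 := d15_1 D47050 (iv D42413) (iv F177247)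
theorem F210562 : act 2 n47050 = n44321 := d22_1 D47050 F206182 (iv F197108)
theorem F210563 : act 4 n47050 = n47050 := d33_1 D47050 (iv D47050) F177248
theorem F210564 : act 5 n47050 = n44979 := d37_1 D47050 (iv D44979) (iv F197109)
theorem F210565 : act 7 n47050 = n42621 := d42_1 D47050 (iv D42621) (iv F177250)
def n47051 : Q := act 7 n42403
theorem D47051 : act 7 n42403 = n47051 := rfl
theorem F210566 : act 0 n47051 = n46381 := d6_1 D47051 F208278 F208271
theorem F210567 : act 1 n47051 = n42415 := d14_1 D47051 (iv D42415) (iv F177251)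
theorem F210568 : act 2 n47051 = n47051 := d21_1 D47051 (iv D47051) F177252
theorem F210569 : act 4 n47051 = n42405 := d32_1 D47051 (iv D42405) (iv F177253)
theorem F210570 : act 6 n47051 = n42623 := d39_1 D47051 (iv D42623) (iv D29252) (iv F123570) D42403
theorem F210571 : act 8 n46394 = n47051 := d33_0 F210569 (iv F206365) D46394
def n47052 : Q := act 8 n42403
theorem D47052 : act 8 n42403 = n47052 := rfl
theorem F210572 : act 0 n47052 = n46343 := d7_1 D47052 F208279 F208271
theorem F210573 : act 1 n47052 = n42416 := d15_1 D47052 (iv D42416) (iv F177251)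
theorem F210574 : act 2 n47052 = n47052 := d22_1 D47052 (iv D47052) F177252
theorem F210575 : act 4 n47052 = n42406 := d33_1 D47052 (iv D42406) (iv F177253)
theorem F210576 : act 6 n47052 = n42404 := d40_1 D47052 (iv D42404) D42403
theorem F210577 : act 7 n47052 = n46394 := d42_1 D47052 F210571 (iv D47051)
def n47053 : Q := act 3 n42404
theorem D47053 : act 3 n42404 = n47053 := rfl
theorem F210578 : act 1 n47053 = n42417 := d10_1 D47053 (iv D42417) (iv F177254)
theorem F210579 : act 5 n47053 = n45009 := d25_2 (iv F201901) D47053 F187776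
theorem F210580 : act 7 n47053 = n42625 := d27_2 (iv F177258) D47053 (iv D42625)
def n47054 : Q := act 9 n42404
theorem D47054 : act 9 n42404 = n47054 := rfl
theorem F210581 : act 1 n47054 = n42418 := d16_1 D47054 (iv D42418) (iv F177254)
theorem F210582 : act 2 n47054 = n47054 := d23_1 D47054 (iv D47054) F177255
theorem F210583 : act 4 n47054 = n42408 := d34_1 D47054 (iv D42408) (iv F177256)
theorem F210584 : act 5 n47054 = n45016 := d38_1 D47054 (iv D45016) (iv F201901)
theorem F210585 : act 7 n47054 = n42626 := d43_1 D47054 (iv D42626) (iv F177258)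
def n47055 : Q := act 9 n42406
theorem D47055 : act 9 n42406 = n47055 := rfl
theorem F210586 : act 0 n47055 = n46344 := d8_1 D47055 (iv D46344) (iv F206361)
theorem F210587 : act 1 n47055 = n42421 := d16_1 D47055 (iv D42421) (iv F177264)
theorem F210588 : act 2 n47055 = n47055 := d23_1 D47055 (iv D47055) F177265
theorem F210589 : act 3 n47055 = n46355 := d29_1 D47055 (iv D46355) F206360
theorem F210590 : act 5 n47055 = n47055 := d38_1 D47055 (iv D47055) F177266
theorem F210591 : act 6 n47055 = n42408 := d41_1 D47055 (iv D42408) (iv F177267)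
theorem F210592 : act 7 n47055 = n46395 := d43_1 D47055 (iv D46395) (iv F206362)
def n47056 : Q := act 7 n42412
theorem D47056 : act 7 n42412 = n47056 := rfl
theorem F210593 : act 0 n47056 = n42436 := d6_1 D47056 (iv D42436) (iv F177290)
theorem F210594 : act 2 n47056 = n47056 := d21_1 D47056 (iv D47056) F177291
theorem F210595 : act 3 n47056 = n42415 := d27_1 D47056 (iv D42415) (iv F177292)
theorem F210596 : act 4 n47056 = n47056 := d32_1 D47056 (iv D47056) F177293
theorem F210597 : act 6 n47056 = n42639 := d39_1 D47056 (iv D42639) (iv D29261) (iv F123592) D42412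
def n47057 : Q := act 8 n42412
theorem D47057 : act 8 n42412 = n47057 := rfl
theorem F210598 : act 0 n47057 = n42437 := d7_1 D47057 (iv D42437) (iv F177290)
theorem F210599 : act 2 n47057 = n47057 := d22_1 D47057 (iv D47057) F177291
theorem F210600 : act 4 n47057 = n47057 := d33_1 D47057 (iv D47057) F177293
theorem F210601 : act 6 n47057 = n42413 := d40_1 D47057 (iv D42413) D42412
def n47058 : Q := act 3 n42413
theorem D47058 : act 3 n42413 = n47058 := rfl
theorem F210602 : act 0 n47058 = n42438 := d2_1 D47058 (iv D42438) (iv F177294)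
theorem F210603 : act 5 n47058 = n45068 := d25_2 (iv F177297) D47058 (iv D45068)
theorem F210604 : act 7 n47058 = n42641 := d27_2 (iv F177298) D47058 (iv D42641)
theorem F210605 : act 8 n47058 = n42417 := d28_2 D42413 D47058 (iv D42417) (iv D29112) D29110
def n47059 : Q := act 9 n42413
theorem D47059 : act 9 n42413 = n47059 := rfl
theorem F210606 : act 0 n47059 = n42439 := d8_1 D47059 (iv D42439) (iv F177294)
theorem F210607 : act 2 n47059 = n47059 := d23_1 D47059 (iv D47059) F177295
theorem F210608 : act 4 n47059 = n47059 := d34_1 D47059 (iv D47059) F177296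
theorem F210609 : act 5 n47059 = n45069 := d38_1 D47059 (iv D45069) (iv F177297)
theorem F210610 : act 7 n47059 = n42642 := d43_1 D47059 (iv D42642) (iv F177298)
def n47060 : Q := act 7 n42414
theorem D47060 : act 7 n42414 = n47060 := rfl
theorem F210611 : act 0 n47060 = n42440 := d6_1 D47060 (iv D42440) (iv F177299)
theorem F210612 : act 2 n47060 = n42427 := d21_1 D47060 (iv D42427) (iv F177300)
theorem F210613 : act 4 n47060 = n47060 := d32_1 D47060 (iv D47060) F177301
theorem F210614 : act 5 n47060 = n42415 := d36_1 D47060 (iv D42415) D42414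
def n47061 : Q := act 8 n42414
theorem D47061 : act 8 n42414 = n47061 := rfl
theorem F210615 : act 0 n47061 = n42441 := d7_1 D47061 (iv D42441) (iv F177299)
theorem F210616 : act 2 n47061 = n42428 := d22_1 D47061 (iv D42428) (iv F177300)
theorem F210617 : act 4 n47061 = n47061 := d33_1 D47061 (iv D47061) F177301
theorem F210618 : act 5 n47061 = n42416 := d37_1 D47061 (iv D42416) D42414
theorem F210619 : act 6 n47061 = n45071 := d40_1 D47061 (iv D45071) (iv F177302)
def n47062 : Q := act 8 n42415
theorem D47062 : act 8 n42415 = n47062 := rfl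
theorem F210620 : act 0 n47062 = n42442 := d7_1 D47062 (iv D42442) (iv F177303)
theorem F210621 : act 1 n47062 = n46394 := d15_1 D47062 F210571 F210567
theorem F210622 : act 2 n47062 = n42429 := d22_1 D47062 (iv D42429) (iv F177304)
theorem F210623 : act 4 n47062 = n42419 := d33_1 D47062 (iv D42419) (iv F177305)
theorem F210624 : act 6 n47062 = n42645 := d40_1 D47062 (iv D42645) (iv F177306)
theorem F210625 : act 7 n47062 = n42416 := d42_1 D47062 (iv D42416) D42415
def n47063 : Q := act 3 n42416
theorem D47063 : act 3 n42416 = n47063 := rfl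
theorem F210626 : act 0 n47063 = n42443 := d2_1 D47063 (iv D42443) (iv F177307)
theorem F210627 : act 6 n47063 = n42417 := d26_2 (iv F177310) D47063 (iv D42417)
def n47064 : Q := act 9 n42416
theorem D47064 : act 9 n42416 = n47064 := rfl
theorem F210628 : act 0 n47064 = n42444 := d8_1 D47064 (iv D42444) (iv F177307)
theorem F210629 : act 2 n47064 = n42431 := d23_1 D47064 (iv D42431) (iv F177308)
theorem F210630 : act 4 n47064 = n42421 := d34_1 D47064 (iv D42421) (iv F177309)
theorem F210631 : act 6 n47064 = n42418 := d41_1 D47064 (iv D42418) (iv F177310)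
def n47065 : Q := act 2 n42417
theorem D47065 : act 2 n42417 = n47065 := rfl
theorem F210632 : act 0 n47065 = n42445 := d1_1 D47065 (iv D42445) (iv F177311)
theorem F210633 : act 3 n47065 = n42432 := d17_2 D42417 D47065 (iv D42432) (iv D29122) (iv F123597)
theorem F210634 : act 5 n47065 = n45075 := d19_2 (iv F177312) D47065 (iv D45075)
theorem F210635 : act 7 n47065 = n42648 := d21_2 (iv F177313) D47065 (iv D42648)
def n47066 : Q := act 4 n42417
theorem D47066 : act 4 n42417 = n47066 := rfl
theorem F210636 : act 0 n47066 = n42446 := d3_1 D47066 (iv D42446) (iv F177311)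
theorem F210637 : act 3 n47066 = n42422 := d24_1 D47066 (iv D42422) (iv D29115) (iv F123598) D42417
theorem F210638 : act 7 n47066 = n42649 := d32_2 (iv F177313) D47066 (iv D42649)
def n47067 : Q := act 9 n42417
theorem D47067 : act 9 n42417 = n47067 := rfl
theorem F210639 : act 0 n47067 = n42447 := d8_1 D47067 (iv D42447) (iv F177311)
theorem F210640 : act 3 n47067 = n42418 := d29_1 D47067 (iv D42418) D42417
theorem F210641 : act 5 n47067 = n45077 := d38_1 D47067 (iv D45077) (iv F177312)
theorem F210642 : act 7 n47067 = n42650 := d43_1 D47067 (iv D42650) (iv F177313)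
def n47068 : Q := act 9 n42419
theorem D47068 : act 9 n42419 = n47068 := rfl
theorem F210643 : act 0 n47068 = n42449 := d8_1 D47068 (iv D42449) (iv F177319)
theorem F210644 : act 1 n47068 = n46395 := d16_1 D47068 (iv D46395) F206363
theorem F210645 : act 2 n47068 = n42434 := d23_1 D47068 (iv D42434) (iv F177320)
theorem F210646 : act 3 n47068 = n46378 := d29_1 D47068 (iv D46378) (iv F206391)
theorem F210647 : act 5 n47068 = n47068 := d38_1 D47068 (iv D47068) F177321
theorem F210648 : act 6 n47068 = n42652 := d41_1 D47068 (iv D42652) (iv F177322)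
theorem F210649 : act 7 n47068 = n42421 := d43_1 D47068 (iv D42421) (iv F177323)
def n47069 : Q := act 4 n42420
theorem D47069 : act 4 n42420 = n47069 := rfl
theorem F210650 : act 0 n47069 = n42450 := d3_1 D47069 (iv D42450) (iv F177324)
theorem F210651 : act 1 n47069 = n45146 := d11_1 D47069 F188289 F206359
theorem F210652 : act 2 n47069 = n47069 := d18_1 D47069 (iv D47069) F177325
theorem F210653 : act 6 n47069 = n42422 := d31_2 (iv F177327) D47069 (iv D42422)
theorem F210654 : act 7 n47069 = n45369 := d32_2 F206393 D47069 F189062
theorem F210655 : act 8 n47069 = n47069 := d33_2 F177328 D47069 (iv D47069)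
def n47070 : Q := act 9 n42420
theorem D47070 : act 9 n42420 = n47070 := rfl
theorem F210656 : act 0 n47070 = n42451 := d8_1 D47070 (iv D42451) (iv F177324)
theorem F210657 : act 1 n47070 = n46355 := d16_1 D47070 (iv D46355) F206359
theorem F210658 : act 2 n47070 = n47070 := d23_1 D47070 (iv D47070) F177325
theorem F210659 : act 3 n47070 = n42421 := d29_1 D47070 (iv D42421) D42420
theorem F210660 : act 5 n47070 = n47070 := d38_1 D47070 (iv D47070) F177326
theorem F210661 : act 6 n47070 = n42423 := d41_1 D47070 (iv D42423) (iv F177327)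
theorem F210662 : act 7 n47070 = n46378 := d43_1 D47070 (iv D46378) F206393
def n47071 : Q := act 9 n42422
theorem D47071 : act 9 n42422 = n47071 := rfl
theorem F210663 : act 0 n47071 = n42453 := d8_1 D47071 (iv D42453) (iv F177333)
theorem F210664 : act 2 n47071 = n47071 := d23_1 D47071 (iv D47071) F177334
theorem F210665 : act 4 n47071 = n42423 := d34_1 D47071 (iv D42423) D42422
theorem F210666 : act 7 n47071 = n42656 := d43_1 D47071 (iv D42656) (iv F177335)
def n47072 : Q := act 8 n42423
theorem D47072 : act 8 n42423 = n47072 := rfl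
theorem F210667 : act 0 n47072 = n42454 := d7_1 D47072 (iv D42454) (iv F177337)
theorem F210668 : act 2 n47072 = n47072 := d22_1 D47072 (iv D47072) F177338
theorem F210669 : act 5 n47072 = n42426 := d37_1 D47072 (iv D42426) (iv F177340)
theorem F210670 : act 7 n47072 = n42657 := d42_1 D47072 (iv D42657) (iv F177341)
theorem F210671 : act 9 n47072 = n47072 := d44_2 D42423 D47072 (iv D47072) (iv D42423) F123614
def n47073 : Q := act 6 n42427
theorem D47073 : act 6 n42427 = n47073 := rfl
theorem F210672 : act 0 n47073 = n42458 := d5_1 D47073 (iv D42458) (iv F177358)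
theorem F210673 : act 1 n47073 = n47073 := d13_1 D47073 (iv D47073) F177359
theorem F210674 : act 3 n47073 = n47073 := d26_1 D47073 (iv D47073) F177360
theorem F210675 : act 4 n47073 = n47073 := d31_1 D47073 (iv D47073) F177361
theorem F210676 : act 5 n47073 = n42661 := d35_1 D47073 (iv D42661) F124259 (iv F123639) (iv F177362)
theorem F210677 : act 7 n47073 = n45088 := d39_2 D42427 D47073 (iv D45088) (iv D30911) (iv F123634)
def n47074 : Q := act 9 n42428
theorem D47074 : act 9 n42428 = n47074 := rfl
theorem F210678 : act 0 n47074 = n42461 := d8_1 D47074 (iv D42461) (iv F177363)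
theorem F210679 : act 1 n47074 = n47074 := d16_1 D47074 (iv D47074) F177364
theorem F210680 : act 4 n47074 = n47074 := d34_1 D47074 (iv D47074) F177365
theorem F210681 : act 5 n47074 = n42431 := d38_1 D47074 (iv D42431) (iv F177366)
theorem F210682 : act 6 n47074 = n45091 := d41_1 D47074 (iv D45091) (iv F177367)
def n47075 : Q := act 9 n42429
theorem D47075 : act 9 n42429 = n47075 := rfl
theorem F210683 : act 0 n47075 = n42463 := d8_1 D47075 (iv D42463) (iv F177368)
theorem F210684 : act 1 n47075 = n47075 := d16_1 D47075 (iv D47075) F177369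
theorem F210685 : act 3 n47075 = n45287 := d29_1 D47075 (iv D45287) (iv F205823)
theorem F210686 : act 4 n47075 = n42434 := d34_1 D47075 (iv D42434) (iv F177370)
theorem F210687 : act 6 n47075 = n42666 := d41_1 D47075 (iv D42666) (iv F177371)
theorem F210688 : act 7 n47075 = n42431 := d43_1 D47075 (iv D42431) (iv F177372)
def n47076 : Q := act 2 n42430
theorem D47076 : act 2 n42430 = n47076 := rfl
theorem F210689 : act 0 n47076 = n42464 := d1_1 D47076 (iv D42464) (iv F177373)
theorem F210690 : act 4 n47076 = n47076 := d18_2 F177375 D47076 (iv D47076)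
theorem F210691 : act 6 n47076 = n42432 := d20_2 (iv F177376) D47076 (iv D42432)
theorem F210692 : act 7 n47076 = n45268 := d21_2 (iv F206137) D47076 F188712
theorem F210693 : act 8 n47076 = n47076 := d22_2 F177377 D47076 (iv D47076)
def n47077 : Q := act 9 n42430
theorem D47077 : act 9 n42430 = n47077 := rfl
theorem F210694 : act 0 n47077 = n42465 := d8_1 D47077 (iv D42465) (iv F177373)
theorem F210695 : act 1 n47077 = n47077 := d16_1 D47077 (iv D47077) F177374
theorem F210696 : act 3 n47077 = n42431 := d29_1 D47077 (iv D42431) D42430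
theorem F210697 : act 4 n47077 = n47077 := d34_1 D47077 (iv D47077) F177375
theorem F210698 : act 6 n47077 = n42433 := d41_1 D47077 (iv D42433) (iv F177376)
theorem F210699 : act 7 n47077 = n45287 := d43_1 D47077 (iv D45287) (iv F206137)
def n47078 : Q := act 1 n42432
theorem D47078 : act 1 n42432 = n47078 := rfl
theorem F210700 : act 2 n47078 = n47078 := d9_2 D42432 D47078 (iv D47078) (iv D42432) F123645
theorem F210701 : act 4 n47078 = n47078 := d11_2 F177383 D47078 (iv D47078)
theorem F210702 : act 5 n47078 = n42450 := d12_2 (iv F177384) D47078 F205527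
theorem F210703 : act 7 n47078 = n42669 := d14_2 (iv F177385) D47078 (iv D42669)
theorem F210704 : act 8 n47078 = n47078 := d15_2 F177386 D47078 (iv D47078)
def n47079 : Q := act 9 n42432
theorem D47079 : act 9 n42432 = n47079 := rfl
theorem F210705 : act 0 n47079 = n42467 := d8_1 D47079 (iv D42467) (iv F177382)
theorem F210706 : act 2 n47079 = n42433 := d23_1 D47079 (iv D42433) D42432
theorem F210707 : act 4 n47079 = n47079 := d34_1 D47079 (iv D47079) F177383
theorem F210708 : act 5 n47079 = n45097 := d38_1 D47079 (iv D45097) (iv F177384)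
theorem F210709 : act 7 n47079 = n42670 := d43_1 D47079 (iv D42670) (iv F177385)
def n47080 : Q := act 8 n42433
theorem D47080 : act 8 n42433 = n47080 := rfl
theorem F210710 : act 0 n47080 = n42468 := d7_1 D47080 (iv D42468) (iv F177387)
theorem F210711 : act 1 n47080 = n47080 := d15_1 D47080 (iv D47080) F177388
theorem F210712 : act 4 n47080 = n47080 := d33_1 D47080 (iv D47080) F177390
theorem F210713 : act 5 n47080 = n45098 := d37_1 D47080 (iv D45098) (iv F177391)
theorem F210714 : act 7 n47080 = n42671 := d42_1 D47080 (iv D42671) (iv F177392)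
theorem F210715 : act 9 n47080 = n47080 := d44_2 D42433 D47080 (iv D47080) (iv D42433) F123649
def n47081 : Q := act 7 n42435
theorem D47081 : act 7 n42435 = n47081 := rfl
theorem F210716 : act 1 n47081 = n46385 := d14_1 D47081 F207030 (iv F206323)
theorem F210717 : act 2 n47081 = n47081 := d21_1 D47081 (iv D47081) F177399
theorem F210718 : act 3 n47081 = n42440 := d27_1 D47081 (iv D42440) (iv F177400)
theorem F210719 : act 4 n47081 = n46382 := d32_1 D47081 F207021 F206326
theorem F210720 : act 5 n47081 = n42436 := d36_1 D47081 (iv D42436) D42435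
theorem F210721 : act 6 n47081 = n46528 := d39_1 D47081 (iv D46528) (iv D33488) F201899 (iv F177401)
theorem F210722 : act 9 n47081 = n46381 := d43_2 F208277 D47081 F208278
def n47082 : Q := act 8 n42435
theorem D47082 : act 8 n42435 = n47082 := rfl
theorem F210723 : act 1 n47082 = n45128 := d15_1 D47082 F188224 (iv F206323)
theorem F210724 : act 2 n47082 = n47082 := d22_1 D47082 (iv D47082) F177399
theorem F210725 : act 4 n47082 = n44296 := d33_1 D47082 F185033 F206326
theorem F210726 : act 5 n47082 = n42437 := d37_1 D47082 (iv D42437) D42435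
theorem F210727 : act 6 n47082 = n44293 := d40_1 D47082 F201814 (iv F177401)
def n47083 : Q := act 8 n42436
theorem D47083 : act 8 n42436 = n47083 := rfl
theorem F210728 : act 2 n47083 = n47083 := d22_1 D47083 (iv D47083) F177402
theorem F210729 : act 4 n47083 = n47083 := d33_1 D47083 (iv D47083) F177404
theorem F210730 : act 6 n47083 = n42675 := d40_1 D47083 (iv D42675) (iv F177405)
theorem F210731 : act 7 n47083 = n42437 := d42_1 D47083 (iv D42437) D42436
def n47084 : Q := act 3 n42437
theorem D47084 : act 3 n42437 = n47084 := rfl
theorem F210732 : act 6 n47084 = n42438 := d26_2 (iv F177408) D47084 (iv D42438)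
theorem F210733 : act 8 n47084 = n42443 := d28_2 D42437 D47084 (iv D42443) (iv D29130) (iv F123667)
def n47085 : Q := act 9 n42437
theorem D47085 : act 9 n42437 = n47085 := rfl
theorem F210734 : act 2 n47085 = n47085 := d23_1 D47085 (iv D47085) F177406
theorem F210735 : act 4 n47085 = n47085 := d34_1 D47085 (iv D47085) F177407
theorem F210736 : act 6 n47085 = n42439 := d41_1 D47085 (iv D42439) (iv F177408)
def n47086 : Q := act 2 n42438
theorem D47086 : act 2 n42438 = n47086 := rfl
theorem F210737 : act 3 n47086 = n47086 := d17_2 D42438 D47086 (iv D47086) (iv D42438) F123669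
theorem F210738 : act 5 n47086 = n45105 := d19_2 (iv F177409) D47086 (iv D45105)
theorem F210739 : act 7 n47086 = n42678 := d21_2 (iv F177410) D47086 (iv D42678)
theorem F210740 : act 8 n47086 = n42445 := d22_2 (iv F177411) D47086 (iv D42445)
def n47087 : Q := act 4 n42438
theorem D47087 : act 4 n42438 = n47087 := rfl
theorem F210741 : act 3 n47087 = n47087 := d24_1 D47087 (iv D47087) (iv D42438) F123670 D42438
theorem F210742 : act 7 n47087 = n42679 := d32_2 (iv F177410) D47087 (iv D42679)
theorem F210743 : act 8 n47087 = n42446 := d33_2 (iv F177411) D47087 (iv D42446)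
def n47088 : Q := act 9 n42438
theorem D47088 : act 9 n42438 = n47088 := rfl
theorem F210744 : act 3 n47088 = n42439 := d29_1 D47088 (iv D42439) D42438
theorem F210745 : act 5 n47088 = n45107 := d38_1 D47088 (iv D45107) (iv F177409)
theorem F210746 : act 7 n47088 = n42680 := d43_1 D47088 (iv D42680) (iv F177410)
def n47089 : Q := act 6 n42440
theorem D47089 : act 6 n42440 = n47089 := rfl
theorem F210747 : act 1 n47089 = n46537 := d13_1 D47089 (iv F208128) F208124
theorem F210748 : act 2 n47089 = n42458 := d20_1 D47089 (iv D42458) (iv F177416)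
theorem F210749 : act 3 n47089 = n46528 := d26_1 D47089 (iv F210721) F210718
theorem F210750 : act 4 n47089 = n47089 := d31_1 D47089 (iv D47089) F177417
theorem F210751 : act 5 n47089 = n42681 := d35_1 D47089 (iv D42681) F124308 (iv F123678) (iv F177418)
theorem F210752 : act 7 n47089 = n45108 := d39_2 D42440 D47089 (iv D45108) (iv D30924) (iv F123675)
def n47090 : Q := act 3 n42441
theorem D47090 : act 3 n42441 = n47090 := rfl
theorem F210753 : act 5 n47090 = n42443 := d25_2 (iv F177421) D47090 (iv D42443)
theorem F210754 : act 6 n47090 = n45110 := d26_2 (iv F177422) D47090 (iv D45110)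
def n47091 : Q := act 9 n42441
theorem D47091 : act 9 n42441 = n47091 := rfl
theorem F210755 : act 2 n47091 = n42461 := d23_1 D47091 (iv D42461) (iv F177419)
theorem F210756 : act 4 n47091 = n47091 := d34_1 D47091 (iv D47091) F177420
theorem F210757 : act 5 n47091 = n42444 := d38_1 D47091 (iv D42444) (iv F177421)
theorem F210758 : act 6 n47091 = n45111 := d41_1 D47091 (iv D45111) (iv F177422)
def n47092 : Q := act 3 n42442
theorem D47092 : act 3 n42442 = n47092 := rfl
theorem F210759 : act 1 n47092 = n44422 := d10_1 D47092 F185528 (iv F205824)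
theorem F210760 : act 2 n47092 = n45239 := d17_1 D47092 F188624 F131421 F205825 (iv F177423)
theorem F210761 : act 4 n47092 = n45340 := d24_2 (iv F177424) D47092 F188950 F131657 (iv F205400)
theorem F210762 : act 6 n47092 = n42685 := d26_2 (iv F177425) D47092 (iv D42685)
theorem F210763 : act 7 n47092 = n42443 := d27_2 (iv F177426) D47092 (iv D42443)
def n47093 : Q := act 9 n42442
theorem D47093 : act 9 n42442 = n47093 := rfl
theorem F210764 : act 1 n47093 = n44444 := d16_1 D47093 (iv D44444) (iv F205824)
theorem F210765 : act 2 n47093 = n42463 := d23_1 D47093 (iv D42463) (iv F177423)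
theorem F210766 : act 4 n47093 = n42449 := d34_1 D47093 (iv D42449) (iv F177424)
theorem F210767 : act 6 n47093 = n42686 := d41_1 D47093 (iv D42686) (iv F177425)
theorem F210768 : act 7 n47093 = n42444 := d43_1 D47093 (iv D42444) (iv F177426)
def n47094 : Q := act 2 n42443
theorem D47094 : act 2 n42443 = n47094 := rfl
theorem F210769 : act 1 n47094 = n45008 := d9_1 D47094 (iv D45008) (iv F184702) (iv F208366) F208365
theorem F210770 : act 3 n47094 = n42464 := d17_2 D42443 D47094 (iv D42464) (iv D29144) (iv F123679)
theorem F210771 : act 6 n47094 = n42445 := d20_2 (iv F177427) D47094 (iv D42445)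
theorem F210772 : act 7 n47094 = n45239 := d21_2 F210763 D47094 (iv F210760)
def n47095 : Q := act 4 n42443
theorem D47095 : act 4 n42443 = n47095 := rfl
theorem F210773 : act 1 n47095 = n45075 := d11_1 D47095 (iv F208367) F208365
theorem F210774 : act 3 n47095 = n42450 := d24_1 D47095 (iv D42450) (iv D29134) (iv F123680) D42443
theorem F210775 : act 6 n47095 = n42446 := d31_2 (iv F177427) D47095 (iv D42446)
theorem F210776 : act 7 n47095 = n45340 := d32_2 F210763 D47095 (iv F210761)
def n47096 : Q := act 9 n42443
theorem D47096 : act 9 n42443 = n47096 := rfl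
theorem F210777 : act 3 n47096 = n42444 := d29_1 D47096 (iv D42444) D42443
theorem F210778 : act 6 n47096 = n42447 := d41_1 D47096 (iv D42447) (iv F177427)
def n47097 : Q := act 1 n42445
theorem D47097 : act 1 n42445 = n47097 := rfl
theorem F210779 : act 2 n47097 = n45006 := d9_2 D42445 D47097 F208382 (iv D46656) F175346
theorem F210780 : act 3 n47097 = n42466 := d10_2 (iv F177431) D47097 (iv D42466)
theorem F210781 : act 5 n47097 = n45117 := d12_2 (iv F177432) D47097 (iv D45117)
theorem F210782 : act 6 n47097 = n45008 := d13_2 F210771 D47097 (iv F210769)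
theorem F210783 : act 7 n47097 = n42690 := d14_2 (iv F177433) D47097 (iv D42690)
def n47098 : Q := act 4 n42445
theorem D47098 : act 4 n42445 = n47098 := rfl
theorem F210784 : act 2 n47098 = n42446 := d18_1 D47098 (iv D42446) D42445
theorem F210785 : act 3 n47098 = n47098 := d24_1 D47098 (iv D47098) F177431 F123738 (iv F177431)
theorem F210786 : act 7 n47098 = n42691 := d32_2 (iv F177433) D47098 (iv D42691)
def n47099 : Q := act 9 n42445
theorem D47099 : act 9 n42445 = n47099 := rfl
theorem F210787 : act 2 n47099 = n42447 := d23_1 D47099 (iv D42447) D42445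
theorem F210788 : act 3 n47099 = n42467 := d29_1 D47099 (iv D42467) (iv F177431)
theorem F210789 : act 5 n47099 = n45119 := d38_1 D47099 (iv D45119) (iv F177432)
theorem F210790 : act 7 n47099 = n42692 := d43_1 D47099 (iv D42692) (iv F177433)
def n47100 : Q := act 5 n42446
theorem D47100 : act 5 n42446 = n47100 := rfl
theorem F210791 : act 3 n47100 = n42452 := d25_1 D47100 (iv D42452) (iv F177434)
theorem F210792 : act 4 n47100 = n45120 := d30_1 D47100 (iv D45120) (iv D30930) (iv F123682) D42446
theorem F210793 : act 7 n47100 = n42693 := d36_2 (iv F177435) D47100 (iv D42693)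
def n47101 : Q := act 9 n42446
theorem D47101 : act 9 n42446 = n47101 := rfl
theorem F210794 : act 3 n47101 = n42453 := d29_1 D47101 (iv D42453) (iv F177434)
theorem F210795 : act 4 n47101 = n42447 := d34_1 D47101 (iv D42447) D42446
theorem F210796 : act 7 n47101 = n42694 := d43_1 D47101 (iv D42694) (iv F177435)
def n47102 : Q := act 8 n42447
theorem D47102 : act 8 n42447 = n47102 := rfl
theorem F210797 : act 5 n47102 = n45122 := d37_1 D47102 (iv D45122) (iv F177437)
theorem F210798 : act 7 n47102 = n42695 := d42_1 D47102 (iv D42695) (iv F177438)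
def n47103 : Q := act 9 n42450
theorem D47103 : act 9 n42450 = n47103 := rfl
theorem F210799 : act 1 n47103 = n45097 := d16_1 D47103 (iv D45097) (iv F205527)
theorem F210800 : act 2 n47103 = n47103 := d23_1 D47103 (iv D47103) F177448
theorem F210801 : act 4 n47103 = n42451 := d34_1 D47103 (iv D42451) D42450
theorem F210802 : act 6 n47103 = n42453 := d41_1 D47103 (iv D42453) (iv F177449)
theorem F210803 : act 7 n47103 = n45370 := d43_1 D47103 (iv D45370) (iv F205528)
def n47104 : Q := act 8 n42451
theorem D47104 : act 8 n42451 = n47104 := rfl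
theorem F210804 : act 1 n47104 = n46342 := d15_1 D47104 (iv D46342) F206477
theorem F210805 : act 2 n47104 = n47104 := d22_1 D47104 (iv D47104) F177451
theorem F210806 : act 5 n47104 = n47104 := d37_1 D47104 (iv D47104) F177453
theorem F210807 : act 6 n47104 = n42454 := d40_1 D47104 (iv D42454) (iv F177454)
theorem F210808 : act 7 n47104 = n46379 := d42_1 D47104 (iv D46379) (iv F206486)
theorem F210809 : act 9 n47104 = n47104 := d44_2 D42451 D47104 (iv D47104) (iv D42451) F123695
def n47105 : Q := act 6 n42452
theorem D47105 : act 6 n42452 = n47105 := rfl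
theorem F210810 : act 2 n47105 = n47105 := d20_1 D47105 (iv D47105) F177455
theorem F210811 : act 4 n47105 = n42455 := d31_1 D47105 (iv D42455) (iv F177456)
theorem F210812 : act 8 n47105 = n47105 := d40_2 F177458 D47105 (iv D47105)
def n47106 : Q := act 9 n42452
theorem D47106 : act 9 n42452 = n47106 := rfl
theorem F210813 : act 2 n47106 = n47106 := d23_1 D47106 (iv D47106) F177455
theorem F210814 : act 4 n47106 = n42456 := d34_1 D47106 (iv D42456) (iv F177456)
theorem F210815 : act 5 n47106 = n42453 := d38_1 D47106 (iv D42453) D42452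
theorem F210816 : act 7 n47106 = n42702 := d43_1 D47106 (iv D42702) (iv F177457)
def n47107 : Q := act 8 n42453
theorem D47107 : act 8 n42453 = n47107 := rfl
theorem F210817 : act 2 n47107 = n47107 := d22_1 D47107 (iv D47107) F177459
theorem F210818 : act 4 n47107 = n42454 := d33_1 D47107 (iv D42454) (iv F177460)
theorem F210819 : act 7 n47107 = n42703 := d42_1 D47107 (iv D42703) (iv F177461)
theorem F210820 : act 9 n47107 = n47107 := d44_2 D42453 D47107 (iv D47107) (iv D42453) F123701
def n47108 : Q := act 7 n42455
theorem D47108 : act 7 n42455 = n47108 := rfl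
theorem F210821 : act 2 n47108 = n47108 := d21_1 D47108 (iv D47108) F177466
theorem F210822 : act 3 n47108 = n45131 := d27_1 D47108 (iv D45131) (iv F177467)
theorem F210823 : act 5 n47108 = n47108 := d36_1 D47108 (iv D47108) F177468
theorem F210824 : act 6 n47108 = n42704 := d39_1 D47108 (iv D42704) (iv D29304) (iv F123708) D42455
theorem F210825 : act 8 n47108 = n47108 := d42_2 F177469 D47108 (iv D47108)
theorem F210826 : act 9 n46402 = n47108 := d29_0 F210822 F206460 D46402
def n47109 : Q := act 9 n42455
theorem D47109 : act 9 n42455 = n47109 := rfl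
theorem F210827 : act 2 n47109 = n47109 := d23_1 D47109 (iv D47109) F177466
theorem F210828 : act 3 n47109 = n45132 := d29_1 D47109 (iv D45132) (iv F177467)
theorem F210829 : act 5 n47109 = n47109 := d38_1 D47109 (iv D47109) F177468
theorem F210830 : act 6 n47109 = n42456 := d41_1 D47109 (iv D42456) D42455
theorem F210831 : act 7 n47109 = n46402 := d43_1 D47109 F210826 (iv D47108)
theorem F210832 : act 8 n46357 = n47109 := d42_0 F210831 F207081 (iv F206909)
def n47110 : Q := act 8 n42456
theorem D47110 : act 8 n42456 = n47110 := rfl
theorem F210833 : act 2 n47110 = n47110 := d22_1 D47110 (iv D47110) F177470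
theorem F210834 : act 3 n47110 = n46354 := d28_1 D47110 (iv D46354) (iv F206440) F202066 (iv F177471)
theorem F210835 : act 5 n47110 = n42457 := d37_1 D47110 (iv D42457) (iv F177472)
theorem F210836 : act 6 n47110 = n46357 := d40_1 D47110 F210832 F210830
theorem F210837 : act 7 n47110 = n42706 := d42_1 D47110 (iv D42706) (iv F177473)
theorem F210838 : act 9 n47110 = n47110 := d44_2 D42456 D47110 (iv D47110) (iv D42456) F123709
def n47111 : Q := act 9 n42464
theorem D47111 : act 9 n42464 = n47111 := rfl
theorem F210839 : act 1 n47111 = n45030 := d16_1 D47111 (iv D45030) (iv F206138)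
theorem F210840 : act 2 n47111 = n42465 := d23_1 D47111 (iv D42465) D42464
theorem F210841 : act 4 n47111 = n47111 := d34_1 D47111 (iv D47111) F177505
theorem F210842 : act 6 n47111 = n42467 := d41_1 D47111 (iv D42467) (iv F177506)
theorem F210843 : act 7 n47111 = n45269 := d43_1 D47111 (iv D45269) (iv F206139)
def n47112 : Q := act 8 n42465
theorem D47112 : act 8 n42465 = n47112 := rfl
theorem F210844 : act 1 n47112 = n42479 := d15_1 D47112 (iv D42479) (iv F177508)
theorem F210845 : act 4 n47112 = n47112 := d33_1 D47112 (iv D47112) F177510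
theorem F210846 : act 6 n47112 = n42468 := d40_1 D47112 (iv D42468) (iv F177511)
theorem F210847 : act 7 n47112 = n45288 := d42_1 D47112 (iv D45288) (iv F206143)
theorem F210848 : act 9 n47112 = n47112 := d44_2 D42465 D47112 (iv D47112) (iv D42465) F123734
def n47113 : Q := act 0 n42466
theorem D47113 : act 0 n42466 = n47113 := rfl
theorem F210849 : act 2 n47113 = n42480 := d1_2 (iv F177512) D47113 (iv D42480)
theorem F210850 : act 4 n47113 = n47113 := d3_2 F177513 D47113 (iv D47113)
theorem F210851 : act 5 n47113 = n45146 := d4_2 (iv F177514) D47113 (iv D45146)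
theorem F210852 : act 6 n47113 = n44995 := d5_2 (iv F206175) D47113 F187725
theorem F210853 : act 7 n47113 = n42719 := d6_2 (iv F177515) D47113 (iv D42719)
theorem F210854 : act 8 n47113 = n47113 := d7_2 F177516 D47113 (iv D47113)
def n47114 : Q := act 9 n42466
theorem D47114 : act 9 n42466 = n47114 := rfl
theorem F210855 : act 1 n47114 = n42467 := d16_1 D47114 (iv D42467) D42466
theorem F210856 : act 2 n47114 = n42481 := d23_1 D47114 (iv D42481) (iv F177512)
theorem F210857 : act 4 n47114 = n47114 := d34_1 D47114 (iv D47114) F177513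
theorem F210858 : act 5 n47114 = n45147 := d38_1 D47114 (iv D45147) (iv F177514)
theorem F210859 : act 6 n47114 = n45030 := d41_1 D47114 (iv D45030) (iv F206175)
theorem F210860 : act 7 n47114 = n42720 := d43_1 D47114 (iv D42720) (iv F177515)
def n47115 : Q := act 8 n42467
theorem D47115 : act 8 n42467 = n47115 := rfl
theorem F210861 : act 2 n47115 = n42468 := d22_1 D47115 (iv D42468) (iv F177517)
theorem F210862 : act 4 n47115 = n47115 := d33_1 D47115 (iv D47115) F177518
theorem F210863 : act 5 n47115 = n45148 := d37_1 D47115 (iv D45148) (iv F177519)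
theorem F210864 : act 7 n47115 = n42721 := d42_1 D47115 (iv D42721) (iv F177520)
theorem F210865 : act 9 n47115 = n47115 := d44_2 D42467 D47115 (iv D47115) (iv D42467) F123741
def n47116 : Q := act 9 n42480
theorem D47116 : act 9 n42480 = n47116 := rfl
theorem F210866 : act 0 n47116 = n42481 := d8_1 D47116 (iv D42481) D42480
theorem F210867 : act 1 n47116 = n47116 := d16_1 D47116 (iv D47116) F177573
theorem F210868 : act 3 n47116 = n44994 := d29_1 D47116 (iv D44994) (iv F206173)
theorem F210869 : act 4 n47116 = n47116 := d34_1 D47116 (iv D47116) F177574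
theorem F210870 : act 5 n47116 = n45165 := d38_1 D47116 (iv D45165) (iv F177575)
theorem F210871 : act 6 n47116 = n44996 := d41_1 D47116 (iv D44996) (iv F206174)
theorem F210872 : act 7 n47116 = n42738 := d43_1 D47116 (iv D42738) (iv F177576)
def n47117 : Q := act 8 n42481
theorem D47117 : act 8 n42481 = n47117 := rfl
theorem F210873 : act 1 n47117 = n42482 := d15_1 D47117 (iv D42482) (iv F177578)
theorem F210874 : act 3 n47117 = n45145 := d28_1 D47117 (iv D45145) F131126 (iv F130827) (iv F206176)
theorem F210875 : act 4 n47117 = n47117 := d33_1 D47117 (iv D47117) F177579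
theorem F210876 : act 5 n47117 = n45166 := d37_1 D47117 (iv D45166) (iv F177580)
theorem F210877 : act 6 n47117 = n45031 := d40_1 D47117 (iv D45031) (iv F206177)
theorem F210878 : act 7 n47117 = n42739 := d42_1 D47117 (iv D42739) (iv F177581)
theorem F210879 : act 9 n47117 = n47117 := d44_2 D42481 D47117 (iv D47117) (iv D42481) F123789
def n47118 : Q := act 9 n42486
theorem D47118 : act 9 n42486 = n47118 := rfl
theorem F210880 : act 0 n47118 = n47118 := d8_1 D47118 (iv D47118) F177603
theorem F210881 : act 1 n47118 = n42496 := d16_1 D47118 (iv D42496) (iv F177604)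
theorem F210882 : act 2 n47118 = n46359 := d23_1 D47118 (iv D46359) (iv F206331)
theorem F210883 : act 3 n47118 = n42487 := d29_1 D47118 (iv D42487) D42486
theorem F210884 : act 4 n47118 = n46358 := d34_1 D47118 (iv D46358) (iv F206332)
theorem F210885 : act 6 n47118 = n42750 := d41_1 D47118 (iv D42750) (iv F177605)
theorem F210886 : act 7 n47118 = n46362 := d43_1 D47118 (iv D46362) F206330
def n47119 : Q := act 3 n42492
theorem D47119 : act 3 n42492 = n47119 := rfl
theorem F210887 : act 0 n47119 = n42512 := d2_1 D47119 (iv D42512) (iv F177631)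
theorem F210888 : act 1 n47119 = n42531 := d10_1 D47119 (iv D42531) (iv F199417)
theorem F210889 : act 2 n47119 = n42556 := d17_1 D47119 (iv D42556) F124001 (iv F123847) (iv F177632)
theorem F210890 : act 4 n47119 = n42598 := d24_2 (iv F199418) D47119 (iv D42598) F124104 (iv F123915)
theorem F210891 : act 5 n47119 = n42759 := d25_2 (iv F177633) D47119 (iv D42759)
theorem F210892 : act 6 n47119 = n42493 := d26_2 (iv F177634) D47119 (iv D42493)
theorem F210893 : act 7 n47119 = n42522 := d27_2 (iv F199419) D47119 (iv D42522)
theorem F210894 : act 8 n47119 = n47119 := d28_2 D42492 D47119 (iv D47119) (iv D42492) F123816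
def n47120 : Q := act 9 n42492
theorem D47120 : act 9 n42492 = n47120 := rfl
theorem F210895 : act 0 n47120 = n42513 := d8_1 D47120 (iv D42513) (iv F177631)
theorem F210896 : act 1 n47120 = n42532 := d16_1 D47120 (iv D42532) (iv F199417)
theorem F210897 : act 2 n47120 = n42503 := d23_1 D47120 (iv D42503) (iv F177632)
theorem F210898 : act 4 n47120 = n42526 := d34_1 D47120 (iv D42526) (iv F199418)
theorem F210899 : act 5 n47120 = n42760 := d38_1 D47120 (iv D42760) (iv F177633)
theorem F210900 : act 6 n47120 = n42494 := d41_1 D47120 (iv D42494) (iv F177634)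
theorem F210901 : act 7 n47120 = n42523 := d43_1 D47120 (iv D42523) (iv F199419)
theorem F210902 : act 8 n47120 = n47120 := d44_1 D47120 (iv D47120) (iv D42492) F123818 D42492
def n47121 : Q := act 9 n42493
theorem D47121 : act 9 n42493 = n47121 := rfl
theorem F210903 : act 0 n47121 = n42515 := d8_1 D47121 (iv D42515) (iv F177635)
theorem F210904 : act 2 n47121 = n42559 := d23_1 D47121 (iv D42559) (iv F177636)
theorem F210905 : act 3 n47121 = n42494 := d29_1 D47121 (iv D42494) D42493
theorem F210906 : act 5 n47121 = n42496 := d38_1 D47121 (iv D42496) (iv F177637)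
def n47122 : Q := act 8 n42496
theorem D47122 : act 8 n42496 = n47122 := rfl
theorem F210907 : act 0 n47122 = n42518 := d7_1 D47122 (iv D42518) (iv F177648)
theorem F210908 : act 2 n47122 = n42562 := d22_1 D47122 (iv D42562) (iv F177649)
theorem F210909 : act 3 n47122 = n47122 := d28_1 D47122 (iv D47122) F177650 F123830 (iv F177650)
theorem F210910 : act 6 n47122 = n42765 := d40_1 D47122 (iv D42765) (iv F177651)
theorem F210911 : act 9 n47122 = n47122 := d44_2 D42496 D47122 (iv D47122) (iv D42496) F123825
def n47123 : Q := act 3 n42499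
theorem D47123 : act 3 n42499 = n47123 := rfl
theorem F210912 : act 0 n47123 = n42522 := d2_1 D47123 (iv D42522) (iv F177663)
theorem F210913 : act 1 n47123 = n47123 := d10_1 D47123 (iv D47123) F177664
theorem F210914 : act 2 n47123 = n42584 := d17_1 D47123 (iv D42584) F124073 (iv F123915) (iv F199559)
theorem F210915 : act 4 n47123 = n42566 := d24_2 (iv F177665) D47123 (iv D42566) F124031 (iv F123847)
theorem F210916 : act 5 n47123 = n42787 := d25_2 (iv F199560) D47123 (iv D42787)
theorem F210917 : act 6 n47123 = n42500 := d26_2 (iv F177666) D47123 (iv D42500)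
theorem F210918 : act 7 n47123 = n42512 := d27_2 (iv F199561) D47123 (iv D42512)
theorem F210919 : act 8 n47123 = n47123 := d28_2 D42499 D47123 (iv D47123) (iv D42499) F123833
def n47124 : Q := act 9 n42499
theorem D47124 : act 9 n42499 = n47124 := rfl
theorem F210920 : act 0 n47124 = n42523 := d8_1 D47124 (iv D42523) (iv F177663)
theorem F210921 : act 1 n47124 = n47124 := d16_1 D47124 (iv D47124) F177664
theorem F210922 : act 2 n47124 = n42526 := d23_1 D47124 (iv D42526) (iv F199559)
theorem F210923 : act 4 n47124 = n42503 := d34_1 D47124 (iv D42503) (iv F177665)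
theorem F210924 : act 5 n47124 = n42788 := d38_1 D47124 (iv D42788) (iv F199560)
theorem F210925 : act 6 n47124 = n42501 := d41_1 D47124 (iv D42501) (iv F177666)
theorem F210926 : act 7 n47124 = n42513 := d43_1 D47124 (iv D42513) (iv F199561)
theorem F210927 : act 8 n47124 = n47124 := d44_1 D47124 (iv D47124) (iv D42499) F123835 D42499
def n47125 : Q := act 9 n42500
theorem D47125 : act 9 n42500 = n47125 := rfl
theorem F210928 : act 0 n47125 = n42525 := d8_1 D47125 (iv D42525) (iv F177667)
theorem F210929 : act 1 n47125 = n47125 := d16_1 D47125 (iv D47125) F177668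
theorem F210930 : act 3 n47125 = n42501 := d29_1 D47125 (iv D42501) D42500
theorem F210931 : act 4 n47125 = n42569 := d34_1 D47125 (iv D42569) (iv F177669)
theorem F210932 : act 5 n47125 = n47125 := d38_1 D47125 (iv D47125) F177670
def n47126 : Q := act 9 n42502
theorem D47126 : act 9 n42502 = n47126 := rfl
theorem F210933 : act 0 n47126 = n42526 := d8_1 D47126 (iv D42526) (iv F177677)
theorem F210934 : act 1 n47126 = n47126 := d16_1 D47126 (iv D47126) F177678
theorem F210935 : act 2 n47126 = n42523 := d23_1 D47126 (iv D42523) (iv F199411)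
theorem F210936 : act 3 n47126 = n42570 := d29_1 D47126 (iv D42570) (iv F177679)
theorem F210937 : act 4 n47126 = n42513 := d34_1 D47126 (iv D42513) (iv F199412)
theorem F210938 : act 5 n47126 = n42773 := d38_1 D47126 (iv D42773) (iv F177680)
theorem F210939 : act 6 n47126 = n42510 := d41_1 D47126 (iv D42510) (iv F199413)
theorem F210940 : act 7 n47126 = n42503 := d43_1 D47126 (iv D42503) (iv F177681)
theorem F210941 : act 8 n47126 = n47126 := d44_1 D47126 (iv D47126) (iv D42502) F123844 D42502
def n47127 : Q := act 4 n42512
theorem D47127 : act 4 n42512 = n47127 := rfl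
theorem F210942 : act 0 n47127 = n42598 := d3_1 D47127 (iv F210890) F210887
theorem F210943 : act 1 n47127 = n47127 := d11_1 D47127 (iv D47127) F177721
theorem F210944 : act 2 n47127 = n42586 := d18_1 D47127 (iv D42586) (iv F177722)
theorem F210945 : act 3 n47127 = n42565 := d24_1 D47127 F177946 (iv F177679) F199412 D42512
theorem F210946 : act 6 n47127 = n42514 := d31_2 (iv F177724) D47127 (iv D42514)
theorem F210947 : act 7 n47127 = n42566 := d32_2 F210918 D47127 (iv F210915)
theorem F210948 : act 8 n47127 = n47127 := d33_2 F177725 D47127 (iv D47127)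
def n47128 : Q := act 9 n42512
theorem D47128 : act 9 n42512 = n47128 := rfl
theorem F210949 : act 1 n47128 = n47128 := d16_1 D47128 (iv D47128) F177721
theorem F210950 : act 2 n47128 = n42587 := d23_1 D47128 (iv D42587) (iv F177722)
theorem F210951 : act 3 n47128 = n42513 := d29_1 D47128 (iv D42513) D42512
theorem F210952 : act 5 n47128 = n42790 := d38_1 D47128 (iv D42790) (iv F177723)
theorem F210953 : act 6 n47128 = n42515 := d41_1 D47128 (iv D42515) (iv F177724)
def n47129 : Q := act 5 n42514
theorem D47129 : act 5 n42514 = n47129 := rfl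
theorem F210954 : act 0 n47129 = n45159 := d4_1 D47129 (iv F210501) F210498
theorem F210955 : act 1 n47129 = n47129 := d12_1 D47129 (iv D47129) F177731
theorem F210956 : act 2 n47129 = n42588 := d19_1 D47129 (iv D42588) (iv F177732)
theorem F210957 : act 4 n47129 = n42516 := d30_1 D47129 (iv D42516) (iv D29179) (iv F123879) D42514
theorem F210958 : act 7 n47129 = n45162 := d36_2 F210168 D47129 (iv F210166)
theorem F210959 : act 8 n47129 = n47129 := d37_2 F177733 D47129 (iv D47129)
theorem F210960 : act 6 n45461 = n47129 := d39_5 F210958 F188353 F131185 (iv F131847) (iv F189324)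
def n47130 : Q := act 9 n42514
theorem D47130 : act 9 n42514 = n47130 := rfl
theorem F210961 : act 1 n47130 = n47130 := d16_1 D47130 (iv D47130) F177731
theorem F210962 : act 2 n47130 = n42589 := d23_1 D47130 (iv D42589) (iv F177732)
theorem F210963 : act 4 n47130 = n42515 := d34_1 D47130 (iv D42515) D42514
def n47131 : Q := act 8 n42515
theorem D47131 : act 8 n42515 = n47131 := rfl
theorem F210964 : act 1 n47131 = n47131 := d15_1 D47131 (iv D47131) F177734
theorem F210965 : act 2 n47131 = n42590 := d22_1 D47131 (iv D42590) (iv F177735)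
theorem F210966 : act 3 n47131 = n47131 := d28_1 D47131 (iv D47131) F177736 F123884 (iv F177736)
theorem F210967 : act 5 n47131 = n42518 := d37_1 D47131 (iv D42518) (iv F177737)
theorem F210968 : act 9 n47131 = n47131 := d44_2 D42515 D47131 (iv D47131) (iv D42515) F123880
def n47132 : Q := act 9 n42516
theorem D47132 : act 9 n42516 = n47132 := rfl
theorem F210969 : act 0 n47132 = n46365 := d8_1 D47132 (iv D46365) (iv F206283)
theorem F210970 : act 1 n47132 = n47132 := d16_1 D47132 (iv D47132) F177738
theorem F210971 : act 2 n47132 = n42592 := d23_1 D47132 (iv D42592) (iv F177739)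
theorem F210972 : act 3 n47132 = n47132 := d29_1 D47132 (iv D47132) F177740
theorem F210973 : act 5 n47132 = n42517 := d38_1 D47132 (iv D42517) D42516
theorem F210974 : act 6 n47132 = n46432 := d41_1 D47132 (iv D46432) (iv F206346)
theorem F210975 : act 7 n47132 = n46367 := d43_1 D47132 (iv D46367) F206345
def n47133 : Q := act 8 n42517
theorem D47133 : act 8 n42517 = n47133 := rfl
theorem F210976 : act 1 n47133 = n47133 := d15_1 D47133 (iv D47133) F177742
theorem F210977 : act 2 n47133 = n42593 := d22_1 D47133 (iv D42593) (iv F177743)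
theorem F210978 : act 4 n47133 = n42518 := d33_1 D47133 (iv D42518) (iv F177745)
theorem F210979 : act 6 n47133 = n42796 := d40_1 D47133 (iv D42796) (iv F177746)
theorem F210980 : act 9 n47133 = n47133 := d44_2 D42517 D47133 (iv D47133) (iv D42517) F123889
def n47134 : Q := act 3 n42520
theorem D47134 : act 3 n42520 = n47134 := rfl
theorem F210981 : act 0 n47134 = n42787 := d2_1 D47134 (iv D42787) (iv F199405)
theorem F210982 : act 1 n47134 = n42529 := d10_1 D47134 (iv D42529) (iv F177757)
theorem F210983 : act 2 n47134 = n42854 := d17_1 D47134 (iv D42854) F124791 (iv F124552) (iv F199406)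
theorem F210984 : act 4 n47134 = n46554 := d24_2 (iv F177758) D47134 (iv D46554) F146165 (iv F203960)
theorem F210985 : act 5 n47134 = n42522 := d25_2 (iv F177759) D47134 (iv D42522)
theorem F210986 : act 6 n47134 = n47134 := d26_2 F177760 D47134 (iv D47134)
theorem F210987 : act 7 n47134 = n42759 := d27_2 (iv F199407) D47134 (iv D42759)
theorem F210988 : act 8 n47134 = n47134 := d28_2 D42520 D47134 (iv D47134) (iv D42520) F123895
def n47135 : Q := act 9 n42520
theorem D47135 : act 9 n42520 = n47135 := rfl
theorem F210989 : act 0 n47135 = n42788 := d8_1 D47135 (iv D42788) (iv F199405)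
theorem F210990 : act 1 n47135 = n42530 := d16_1 D47135 (iv D42530) (iv F177757)
theorem F210991 : act 2 n47135 = n42773 := d23_1 D47135 (iv D42773) (iv F199406)
theorem F210992 : act 4 n47135 = n42800 := d34_1 D47135 (iv D42800) (iv F177758)
theorem F210993 : act 5 n47135 = n42523 := d38_1 D47135 (iv D42523) (iv F177759)
theorem F210994 : act 6 n47135 = n47135 := d41_1 D47135 (iv D47135) F177760
theorem F210995 : act 7 n47135 = n42760 := d43_1 D47135 (iv D42760) (iv F199407)
theorem F210996 : act 8 n47135 = n47135 := d44_1 D47135 (iv D47135) (iv D42520) F123898 D42520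
def n47136 : Q := act 2 n42522
theorem D47136 : act 2 n42522 = n47136 := rfl
theorem F210997 : act 0 n47136 = n42584 := d1_1 D47136 (iv F210914) F210912
theorem F210998 : act 3 n47136 = n42555 := d17_2 D42522 D47136 F177905 (iv F177679) F199411
theorem F210999 : act 4 n47136 = n42600 := d18_2 (iv F177765) D47136 (iv D42600)
theorem F211000 : act 5 n47136 = n42854 := d19_2 F210985 D47136 (iv F210983)
theorem F211001 : act 6 n47136 = n42524 := d20_2 (iv F177766) D47136 (iv D42524)
theorem F211002 : act 7 n47136 = n42556 := d21_2 F210893 D47136 (iv F210889)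
theorem F211003 : act 8 n47136 = n47136 := d22_2 F177767 D47136 (iv D47136)
def n47137 : Q := act 9 n42522
theorem D47137 : act 9 n42522 = n47137 := rfl
theorem F211004 : act 1 n47137 = n42534 := d16_1 D47137 (iv D42534) (iv F177764)
theorem F211005 : act 3 n47137 = n42523 := d29_1 D47137 (iv D42523) D42522
theorem F211006 : act 4 n47137 = n42601 := d34_1 D47137 (iv D42601) (iv F177765)
theorem F211007 : act 6 n47137 = n42525 := d41_1 D47137 (iv D42525) (iv F177766)
def n47138 : Q := act 1 n42524
theorem D47138 : act 1 n42524 = n47138 := rfl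
theorem F211008 : act 2 n47138 = n42535 := d9_2 D42524 D47138 (iv D42535) (iv D29193) (iv F123906)
theorem F211009 : act 4 n47138 = n42602 := d11_2 (iv F177772) D47138 (iv D42602)
theorem F211010 : act 5 n47138 = n47138 := d12_2 F177773 D47138 (iv D47138)
theorem F211011 : act 8 n47138 = n47138 := d15_2 F177774 D47138 (iv D47138)
def n47139 : Q := act 9 n42524
theorem D47139 : act 9 n42524 = n47139 := rfl
theorem F211012 : act 2 n47139 = n42525 := d23_1 D47139 (iv D42525) D42524
theorem F211013 : act 4 n47139 = n42603 := d34_1 D47139 (iv D42603) (iv F177772)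
theorem F211014 : act 5 n47139 = n47139 := d38_1 D47139 (iv D47139) F177773
def n47140 : Q := act 8 n42525
theorem D47140 : act 8 n42525 = n47140 := rfl
theorem F211015 : act 1 n47140 = n42537 := d15_1 D47140 (iv D42537) (iv F177775)
theorem F211016 : act 3 n47140 = n47140 := d28_1 D47140 (iv D47140) F177776 F123913 (iv F177776)
theorem F211017 : act 4 n47140 = n42604 := d33_1 D47140 (iv D42604) (iv F177777)
theorem F211018 : act 5 n47140 = n47140 := d37_1 D47140 (iv D47140) F177778
theorem F211019 : act 9 n47140 = n47140 := d44_2 D42525 D47140 (iv D47140) (iv D42525) F123909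
def n47141 : Q := act 3 n42528
theorem D47141 : act 3 n42528 = n47141 := rfl
theorem F211020 : act 0 n47141 = n47141 := d2_1 D47141 (iv D47141) F177790
theorem F211021 : act 1 n47141 = n42759 := d10_1 D47141 (iv D42759) (iv F199415)
theorem F211022 : act 4 n47141 = n43500 := d24_2 (iv F177792) D47141 (iv D43500) F203963 (iv F204049)
theorem F211023 : act 5 n47141 = n42531 := d25_2 (iv F177793) D47141 (iv D42531)
theorem F211024 : act 6 n47141 = n42746 := d26_2 (iv F199416) D47141 (iv D42746)
theorem F211025 : act 7 n47141 = n42529 := d27_2 (iv F177794) D47141 (iv D42529)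
theorem F211026 : act 8 n47141 = n47141 := d28_2 D42528 D47141 (iv D47141) (iv D42528) F123925
theorem F211027 : act 2 n43723 = n47141 := d20_3 F211024 F204282 (iv F182624)
def n47142 : Q := act 9 n42528
theorem D47142 : act 9 n42528 = n47142 := rfl
theorem F211028 : act 0 n47142 = n47142 := d8_1 D47142 (iv D47142) F177790
theorem F211029 : act 1 n47142 = n42760 := d16_1 D47142 (iv D42760) (iv F199415)
theorem F211030 : act 2 n47142 = n47142 := d23_1 D47142 (iv D47142) F177791
theorem F211031 : act 4 n47142 = n42810 := d34_1 D47142 (iv D42810) (iv F177792)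
theorem F211032 : act 5 n47142 = n42532 := d38_1 D47142 (iv D42532) (iv F177793)
theorem F211033 : act 6 n47142 = n42747 := d41_1 D47142 (iv D42747) (iv F199416)
theorem F211034 : act 7 n47142 = n42530 := d43_1 D47142 (iv D42530) (iv F177794)
theorem F211035 : act 8 n47142 = n47142 := d44_1 D47142 (iv D47142) (iv D42528) F123928 D42528
def n47143 : Q := act 2 n42529
theorem D47143 : act 2 n42529 = n47143 := rfl
theorem F211036 : act 0 n47143 = n47143 := d1_1 D47143 (iv D47143) F177795
theorem F211037 : act 3 n47143 = n47143 := d17_2 D42529 D47143 (iv D47143) (iv D42529) F123930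
theorem F211038 : act 5 n47143 = n42533 := d19_2 (iv F177796) D47143 (iv D42533)
theorem F211039 : act 6 n47143 = n47143 := d20_2 F177797 D47143 (iv D47143)
theorem F211040 : act 7 n47143 = n43723 := d21_2 F211025 D47143 F211027
theorem F211041 : act 8 n47143 = n47143 := d22_2 F177798 D47143 (iv D47143)
theorem F211042 : act 4 n43720 = n47143 := d32_3 F211040 (iv D43723) (iv F182613)
def n47144 : Q := act 4 n42529
theorem D47144 : act 4 n42529 = n47144 := rfl
theorem F211043 : act 0 n47144 = n47144 := d3_1 D47144 (iv D47144) F177795
theorem F211044 : act 1 n47144 = n46554 := d11_1 D47144 (iv F210984) F210982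
theorem F211045 : act 2 n47144 = n43720 := d18_1 D47144 F211042 (iv D47143)
theorem F211046 : act 3 n47144 = n42812 := d24_1 D47144 (iv D42812) (iv D29378) (iv F123931) D42529
theorem F211047 : act 5 n47144 = n42609 := d30_2 (iv F177796) D47144 (iv D42609) F124132 (iv F123939)
theorem F211048 : act 6 n47144 = n47144 := d31_2 F177797 D47144 (iv D47144)
theorem F211049 : act 7 n47144 = n43500 := d32_2 F211025 D47144 (iv F211022)
theorem F211050 : act 8 n47144 = n47144 := d33_2 F177798 D47144 (iv D47144)
def n47145 : Q := act 9 n42529
theorem D47145 : act 9 n42529 = n47145 := rfl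
theorem F211051 : act 0 n47145 = n47145 := d8_1 D47145 (iv D47145) F177795
theorem F211052 : act 3 n47145 = n42530 := d29_1 D47145 (iv D42530) D42529
theorem F211053 : act 5 n47145 = n42534 := d38_1 D47145 (iv D42534) (iv F177796)
theorem F211054 : act 6 n47145 = n47145 := d41_1 D47145 (iv D47145) F177797
def n47146 : Q := act 2 n42531
theorem D47146 : act 2 n42531 = n47146 := rfl
theorem F211055 : act 0 n47146 = n47146 := d1_1 D47146 (iv D47146) F177805
theorem F211056 : act 3 n47146 = n47146 := d17_2 D42531 D47146 (iv D47146) (iv D42531) F123935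
theorem F211057 : act 4 n47146 = n42611 := d18_2 (iv F177806) D47146 (iv D42611)
theorem F211058 : act 5 n47146 = n43723 := d19_2 F211023 D47146 F211027
theorem F211059 : act 6 n47146 = n45152 := d20_2 F210214 D47146 (iv F210217)
theorem F211060 : act 7 n47146 = n42533 := d21_2 (iv F177807) D47146 (iv D42533)
theorem F211061 : act 8 n47146 = n47146 := d22_2 F177808 D47146 (iv D47146)
def n47147 : Q := act 9 n42531
theorem D47147 : act 9 n42531 = n47147 := rfl
theorem F211062 : act 0 n47147 = n47147 := d8_1 D47147 (iv D47147) F177805
theorem F211063 : act 3 n47147 = n42532 := d29_1 D47147 (iv D42532) D42531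
theorem F211064 : act 4 n47147 = n42612 := d34_1 D47147 (iv D42612) (iv F177806)
theorem F211065 : act 7 n47147 = n42534 := d43_1 D47147 (iv D42534) (iv F177807)
def n47148 : Q := act 1 n42533
theorem D47148 : act 1 n42533 = n47148 := rfl
theorem F211066 : act 3 n47148 = n47148 := d10_2 F177815 D47148 (iv D47148)
theorem F211067 : act 4 n47148 = n42613 := d11_2 (iv F177816) D47148 (iv D42613)
theorem F211068 : act 6 n47148 = n42535 := d13_2 (iv F177817) D47148 (iv D42535)
theorem F211069 : act 8 n47148 = n47148 := d15_2 F177818 D47148 (iv D47148)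
def n47149 : Q := act 9 n42533
theorem D47149 : act 9 n42533 = n47149 := rfl
theorem F211070 : act 0 n47149 = n47149 := d8_1 D47149 (iv D47149) F177814
theorem F211071 : act 2 n47149 = n42534 := d23_1 D47149 (iv D42534) D42533
theorem F211072 : act 3 n47149 = n47149 := d29_1 D47149 (iv D47149) F177815
theorem F211073 : act 4 n47149 = n42614 := d34_1 D47149 (iv D42614) (iv F177816)
theorem F211074 : act 6 n47149 = n42536 := d41_1 D47149 (iv D42536) (iv F177817)
def n47150 : Q := act 8 n42534
theorem D47150 : act 8 n42534 = n47150 := rfl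
theorem F211075 : act 0 n47150 = n47150 := d7_1 D47150 (iv D47150) F177819
theorem F211076 : act 3 n47150 = n47150 := d28_1 D47150 (iv D47150) F177820 F123946 (iv F177820)
theorem F211077 : act 4 n47150 = n42615 := d33_1 D47150 (iv D42615) (iv F177821)
theorem F211078 : act 6 n47150 = n42537 := d40_1 D47150 (iv D42537) (iv F177822)
theorem F211079 : act 9 n47150 = n47150 := d44_2 D42534 D47150 (iv D47150) (iv D42534) F123941
def n47151 : Q := act 0 n42535
theorem D47151 : act 0 n42535 = n47151 := rfl
theorem F211080 : act 1 n47151 = n47151 := d0_2 D42535 D47151 (iv D47151) (iv D42535) F123947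
theorem F211081 : act 3 n47151 = n47151 := d2_2 F177823 D47151 (iv D47151)
theorem F211082 : act 4 n47151 = n42616 := d3_2 (iv F177824) D47151 (iv D42616)
theorem F211083 : act 5 n47151 = n47151 := d4_2 F177825 D47151 (iv D47151)
theorem F211084 : act 8 n47151 = n47151 := d7_2 F177826 D47151 (iv D47151)
def n47152 : Q := act 9 n42535
theorem D47152 : act 9 n42535 = n47152 := rfl
theorem F211085 : act 1 n47152 = n42536 := d16_1 D47152 (iv D42536) D42535
theorem F211086 : act 3 n47152 = n47152 := d29_1 D47152 (iv D47152) F177823
theorem F211087 : act 4 n47152 = n42617 := d34_1 D47152 (iv D42617) (iv F177824)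
theorem F211088 : act 5 n47152 = n47152 := d38_1 D47152 (iv D47152) F177825
def n47153 : Q := act 8 n42536
theorem D47153 : act 8 n42536 = n47153 := rfl
theorem F211089 : act 0 n47153 = n47153 := d7_1 D47153 (iv D47153) F177827
theorem F211090 : act 2 n47153 = n42537 := d22_1 D47153 (iv D42537) (iv F177828)
theorem F211091 : act 4 n47153 = n42618 := d33_1 D47153 (iv D42618) (iv F177830)
theorem F211092 : act 5 n47153 = n47153 := d37_1 D47153 (iv D47153) F177831
theorem F211093 : act 9 n47153 = n47153 := d44_2 D42536 D47153 (iv D47153) (iv D42536) F123951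
def n47154 : Q := act 6 n42538
theorem D47154 : act 6 n42538 = n47154 := rfl
theorem F211094 : act 0 n47154 = n45108 := d5_1 D47154 (iv D45108) (iv F197911)
theorem F211095 : act 1 n47154 = n42548 := d13_1 D47154 (iv D42548) (iv F177837)
theorem F211096 : act 2 n47154 = n45088 := d20_1 D47154 (iv D45088) (iv F197912)
theorem F211097 : act 3 n47154 = n42539 := d26_1 D47154 (iv D42539) D42538
theorem F211098 : act 4 n47154 = n47154 := d31_1 D47154 (iv D47154) F177838
theorem F211099 : act 5 n47154 = n45331 := d35_1 D47154 (iv D45331) F131559 (iv F130941) (iv F197913)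
theorem F211100 : act 9 n47154 = n42620 := d41_2 (iv F177840) D47154 (iv D42620)
def n47155 : Q := act 8 n42538
theorem D47155 : act 8 n42538 = n47155 := rfl
theorem F211101 : act 0 n47155 = n45109 := d7_1 D47155 (iv D45109) (iv F197911)
theorem F211102 : act 1 n47155 = n42549 := d15_1 D47155 (iv D42549) (iv F177837)
theorem F211103 : act 2 n47155 = n45089 := d22_1 D47155 (iv D45089) (iv F197912)
theorem F211104 : act 4 n47155 = n47155 := d33_1 D47155 (iv D47155) F177838
theorem F211105 : act 5 n47155 = n45072 := d37_1 D47155 (iv D45072) (iv F197913)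
theorem F211106 : act 7 n47155 = n45071 := d42_1 D47155 (iv D45071) (iv F197914)
def n47156 : Q := act 5 n42539
theorem D47156 : act 5 n42539 = n47156 := rfl
theorem F211107 : act 0 n47156 = n45374 := d4_1 D47156 (iv F206418) F206832
theorem F211108 : act 1 n47156 = n42550 := d12_1 D47156 (iv D42550) (iv F177841)
theorem F211109 : act 2 n47156 = n47156 := d19_1 D47156 (iv D47156) F177842
theorem F211110 : act 3 n47156 = n45331 := d25_1 D47156 (iv F211099) F211097
theorem F211111 : act 4 n47156 = n42825 := d30_1 D47156 (iv D42825) F124724 (iv F123969) (iv F177843)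
theorem F211112 : act 6 n47156 = n45171 := d35_2 D42539 D47156 (iv D45171) (iv D30968) (iv F123964)
theorem F211113 : act 9 n47156 = n42622 := d38_2 (iv F177844) D47156 (iv D42622)
def n47157 : Q := act 7 n42539
theorem D47157 : act 7 n42539 = n47157 := rfl
theorem F211114 : act 0 n47157 = n46528 := d6_1 D47157 (iv D46528) F206832
theorem F211115 : act 1 n47157 = n42551 := d14_1 D47157 (iv D42551) (iv F177841)
theorem F211116 : act 2 n47157 = n47157 := d21_1 D47157 (iv D47157) F177842
theorem F211117 : act 4 n47157 = n42541 := d32_1 D47157 (iv D42541) (iv F177843)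
theorem F211118 : act 9 n47157 = n42623 := d43_2 (iv F177844) D47157 (iv D42623)
def n47158 : Q := act 8 n42539
theorem D47158 : act 8 n42539 = n47158 := rfl
theorem F211119 : act 0 n47158 = n44542 := d7_1 D47158 F185917 F206832
theorem F211120 : act 1 n47158 = n42552 := d15_1 D47158 (iv D42552) (iv F177841)
theorem F211121 : act 2 n47158 = n47158 := d22_1 D47158 (iv D47158) F177842
theorem F211122 : act 4 n47158 = n42542 := d33_1 D47158 (iv D42542) (iv F177843)
theorem F211123 : act 6 n47158 = n42540 := d40_1 D47158 (iv D42540) D42539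
def n47159 : Q := act 3 n42540
theorem D47159 : act 3 n42540 = n47159 := rfl
theorem F211124 : act 0 n47159 = n44534 := d2_1 D47159 F185887 (iv F202152)
theorem F211125 : act 1 n47159 = n42553 := d10_1 D47159 (iv D42553) (iv F177845)
theorem F211126 : act 5 n47159 = n44490 := d25_2 (iv F202153) D47159 F185746
def n47160 : Q := act 9 n42540
theorem D47160 : act 9 n42540 = n47160 := rfl
theorem F211127 : act 0 n47160 = n44543 := d8_1 D47160 (iv D44543) (iv F202152)
theorem F211128 : act 1 n47160 = n42554 := d16_1 D47160 (iv D42554) (iv F177845)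
theorem F211129 : act 2 n47160 = n47160 := d23_1 D47160 (iv D47160) F177846
theorem F211130 : act 4 n47160 = n42544 := d34_1 D47160 (iv D42544) (iv F177847)
theorem F211131 : act 5 n47160 = n44497 := d38_1 D47160 (iv D44497) (iv F202153)
theorem F211132 : act 8 n47160 = n42626 := d44_1 D47160 (iv D42626) (iv D29253) (iv F123965) D42540
def n47161 : Q := act 8 n42541
theorem D47161 : act 8 n42541 = n47161 := rfl
theorem F211133 : act 0 n47161 = n44545 := d7_1 D47161 F185929 F206830
theorem F211134 : act 1 n47161 = n42555 := d15_1 D47161 (iv D42555) (iv F177849)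
theorem F211135 : act 2 n47161 = n47161 := d22_1 D47161 (iv D47161) F177850
theorem F211136 : act 5 n47161 = n42830 := d37_1 D47161 (iv D42830) (iv F177852)
theorem F211137 : act 7 n47161 = n42542 := d42_1 D47161 (iv D42542) D42541
def n47162 : Q := act 9 n42542
theorem D47162 : act 9 n42542 = n47162 := rfl
theorem F211138 : act 0 n47162 = n44546 := d8_1 D47162 (iv D44546) (iv F202169)
theorem F211139 : act 1 n47162 = n42557 := d16_1 D47162 (iv D42557) (iv F177854)
theorem F211140 : act 2 n47162 = n47162 := d23_1 D47162 (iv D47162) F177855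
theorem F211141 : act 5 n47162 = n42832 := d38_1 D47162 (iv D42832) (iv F177856)
theorem F211142 : act 6 n47162 = n42544 := d41_1 D47162 (iv D42544) (iv F177857)
theorem F211143 : act 8 n47162 = n42629 := d44_1 D47162 (iv D42629) (iv D29255) (iv F123970) D42542
def n47163 : Q := act 5 n42548
theorem D47163 : act 5 n42548 = n47163 := rfl
theorem F211144 : act 0 n47163 = n42571 := d4_1 D47163 (iv D42571) (iv F177875)
theorem F211145 : act 1 n47163 = n45331 := d12_1 D47163 (iv F211099) F211095
theorem F211146 : act 2 n47163 = n47163 := d19_1 D47163 (iv D47163) F177876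
theorem F211147 : act 3 n47163 = n42550 := d25_1 D47163 (iv D42550) (iv F177877)
theorem F211148 : act 6 n47163 = n45187 := d35_2 D42548 D47163 (iv D45187) (iv D30977) (iv F123985)
theorem F211149 : act 9 n47163 = n42638 := d38_2 (iv F177879) D47163 (iv D42638)
theorem F211150 : act 4 n45664 = n47163 := d31_3 F211148 F198717 D45664
def n47164 : Q := act 7 n42548
theorem D47164 : act 7 n42548 = n47164 := rfl
theorem F211151 : act 0 n47164 = n42572 := d6_1 D47164 (iv D42572) (iv F177875)
theorem F211152 : act 2 n47164 = n47164 := d21_1 D47164 (iv D47164) F177876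
theorem F211153 : act 3 n47164 = n42551 := d27_1 D47164 (iv D42551) (iv F177877)
theorem F211154 : act 4 n47164 = n47164 := d32_1 D47164 (iv D47164) F177878
theorem F211155 : act 9 n47164 = n42639 := d43_2 (iv F177879) D47164 (iv D42639)
def n47165 : Q := act 8 n42548
theorem D47165 : act 8 n42548 = n47165 := rfl
theorem F211156 : act 0 n47165 = n42573 := d7_1 D47165 (iv D42573) (iv F177875)
theorem F211157 : act 2 n47165 = n47165 := d22_1 D47165 (iv D47165) F177876
theorem F211158 : act 4 n47165 = n47165 := d33_1 D47165 (iv D47165) F177878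
theorem F211159 : act 6 n47165 = n42549 := d40_1 D47165 (iv D42549) D42548
def n47166 : Q := act 3 n42549
theorem D47166 : act 3 n42549 = n47166 := rfl
theorem F211160 : act 0 n47166 = n42574 := d2_1 D47166 (iv D42574) (iv F177880)
theorem F211161 : act 5 n47166 = n45190 := d25_2 (iv F177883) D47166 (iv D45190)
theorem F211162 : act 8 n47166 = n42553 := d28_2 D42549 D47166 (iv D42553) (iv D29203) D29201
def n47167 : Q := act 9 n42549
theorem D47167 : act 9 n42549 = n47167 := rfl
theorem F211163 : act 0 n47167 = n42575 := d8_1 D47167 (iv D42575) (iv F177880)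
theorem F211164 : act 2 n47167 = n47167 := d23_1 D47167 (iv D47167) F177881
theorem F211165 : act 4 n47167 = n47167 := d34_1 D47167 (iv D47167) F177882
theorem F211166 : act 5 n47167 = n45191 := d38_1 D47167 (iv D45191) (iv F177883)
theorem F211167 : act 8 n47167 = n42642 := d44_1 D47167 (iv D42642) (iv D29262) (iv F123986) D42549
def n47168 : Q := act 7 n42550
theorem D47168 : act 7 n42550 = n47168 := rfl
theorem F211168 : act 0 n47168 = n42576 := d6_1 D47168 (iv D42576) (iv F177884)
theorem F211169 : act 2 n47168 = n42563 := d21_1 D47168 (iv D42563) (iv F177885)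
theorem F211170 : act 4 n47168 = n42846 := d32_1 D47168 (iv D42846) (iv F177886)
theorem F211171 : act 5 n47168 = n42551 := d36_1 D47168 (iv D42551) D42550
theorem F211172 : act 9 n47168 = n42643 := d43_2 (iv F177888) D47168 (iv D42643)
def n47169 : Q := act 8 n42550
theorem D47169 : act 8 n42550 = n47169 := rfl
theorem F211173 : act 0 n47169 = n42577 := d7_1 D47169 (iv D42577) (iv F177884)
theorem F211174 : act 2 n47169 = n42564 := d22_1 D47169 (iv D42564) (iv F177885)
theorem F211175 : act 4 n47169 = n42847 := d33_1 D47169 (iv D42847) (iv F177886)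
theorem F211176 : act 5 n47169 = n42552 := d37_1 D47169 (iv D42552) D42550
theorem F211177 : act 6 n47169 = n45193 := d40_1 D47169 (iv D45193) (iv F177887)
def n47170 : Q := act 8 n42551
theorem D47170 : act 8 n42551 = n47170 := rfl
theorem F211178 : act 0 n47170 = n42578 := d7_1 D47170 (iv D42578) (iv F177889)
theorem F211179 : act 2 n47170 = n42565 := d22_1 D47170 (iv D42565) (iv F177890)
theorem F211180 : act 4 n47170 = n42555 := d33_1 D47170 (iv D42555) (iv F177891)
theorem F211181 : act 7 n47170 = n42552 := d42_1 D47170 (iv D42552) D42551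
def n47171 : Q := act 3 n42552
theorem D47171 : act 3 n42552 = n47171 := rfl
theorem F211182 : act 0 n47171 = n42579 := d2_1 D47171 (iv D42579) (iv F177893)
theorem F211183 : act 6 n47171 = n42553 := d26_2 (iv F177896) D47171 (iv D42553)
def n47172 : Q := act 9 n42552
theorem D47172 : act 9 n42552 = n47172 := rfl
theorem F211184 : act 0 n47172 = n42580 := d8_1 D47172 (iv D42580) (iv F177893)
theorem F211185 : act 2 n47172 = n42567 := d23_1 D47172 (iv D42567) (iv F177894)
theorem F211186 : act 4 n47172 = n42557 := d34_1 D47172 (iv D42557) (iv F177895)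
theorem F211187 : act 6 n47172 = n42554 := d41_1 D47172 (iv D42554) (iv F177896)
theorem F211188 : act 8 n47172 = n42647 := d44_1 D47172 (iv D42647) (iv D29265) (iv F123990) D42552
def n47173 : Q := act 2 n42553
theorem D47173 : act 2 n42553 = n47173 := rfl
theorem F211189 : act 0 n47173 = n42581 := d1_1 D47173 (iv D42581) (iv F177897)
theorem F211190 : act 3 n47173 = n42568 := d17_2 D42553 D47173 (iv D42568) (iv D29213) (iv F123992)
theorem F211191 : act 5 n47173 = n45197 := d19_2 (iv F177898) D47173 (iv D45197)
def n47174 : Q := act 4 n42553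
theorem D47174 : act 4 n42553 = n47174 := rfl
theorem F211192 : act 0 n47174 = n42582 := d3_1 D47174 (iv D42582) (iv F177897)
theorem F211193 : act 3 n47174 = n42558 := d24_1 D47174 (iv D42558) (iv D29206) (iv F123993) D42553
def n47175 : Q := act 9 n42553
theorem D47175 : act 9 n42553 = n47175 := rfl
theorem F211194 : act 0 n47175 = n42583 := d8_1 D47175 (iv D42583) (iv F177897)
theorem F211195 : act 3 n47175 = n42554 := d29_1 D47175 (iv D42554) D42553
theorem F211196 : act 5 n47175 = n45199 := d38_1 D47175 (iv D45199) (iv F177898)
def n47176 : Q := act 9 n42555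
theorem D47176 : act 9 n42555 = n47176 := rfl
theorem F211197 : act 0 n47176 = n42585 := d8_1 D47176 (iv D42585) (iv F177904)
theorem F211198 : act 2 n47176 = n42570 := d23_1 D47176 (iv D42570) (iv F177905)
theorem F211199 : act 5 n47176 = n42855 := d38_1 D47176 (iv D42855) (iv F177906)
theorem F211200 : act 7 n47176 = n42557 := d43_1 D47176 (iv D42557) (iv F177907)
theorem F211201 : act 8 n47176 = n42652 := d44_1 D47176 (iv D42652) (iv D29268) (iv F123999) D42555
def n47177 : Q := act 4 n42556
theorem D47177 : act 4 n42556 = n47177 := rfl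
theorem F211202 : act 0 n47177 = n42586 := d3_1 D47177 (iv D42586) (iv F177908)
theorem F211203 : act 2 n47177 = n42598 := d18_1 D47177 (iv F210890) F210889
theorem F211204 : act 6 n47177 = n42558 := d31_2 (iv F177910) D47177 (iv D42558)
theorem F211205 : act 7 n47177 = n42600 := d32_2 F211002 D47177 (iv F210999)
theorem F211206 : act 8 n47177 = n47177 := d33_2 F177911 D47177 (iv D47177)
def n47178 : Q := act 9 n42556
theorem D47178 : act 9 n42556 = n47178 := rfl
theorem F211207 : act 0 n47178 = n42587 := d8_1 D47178 (iv D42587) (iv F177908)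
theorem F211208 : act 3 n47178 = n42557 := d29_1 D47178 (iv D42557) D42556
theorem F211209 : act 5 n47178 = n42857 := d38_1 D47178 (iv D42857) (iv F177909)
theorem F211210 : act 6 n47178 = n42559 := d41_1 D47178 (iv D42559) (iv F177910)
def n47179 : Q := act 9 n42558
theorem D47179 : act 9 n42558 = n47179 := rfl
theorem F211211 : act 0 n47179 = n42589 := d8_1 D47179 (iv D42589) (iv F177917)
theorem F211212 : act 4 n47179 = n42559 := d34_1 D47179 (iv D42559) D42558
def n47180 : Q := act 8 n42559
theorem D47180 : act 8 n42559 = n47180 := rfl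
theorem F211213 : act 0 n47180 = n42590 := d7_1 D47180 (iv D42590) (iv F177919)
theorem F211214 : act 3 n47180 = n42657 := d28_1 D47180 (iv D42657) F124240 (iv F124010) (iv F177920)
theorem F211215 : act 5 n47180 = n42562 := d37_1 D47180 (iv D42562) (iv F177921)
theorem F211216 : act 9 n47180 = n47180 := d44_2 D42559 D47180 (iv D47180) (iv D42559) F124006
def n47181 : Q := act 6 n42563
theorem D47181 : act 6 n42563 = n47181 := rfl
theorem F211217 : act 0 n47181 = n42594 := d5_1 D47181 (iv D42594) (iv F177933)
theorem F211218 : act 1 n47181 = n47181 := d13_1 D47181 (iv D47181) F177934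
theorem F211219 : act 3 n47181 = n47181 := d26_1 D47181 (iv D47181) F177935
theorem F211220 : act 4 n47181 = n42864 := d31_1 D47181 (iv D42864) (iv F177936)
theorem F211221 : act 7 n47181 = n45210 := d39_2 D42563 D47181 (iv D45210) (iv D30992) (iv F124022)
theorem F211222 : act 9 n47181 = n42661 := d41_2 (iv F177938) D47181 (iv D42661)
def n47182 : Q := act 8 n42563
theorem D47182 : act 8 n42563 = n47182 := rfl
theorem F211223 : act 0 n47182 = n42595 := d7_1 D47182 (iv D42595) (iv F177933)
theorem F211224 : act 1 n47182 = n47182 := d15_1 D47182 (iv D47182) F177934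
theorem F211225 : act 4 n47182 = n42865 := d33_1 D47182 (iv D42865) (iv F177936)
theorem F211226 : act 5 n47182 = n42565 := d37_1 D47182 (iv D42565) (iv F177937)
theorem F211227 : act 7 n47182 = n42564 := d42_1 D47182 (iv D42564) D42563
def n47183 : Q := act 3 n42564
theorem D47183 : act 3 n42564 = n47183 := rfl
theorem F211228 : act 0 n47183 = n42596 := d2_1 D47183 (iv D42596) (iv F177939)
theorem F211229 : act 1 n47183 = n47183 := d10_1 D47183 (iv D47183) F177940
theorem F211230 : act 4 n47183 = n46036 := d24_2 (iv F177941) D47183 (iv D46036) F133269 (iv F203944)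
theorem F211231 : act 5 n47183 = n42566 := d25_2 (iv F177942) D47183 (iv D42566)
theorem F211232 : act 6 n47183 = n45212 := d26_2 (iv F177943) D47183 (iv D45212)
theorem F211233 : act 8 n47183 = n47183 := d28_2 D42564 D47183 (iv D47183) (iv D42564) F124020
def n47184 : Q := act 9 n42564
theorem D47184 : act 9 n42564 = n47184 := rfl
theorem F211234 : act 0 n47184 = n42597 := d8_1 D47184 (iv D42597) (iv F177939)
theorem F211235 : act 1 n47184 = n47184 := d16_1 D47184 (iv D47184) F177940
theorem F211236 : act 4 n47184 = n42867 := d34_1 D47184 (iv D42867) (iv F177941)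
theorem F211237 : act 5 n47184 = n42567 := d38_1 D47184 (iv D42567) (iv F177942)
theorem F211238 : act 6 n47184 = n45213 := d41_1 D47184 (iv D45213) (iv F177943)
theorem F211239 : act 8 n47184 = n42664 := d44_1 D47184 (iv D42664) (iv D29277) (iv F124023) D42564
def n47185 : Q := act 9 n42565
theorem D47185 : act 9 n42565 = n47185 := rfl
theorem F211240 : act 0 n47185 = n42599 := d8_1 D47185 (iv D42599) (iv F177944)
theorem F211241 : act 1 n47185 = n47185 := d16_1 D47185 (iv D47185) F177945
theorem F211242 : act 4 n47185 = n42570 := d34_1 D47185 (iv D42570) (iv F177946)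
theorem F211243 : act 7 n47185 = n42567 := d43_1 D47185 (iv D42567) (iv F177947)
theorem F211244 : act 8 n47185 = n42666 := d44_1 D47185 (iv D42666) (iv D29278) (iv F124028) D42565
def n47186 : Q := act 2 n42566
theorem D47186 : act 2 n42566 = n47186 := rfl
theorem F211245 : act 0 n47186 = n42600 := d1_1 D47186 (iv D42600) (iv F177948)
theorem F211246 : act 4 n47186 = n42584 := d18_2 F210915 D47186 (iv F210914)
theorem F211247 : act 6 n47186 = n42568 := d20_2 (iv F177950) D47186 (iv D42568)
theorem F211248 : act 7 n47186 = n42586 := d21_2 F210947 D47186 (iv F210944)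
theorem F211249 : act 8 n47186 = n47186 := d22_2 F177951 D47186 (iv D47186)
def n47187 : Q := act 9 n42566
theorem D47187 : act 9 n42566 = n47187 := rfl
theorem F211250 : act 0 n47187 = n42601 := d8_1 D47187 (iv D42601) (iv F177948)
theorem F211251 : act 1 n47187 = n47187 := d16_1 D47187 (iv D47187) F177949
theorem F211252 : act 3 n47187 = n42567 := d29_1 D47187 (iv D42567) D42566
theorem F211253 : act 6 n47187 = n42569 := d41_1 D47187 (iv D42569) (iv F177950)
def n47188 : Q := act 1 n42568
theorem D47188 : act 1 n42568 = n47188 := rfl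
theorem F211254 : act 2 n47188 = n47188 := d9_2 D42568 D47188 (iv D47188) (iv D42568) F124034
theorem F211255 : act 5 n47188 = n45218 := d12_2 (iv F177958) D47188 (iv D45218)
theorem F211256 : act 8 n47188 = n47188 := d15_2 F177959 D47188 (iv D47188)
def n47189 : Q := act 9 n42568
theorem D47189 : act 9 n42568 = n47189 := rfl
theorem F211257 : act 0 n47189 = n42603 := d8_1 D47189 (iv D42603) (iv F177957)
theorem F211258 : act 2 n47189 = n42569 := d23_1 D47189 (iv D42569) D42568
theorem F211259 : act 5 n47189 = n45219 := d38_1 D47189 (iv D45219) (iv F177958)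
def n47190 : Q := act 8 n42569
theorem D47190 : act 8 n42569 = n47190 := rfl
theorem F211260 : act 0 n47190 = n42604 := d7_1 D47190 (iv D42604) (iv F177960)
theorem F211261 : act 1 n47190 = n47190 := d15_1 D47190 (iv D47190) F177961
theorem F211262 : act 3 n47190 = n42671 := d28_1 D47190 (iv D42671) F124284 (iv F124041) (iv F177962)
theorem F211263 : act 5 n47190 = n45220 := d37_1 D47190 (iv D45220) (iv F177963)
theorem F211264 : act 9 n47190 = n47190 := d44_2 D42569 D47190 (iv D47190) (iv D42569) F124036
def n47191 : Q := act 4 n42571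
theorem D47191 : act 4 n42571 = n47191 := rfl
theorem F211265 : act 0 n47191 = n45664 := d3_1 D47191 F211150 F211144
theorem F211266 : act 1 n47191 = n44826 := d11_1 D47191 F208440 F208435
theorem F211267 : act 2 n47191 = n47191 := d18_1 D47191 (iv D47191) F177969
theorem F211268 : act 3 n47191 = n42875 := d24_1 D47191 (iv D42875) F124858 (iv F124059) (iv F177970)
theorem F211269 : act 5 n47191 = n47191 := d30_2 D42571 D47191 (iv D47191) (iv D42571) F124053
theorem F211270 : act 6 n47191 = n44792 := d31_2 (iv F177971) D47191 F198707
theorem F211271 : act 9 n47191 = n42672 := d34_2 (iv F177972) D47191 (iv D42672)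
def n47192 : Q := act 7 n42571
theorem D47192 : act 7 n42571 = n47192 := rfl
theorem F211272 : act 2 n47192 = n47192 := d21_1 D47192 (iv D47192) F177969
theorem F211273 : act 3 n47192 = n42576 := d27_1 D47192 (iv D42576) (iv F177970)
theorem F211274 : act 5 n47192 = n42572 := d36_1 D47192 (iv D42572) D42571
theorem F211275 : act 9 n47192 = n42673 := d43_2 (iv F177972) D47192 (iv D42673)
def n47193 : Q := act 8 n42571
theorem D47193 : act 8 n42571 = n47193 := rfl
theorem F211276 : act 2 n47193 = n47193 := d22_1 D47193 (iv D47193) F177969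
theorem F211277 : act 5 n47193 = n42573 := d37_1 D47193 (iv D42573) D42571
theorem F211278 : act 6 n47193 = n45223 := d40_1 D47193 (iv D45223) (iv F177971)
def n47194 : Q := act 8 n42572
theorem D47194 : act 8 n42572 = n47194 := rfl
theorem F211279 : act 1 n47194 = n46399 := d15_1 D47194 F208448 F208442
theorem F211280 : act 2 n47194 = n47194 := d22_1 D47194 (iv D47194) F177973
theorem F211281 : act 4 n47194 = n47194 := d33_1 D47194 (iv D47194) F177975
theorem F211282 : act 6 n47194 = n46396 := d40_1 D47194 F210395 F210393
theorem F211283 : act 7 n47194 = n42573 := d42_1 D47194 (iv D42573) D42572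
def n47195 : Q := act 3 n42573
theorem D47195 : act 3 n42573 = n47195 := rfl
theorem F211284 : act 6 n47195 = n42574 := d26_2 (iv F177979) D47195 (iv D42574)
theorem F211285 : act 8 n47195 = n42579 := d28_2 D42573 D47195 (iv D42579) (iv D29221) (iv F124052)
def n47196 : Q := act 9 n42573
theorem D47196 : act 9 n42573 = n47196 := rfl
theorem F211286 : act 2 n47196 = n47196 := d23_1 D47196 (iv D47196) F177977
theorem F211287 : act 4 n47196 = n47196 := d34_1 D47196 (iv D47196) F177978
theorem F211288 : act 6 n47196 = n42575 := d41_1 D47196 (iv D42575) (iv F177979)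
theorem F211289 : act 8 n47196 = n42677 := d44_1 D47196 (iv D42677) (iv D29286) (iv F124054) D42573
def n47197 : Q := act 2 n42574
theorem D47197 : act 2 n42574 = n47197 := rfl
theorem F211290 : act 3 n47197 = n47197 := d17_2 D42574 D47197 (iv D47197) (iv D42574) F124055
theorem F211291 : act 5 n47197 = n45227 := d19_2 (iv F177980) D47197 (iv D45227)
theorem F211292 : act 8 n47197 = n42581 := d22_2 (iv F177981) D47197 (iv D42581)
def n47198 : Q := act 4 n42574
theorem D47198 : act 4 n42574 = n47198 := rfl
theorem F211293 : act 3 n47198 = n47198 := d24_1 D47198 (iv D47198) (iv D42574) F124056 D42574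
theorem F211294 : act 8 n47198 = n42582 := d33_2 (iv F177981) D47198 (iv D42582)
def n47199 : Q := act 9 n42574
theorem D47199 : act 9 n42574 = n47199 := rfl
theorem F211295 : act 3 n47199 = n42575 := d29_1 D47199 (iv D42575) D42574
theorem F211296 : act 5 n47199 = n45229 := d38_1 D47199 (iv D45229) (iv F177980)
def n47200 : Q := act 6 n42576
theorem D47200 : act 6 n42576 = n47200 := rfl
theorem F211297 : act 2 n47200 = n42594 := d20_1 D47200 (iv D42594) (iv F177986)
theorem F211298 : act 4 n47200 = n42884 := d31_1 D47200 (iv D42884) (iv F177987)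
theorem F211299 : act 7 n47200 = n45230 := d39_2 D42576 D47200 (iv D45230) (iv D31005) (iv F124060)
theorem F211300 : act 9 n47200 = n42681 := d41_2 (iv F177989) D47200 (iv D42681)
def n47201 : Q := act 8 n42576
theorem D47201 : act 8 n42576 = n47201 := rfl
theorem F211301 : act 2 n47201 = n42595 := d22_1 D47201 (iv D42595) (iv F177986)
theorem F211302 : act 4 n47201 = n42885 := d33_1 D47201 (iv D42885) (iv F177987)
theorem F211303 : act 5 n47201 = n42578 := d37_1 D47201 (iv D42578) (iv F177988)
theorem F211304 : act 7 n47201 = n42577 := d42_1 D47201 (iv D42577) D42576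
def n47202 : Q := act 3 n42577
theorem D47202 : act 3 n42577 = n47202 := rfl
theorem F211305 : act 5 n47202 = n42579 := d25_2 (iv F177992) D47202 (iv D42579)
theorem F211306 : act 6 n47202 = n45232 := d26_2 (iv F177993) D47202 (iv D45232)
def n47203 : Q := act 9 n42577
theorem D47203 : act 9 n42577 = n47203 := rfl
theorem F211307 : act 2 n47203 = n42597 := d23_1 D47203 (iv D42597) (iv F177990)
theorem F211308 : act 4 n47203 = n42887 := d34_1 D47203 (iv D42887) (iv F177991)
theorem F211309 : act 5 n47203 = n42580 := d38_1 D47203 (iv D42580) (iv F177992)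
theorem F211310 : act 6 n47203 = n45233 := d41_1 D47203 (iv D45233) (iv F177993)
theorem F211311 : act 8 n47203 = n42684 := d44_1 D47203 (iv D42684) (iv D29290) (iv F124061) D42577
def n47204 : Q := act 3 n42578
theorem D47204 : act 3 n42578 = n47204 := rfl
theorem F211312 : act 7 n47204 = n42579 := d27_2 (iv F177996) D47204 (iv D42579)
def n47205 : Q := act 9 n42578
theorem D47205 : act 9 n42578 = n47205 := rfl
theorem F211313 : act 2 n47205 = n42599 := d23_1 D47205 (iv D42599) (iv F177994)
theorem F211314 : act 4 n47205 = n42585 := d34_1 D47205 (iv D42585) (iv F177995)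
theorem F211315 : act 7 n47205 = n42580 := d43_1 D47205 (iv D42580) (iv F177996)
theorem F211316 : act 8 n47205 = n42686 := d44_1 D47205 (iv D42686) (iv D29291) (iv F124064) D42578
def n47206 : Q := act 2 n42579
theorem D47206 : act 2 n42579 = n47206 := rfl
theorem F211317 : act 3 n47206 = n42600 := d17_2 D42579 D47206 (iv D42600) (iv D29235) (iv F124065)
theorem F211318 : act 6 n47206 = n42581 := d20_2 (iv F177997) D47206 (iv D42581)
def n47207 : Q := act 4 n42579
theorem D47207 : act 4 n42579 = n47207 := rfl
theorem F211319 : act 3 n47207 = n42586 := d24_1 D47207 (iv D42586) (iv D29225) (iv F124066) D42579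
theorem F211320 : act 6 n47207 = n42582 := d31_2 (iv F177997) D47207 (iv D42582)
def n47208 : Q := act 9 n42579
theorem D47208 : act 9 n42579 = n47208 := rfl
theorem F211321 : act 3 n47208 = n42580 := d29_1 D47208 (iv D42580) D42579
theorem F211322 : act 6 n47208 = n42583 := d41_1 D47208 (iv D42583) (iv F177997)
def n47209 : Q := act 1 n42581
theorem D47209 : act 1 n42581 = n47209 := rfl
theorem F211323 : act 3 n47209 = n42602 := d10_2 (iv F178002) D47209 (iv D42602)
theorem F211324 : act 5 n47209 = n45239 := d12_2 (iv F178003) D47209 (iv D45239)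
def n47210 : Q := act 4 n42581
theorem D47210 : act 4 n42581 = n47210 := rfl
theorem F211325 : act 2 n47210 = n42582 := d18_1 D47210 (iv D42582) D42581
def n47211 : Q := act 9 n42581
theorem D47211 : act 9 n42581 = n47211 := rfl
theorem F211326 : act 2 n47211 = n42583 := d23_1 D47211 (iv D42583) D42581
theorem F211327 : act 3 n47211 = n42603 := d29_1 D47211 (iv D42603) (iv F178002)
theorem F211328 : act 5 n47211 = n45241 := d38_1 D47211 (iv D45241) (iv F178003)
def n47212 : Q := act 5 n42582
theorem D47212 : act 5 n42582 = n47212 := rfl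
theorem F211329 : act 1 n47212 = n42649 := d12_1 D47212 (iv F208497) F208495
theorem F211330 : act 3 n47212 = n42588 := d25_1 D47212 (iv D42588) (iv F178004)
theorem F211331 : act 4 n47212 = n42625 := d30_1 D47212 F202743 (iv D31011) (iv F124068) D42582
def n47213 : Q := act 9 n42582
theorem D47213 : act 9 n42582 = n47213 := rfl
theorem F211332 : act 3 n47213 = n42589 := d29_1 D47213 (iv D42589) (iv F178004)
theorem F211333 : act 4 n47213 = n42583 := d34_1 D47213 (iv D42583) D42582
def n47214 : Q := act 8 n42583
theorem D47214 : act 8 n42583 = n47214 := rfl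
theorem F211334 : act 3 n47214 = n42695 := d28_1 D47214 (iv D42695) F124323 (iv F124072) (iv F178005)
theorem F211335 : act 5 n47214 = n45244 := d37_1 D47214 (iv D45244) (iv F178006)
def n47215 : Q := act 9 n42584
theorem D47215 : act 9 n42584 = n47215 := rfl
theorem F211336 : act 3 n47215 = n42585 := d29_1 D47215 (iv D42585) D42584
theorem F211337 : act 5 n47215 = n42900 := d38_1 D47215 (iv D42900) (iv F178007)
theorem F211338 : act 7 n47215 = n42587 := d43_1 D47215 (iv D42587) (iv F178008)
def n47216 : Q := act 5 n42586
theorem D47216 : act 5 n42586 = n47216 := rfl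
theorem F211339 : act 4 n47216 = n42901 := d30_1 D47216 (iv D42901) (iv D29435) (iv F124076) D42586
theorem F211340 : act 8 n47216 = n47216 := d37_2 F178015 D47216 (iv D47216)
def n47217 : Q := act 9 n42586
theorem D47217 : act 9 n42586 = n47217 := rfl
theorem F211341 : act 4 n47217 = n42587 := d34_1 D47217 (iv D42587) D42586
theorem F211342 : act 6 n47217 = n42589 := d41_1 D47217 (iv D42589) (iv F178014)
def n47218 : Q := act 8 n42587
theorem D47218 : act 8 n42587 = n47218 := rfl
theorem F211343 : act 3 n47218 = n42700 := d28_1 D47218 (iv D42700) F124336 (iv F124082) (iv F178016)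
theorem F211344 : act 5 n47218 = n42903 := d37_1 D47218 (iv D42903) (iv F178017)
theorem F211345 : act 6 n47218 = n42590 := d40_1 D47218 (iv D42590) (iv F178018)
theorem F211346 : act 9 n47218 = n47218 := d44_2 D42587 D47218 (iv D47218) (iv D42587) F124078
def n47219 : Q := act 6 n42588
theorem D47219 : act 6 n42588 = n47219 := rfl
theorem F211347 : act 0 n47219 = n45437 := d5_1 D47219 (iv F208710) F208706
theorem F211348 : act 1 n47219 = n42653 := d13_1 D47219 F178244 (iv F202950)
theorem F211349 : act 2 n47219 = n45461 := d20_1 D47219 F210960 F210956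
theorem F211350 : act 4 n47219 = n42591 := d31_1 D47219 (iv D42591) (iv F178019)
theorem F211351 : act 7 n47219 = n45440 := d39_2 F210458 D47219 F189250 (iv F188290) F210460
theorem F211352 : act 8 n47219 = n47219 := d40_2 F178020 D47219 (iv D47219)
def n47220 : Q := act 9 n42588
theorem D47220 : act 9 n42588 = n47220 := rfl
theorem F211353 : act 1 n47220 = n42656 := d16_1 D47220 (iv D42656) (iv F202950)
theorem F211354 : act 4 n47220 = n42592 := d34_1 D47220 (iv D42592) (iv F178019)
theorem F211355 : act 5 n47220 = n42589 := d38_1 D47220 (iv D42589) D42588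
def n47221 : Q := act 8 n42589
theorem D47221 : act 8 n42589 = n47221 := rfl
theorem F211356 : act 4 n47221 = n42590 := d33_1 D47221 (iv D42590) (iv F178021)
theorem F211357 : act 9 n47221 = n47221 := d44_2 D42589 D47221 (iv D47221) (iv D42589) F124083
def n47222 : Q := act 9 n42591
theorem D47222 : act 9 n42591 = n47222 := rfl
theorem F211358 : act 0 n47222 = n46416 := d8_1 D47222 (iv D46416) (iv F206357)
theorem F211359 : act 1 n47222 = n42654 := d16_1 D47222 (iv D42654) (iv F202951)
theorem F211360 : act 2 n47222 = n46432 := d23_1 D47222 (iv D46432) F206347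
theorem F211361 : act 3 n47222 = n42629 := d29_1 D47222 (iv D42629) (iv F202952)
theorem F211362 : act 5 n47222 = n42908 := d38_1 D47222 (iv D42908) (iv F178026)
theorem F211363 : act 6 n47222 = n42592 := d41_1 D47222 (iv D42592) D42591
theorem F211364 : act 7 n47222 = n46418 := d43_1 D47222 (iv D46418) F206356
def n47223 : Q := act 8 n42592
theorem D47223 : act 8 n42592 = n47223 := rfl
theorem F211365 : act 1 n47223 = n42657 := d15_1 D47223 (iv D42657) (iv F202942)
theorem F211366 : act 5 n47223 = n42593 := d37_1 D47223 (iv D42593) (iv F178029)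
theorem F211367 : act 9 n47223 = n47223 := d44_2 D42592 D47223 (iv D47223) (iv D42592) F124087
def n47224 : Q := act 8 n42594
theorem D47224 : act 8 n42594 = n47224 := rfl
theorem F211368 : act 1 n47224 = n42605 := d15_1 D47224 (iv D42605) (iv F178033)
theorem F211369 : act 4 n47224 = n42911 := d33_1 D47224 (iv D42911) (iv F178035)
theorem F211370 : act 5 n47224 = n44573 := d37_1 D47224 F210485 F210482
theorem F211371 : act 6 n47224 = n42595 := d40_1 D47224 (iv D42595) D42594
theorem F211372 : act 7 n47224 = n44568 := d42_1 D47224 F205878 (iv F178036)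
theorem F211373 : act 3 n45449 = n47224 := d27_3 F211372 F185998 (iv F189279)
def n47225 : Q := act 3 n42595
theorem D47225 : act 3 n42595 = n47225 := rfl
theorem F211374 : act 1 n47225 = n42606 := d10_1 D47225 (iv D42606) (iv F178038)
theorem F211375 : act 5 n47225 = n42598 := d25_2 (iv F178040) D47225 (iv D42598)
theorem F211376 : act 6 n47225 = n45449 := d26_2 F211371 D47225 F211373
theorem F211377 : act 7 n47225 = n42596 := d27_2 (iv F178041) D47225 (iv D42596)
theorem F211378 : act 8 n47225 = n47225 := d28_2 D42595 D47225 (iv D47225) (iv D42595) F124095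
def n47226 : Q := act 9 n42595
theorem D47226 : act 9 n42595 = n47226 := rfl
theorem F211379 : act 1 n47226 = n42607 := d16_1 D47226 (iv D42607) (iv F178038)
theorem F211380 : act 4 n47226 = n42913 := d34_1 D47226 (iv D42913) (iv F178039)
theorem F211381 : act 5 n47226 = n42599 := d38_1 D47226 (iv D42599) (iv F178040)
theorem F211382 : act 7 n47226 = n42597 := d43_1 D47226 (iv D42597) (iv F178041)
theorem F211383 : act 8 n47226 = n42710 := d44_1 D47226 (iv D42710) (iv D29308) (iv F124098) D42595
def n47227 : Q := act 2 n42596
theorem D47227 : act 2 n42596 = n47227 := rfl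
theorem F211384 : act 5 n47227 = n42600 := d19_2 (iv F178043) D47227 (iv D42600)
theorem F211385 : act 6 n47227 = n45260 := d20_2 (iv F178044) D47227 (iv D45260)
theorem F211386 : act 8 n47227 = n47227 := d22_2 F178045 D47227 (iv D47227)
def n47228 : Q := act 4 n42596
theorem D47228 : act 4 n42596 = n47228 := rfl
theorem F211387 : act 0 n47228 = n46036 := d3_1 D47228 (iv F211230) F211228
theorem F211388 : act 1 n47228 = n42609 := d11_1 D47228 (iv D42609) (iv F178042)
theorem F211389 : act 3 n47228 = n42915 := d24_1 D47228 (iv D42915) (iv D29445) (iv F124100) D42596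
theorem F211390 : act 5 n47228 = n46554 := d30_2 (iv F178043) D47228 (iv F210984) F210985 F177765
theorem F211391 : act 6 n47228 = n45261 := d31_2 (iv F178044) D47228 (iv D45261)
theorem F211392 : act 8 n47228 = n47228 := d33_2 F178045 D47228 (iv D47228)
def n47229 : Q := act 9 n42596
theorem D47229 : act 9 n42596 = n47229 := rfl
theorem F211393 : act 1 n47229 = n42610 := d16_1 D47229 (iv D42610) (iv F178042)
theorem F211394 : act 3 n47229 = n42597 := d29_1 D47229 (iv D42597) D42596
theorem F211395 : act 5 n47229 = n42601 := d38_1 D47229 (iv D42601) (iv F178043)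
theorem F211396 : act 6 n47229 = n45262 := d41_1 D47229 (iv D45262) (iv F178044)
def n47230 : Q := act 9 n42598
theorem D47230 : act 9 n42598 = n47230 := rfl
theorem F211397 : act 1 n47230 = n42612 := d16_1 D47230 (iv D42612) (iv F178051)
theorem F211398 : act 3 n47230 = n42599 := d29_1 D47230 (iv D42599) D42598
theorem F211399 : act 7 n47230 = n42601 := d43_1 D47230 (iv D42601) (iv F178052)
def n47231 : Q := act 1 n42600
theorem D47231 : act 1 n42600 = n47231 := rfl
theorem F211400 : act 2 n47231 = n42613 := d9_2 D42600 D47231 (iv D42613) (iv D29246) (iv F124106)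
theorem F211401 : act 6 n47231 = n42602 := d13_2 (iv F178058) D47231 (iv D42602)
theorem F211402 : act 8 n47231 = n47231 := d15_2 F178059 D47231 (iv D47231)
def n47232 : Q := act 9 n42600
theorem D47232 : act 9 n42600 = n47232 := rfl
theorem F211403 : act 2 n47232 = n42601 := d23_1 D47232 (iv D42601) D42600
theorem F211404 : act 6 n47232 = n42603 := d41_1 D47232 (iv D42603) (iv F178058)
def n47233 : Q := act 8 n42601
theorem D47233 : act 8 n42601 = n47233 := rfl
theorem F211405 : act 1 n47233 = n42615 := d15_1 D47233 (iv D42615) (iv F178060)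
theorem F211406 : act 3 n47233 = n42718 := d28_1 D47233 (iv D42718) F124385 (iv F124112) (iv F178061)
theorem F211407 : act 6 n47233 = n42604 := d40_1 D47233 (iv D42604) (iv F178062)
theorem F211408 : act 9 n47233 = n47233 := d44_2 D42601 D47233 (iv D47233) (iv D42601) F124108
def n47234 : Q := act 0 n42602
theorem D47234 : act 0 n42602 = n47234 := rfl
theorem F211409 : act 2 n47234 = n42616 := d1_2 (iv F178063) D47234 (iv D42616)
theorem F211410 : act 5 n47234 = n45268 := d4_2 (iv F178064) D47234 (iv D45268)
theorem F211411 : act 8 n47234 = n47234 := d7_2 F178065 D47234 (iv D47234)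
def n47235 : Q := act 9 n42602
theorem D47235 : act 9 n42602 = n47235 := rfl
theorem F211412 : act 1 n47235 = n42603 := d16_1 D47235 (iv D42603) D42602
theorem F211413 : act 2 n47235 = n42617 := d23_1 D47235 (iv D42617) (iv F178063)
theorem F211414 : act 5 n47235 = n45269 := d38_1 D47235 (iv D45269) (iv F178064)
def n47236 : Q := act 8 n42603
theorem D47236 : act 8 n42603 = n47236 := rfl
theorem F211415 : act 2 n47236 = n42604 := d22_1 D47236 (iv D42604) (iv F178066)
theorem F211416 : act 5 n47236 = n45270 := d37_1 D47236 (iv D45270) (iv F178067)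
theorem F211417 : act 9 n47236 = n47236 := d44_2 D42603 D47236 (iv D47236) (iv D42603) F124114
def n47237 : Q := act 9 n42605
theorem D47237 : act 9 n42605 = n47237 := rfl
theorem F211418 : act 0 n47237 = n47237 := d8_1 D47237 (iv D47237) F178072
theorem F211419 : act 2 n47237 = n44567 := d23_1 D47237 (iv D44567) (iv F205879)
theorem F211420 : act 3 n47237 = n45451 := d29_1 D47237 (iv D45451) (iv F205880)
theorem F211421 : act 4 n47237 = n42926 := d34_1 D47237 (iv D42926) (iv F178073)
theorem F211422 : act 5 n47237 = n44574 := d38_1 D47237 (iv D44574) (iv F205881)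
theorem F211423 : act 6 n47237 = n42607 := d41_1 D47237 (iv D42607) (iv F178074)
theorem F211424 : act 7 n47237 = n44570 := d43_1 D47237 (iv D44570) (iv F205882)
theorem F211425 : act 8 n47237 = n42723 := d44_1 D47237 (iv D42723) (iv D29318) (iv F124126) D42605
def n47238 : Q := act 4 n42606
theorem D47238 : act 4 n42606 = n47238 := rfl
theorem F211426 : act 0 n47238 = n47238 := d3_1 D47238 (iv D47238) F178076
theorem F211427 : act 2 n47238 = n43716 := d18_1 D47238 F204668 (iv F206280)
theorem F211428 : act 3 n47238 = n42928 := d24_1 D47238 (iv D42928) (iv D29455) (iv F124128) D42606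
theorem F211429 : act 5 n47238 = n43500 := d30_2 (iv F178077) D47238 (iv F211022) F211023 F177806
theorem F211430 : act 6 n47238 = n45450 := d31_2 (iv F206281) D47238 (iv D45450)
theorem F211431 : act 7 n47238 = n42609 := d32_2 (iv F178078) D47238 (iv D42609)
theorem F211432 : act 8 n47238 = n47238 := d33_2 F178079 D47238 (iv D47238)
def n47239 : Q := act 9 n42606
theorem D47239 : act 9 n42606 = n47239 := rfl
theorem F211433 : act 0 n47239 = n47239 := d8_1 D47239 (iv D47239) F178076
theorem F211434 : act 2 n47239 = n45448 := d23_1 D47239 (iv D45448) (iv F206280)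
theorem F211435 : act 3 n47239 = n42607 := d29_1 D47239 (iv D42607) D42606
theorem F211436 : act 5 n47239 = n42612 := d38_1 D47239 (iv D42612) (iv F178077)
theorem F211437 : act 6 n47239 = n45451 := d41_1 D47239 (iv D45451) (iv F206281)
theorem F211438 : act 7 n47239 = n42610 := d43_1 D47239 (iv D42610) (iv F178078)
def n47240 : Q := act 1 n42608
theorem D47240 : act 1 n42608 = n47240 := rfl
theorem F211439 : act 3 n47240 = n42708 := d10_2 (iv F205844) D47240 F178427
theorem F211440 : act 5 n47240 = n42613 := d12_2 (iv F178086) D47240 (iv D42613)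
theorem F211441 : act 6 n47240 = n42709 := d13_2 (iv F205845) D47240 F178431
theorem F211442 : act 7 n47240 = n45427 := d14_2 (iv F205846) D47240 F189204
theorem F211443 : act 8 n47240 = n47240 := d15_2 F178088 D47240 (iv D47240)
def n47241 : Q := act 4 n42608
theorem D47241 : act 4 n42608 = n47241 := rfl
theorem F211444 : act 0 n47241 = n47241 := d3_1 D47241 (iv D47241) F178085
theorem F211445 : act 2 n47241 = n42609 := d18_1 D47241 (iv D42609) D42608
theorem F211446 : act 3 n47241 = n43101 := d24_1 D47241 (iv D43101) (iv D29571) (iv F124400) (iv F205844)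
theorem F211447 : act 5 n47241 = n43720 := d30_2 (iv F178086) D47241 F211042 F211038 F177816
theorem F211448 : act 6 n47241 = n42725 := d31_2 (iv F205845) D47241 (iv D42725)
theorem F211449 : act 7 n47241 = n43716 := d32_2 (iv F205846) D47241 F204668
theorem F211450 : act 8 n47241 = n47241 := d33_2 F178088 D47241 (iv D47241)
def n47242 : Q := act 9 n42608
theorem D47242 : act 9 n42608 = n47242 := rfl
theorem F211451 : act 0 n47242 = n47242 := d8_1 D47242 (iv D47242) F178085
theorem F211452 : act 2 n47242 = n42610 := d23_1 D47242 (iv D42610) D42608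
theorem F211453 : act 3 n47242 = n42723 := d29_1 D47242 (iv D42723) (iv F205844)
theorem F211454 : act 5 n47242 = n42614 := d38_1 D47242 (iv D42614) (iv F178086)
theorem F211455 : act 6 n47242 = n42726 := d41_1 D47242 (iv D42726) (iv F205845)
theorem F211456 : act 7 n47242 = n45448 := d43_1 D47242 (iv D45448) (iv F205846)
def n47243 : Q := act 9 n42609
theorem D47243 : act 9 n42609 = n47243 := rfl
theorem F211457 : act 0 n47243 = n47243 := d8_1 D47243 (iv D47243) F178089
theorem F211458 : act 3 n47243 = n42933 := d29_1 D47243 (iv D42933) (iv F178090)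
theorem F211459 : act 4 n47243 = n42610 := d34_1 D47243 (iv D42610) D42609
theorem F211460 : act 6 n47243 = n45279 := d41_1 D47243 (iv D45279) (iv F178091)
def n47244 : Q := act 8 n42610
theorem D47244 : act 8 n42610 = n47244 := rfl
theorem F211461 : act 0 n47244 = n47244 := d7_1 D47244 (iv D47244) F178093
theorem F211462 : act 3 n47244 = n42731 := d28_1 D47244 (iv D42731) F124421 (iv F124139) (iv F178094)
theorem F211463 : act 5 n47244 = n42615 := d37_1 D47244 (iv D42615) (iv F178095)
theorem F211464 : act 6 n47244 = n45280 := d40_1 D47244 (iv D45280) (iv F178096)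
theorem F211465 : act 9 n47244 = n47244 := d44_2 D42610 D47244 (iv D47244) (iv D42610) F124134
def n47245 : Q := act 1 n42611
theorem D47245 : act 1 n42611 = n47245 := rfl
theorem F211466 : act 3 n47245 = n45135 := d10_2 (iv F206396) D47245 F188247
theorem F211467 : act 5 n47245 = n45427 := d12_2 (iv F206397) D47245 F189204
theorem F211468 : act 6 n47245 = n45136 := d13_2 (iv F206398) D47245 F188251
theorem F211469 : act 7 n47245 = n42613 := d14_2 (iv F178098) D47245 (iv D42613)
theorem F211470 : act 8 n47245 = n47245 := d15_2 F178099 D47245 (iv D47245)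
def n47246 : Q := act 9 n42611
theorem D47246 : act 9 n42611 = n47246 := rfl
theorem F211471 : act 0 n47246 = n47246 := d8_1 D47246 (iv D47246) F178097
theorem F211472 : act 2 n47246 = n42612 := d23_1 D47246 (iv D42612) D42611
theorem F211473 : act 3 n47246 = n44578 := d29_1 D47246 F206211 (iv F206396)
theorem F211474 : act 5 n47246 = n45448 := d38_1 D47246 (iv D45448) (iv F206397)
theorem F211475 : act 6 n47246 = n44581 := d41_1 D47246 F206209 (iv F206398)
theorem F211476 : act 7 n47246 = n42614 := d43_1 D47246 (iv D42614) (iv F178098)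
theorem F211477 : act 8 n45466 = n47246 := d40_0 F211475 F186043 (iv F189343)
def n47247 : Q := act 8 n42612
theorem D47247 : act 8 n42612 = n47247 := rfl
theorem F211478 : act 0 n47247 = n47247 := d7_1 D47247 (iv D47247) F178100
theorem F211479 : act 2 n47247 = n45466 := d22_1 D47247 F211477 F211472
theorem F211480 : act 3 n47247 = n42734 := d28_1 D47247 (iv D42734) F124429 (iv F124146) (iv F178101)
theorem F211481 : act 6 n47247 = n45289 := d40_1 D47247 F210534 F210532
theorem F211482 : act 7 n47247 = n42615 := d42_1 D47247 (iv D42615) (iv F178102)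
theorem F211483 : act 9 n47247 = n47247 := d44_2 D42612 D47247 (iv D47247) (iv D42612) F124142
def n47248 : Q := act 0 n42613
theorem D47248 : act 0 n42613 = n47248 := rfl
theorem F211484 : act 1 n47248 = n47248 := d0_2 D42613 D47248 (iv D47248) (iv D42613) F124147
theorem F211485 : act 6 n47248 = n42616 := d5_2 (iv F178103) D47248 (iv D42616)
theorem F211486 : act 8 n47248 = n47248 := d7_2 F178104 D47248 (iv D47248)
def n47249 : Q := act 9 n42613
theorem D47249 : act 9 n42613 = n47249 := rfl
theorem F211487 : act 1 n47249 = n42614 := d16_1 D47249 (iv D42614) D42613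
theorem F211488 : act 6 n47249 = n42617 := d41_1 D47249 (iv D42617) (iv F178103)
def n47250 : Q := act 8 n42614
theorem D47250 : act 8 n42614 = n47250 := rfl
theorem F211489 : act 0 n47250 = n47250 := d7_1 D47250 (iv D47250) F178105
theorem F211490 : act 2 n47250 = n42615 := d22_1 D47250 (iv D42615) (iv F178106)
theorem F211491 : act 3 n47250 = n45463 := d28_1 D47250 (iv D45463) (iv F186018) (iv F208639) F208634
theorem F211492 : act 6 n47250 = n42618 := d40_1 D47250 (iv D42618) (iv F178107)
theorem F211493 : act 7 n47250 = n45466 := d42_1 D47250 F211477 F211476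
theorem F211494 : act 9 n47250 = n47250 := d44_2 D42614 D47250 (iv D47250) (iv D42614) F124149
def n47251 : Q := act 9 n42616
theorem D47251 : act 9 n42616 = n47251 := rfl
theorem F211495 : act 0 n47251 = n42617 := d8_1 D47251 (iv D42617) D42616
theorem F211496 : act 1 n47251 = n47251 := d16_1 D47251 (iv D47251) F178112
theorem F211497 : act 5 n47251 = n45287 := d38_1 D47251 (iv D45287) (iv F178113)
def n47252 : Q := act 8 n42617
theorem D47252 : act 8 n42617 = n47252 := rfl
theorem F211498 : act 1 n47252 = n42618 := d15_1 D47252 (iv D42618) (iv F178115)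
theorem F211499 : act 5 n47252 = n45288 := d37_1 D47252 (iv D45288) (iv F178116)
theorem F211500 : act 9 n47252 = n47252 := d44_2 D42617 D47252 (iv D47252) (iv D42617) F124154
def n47253 : Q := act 3 n42618
theorem D47253 : act 3 n42618 = n47253 := rfl
theorem F211501 : act 0 n47253 = n47253 := d2_1 D47253 (iv D47253) F178117
theorem F211502 : act 2 n47253 = n42740 := d17_1 D47253 (iv D42740) F124451 (iv F124159) (iv F178118)
theorem F211503 : act 5 n47253 = n45289 := d25_2 (iv F178119) D47253 (iv D45289)
theorem F211504 : act 6 n47253 = n45463 := d26_2 F211492 D47253 (iv F211491)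
theorem F211505 : act 7 n47253 = n45164 := d27_2 F210558 D47253 (iv F210555)
theorem F211506 : act 8 n47253 = n45160 := d28_2 D42618 D47253 F208658 (iv D46702) F175683
theorem F211507 : act 9 n47253 = n47253 := d29_2 F178120 D47253 (iv D47253)
theorem F211508 : act 4 n46366 = n47253 := d33_3 F211506 F188343 D46366
def n47254 : Q := act 6 n42619
theorem D47254 : act 6 n42619 = n47254 := rfl
theorem F211509 : act 0 n47254 = n44146 := d5_1 D47254 F184385 (iv F206191)
theorem F211510 : act 1 n47254 = n47254 := d13_1 D47254 (iv D47254) F178121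
theorem F211511 : act 2 n47254 = n42620 := d20_1 D47254 (iv D42620) D42619
theorem F211512 : act 3 n47254 = n47254 := d26_1 D47254 (iv D47254) F178122
theorem F211513 : act 4 n47254 = n47254 := d31_1 D47254 (iv D47254) F178123
theorem F211514 : act 5 n47254 = n45210 := d35_1 D47254 (iv D45210) F131293 (iv F130727) (iv F197117)
theorem F211515 : act 8 n47254 = n44576 := d40_2 (iv F206192) D47254 F186027
theorem F211516 : act 9 n47254 = n45088 := d41_2 (iv F197119) D47254 (iv D45088)
def n47255 : Q := act 5 n42620
theorem D47255 : act 5 n42620 = n47255 := rfl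
theorem F211517 : act 0 n47255 = n45230 := d4_1 D47255 (iv F208664) F208659
theorem F211518 : act 1 n47255 = n42638 := d12_1 D47255 (iv D42638) (iv F178125)
theorem F211519 : act 2 n47255 = n45210 := d19_1 D47255 (iv F211514) F211511
theorem F211520 : act 3 n47255 = n42622 := d25_1 D47255 (iv D42622) (iv F178126)
theorem F211521 : act 6 n47255 = n45192 := d35_2 D42620 D47255 F188462 F197407 (iv F124164)
theorem F211522 : act 9 n47255 = n45331 := d38_2 F211100 D47255 (iv F211099)
theorem F211523 : act 4 n45511 = n47255 := d34_3 F211522 F188923 (iv F189511)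
def n47256 : Q := act 7 n42620
theorem D47256 : act 7 n42620 = n47256 := rfl
theorem F211524 : act 1 n47256 = n42639 := d14_1 D47256 (iv D42639) (iv F178125)
theorem F211525 : act 3 n47256 = n42623 := d27_1 D47256 (iv D42623) (iv F178126)
theorem F211526 : act 4 n47256 = n47256 := d32_1 D47256 (iv D47256) F178127
def n47257 : Q := act 8 n42620
theorem D47257 : act 8 n42620 = n47257 := rfl
theorem F211527 : act 0 n47257 = n44557 := d7_1 D47257 (iv F208665) F208659
theorem F211528 : act 1 n47257 = n42640 := d15_1 D47257 (iv D42640) (iv F178125)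
theorem F211529 : act 2 n47257 = n44576 := d22_1 D47257 (iv F211515) F211511
theorem F211530 : act 4 n47257 = n47257 := d33_1 D47257 (iv D47257) F178127
theorem F211531 : act 6 n47257 = n42621 := d40_1 D47257 (iv D42621) D42620
def n47258 : Q := act 3 n42621
theorem D47258 : act 3 n42621 = n47258 := rfl
theorem F211532 : act 0 n47258 = n44531 := d2_1 D47258 F185881 (iv F206508)
theorem F211533 : act 1 n47258 = n42641 := d10_1 D47258 (iv D42641) (iv F178128)
theorem F211534 : act 2 n47258 = n45404 := d17_1 D47258 F189144 F131790 (iv F129592) (iv F206509)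
theorem F211535 : act 5 n47258 = n45228 := d25_2 (iv F178130) D47258 F202600
theorem F211536 : act 8 n47258 = n42625 := d28_2 D42621 D47258 (iv D42625) (iv D29253) D29251
def n47259 : Q := act 9 n42621
theorem D47259 : act 9 n42621 = n47259 := rfl
theorem F211537 : act 0 n47259 = n44561 := d8_1 D47259 (iv D44561) (iv F206508)
theorem F211538 : act 1 n47259 = n42642 := d16_1 D47259 (iv D42642) (iv F178128)
theorem F211539 : act 2 n47259 = n44579 := d23_1 D47259 (iv D44579) (iv F206509)
theorem F211540 : act 4 n47259 = n47259 := d34_1 D47259 (iv D47259) F178129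
theorem F211541 : act 5 n47259 = n45296 := d38_1 D47259 (iv D45296) (iv F178130)
def n47260 : Q := act 7 n42622
theorem D47260 : act 7 n42622 = n47260 := rfl
theorem F211542 : act 1 n47260 = n42643 := d14_1 D47260 (iv D42643) (iv F178131)
theorem F211543 : act 2 n47260 = n47260 := d21_1 D47260 (iv D47260) F178132
theorem F211544 : act 4 n47260 = n42951 := d32_1 D47260 (iv D42951) (iv F178133)
theorem F211545 : act 5 n47260 = n42623 := d36_1 D47260 (iv D42623) D42622
def n47261 : Q := act 8 n42622
theorem D47261 : act 8 n42622 = n47261 := rfl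
theorem F211546 : act 1 n47261 = n42644 := d15_1 D47261 (iv D42644) (iv F178131)
theorem F211547 : act 2 n47261 = n47261 := d22_1 D47261 (iv D47261) F178132
theorem F211548 : act 4 n47261 = n42952 := d33_1 D47261 (iv D42952) (iv F178133)
theorem F211549 : act 5 n47261 = n42624 := d37_1 D47261 (iv D42624) D42622
theorem F211550 : act 6 n47261 = n45247 := d40_1 D47261 F202740 (iv F178134)
def n47262 : Q := act 8 n42623
theorem D47262 : act 8 n42623 = n47262 := rfl
theorem F211551 : act 0 n47262 = n46387 := d7_1 D47262 F208680 F208674
theorem F211552 : act 1 n47262 = n42645 := d15_1 D47262 (iv D42645) (iv F178135)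
theorem F211553 : act 2 n47262 = n47262 := d22_1 D47262 (iv D47262) F178136
theorem F211554 : act 4 n47262 = n42627 := d33_1 D47262 (iv D42627) (iv F178137)
theorem F211555 : act 6 n47262 = n46394 := d40_1 D47262 F210571 F210570
theorem F211556 : act 7 n47262 = n42624 := d42_1 D47262 (iv D42624) D42623
def n47263 : Q := act 3 n42624
theorem D47263 : act 3 n42624 = n47263 := rfl
theorem F211557 : act 1 n47263 = n42646 := d10_1 D47263 (iv D42646) (iv F178138)
theorem F211558 : act 6 n47263 = n42625 := d26_2 (iv F178141) D47263 (iv D42625)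
def n47264 : Q := act 9 n42624
theorem D47264 : act 9 n42624 = n47264 := rfl
theorem F211559 : act 1 n47264 = n42647 := d16_1 D47264 (iv D42647) (iv F178138)
theorem F211560 : act 2 n47264 = n47264 := d23_1 D47264 (iv D47264) F178139
theorem F211561 : act 4 n47264 = n42629 := d34_1 D47264 (iv D42629) (iv F178140)
theorem F211562 : act 6 n47264 = n42626 := d41_1 D47264 (iv D42626) (iv F178141)
def n47265 : Q := act 2 n42625
theorem D47265 : act 2 n42625 = n47265 := rfl
theorem F211563 : act 0 n47265 = n45383 := d1_1 D47265 F208691 F208687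
theorem F211564 : act 3 n47265 = n47265 := d17_2 D42625 D47265 (iv D47265) (iv D42625) F124169
theorem F211565 : act 5 n47265 = n45240 := d19_2 (iv F202743) D47265 F188625
theorem F211566 : act 8 n47265 = n45404 := d22_2 F211536 D47265 (iv F211534)
def n47266 : Q := act 9 n42625
theorem D47266 : act 9 n42625 = n47266 := rfl
theorem F211567 : act 1 n47266 = n42650 := d16_1 D47266 (iv D42650) (iv F178142)
theorem F211568 : act 3 n47266 = n42626 := d29_1 D47266 (iv D42626) D42625
theorem F211569 : act 5 n47266 = n45243 := d38_1 D47266 (iv D45243) (iv F202743)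
def n47267 : Q := act 9 n42627
theorem D47267 : act 9 n42627 = n47267 := rfl
theorem F211570 : act 0 n47267 = n46388 := d8_1 D47267 (iv D46388) F206372
theorem F211571 : act 1 n47267 = n42652 := d16_1 D47267 (iv D42652) (iv F178148)
theorem F211572 : act 2 n47267 = n47267 := d23_1 D47267 (iv D47267) F178149
theorem F211573 : act 3 n47267 = n46418 := d29_1 D47267 (iv D46418) F206355
theorem F211574 : act 5 n47267 = n42960 := d38_1 D47267 (iv D42960) (iv F178150)
theorem F211575 : act 6 n47267 = n46395 := d41_1 D47267 (iv D46395) F206364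
theorem F211576 : act 7 n47267 = n42629 := d43_1 D47267 (iv D42629) (iv F178151)
def n47268 : Q := act 4 n42638
theorem D47268 : act 4 n42638 = n47268 := rfl
theorem F211577 : act 0 n47268 = n42672 := d3_1 D47268 (iv D42672) (iv F178187)
theorem F211578 : act 1 n47268 = n45511 := d11_1 D47268 F211523 F211518
theorem F211579 : act 2 n47268 = n47268 := d18_1 D47268 (iv D47268) F178188
theorem F211580 : act 3 n47268 = n42976 := d24_1 D47268 (iv D42976) F125096 (iv F124207) (iv F178189)
theorem F211581 : act 5 n47268 = n47268 := d30_2 D42638 D47268 (iv D47268) (iv D42638) F124200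
theorem F211582 : act 6 n47268 = n45322 := d31_2 (iv F178190) D47268 (iv D45322)
theorem F211583 : act 9 n47268 = n45664 := d34_2 F211149 D47268 F211150
def n47269 : Q := act 7 n42638
theorem D47269 : act 7 n42638 = n47269 := rfl
theorem F211584 : act 0 n47269 = n42673 := d6_1 D47269 (iv D42673) (iv F178187)
theorem F211585 : act 2 n47269 = n47269 := d21_1 D47269 (iv D47269) F178188
theorem F211586 : act 3 n47269 = n42643 := d27_1 D47269 (iv D42643) (iv F178189)
theorem F211587 : act 5 n47269 = n42639 := d36_1 D47269 (iv D42639) D42638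
def n47270 : Q := act 8 n42638
theorem D47270 : act 8 n42638 = n47270 := rfl
theorem F211588 : act 0 n47270 = n42674 := d7_1 D47270 (iv D42674) (iv F178187)
theorem F211589 : act 2 n47270 = n47270 := d22_1 D47270 (iv D47270) F178188
theorem F211590 : act 5 n47270 = n42640 := d37_1 D47270 (iv D42640) D42638
theorem F211591 : act 6 n47270 = n45324 := d40_1 D47270 (iv D45324) (iv F178190)
def n47271 : Q := act 8 n42639
theorem D47271 : act 8 n42639 = n47271 := rfl
theorem F211592 : act 0 n47271 = n42675 := d7_1 D47271 (iv D42675) (iv F178191)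
theorem F211593 : act 2 n47271 = n47271 := d22_1 D47271 (iv D47271) F178192
theorem F211594 : act 4 n47271 = n47271 := d33_1 D47271 (iv D47271) F178194
theorem F211595 : act 7 n47271 = n42640 := d42_1 D47271 (iv D42640) D42639
def n47272 : Q := act 3 n42640
theorem D47272 : act 3 n42640 = n47272 := rfl
theorem F211596 : act 0 n47272 = n42676 := d2_1 D47272 (iv D42676) (iv F178195)
theorem F211597 : act 6 n47272 = n42641 := d26_2 (iv F178198) D47272 (iv D42641)
theorem F211598 : act 8 n47272 = n42646 := d28_2 D42640 D47272 (iv D42646) (iv D29265) (iv F124199)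
def n47273 : Q := act 9 n42640
theorem D47273 : act 9 n42640 = n47273 := rfl
theorem F211599 : act 0 n47273 = n42677 := d8_1 D47273 (iv D42677) (iv F178195)
theorem F211600 : act 2 n47273 = n47273 := d23_1 D47273 (iv D47273) F178196
theorem F211601 : act 4 n47273 = n47273 := d34_1 D47273 (iv D47273) F178197
theorem F211602 : act 6 n47273 = n42642 := d41_1 D47273 (iv D42642) (iv F178198)
def n47274 : Q := act 2 n42641
theorem D47274 : act 2 n42641 = n47274 := rfl
theorem F211603 : act 0 n47274 = n42678 := d1_1 D47274 (iv D42678) (iv F178199)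
theorem F211604 : act 3 n47274 = n47274 := d17_2 D42641 D47274 (iv D47274) (iv D42641) F124202
theorem F211605 : act 5 n47274 = n45328 := d19_2 (iv F178200) D47274 (iv D45328)
theorem F211606 : act 8 n47274 = n42648 := d22_2 (iv F178201) D47274 (iv D42648)
def n47275 : Q := act 4 n42641
theorem D47275 : act 4 n42641 = n47275 := rfl
theorem F211607 : act 0 n47275 = n42679 := d3_1 D47275 (iv D42679) (iv F178199)
theorem F211608 : act 3 n47275 = n47275 := d24_1 D47275 (iv D47275) (iv D42641) F124203 D42641
theorem F211609 : act 8 n47275 = n42649 := d33_2 (iv F178201) D47275 (iv D42649)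
def n47276 : Q := act 9 n42641
theorem D47276 : act 9 n42641 = n47276 := rfl
theorem F211610 : act 0 n47276 = n42680 := d8_1 D47276 (iv D42680) (iv F178199)
theorem F211611 : act 3 n47276 = n42642 := d29_1 D47276 (iv D42642) D42641
theorem F211612 : act 5 n47276 = n45330 := d38_1 D47276 (iv D45330) (iv F178200)
def n47277 : Q := act 6 n42643
theorem D47277 : act 6 n42643 = n47277 := rfl
theorem F211613 : act 0 n47277 = n42681 := d5_1 D47277 (iv D42681) (iv F178206)
theorem F211614 : act 2 n47277 = n42661 := d20_1 D47277 (iv D42661) (iv F178207)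
theorem F211615 : act 4 n47277 = n42985 := d31_1 D47277 (iv D42985) (iv F178208)
theorem F211616 : act 7 n47277 = n45331 := d39_2 D42643 D47277 (iv D45331) (iv D31072) (iv F124208)
def n47278 : Q := act 8 n42643
theorem D47278 : act 8 n42643 = n47278 := rfl
theorem F211617 : act 0 n47278 = n42682 := d7_1 D47278 (iv D42682) (iv F178206)
theorem F211618 : act 2 n47278 = n42662 := d22_1 D47278 (iv D42662) (iv F178207)
theorem F211619 : act 4 n47278 = n42986 := d33_1 D47278 (iv D42986) (iv F178208)
theorem F211620 : act 5 n47278 = n42645 := d37_1 D47278 (iv D42645) (iv F178209)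
theorem F211621 : act 7 n47278 = n42644 := d42_1 D47278 (iv D42644) D42643
def n47279 : Q := act 3 n42644
theorem D47279 : act 3 n42644 = n47279 := rfl
theorem F211622 : act 0 n47279 = n42683 := d2_1 D47279 (iv D42683) (iv F178210)
theorem F211623 : act 5 n47279 = n42646 := d25_2 (iv F178213) D47279 (iv D42646)
theorem F211624 : act 6 n47279 = n45333 := d26_2 (iv F178214) D47279 (iv D45333)
def n47280 : Q := act 9 n42644
theorem D47280 : act 9 n42644 = n47280 := rfl
theorem F211625 : act 0 n47280 = n42684 := d8_1 D47280 (iv D42684) (iv F178210)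
theorem F211626 : act 2 n47280 = n42664 := d23_1 D47280 (iv D42664) (iv F178211)
theorem F211627 : act 4 n47280 = n42988 := d34_1 D47280 (iv D42988) (iv F178212)
theorem F211628 : act 5 n47280 = n42647 := d38_1 D47280 (iv D42647) (iv F178213)
theorem F211629 : act 6 n47280 = n45334 := d41_1 D47280 (iv D45334) (iv F178214)
def n47281 : Q := act 3 n42645
theorem D47281 : act 3 n42645 = n47281 := rfl
theorem F211630 : act 0 n47281 = n42685 := d2_1 D47281 (iv D42685) (iv F178215)
theorem F211631 : act 7 n47281 = n42646 := d27_2 (iv F178218) D47281 (iv D42646)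
def n47282 : Q := act 9 n42645
theorem D47282 : act 9 n42645 = n47282 := rfl
theorem F211632 : act 0 n47282 = n42686 := d8_1 D47282 (iv D42686) (iv F178215)
theorem F211633 : act 2 n47282 = n42666 := d23_1 D47282 (iv D42666) (iv F178216)
theorem F211634 : act 4 n47282 = n42652 := d34_1 D47282 (iv D42652) (iv F178217)
theorem F211635 : act 7 n47282 = n42647 := d43_1 D47282 (iv D42647) (iv F178218)
def n47283 : Q := act 2 n42646
theorem D47283 : act 2 n42646 = n47283 := rfl
theorem F211636 : act 0 n47283 = n42687 := d1_1 D47283 (iv D42687) (iv F178219)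
theorem F211637 : act 3 n47283 = n42667 := d17_2 D42646 D47283 (iv D42667) (iv D29279) (iv F124213)
theorem F211638 : act 6 n47283 = n42648 := d20_2 (iv F178220) D47283 (iv D42648)
def n47284 : Q := act 4 n42646
theorem D47284 : act 4 n42646 = n47284 := rfl
theorem F211639 : act 0 n47284 = n42688 := d3_1 D47284 (iv D42688) (iv F178219)
theorem F211640 : act 3 n47284 = n42653 := d24_1 D47284 (iv D42653) (iv D29269) (iv F124214) D42646
theorem F211641 : act 6 n47284 = n42649 := d31_2 (iv F178220) D47284 (iv D42649)
def n47285 : Q := act 9 n42646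
theorem D47285 : act 9 n42646 = n47285 := rfl
theorem F211642 : act 0 n47285 = n42689 := d8_1 D47285 (iv D42689) (iv F178219)
theorem F211643 : act 3 n47285 = n42647 := d29_1 D47285 (iv D42647) D42646
theorem F211644 : act 6 n47285 = n42650 := d41_1 D47285 (iv D42650) (iv F178220)
def n47286 : Q := act 1 n42648
theorem D47286 : act 1 n42648 = n47286 := rfl
theorem F211645 : act 3 n47286 = n42669 := d10_2 (iv F178226) D47286 (iv D42669)
theorem F211646 : act 5 n47286 = n45340 := d12_2 (iv F178227) D47286 (iv D45340)
def n47287 : Q := act 4 n42648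
theorem D47287 : act 4 n42648 = n47287 := rfl
theorem F211647 : act 0 n47287 = n42691 := d3_1 D47287 (iv D42691) (iv F178225)
theorem F211648 : act 2 n47287 = n42649 := d18_1 D47287 (iv D42649) D42648
theorem F211649 : act 3 n47287 = n47287 := d24_1 D47287 (iv D47287) F178226 F124279 (iv F178226)
def n47288 : Q := act 9 n42648
theorem D47288 : act 9 n42648 = n47288 := rfl
theorem F211650 : act 0 n47288 = n42692 := d8_1 D47288 (iv D42692) (iv F178225)
theorem F211651 : act 2 n47288 = n42650 := d23_1 D47288 (iv D42650) D42648
theorem F211652 : act 3 n47288 = n42670 := d29_1 D47288 (iv D42670) (iv F178226)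
theorem F211653 : act 5 n47288 = n45342 := d38_1 D47288 (iv D45342) (iv F178227)
def n47289 : Q := act 9 n42649
theorem D47289 : act 9 n42649 = n47289 := rfl
theorem F211654 : act 0 n47289 = n42694 := d8_1 D47289 (iv D42694) (iv F178228)
theorem F211655 : act 3 n47289 = n42656 := d29_1 D47289 (iv D42656) (iv F178229)
theorem F211656 : act 4 n47289 = n42650 := d34_1 D47289 (iv D42650) D42649
def n47290 : Q := act 8 n42650
theorem D47290 : act 8 n42650 = n47290 := rfl
theorem F211657 : act 0 n47290 = n42695 := d7_1 D47290 (iv D42695) (iv F178230)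
theorem F211658 : act 5 n47290 = n45345 := d37_1 D47290 (iv D45345) (iv F178232)
def n47291 : Q := act 4 n42651
theorem D47291 : act 4 n42651 = n47291 := rfl
theorem F211659 : act 0 n47291 = n42696 := d3_1 D47291 (iv D42696) (iv F178233)
theorem F211660 : act 1 n47291 = n45440 := d11_1 D47291 F189249 F206354
theorem F211661 : act 2 n47291 = n47291 := d18_1 D47291 (iv D47291) F178234
theorem F211662 : act 6 n47291 = n45369 := d31_2 F206392 D47291 F189062
theorem F211663 : act 7 n47291 = n42653 := d32_2 (iv F178236) D47291 (iv D42653)
theorem F211664 : act 8 n47291 = n47291 := d33_2 F178237 D47291 (iv D47291)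
def n47292 : Q := act 9 n42651
theorem D47292 : act 9 n42651 = n47292 := rfl
theorem F211665 : act 0 n47292 = n42697 := d8_1 D47292 (iv D42697) (iv F178233)
theorem F211666 : act 1 n47292 = n46418 := d16_1 D47292 (iv D46418) F206354
theorem F211667 : act 2 n47292 = n47292 := d23_1 D47292 (iv D47292) F178234
theorem F211668 : act 3 n47292 = n42652 := d29_1 D47292 (iv D42652) D42651
theorem F211669 : act 5 n47292 = n43001 := d38_1 D47292 (iv D43001) (iv F178235)
theorem F211670 : act 6 n47292 = n46378 := d41_1 D47292 (iv D46378) F206392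
theorem F211671 : act 7 n47292 = n42654 := d43_1 D47292 (iv D42654) (iv F178236)
def n47293 : Q := act 5 n42653
theorem D47293 : act 5 n42653 = n47293 := rfl
theorem F211672 : act 0 n47293 = n42698 := d4_1 D47293 (iv D42698) (iv F178242)
theorem F211673 : act 2 n47293 = n47293 := d19_1 D47293 (iv D47293) F178243
theorem F211674 : act 4 n47293 = n43002 := d30_1 D47293 (iv D43002) (iv D29502) (iv F124228) D42653
theorem F211675 : act 8 n47293 = n47293 := d37_2 F178245 D47293 (iv D47293)
def n47294 : Q := act 9 n42653
theorem D47294 : act 9 n42653 = n47294 := rfl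
theorem F211676 : act 0 n47294 = n42699 := d8_1 D47294 (iv D42699) (iv F178242)
theorem F211677 : act 2 n47294 = n47294 := d23_1 D47294 (iv D47294) F178243
theorem F211678 : act 4 n47294 = n42654 := d34_1 D47294 (iv D42654) D42653
theorem F211679 : act 6 n47294 = n42656 := d41_1 D47294 (iv D42656) (iv F178244)
def n47295 : Q := act 8 n42654
theorem D47295 : act 8 n42654 = n47295 := rfl
theorem F211680 : act 0 n47295 = n42700 := d7_1 D47295 (iv D42700) (iv F178246)
theorem F211681 : act 2 n47295 = n47295 := d22_1 D47295 (iv D47295) F178247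
theorem F211682 : act 5 n47295 = n43004 := d37_1 D47295 (iv D43004) (iv F178249)
theorem F211683 : act 6 n47295 = n42657 := d40_1 D47295 (iv D42657) (iv F178250)
theorem F211684 : act 9 n47295 = n47295 := d44_2 D42654 D47295 (iv D47295) (iv D42654) F124230
def n47296 : Q := act 8 n42656
theorem D47296 : act 8 n42656 = n47296 := rfl
theorem F211685 : act 0 n47296 = n42703 := d7_1 D47296 (iv D42703) (iv F178255)
theorem F211686 : act 2 n47296 = n47296 := d22_1 D47296 (iv D47296) F178256
theorem F211687 : act 4 n47296 = n42657 := d33_1 D47296 (iv D42657) (iv F178257)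
theorem F211688 : act 9 n47296 = n47296 := d44_2 D42656 D47296 (iv D47296) (iv D42656) F124237
def n47297 : Q := act 8 n42661
theorem D47297 : act 8 n42661 = n47297 := rfl
theorem F211689 : act 0 n47297 = n42708 := d7_1 D47297 (iv D42708) (iv F178276)
theorem F211690 : act 1 n47297 = n47297 := d15_1 D47297 (iv D47297) F178277
theorem F211691 : act 4 n47297 = n43012 := d33_1 D47297 (iv D43012) (iv F178279)
theorem F211692 : act 6 n47297 = n42662 := d40_1 D47297 (iv D42662) D42661
theorem F211693 : act 7 n47297 = n45358 := d42_1 D47297 (iv D45358) (iv F178280)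
def n47298 : Q := act 3 n42662
theorem D47298 : act 3 n42662 = n47298 := rfl
theorem F211694 : act 0 n47298 = n42709 := d2_1 D47298 (iv D42709) (iv F178281)
theorem F211695 : act 1 n47298 = n47298 := d10_1 D47298 (iv D47298) F178282
theorem F211696 : act 5 n47298 = n42665 := d25_2 (iv F178284) D47298 (iv D42665)
theorem F211697 : act 7 n47298 = n42663 := d27_2 (iv F178285) D47298 (iv D42663)
theorem F211698 : act 8 n47298 = n47298 := d28_2 D42662 D47298 (iv D47298) (iv D42662) F124257
def n47299 : Q := act 9 n42662
theorem D47299 : act 9 n42662 = n47299 := rfl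
theorem F211699 : act 0 n47299 = n42710 := d8_1 D47299 (iv D42710) (iv F178281)
theorem F211700 : act 1 n47299 = n47299 := d16_1 D47299 (iv D47299) F178282
theorem F211701 : act 4 n47299 = n43014 := d34_1 D47299 (iv D43014) (iv F178283)
theorem F211702 : act 5 n47299 = n42666 := d38_1 D47299 (iv D42666) (iv F178284)
theorem F211703 : act 7 n47299 = n42664 := d43_1 D47299 (iv D42664) (iv F178285)
def n47300 : Q := act 2 n42663
theorem D47300 : act 2 n42663 = n47300 := rfl
theorem F211704 : act 0 n47300 = n42711 := d1_1 D47300 (iv D42711) (iv F178286)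
theorem F211705 : act 5 n47300 = n42667 := d19_2 (iv F178288) D47300 (iv D42667)
theorem F211706 : act 6 n47300 = n45361 := d20_2 (iv F178289) D47300 (iv D45361)
theorem F211707 : act 8 n47300 = n47300 := d22_2 F178290 D47300 (iv D47300)
def n47301 : Q := act 4 n42663
theorem D47301 : act 4 n42663 = n47301 := rfl
theorem F211708 : act 0 n47301 = n42712 := d3_1 D47301 (iv D42712) (iv F178286)
theorem F211709 : act 1 n47301 = n47301 := d11_1 D47301 (iv D47301) F178287
theorem F211710 : act 3 n47301 = n43016 := d24_1 D47301 (iv D43016) (iv D29512) (iv F124262) D42663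
theorem F211711 : act 5 n47301 = n47301 := d30_2 (iv F178288) D47301 (iv D47301) F178288 F124271
theorem F211712 : act 6 n47301 = n45362 := d31_2 (iv F178289) D47301 (iv D45362)
theorem F211713 : act 8 n47301 = n47301 := d33_2 F178290 D47301 (iv D47301)
def n47302 : Q := act 9 n42663
theorem D47302 : act 9 n42663 = n47302 := rfl
theorem F211714 : act 0 n47302 = n42713 := d8_1 D47302 (iv D42713) (iv F178286)
theorem F211715 : act 1 n47302 = n47302 := d16_1 D47302 (iv D47302) F178287
theorem F211716 : act 3 n47302 = n42664 := d29_1 D47302 (iv D42664) D42663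
theorem F211717 : act 5 n47302 = n42668 := d38_1 D47302 (iv D42668) (iv F178288)
theorem F211718 : act 6 n47302 = n45363 := d41_1 D47302 (iv D45363) (iv F178289)
def n47303 : Q := act 2 n42665
theorem D47303 : act 2 n42665 = n47303 := rfl
theorem F211719 : act 0 n47303 = n42714 := d1_1 D47303 (iv D42714) (iv F178296)
theorem F211720 : act 4 n47303 = n47303 := d18_2 F178298 D47303 (iv D47303)
theorem F211721 : act 6 n47303 = n45268 := d20_2 (iv F205839) D47303 F188712
theorem F211722 : act 7 n47303 = n42667 := d21_2 (iv F178299) D47303 (iv D42667)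
theorem F211723 : act 8 n47303 = n47303 := d22_2 F178300 D47303 (iv D47303)
def n47304 : Q := act 9 n42665
theorem D47304 : act 9 n42665 = n47304 := rfl
theorem F211724 : act 0 n47304 = n42715 := d8_1 D47304 (iv D42715) (iv F178296)
theorem F211725 : act 1 n47304 = n47304 := d16_1 D47304 (iv D47304) F178297
theorem F211726 : act 3 n47304 = n42666 := d29_1 D47304 (iv D42666) D42665
theorem F211727 : act 4 n47304 = n47304 := d34_1 D47304 (iv D47304) F178298
theorem F211728 : act 6 n47304 = n45287 := d41_1 D47304 (iv D45287) (iv F205839)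
theorem F211729 : act 7 n47304 = n42668 := d43_1 D47304 (iv D42668) (iv F178299)
def n47305 : Q := act 1 n42667
theorem D47305 : act 1 n42667 = n47305 := rfl
theorem F211730 : act 2 n47305 = n47305 := d9_2 D42667 D47305 (iv D47305) (iv D42667) F124270
theorem F211731 : act 4 n47305 = n47305 := d11_2 F178306 D47305 (iv D47305)
theorem F211732 : act 6 n47305 = n42669 := d13_2 (iv F178307) D47305 (iv D42669)
theorem F211733 : act 8 n47305 = n47305 := d15_2 F178308 D47305 (iv D47305)
def n47306 : Q := act 9 n42667
theorem D47306 : act 9 n42667 = n47306 := rfl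
theorem F211734 : act 0 n47306 = n42717 := d8_1 D47306 (iv D42717) (iv F178305)
theorem F211735 : act 2 n47306 = n42668 := d23_1 D47306 (iv D42668) D42667
theorem F211736 : act 4 n47306 = n47306 := d34_1 D47306 (iv D47306) F178306
theorem F211737 : act 6 n47306 = n42670 := d41_1 D47306 (iv D42670) (iv F178307)
def n47307 : Q := act 8 n42668
theorem D47307 : act 8 n42668 = n47307 := rfl
theorem F211738 : act 0 n47307 = n42718 := d7_1 D47307 (iv D42718) (iv F178309)
theorem F211739 : act 1 n47307 = n47307 := d15_1 D47307 (iv D47307) F178310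
theorem F211740 : act 4 n47307 = n47307 := d33_1 D47307 (iv D47307) F178312
theorem F211741 : act 6 n47307 = n42671 := d40_1 D47307 (iv D42671) (iv F178313)
theorem F211742 : act 9 n47307 = n47307 := d44_2 D42668 D47307 (iv D47307) (iv D42668) F124273
def n47308 : Q := act 0 n42669
theorem D47308 : act 0 n42669 = n47308 := rfl
theorem F211743 : act 1 n47308 = n42719 := d0_2 D42669 D47308 (iv D42719) (iv D29315) (iv F124278)
theorem F211744 : act 2 n47308 = n47308 := d1_2 F178314 D47308 (iv D47308)
theorem F211745 : act 4 n47308 = n47308 := d3_2 F178315 D47308 (iv D47308)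
theorem F211746 : act 5 n47308 = n45369 := d4_2 (iv F178316) D47308 (iv D45369)
theorem F211747 : act 8 n47308 = n47308 := d7_2 F178317 D47308 (iv D47308)
def n47309 : Q := act 9 n42669
theorem D47309 : act 9 n42669 = n47309 := rfl
theorem F211748 : act 1 n47309 = n42670 := d16_1 D47309 (iv D42670) D42669
theorem F211749 : act 2 n47309 = n47309 := d23_1 D47309 (iv D47309) F178314
theorem F211750 : act 4 n47309 = n47309 := d34_1 D47309 (iv D47309) F178315
theorem F211751 : act 5 n47309 = n45370 := d38_1 D47309 (iv D45370) (iv F178316)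
def n47310 : Q := act 8 n42670
theorem D47310 : act 8 n42670 = n47310 := rfl
theorem F211752 : act 0 n47310 = n42721 := d7_1 D47310 (iv D42721) (iv F178318)
theorem F211753 : act 2 n47310 = n42671 := d22_1 D47310 (iv D42671) (iv F178319)
theorem F211754 : act 4 n47310 = n47310 := d33_1 D47310 (iv D47310) F178320
theorem F211755 : act 5 n47310 = n45371 := d37_1 D47310 (iv D45371) (iv F178321)
theorem F211756 : act 9 n47310 = n47310 := d44_2 D42670 D47310 (iv D47310) (iv D42670) F124281
def n47311 : Q := act 7 n42672
theorem D47311 : act 7 n42672 = n47311 := rfl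
theorem F211757 : act 1 n47311 = n46553 := d14_1 D47311 (iv D46553) F206557
theorem F211758 : act 2 n47311 = n47311 := d21_1 D47311 (iv D47311) F178327
theorem F211759 : act 3 n47311 = n43026 := d27_1 D47311 (iv D43026) (iv F178328)
theorem F211760 : act 4 n47311 = n42673 := d32_1 D47311 (iv D42673) D42672
theorem F211761 : act 5 n47311 = n47311 := d36_1 D47311 (iv D47311) F178329
theorem F211762 : act 6 n47311 = n46535 := d39_1 D47311 (iv D46535) (iv D33905) F202773 (iv F178330)
def n47312 : Q := act 8 n42672
theorem D47312 : act 8 n42672 = n47312 := rfl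
theorem F211763 : act 1 n47312 = n45846 := d15_1 D47312 F190657 F206557
theorem F211764 : act 2 n47312 = n47312 := d22_1 D47312 (iv D47312) F178327
theorem F211765 : act 4 n47312 = n42674 := d33_1 D47312 (iv D42674) D42672
theorem F211766 : act 5 n47312 = n47312 := d37_1 D47312 (iv D47312) F178329
theorem F211767 : act 6 n47312 = n44908 := d40_1 D47312 F203005 (iv F178330)
def n47313 : Q := act 6 n42673
theorem D47313 : act 6 n42673 = n47313 := rfl
theorem F211768 : act 1 n47313 = n46538 := d13_1 D47313 (iv F208846) F208841
theorem F211769 : act 2 n47313 = n47313 := d20_1 D47313 (iv D47313) F178331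
theorem F211770 : act 3 n47313 = n42681 := d26_1 D47313 (iv D42681) (iv F178332)
theorem F211771 : act 4 n47313 = n46535 := d31_1 D47313 (iv F211762) F211760
theorem F211772 : act 5 n47313 = n46528 := d35_1 D47313 (iv F210721) F210720 F177405 (iv F178333)
theorem F211773 : act 7 n47313 = n45374 := d39_2 D42673 D47313 (iv D45374) (iv D31102) (iv F124294)
def n47314 : Q := act 8 n42673
theorem D47314 : act 8 n42673 = n47314 := rfl
theorem F211774 : act 2 n47314 = n47314 := d22_1 D47314 (iv D47314) F178331
theorem F211775 : act 5 n47314 = n42675 := d37_1 D47314 (iv D42675) (iv F178333)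
theorem F211776 : act 7 n47314 = n42674 := d42_1 D47314 (iv D42674) D42673
def n47315 : Q := act 3 n42674
theorem D47315 : act 3 n42674 = n47315 := rfl
theorem F211777 : act 5 n47315 = n42676 := d25_2 (iv F178335) D47315 (iv D42676)
theorem F211778 : act 6 n47315 = n45376 := d26_2 (iv F178336) D47315 (iv D45376)
theorem F211779 : act 8 n47315 = n42683 := d28_2 D42674 D47315 (iv D42683) (iv D29290) (iv F124293)
def n47316 : Q := act 9 n42674
theorem D47316 : act 9 n42674 = n47316 := rfl
theorem F211780 : act 2 n47316 = n47316 := d23_1 D47316 (iv D47316) F178334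
theorem F211781 : act 5 n47316 = n42677 := d38_1 D47316 (iv D42677) (iv F178335)
theorem F211782 : act 6 n47316 = n45377 := d41_1 D47316 (iv D45377) (iv F178336)
def n47317 : Q := act 3 n42675
theorem D47317 : act 3 n42675 = n47317 := rfl
theorem F211783 : act 7 n47317 = n42676 := d27_2 (iv F178339) D47317 (iv D42676)
theorem F211784 : act 8 n47317 = n42685 := d28_2 D42675 D47317 (iv D42685) (iv D29291) (iv F124296)
def n47318 : Q := act 9 n42675
theorem D47318 : act 9 n42675 = n47318 := rfl
theorem F211785 : act 2 n47318 = n47318 := d23_1 D47318 (iv D47318) F178337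
theorem F211786 : act 4 n47318 = n47318 := d34_1 D47318 (iv D47318) F178338
theorem F211787 : act 7 n47318 = n42677 := d43_1 D47318 (iv D42677) (iv F178339)
def n47319 : Q := act 2 n42676
theorem D47319 : act 2 n42676 = n47319 := rfl
theorem F211788 : act 3 n47319 = n47319 := d17_2 D42676 D47319 (iv D47319) (iv D42676) F124298
theorem F211789 : act 6 n47319 = n42678 := d20_2 (iv F178340) D47319 (iv D42678)
theorem F211790 : act 8 n47319 = n42687 := d22_2 (iv F178341) D47319 (iv D42687)
def n47320 : Q := act 4 n42676
theorem D47320 : act 4 n42676 = n47320 := rfl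
theorem F211791 : act 3 n47320 = n47320 := d24_1 D47320 (iv D47320) (iv D42676) F124299 D42676
theorem F211792 : act 6 n47320 = n42679 := d31_2 (iv F178340) D47320 (iv D42679)
theorem F211793 : act 8 n47320 = n42688 := d33_2 (iv F178341) D47320 (iv D42688)
def n47321 : Q := act 9 n42676
theorem D47321 : act 9 n42676 = n47321 := rfl
theorem F211794 : act 3 n47321 = n42677 := d29_1 D47321 (iv D42677) D42676
theorem F211795 : act 6 n47321 = n42680 := d41_1 D47321 (iv D42680) (iv F178340)
def n47322 : Q := act 1 n42678
theorem D47322 : act 1 n42678 = n47322 := rfl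
theorem F211796 : act 2 n47322 = n44466 := d9_2 D42678 D47322 F185660 (iv F205602) F175823
theorem F211797 : act 3 n47322 = n47322 := d10_2 F178345 D47322 (iv D47322)
theorem F211798 : act 5 n47322 = n45383 := d12_2 (iv F178346) D47322 (iv D45383)
theorem F211799 : act 8 n47322 = n42690 := d15_2 (iv F178347) D47322 (iv D42690)
theorem F211800 : act 0 n45240 = n47322 := d4_3 F211798 (iv F211563) F211565
theorem F211801 : act 4 n47322 = n45197 := d3_2 D45240 F211800 F188479
def n47323 : Q := act 4 n42678
theorem D47323 : act 4 n42678 = n47323 := rfl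
theorem F211802 : act 1 n47323 = n45197 := d11_1 D47323 (iv F211801) (iv D47322)
theorem F211803 : act 2 n47323 = n42679 := d18_1 D47323 (iv D42679) D42678
theorem F211804 : act 8 n47323 = n42691 := d33_2 (iv F178347) D47323 (iv D42691)
theorem F211805 : act 3 n45218 = n47323 := d10_0 F211802 F188480 D45218
def n47324 : Q := act 9 n42678
theorem D47324 : act 9 n42678 = n47324 := rfl
theorem F211806 : act 2 n47324 = n42680 := d23_1 D47324 (iv D42680) D42678
theorem F211807 : act 3 n47324 = n47324 := d29_1 D47324 (iv D47324) F178345
theorem F211808 : act 5 n47324 = n45385 := d38_1 D47324 (iv D45385) (iv F178346)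
def n47325 : Q := act 5 n42679
theorem D47325 : act 5 n42679 = n47325 := rfl
theorem F211809 : act 3 n47325 = n47325 := d25_1 D47325 (iv D47325) F178348
theorem F211810 : act 4 n47325 = n45386 := d30_1 D47325 (iv D45386) (iv D31108) (iv F124301) D42679
theorem F211811 : act 8 n47325 = n42693 := d37_2 (iv F178349) D47325 (iv D42693)
def n47326 : Q := act 9 n42679
theorem D47326 : act 9 n42679 = n47326 := rfl
theorem F211812 : act 3 n47326 = n47326 := d29_1 D47326 (iv D47326) F178348
theorem F211813 : act 4 n47326 = n42680 := d34_1 D47326 (iv D42680) D42679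
def n47327 : Q := act 8 n42680
theorem D47327 : act 8 n42680 = n47327 := rfl
theorem F211814 : act 5 n47327 = n45388 := d37_1 D47327 (iv D45388) (iv F178351)
theorem F211815 : act 9 n47327 = n42695 := d44_2 D42680 D47327 (iv D42695) (iv D29296) (iv F124302)
def n47328 : Q := act 8 n42681
theorem D47328 : act 8 n42681 = n47328 := rfl
theorem F211816 : act 2 n47328 = n42708 := d22_1 D47328 (iv D42708) (iv F178352)
theorem F211817 : act 4 n47328 = n43043 := d33_1 D47328 (iv D43043) (iv F178353)
theorem F211818 : act 6 n47328 = n42682 := d40_1 D47328 (iv D42682) D42681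
theorem F211819 : act 7 n47328 = n45389 := d42_1 D47328 (iv D45389) (iv F178354)
def n47329 : Q := act 3 n42682
theorem D47329 : act 3 n42682 = n47329 := rfl
theorem F211820 : act 5 n47329 = n42685 := d25_2 (iv F178357) D47329 (iv D42685)
theorem F211821 : act 7 n47329 = n42683 := d27_2 (iv F178358) D47329 (iv D42683)
def n47330 : Q := act 9 n42682
theorem D47330 : act 9 n42682 = n47330 := rfl
theorem F211822 : act 2 n47330 = n42710 := d23_1 D47330 (iv D42710) (iv F178355)
theorem F211823 : act 4 n47330 = n43045 := d34_1 D47330 (iv D43045) (iv F178356)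
theorem F211824 : act 5 n47330 = n42686 := d38_1 D47330 (iv D42686) (iv F178357)
theorem F211825 : act 7 n47330 = n42684 := d43_1 D47330 (iv D42684) (iv F178358)
def n47331 : Q := act 2 n42683
theorem D47331 : act 2 n42683 = n47331 := rfl
theorem F211826 : act 3 n47331 = n42711 := d17_2 D42683 D47331 (iv D42711) (iv D29309) (iv F124309)
theorem F211827 : act 5 n47331 = n42687 := d19_2 (iv F178359) D47331 (iv D42687)
theorem F211828 : act 6 n47331 = n45392 := d20_2 (iv F178360) D47331 (iv D45392)
def n47332 : Q := act 4 n42683
theorem D47332 : act 4 n42683 = n47332 := rfl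
theorem F211829 : act 3 n47332 = n43047 := d24_1 D47332 (iv D43047) (iv D29532) (iv F124310) D42683
theorem F211830 : act 6 n47332 = n45393 := d31_2 (iv F178360) D47332 (iv D45393)
def n47333 : Q := act 9 n42683
theorem D47333 : act 9 n42683 = n47333 := rfl
theorem F211831 : act 3 n47333 = n42684 := d29_1 D47333 (iv D42684) D42683
theorem F211832 : act 5 n47333 = n42689 := d38_1 D47333 (iv D42689) (iv F178359)
theorem F211833 : act 6 n47333 = n45394 := d41_1 D47333 (iv D45394) (iv F178360)
def n47334 : Q := act 2 n42685
theorem D47334 : act 2 n42685 = n47334 := rfl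
theorem F211834 : act 1 n47334 = n45236 := d9_1 D47334 (iv D45236) (iv F185521) (iv F208900) F208899
theorem F211835 : act 3 n47334 = n42714 := d17_2 D42685 D47334 (iv D42714) (iv D29311) (iv F124313)
theorem F211836 : act 6 n47334 = n45239 := d20_2 F210762 D47334 (iv F210760)
theorem F211837 : act 7 n47334 = n42687 := d21_2 (iv F178365) D47334 (iv D42687)
def n47335 : Q := act 4 n42685
theorem D47335 : act 4 n42685 = n47335 := rfl
theorem F211838 : act 1 n47335 = n45337 := d11_1 D47335 (iv F208901) F208899
theorem F211839 : act 3 n47335 = n42696 := d24_1 D47335 (iv D42696) (iv D29297) (iv F124314) D42685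
theorem F211840 : act 6 n47335 = n45340 := d31_2 F210762 D47335 (iv F210761)
theorem F211841 : act 7 n47335 = n42688 := d32_2 (iv F178365) D47335 (iv D42688)
def n47336 : Q := act 9 n42685
theorem D47336 : act 9 n42685 = n47336 := rfl
theorem F211842 : act 3 n47336 = n42686 := d29_1 D47336 (iv D42686) D42685
theorem F211843 : act 7 n47336 = n42689 := d43_1 D47336 (iv D42689) (iv F178365)
def n47337 : Q := act 1 n42687
theorem D47337 : act 1 n42687 = n47337 := rfl
theorem F211844 : act 2 n47337 = n45234 := d9_2 D42687 D47337 F208915 (iv D46744) F175842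
theorem F211845 : act 3 n47337 = n42716 := d10_2 (iv F178369) D47337 (iv D42716)
theorem F211846 : act 6 n47337 = n42690 := d13_2 (iv F178370) D47337 (iv D42690)
theorem F211847 : act 7 n47337 = n45236 := d14_2 F211837 D47337 (iv F211834)
def n47338 : Q := act 4 n42687
theorem D47338 : act 4 n42687 = n47338 := rfl
theorem F211848 : act 2 n47338 = n42688 := d18_1 D47338 (iv D42688) D42687
theorem F211849 : act 3 n47338 = n47338 := d24_1 D47338 (iv D47338) F178369 F124381 (iv F178369)
theorem F211850 : act 6 n47338 = n42691 := d31_2 (iv F178370) D47338 (iv D42691)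
def n47339 : Q := act 9 n42687
theorem D47339 : act 9 n42687 = n47339 := rfl
theorem F211851 : act 2 n47339 = n42689 := d23_1 D47339 (iv D42689) D42687
theorem F211852 : act 3 n47339 = n42717 := d29_1 D47339 (iv D42717) (iv F178369)
theorem F211853 : act 6 n47339 = n42692 := d41_1 D47339 (iv D42692) (iv F178370)
def n47340 : Q := act 5 n42688
theorem D47340 : act 5 n42688 = n47340 := rfl
theorem F211854 : act 3 n47340 = n42698 := d25_1 D47340 (iv D42698) (iv F178371)
def n47341 : Q := act 9 n42688
theorem D47341 : act 9 n42688 = n47341 := rfl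
theorem F211855 : act 3 n47341 = n42699 := d29_1 D47341 (iv D42699) (iv F178371)
theorem F211856 : act 4 n47341 = n42689 := d34_1 D47341 (iv D42689) D42688
theorem F211857 : act 6 n47341 = n42694 := d41_1 D47341 (iv D42694) (iv F178372)
def n47342 : Q := act 8 n42689
theorem D47342 : act 8 n42689 = n47342 := rfl
theorem F211858 : act 6 n47342 = n42695 := d40_1 D47342 (iv D42695) (iv F178374)
def n47343 : Q := act 0 n42690
theorem D47343 : act 0 n42690 = n47343 := rfl
theorem F211859 : act 2 n47343 = n45228 := d1_2 F208927 D47343 (iv F208926)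
theorem F211860 : act 3 n47343 = n42719 := d2_2 (iv F178375) D47343 (iv D42719)
theorem F211861 : act 5 n47343 = n45404 := d4_2 (iv F178376) D47343 (iv D45404)
theorem F211862 : act 8 n47343 = n45240 := d7_2 F211799 D47343 F211800
theorem F211863 : act 4 n45227 = n47343 := d33_3 F211862 (iv D45240) (iv F188597)
def n47344 : Q := act 4 n42690
theorem D47344 : act 4 n42690 = n47344 := rfl
theorem F211864 : act 0 n47344 = n45227 := d3_1 D47344 F211863 (iv D47343)
theorem F211865 : act 1 n47344 = n42691 := d11_1 D47344 (iv D42691) D42690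
theorem F211866 : act 2 n47344 = n45190 := d18_1 D47344 F208933 F208927
theorem F211867 : act 3 n47344 = n47344 := d24_1 D47344 (iv D47344) F178375 F124389 (iv F178375)
theorem F211868 : act 8 n47344 = n45197 := d33_2 F211799 D47344 (iv F211801)
def n47345 : Q := act 9 n42690
theorem D47345 : act 9 n42690 = n47345 := rfl
theorem F211869 : act 1 n47345 = n42692 := d16_1 D47345 (iv D42692) D42690
theorem F211870 : act 3 n47345 = n42720 := d29_1 D47345 (iv D42720) (iv F178375)
theorem F211871 : act 5 n47345 = n45406 := d38_1 D47345 (iv D45406) (iv F178376)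
def n47346 : Q := act 5 n42691
theorem D47346 : act 5 n42691 = n47346 := rfl
theorem F211872 : act 2 n47346 = n42693 := d19_1 D47346 (iv D42693) (iv F178377)
theorem F211873 : act 3 n47346 = n47346 := d25_1 D47346 (iv D47346) F178378
theorem F211874 : act 4 n47346 = n45407 := d30_1 D47346 (iv D45407) (iv D31120) (iv F124321) D42691
def n47347 : Q := act 9 n42691
theorem D47347 : act 9 n42691 = n47347 := rfl
theorem F211875 : act 2 n47347 = n42694 := d23_1 D47347 (iv D42694) (iv F178377)
theorem F211876 : act 3 n47347 = n47347 := d29_1 D47347 (iv D47347) F178378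
theorem F211877 : act 4 n47347 = n42692 := d34_1 D47347 (iv D42692) D42691
def n47348 : Q := act 8 n42692
theorem D47348 : act 8 n42692 = n47348 := rfl
theorem F211878 : act 2 n47348 = n42695 := d22_1 D47348 (iv D42695) (iv F178379)
theorem F211879 : act 5 n47348 = n45409 := d37_1 D47348 (iv D45409) (iv F178381)
def n47349 : Q := act 6 n42693
theorem D47349 : act 6 n42693 = n47349 := rfl
theorem F211880 : act 3 n47349 = n42701 := d26_1 D47349 (iv D42701) (iv F178382)
theorem F211881 : act 4 n47349 = n45410 := d31_1 D47349 (iv D45410) (iv F178383)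
def n47350 : Q := act 9 n42693
theorem D47350 : act 9 n42693 = n47350 := rfl
theorem F211882 : act 3 n47350 = n42702 := d29_1 D47350 (iv D42702) (iv F178382)
theorem F211883 : act 4 n47350 = n45411 := d34_1 D47350 (iv D45411) (iv F178383)
theorem F211884 : act 5 n47350 = n42694 := d38_1 D47350 (iv D42694) D42693
def n47351 : Q := act 8 n42694
theorem D47351 : act 8 n42694 = n47351 := rfl
theorem F211885 : act 4 n47351 = n42695 := d33_1 D47351 (iv D42695) (iv F178385)
def n47352 : Q := act 5 n42696
theorem D47352 : act 5 n42696 = n47352 := rfl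
theorem F211886 : act 1 n47352 = n45361 := d12_1 D47352 F189027 (iv F205285)
theorem F211887 : act 2 n47352 = n47352 := d19_1 D47352 (iv D47352) F178387
theorem F211888 : act 4 n47352 = n43067 := d30_1 D47352 (iv D43067) (iv D29545) (iv F124326) D42696
theorem F211889 : act 7 n47352 = n42698 := d36_2 (iv F178388) D47352 (iv D42698)
theorem F211890 : act 8 n47352 = n47352 := d37_2 F178389 D47352 (iv D47352)
def n47353 : Q := act 9 n42696
theorem D47353 : act 9 n42696 = n47353 := rfl
theorem F211891 : act 1 n47353 = n45367 := d16_1 D47353 (iv D45367) (iv F205285)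
theorem F211892 : act 2 n47353 = n47353 := d23_1 D47353 (iv D47353) F178387
theorem F211893 : act 4 n47353 = n42697 := d34_1 D47353 (iv D42697) D42696
theorem F211894 : act 6 n47353 = n45370 := d41_1 D47353 (iv D45370) (iv F205286)
theorem F211895 : act 7 n47353 = n42699 := d43_1 D47353 (iv D42699) (iv F178388)
def n47354 : Q := act 8 n42697
theorem D47354 : act 8 n42697 = n47354 := rfl
theorem F211896 : act 1 n47354 = n46377 := d15_1 D47354 (iv D46377) F206472
theorem F211897 : act 2 n47354 = n47354 := d22_1 D47354 (iv D47354) F178390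
theorem F211898 : act 5 n47354 = n43069 := d37_1 D47354 (iv D43069) (iv F178392)
theorem F211899 : act 6 n47354 = n46379 := d40_1 D47354 (iv D46379) F206488
theorem F211900 : act 7 n47354 = n42700 := d42_1 D47354 (iv D42700) (iv F178393)
theorem F211901 : act 9 n47354 = n47354 := d44_2 D42697 D47354 (iv D47354) (iv D42697) F124328
def n47355 : Q := act 6 n42698
theorem D47355 : act 6 n42698 = n47355 := rfl
theorem F211902 : act 2 n47355 = n47355 := d20_1 D47355 (iv D47355) F178394
theorem F211903 : act 4 n47355 = n43070 := d31_1 D47355 (iv D43070) (iv F178395)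
theorem F211904 : act 5 n47355 = n42701 := d35_1 D47355 (iv D42701) (iv D29301) (iv F124333) D42698
theorem F211905 : act 8 n47355 = n47355 := d40_2 F178396 D47355 (iv D47355)
def n47356 : Q := act 9 n42698
theorem D47356 : act 9 n42698 = n47356 := rfl
theorem F211906 : act 2 n47356 = n47356 := d23_1 D47356 (iv D47356) F178394
theorem F211907 : act 4 n47356 = n43071 := d34_1 D47356 (iv D43071) (iv F178395)
theorem F211908 : act 5 n47356 = n42699 := d38_1 D47356 (iv D42699) D42698
def n47357 : Q := act 8 n42699
theorem D47357 : act 8 n42699 = n47357 := rfl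
theorem F211909 : act 2 n47357 = n47357 := d22_1 D47357 (iv D47357) F178397
theorem F211910 : act 4 n47357 = n42700 := d33_1 D47357 (iv D42700) (iv F178398)
theorem F211911 : act 6 n47357 = n42703 := d40_1 D47357 (iv D42703) (iv F178399)
theorem F211912 : act 9 n47357 = n47357 := d44_2 D42699 D47357 (iv D47357) (iv D42699) F124334
def n47358 : Q := act 7 n42701
theorem D47358 : act 7 n42701 = n47358 := rfl
theorem F211913 : act 2 n47358 = n47358 := d21_1 D47358 (iv D47358) F178404
theorem F211914 : act 4 n47358 = n42704 := d32_1 D47358 (iv D42704) (iv F178405)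
theorem F211915 : act 8 n47358 = n47358 := d42_2 F178406 D47358 (iv D47358)
def n47359 : Q := act 9 n42701
theorem D47359 : act 9 n42701 = n47359 := rfl
theorem F211916 : act 2 n47359 = n47359 := d23_1 D47359 (iv D47359) F178404
theorem F211917 : act 4 n47359 = n42705 := d34_1 D47359 (iv D42705) (iv F178405)
theorem F211918 : act 6 n47359 = n42702 := d41_1 D47359 (iv D42702) D42701
def n47360 : Q := act 8 n42702
theorem D47360 : act 8 n42702 = n47360 := rfl
theorem F211919 : act 2 n47360 = n47360 := d22_1 D47360 (iv D47360) F178407
theorem F211920 : act 4 n47360 = n42706 := d33_1 D47360 (iv D42706) (iv F178408)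
theorem F211921 : act 5 n47360 = n42703 := d37_1 D47360 (iv D42703) (iv F178409)
theorem F211922 : act 9 n47360 = n47360 := d44_2 D42702 D47360 (iv D47360) (iv D42702) F124341
def n47361 : Q := act 3 n42703
theorem D47361 : act 3 n42703 = n47361 := rfl
theorem F211923 : act 9 n47361 = n47361 := d29_2 F178412 D47361 (iv D47361)
def n47362 : Q := act 9 n42704
theorem D47362 : act 9 n42704 = n47362 := rfl
theorem F211924 : act 2 n47362 = n47362 := d23_1 D47362 (iv D47362) F178413
theorem F211925 : act 3 n47362 = n45423 := d29_1 D47362 (iv D45423) (iv F178414)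
theorem F211926 : act 5 n47362 = n43077 := d38_1 D47362 (iv D43077) (iv F178415)
theorem F211927 : act 6 n47362 = n46402 := d41_1 D47362 F210826 F210824
theorem F211928 : act 7 n47362 = n42705 := d43_1 D47362 (iv D42705) D42704
theorem F211929 : act 8 n46420 = n47362 := d40_0 F211927 F207081 (iv F207144)
def n47363 : Q := act 8 n42705
theorem D47363 : act 8 n42705 = n47363 := rfl
theorem F211930 : act 2 n47363 = n47363 := d22_1 D47363 (iv D47363) F178417
theorem F211931 : act 3 n47363 = n46417 := d28_1 D47363 (iv D46417) (iv F206444) F202838 (iv F178418)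
theorem F211932 : act 5 n47363 = n43078 := d37_1 D47363 (iv D43078) (iv F178419)
theorem F211933 : act 6 n47363 = n42706 := d40_1 D47363 (iv D42706) (iv F178420)
theorem F211934 : act 7 n47363 = n46420 := d42_1 D47363 F211929 F211928
theorem F211935 : act 9 n47363 = n47363 := d44_2 D42705 D47363 (iv D47363) (iv D42705) F124350
def n47364 : Q := act 9 n42708
theorem D47364 : act 9 n42708 = n47364 := rfl
theorem F211936 : act 1 n47364 = n42723 := d16_1 D47364 (iv D42723) (iv F178427)
theorem F211937 : act 4 n47364 = n43082 := d34_1 D47364 (iv D43082) (iv F178428)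
theorem F211938 : act 6 n47364 = n42710 := d41_1 D47364 (iv D42710) (iv F178429)
theorem F211939 : act 7 n47364 = n45428 := d43_1 D47364 (iv D45428) (iv F178430)
def n47365 : Q := act 2 n42709
theorem D47365 : act 2 n42709 = n47365 := rfl
theorem F211940 : act 1 n47365 = n45260 := d9_1 D47365 (iv D45260) F131399 F205810 (iv F178431)
theorem F211941 : act 5 n47365 = n42714 := d19_2 (iv F178432) D47365 (iv D42714)
theorem F211942 : act 7 n47365 = n42711 := d21_2 (iv F178433) D47365 (iv D42711)
theorem F211943 : act 8 n47365 = n47365 := d22_2 F178434 D47365 (iv D47365)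
def n47366 : Q := act 4 n42709
theorem D47366 : act 4 n42709 = n47366 := rfl
theorem F211944 : act 1 n47366 = n42725 := d11_1 D47366 (iv D42725) (iv F178431)
theorem F211945 : act 3 n47366 = n43084 := d24_1 D47366 (iv D43084) (iv D29558) (iv F124363) D42709
theorem F211946 : act 5 n47366 = n47366 := d30_2 (iv F178432) D47366 (iv D47366) F178432 F124375
theorem F211947 : act 7 n47366 = n42712 := d32_2 (iv F178433) D47366 (iv D42712)
theorem F211948 : act 8 n47366 = n47366 := d33_2 F178434 D47366 (iv D47366)
def n47367 : Q := act 9 n42709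
theorem D47367 : act 9 n42709 = n47367 := rfl
theorem F211949 : act 1 n47367 = n42726 := d16_1 D47367 (iv D42726) (iv F178431)
theorem F211950 : act 3 n47367 = n42710 := d29_1 D47367 (iv D42710) D42709
theorem F211951 : act 5 n47367 = n42715 := d38_1 D47367 (iv D42715) (iv F178432)
theorem F211952 : act 7 n47367 = n42713 := d43_1 D47367 (iv D42713) (iv F178433)
def n47368 : Q := act 1 n42711
theorem D47368 : act 1 n42711 = n47368 := rfl
theorem F211953 : act 2 n47368 = n42727 := d9_2 D42711 D47368 (iv D42727) (iv D29321) (iv F124366)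
theorem F211954 : act 5 n47368 = n42716 := d12_2 (iv F178439) D47368 (iv D42716)
theorem F211955 : act 6 n47368 = n45432 := d13_2 (iv F178440) D47368 (iv D45432)
theorem F211956 : act 7 n47368 = n45260 := d14_2 F211942 D47368 (iv F211940)
theorem F211957 : act 8 n47368 = n47368 := d15_2 F178441 D47368 (iv D47368)
def n47369 : Q := act 4 n42711
theorem D47369 : act 4 n42711 = n47369 := rfl
theorem F211958 : act 2 n47369 = n42712 := d18_1 D47369 (iv D42712) D42711
theorem F211959 : act 5 n47369 = n47369 := d30_2 (iv F178439) D47369 (iv D47369) F178439 F124381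
theorem F211960 : act 6 n47369 = n45433 := d31_2 (iv F178440) D47369 (iv D45433)
theorem F211961 : act 8 n47369 = n47369 := d33_2 F178441 D47369 (iv D47369)
def n47370 : Q := act 9 n42711
theorem D47370 : act 9 n42711 = n47370 := rfl
theorem F211962 : act 2 n47370 = n42713 := d23_1 D47370 (iv D42713) D42711
theorem F211963 : act 5 n47370 = n42717 := d38_1 D47370 (iv D42717) (iv F178439)
theorem F211964 : act 6 n47370 = n45434 := d41_1 D47370 (iv D45434) (iv F178440)
def n47371 : Q := act 9 n42712
theorem D47371 : act 9 n42712 = n47371 := rfl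
theorem F211965 : act 1 n47371 = n42730 := d16_1 D47371 (iv D42730) (iv F178442)
theorem F211966 : act 3 n47371 = n43089 := d29_1 D47371 (iv D43089) (iv F178443)
theorem F211967 : act 4 n47371 = n42713 := d34_1 D47371 (iv D42713) D42712
theorem F211968 : act 5 n47371 = n47371 := d38_1 D47371 (iv D47371) F178444
theorem F211969 : act 6 n47371 = n45435 := d41_1 D47371 (iv D45435) (iv F178445)
def n47372 : Q := act 8 n42713
theorem D47372 : act 8 n42713 = n47372 := rfl
theorem F211970 : act 1 n47372 = n42731 := d15_1 D47372 (iv D42731) (iv F178447)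
theorem F211971 : act 5 n47372 = n42718 := d37_1 D47372 (iv D42718) (iv F178449)
theorem F211972 : act 6 n47372 = n45436 := d40_1 D47372 (iv D45436) (iv F178450)
theorem F211973 : act 9 n47372 = n47372 := d44_2 D42713 D47372 (iv D47372) (iv D42713) F124369
def n47373 : Q := act 9 n42714
theorem D47373 : act 9 n42714 = n47373 := rfl
theorem F211974 : act 1 n47373 = n45266 := d16_1 D47373 (iv D45266) (iv F205840)
theorem F211975 : act 2 n47373 = n42715 := d23_1 D47373 (iv D42715) D42714
theorem F211976 : act 4 n47373 = n47373 := d34_1 D47373 (iv D47373) F178451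
theorem F211977 : act 6 n47373 = n45269 := d41_1 D47373 (iv D45269) (iv F205841)
theorem F211978 : act 7 n47373 = n42717 := d43_1 D47373 (iv D42717) (iv F178452)
def n47374 : Q := act 8 n42715
theorem D47374 : act 8 n42715 = n47374 := rfl
theorem F211979 : act 1 n47374 = n42734 := d15_1 D47374 (iv D42734) (iv F178454)
theorem F211980 : act 4 n47374 = n47374 := d33_1 D47374 (iv D47374) F178456
theorem F211981 : act 6 n47374 = n45288 := d40_1 D47374 (iv D45288) (iv F205842)
theorem F211982 : act 7 n47374 = n42718 := d42_1 D47374 (iv D42718) (iv F178457)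
theorem F211983 : act 9 n47374 = n47374 := d44_2 D42715 D47374 (iv D47374) (iv D42715) F124377
def n47375 : Q := act 0 n42716
theorem D47375 : act 0 n42716 = n47375 := rfl
theorem F211984 : act 2 n47375 = n42735 := d1_2 (iv F178458) D47375 (iv D42735)
theorem F211985 : act 4 n47375 = n47375 := d3_2 F178459 D47375 (iv D47375)
theorem F211986 : act 6 n47375 = n42719 := d5_2 (iv F178460) D47375 (iv D42719)
theorem F211987 : act 7 n47375 = n45216 := d6_2 (iv F205899) D47375 F188557
theorem F211988 : act 8 n47375 = n47375 := d7_2 F178461 D47375 (iv D47375)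
def n47376 : Q := act 9 n42716
theorem D47376 : act 9 n42716 = n47376 := rfl
theorem F211989 : act 1 n47376 = n42717 := d16_1 D47376 (iv D42717) D42716
theorem F211990 : act 2 n47376 = n42736 := d23_1 D47376 (iv D42736) (iv F178458)
theorem F211991 : act 4 n47376 = n47376 := d34_1 D47376 (iv D47376) F178459
theorem F211992 : act 6 n47376 = n42720 := d41_1 D47376 (iv D42720) (iv F178460)
theorem F211993 : act 7 n47376 = n45266 := d43_1 D47376 (iv D45266) (iv F205899)
def n47377 : Q := act 8 n42717
theorem D47377 : act 8 n42717 = n47377 := rfl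
theorem F211994 : act 2 n47377 = n42718 := d22_1 D47377 (iv D42718) (iv F178462)
theorem F211995 : act 4 n47377 = n47377 := d33_1 D47377 (iv D47377) F178463
theorem F211996 : act 6 n47377 = n42721 := d40_1 D47377 (iv D42721) (iv F178464)
theorem F211997 : act 9 n47377 = n47377 := d44_2 D42717 D47377 (iv D47377) (iv D42717) F124383
def n47378 : Q := act 9 n42719
theorem D47378 : act 9 n42719 = n47378 := rfl
theorem F211998 : act 0 n47378 = n42720 := d8_1 D47378 (iv D42720) D42719
theorem F211999 : act 2 n47378 = n42738 := d23_1 D47378 (iv D42738) (iv F178469)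
theorem F212000 : act 4 n47378 = n47378 := d34_1 D47378 (iv D47378) F178470
theorem F212001 : act 5 n47378 = n45443 := d38_1 D47378 (iv D45443) (iv F178471)
def n47379 : Q := act 8 n42720
theorem D47379 : act 8 n42720 = n47379 := rfl
theorem F212002 : act 1 n47379 = n42721 := d15_1 D47379 (iv D42721) (iv F178473)
theorem F212003 : act 2 n47379 = n42739 := d22_1 D47379 (iv D42739) (iv F178474)
theorem F212004 : act 4 n47379 = n47379 := d33_1 D47379 (iv D47379) F178475
theorem F212005 : act 5 n47379 = n45444 := d37_1 D47379 (iv D45444) (iv F178476)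
theorem F212006 : act 9 n47379 = n47379 := d44_2 D42720 D47379 (iv D47379) (iv D42720) F124391
def n47380 : Q := act 3 n42721
theorem D47380 : act 3 n42721 = n47380 := rfl
theorem F212007 : act 5 n47380 = n45445 := d25_2 (iv F178479) D47380 (iv D45445)
theorem F212008 : act 9 n47380 = n47380 := d29_2 F178480 D47380 (iv D47380)
def n47381 : Q := act 9 n42725
theorem D47381 : act 9 n42725 = n47381 := rfl
theorem F212009 : act 0 n47381 = n47381 := d8_1 D47381 (iv D47381) F178493
theorem F212010 : act 2 n47381 = n45279 := d23_1 D47381 (iv D45279) (iv F205843)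
theorem F212011 : act 3 n47381 = n43106 := d29_1 D47381 (iv D43106) (iv F178494)
theorem F212012 : act 4 n47381 = n42726 := d34_1 D47381 (iv D42726) D42725
theorem F212013 : act 5 n47381 = n47381 := d38_1 D47381 (iv D47381) F178495
theorem F212014 : act 7 n47381 = n42730 := d43_1 D47381 (iv D42730) (iv F178496)
def n47382 : Q := act 8 n42726
theorem D47382 : act 8 n42726 = n47382 := rfl
theorem F212015 : act 0 n47382 = n47382 := d7_1 D47382 (iv D47382) F178498
theorem F212016 : act 2 n47382 = n45280 := d22_1 D47382 (iv D45280) (iv F205847)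
theorem F212017 : act 5 n47382 = n42734 := d37_1 D47382 (iv D42734) (iv F178500)
theorem F212018 : act 7 n47382 = n42731 := d42_1 D47382 (iv D42731) (iv F178501)
theorem F212019 : act 9 n47382 = n47382 := d44_2 D42726 D47382 (iv D47382) (iv D42726) F124406
def n47383 : Q := act 0 n42727
theorem D47383 : act 0 n42727 = n47383 := rfl
theorem F212020 : act 1 n47383 = n47383 := d0_2 D42727 D47383 (iv D47383) (iv D42727) F124411
theorem F212021 : act 3 n47383 = n45211 := d2_2 (iv F205870) D47383 F188533
theorem F212022 : act 5 n47383 = n42735 := d4_2 (iv F178502) D47383 (iv D42735)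
theorem F212023 : act 6 n47383 = n45454 := d5_2 (iv F178503) D47383 (iv D45454)
theorem F212024 : act 7 n47383 = n45212 := d6_2 (iv F205871) D47383 F188538
theorem F212025 : act 8 n47383 = n47383 := d7_2 F178504 D47383 (iv D47383)
def n47384 : Q := act 4 n42727
theorem D47384 : act 4 n42727 = n47384 := rfl
theorem F212026 : act 1 n47384 = n42728 := d11_1 D47384 (iv D42728) D42727
theorem F212027 : act 3 n47384 = n45610 := d24_1 D47384 (iv D45610) (iv D31260) (iv F131396) (iv F205870)
theorem F212028 : act 5 n47384 = n47384 := d30_2 (iv F178502) D47384 (iv D47384) F178502 F124432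
theorem F212029 : act 6 n47384 = n45455 := d31_2 (iv F178503) D47384 (iv D45455)
theorem F212030 : act 7 n47384 = n45261 := d32_2 (iv F205871) D47384 (iv D45261)
theorem F212031 : act 8 n47384 = n47384 := d33_2 F178504 D47384 (iv D47384)
def n47385 : Q := act 9 n42727
theorem D47385 : act 9 n42727 = n47385 := rfl
theorem F212032 : act 1 n47385 = n42729 := d16_1 D47385 (iv D42729) D42727
theorem F212033 : act 3 n47385 = n45259 := d29_1 D47385 (iv D45259) (iv F205870)
theorem F212034 : act 5 n47385 = n42736 := d38_1 D47385 (iv D42736) (iv F178502)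
theorem F212035 : act 6 n47385 = n45456 := d41_1 D47385 (iv D45456) (iv F178503)
theorem F212036 : act 7 n47385 = n45262 := d43_1 D47385 (iv D45262) (iv F205871)
def n47386 : Q := act 9 n42728
theorem D47386 : act 9 n42728 = n47386 := rfl
theorem F212037 : act 0 n47386 = n47386 := d8_1 D47386 (iv D47386) F178505
theorem F212038 : act 2 n47386 = n42730 := d23_1 D47386 (iv D42730) (iv F178506)
theorem F212039 : act 3 n47386 = n45632 := d29_1 D47386 (iv D45632) (iv F205872)
theorem F212040 : act 4 n47386 = n42729 := d34_1 D47386 (iv D42729) D42728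
theorem F212041 : act 5 n47386 = n47386 := d38_1 D47386 (iv D47386) F178507
theorem F212042 : act 6 n47386 = n45458 := d41_1 D47386 (iv D45458) (iv F178508)
theorem F212043 : act 7 n47386 = n45279 := d43_1 D47386 (iv D45279) (iv F205873)
def n47387 : Q := act 8 n42729
theorem D47387 : act 8 n42729 = n47387 := rfl
theorem F212044 : act 0 n47387 = n47387 := d7_1 D47387 (iv D47387) F178510
theorem F212045 : act 2 n47387 = n42731 := d22_1 D47387 (iv D42731) (iv F178511)
theorem F212046 : act 3 n47387 = n45453 := d28_1 D47387 (iv D45453) F131815 (iv F131441) (iv F205874)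
theorem F212047 : act 5 n47387 = n42737 := d37_1 D47387 (iv D42737) (iv F178512)
theorem F212048 : act 6 n47387 = n45459 := d40_1 D47387 (iv D45459) (iv F178513)
theorem F212049 : act 7 n47387 = n45280 := d42_1 D47387 (iv D45280) (iv F205875)
theorem F212050 : act 9 n47387 = n47387 := d44_2 D42729 D47387 (iv D47387) (iv D42729) F124414
def n47388 : Q := act 8 n42730
theorem D47388 : act 8 n42730 = n47388 := rfl
theorem F212051 : act 0 n47388 = n47388 := d7_1 D47388 (iv D47388) F178514
theorem F212052 : act 4 n47388 = n42731 := d33_1 D47388 (iv D42731) (iv F178516)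
theorem F212053 : act 5 n47388 = n47388 := d37_1 D47388 (iv D47388) F178517
theorem F212054 : act 6 n47388 = n45460 := d40_1 D47388 (iv D45460) (iv F178518)
theorem F212055 : act 9 n47388 = n47388 := d44_2 D42730 D47388 (iv D47388) (iv D42730) F124419
def n47389 : Q := act 9 n42735
theorem D47389 : act 9 n42735 = n47389 := rfl
theorem F212056 : act 0 n47389 = n42736 := d8_1 D47389 (iv D42736) D42735
theorem F212057 : act 1 n47389 = n47389 := d16_1 D47389 (iv D47389) F178534
theorem F212058 : act 3 n47389 = n45215 := d29_1 D47389 (iv D45215) (iv F205897)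
theorem F212059 : act 4 n47389 = n47389 := d34_1 D47389 (iv D47389) F178535
theorem F212060 : act 6 n47389 = n42738 := d41_1 D47389 (iv D42738) (iv F178536)
theorem F212061 : act 7 n47389 = n45217 := d43_1 D47389 (iv D45217) (iv F205898)
def n47390 : Q := act 8 n42736
theorem D47390 : act 8 n42736 = n47390 := rfl
theorem F212062 : act 1 n47390 = n42737 := d15_1 D47390 (iv D42737) (iv F178538)
theorem F212063 : act 3 n47390 = n45439 := d28_1 D47390 (iv D45439) F131776 (iv F131413) (iv F205900)
theorem F212064 : act 4 n47390 = n47390 := d33_1 D47390 (iv D47390) F178539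
theorem F212065 : act 6 n47390 = n42739 := d40_1 D47390 (iv D42739) (iv F178540)
theorem F212066 : act 7 n47390 = n45267 := d42_1 D47390 (iv D45267) (iv F205901)
theorem F212067 : act 9 n47390 = n47390 := d44_2 D42736 D47390 (iv D47390) (iv D42736) F124434
def n47391 : Q := act 8 n42738
theorem D47391 : act 8 n42738 = n47391 := rfl
theorem F212068 : act 0 n47391 = n42739 := d7_1 D47391 (iv D42739) (iv F178546)
theorem F212069 : act 1 n47391 = n47391 := d15_1 D47391 (iv D47391) F178547
theorem F212070 : act 4 n47391 = n47391 := d33_1 D47391 (iv D47391) F178548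
theorem F212071 : act 5 n47391 = n45467 := d37_1 D47391 (iv D45467) (iv F178549)
theorem F212072 : act 9 n47391 = n47391 := d44_2 D42738 D47391 (iv D47391) (iv D42738) F124446
def n47392 : Q := act 3 n42739
theorem D47392 : act 3 n42739 = n47392 := rfl
theorem F212073 : act 1 n47392 = n42740 := d10_1 D47392 (iv D42740) (iv F178550)
theorem F212074 : act 5 n47392 = n45468 := d25_2 (iv F178552) D47392 (iv D45468)
theorem F212075 : act 6 n47392 = n45439 := d26_2 F212065 D47392 (iv F212063)
theorem F212076 : act 7 n47392 = n45145 := d27_2 F210878 D47392 (iv F210874)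
theorem F212077 : act 8 n47392 = n45142 := d28_2 D42739 D47392 F188273 (iv F205915) F175960
theorem F212078 : act 9 n47392 = n47392 := d29_2 F178553 D47392 (iv D47392)
theorem F212079 : act 4 n46352 = n47392 := d33_3 F212077 F188274 D46352
def n47393 : Q := act 9 n42746
theorem D47393 : act 9 n42746 = n47393 := rfl
theorem F212080 : act 0 n47393 = n47393 := d8_1 D47393 (iv D47393) F178584
theorem F212081 : act 1 n47393 = n42762 := d16_1 D47393 (iv D42762) (iv F178585)
theorem F212082 : act 2 n47393 = n43123 := d23_1 D47393 F180077 (iv F204282)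
theorem F212083 : act 3 n47393 = n42747 := d29_1 D47393 (iv D42747) D42746
theorem F212084 : act 4 n47393 = n42943 := d34_1 D47393 F179389 (iv F204283)
theorem F212085 : act 5 n47393 = n42750 := d38_1 D47393 (iv D42750) (iv F178586)
theorem F212086 : act 7 n47393 = n47393 := d43_1 D47393 (iv D47393) F178587
def n47394 : Q := act 8 n42750
theorem D47394 : act 8 n42750 = n47394 := rfl
theorem F212087 : act 0 n47394 = n47394 := d7_1 D47394 (iv D47394) F178605
theorem F212088 : act 1 n47394 = n42765 := d15_1 D47394 (iv D42765) (iv F178606)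
theorem F212089 : act 3 n47394 = n47394 := d28_1 D47394 (iv D47394) F178607 F124480 (iv F178607)
theorem F212090 : act 7 n47394 = n47394 := d42_1 D47394 (iv D47394) F178608
theorem F212091 : act 9 n47394 = n47394 := d44_2 D42750 D47394 (iv D47394) (iv D42750) F124474
def n47395 : Q := act 4 n42759
theorem D47395 : act 4 n42759 = n47395 := rfl
theorem F212092 : act 0 n47395 = n42789 := d3_1 D47395 (iv D42789) (iv F178645)
theorem F212093 : act 1 n47395 = n43500 := d11_1 D47395 (iv F211022) F211021
theorem F212094 : act 2 n47395 = n42856 := d18_1 D47395 (iv D42856) (iv F178646)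
theorem F212095 : act 3 n47395 = n43499 := d24_1 D47395 (iv F203202) F145212 (iv F204055) D42759
theorem F212096 : act 6 n47395 = n42761 := d31_2 (iv F178647) D47395 (iv D42761)
theorem F212097 : act 7 n47395 = n46554 := d32_2 F210987 D47395 (iv F210984)
theorem F212098 : act 8 n47395 = n47395 := d33_2 F178648 D47395 (iv D47395)
def n47396 : Q := act 9 n42759
theorem D47396 : act 9 n42759 = n47396 := rfl
theorem F212099 : act 0 n47396 = n42790 := d8_1 D47396 (iv D42790) (iv F178645)
theorem F212100 : act 2 n47396 = n42857 := d23_1 D47396 (iv D42857) (iv F178646)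
theorem F212101 : act 3 n47396 = n42760 := d29_1 D47396 (iv D42760) D42759
theorem F212102 : act 6 n47396 = n42762 := d41_1 D47396 (iv D42762) (iv F178647)
def n47397 : Q := act 9 n42761
theorem D47397 : act 9 n42761 = n47397 := rfl
theorem F212103 : act 0 n47397 = n42792 := d8_1 D47397 (iv D42792) (iv F178653)
theorem F212104 : act 1 n47397 = n42943 := d16_1 D47397 F179389 (iv F206388)
theorem F212105 : act 2 n47397 = n42859 := d23_1 D47397 (iv D42859) (iv F178654)
theorem F212106 : act 3 n47397 = n42942 := d29_1 D47397 F179384 (iv F206389)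
theorem F212107 : act 4 n47397 = n42762 := d34_1 D47397 (iv D42762) D42761
theorem F212108 : act 5 n47397 = n45648 := d38_1 D47397 F189998 (iv F206390)
theorem F212109 : act 7 n47397 = n47397 := d43_1 D47397 (iv D47397) F178655
def n47398 : Q := act 8 n42762
theorem D47398 : act 8 n42762 = n47398 := rfl
theorem F212110 : act 0 n47398 = n42793 := d7_1 D47398 (iv D42793) (iv F178657)
theorem F212111 : act 2 n47398 = n42860 := d22_1 D47398 (iv D42860) (iv F178658)
theorem F212112 : act 3 n47398 = n47398 := d28_1 D47398 (iv D47398) F178659 F124513 (iv F178659)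
theorem F212113 : act 5 n47398 = n42765 := d37_1 D47398 (iv D42765) (iv F178660)
theorem F212114 : act 7 n47398 = n47398 := d42_1 D47398 (iv D47398) F178661
theorem F212115 : act 9 n47398 = n47398 := d44_2 D42762 D47398 (iv D47398) (iv D42762) F124508
def n47399 : Q := act 9 n42785
theorem D47399 : act 9 n42785 = n47399 := rfl
theorem F212116 : act 0 n47399 = n42942 := d8_1 D47399 F179384 (iv F203745)
theorem F212117 : act 1 n47399 = n47399 := d16_1 D47399 (iv D47399) F178766
theorem F212118 : act 2 n47399 = n44791 := d23_1 D47399 (iv D44791) (iv F203472)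
theorem F212119 : act 3 n47399 = n42792 := d29_1 D47399 (iv D42792) (iv F178767)
theorem F212120 : act 4 n47399 = n42786 := d34_1 D47399 (iv D42786) D42785
theorem F212121 : act 5 n47399 = n45647 := d38_1 D47399 F189995 (iv F203746)
theorem F212122 : act 6 n47399 = n46556 := d41_1 D47399 (iv D46556) (iv F206718)
theorem F212123 : act 7 n47399 = n47399 := d43_1 D47399 (iv D47399) F178768
theorem F212124 : act 8 n47399 = n42941 := d44_1 D47399 (iv D42941) F125013 D29844 (iv F203747)
def n47400 : Q := act 9 n42787
theorem D47400 : act 9 n42787 = n47400 := rfl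
theorem F212125 : act 1 n47400 = n47400 := d16_1 D47400 (iv D47400) F178773
theorem F212126 : act 2 n47400 = n42900 := d23_1 D47400 (iv D42900) (iv F178774)
theorem F212127 : act 3 n47400 = n42788 := d29_1 D47400 (iv D42788) D42787
theorem F212128 : act 4 n47400 = n46557 := d34_1 D47400 (iv D46557) F206722
theorem F212129 : act 6 n47400 = n47400 := d41_1 D47400 (iv D47400) F178775
theorem F212130 : act 7 n47400 = n42790 := d43_1 D47400 (iv D42790) (iv F178776)
def n47401 : Q := act 5 n42789
theorem D47401 : act 5 n42789 = n47401 := rfl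
theorem F212131 : act 1 n47401 = n47401 := d12_1 D47401 (iv D47401) F178783
theorem F212132 : act 2 n47401 = n42901 := d19_1 D47401 (iv D42901) (iv F178784)
theorem F212133 : act 3 n47401 = n46035 := d25_1 D47401 F191413 F206719
theorem F212134 : act 7 n47401 = n46036 := d36_2 (iv F206720) D47401 F191416
theorem F212135 : act 8 n47401 = n47401 := d37_2 F178786 D47401 (iv D47401)
def n47402 : Q := act 9 n42789
theorem D47402 : act 9 n42789 = n47402 := rfl
theorem F212136 : act 1 n47402 = n47402 := d16_1 D47402 (iv D47402) F178783
theorem F212137 : act 2 n47402 = n42902 := d23_1 D47402 (iv D42902) (iv F178784)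
theorem F212138 : act 3 n47402 = n46556 := d29_1 D47402 (iv D46556) F206719
theorem F212139 : act 4 n47402 = n42790 := d34_1 D47402 (iv D42790) D42789
theorem F212140 : act 6 n47402 = n42792 := d41_1 D47402 (iv D42792) (iv F178785)
theorem F212141 : act 7 n47402 = n46557 := d43_1 D47402 (iv D46557) (iv F206720)
def n47403 : Q := act 8 n42790
theorem D47403 : act 8 n42790 = n47403 := rfl
theorem F212142 : act 1 n47403 = n47403 := d15_1 D47403 (iv D47403) F178787
theorem F212143 : act 2 n47403 = n42903 := d22_1 D47403 (iv D42903) (iv F178788)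
theorem F212144 : act 3 n47403 = n47403 := d28_1 D47403 (iv D47403) F178789 F124603 (iv F178789)
theorem F212145 : act 6 n47403 = n42793 := d40_1 D47403 (iv D42793) (iv F178790)
theorem F212146 : act 9 n47403 = n47403 := d44_2 D42790 D47403 (iv D47403) (iv D42790) F124599
def n47404 : Q := act 6 n42791
theorem D47404 : act 6 n42791 = n47404 := rfl
theorem F212147 : act 0 n47404 = n46157 := d5_1 D47404 F191848 (iv F206386)
theorem F212148 : act 1 n47404 = n47404 := d13_1 D47404 (iv D47404) F178791
theorem F212149 : act 2 n47404 = n42904 := d20_1 D47404 (iv D42904) (iv F178792)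
theorem F212150 : act 3 n47404 = n46156 := d26_1 D47404 F191846 (iv F206387)
theorem F212151 : act 4 n47404 = n42794 := d31_1 D47404 (iv D42794) (iv F178793)
theorem F212152 : act 8 n47404 = n47404 := d40_2 F178795 D47404 (iv D47404)
theorem F212153 : act 7 n46426 = n47404 := d32_0 F212151 F206350 D46426
def n47405 : Q := act 9 n42791
theorem D47405 : act 9 n42791 = n47405 := rfl
theorem F212154 : act 0 n47405 = n45648 := d8_1 D47405 F189998 (iv F206386)
theorem F212155 : act 1 n47405 = n47405 := d16_1 D47405 (iv D47405) F178791
theorem F212156 : act 2 n47405 = n42905 := d23_1 D47405 (iv D42905) (iv F178792)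
theorem F212157 : act 3 n47405 = n45647 := d29_1 D47405 F189995 (iv F206387)
theorem F212158 : act 4 n47405 = n42795 := d34_1 D47405 (iv D42795) (iv F178793)
theorem F212159 : act 5 n47405 = n42792 := d38_1 D47405 (iv D42792) D42791
theorem F212160 : act 7 n47405 = n47405 := d43_1 D47405 (iv D47405) F178794
def n47406 : Q := act 8 n42792
theorem D47406 : act 8 n42792 = n47406 := rfl
theorem F212161 : act 1 n47406 = n47406 := d15_1 D47406 (iv D47406) F178796
theorem F212162 : act 2 n47406 = n42906 := d22_1 D47406 (iv D42906) (iv F178797)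
theorem F212163 : act 4 n47406 = n42793 := d33_1 D47406 (iv D42793) (iv F178798)
theorem F212164 : act 7 n47406 = n47406 := d42_1 D47406 (iv D47406) F178799
theorem F212165 : act 9 n47406 = n47406 := d44_2 D42792 D47406 (iv D47406) (iv D42792) F124607
def n47407 : Q := act 9 n42794
theorem D47407 : act 9 n42794 = n47407 := rfl
theorem F212166 : act 0 n47407 = n46424 := d8_1 D47407 (iv D46424) (iv F206349)
theorem F212167 : act 1 n47407 = n47407 := d16_1 D47407 (iv D47407) F178806
theorem F212168 : act 2 n47407 = n42908 := d23_1 D47407 (iv D42908) (iv F178807)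
theorem F212169 : act 3 n47407 = n47407 := d29_1 D47407 (iv D47407) F178808
theorem F212170 : act 5 n47407 = n46432 := d38_1 D47407 (iv D46432) F206348
theorem F212171 : act 6 n47407 = n42795 := d41_1 D47407 (iv D42795) D42794
theorem F212172 : act 7 n47407 = n46427 := d43_1 D47407 (iv D46427) (iv F206350)
def n47408 : Q := act 8 n42795
theorem D47408 : act 8 n42795 = n47408 := rfl
theorem F212173 : act 1 n47408 = n47408 := d15_1 D47408 (iv D47408) F178810
theorem F212174 : act 2 n47408 = n42909 := d22_1 D47408 (iv D42909) (iv F178811)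
theorem F212175 : act 5 n47408 = n42796 := d37_1 D47408 (iv D42796) (iv F178813)
theorem F212176 : act 7 n47408 = n47408 := d42_1 D47408 (iv D47408) F178814
theorem F212177 : act 9 n47408 = n47408 := d44_2 D42795 D47408 (iv D47408) (iv D42795) F124617
def n47409 : Q := act 3 n42796
theorem D47409 : act 3 n42796 = n47409 := rfl
theorem F212178 : act 1 n47409 = n47409 := d10_1 D47409 (iv D47409) F178815
theorem F212179 : act 4 n47409 = n47409 := d24_2 (iv F178817) D47409 (iv D47409) F178817 F124625
theorem F212180 : act 7 n47409 = n47409 := d27_2 F178818 D47409 (iv D47409)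
theorem F212181 : act 8 n47409 = n47409 := d28_2 D42796 D47409 (iv D47409) (iv D42796) F124620
theorem F212182 : act 9 n47409 = n47409 := d29_2 F178819 D47409 (iv D47409)
def n47410 : Q := act 9 n42812
theorem D47410 : act 9 n42812 = n47410 := rfl
theorem F212183 : act 0 n47410 = n47410 := d8_1 D47410 (iv D47410) F178887
theorem F212184 : act 1 n47410 = n46555 := d16_1 D47410 (iv D46555) F206713
theorem F212185 : act 2 n47410 = n42937 := d23_1 D47410 F179367 (iv F204137)
theorem F212186 : act 4 n47410 = n42813 := d34_1 D47410 (iv D42813) D42812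
theorem F212187 : act 5 n47410 = n42933 := d38_1 D47410 (iv D42933) (iv F178888)
theorem F212188 : act 6 n47410 = n47410 := d41_1 D47410 (iv D47410) F178889
theorem F212189 : act 7 n47410 = n42940 := d43_1 D47410 F179376 (iv F204138)
theorem F212190 : act 8 n47410 = n42936 := d44_1 D47410 (iv D42936) F124996 (iv F203923) (iv F178890)
def n47411 : Q := act 7 n42825
theorem D47411 : act 7 n42825 = n47411 := rfl
theorem F212191 : act 0 n47411 = n46535 := d6_1 D47411 (iv D46535) (iv F206421)
theorem F212192 : act 1 n47411 = n42846 := d14_1 D47411 (iv D42846) (iv F178951)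
theorem F212193 : act 2 n47411 = n47411 := d21_1 D47411 (iv D47411) F178952
theorem F212194 : act 3 n47411 = n46109 := d27_1 D47411 F191674 (iv F203075)
theorem F212195 : act 5 n47411 = n42826 := d36_1 D47411 (iv D42826) D42825
theorem F212196 : act 9 n47411 = n42951 := d43_2 (iv F178954) D47411 (iv D42951)
def n47412 : Q := act 8 n42825
theorem D47412 : act 8 n42825 = n47412 := rfl
theorem F212197 : act 0 n47412 = n44911 := d7_1 D47412 F187374 (iv F206421)
theorem F212198 : act 1 n47412 = n42847 := d15_1 D47412 (iv D42847) (iv F178951)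
theorem F212199 : act 2 n47412 = n47412 := d22_1 D47412 (iv D47412) F178952
theorem F212200 : act 5 n47412 = n42827 := d37_1 D47412 (iv D42827) D42825
theorem F212201 : act 6 n47412 = n44843 := d40_1 D47412 F203014 (iv F178953)
def n47413 : Q := act 8 n42826
theorem D47413 : act 8 n42826 = n47413 := rfl
theorem F212202 : act 0 n47413 = n44914 := d7_1 D47413 F187387 (iv F206803)
theorem F212203 : act 1 n47413 = n42848 := d15_1 D47413 (iv D42848) (iv F178955)
theorem F212204 : act 2 n47413 = n47413 := d22_1 D47413 (iv D47413) F178956
theorem F212205 : act 4 n47413 = n42830 := d33_1 D47413 (iv D42830) (iv F178957)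
theorem F212206 : act 6 n47413 = n47413 := d40_1 D47413 (iv D47413) F178958
theorem F212207 : act 7 n47413 = n42827 := d42_1 D47413 (iv D42827) D42826
def n47414 : Q := act 3 n42827
theorem D47414 : act 3 n42827 = n47414 := rfl
theorem F212208 : act 0 n47414 = n44905 := d2_1 D47414 F187349 (iv F203066)
theorem F212209 : act 1 n47414 = n42849 := d10_1 D47414 (iv D42849) (iv F178960)
theorem F212210 : act 6 n47414 = n42828 := d26_2 (iv F178963) D47414 (iv D42828)
theorem F212211 : act 8 n47414 = n45578 := d28_2 D42827 D47414 F189751 F132220 F203074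
def n47415 : Q := act 9 n42827
theorem D47415 : act 9 n42827 = n47415 := rfl
theorem F212212 : act 0 n47415 = n44915 := d8_1 D47415 (iv D44915) (iv F203066)
theorem F212213 : act 1 n47415 = n42850 := d16_1 D47415 (iv D42850) (iv F178960)
theorem F212214 : act 2 n47415 = n47415 := d23_1 D47415 (iv D47415) F178961
theorem F212215 : act 4 n47415 = n42832 := d34_1 D47415 (iv D42832) (iv F178962)
theorem F212216 : act 6 n47415 = n42829 := d41_1 D47415 (iv D42829) (iv F178963)
theorem F212217 : act 8 n47415 = n42955 := d44_1 D47415 (iv D42955) (iv D29473) (iv F124725) D42827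
def n47416 : Q := act 2 n42828
theorem D47416 : act 2 n42828 = n47416 := rfl
theorem F212218 : act 0 n47416 = n44902 := d1_1 D47416 F187339 (iv F203060)
theorem F212219 : act 1 n47416 = n43694 := d9_1 D47416 F204016 F130014 (iv F203368) (iv F178964)
theorem F212220 : act 3 n47416 = n47416 := d17_2 D42828 D47416 (iv D47416) (iv D42828) F124727
theorem F212221 : act 4 n47416 = n43693 := d18_2 F209597 D47416 (iv F209595)
theorem F212222 : act 5 n47416 = n44836 := d19_2 (iv F203061) D47416 F187093
theorem F212223 : act 7 n47416 = n47416 := d21_2 F178966 D47416 (iv D47416)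
theorem F212224 : act 8 n47416 = n44734 := d22_2 (iv F203063) D47416 F186710
def n47417 : Q := act 9 n42828
theorem D47417 : act 9 n42828 = n47417 := rfl
theorem F212225 : act 0 n47417 = n44906 := d8_1 D47417 (iv D44906) (iv F203060)
theorem F212226 : act 1 n47417 = n42853 := d16_1 D47417 (iv D42853) (iv F178964)
theorem F212227 : act 3 n47417 = n42829 := d29_1 D47417 (iv D42829) D42828
theorem F212228 : act 5 n47417 = n44839 := d38_1 D47417 (iv D44839) (iv F203061)
theorem F212229 : act 7 n47417 = n47417 := d43_1 D47417 (iv D47417) F178966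
def n47418 : Q := act 9 n42830
theorem D47418 : act 9 n42830 = n47418 := rfl
theorem F212230 : act 0 n47418 = n44918 := d8_1 D47418 (iv D44918) (iv F203068)
theorem F212231 : act 1 n47418 = n42855 := d16_1 D47418 (iv D42855) (iv F178973)
theorem F212232 : act 2 n47418 = n47418 := d23_1 D47418 (iv D47418) F178974
theorem F212233 : act 6 n47418 = n47418 := d41_1 D47418 (iv D47418) F178975
theorem F212234 : act 7 n47418 = n42832 := d43_1 D47418 (iv D42832) (iv F178976)
theorem F212235 : act 8 n47418 = n42960 := d44_1 D47418 (iv D42960) (iv D29476) (iv F124735) D42830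
def n47419 : Q := act 6 n42846
theorem D47419 : act 6 n42846 = n47419 := rfl
theorem F212236 : act 0 n47419 = n42884 := d5_1 D47419 (iv D42884) (iv F179038)
theorem F212237 : act 2 n47419 = n42864 := d20_1 D47419 (iv D42864) (iv F179039)
theorem F212238 : act 3 n47419 = n46106 := d26_1 D47419 F191664 (iv F203611)
theorem F212239 : act 5 n47419 = n47419 := d35_1 D47419 (iv D47419) F179040 F124775 (iv F179040)
theorem F212240 : act 7 n47419 = n45511 := d39_2 D42846 D47419 (iv D45511) (iv D31194) (iv F124770)
theorem F212241 : act 9 n47419 = n42985 := d41_2 (iv F179041) D47419 (iv D42985)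
def n47420 : Q := act 8 n42846
theorem D47420 : act 8 n42846 = n47420 := rfl
theorem F212242 : act 0 n47420 = n42885 := d7_1 D47420 (iv D42885) (iv F179038)
theorem F212243 : act 2 n47420 = n42865 := d22_1 D47420 (iv D42865) (iv F179039)
theorem F212244 : act 5 n47420 = n42848 := d37_1 D47420 (iv D42848) (iv F179040)
theorem F212245 : act 7 n47420 = n42847 := d42_1 D47420 (iv D42847) D42846
def n47421 : Q := act 3 n42847
theorem D47421 : act 3 n42847 = n47421 := rfl
theorem F212246 : act 0 n47421 = n42886 := d2_1 D47421 (iv D42886) (iv F179042)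
theorem F212247 : act 2 n47421 = n45556 := d17_1 D47421 (iv D45556) F132091 (iv F203944) (iv F179043)
theorem F212248 : act 5 n47421 = n42849 := d25_2 (iv F179044) D47421 (iv D42849)
theorem F212249 : act 6 n47421 = n45513 := d26_2 (iv F179045) D47421 (iv D45513)
theorem F212250 : act 8 n47421 = n45572 := d28_2 D42847 D47421 F189738 F132201 F203597
def n47422 : Q := act 9 n42847
theorem D47422 : act 9 n42847 = n47422 := rfl
theorem F212251 : act 0 n47422 = n42887 := d8_1 D47422 (iv D42887) (iv F179042)
theorem F212252 : act 2 n47422 = n42867 := d23_1 D47422 (iv D42867) (iv F179043)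
theorem F212253 : act 5 n47422 = n42850 := d38_1 D47422 (iv D42850) (iv F179044)
theorem F212254 : act 6 n47422 = n45514 := d41_1 D47422 (iv D45514) (iv F179045)
theorem F212255 : act 8 n47422 = n42988 := d44_1 D47422 (iv D42988) (iv D29493) (iv F124771) D42847
def n47423 : Q := act 3 n42848
theorem D47423 : act 3 n42848 = n47423 := rfl
theorem F212256 : act 0 n47423 = n42888 := d2_1 D47423 (iv D42888) (iv F179046)
theorem F212257 : act 2 n47423 = n45558 := d17_1 D47423 (iv D45558) F132093 (iv F204046) (iv F179047)
theorem F212258 : act 6 n47423 = n47423 := d26_2 F179049 D47423 (iv D47423)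
theorem F212259 : act 7 n47423 = n42849 := d27_2 (iv F179050) D47423 (iv D42849)
theorem F212260 : act 8 n47423 = n45575 := d28_2 D42848 D47423 F189742 F132211 F203808
def n47424 : Q := act 9 n42848
theorem D47424 : act 9 n42848 = n47424 := rfl
theorem F212261 : act 0 n47424 = n42889 := d8_1 D47424 (iv D42889) (iv F179046)
theorem F212262 : act 2 n47424 = n42869 := d23_1 D47424 (iv D42869) (iv F179047)
theorem F212263 : act 4 n47424 = n42855 := d34_1 D47424 (iv D42855) (iv F179048)
theorem F212264 : act 6 n47424 = n47424 := d41_1 D47424 (iv D47424) F179049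
theorem F212265 : act 7 n47424 = n42850 := d43_1 D47424 (iv D42850) (iv F179050)
theorem F212266 : act 8 n47424 = n42990 := d44_1 D47424 (iv D42990) (iv D29494) (iv F124776) D42848
def n47425 : Q := act 4 n42849
theorem D47425 : act 4 n42849 = n47425 := rfl
theorem F212267 : act 0 n47425 = n42891 := d3_1 D47425 (iv D42891) (iv F179051)
theorem F212268 : act 2 n47425 = n45561 := d18_1 D47425 (iv D45561) (iv F203812)
theorem F212269 : act 3 n47425 = n42856 := d24_1 D47425 (iv D42856) (iv D29405) (iv F124779) D42849
theorem F212270 : act 6 n47425 = n42852 := d31_2 (iv F179052) D47425 (iv D42852)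
theorem F212271 : act 8 n47425 = n45579 := d33_2 (iv F203813) D47425 (iv D45579)
def n47426 : Q := act 9 n42849
theorem D47426 : act 9 n42849 = n47426 := rfl
theorem F212272 : act 0 n47426 = n42892 := d8_1 D47426 (iv D42892) (iv F179051)
theorem F212273 : act 2 n47426 = n45562 := d23_1 D47426 (iv D45562) (iv F203812)
theorem F212274 : act 3 n47426 = n42850 := d29_1 D47426 (iv D42850) D42849
theorem F212275 : act 6 n47426 = n42853 := d41_1 D47426 (iv D42853) (iv F179052)
def n47427 : Q := act 9 n42852
theorem D47427 : act 9 n42852 = n47427 := rfl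
theorem F212276 : act 0 n47427 = n42897 := d8_1 D47427 (iv D42897) (iv F179062)
theorem F212277 : act 2 n47427 = n45567 := d23_1 D47427 (iv D45567) (iv F203814)
theorem F212278 : act 3 n47427 = n42859 := d29_1 D47427 (iv D42859) (iv F179063)
theorem F212279 : act 4 n47427 = n42853 := d34_1 D47427 (iv D42853) D42852
theorem F212280 : act 7 n47427 = n47427 := d43_1 D47427 (iv D47427) F179064
def n47428 : Q := act 8 n42853
theorem D47428 : act 8 n42853 = n47428 := rfl
theorem F212281 : act 0 n47428 = n42898 := d7_1 D47428 (iv D42898) (iv F179065)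
theorem F212282 : act 2 n47428 = n45568 := d22_1 D47428 (iv D45568) (iv F203816)
theorem F212283 : act 3 n47428 = n42999 := d28_1 D47428 (iv D42999) F125142 (iv F124789) (iv F179066)
theorem F212284 : act 5 n47428 = n45525 := d37_1 D47428 (iv D45525) (iv F179067)
theorem F212285 : act 7 n47428 = n47428 := d42_1 D47428 (iv D47428) F179068
theorem F212286 : act 9 n47428 = n45589 := d44_2 D42853 D47428 (iv D45589) (iv D31243) F203810
def n47429 : Q := act 4 n42854
theorem D47429 : act 4 n42854 = n47429 := rfl
theorem F212287 : act 0 n47429 = n42899 := d3_1 D47429 (iv D42899) (iv F179069)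
theorem F212288 : act 2 n47429 = n46554 := d18_1 D47429 (iv F210984) F210983
theorem F212289 : act 6 n47429 = n47429 := d31_2 F179070 D47429 (iv D47429)
theorem F212290 : act 7 n47429 = n42856 := d32_2 (iv F179071) D47429 (iv D42856)
theorem F212291 : act 8 n47429 = n47429 := d33_2 F179072 D47429 (iv D47429)
def n47430 : Q := act 9 n42854
theorem D47430 : act 9 n42854 = n47430 := rfl
theorem F212292 : act 0 n47430 = n42900 := d8_1 D47430 (iv D42900) (iv F179069)
theorem F212293 : act 3 n47430 = n42855 := d29_1 D47430 (iv D42855) D42854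
theorem F212294 : act 6 n47430 = n47430 := d41_1 D47430 (iv D47430) F179070
theorem F212295 : act 7 n47430 = n42857 := d43_1 D47430 (iv D42857) (iv F179071)
def n47431 : Q := act 5 n42856
theorem D47431 : act 5 n42856 = n47431 := rfl
theorem F212296 : act 0 n47431 = n42901 := d4_1 D47431 (iv D42901) (iv F179078)
theorem F212297 : act 8 n47431 = n47431 := d37_2 F179080 D47431 (iv D47431)
def n47432 : Q := act 9 n42856
theorem D47432 : act 9 n42856 = n47432 := rfl
theorem F212298 : act 0 n47432 = n42902 := d8_1 D47432 (iv D42902) (iv F179078)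
theorem F212299 : act 4 n47432 = n42857 := d34_1 D47432 (iv D42857) D42856
theorem F212300 : act 6 n47432 = n42859 := d41_1 D47432 (iv D42859) (iv F179079)
def n47433 : Q := act 8 n42857
theorem D47433 : act 8 n42857 = n47433 := rfl
theorem F212301 : act 0 n47433 = n42903 := d7_1 D47433 (iv D42903) (iv F179081)
theorem F212302 : act 3 n47433 = n43004 := d28_1 D47433 (iv D43004) F125160 (iv F124800) (iv F179082)
theorem F212303 : act 6 n47433 = n42860 := d40_1 D47433 (iv D42860) (iv F179083)
theorem F212304 : act 9 n47433 = n47433 := d44_2 D42857 D47433 (iv D47433) (iv D42857) F124796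
def n47434 : Q := act 8 n42859
theorem D47434 : act 8 n42859 = n47434 := rfl
theorem F212305 : act 0 n47434 = n42906 := d7_1 D47434 (iv D42906) (iv F179088)
theorem F212306 : act 4 n47434 = n42860 := d33_1 D47434 (iv D42860) (iv F179089)
theorem F212307 : act 7 n47434 = n47434 := d42_1 D47434 (iv D47434) F179090
theorem F212308 : act 9 n47434 = n47434 := d44_2 D42859 D47434 (iv D47434) (iv D42859) F124803
def n47435 : Q := act 8 n42864
theorem D47435 : act 8 n42864 = n47435 := rfl
theorem F212309 : act 0 n47435 = n42911 := d7_1 D47435 (iv D42911) (iv F179107)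
theorem F212310 : act 1 n47435 = n47435 := d15_1 D47435 (iv D47435) F179108
theorem F212311 : act 3 n47435 = n46038 := d28_1 D47435 (iv D46038) F133272 (iv F204341) (iv F179109)
theorem F212312 : act 5 n47435 = n47435 := d37_1 D47435 (iv D47435) F179110
theorem F212313 : act 6 n47435 = n42865 := d40_1 D47435 (iv D42865) D42864
theorem F212314 : act 7 n47435 = n45538 := d42_1 D47435 (iv D45538) (iv F179111)
def n47436 : Q := act 9 n42865
theorem D47436 : act 9 n42865 = n47436 := rfl
theorem F212315 : act 0 n47436 = n42913 := d8_1 D47436 (iv D42913) (iv F179113)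
theorem F212316 : act 1 n47436 = n47436 := d16_1 D47436 (iv D47436) F179114
theorem F212317 : act 3 n47436 = n46040 := d29_1 D47436 (iv D46040) (iv F204155)
theorem F212318 : act 5 n47436 = n42869 := d38_1 D47436 (iv D42869) (iv F179115)
theorem F212319 : act 7 n47436 = n42867 := d43_1 D47436 (iv D42867) (iv F179116)
theorem F212320 : act 8 n47436 = n43014 := d44_1 D47436 (iv D43014) (iv D29511) (iv F124824) D42865
def n47437 : Q := act 7 n42875
theorem D47437 : act 7 n42875 = n47437 := rfl
theorem F212321 : act 0 n47437 = n46110 := d6_1 D47437 F191677 (iv F203829)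
theorem F212322 : act 2 n47437 = n43408 := d21_1 D47437 (iv D43408) (iv F179159)
theorem F212323 : act 4 n47437 = n42876 := d32_1 D47437 (iv D42876) D42875
theorem F212324 : act 5 n47437 = n47437 := d36_1 D47437 (iv D47437) F179160
theorem F212325 : act 9 n47437 = n43026 := d43_2 (iv F179162) D47437 (iv D43026)
def n47438 : Q := act 8 n42875
theorem D47438 : act 8 n42875 = n47438 := rfl
theorem F212326 : act 0 n47438 = n45613 := d7_1 D47438 F189861 (iv F203829)
theorem F212327 : act 2 n47438 = n43409 := d22_1 D47438 (iv D43409) (iv F179159)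
theorem F212328 : act 4 n47438 = n42877 := d33_1 D47438 (iv D42877) D42875
theorem F212329 : act 5 n47438 = n47438 := d37_1 D47438 (iv D47438) F179160
theorem F212330 : act 6 n47438 = n45553 := d40_1 D47438 (iv D45553) (iv F179161)
def n47439 : Q := act 6 n42876
theorem D47439 : act 6 n42876 = n47439 := rfl
theorem F212331 : act 0 n47439 = n46106 := d5_1 D47439 F191664 (iv F203830)
theorem F212332 : act 2 n47439 = n43410 := d20_1 D47439 (iv D43410) (iv F179163)
theorem F212333 : act 3 n47439 = n42884 := d26_1 D47439 (iv D42884) (iv F179164)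
theorem F212334 : act 5 n47439 = n47439 := d35_1 D47439 (iv D47439) F179165 F124864 (iv F179165)
theorem F212335 : act 7 n47439 = n45554 := d39_2 D42876 D47439 (iv D45554) (iv D31224) (iv F124859)
theorem F212336 : act 9 n47439 = n43028 := d41_2 (iv F179166) D47439 (iv D43028)
def n47440 : Q := act 8 n42876
theorem D47440 : act 8 n42876 = n47440 := rfl
theorem F212337 : act 0 n47440 = n45609 := d7_1 D47440 F189847 (iv F203830)
theorem F212338 : act 2 n47440 = n43411 := d22_1 D47440 (iv D43411) (iv F179163)
theorem F212339 : act 5 n47440 = n42878 := d37_1 D47440 (iv D42878) (iv F179165)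
theorem F212340 : act 7 n47440 = n42877 := d42_1 D47440 (iv D42877) D42876
def n47441 : Q := act 3 n42877
theorem D47441 : act 3 n42877 = n47441 := rfl
theorem F212341 : act 0 n47441 = n45572 := d2_1 D47441 F189738 (iv F203831)
theorem F212342 : act 2 n47441 = n45513 := d17_1 D47441 (iv D45513) F131964 (iv F203946) (iv F179167)
theorem F212343 : act 5 n47441 = n42879 := d25_2 (iv F179168) D47441 (iv D42879)
theorem F212344 : act 6 n47441 = n45556 := d26_2 (iv F179169) D47441 (iv D45556)
theorem F212345 : act 8 n47441 = n42886 := d28_2 D42877 D47441 (iv D42886) (iv D29426) (iv F124858)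
def n47442 : Q := act 9 n42877
theorem D47442 : act 9 n42877 = n47442 := rfl
theorem F212346 : act 0 n47442 = n45614 := d8_1 D47442 (iv D45614) (iv F203831)
theorem F212347 : act 2 n47442 = n43413 := d23_1 D47442 (iv D43413) (iv F179167)
theorem F212348 : act 5 n47442 = n42880 := d38_1 D47442 (iv D42880) (iv F179168)
theorem F212349 : act 6 n47442 = n45557 := d41_1 D47442 (iv D45557) (iv F179169)
theorem F212350 : act 8 n47442 = n43031 := d44_1 D47442 (iv D43031) (iv D29523) (iv F124860) D42877
def n47443 : Q := act 3 n42878
theorem D47443 : act 3 n42878 = n47443 := rfl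
theorem F212351 : act 0 n47443 = n45575 := d2_1 D47443 F189742 (iv F203832)
theorem F212352 : act 2 n47443 = n45515 := d17_1 D47443 (iv D45515) F131967 (iv F203920) (iv F179170)
theorem F212353 : act 6 n47443 = n47443 := d26_2 F179172 D47443 (iv D47443)
theorem F212354 : act 7 n47443 = n42879 := d27_2 (iv F179173) D47443 (iv D42879)
theorem F212355 : act 8 n47443 = n42888 := d28_2 D42878 D47443 (iv D42888) (iv D29427) (iv F124862)
def n47444 : Q := act 9 n42878
theorem D47444 : act 9 n42878 = n47444 := rfl
theorem F212356 : act 0 n47444 = n45618 := d8_1 D47444 (iv D45618) (iv F203832)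
theorem F212357 : act 2 n47444 = n43415 := d23_1 D47444 (iv D43415) (iv F179170)
theorem F212358 : act 4 n47444 = n47444 := d34_1 D47444 (iv D47444) F179171
theorem F212359 : act 6 n47444 = n47444 := d41_1 D47444 (iv D47444) F179172
theorem F212360 : act 7 n47444 = n42880 := d43_1 D47444 (iv D42880) (iv F179173)
theorem F212361 : act 8 n47444 = n43033 := d44_1 D47444 (iv D43033) (iv D29524) (iv F124865) D42878
def n47445 : Q := act 4 n42879
theorem D47445 : act 4 n42879 = n47445 := rfl
theorem F212362 : act 0 n47445 = n45579 := d3_1 D47445 (iv D45579) (iv F203820)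
theorem F212363 : act 2 n47445 = n44795 := d18_1 D47445 F203009 (iv F203821)
theorem F212364 : act 3 n47445 = n47445 := d24_1 D47445 (iv D47445) (iv D42879) F124867 D42879
theorem F212365 : act 6 n47445 = n42882 := d31_2 (iv F179174) D47445 (iv D42882)
theorem F212366 : act 8 n47445 = n42891 := d33_2 (iv F179175) D47445 (iv D42891)
def n47446 : Q := act 9 n42879
theorem D47446 : act 9 n42879 = n47446 := rfl
theorem F212367 : act 0 n47446 = n45580 := d8_1 D47446 (iv D45580) (iv F203820)
theorem F212368 : act 2 n47446 = n45519 := d23_1 D47446 (iv D45519) (iv F203821)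
theorem F212369 : act 3 n47446 = n42880 := d29_1 D47446 (iv D42880) D42879
theorem F212370 : act 6 n47446 = n42883 := d41_1 D47446 (iv D42883) (iv F179174)
def n47447 : Q := act 9 n42882
theorem D47447 : act 9 n42882 = n47447 := rfl
theorem F212371 : act 0 n47447 = n45588 := d8_1 D47447 (iv D45588) F203399
theorem F212372 : act 2 n47447 = n44799 := d23_1 D47447 (iv D44799) (iv F203476)
theorem F212373 : act 3 n47447 = n47447 := d29_1 D47447 (iv D47447) F179184
theorem F212374 : act 4 n47447 = n42883 := d34_1 D47447 (iv D42883) D42882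
theorem F212375 : act 7 n47447 = n47447 := d43_1 D47447 (iv D47447) F179185
def n47448 : Q := act 8 n42883
theorem D47448 : act 8 n42883 = n47448 := rfl
theorem F212376 : act 0 n47448 = n45589 := d7_1 D47448 (iv D45589) (iv F203822)
theorem F212377 : act 2 n47448 = n45525 := d22_1 D47448 (iv D45525) (iv F203823)
theorem F212378 : act 3 n47448 = n43042 := d28_1 D47448 (iv D43042) F125269 (iv F124876) (iv F179187)
theorem F212379 : act 5 n47448 = n45568 := d37_1 D47448 (iv D45568) (iv F179188)
theorem F212380 : act 7 n47448 = n47448 := d42_1 D47448 (iv D47448) F179189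
theorem F212381 : act 9 n47448 = n42898 := d44_2 D42883 D47448 (iv D42898) (iv D29432) (iv F124871)
def n47449 : Q := act 8 n42884
theorem D47449 : act 8 n42884 = n47449 := rfl
theorem F212382 : act 2 n47449 = n42911 := d22_1 D47449 (iv D42911) (iv F179190)
theorem F212383 : act 5 n47449 = n47449 := d37_1 D47449 (iv D47449) F179191
theorem F212384 : act 6 n47449 = n42885 := d40_1 D47449 (iv D42885) D42884
theorem F212385 : act 7 n47449 = n45569 := d42_1 D47449 (iv D45569) (iv F179192)
def n47450 : Q := act 3 n42885
theorem D47450 : act 3 n42885 = n47450 := rfl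
theorem F212386 : act 5 n47450 = n42888 := d25_2 (iv F179195) D47450 (iv D42888)
theorem F212387 : act 7 n47450 = n42886 := d27_2 (iv F179196) D47450 (iv D42886)
def n47451 : Q := act 9 n42885
theorem D47451 : act 9 n42885 = n47451 := rfl
theorem F212388 : act 2 n47451 = n42913 := d23_1 D47451 (iv D42913) (iv F179194)
theorem F212389 : act 5 n47451 = n42889 := d38_1 D47451 (iv D42889) (iv F179195)
theorem F212390 : act 7 n47451 = n42887 := d43_1 D47451 (iv D42887) (iv F179196)
theorem F212391 : act 8 n47451 = n43045 := d44_1 D47451 (iv D43045) (iv D29531) (iv F124879) D42885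
def n47452 : Q := act 2 n42886
theorem D47452 : act 2 n42886 = n47452 := rfl
theorem F212392 : act 0 n47452 = n45556 := d1_1 D47452 (iv F212247) F212246
theorem F212393 : act 3 n47452 = n42914 := d17_2 D42886 D47452 (iv D42914) (iv D29445) (iv F124880)
theorem F212394 : act 5 n47452 = n42890 := d19_2 (iv F179197) D47452 (iv D42890)
theorem F212395 : act 6 n47452 = n45572 := d20_2 (iv F179198) D47452 (iv D45572)
theorem F212396 : act 8 n47452 = n45513 := d22_2 F212345 D47452 (iv F212342)
def n47453 : Q := act 4 n42886
theorem D47453 : act 4 n42886 = n47453 := rfl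
theorem F212397 : act 6 n47453 = n45573 := d31_2 (iv F179198) D47453 (iv D45573)
def n47454 : Q := act 9 n42886
theorem D47454 : act 9 n42886 = n47454 := rfl
theorem F212398 : act 3 n47454 = n42887 := d29_1 D47454 (iv D42887) D42886
theorem F212399 : act 5 n47454 = n42892 := d38_1 D47454 (iv D42892) (iv F179197)
theorem F212400 : act 6 n47454 = n45574 := d41_1 D47454 (iv D45574) (iv F179198)
def n47455 : Q := act 2 n42888
theorem D47455 : act 2 n42888 = n47455 := rfl
theorem F212401 : act 0 n47455 = n45558 := d1_1 D47455 (iv F212257) F212256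
theorem F212402 : act 3 n47455 = n42917 := d17_2 D42888 D47455 (iv D42917) (iv D29447) (iv F124883)
theorem F212403 : act 6 n47455 = n47455 := d20_2 F179203 D47455 (iv D47455)
theorem F212404 : act 7 n47455 = n42890 := d21_2 (iv F179204) D47455 (iv D42890)
theorem F212405 : act 8 n47455 = n45515 := d22_2 F212355 D47455 (iv F212352)
theorem F212406 : act 1 n46544 = n47455 := d10_3 F212402 (iv F206788) D46544
theorem F212407 : act 4 n46541 = n47455 := d24_0 F212402 F203605 F203151 (iv F145188) D46541
def n47456 : Q := act 4 n42888
theorem D47456 : act 4 n42888 = n47456 := rfl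
theorem F212408 : act 2 n47456 = n46541 := d18_1 D47456 F212407 (iv D47455)
theorem F212409 : act 3 n47456 = n42899 := d24_1 D47456 (iv D42899) (iv D29433) (iv F124884) D42888
theorem F212410 : act 6 n47456 = n47456 := d31_2 F179203 D47456 (iv D47456)
theorem F212411 : act 7 n47456 = n42891 := d32_2 (iv F179204) D47456 (iv D42891)
def n47457 : Q := act 9 n42888
theorem D47457 : act 9 n42888 = n47457 := rfl
theorem F212412 : act 3 n47457 = n42889 := d29_1 D47457 (iv D42889) D42888
theorem F212413 : act 6 n47457 = n47457 := d41_1 D47457 (iv D47457) F179203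
theorem F212414 : act 7 n47457 = n42892 := d43_1 D47457 (iv D42892) (iv F179204)
def n47458 : Q := act 1 n42890
theorem D47458 : act 1 n42890 = n47458 := rfl
theorem F212415 : act 0 n47458 = n44876 := d0_1 D47458 F187255 (iv F203514) F186661 (iv F203606)
theorem F212416 : act 3 n47458 = n42919 := d10_2 (iv F179210) D47458 (iv D42919)
theorem F212417 : act 6 n47458 = n42893 := d13_2 (iv F179211) D47458 (iv D42893)
theorem F212418 : act 7 n47458 = n46544 := d14_2 F212404 D47458 F212406
theorem F212419 : act 8 n47458 = n44833 := d15_2 (iv F203607) D47458 F203012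
theorem F212420 : act 4 n44821 = n47458 := d33_3 F212419 (iv D44833) (iv F187045)
def n47459 : Q := act 4 n42890
theorem D47459 : act 4 n42890 = n47459 := rfl
theorem F212421 : act 0 n47459 = n45561 := d3_1 D47459 (iv D45561) (iv F203606)
theorem F212422 : act 1 n47459 = n44821 := d11_1 D47459 F212420 (iv D47458)
theorem F212423 : act 2 n47459 = n42891 := d18_1 D47459 (iv D42891) D42890
theorem F212424 : act 3 n47459 = n44789 := d24_1 D47459 F186906 F203166 (iv F203189) (iv F179210)
theorem F212425 : act 6 n47459 = n42894 := d31_2 (iv F179211) D47459 (iv D42894)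
theorem F212426 : act 7 n47459 = n46541 := d32_2 F212404 D47459 F212407
theorem F212427 : act 8 n47459 = n44795 := d33_2 (iv F203607) D47459 F203009
def n47460 : Q := act 9 n42890
theorem D47460 : act 9 n42890 = n47460 := rfl
theorem F212428 : act 0 n47460 = n45562 := d8_1 D47460 (iv D45562) (iv F203606)
theorem F212429 : act 2 n47460 = n42892 := d23_1 D47460 (iv D42892) D42890
theorem F212430 : act 3 n47460 = n42920 := d29_1 D47460 (iv D42920) (iv F179210)
theorem F212431 : act 6 n47460 = n42895 := d41_1 D47460 (iv D42895) (iv F179211)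
def n47461 : Q := act 5 n42891
theorem D47461 : act 5 n42891 = n47461 := rfl
theorem F212432 : act 3 n47461 = n42901 := d25_1 D47461 (iv D42901) (iv F179212)
def n47462 : Q := act 9 n42891
theorem D47462 : act 9 n42891 = n47462 := rfl
theorem F212433 : act 3 n47462 = n42902 := d29_1 D47462 (iv D42902) (iv F179212)
theorem F212434 : act 4 n47462 = n42892 := d34_1 D47462 (iv D42892) D42891
theorem F212435 : act 6 n47462 = n42897 := d41_1 D47462 (iv D42897) (iv F179213)
def n47463 : Q := act 8 n42892
theorem D47463 : act 8 n42892 = n47463 := rfl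
theorem F212436 : act 3 n47463 = n43057 := d28_1 D47463 (iv D43057) F125293 (iv F124891) (iv F179214)
theorem F212437 : act 6 n47463 = n42898 := d40_1 D47463 (iv D42898) (iv F179215)
def n47464 : Q := act 9 n42893
theorem D47464 : act 9 n42893 = n47464 := rfl
theorem F212438 : act 0 n47464 = n44882 := d8_1 D47464 (iv D44882) (iv F203070)
theorem F212439 : act 1 n47464 = n42895 := d16_1 D47464 (iv D42895) D42893
theorem F212440 : act 3 n47464 = n42923 := d29_1 D47464 (iv D42923) (iv F179216)
theorem F212441 : act 4 n47464 = n44825 := d34_1 D47464 (iv D44825) (iv F203071)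
theorem F212442 : act 5 n47464 = n45586 := d38_1 D47464 (iv D45586) (iv F179217)
theorem F212443 : act 7 n47464 = n47464 := d43_1 D47464 (iv D47464) F179218
def n47465 : Q := act 9 n42894
theorem D47465 : act 9 n42894 = n47465 := rfl
theorem F212444 : act 0 n47465 = n45567 := d8_1 D47465 (iv D45567) F203396
theorem F212445 : act 1 n47465 = n44825 := d16_1 D47465 (iv D44825) (iv F203473)
theorem F212446 : act 2 n47465 = n42897 := d23_1 D47465 (iv D42897) (iv F179219)
theorem F212447 : act 3 n47465 = n44791 := d29_1 D47465 (iv D44791) (iv F203474)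
theorem F212448 : act 4 n47465 = n42895 := d34_1 D47465 (iv D42895) D42894
theorem F212449 : act 7 n47465 = n47465 := d43_1 D47465 (iv D47465) F179220
def n47466 : Q := act 8 n42895
theorem D47466 : act 8 n42895 = n47466 := rfl
theorem F212450 : act 0 n47466 = n45568 := d7_1 D47466 (iv D45568) (iv F203819)
theorem F212451 : act 2 n47466 = n42898 := d22_1 D47466 (iv D42898) (iv F179221)
theorem F212452 : act 3 n47466 = n45721 := d28_1 D47466 (iv D45721) F132457 F203655 (iv F179222)
theorem F212453 : act 5 n47466 = n45589 := d37_1 D47466 (iv D45589) (iv F179223)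
theorem F212454 : act 7 n47466 = n47466 := d42_1 D47466 (iv D47466) F179224
theorem F212455 : act 9 n47466 = n45525 := d44_2 D42895 D47466 (iv D45525) (iv D31201) (iv F203372)
def n47467 : Q := act 6 n42896
theorem D47467 : act 6 n42896 = n47467 := rfl
theorem F212456 : act 1 n47467 = n42992 := d13_1 D47467 F179575 (iv F203839)
theorem F212457 : act 3 n47467 = n42904 := d26_1 D47467 (iv D42904) (iv F179225)
theorem F212458 : act 4 n47467 = n42954 := d31_1 D47467 F179430 (iv F203840)
def n47468 : Q := act 9 n42896
theorem D47468 : act 9 n42896 = n47468 := rfl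
theorem F212459 : act 1 n47468 = n42998 := d16_1 D47468 (iv D42998) (iv F203839)
theorem F212460 : act 3 n47468 = n42905 := d29_1 D47468 (iv D42905) (iv F179225)
theorem F212461 : act 4 n47468 = n42958 := d34_1 D47468 (iv D42958) (iv F203840)
theorem F212462 : act 5 n47468 = n42897 := d38_1 D47468 (iv D42897) D42896
theorem F212463 : act 7 n47468 = n47468 := d43_1 D47468 (iv D47468) F179227
def n47469 : Q := act 8 n42897
theorem D47469 : act 8 n42897 = n47469 := rfl
theorem F212464 : act 4 n47469 = n42898 := d33_1 D47469 (iv D42898) (iv F179229)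
theorem F212465 : act 7 n47469 = n47469 := d42_1 D47469 (iv D47469) F179230
def n47470 : Q := act 5 n42899
theorem D47470 : act 5 n42899 = n47470 := rfl
theorem F212466 : act 2 n47470 = n46036 := d19_1 D47470 F191416 F206721
theorem F212467 : act 7 n47470 = n42901 := d36_2 (iv F179235) D47470 (iv D42901)
theorem F212468 : act 8 n47470 = n47470 := d37_2 F179236 D47470 (iv D47470)
def n47471 : Q := act 9 n42899
theorem D47471 : act 9 n42899 = n47471 := rfl
theorem F212469 : act 2 n47471 = n46557 := d23_1 D47471 (iv D46557) F206721
theorem F212470 : act 4 n47471 = n42900 := d34_1 D47471 (iv D42900) D42899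
theorem F212471 : act 6 n47471 = n47471 := d41_1 D47471 (iv D47471) F179234
theorem F212472 : act 7 n47471 = n42902 := d43_1 D47471 (iv D42902) (iv F179235)
def n47472 : Q := act 8 n42900
theorem D47472 : act 8 n42900 = n47472 := rfl
theorem F212473 : act 3 n47472 = n43069 := d28_1 D47472 (iv D43069) F125318 (iv F124906) (iv F179237)
theorem F212474 : act 6 n47472 = n47472 := d40_1 D47472 (iv D47472) F179238
theorem F212475 : act 7 n47472 = n42903 := d42_1 D47472 (iv D42903) (iv F179239)
theorem F212476 : act 9 n47472 = n47472 := d44_2 D42900 D47472 (iv D47472) (iv D42900) F124902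
def n47473 : Q := act 6 n42901
theorem D47473 : act 6 n42901 = n47473 := rfl
theorem F212477 : act 1 n47473 = n43002 := d13_1 D47473 (iv F209178) F209176
theorem F212478 : act 5 n47473 = n42904 := d35_1 D47473 (iv D42904) (iv D29437) (iv F124907) D42901
theorem F212479 : act 8 n47473 = n47473 := d40_2 F179240 D47473 (iv D47473)
def n47474 : Q := act 9 n42901
theorem D47474 : act 9 n42901 = n47474 := rfl
theorem F212480 : act 5 n47474 = n42902 := d38_1 D47474 (iv D42902) D42901
def n47475 : Q := act 8 n42902
theorem D47475 : act 8 n42902 = n47475 := rfl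
theorem F212481 : act 4 n47475 = n42903 := d33_1 D47475 (iv D42903) (iv F179241)
theorem F212482 : act 6 n47475 = n42906 := d40_1 D47475 (iv D42906) (iv F179242)
theorem F212483 : act 9 n47475 = n47475 := d44_2 D42902 D47475 (iv D47475) (iv D42902) F124908
def n47476 : Q := act 7 n42904
theorem D47476 : act 7 n42904 = n47476 := rfl
theorem F212484 : act 0 n47476 = n46410 := d6_1 D47476 (iv F209462) F209458
theorem F212485 : act 1 n47476 = n43000 := d14_1 D47476 F179605 (iv F203841)
theorem F212486 : act 2 n47476 = n46426 := d21_1 D47476 F212153 F212149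
theorem F212487 : act 4 n47476 = n42907 := d32_1 D47476 (iv D42907) (iv F179246)
theorem F212488 : act 6 n47476 = n47476 := d39_1 D47476 (iv D47476) (iv D42904) F124912 D42904
theorem F212489 : act 8 n47476 = n47476 := d42_2 F179247 D47476 (iv D47476)
def n47477 : Q := act 9 n42904
theorem D47477 : act 9 n42904 = n47477 := rfl
theorem F212490 : act 1 n47477 = n43003 := d16_1 D47477 (iv D43003) (iv F203841)
theorem F212491 : act 4 n47477 = n42908 := d34_1 D47477 (iv D42908) (iv F179246)
theorem F212492 : act 6 n47477 = n42905 := d41_1 D47477 (iv D42905) D42904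
def n47478 : Q := act 8 n42905
theorem D47478 : act 8 n42905 = n47478 := rfl
theorem F212493 : act 1 n47478 = n43007 := d15_1 D47478 (iv D43007) (iv F203834)
theorem F212494 : act 4 n47478 = n42909 := d33_1 D47478 (iv D42909) (iv F179248)
theorem F212495 : act 5 n47478 = n42906 := d37_1 D47478 (iv D42906) (iv F179249)
theorem F212496 : act 7 n47478 = n47478 := d42_1 D47478 (iv D47478) F179250
theorem F212497 : act 9 n47478 = n47478 := d44_2 D42905 D47478 (iv D47478) (iv D42905) F124913
def n47479 : Q := act 3 n42906
theorem D47479 : act 3 n42906 = n47479 := rfl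
theorem F212498 : act 4 n47479 = n43076 := d24_2 (iv F179251) D47479 (iv D43076) F125337 (iv F124916)
theorem F212499 : act 7 n47479 = n47479 := d27_2 F179252 D47479 (iv D47479)
theorem F212500 : act 9 n47479 = n47479 := d29_2 F179253 D47479 (iv D47479)
def n47480 : Q := act 9 n42907
theorem D47480 : act 9 n42907 = n47480 := rfl
theorem F212501 : act 0 n47480 = n46411 := d8_1 D47480 (iv D46411) (iv F206352)
theorem F212502 : act 1 n47480 = n43001 := d16_1 D47480 (iv D43001) (iv F203842)
theorem F212503 : act 2 n47480 = n46427 := d23_1 D47480 (iv D46427) F206351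
theorem F212504 : act 3 n47480 = n42960 := d29_1 D47480 (iv D42960) (iv F203843)
theorem F212505 : act 5 n47480 = n46418 := d38_1 D47480 (iv D46418) (iv F206353)
theorem F212506 : act 6 n47480 = n47480 := d41_1 D47480 (iv D47480) F179255
theorem F212507 : act 7 n47480 = n42908 := d43_1 D47480 (iv D42908) D42907
def n47481 : Q := act 8 n42908
theorem D47481 : act 8 n42908 = n47481 := rfl
theorem F212508 : act 1 n47481 = n43004 := d15_1 D47481 (iv D43004) (iv F203835)
theorem F212509 : act 6 n47481 = n42909 := d40_1 D47481 (iv D42909) (iv F179258)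
theorem F212510 : act 9 n47481 = n47481 := d44_2 D42908 D47481 (iv D47481) (iv D42908) F124921
def n47482 : Q := act 3 n42911
theorem D47482 : act 3 n42911 = n47482 := rfl
theorem F212511 : act 0 n47482 = n46038 := d2_1 D47482 (iv F212311) F212309
theorem F212512 : act 1 n47482 = n42925 := d10_1 D47482 (iv D42925) (iv F179266)
theorem F212513 : act 5 n47482 = n47482 := d25_2 F179267 D47482 (iv D47482)
theorem F212514 : act 6 n47482 = n42912 := d26_2 (iv F179268) D47482 (iv D42912)
theorem F212515 : act 7 n47482 = n45607 := d27_2 (iv F179269) D47482 (iv D45607)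
theorem F212516 : act 8 n47482 = n43461 := d28_2 D42911 D47482 (iv D43461) (iv D29814) (iv F124929)
theorem F212517 : act 4 n46147 = n47482 := d33_3 F212516 F204296 D46147
def n47483 : Q := act 9 n42911
theorem D47483 : act 9 n42911 = n47483 := rfl
theorem F212518 : act 1 n47483 = n42926 := d16_1 D47483 (iv D42926) (iv F179266)
theorem F212519 : act 5 n47483 = n47483 := d38_1 D47483 (iv D47483) F179267
theorem F212520 : act 6 n47483 = n42913 := d41_1 D47483 (iv D42913) (iv F179268)
theorem F212521 : act 7 n47483 = n45608 := d43_1 D47483 (iv D45608) (iv F179269)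
theorem F212522 : act 8 n47483 = n43082 := d44_1 D47483 (iv D43082) (iv D29557) (iv F124932) D42911
def n47484 : Q := act 2 n42912
theorem D47484 : act 2 n42912 = n47484 := rfl
theorem F212523 : act 0 n47484 = n45555 := d1_1 D47484 F189687 (iv F204143)
theorem F212524 : act 1 n47484 = n45706 := d9_1 D47484 F190195 (iv F204279) (iv D42927) (iv F179270)
theorem F212525 : act 5 n47484 = n42917 := d19_2 (iv F179271) D47484 (iv D42917)
theorem F212526 : act 7 n47484 = n42914 := d21_2 (iv F179272) D47484 (iv D42914)
theorem F212527 : act 8 n47484 = n43463 := d22_2 (iv F179273) D47484 (iv D43463)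
theorem F212528 : act 4 n45657 = n47484 := d33_3 F212527 F203601 D45657
def n47485 : Q := act 4 n42912
theorem D47485 : act 4 n42912 = n47485 := rfl
theorem F212529 : act 0 n47485 = n46035 := d3_1 D47485 F191412 (iv F204143)
theorem F212530 : act 1 n47485 = n42928 := d11_1 D47485 (iv D42928) (iv F179270)
theorem F212531 : act 2 n47485 = n45657 := d18_1 D47485 F212528 (iv D47484)
theorem F212532 : act 5 n47485 = n43499 := d30_2 (iv F179271) D47485 (iv F203202) F203203 (iv F203935)
theorem F212533 : act 6 n47485 = n46147 := d31_2 F212514 D47485 F212517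
theorem F212534 : act 7 n47485 = n42915 := d32_2 (iv F179272) D47485 (iv D42915)
theorem F212535 : act 8 n47485 = n43464 := d33_2 (iv F179273) D47485 (iv D43464)
def n47486 : Q := act 9 n42912
theorem D47486 : act 9 n42912 = n47486 := rfl
theorem F212536 : act 0 n47486 = n46040 := d8_1 D47486 (iv D46040) (iv F204143)
theorem F212537 : act 1 n47486 = n42929 := d16_1 D47486 (iv D42929) (iv F179270)
theorem F212538 : act 3 n47486 = n42913 := d29_1 D47486 (iv D42913) D42912
theorem F212539 : act 5 n47486 = n42918 := d38_1 D47486 (iv D42918) (iv F179271)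
theorem F212540 : act 7 n47486 = n42916 := d43_1 D47486 (iv D42916) (iv F179272)
theorem F212541 : act 8 n47486 = n46205 := d44_1 D47486 (iv D46205) (iv D31665) (iv F203932) (iv F179273)
def n47487 : Q := act 1 n42914
theorem D47487 : act 1 n42914 = n47487 := rfl
theorem F212542 : act 0 n47487 = n45780 := d0_1 D47487 (iv F206821) (iv F206560) F186653 (iv F203603)
theorem F212543 : act 2 n47487 = n42930 := d9_2 D42914 D47487 (iv D42930) (iv D29457) (iv F124936)
theorem F212544 : act 5 n47487 = n42919 := d12_2 (iv F179278) D47487 (iv D42919)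
theorem F212545 : act 6 n47487 = n45612 := d13_2 (iv F179279) D47487 (iv D45612)
theorem F212546 : act 7 n47487 = n45706 := d14_2 F212526 D47487 (iv F212524)
theorem F212547 : act 8 n47487 = n43466 := d15_2 (iv F179280) D47487 (iv D43466)
theorem F212548 : act 4 n45708 = n47487 := d33_3 F212547 F203025 D45708
def n47488 : Q := act 4 n42914
theorem D47488 : act 4 n42914 = n47488 := rfl
theorem F212549 : act 0 n47488 = n45553 := d3_1 D47488 F189681 (iv F203603)
theorem F212550 : act 1 n47488 = n45708 := d11_1 D47488 F212548 (iv D47487)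
theorem F212551 : act 2 n47488 = n42915 := d18_1 D47488 (iv D42915) D42914
theorem F212552 : act 5 n47488 = n45658 := d30_2 (iv F179278) D47488 (iv F198937) F144990 (iv F203189)
theorem F212553 : act 6 n47488 = n45613 := d31_2 (iv F179279) D47488 (iv D45613)
theorem F212554 : act 7 n47488 = n45657 := d32_2 F212526 D47488 F212528
theorem F212555 : act 8 n47488 = n43467 := d33_2 (iv F179280) D47488 (iv D43467)
def n47489 : Q := act 9 n42914
theorem D47489 : act 9 n42914 = n47489 := rfl
theorem F212556 : act 0 n47489 = n45557 := d8_1 D47489 (iv D45557) (iv F203603)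
theorem F212557 : act 2 n47489 = n42916 := d23_1 D47489 (iv D42916) D42914
theorem F212558 : act 5 n47489 = n42920 := d38_1 D47489 (iv D42920) (iv F179278)
theorem F212559 : act 6 n47489 = n45614 := d41_1 D47489 (iv D45614) (iv F179279)
theorem F212560 : act 8 n47489 = n45710 := d44_1 D47489 (iv D45710) (iv D31326) F203535 (iv F179280)
def n47490 : Q := act 9 n42915
theorem D47490 : act 9 n42915 = n47490 := rfl
theorem F212561 : act 0 n47490 = n46037 := d8_1 D47490 (iv D46037) (iv F204161)
theorem F212562 : act 1 n47490 = n42933 := d16_1 D47490 (iv D42933) (iv F179281)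
theorem F212563 : act 4 n47490 = n42916 := d34_1 D47490 (iv D42916) D42915
theorem F212564 : act 5 n47490 = n46555 := d38_1 D47490 (iv D46555) (iv F204162)
theorem F212565 : act 6 n47490 = n45615 := d41_1 D47490 (iv D45615) (iv F179282)
theorem F212566 : act 8 n47490 = n46202 := d44_1 D47490 (iv D46202) (iv D31663) F204104 (iv F179283)
def n47491 : Q := act 9 n42917
theorem D47491 : act 9 n42917 = n47491 := rfl
theorem F212567 : act 0 n47491 = n45559 := d8_1 D47491 (iv D45559) (iv F203604)
theorem F212568 : act 1 n47491 = n46545 := d16_1 D47491 (iv D46545) F206788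
theorem F212569 : act 2 n47491 = n42918 := d23_1 D47491 (iv D42918) D42917
theorem F212570 : act 4 n47491 = n46540 := d34_1 D47491 (iv D46540) (iv F203605)
theorem F212571 : act 6 n47491 = n47491 := d41_1 D47491 (iv D47491) F179288
theorem F212572 : act 7 n47491 = n42920 := d43_1 D47491 (iv D42920) (iv F179289)
theorem F212573 : act 8 n47491 = n45712 := d44_1 D47491 (iv D45712) (iv D31327) F203536 (iv F179290)
def n47492 : Q := act 9 n42919
theorem D47492 : act 9 n42919 = n47492 := rfl
theorem F212574 : act 0 n47492 = n46534 := d8_1 D47492 (iv D46534) F206795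
theorem F212575 : act 1 n47492 = n42920 := d16_1 D47492 (iv D42920) D42919
theorem F212576 : act 2 n47492 = n42939 := d23_1 D47492 (iv D42939) (iv F179295)
theorem F212577 : act 4 n47492 = n46532 := d34_1 D47492 (iv D46532) F202551
theorem F212578 : act 6 n47492 = n42923 := d41_1 D47492 (iv D42923) (iv F179296)
theorem F212579 : act 7 n47492 = n46545 := d43_1 D47492 (iv D46545) (iv F206794)
theorem F212580 : act 8 n47492 = n45660 := d44_1 D47492 (iv D45660) (iv D31296) F202735 (iv F179297)
def n47493 : Q := act 9 n42925
theorem D47493 : act 9 n42925 = n47493 := rfl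
theorem F212581 : act 0 n47493 = n47493 := d8_1 D47493 (iv D47493) F179316
theorem F212582 : act 2 n47493 = n45640 := d23_1 D47493 F189963 (iv F204443)
theorem F212583 : act 3 n47493 = n42926 := d29_1 D47493 (iv D42926) D42925
theorem F212584 : act 4 n47493 = n45639 := d34_1 D47493 F189959 (iv F204444)
theorem F212585 : act 5 n47493 = n47493 := d38_1 D47493 (iv D47493) F179317
theorem F212586 : act 6 n47493 = n42929 := d41_1 D47493 (iv D42929) (iv F179318)
theorem F212587 : act 7 n47493 = n45628 := d43_1 D47493 (iv D45628) (iv F179319)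
theorem F212588 : act 8 n47493 = n45638 := d44_1 D47493 (iv D45638) F132266 (iv F204349) (iv F179320)
def n47494 : Q := act 9 n42927
theorem D47494 : act 9 n42927 = n47494 := rfl
theorem F212589 : act 0 n47494 = n47494 := d8_1 D47494 (iv D47494) F179326
theorem F212590 : act 1 n47494 = n46202 := d16_1 D47494 (iv D46202) (iv F204279)
theorem F212591 : act 2 n47494 = n42929 := d23_1 D47494 (iv D42929) D42927
theorem F212592 : act 4 n47494 = n42934 := d34_1 D47494 F179355 (iv F204175)
theorem F212593 : act 5 n47494 = n42936 := d38_1 D47494 (iv D42936) (iv F179327)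
theorem F212594 : act 6 n47494 = n45640 := d41_1 D47494 F189963 (iv F204176)
theorem F212595 : act 7 n47494 = n42932 := d43_1 D47494 (iv D42932) (iv F179328)
theorem F212596 : act 8 n47494 = n42933 := d44_1 D47494 (iv D42933) F124988 F204136 (iv F179329)
def n47495 : Q := act 9 n42928
theorem D47495 : act 9 n42928 = n47495 := rfl
theorem F212597 : act 0 n47495 = n47495 := d8_1 D47495 (iv D47495) F179330
theorem F212598 : act 2 n47495 = n42934 := d23_1 D47495 F179355 (iv F204168)
theorem F212599 : act 4 n47495 = n42929 := d34_1 D47495 (iv D42929) D42928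
theorem F212600 : act 5 n47495 = n42940 := d38_1 D47495 F179376 (iv F204169)
theorem F212601 : act 6 n47495 = n45639 := d41_1 D47495 F189959 (iv F204170)
theorem F212602 : act 7 n47495 = n42933 := d43_1 D47495 (iv D42933) (iv F179331)
theorem F212603 : act 8 n47495 = n42932 := d44_1 D47495 (iv D42932) F124985 F204174 (iv F179332)
def n47496 : Q := act 8 n42929
theorem D47496 : act 8 n42929 = n47496 := rfl
theorem F212604 : act 0 n47496 = n47496 := d7_1 D47496 (iv D47496) F179333
theorem F212605 : act 1 n47496 = n46205 := d15_1 D47496 (iv F212541) F212537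
theorem F212606 : act 2 n47496 = n42933 := d22_1 D47496 (iv F212596) F212591
theorem F212607 : act 3 n47496 = n43107 := d28_1 D47496 (iv D43107) F125429 (iv F124981) (iv F179334)
theorem F212608 : act 4 n47496 = n42932 := d33_1 D47496 (iv F212603) F212599
theorem F212609 : act 5 n47496 = n42937 := d37_1 D47496 (iv D42937) (iv F179335)
theorem F212610 : act 6 n47496 = n45638 := d40_1 D47496 (iv F212588) F212586
theorem F212611 : act 7 n47496 = n42934 := d42_1 D47496 (iv D42934) (iv F179336)
theorem F212612 : act 9 n47496 = n42931 := d44_2 D42929 D47496 F204276 (iv D29832) (iv F124977)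
def n47497 : Q := act 9 n42930
theorem D47497 : act 9 n42930 = n47497 := rfl
theorem F212613 : act 0 n47497 = n46263 := d8_1 D47497 (iv D46263) (iv F203875)
theorem F212614 : act 1 n47497 = n42932 := d16_1 D47497 (iv D42932) D42930
theorem F212615 : act 4 n47497 = n46205 := d34_1 D47497 (iv D46205) (iv F203876)
theorem F212616 : act 5 n47497 = n42939 := d38_1 D47497 (iv D42939) (iv F179337)
theorem F212617 : act 6 n47497 = n45636 := d41_1 D47497 (iv D45636) (iv F179338)
theorem F212618 : act 7 n47497 = n46202 := d43_1 D47497 (iv D46202) (iv F203877)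
def n47498 : Q := act 8 n42939
theorem D47498 : act 8 n42939 = n47498 := rfl
theorem F212619 : act 0 n47498 = n46556 := d7_1 D47498 F207713 F206769
theorem F212620 : act 1 n47498 = n42940 := d15_1 D47498 (iv D42940) (iv F179371)
theorem F212621 : act 2 n47498 = n45660 := d22_1 D47498 (iv F212580) F212576
theorem F212622 : act 4 n47498 = n46543 := d33_1 D47498 F207674 F206770
theorem F212623 : act 6 n47498 = n42942 := d40_1 D47498 (iv D42942) (iv F179372)
theorem F212624 : act 7 n47498 = n46555 := d42_1 D47498 F207709 (iv F206768)
theorem F212625 : act 9 n47498 = n43499 := d44_2 D42939 D47498 (iv D43499) (iv D29842) (iv F125002)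
def n47499 : Q := act 3 n42940
theorem D47499 : act 3 n42940 = n47499 := rfl
theorem F212626 : act 0 n47499 = n47499 := d2_1 D47499 (iv D47499) F179373
theorem F212627 : act 2 n47499 = n43120 := d17_1 D47499 (iv D43120) F125474 (iv F125007) (iv F179374)
theorem F212628 : act 6 n47499 = n42943 := d26_2 (iv F179375) D47499 (iv D42943)
theorem F212629 : act 9 n47499 = n43500 := d29_2 (iv F179376) D47499 (iv D43500)
def n47500 : Q := act 4 n42946
theorem D47500 : act 4 n42946 = n47500 := rfl
theorem F212630 : act 0 n47500 = n45554 := d3_1 D47500 F209379 F209373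
theorem F212631 : act 1 n47500 = n42976 := d11_1 D47500 (iv D42976) (iv F179399)
theorem F212632 : act 2 n47500 = n43461 := d18_1 D47500 F204296 (iv F203851)
theorem F212633 : act 3 n47500 = n45511 := d24_1 D47500 F211523 F211520 F178133 (iv F179400)
theorem F212634 : act 5 n47500 = n47500 := d30_2 D42946 D47500 (iv D47500) (iv D42946) F125029
theorem F212635 : act 6 n47500 = n43463 := d31_2 (iv F179401) D47500 F203601
theorem F212636 : act 9 n47500 = n45707 := d34_2 (iv F203852) D47500 F204290
theorem F212637 : act 7 n46106 = n47500 := d39_0 F212635 F181561 F126521 (iv F133448) (iv F191664)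
def n47501 : Q := act 7 n42946
theorem D47501 : act 7 n42946 = n47501 := rfl
theorem F212638 : act 1 n47501 = n42977 := d14_1 D47501 (iv D42977) (iv F179399)
theorem F212639 : act 2 n47501 = n46107 := d21_1 D47501 F204490 (iv F203851)
theorem F212640 : act 3 n47501 = n42951 := d27_1 D47501 (iv D42951) (iv F179400)
theorem F212641 : act 4 n47501 = n46106 := d32_1 D47501 F212637 (iv D47500)
theorem F212642 : act 5 n47501 = n42947 := d36_1 D47501 (iv D42947) D42946
theorem F212643 : act 6 n47501 = n46110 := d39_1 D47501 F191677 (iv F181573) F203594 (iv F179401)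
theorem F212644 : act 9 n47501 = n46109 := d43_2 (iv F203852) D47501 F191674
def n47502 : Q := act 8 n42946
theorem D47502 : act 8 n42946 = n47502 := rfl
theorem F212645 : act 1 n47502 = n42978 := d15_1 D47502 (iv D42978) (iv F179399)
theorem F212646 : act 2 n47502 = n46147 := d22_1 D47502 (iv D46147) (iv F203851)
theorem F212647 : act 5 n47502 = n42948 := d37_1 D47502 (iv D42948) D42946
theorem F212648 : act 6 n47502 = n45657 := d40_1 D47502 (iv D45657) (iv F179401)
def n47503 : Q := act 8 n42947
theorem D47503 : act 8 n42947 = n47503 := rfl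
theorem F212649 : act 1 n47503 = n42979 := d15_1 D47503 (iv D42979) (iv F179402)
theorem F212650 : act 2 n47503 = n46154 := d22_1 D47503 (iv D46154) (iv F203853)
theorem F212651 : act 4 n47503 = n47503 := d33_1 D47503 (iv D47503) F179404
theorem F212652 : act 6 n47503 = n47503 := d40_1 D47503 (iv D47503) F179405
theorem F212653 : act 7 n47503 = n42948 := d42_1 D47503 (iv D42948) D42947
def n47504 : Q := act 3 n42948
theorem D47504 : act 3 n42948 = n47504 := rfl
theorem F212654 : act 1 n47504 = n42980 := d10_1 D47504 (iv D42980) (iv F179406)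
theorem F212655 : act 6 n47504 = n42949 := d26_2 (iv F179408) D47504 (iv D42949)
theorem F212656 : act 8 n47504 = n42954 := d28_2 D42948 D47504 (iv D42954) (iv D29473) (iv F125028)
def n47505 : Q := act 9 n42948
theorem D47505 : act 9 n42948 = n47505 := rfl
theorem F212657 : act 1 n47505 = n42981 := d16_1 D47505 (iv D42981) (iv F179406)
theorem F212658 : act 2 n47505 = n45645 := d23_1 D47505 F189986 (iv F203855)
theorem F212659 : act 4 n47505 = n47505 := d34_1 D47505 (iv D47505) F179407
theorem F212660 : act 6 n47505 = n42950 := d41_1 D47505 (iv D42950) (iv F179408)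
theorem F212661 : act 8 n47505 = n45621 := d44_1 D47505 (iv D45621) F132220 (iv F203395) D42948
def n47506 : Q := act 9 n42949
theorem D47506 : act 9 n42949 = n47506 := rfl
theorem F212662 : act 1 n47506 = n42984 := d16_1 D47506 (iv D42984) (iv F179409)
theorem F212663 : act 3 n47506 = n42950 := d29_1 D47506 (iv D42950) D42949
theorem F212664 : act 5 n47506 = n45567 := d38_1 D47506 (iv D45567) (iv F203845)
theorem F212665 : act 7 n47506 = n47506 := d43_1 D47506 (iv D47506) F179411
def n47507 : Q := act 6 n42951
theorem D47507 : act 6 n42951 = n47507 := rfl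
theorem F212666 : act 1 n47507 = n42985 := d13_1 D47507 (iv D42985) (iv F179417)
theorem F212667 : act 2 n47507 = n47507 := d20_1 D47507 (iv D47507) F179418
theorem F212668 : act 3 n47507 = n46110 := d26_1 D47507 (iv F212643) F212640
theorem F212669 : act 5 n47507 = n47507 := d35_1 D47507 (iv D47507) F179419 F125040 (iv F179419)
theorem F212670 : act 7 n47507 = n45664 := d39_2 D42951 D47507 (iv D45664) (iv D31299) (iv F125036)
def n47508 : Q := act 8 n42951
theorem D47508 : act 8 n42951 = n47508 := rfl
theorem F212671 : act 1 n47508 = n42986 := d15_1 D47508 (iv D42986) (iv F179417)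
theorem F212672 : act 2 n47508 = n47508 := d22_1 D47508 (iv D47508) F179418
theorem F212673 : act 5 n47508 = n42953 := d37_1 D47508 (iv D42953) (iv F179419)
theorem F212674 : act 7 n47508 = n42952 := d42_1 D47508 (iv D42952) D42951
def n47509 : Q := act 3 n42952
theorem D47509 : act 3 n42952 = n47509 := rfl
theorem F212675 : act 1 n47509 = n42987 := d10_1 D47509 (iv D42987) (iv F179420)
theorem F212676 : act 5 n47509 = n42954 := d25_2 (iv F179422) D47509 (iv D42954)
theorem F212677 : act 6 n47509 = n45581 := d26_2 (iv F203626) D47509 F189759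
def n47510 : Q := act 9 n42952
theorem D47510 : act 9 n42952 = n47510 := rfl
theorem F212678 : act 1 n47510 = n42988 := d16_1 D47510 (iv D42988) (iv F179420)
theorem F212679 : act 2 n47510 = n47510 := d23_1 D47510 (iv D47510) F179421
theorem F212680 : act 5 n47510 = n42955 := d38_1 D47510 (iv D42955) (iv F179422)
theorem F212681 : act 6 n47510 = n45597 := d41_1 D47510 (iv D45597) (iv F203626)
def n47511 : Q := act 3 n42953
theorem D47511 : act 3 n42953 = n47511 := rfl
theorem F212682 : act 1 n47511 = n42989 := d10_1 D47511 (iv D42989) (iv F179424)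
theorem F212683 : act 6 n47511 = n47511 := d26_2 F179427 D47511 (iv D47511)
theorem F212684 : act 7 n47511 = n42954 := d27_2 (iv F179428) D47511 (iv D42954)
def n47512 : Q := act 9 n42953
theorem D47512 : act 9 n42953 = n47512 := rfl
theorem F212685 : act 1 n47512 = n42990 := d16_1 D47512 (iv D42990) (iv F179424)
theorem F212686 : act 2 n47512 = n47512 := d23_1 D47512 (iv D47512) F179425
theorem F212687 : act 4 n47512 = n42960 := d34_1 D47512 (iv D42960) (iv F179426)
theorem F212688 : act 6 n47512 = n47512 := d41_1 D47512 (iv D47512) F179427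
theorem F212689 : act 7 n47512 = n42955 := d43_1 D47512 (iv D42955) (iv F179428)
def n47513 : Q := act 2 n42954
theorem D47513 : act 2 n42954 = n47513 := rfl
theorem F212690 : act 3 n47513 = n47513 := d17_2 D42954 D47513 (iv D47513) (iv D42954) F125042
theorem F212691 : act 6 n47513 = n42956 := d20_2 (iv F179430) D47513 (iv D42956)
def n47514 : Q := act 9 n42954
theorem D47514 : act 9 n42954 = n47514 := rfl
theorem F212692 : act 1 n47514 = n42993 := d16_1 D47514 (iv D42993) (iv F179429)
theorem F212693 : act 3 n47514 = n42955 := d29_1 D47514 (iv D42955) D42954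
theorem F212694 : act 6 n47514 = n42958 := d41_1 D47514 (iv D42958) (iv F179430)
def n47515 : Q := act 9 n42956
theorem D47515 : act 9 n42956 = n47515 := rfl
theorem F212695 : act 2 n47515 = n42958 := d23_1 D47515 (iv D42958) D42956
theorem F212696 : act 3 n47515 = n47515 := d29_1 D47515 (iv D47515) F179435
theorem F212697 : act 5 n47515 = n45588 := d38_1 D47515 (iv D45588) (iv F203844)
theorem F212698 : act 7 n47515 = n47515 := d43_1 D47515 (iv D47515) F179437
def n47516 : Q := act 8 n42958
theorem D47516 : act 8 n42958 = n47516 := rfl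
theorem F212699 : act 1 n47516 = n42999 := d15_1 D47516 (iv D42999) (iv F179441)
theorem F212700 : act 5 n47516 = n45592 := d37_1 D47516 (iv D45592) (iv F203838)
theorem F212701 : act 7 n47516 = n47516 := d42_1 D47516 (iv D47516) F179444
def n47517 : Q := act 7 n42976
theorem D47517 : act 7 n42976 = n47517 := rfl
theorem F212702 : act 0 n47517 = n43026 := d6_1 D47517 (iv D43026) (iv F179510)
theorem F212703 : act 1 n47517 = n46106 := d14_1 D47517 F212637 F212631
theorem F212704 : act 2 n47517 = n43545 := d21_1 D47517 (iv D43545) (iv F179511)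
theorem F212705 : act 4 n47517 = n42977 := d32_1 D47517 (iv D42977) D42976
theorem F212706 : act 5 n47517 = n47517 := d36_1 D47517 (iv D47517) F179512
theorem F212707 : act 6 n47517 = n46109 := d39_1 D47517 F191674 (iv F181571) F203026 (iv F179513)
theorem F212708 : act 9 n47517 = n46110 := d43_2 (iv F204111) D47517 F191677
def n47518 : Q := act 8 n42976
theorem D47518 : act 8 n42976 = n47518 := rfl
theorem F212709 : act 0 n47518 = n43027 := d7_1 D47518 (iv D43027) (iv F179510)
theorem F212710 : act 2 n47518 = n43546 := d22_1 D47518 (iv D43546) (iv F179511)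
theorem F212711 : act 4 n47518 = n42978 := d33_1 D47518 (iv D42978) D42976
theorem F212712 : act 5 n47518 = n47518 := d37_1 D47518 (iv D47518) F179512
theorem F212713 : act 6 n47518 = n45706 := d40_1 D47518 (iv D45706) (iv F179513)
def n47519 : Q := act 6 n42977
theorem D47519 : act 6 n42977 = n47519 := rfl
theorem F212714 : act 0 n47519 = n43028 := d5_1 D47519 (iv D43028) (iv F179514)
theorem F212715 : act 1 n47519 = n46110 := d13_1 D47519 (iv F212643) F212638
theorem F212716 : act 2 n47519 = n43547 := d20_1 D47519 (iv D43547) (iv F179515)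
theorem F212717 : act 3 n47519 = n42985 := d26_1 D47519 (iv D42985) (iv F179516)
theorem F212718 : act 4 n47519 = n46109 := d31_1 D47519 (iv F212707) F212705
theorem F212719 : act 5 n47519 = n47519 := d35_1 D47519 (iv D47519) F179517 F125102 (iv F179517)
theorem F212720 : act 7 n47519 = n45707 := d39_2 D42977 D47519 (iv D45707) (iv D31325) (iv F125097)
theorem F212721 : act 9 n47519 = n46106 := d41_2 (iv F204112) D47519 F191664
def n47520 : Q := act 8 n42977
theorem D47520 : act 8 n42977 = n47520 := rfl
theorem F212722 : act 0 n47520 = n43029 := d7_1 D47520 (iv D43029) (iv F179514)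
theorem F212723 : act 2 n47520 = n43548 := d22_1 D47520 (iv D43548) (iv F179515)
theorem F212724 : act 5 n47520 = n42979 := d37_1 D47520 (iv D42979) (iv F179517)
theorem F212725 : act 7 n47520 = n42978 := d42_1 D47520 (iv D42978) D42977
def n47521 : Q := act 3 n42978
theorem D47521 : act 3 n42978 = n47521 := rfl
theorem F212726 : act 0 n47521 = n43030 := d2_1 D47521 (iv D43030) (iv F179518)
theorem F212727 : act 2 n47521 = n46331 := d17_1 D47521 (iv D46331) F134049 F204409 (iv F179519)
theorem F212728 : act 5 n47521 = n42980 := d25_2 (iv F179520) D47521 (iv D42980)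
theorem F212729 : act 6 n47521 = n45709 := d26_2 (iv F179521) D47521 (iv D45709)
theorem F212730 : act 8 n47521 = n42987 := d28_2 D42978 D47521 (iv D42987) (iv D29493) (iv F125096)
def n47522 : Q := act 9 n42978
theorem D47522 : act 9 n42978 = n47522 := rfl
theorem F212731 : act 0 n47522 = n43031 := d8_1 D47522 (iv D43031) (iv F179518)
theorem F212732 : act 2 n47522 = n43550 := d23_1 D47522 (iv D43550) (iv F179519)
theorem F212733 : act 5 n47522 = n42981 := d38_1 D47522 (iv D42981) (iv F179520)
theorem F212734 : act 6 n47522 = n45710 := d41_1 D47522 (iv D45710) (iv F179521)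
theorem F212735 : act 8 n47522 = n45614 := d44_1 D47522 (iv D45614) F132201 (iv F203895) D42978
def n47523 : Q := act 3 n42979
theorem D47523 : act 3 n42979 = n47523 := rfl
theorem F212736 : act 0 n47523 = n43032 := d2_1 D47523 (iv D43032) (iv F179522)
theorem F212737 : act 2 n47523 = n46335 := d17_1 D47523 (iv D46335) F134063 F204419 (iv F179523)
theorem F212738 : act 6 n47523 = n47523 := d26_2 F179525 D47523 (iv D47523)
theorem F212739 : act 7 n47523 = n42980 := d27_2 (iv F179526) D47523 (iv D42980)
theorem F212740 : act 8 n47523 = n42989 := d28_2 D42979 D47523 (iv D42989) (iv D29494) (iv F125100)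
def n47524 : Q := act 9 n42979
theorem D47524 : act 9 n42979 = n47524 := rfl
theorem F212741 : act 0 n47524 = n43033 := d8_1 D47524 (iv D43033) (iv F179522)
theorem F212742 : act 2 n47524 = n43552 := d23_1 D47524 (iv D43552) (iv F179523)
theorem F212743 : act 4 n47524 = n47524 := d34_1 D47524 (iv D47524) F179524
theorem F212744 : act 6 n47524 = n47524 := d41_1 D47524 (iv D47524) F179525
theorem F212745 : act 7 n47524 = n42981 := d43_1 D47524 (iv D42981) (iv F179526)
theorem F212746 : act 8 n47524 = n45618 := d44_1 D47524 (iv D45618) F132211 (iv F203982) D42979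
def n47525 : Q := act 4 n42980
theorem D47525 : act 4 n42980 = n47525 := rfl
theorem F212747 : act 0 n47525 = n43035 := d3_1 D47525 (iv D43035) (iv F179527)
theorem F212748 : act 2 n47525 = n46338 := d18_1 D47525 (iv D46338) (iv F204196)
theorem F212749 : act 3 n47525 = n47525 := d24_1 D47525 (iv D47525) (iv D42980) F125105 D42980
theorem F212750 : act 6 n47525 = n42983 := d31_2 (iv F179528) D47525 (iv D42983)
theorem F212751 : act 8 n47525 = n42992 := d33_2 (iv F179529) D47525 (iv D42992)
def n47526 : Q := act 9 n42980
theorem D47526 : act 9 n42980 = n47526 := rfl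
theorem F212752 : act 0 n47526 = n43036 := d8_1 D47526 (iv D43036) (iv F179527)
theorem F212753 : act 2 n47526 = n45882 := d23_1 D47526 F190781 (iv F204196)
theorem F212754 : act 3 n47526 = n42981 := d29_1 D47526 (iv D42981) D42980
theorem F212755 : act 6 n47526 = n42984 := d41_1 D47526 (iv D42984) (iv F179528)
def n47527 : Q := act 9 n42983
theorem D47527 : act 9 n42983 = n47527 := rfl
theorem F212756 : act 0 n47527 = n43041 := d8_1 D47527 (iv D43041) (iv F179539)
theorem F212757 : act 2 n47527 = n45885 := d23_1 D47527 F190792 (iv F204201)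
theorem F212758 : act 3 n47527 = n47527 := d29_1 D47527 (iv D47527) F179540
theorem F212759 : act 4 n47527 = n42984 := d34_1 D47527 (iv D42984) D42983
theorem F212760 : act 7 n47527 = n47527 := d43_1 D47527 (iv D47527) F179541
def n47528 : Q := act 8 n42984
theorem D47528 : act 8 n42984 = n47528 := rfl
theorem F212761 : act 0 n47528 = n43042 := d7_1 D47528 (iv D43042) (iv F179543)
theorem F212762 : act 2 n47528 = n45841 := d22_1 D47528 F190646 (iv F204202)
theorem F212763 : act 3 n47528 = n45589 := d28_1 D47528 (iv D45589) F132140 (iv F203984) (iv F179544)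
theorem F212764 : act 5 n47528 = n45721 := d37_1 D47528 (iv D45721) (iv F179545)
theorem F212765 : act 7 n47528 = n47528 := d42_1 D47528 (iv D47528) F179546
theorem F212766 : act 9 n47528 = n42999 := d44_2 D42984 D47528 (iv D42999) (iv D29499) (iv F125110)
def n47529 : Q := act 8 n42985
theorem D47529 : act 8 n42985 = n47529 := rfl
theorem F212767 : act 0 n47529 = n43043 := d7_1 D47529 (iv D43043) (iv F179547)
theorem F212768 : act 2 n47529 = n43012 := d22_1 D47529 (iv D43012) (iv F179548)
theorem F212769 : act 5 n47529 = n47529 := d37_1 D47529 (iv D47529) F179549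
theorem F212770 : act 6 n47529 = n42986 := d40_1 D47529 (iv D42986) D42985
theorem F212771 : act 7 n47529 = n45722 := d42_1 D47529 (iv D45722) (iv F179550)
def n47530 : Q := act 3 n42986
theorem D47530 : act 3 n42986 = n47530 := rfl
theorem F212772 : act 0 n47530 = n43044 := d2_1 D47530 (iv D43044) (iv F179551)
theorem F212773 : act 5 n47530 = n42989 := d25_2 (iv F179553) D47530 (iv D42989)
theorem F212774 : act 7 n47530 = n42987 := d27_2 (iv F179554) D47530 (iv D42987)
def n47531 : Q := act 9 n42986
theorem D47531 : act 9 n42986 = n47531 := rfl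
theorem F212775 : act 0 n47531 = n43045 := d8_1 D47531 (iv D43045) (iv F179551)
theorem F212776 : act 2 n47531 = n43014 := d23_1 D47531 (iv D43014) (iv F179552)
theorem F212777 : act 5 n47531 = n42990 := d38_1 D47531 (iv D42990) (iv F179553)
theorem F212778 : act 7 n47531 = n42988 := d43_1 D47531 (iv D42988) (iv F179554)
def n47532 : Q := act 2 n42987
theorem D47532 : act 2 n42987 = n47532 := rfl
theorem F212779 : act 0 n47532 = n43046 := d1_1 D47532 (iv D43046) (iv F179555)
theorem F212780 : act 3 n47532 = n43015 := d17_2 D42987 D47532 (iv D43015) (iv D29512) (iv F125120)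
theorem F212781 : act 5 n47532 = n42991 := d19_2 (iv F179556) D47532 (iv D42991)
theorem F212782 : act 6 n47532 = n45725 := d20_2 (iv F179557) D47532 (iv D45725)
theorem F212783 : act 8 n47532 = n46331 := d22_2 F212730 D47532 (iv F212727)
def n47533 : Q := act 4 n42987
theorem D47533 : act 4 n42987 = n47533 := rfl
theorem F212784 : act 0 n47533 = n43047 := d3_1 D47533 (iv D43047) (iv F179555)
theorem F212785 : act 6 n47533 = n45726 := d31_2 (iv F179557) D47533 (iv D45726)
def n47534 : Q := act 9 n42987
theorem D47534 : act 9 n42987 = n47534 := rfl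
theorem F212786 : act 0 n47534 = n43048 := d8_1 D47534 (iv D43048) (iv F179555)
theorem F212787 : act 3 n47534 = n42988 := d29_1 D47534 (iv D42988) D42987
theorem F212788 : act 5 n47534 = n42993 := d38_1 D47534 (iv D42993) (iv F179556)
theorem F212789 : act 6 n47534 = n45727 := d41_1 D47534 (iv D45727) (iv F179557)
def n47535 : Q := act 2 n42989
theorem D47535 : act 2 n42989 = n47535 := rfl
theorem F212790 : act 0 n47535 = n43049 := d1_1 D47535 (iv D43049) (iv F179562)
theorem F212791 : act 3 n47535 = n43018 := d17_2 D42989 D47535 (iv D43018) (iv D29514) (iv F125124)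
theorem F212792 : act 6 n47535 = n47535 := d20_2 F179563 D47535 (iv D47535)
theorem F212793 : act 7 n47535 = n42991 := d21_2 (iv F179564) D47535 (iv D42991)
theorem F212794 : act 8 n47535 = n46335 := d22_2 F212740 D47535 (iv F212737)
theorem F212795 : act 1 n46520 = n47535 := d15_3 F212794 (iv F206673) D46520
def n47536 : Q := act 4 n42989
theorem D47536 : act 4 n42989 = n47536 := rfl
theorem F212796 : act 0 n47536 = n43050 := d3_1 D47536 (iv D43050) (iv F179562)
theorem F212797 : act 3 n47536 = n43000 := d24_1 D47536 (iv D43000) (iv D29500) (iv F125125) D42989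
theorem F212798 : act 6 n47536 = n47536 := d31_2 F179563 D47536 (iv D47536)
theorem F212799 : act 7 n47536 = n42992 := d32_2 (iv F179564) D47536 (iv D42992)
def n47537 : Q := act 9 n42989
theorem D47537 : act 9 n42989 = n47537 := rfl
theorem F212800 : act 0 n47537 = n43051 := d8_1 D47537 (iv D43051) (iv F179562)
theorem F212801 : act 3 n47537 = n42990 := d29_1 D47537 (iv D42990) D42989
theorem F212802 : act 6 n47537 = n47537 := d41_1 D47537 (iv D47537) F179563
theorem F212803 : act 7 n47537 = n42993 := d43_1 D47537 (iv D42993) (iv F179564)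
def n47538 : Q := act 1 n42991
theorem D47538 : act 1 n42991 = n47538 := rfl
theorem F212804 : act 3 n47538 = n43020 := d10_2 (iv F179571) D47538 (iv D43020)
theorem F212805 : act 6 n47538 = n42994 := d13_2 (iv F179572) D47538 (iv D42994)
theorem F212806 : act 7 n47538 = n46520 := d14_2 F212793 D47538 F212795
theorem F212807 : act 8 n47538 = n46337 := d15_2 (iv F204205) D47538 F192521
def n47539 : Q := act 4 n42991
theorem D47539 : act 4 n42991 = n47539 := rfl
theorem F212808 : act 0 n47539 = n43053 := d3_1 D47539 (iv D43053) (iv F179570)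
theorem F212809 : act 2 n47539 = n42992 := d18_1 D47539 (iv D42992) D42991
theorem F212810 : act 3 n47539 = n47539 := d24_1 D47539 (iv D47539) F179571 F125220 (iv F179571)
theorem F212811 : act 6 n47539 = n42995 := d31_2 (iv F179572) D47539 (iv D42995)
theorem F212812 : act 8 n47539 = n46338 := d33_2 (iv F204205) D47539 (iv D46338)
def n47540 : Q := act 9 n42991
theorem D47540 : act 9 n42991 = n47540 := rfl
theorem F212813 : act 0 n47540 = n43054 := d8_1 D47540 (iv D43054) (iv F179570)
theorem F212814 : act 2 n47540 = n42993 := d23_1 D47540 (iv D42993) D42991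
theorem F212815 : act 3 n47540 = n43021 := d29_1 D47540 (iv D43021) (iv F179571)
theorem F212816 : act 6 n47540 = n42996 := d41_1 D47540 (iv D42996) (iv F179572)
def n47541 : Q := act 5 n42992
theorem D47541 : act 5 n42992 = n47541 := rfl
theorem F212817 : act 0 n47541 = n43055 := d4_1 D47541 (iv D43055) (iv F179573)
theorem F212818 : act 3 n47541 = n43002 := d25_1 D47541 (iv D43002) (iv F179574)
def n47542 : Q := act 9 n42992
theorem D47542 : act 9 n42992 = n47542 := rfl
theorem F212819 : act 0 n47542 = n43056 := d8_1 D47542 (iv D43056) (iv F179573)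
theorem F212820 : act 3 n47542 = n43003 := d29_1 D47542 (iv D43003) (iv F179574)
theorem F212821 : act 4 n47542 = n42993 := d34_1 D47542 (iv D42993) D42992
theorem F212822 : act 6 n47542 = n42998 := d41_1 D47542 (iv D42998) (iv F179575)
def n47543 : Q := act 8 n42993
theorem D47543 : act 8 n42993 = n47543 := rfl
theorem F212823 : act 0 n47543 = n43057 := d7_1 D47543 (iv D43057) (iv F179576)
theorem F212824 : act 6 n47543 = n42999 := d40_1 D47543 (iv D42999) (iv F179578)
def n47544 : Q := act 9 n42994
theorem D47544 : act 9 n42994 = n47544 := rfl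
theorem F212825 : act 1 n47544 = n42996 := d16_1 D47544 (iv D42996) D42994
theorem F212826 : act 3 n47544 = n43024 := d29_1 D47544 (iv D43024) (iv F179579)
theorem F212827 : act 5 n47544 = n45739 := d38_1 D47544 (iv D45739) (iv F179580)
theorem F212828 : act 7 n47544 = n47544 := d43_1 D47544 (iv D47544) F179581
def n47545 : Q := act 9 n42995
theorem D47545 : act 9 n42995 = n47545 := rfl
theorem F212829 : act 0 n47545 = n43062 := d8_1 D47545 (iv D43062) (iv F179582)
theorem F212830 : act 2 n47545 = n42998 := d23_1 D47545 (iv D42998) (iv F179583)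
theorem F212831 : act 3 n47545 = n47545 := d29_1 D47545 (iv D47545) F179584
theorem F212832 : act 4 n47545 = n42996 := d34_1 D47545 (iv D42996) D42995
theorem F212833 : act 7 n47545 = n47545 := d43_1 D47545 (iv D47545) F179585
def n47546 : Q := act 8 n42996
theorem D47546 : act 8 n42996 = n47546 := rfl
theorem F212834 : act 0 n47546 = n43063 := d7_1 D47546 (iv D43063) (iv F179586)
theorem F212835 : act 2 n47546 = n42999 := d22_1 D47546 (iv D42999) (iv F179587)
theorem F212836 : act 3 n47546 = n45803 := d28_1 D47546 (iv D45803) F132658 (iv F204355) (iv F179588)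
theorem F212837 : act 5 n47546 = n45742 := d37_1 D47546 (iv D45742) (iv F179589)
theorem F212838 : act 7 n47546 = n47546 := d42_1 D47546 (iv D47546) F179590
theorem F212839 : act 9 n47546 = n45841 := d44_2 D42996 D47546 F190646 F132839 F204200
def n47547 : Q := act 8 n42998
theorem D47547 : act 8 n42998 = n47547 := rfl
theorem F212840 : act 0 n47547 = n43066 := d7_1 D47547 (iv D43066) (iv F179595)
theorem F212841 : act 4 n47547 = n42999 := d33_1 D47547 (iv D42999) (iv F179597)
theorem F212842 : act 7 n47547 = n47547 := d42_1 D47547 (iv D47547) F179598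
def n47548 : Q := act 5 n43000
theorem D47548 : act 5 n43000 = n47548 := rfl
theorem F212843 : act 0 n47548 = n43067 := d4_1 D47548 (iv D43067) (iv F179602)
theorem F212844 : act 2 n47548 = n47548 := d19_1 D47548 (iv D47548) F179603
theorem F212845 : act 7 n47548 = n43002 := d36_2 (iv F179605) D47548 (iv D43002)
theorem F212846 : act 8 n47548 = n47548 := d37_2 F179606 D47548 (iv D47548)
def n47549 : Q := act 9 n43000
theorem D47549 : act 9 n43000 = n47549 := rfl
theorem F212847 : act 0 n47549 = n43068 := d8_1 D47549 (iv D43068) (iv F179602)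
theorem F212848 : act 2 n47549 = n47549 := d23_1 D47549 (iv D47549) F179603
theorem F212849 : act 4 n47549 = n43001 := d34_1 D47549 (iv D43001) D43000
theorem F212850 : act 6 n47549 = n47549 := d41_1 D47549 (iv D47549) F179604
theorem F212851 : act 7 n47549 = n43003 := d43_1 D47549 (iv D43003) (iv F179605)
def n47550 : Q := act 8 n43001
theorem D47550 : act 8 n43001 = n47550 := rfl
theorem F212852 : act 0 n47550 = n43069 := d7_1 D47550 (iv D43069) (iv F179607)
theorem F212853 : act 2 n47550 = n47550 := d22_1 D47550 (iv D47550) F179608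
theorem F212854 : act 6 n47550 = n47550 := d40_1 D47550 (iv D47550) F179610
theorem F212855 : act 7 n47550 = n43004 := d42_1 D47550 (iv D43004) (iv F179611)
theorem F212856 : act 9 n47550 = n47550 := d44_2 D43001 D47550 (iv D47550) (iv D43001) F125149
def n47551 : Q := act 9 n43002
theorem D47551 : act 9 n43002 = n47551 := rfl
theorem F212857 : act 0 n47551 = n43071 := d8_1 D47551 (iv D43071) (iv F179612)
theorem F212858 : act 2 n47551 = n47551 := d23_1 D47551 (iv D47551) F179613
theorem F212859 : act 5 n47551 = n43003 := d38_1 D47551 (iv D43003) D43002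
def n47552 : Q := act 8 n43003
theorem D47552 : act 8 n43003 = n47552 := rfl
theorem F212860 : act 0 n47552 = n43072 := d7_1 D47552 (iv D43072) (iv F179615)
theorem F212861 : act 2 n47552 = n47552 := d22_1 D47552 (iv D47552) F179616
theorem F212862 : act 4 n47552 = n43004 := d33_1 D47552 (iv D43004) (iv F179617)
theorem F212863 : act 6 n47552 = n43007 := d40_1 D47552 (iv D43007) (iv F179618)
theorem F212864 : act 9 n47552 = n47552 := d44_2 D43003 D47552 (iv D47552) (iv D43003) F125157
def n47553 : Q := act 3 n43007
theorem D47553 : act 3 n43007 = n47553 := rfl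
theorem F212865 : act 0 n47553 = n43076 := d2_1 D47553 (iv D43076) (iv F179632)
theorem F212866 : act 7 n47553 = n47553 := d27_2 F179635 D47553 (iv D47553)
theorem F212867 : act 9 n47553 = n47553 := d29_2 F179636 D47553 (iv D47553)
def n47554 : Q := act 3 n43012
theorem D47554 : act 3 n43012 = n47554 := rfl
theorem F212868 : act 0 n47554 = n43081 := d2_1 D47554 (iv D43081) (iv F179655)
theorem F212869 : act 1 n47554 = n47554 := d10_1 D47554 (iv D47554) F179656
theorem F212870 : act 5 n47554 = n47554 := d25_2 F179657 D47554 (iv D47554)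
theorem F212871 : act 6 n47554 = n43013 := d26_2 (iv F179658) D47554 (iv D43013)
theorem F212872 : act 7 n47554 = n45760 := d27_2 (iv F179659) D47554 (iv D45760)
theorem F212873 : act 8 n47554 = n43588 := d28_2 D43012 D47554 (iv D43588) (iv D29901) (iv F125192)
def n47555 : Q := act 9 n43012
theorem D47555 : act 9 n43012 = n47555 := rfl
theorem F212874 : act 0 n47555 = n43082 := d8_1 D47555 (iv D43082) (iv F179655)
theorem F212875 : act 1 n47555 = n47555 := d16_1 D47555 (iv D47555) F179656
theorem F212876 : act 5 n47555 = n47555 := d38_1 D47555 (iv D47555) F179657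
theorem F212877 : act 6 n47555 = n43014 := d41_1 D47555 (iv D43014) (iv F179658)
theorem F212878 : act 7 n47555 = n45761 := d43_1 D47555 (iv D45761) (iv F179659)
def n47556 : Q := act 2 n43013
theorem D47556 : act 2 n43013 = n47556 := rfl
theorem F212879 : act 0 n47556 = n43083 := d1_1 D47556 (iv D43083) (iv F179660)
theorem F212880 : act 5 n47556 = n43018 := d19_2 (iv F179662) D47556 (iv D43018)
theorem F212881 : act 7 n47556 = n43015 := d21_2 (iv F179663) D47556 (iv D43015)
theorem F212882 : act 8 n47556 = n43590 := d22_2 (iv F179664) D47556 (iv D43590)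
theorem F212883 : act 1 n46328 = n47556 := d15_3 F212882 F204697 D46328
def n47557 : Q := act 4 n43013
theorem D47557 : act 4 n43013 = n47557 := rfl
theorem F212884 : act 0 n47557 = n43084 := d3_1 D47557 (iv D43084) (iv F179660)
theorem F212885 : act 1 n47557 = n47557 := d11_1 D47557 (iv D47557) F179661
theorem F212886 : act 5 n47557 = n47557 := d30_2 (iv F179662) D47557 (iv D47557) F179662 F125210
theorem F212887 : act 7 n47557 = n43016 := d32_2 (iv F179663) D47557 (iv D43016)
theorem F212888 : act 8 n47557 = n43591 := d33_2 (iv F179664) D47557 (iv D43591)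
def n47558 : Q := act 9 n43013
theorem D47558 : act 9 n43013 = n47558 := rfl
theorem F212889 : act 0 n47558 = n43085 := d8_1 D47558 (iv D43085) (iv F179660)
theorem F212890 : act 1 n47558 = n47558 := d16_1 D47558 (iv D47558) F179661
theorem F212891 : act 3 n47558 = n43014 := d29_1 D47558 (iv D43014) D43013
theorem F212892 : act 5 n47558 = n43019 := d38_1 D47558 (iv D43019) (iv F179662)
theorem F212893 : act 7 n47558 = n43017 := d43_1 D47558 (iv D43017) (iv F179663)
theorem F212894 : act 8 n47558 = n46271 := d44_1 D47558 (iv D46271) F133896 (iv F204381) (iv F179664)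
def n47559 : Q := act 1 n43015
theorem D47559 : act 1 n43015 = n47559 := rfl
theorem F212895 : act 2 n47559 = n47559 := d9_2 D43015 D47559 (iv D47559) (iv D43015) F125200
theorem F212896 : act 5 n47559 = n43020 := d12_2 (iv F179670) D47559 (iv D43020)
theorem F212897 : act 6 n47559 = n45765 := d13_2 (iv F179671) D47559 (iv D45765)
theorem F212898 : act 7 n47559 = n46328 := d14_2 F212881 D47559 F212883
theorem F212899 : act 8 n47559 = n43593 := d15_2 (iv F179672) D47559 (iv D43593)
def n47560 : Q := act 4 n43015
theorem D47560 : act 4 n43015 = n47560 := rfl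
theorem F212900 : act 0 n47560 = n43087 := d3_1 D47560 (iv D43087) (iv F179669)
theorem F212901 : act 2 n47560 = n43016 := d18_1 D47560 (iv D43016) D43015
theorem F212902 : act 5 n47560 = n47560 := d30_2 (iv F179670) D47560 (iv D47560) F179670 F125220
theorem F212903 : act 6 n47560 = n45766 := d31_2 (iv F179671) D47560 (iv D45766)
theorem F212904 : act 8 n47560 = n43594 := d33_2 (iv F179672) D47560 (iv D43594)
def n47561 : Q := act 9 n43015
theorem D47561 : act 9 n43015 = n47561 := rfl
theorem F212905 : act 0 n47561 = n43088 := d8_1 D47561 (iv D43088) (iv F179669)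
theorem F212906 : act 2 n47561 = n43017 := d23_1 D47561 (iv D43017) D43015
theorem F212907 : act 5 n47561 = n43021 := d38_1 D47561 (iv D43021) (iv F179670)
theorem F212908 : act 6 n47561 = n45767 := d41_1 D47561 (iv D45767) (iv F179671)
theorem F212909 : act 8 n47561 = n46274 := d44_1 D47561 (iv D46274) F133901 (iv F204507) (iv F179672)
def n47562 : Q := act 9 n43016
theorem D47562 : act 9 n43016 = n47562 := rfl
theorem F212910 : act 0 n47562 = n43089 := d8_1 D47562 (iv D43089) (iv F179673)
theorem F212911 : act 1 n47562 = n47562 := d16_1 D47562 (iv D47562) F179674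
theorem F212912 : act 4 n47562 = n43017 := d34_1 D47562 (iv D43017) D43016
theorem F212913 : act 5 n47562 = n47562 := d38_1 D47562 (iv D47562) F179675
theorem F212914 : act 6 n47562 = n45768 := d41_1 D47562 (iv D45768) (iv F179676)
theorem F212915 : act 8 n47562 = n46275 := d44_1 D47562 (iv D46275) F133904 (iv F204510) (iv F179677)
def n47563 : Q := act 9 n43018
theorem D47563 : act 9 n43018 = n47563 := rfl
theorem F212916 : act 0 n47563 = n43092 := d8_1 D47563 (iv D43092) (iv F179683)
theorem F212917 : act 1 n47563 = n46526 := d16_1 D47563 (iv D46526) F206675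
theorem F212918 : act 2 n47563 = n43019 := d23_1 D47563 (iv D43019) D43018
theorem F212919 : act 4 n47563 = n47563 := d34_1 D47563 (iv D47563) F179684
theorem F212920 : act 6 n47563 = n47563 := d41_1 D47563 (iv D47563) F179685
theorem F212921 : act 7 n47563 = n43021 := d43_1 D47563 (iv D43021) (iv F179686)
theorem F212922 : act 8 n47563 = n46278 := d44_1 D47563 (iv D46278) F133911 (iv F204382) (iv F179687)
def n47564 : Q := act 0 n43020
theorem D47564 : act 0 n43020 = n47564 := rfl
theorem F212923 : act 1 n47564 = n43094 := d0_2 D43020 D47564 (iv D43094) (iv D29565) (iv F125219)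
theorem F212924 : act 2 n47564 = n47564 := d1_2 F179694 D47564 (iv D47564)
theorem F212925 : act 4 n47564 = n47564 := d3_2 F179695 D47564 (iv D47564)
theorem F212926 : act 6 n47564 = n43023 := d5_2 (iv F179696) D47564 (iv D43023)
theorem F212927 : act 7 n47564 = n46523 := d6_2 (iv F206676) D47564 F207575
theorem F212928 : act 8 n47564 = n43601 := d7_2 (iv F179697) D47564 (iv D43601)
def n47565 : Q := act 9 n43020
theorem D47565 : act 9 n43020 = n47565 := rfl
theorem F212929 : act 1 n47565 = n43021 := d16_1 D47565 (iv D43021) D43020
theorem F212930 : act 2 n47565 = n47565 := d23_1 D47565 (iv D47565) F179694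
theorem F212931 : act 4 n47565 = n47565 := d34_1 D47565 (iv D47565) F179695
theorem F212932 : act 6 n47565 = n43024 := d41_1 D47565 (iv D43024) (iv F179696)
theorem F212933 : act 7 n47565 = n46526 := d43_1 D47565 (iv D46526) (iv F206676)
theorem F212934 : act 8 n47565 = n46281 := d44_1 D47565 (iv D46281) F133920 (iv F204515) (iv F179697)
def n47566 : Q := act 9 n43023
theorem D47566 : act 9 n43023 = n47566 := rfl
theorem F212935 : act 0 n47566 = n43024 := d8_1 D47566 (iv D43024) D43023
theorem F212936 : act 1 n47566 = n43097 := d16_1 D47566 (iv D43097) (iv F179707)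
theorem F212937 : act 2 n47566 = n47566 := d23_1 D47566 (iv D47566) F179708
theorem F212938 : act 4 n47566 = n47566 := d34_1 D47566 (iv D47566) F179709
theorem F212939 : act 5 n47566 = n45776 := d38_1 D47566 (iv D45776) (iv F179710)
theorem F212940 : act 7 n47566 = n47566 := d43_1 D47566 (iv D47566) F179711
theorem F212941 : act 8 n47566 = n46283 := d44_1 D47566 (iv D46283) F133931 (iv F204517) (iv F179712)
def n47567 : Q := act 6 n43026
theorem D47567 : act 6 n43026 = n47567 := rfl
theorem F212942 : act 0 n47567 = n46109 := d5_1 D47567 (iv F212707) F212702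
theorem F212943 : act 1 n47567 = n46552 := d13_1 D47567 (iv F209710) F209705
theorem F212944 : act 2 n47567 = n43607 := d20_1 D47567 (iv D43607) (iv F179724)
theorem F212945 : act 3 n47567 = n46535 := d26_1 D47567 (iv F211762) F211759
theorem F212946 : act 4 n47567 = n43028 := d31_1 D47567 (iv D43028) (iv F179725)
theorem F212947 : act 7 n47567 = n45779 := d39_2 D43026 D47567 (iv D45779) (iv D31374) (iv F125246)
theorem F212948 : act 5 n46121 = n47567 := d36_3 F212947 F204076 (iv F191711)
def n47568 : Q := act 8 n43026
theorem D47568 : act 8 n43026 = n47568 := rfl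
theorem F212949 : act 2 n47568 = n43608 := d22_1 D47568 (iv D43608) (iv F179724)
theorem F212950 : act 4 n47568 = n43029 := d33_1 D47568 (iv D43029) (iv F179725)
theorem F212951 : act 5 n47568 = n47568 := d37_1 D47568 (iv D47568) F179726
theorem F212952 : act 7 n47568 = n43027 := d42_1 D47568 (iv D43027) D43026
def n47569 : Q := act 3 n43027
theorem D47569 : act 3 n43027 = n47569 := rfl
theorem F212953 : act 5 n47569 = n47569 := d25_2 F179729 D47569 (iv D47569)
theorem F212954 : act 6 n47569 = n45781 := d26_2 (iv F179730) D47569 (iv D45781)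
def n47570 : Q := act 9 n43027
theorem D47570 : act 9 n43027 = n47570 := rfl
theorem F212955 : act 2 n47570 = n43610 := d23_1 D47570 (iv D43610) (iv F179727)
theorem F212956 : act 4 n47570 = n43031 := d34_1 D47570 (iv D43031) (iv F179728)
theorem F212957 : act 5 n47570 = n47570 := d38_1 D47570 (iv D47570) F179729
theorem F212958 : act 6 n47570 = n45782 := d41_1 D47570 (iv D45782) (iv F179730)
def n47571 : Q := act 8 n43028
theorem D47571 : act 8 n43028 = n47571 := rfl
theorem F212959 : act 2 n47571 = n43611 := d22_1 D47571 (iv D43611) (iv F179731)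
theorem F212960 : act 5 n47571 = n47571 := d37_1 D47571 (iv D47571) F179733
theorem F212961 : act 6 n47571 = n43029 := d40_1 D47571 (iv D43029) D43028
theorem F212962 : act 7 n47571 = n45783 := d42_1 D47571 (iv D45783) (iv F179734)
def n47572 : Q := act 3 n43029
theorem D47572 : act 3 n43029 = n47572 := rfl
theorem F212963 : act 5 n47572 = n43032 := d25_2 (iv F179736) D47572 (iv D43032)
theorem F212964 : act 7 n47572 = n43030 := d27_2 (iv F179737) D47572 (iv D43030)
theorem F212965 : act 8 n47572 = n43044 := d28_2 D43029 D47572 (iv D43044) (iv D29531) (iv F125248)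
def n47573 : Q := act 9 n43029
theorem D47573 : act 9 n43029 = n47573 := rfl
theorem F212966 : act 2 n47573 = n43613 := d23_1 D47573 (iv D43613) (iv F179735)
theorem F212967 : act 5 n47573 = n43033 := d38_1 D47573 (iv D43033) (iv F179736)
theorem F212968 : act 7 n47573 = n43031 := d43_1 D47573 (iv D43031) (iv F179737)
def n47574 : Q := act 2 n43030
theorem D47574 : act 2 n43030 = n47574 := rfl
theorem F212969 : act 0 n47574 = n46331 := d1_1 D47574 (iv F212727) F212726
theorem F212970 : act 3 n47574 = n43614 := d17_2 D43030 D47574 (iv D43614) (iv D29919) (iv F125250)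
theorem F212971 : act 5 n47574 = n43034 := d19_2 (iv F179738) D47574 (iv D43034)
theorem F212972 : act 6 n47574 = n45786 := d20_2 (iv F179739) D47574 (iv D45786)
theorem F212973 : act 8 n47574 = n43046 := d22_2 (iv F179740) D47574 (iv D43046)
def n47575 : Q := act 4 n43030
theorem D47575 : act 4 n43030 = n47575 := rfl
theorem F212974 : act 6 n47575 = n45787 := d31_2 (iv F179739) D47575 (iv D45787)
theorem F212975 : act 8 n47575 = n43047 := d33_2 (iv F179740) D47575 (iv D43047)
def n47576 : Q := act 9 n43030
theorem D47576 : act 9 n43030 = n47576 := rfl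
theorem F212976 : act 3 n47576 = n43031 := d29_1 D47576 (iv D43031) D43030
theorem F212977 : act 5 n47576 = n43036 := d38_1 D47576 (iv D43036) (iv F179738)
theorem F212978 : act 6 n47576 = n45788 := d41_1 D47576 (iv D45788) (iv F179739)
def n47577 : Q := act 2 n43032
theorem D47577 : act 2 n43032 = n47577 := rfl
theorem F212979 : act 0 n47577 = n46335 := d1_1 D47577 (iv F212737) F212736
theorem F212980 : act 3 n47577 = n43617 := d17_2 D43032 D47577 (iv D43617) (iv D29921) (iv F125253)
theorem F212981 : act 6 n47577 = n47577 := d20_2 F179744 D47577 (iv D47577)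
theorem F212982 : act 7 n47577 = n43034 := d21_2 (iv F179745) D47577 (iv D43034)
theorem F212983 : act 8 n47577 = n43049 := d22_2 (iv F179746) D47577 (iv D43049)
def n47578 : Q := act 4 n43032
theorem D47578 : act 4 n43032 = n47578 := rfl
theorem F212984 : act 3 n47578 = n47578 := d24_1 D47578 (iv D47578) (iv D43032) F125254 D43032
theorem F212985 : act 6 n47578 = n47578 := d31_2 F179744 D47578 (iv D47578)
theorem F212986 : act 7 n47578 = n43035 := d32_2 (iv F179745) D47578 (iv D43035)
theorem F212987 : act 8 n47578 = n43050 := d33_2 (iv F179746) D47578 (iv D43050)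
def n47579 : Q := act 9 n43032
theorem D47579 : act 9 n43032 = n47579 := rfl
theorem F212988 : act 3 n47579 = n43033 := d29_1 D47579 (iv D43033) D43032
theorem F212989 : act 6 n47579 = n47579 := d41_1 D47579 (iv D47579) F179744
theorem F212990 : act 7 n47579 = n43036 := d43_1 D47579 (iv D43036) (iv F179745)
def n47580 : Q := act 1 n43034
theorem D47580 : act 1 n43034 = n47580 := rfl
theorem F212991 : act 3 n47580 = n43620 := d10_2 (iv F179751) D47580 (iv D43620)
theorem F212992 : act 6 n47580 = n43037 := d13_2 (iv F179752) D47580 (iv D43037)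
theorem F212993 : act 8 n47580 = n43052 := d15_2 (iv F179753) D47580 (iv D43052)
def n47581 : Q := act 4 n43034
theorem D47581 : act 4 n43034 = n47581 := rfl
theorem F212994 : act 0 n47581 = n46338 := d3_1 D47581 (iv D46338) (iv F204217)
theorem F212995 : act 2 n47581 = n43035 := d18_1 D47581 (iv D43035) D43034
theorem F212996 : act 3 n47581 = n46525 := d24_1 D47581 (iv D46525) (iv D32331) F204474 (iv F179751)
theorem F212997 : act 6 n47581 = n43038 := d31_2 (iv F179752) D47581 (iv D43038)
theorem F212998 : act 8 n47581 = n43053 := d33_2 (iv F179753) D47581 (iv D43053)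
def n47582 : Q := act 9 n43034
theorem D47582 : act 9 n43034 = n47582 := rfl
theorem F212999 : act 0 n47582 = n45882 := d8_1 D47582 F190781 (iv F204217)
theorem F213000 : act 2 n47582 = n43036 := d23_1 D47582 (iv D43036) D43034
theorem F213001 : act 3 n47582 = n43622 := d29_1 D47582 (iv D43622) (iv F179751)
theorem F213002 : act 6 n47582 = n43039 := d41_1 D47582 (iv D43039) (iv F179752)
def n47583 : Q := act 5 n43035
theorem D47583 : act 5 n43035 = n47583 := rfl
theorem F213003 : act 3 n47583 = n47583 := d25_1 D47583 (iv D47583) F179754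
theorem F213004 : act 8 n47583 = n43055 := d37_2 (iv F179756) D47583 (iv D43055)
def n47584 : Q := act 9 n43035
theorem D47584 : act 9 n43035 = n47584 := rfl
theorem F213005 : act 3 n47584 = n47584 := d29_1 D47584 (iv D47584) F179754
theorem F213006 : act 4 n47584 = n43036 := d34_1 D47584 (iv D43036) D43035
theorem F213007 : act 6 n47584 = n43041 := d41_1 D47584 (iv D43041) (iv F179755)
def n47585 : Q := act 8 n43036
theorem D47585 : act 8 n43036 = n47585 := rfl
theorem F213008 : act 6 n47585 = n43042 := d40_1 D47585 (iv D43042) (iv F179758)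
theorem F213009 : act 9 n47585 = n43057 := d44_2 D43036 D47585 (iv D43057) (iv D29538) (iv F125258)
def n47586 : Q := act 9 n43037
theorem D47586 : act 9 n43037 = n47586 := rfl
theorem F213010 : act 1 n47586 = n43039 := d16_1 D47586 (iv D43039) D43037
theorem F213011 : act 3 n47586 = n43628 := d29_1 D47586 (iv D43628) (iv F179759)
theorem F213012 : act 5 n47586 = n45800 := d38_1 D47586 (iv D45800) (iv F179760)
theorem F213013 : act 7 n47586 = n47586 := d43_1 D47586 (iv D47586) F179761
def n47587 : Q := act 5 n43038
theorem D47587 : act 5 n43038 = n47587 := rfl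
theorem F213014 : act 0 n47587 = n44835 := d4_1 D47587 F204546 (iv F204215)
theorem F213015 : act 1 n47587 = n44899 := d12_1 D47587 (iv F209844) F209841
theorem F213016 : act 2 n47587 = n43040 := d19_1 D47587 (iv D43040) (iv F179763)
theorem F213017 : act 3 n47587 = n44864 := d25_1 D47587 F204551 (iv F204216)
theorem F213018 : act 4 n47587 = n45801 := d30_1 D47587 (iv D45801) (iv D31386) (iv F125263) D43038
theorem F213019 : act 7 n47587 = n47587 := d36_2 F179764 D47587 (iv D47587)
theorem F213020 : act 8 n47587 = n43061 := d37_2 (iv F179765) D47587 (iv D43061)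
def n47588 : Q := act 9 n43038
theorem D47588 : act 9 n43038 = n47588 := rfl
theorem F213021 : act 0 n47588 = n45885 := d8_1 D47588 F190792 (iv F204215)
theorem F213022 : act 2 n47588 = n43041 := d23_1 D47588 (iv D43041) (iv F179763)
theorem F213023 : act 3 n47588 = n46470 := d29_1 D47588 F207366 (iv F204216)
theorem F213024 : act 4 n47588 = n43039 := d34_1 D47588 (iv D43039) D43038
theorem F213025 : act 7 n47588 = n47588 := d43_1 D47588 (iv D47588) F179764
def n47589 : Q := act 8 n43039
theorem D47589 : act 8 n43039 = n47589 := rfl
theorem F213026 : act 0 n47589 = n45841 := d7_1 D47589 F190646 (iv F204218)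
theorem F213027 : act 2 n47589 = n43042 := d22_1 D47589 (iv D43042) (iv F179766)
theorem F213028 : act 3 n47589 = n45742 := d28_1 D47589 (iv D45742) F132496 (iv F204362) (iv F179767)
theorem F213029 : act 5 n47589 = n45803 := d37_1 D47589 (iv D45803) (iv F179768)
theorem F213030 : act 7 n47589 = n47589 := d42_1 D47589 (iv D47589) F179769
theorem F213031 : act 9 n47589 = n43063 := d44_2 D43039 D47589 (iv D43063) (iv D29541) (iv F125265)
def n47590 : Q := act 6 n43040
theorem D47590 : act 6 n43040 = n47590 := rfl
theorem F213032 : act 3 n47590 = n47590 := d26_1 D47590 (iv D47590) F179770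
theorem F213033 : act 4 n47590 = n45804 := d31_1 D47590 (iv D45804) (iv F179771)
theorem F213034 : act 8 n47590 = n43064 := d40_2 (iv F179773) D47590 (iv D43064)
def n47591 : Q := act 9 n43040
theorem D47591 : act 9 n43040 = n47591 := rfl
theorem F213035 : act 3 n47591 = n47591 := d29_1 D47591 (iv D47591) F179770
theorem F213036 : act 4 n47591 = n45805 := d34_1 D47591 (iv D45805) (iv F179771)
theorem F213037 : act 5 n47591 = n43041 := d38_1 D47591 (iv D43041) D43040
theorem F213038 : act 7 n47591 = n47591 := d43_1 D47591 (iv D47591) F179772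
def n47592 : Q := act 8 n43041
theorem D47592 : act 8 n43041 = n47592 := rfl
theorem F213039 : act 4 n47592 = n43042 := d33_1 D47592 (iv D43042) (iv F179775)
theorem F213040 : act 7 n47592 = n47592 := d42_1 D47592 (iv D47592) F179776
theorem F213041 : act 9 n47592 = n43066 := d44_2 D43041 D47592 (iv D43066) (iv D29543) (iv F125268)
def n47593 : Q := act 3 n43043
theorem D47593 : act 3 n43043 = n47593 := rfl
theorem F213042 : act 5 n47593 = n47593 := d25_2 F179781 D47593 (iv D47593)
theorem F213043 : act 6 n47593 = n43044 := d26_2 (iv F179782) D47593 (iv D43044)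
theorem F213044 : act 7 n47593 = n45807 := d27_2 (iv F179783) D47593 (iv D45807)
def n47594 : Q := act 9 n43043
theorem D47594 : act 9 n43043 = n47594 := rfl
theorem F213045 : act 2 n47594 = n43082 := d23_1 D47594 (iv D43082) (iv F179780)
theorem F213046 : act 5 n47594 = n47594 := d38_1 D47594 (iv D47594) F179781
theorem F213047 : act 6 n47594 = n43045 := d41_1 D47594 (iv D43045) (iv F179782)
theorem F213048 : act 7 n47594 = n45808 := d43_1 D47594 (iv D45808) (iv F179783)
def n47595 : Q := act 2 n43044
theorem D47595 : act 2 n43044 = n47595 := rfl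
theorem F213049 : act 3 n47595 = n43083 := d17_2 D43044 D47595 (iv D43083) (iv D29558) (iv F125275)
theorem F213050 : act 5 n47595 = n43049 := d19_2 (iv F179784) D47595 (iv D43049)
theorem F213051 : act 7 n47595 = n43046 := d21_2 (iv F179785) D47595 (iv D43046)
def n47596 : Q := act 4 n43044
theorem D47596 : act 4 n43044 = n47596 := rfl
theorem F213052 : act 7 n47596 = n43047 := d32_2 (iv F179785) D47596 (iv D43047)
def n47597 : Q := act 9 n43044
theorem D47597 : act 9 n43044 = n47597 := rfl
theorem F213053 : act 3 n47597 = n43045 := d29_1 D47597 (iv D43045) D43044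
theorem F213054 : act 5 n47597 = n43051 := d38_1 D47597 (iv D43051) (iv F179784)
theorem F213055 : act 7 n47597 = n43048 := d43_1 D47597 (iv D43048) (iv F179785)
def n47598 : Q := act 1 n43046
theorem D47598 : act 1 n43046 = n47598 := rfl
theorem F213056 : act 3 n47598 = n43086 := d10_2 (iv F179789) D47598 (iv D43086)
theorem F213057 : act 5 n47598 = n43052 := d12_2 (iv F179790) D47598 (iv D43052)
theorem F213058 : act 6 n47598 = n45812 := d13_2 (iv F179791) D47598 (iv D45812)
def n47599 : Q := act 4 n43046
theorem D47599 : act 4 n43046 = n47599 := rfl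
theorem F213059 : act 2 n47599 = n43047 := d18_1 D47599 (iv D43047) D43046
theorem F213060 : act 6 n47599 = n45813 := d31_2 (iv F179791) D47599 (iv D45813)
def n47600 : Q := act 9 n43046
theorem D47600 : act 9 n43046 = n47600 := rfl
theorem F213061 : act 2 n47600 = n43048 := d23_1 D47600 (iv D43048) D43046
theorem F213062 : act 3 n47600 = n43088 := d29_1 D47600 (iv D43088) (iv F179789)
theorem F213063 : act 5 n47600 = n43054 := d38_1 D47600 (iv D43054) (iv F179790)
theorem F213064 : act 6 n47600 = n45814 := d41_1 D47600 (iv D45814) (iv F179791)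
def n47601 : Q := act 5 n43047
theorem D47601 : act 5 n43047 = n47601 := rfl
theorem F213065 : act 4 n47601 = n43055 := d30_1 D47601 (iv D43055) (iv D29537) (iv F125278) D43047
def n47602 : Q := act 9 n43047
theorem D47602 : act 9 n43047 = n47602 := rfl
theorem F213066 : act 4 n47602 = n43048 := d34_1 D47602 (iv D43048) D43047
theorem F213067 : act 6 n47602 = n45816 := d41_1 D47602 (iv D45816) (iv F179792)
def n47603 : Q := act 8 n43048
theorem D47603 : act 8 n43048 = n47603 := rfl
theorem F213068 : act 5 n47603 = n43057 := d37_1 D47603 (iv D43057) (iv F179794)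
theorem F213069 : act 6 n47603 = n45817 := d40_1 D47603 (iv D45817) (iv F179795)
def n47604 : Q := act 1 n43049
theorem D47604 : act 1 n43049 = n47604 := rfl
theorem F213070 : act 3 n47604 = n43091 := d10_2 (iv F179796) D47604 (iv D43091)
theorem F213071 : act 6 n47604 = n47604 := d13_2 F179797 D47604 (iv D47604)
theorem F213072 : act 7 n47604 = n43052 := d14_2 (iv F179798) D47604 (iv D43052)
def n47605 : Q := act 4 n43049
theorem D47605 : act 4 n43049 = n47605 := rfl
theorem F213073 : act 2 n47605 = n43050 := d18_1 D47605 (iv D43050) D43049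
theorem F213074 : act 3 n47605 = n47605 := d24_1 D47605 (iv D47605) F179796 F125376 (iv F179796)
theorem F213075 : act 6 n47605 = n47605 := d31_2 F179797 D47605 (iv D47605)
theorem F213076 : act 7 n47605 = n43053 := d32_2 (iv F179798) D47605 (iv D43053)
def n47606 : Q := act 9 n43049
theorem D47606 : act 9 n43049 = n47606 := rfl
theorem F213077 : act 2 n47606 = n43051 := d23_1 D47606 (iv D43051) D43049
theorem F213078 : act 3 n47606 = n43092 := d29_1 D47606 (iv D43092) (iv F179796)
theorem F213079 : act 6 n47606 = n47606 := d41_1 D47606 (iv D47606) F179797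
theorem F213080 : act 7 n47606 = n43054 := d43_1 D47606 (iv D43054) (iv F179798)
def n47607 : Q := act 5 n43050
theorem D47607 : act 5 n43050 = n47607 := rfl
theorem F213081 : act 3 n47607 = n43067 := d25_1 D47607 (iv D43067) (iv F179799)
theorem F213082 : act 7 n47607 = n43055 := d36_2 (iv F179801) D47607 (iv D43055)
def n47608 : Q := act 9 n43050
theorem D47608 : act 9 n43050 = n47608 := rfl
theorem F213083 : act 3 n47608 = n43068 := d29_1 D47608 (iv D43068) (iv F179799)
theorem F213084 : act 4 n47608 = n43051 := d34_1 D47608 (iv D43051) D43050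
theorem F213085 : act 6 n47608 = n47608 := d41_1 D47608 (iv D47608) F179800
theorem F213086 : act 7 n47608 = n43056 := d43_1 D47608 (iv D43056) (iv F179801)
def n47609 : Q := act 8 n43051
theorem D47609 : act 8 n43051 = n47609 := rfl
theorem F213087 : act 6 n47609 = n47609 := d40_1 D47609 (iv D47609) F179803
theorem F213088 : act 7 n47609 = n43057 := d42_1 D47609 (iv D43057) (iv F179804)
def n47610 : Q := act 0 n43052
theorem D47610 : act 0 n43052 = n47610 := rfl
theorem F213089 : act 3 n47610 = n43094 := d2_2 (iv F179805) D47610 (iv D43094)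
theorem F213090 : act 6 n47610 = n43058 := d5_2 (iv F179806) D47610 (iv D43058)
def n47611 : Q := act 4 n43052
theorem D47611 : act 4 n43052 = n47611 := rfl
theorem F213091 : act 1 n47611 = n43053 := d11_1 D47611 (iv D43053) D43052
theorem F213092 : act 3 n47611 = n47611 := d24_1 D47611 (iv D47611) F179805 F125386 (iv F179805)
theorem F213093 : act 6 n47611 = n43059 := d31_2 (iv F179806) D47611 (iv D43059)
def n47612 : Q := act 9 n43052
theorem D47612 : act 9 n43052 = n47612 := rfl
theorem F213094 : act 1 n47612 = n43054 := d16_1 D47612 (iv D43054) D43052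
theorem F213095 : act 3 n47612 = n43095 := d29_1 D47612 (iv D43095) (iv F179805)
theorem F213096 : act 6 n47612 = n43060 := d41_1 D47612 (iv D43060) (iv F179806)
def n47613 : Q := act 5 n43053
theorem D47613 : act 5 n43053 = n47613 := rfl
theorem F213097 : act 2 n47613 = n43055 := d19_1 D47613 (iv D43055) (iv F179807)
theorem F213098 : act 3 n47613 = n47613 := d25_1 D47613 (iv D47613) F179808
def n47614 : Q := act 9 n43053
theorem D47614 : act 9 n43053 = n47614 := rfl
theorem F213099 : act 2 n47614 = n43056 := d23_1 D47614 (iv D43056) (iv F179807)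
theorem F213100 : act 3 n47614 = n47614 := d29_1 D47614 (iv D47614) F179808
theorem F213101 : act 4 n47614 = n43054 := d34_1 D47614 (iv D43054) D43053
theorem F213102 : act 6 n47614 = n43062 := d41_1 D47614 (iv D43062) (iv F179809)
def n47615 : Q := act 8 n43054
theorem D47615 : act 8 n43054 = n47615 := rfl
theorem F213103 : act 2 n47615 = n43057 := d22_1 D47615 (iv D43057) (iv F179810)
theorem F213104 : act 6 n47615 = n43063 := d40_1 D47615 (iv D43063) (iv F179812)
def n47616 : Q := act 6 n43055
theorem D47616 : act 6 n43055 = n47616 := rfl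
theorem F213105 : act 3 n47616 = n43070 := d26_1 D47616 (iv D43070) (iv F179813)
theorem F213106 : act 5 n47616 = n43064 := d35_1 D47616 (iv D43064) (iv D29542) (iv F125292) D43055
def n47617 : Q := act 9 n43055
theorem D47617 : act 9 n43055 = n47617 := rfl
theorem F213107 : act 3 n47617 = n43071 := d29_1 D47617 (iv D43071) (iv F179813)
theorem F213108 : act 5 n47617 = n43056 := d38_1 D47617 (iv D43056) D43055
def n47618 : Q := act 8 n43056
theorem D47618 : act 8 n43056 = n47618 := rfl
theorem F213109 : act 4 n47618 = n43057 := d33_1 D47618 (iv D43057) (iv F179815)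
theorem F213110 : act 6 n47618 = n43066 := d40_1 D47618 (iv D43066) (iv F179816)
def n47619 : Q := act 9 n43058
theorem D47619 : act 9 n43058 = n47619 := rfl
theorem F213111 : act 0 n47619 = n43060 := d8_1 D47619 (iv D43060) D43058
theorem F213112 : act 3 n47619 = n43097 := d29_1 D47619 (iv D43097) (iv F179818)
theorem F213113 : act 5 n47619 = n45834 := d38_1 D47619 (iv D45834) (iv F179819)
theorem F213114 : act 7 n47619 = n47619 := d43_1 D47619 (iv D47619) F179820
def n47620 : Q := act 5 n43059
theorem D47620 : act 5 n43059 = n47620 := rfl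
theorem F213115 : act 0 n47620 = n44878 := d4_1 D47620 (iv F209756) F209753
theorem F213116 : act 1 n47620 = n43061 := d12_1 D47620 (iv D43061) (iv F179821)
theorem F213117 : act 2 n47620 = n45798 := d19_1 D47620 F209854 F209850
theorem F213118 : act 3 n47620 = n47620 := d25_1 D47620 (iv D47620) F179822
theorem F213119 : act 4 n47620 = n45835 := d30_1 D47620 (iv D45835) (iv D31407) (iv F125296) D43059
theorem F213120 : act 7 n47620 = n47620 := d36_2 F179823 D47620 (iv D47620)
theorem F213121 : act 8 n47620 = n44899 := d37_2 F209846 D47620 (iv F209844)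
def n47621 : Q := act 9 n43059
theorem D47621 : act 9 n43059 = n47621 := rfl
theorem F213122 : act 1 n47621 = n43062 := d16_1 D47621 (iv D43062) (iv F179821)
theorem F213123 : act 3 n47621 = n47621 := d29_1 D47621 (iv D47621) F179822
theorem F213124 : act 4 n47621 = n43060 := d34_1 D47621 (iv D43060) D43059
theorem F213125 : act 7 n47621 = n47621 := d43_1 D47621 (iv D47621) F179823
def n47622 : Q := act 8 n43060
theorem D47622 : act 8 n43060 = n47622 := rfl
theorem F213126 : act 1 n47622 = n43063 := d15_1 D47622 (iv D43063) (iv F179824)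
theorem F213127 : act 5 n47622 = n45837 := d37_1 D47622 (iv D45837) (iv F179826)
theorem F213128 : act 7 n47622 = n47622 := d42_1 D47622 (iv D47622) F179827
def n47623 : Q := act 6 n43061
theorem D47623 : act 6 n43061 = n47623 := rfl
theorem F213129 : act 2 n47623 = n43064 := d20_1 D47623 (iv D43064) (iv F179828)
theorem F213130 : act 3 n47623 = n47623 := d26_1 D47623 (iv D47623) F179829
theorem F213131 : act 4 n47623 = n45838 := d31_1 D47623 (iv D45838) (iv F179830)
def n47624 : Q := act 9 n43061
theorem D47624 : act 9 n43061 = n47624 := rfl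
theorem F213132 : act 2 n47624 = n43065 := d23_1 D47624 (iv D43065) (iv F179828)
theorem F213133 : act 3 n47624 = n47624 := d29_1 D47624 (iv D47624) F179829
theorem F213134 : act 4 n47624 = n45839 := d34_1 D47624 (iv D45839) (iv F179830)
theorem F213135 : act 5 n47624 = n43062 := d38_1 D47624 (iv D43062) D43061
theorem F213136 : act 7 n47624 = n47624 := d43_1 D47624 (iv D47624) F179831
def n47625 : Q := act 8 n43062
theorem D47625 : act 8 n43062 = n47625 := rfl
theorem F213137 : act 2 n47625 = n43066 := d22_1 D47625 (iv D43066) (iv F179832)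
theorem F213138 : act 4 n47625 = n43063 := d33_1 D47625 (iv D43063) (iv F179834)
theorem F213139 : act 7 n47625 = n47625 := d42_1 D47625 (iv D47625) F179835
def n47626 : Q := act 3 n43063
theorem D47626 : act 3 n43063 = n47626 := rfl
theorem F213140 : act 0 n47626 = n45803 := d2_1 D47626 (iv F212836) F212834
theorem F213141 : act 2 n47626 = n45721 := d17_1 D47626 (iv F212452) F212451 F179231 (iv F179836)
theorem F213142 : act 5 n47626 = n45841 := d25_2 (iv F179837) D47626 (iv D45841)
theorem F213143 : act 7 n47626 = n47626 := d27_2 F179838 D47626 (iv D47626)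
theorem F213144 : act 8 n47626 = n43099 := d28_2 D43063 D47626 (iv D43099) (iv D29570) (iv F125302)
theorem F213145 : act 9 n47626 = n45742 := d29_2 F213031 D47626 (iv F213028)
def n47627 : Q := act 7 n43064
theorem D47627 : act 7 n43064 = n47627 := rfl
theorem F213146 : act 3 n47627 = n43073 := d27_1 D47627 (iv D43073) (iv F179839)
theorem F213147 : act 4 n47627 = n45842 := d32_1 D47627 (iv D45842) (iv F179840)
theorem F213148 : act 6 n47627 = n47627 := d39_1 D47627 (iv D47627) (iv D43064) F125307 D43064
def n47628 : Q := act 9 n43064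
theorem D47628 : act 9 n43064 = n47628 := rfl
theorem F213149 : act 3 n47628 = n43074 := d29_1 D47628 (iv D43074) (iv F179839)
theorem F213150 : act 4 n47628 = n45843 := d34_1 D47628 (iv D45843) (iv F179840)
theorem F213151 : act 6 n47628 = n43065 := d41_1 D47628 (iv D43065) D43064
def n47629 : Q := act 8 n43065
theorem D47629 : act 8 n43065 = n47629 := rfl
theorem F213152 : act 4 n47629 = n45844 := d33_1 D47629 (iv D45844) (iv F179842)
theorem F213153 : act 5 n47629 = n43066 := d37_1 D47629 (iv D43066) (iv F179843)
theorem F213154 : act 7 n47629 = n47629 := d42_1 D47629 (iv D47629) F179844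
def n47630 : Q := act 3 n43066
theorem D47630 : act 3 n43066 = n47630 := rfl
theorem F213155 : act 7 n47630 = n47630 := d27_2 F179846 D47630 (iv D47630)
theorem F213156 : act 8 n47630 = n43076 := d28_2 D43066 D47630 (iv D43076) (iv D29552) (iv F125308)
def n47631 : Q := act 6 n43067
theorem D47631 : act 6 n43067 = n47631 := rfl
theorem F213157 : act 2 n47631 = n47631 := d20_1 D47631 (iv D47631) F179847
theorem F213158 : act 5 n47631 = n47631 := d35_1 D47631 (iv D47631) (iv D43067) F125314 D43067
theorem F213159 : act 8 n47631 = n47631 := d40_2 F179849 D47631 (iv D47631)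
def n47632 : Q := act 9 n43067
theorem D47632 : act 9 n43067 = n47632 := rfl
theorem F213160 : act 2 n47632 = n47632 := d23_1 D47632 (iv D47632) F179847
theorem F213161 : act 5 n47632 = n43068 := d38_1 D47632 (iv D43068) D43067
theorem F213162 : act 7 n47632 = n43071 := d43_1 D47632 (iv D43071) (iv F179848)
def n47633 : Q := act 8 n43068
theorem D47633 : act 8 n43068 = n47633 := rfl
theorem F213163 : act 2 n47633 = n47633 := d22_1 D47633 (iv D47633) F179850
theorem F213164 : act 4 n47633 = n43069 := d33_1 D47633 (iv D43069) (iv F179851)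
theorem F213165 : act 6 n47633 = n47633 := d40_1 D47633 (iv D47633) F179852
theorem F213166 : act 7 n47633 = n43072 := d42_1 D47633 (iv D43072) (iv F179853)
theorem F213167 : act 9 n47633 = n47633 := d44_2 D43068 D47633 (iv D47633) (iv D43068) F125316
def n47634 : Q := act 7 n43070
theorem D47634 : act 7 n43070 = n47634 := rfl
theorem F213168 : act 2 n47634 = n47634 := d21_1 D47634 (iv D47634) F179858
theorem F213169 : act 5 n47634 = n43073 := d36_1 D47634 (iv D43073) (iv F179859)
theorem F213170 : act 8 n47634 = n47634 := d42_2 F179860 D47634 (iv D47634)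
def n47635 : Q := act 9 n43070
theorem D47635 : act 9 n43070 = n47635 := rfl
theorem F213171 : act 2 n47635 = n47635 := d23_1 D47635 (iv D47635) F179858
theorem F213172 : act 5 n47635 = n43074 := d38_1 D47635 (iv D43074) (iv F179859)
theorem F213173 : act 6 n47635 = n43071 := d41_1 D47635 (iv D43071) D43070
def n47636 : Q := act 8 n43071
theorem D47636 : act 8 n43071 = n47636 := rfl
theorem F213174 : act 2 n47636 = n47636 := d22_1 D47636 (iv D47636) F179861
theorem F213175 : act 5 n47636 = n43072 := d37_1 D47636 (iv D43072) (iv F179862)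
theorem F213176 : act 9 n47636 = n47636 := d44_2 D43071 D47636 (iv D47636) (iv D43071) F125322
def n47637 : Q := act 3 n43072
theorem D47637 : act 3 n43072 = n47637 := rfl
theorem F213177 : act 6 n47637 = n43076 := d26_2 (iv F179865) D47637 (iv D43076)
theorem F213178 : act 9 n47637 = n47637 := d29_2 F179866 D47637 (iv D47637)
def n47638 : Q := act 9 n43073
theorem D47638 : act 9 n43073 = n47638 := rfl
theorem F213179 : act 2 n47638 = n47638 := d23_1 D47638 (iv D47638) F179867
theorem F213180 : act 4 n47638 = n43077 := d34_1 D47638 (iv D43077) (iv F179868)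
theorem F213181 : act 6 n47638 = n47638 := d41_1 D47638 (iv D47638) F179869
theorem F213182 : act 7 n47638 = n43074 := d43_1 D47638 (iv D43074) D43073
def n47639 : Q := act 8 n43074
theorem D47639 : act 8 n43074 = n47639 := rfl
theorem F213183 : act 2 n47639 = n47639 := d22_1 D47639 (iv D47639) F179871
theorem F213184 : act 4 n47639 = n43078 := d33_1 D47639 (iv D43078) (iv F179872)
theorem F213185 : act 6 n47639 = n43075 := d40_1 D47639 (iv D43075) (iv F179873)
theorem F213186 : act 9 n47639 = n47639 := d44_2 D43074 D47639 (iv D47639) (iv D43074) F125331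
def n47640 : Q := act 3 n43075
theorem D47640 : act 3 n43075 = n47640 := rfl
theorem F213187 : act 5 n47640 = n43076 := d25_2 (iv F179876) D47640 (iv D43076)
theorem F213188 : act 7 n47640 = n47640 := d27_2 F179877 D47640 (iv D47640)
theorem F213189 : act 9 n47640 = n47640 := d29_2 F179878 D47640 (iv D47640)
def n47641 : Q := act 2 n43076
theorem D47641 : act 2 n43076 = n47641 := rfl
theorem F213190 : act 3 n47641 = n47641 := d17_2 D43076 D47641 (iv D47641) (iv D43076) F125336
theorem F213191 : act 7 n47641 = n47641 := d21_2 F179879 D47641 (iv D47641)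
theorem F213192 : act 9 n47641 = n47641 := d23_2 F179880 D47641 (iv D47641)
def n47642 : Q := act 8 n43077
theorem D47642 : act 8 n43077 = n47642 := rfl
theorem F213193 : act 2 n47642 = n47642 := d22_1 D47642 (iv D47642) F179881
theorem F213194 : act 3 n47642 = n46414 := d28_1 D47642 (iv D46414) (iv F206449) F203700 (iv F179882)
theorem F213195 : act 5 n47642 = n46420 := d37_1 D47642 F211929 F211926
theorem F213196 : act 6 n47642 = n47642 := d40_1 D47642 (iv D47642) F179883
theorem F213197 : act 7 n47642 = n43078 := d42_1 D47642 (iv D43078) (iv F179884)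
theorem F213198 : act 9 n47642 = n47642 := d44_2 D43077 D47642 (iv D47642) (iv D43077) F125343
def n47643 : Q := act 2 n43081
theorem D47643 : act 2 n43081 = n47643 := rfl
theorem F213199 : act 5 n47643 = n47643 := d19_2 F179897 D47643 (iv D47643)
theorem F213200 : act 6 n47643 = n43083 := d20_2 (iv F179898) D47643 (iv D43083)
theorem F213201 : act 7 n47643 = n45862 := d21_2 (iv F179899) D47643 (iv D45862)
theorem F213202 : act 8 n47643 = n43671 := d22_2 (iv F179900) D47643 (iv D43671)
def n47644 : Q := act 4 n43081
theorem D47644 : act 4 n43081 = n47644 := rfl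
theorem F213203 : act 1 n47644 = n43101 := d11_1 D47644 (iv D43101) (iv F179896)
theorem F213204 : act 6 n47644 = n43084 := d31_2 (iv F179898) D47644 (iv D43084)
theorem F213205 : act 7 n47644 = n43712 := d32_2 (iv F179899) D47644 F204651
theorem F213206 : act 8 n47644 = n43672 := d33_2 (iv F179900) D47644 (iv D43672)
theorem F213207 : act 5 n43719 = n47644 := d37_3 F213206 F204648 D43719
def n47645 : Q := act 9 n43081
theorem D47645 : act 9 n43081 = n47645 := rfl
theorem F213208 : act 1 n47645 = n43102 := d16_1 D47645 (iv D43102) (iv F179896)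
theorem F213209 : act 3 n47645 = n43082 := d29_1 D47645 (iv D43082) D43081
theorem F213210 : act 5 n47645 = n47645 := d38_1 D47645 (iv D47645) F179897
theorem F213211 : act 6 n47645 = n43085 := d41_1 D47645 (iv D43085) (iv F179898)
theorem F213212 : act 7 n47645 = n45864 := d43_1 D47645 (iv D45864) (iv F179899)
def n47646 : Q := act 1 n43083
theorem D47646 : act 1 n43083 = n47646 := rfl
theorem F213213 : act 2 n47646 = n43103 := d9_2 D43083 D47646 (iv D43103) (iv D29573) (iv F125358)
theorem F213214 : act 5 n47646 = n43091 := d12_2 (iv F179905) D47646 (iv D43091)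
theorem F213215 : act 7 n47646 = n43086 := d14_2 (iv F179906) D47646 (iv D43086)
theorem F213216 : act 8 n47646 = n43674 := d15_2 (iv F179907) D47646 (iv D43674)
def n47647 : Q := act 4 n43083
theorem D47647 : act 4 n43083 = n47647 := rfl
theorem F213217 : act 2 n47647 = n43084 := d18_1 D47647 (iv D43084) D43083
theorem F213218 : act 5 n47647 = n47647 := d30_2 (iv F179905) D47647 (iv D47647) F179905 F125376
theorem F213219 : act 7 n47647 = n43087 := d32_2 (iv F179906) D47647 (iv D43087)
theorem F213220 : act 8 n47647 = n43675 := d33_2 (iv F179907) D47647 (iv D43675)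
def n47648 : Q := act 9 n43083
theorem D47648 : act 9 n43083 = n47648 := rfl
theorem F213221 : act 2 n47648 = n43085 := d23_1 D47648 (iv D43085) D43083
theorem F213222 : act 5 n47648 = n43092 := d38_1 D47648 (iv D43092) (iv F179905)
theorem F213223 : act 7 n47648 = n43088 := d43_1 D47648 (iv D43088) (iv F179906)
def n47649 : Q := act 9 n43084
theorem D47649 : act 9 n43084 = n47649 := rfl
theorem F213224 : act 1 n47649 = n43106 := d16_1 D47649 (iv D43106) (iv F179908)
theorem F213225 : act 4 n47649 = n43085 := d34_1 D47649 (iv D43085) D43084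
theorem F213226 : act 5 n47649 = n47649 := d38_1 D47649 (iv D47649) F179909
theorem F213227 : act 7 n47649 = n43089 := d43_1 D47649 (iv D43089) (iv F179910)
def n47650 : Q := act 8 n43085
theorem D47650 : act 8 n43085 = n47650 := rfl
theorem F213228 : act 0 n47650 = n46271 := d7_1 D47650 (iv F212894) F212889
theorem F213229 : act 1 n47650 = n43107 := d15_1 D47650 (iv D43107) (iv F179912)
theorem F213230 : act 3 n47650 = n46205 := d28_1 D47650 (iv F212541) F212538 F179277 (iv F179913)
theorem F213231 : act 5 n47650 = n43093 := d37_1 D47650 (iv D43093) (iv F179914)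
theorem F213232 : act 7 n47650 = n43090 := d42_1 D47650 (iv D43090) (iv F179915)
theorem F213233 : act 9 n47650 = n43678 := d44_2 D43085 D47650 (iv D43678) (iv D29962) (iv F125361)
def n47651 : Q := act 0 n43086
theorem D47651 : act 0 n43086 = n47651 := rfl
theorem F213234 : act 2 n47651 = n43108 := d1_2 (iv F179916) D47651 (iv D43108)
theorem F213235 : act 5 n47651 = n43094 := d4_2 (iv F179917) D47651 (iv D43094)
theorem F213236 : act 6 n47651 = n45870 := d5_2 (iv F179918) D47651 (iv D45870)
theorem F213237 : act 8 n47651 = n43679 := d7_2 (iv F179919) D47651 (iv D43679)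
def n47652 : Q := act 4 n43086
theorem D47652 : act 4 n43086 = n47652 := rfl
theorem F213238 : act 1 n47652 = n43087 := d11_1 D47652 (iv D43087) D43086
theorem F213239 : act 2 n47652 = n43109 := d18_1 D47652 (iv D43109) (iv F179916)
theorem F213240 : act 5 n47652 = n47652 := d30_2 (iv F179917) D47652 (iv D47652) F179917 F125386
theorem F213241 : act 6 n47652 = n45871 := d31_2 (iv F179918) D47652 (iv D45871)
theorem F213242 : act 8 n47652 = n43680 := d33_2 (iv F179919) D47652 (iv D43680)
def n47653 : Q := act 9 n43086
theorem D47653 : act 9 n43086 = n47653 := rfl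
theorem F213243 : act 1 n47653 = n43088 := d16_1 D47653 (iv D43088) D43086
theorem F213244 : act 2 n47653 = n43110 := d23_1 D47653 (iv D43110) (iv F179916)
theorem F213245 : act 5 n47653 = n43095 := d38_1 D47653 (iv D43095) (iv F179917)
theorem F213246 : act 6 n47653 = n45872 := d41_1 D47653 (iv D45872) (iv F179918)
def n47654 : Q := act 3 n43087
theorem D47654 : act 3 n43087 = n47654 := rfl
theorem F213247 : act 5 n47654 = n47654 := d25_2 F179921 D47654 (iv D47654)
theorem F213248 : act 6 n47654 = n45873 := d26_2 (iv F179922) D47654 (iv D45873)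
def n47655 : Q := act 9 n43087
theorem D47655 : act 9 n43087 = n47655 := rfl
theorem F213249 : act 2 n47655 = n43089 := d23_1 D47655 (iv D43089) (iv F179920)
theorem F213250 : act 4 n47655 = n43088 := d34_1 D47655 (iv D43088) D43087
theorem F213251 : act 5 n47655 = n47655 := d38_1 D47655 (iv D47655) F179921
theorem F213252 : act 6 n47655 = n45874 := d41_1 D47655 (iv D45874) (iv F179922)
def n47656 : Q := act 8 n43088
theorem D47656 : act 8 n43088 = n47656 := rfl
theorem F213253 : act 0 n47656 = n46274 := d7_1 D47656 (iv F212909) F212905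
theorem F213254 : act 2 n47656 = n43090 := d22_1 D47656 (iv D43090) (iv F179924)
theorem F213255 : act 5 n47656 = n43096 := d37_1 D47656 (iv D43096) (iv F179925)
theorem F213256 : act 6 n47656 = n45875 := d40_1 D47656 (iv D45875) (iv F179926)
theorem F213257 : act 9 n47656 = n43684 := d44_2 D43088 D47656 (iv D43684) (iv D29965) (iv F125367)
def n47657 : Q := act 8 n43089
theorem D47657 : act 8 n43089 = n47657 := rfl
theorem F213258 : act 0 n47657 = n46275 := d7_1 D47657 (iv F212915) F212910
theorem F213259 : act 1 n47657 = n43114 := d15_1 D47657 (iv D43114) (iv F179927)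
theorem F213260 : act 4 n47657 = n43090 := d33_1 D47657 (iv D43090) (iv F179928)
theorem F213261 : act 5 n47657 = n47657 := d37_1 D47657 (iv D47657) F179929
theorem F213262 : act 6 n47657 = n45876 := d40_1 D47657 (iv D45876) (iv F179930)
theorem F213263 : act 9 n47657 = n43685 := d44_2 D43089 D47657 (iv D43685) (iv D29966) (iv F125371)
def n47658 : Q := act 0 n43091
theorem D47658 : act 0 n43091 = n47658 := rfl
theorem F213264 : act 1 n47658 = n46523 := d0_2 D43091 D47658 F207575 F206675 F179683
theorem F213265 : act 2 n47658 = n43115 := d1_2 (iv F179935) D47658 (iv D43115)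
theorem F213266 : act 4 n47658 = n47658 := d3_2 F179936 D47658 (iv D47658)
theorem F213267 : act 6 n47658 = n47658 := d5_2 F179937 D47658 (iv D47658)
theorem F213268 : act 7 n47658 = n43094 := d6_2 (iv F179938) D47658 (iv D43094)
theorem F213269 : act 8 n47658 = n43686 := d7_2 (iv F179939) D47658 (iv D43686)
def n47659 : Q := act 9 n43091
theorem D47659 : act 9 n43091 = n47659 := rfl
theorem F213270 : act 1 n47659 = n43092 := d16_1 D47659 (iv D43092) D43091
theorem F213271 : act 2 n47659 = n43116 := d23_1 D47659 (iv D43116) (iv F179935)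
theorem F213272 : act 4 n47659 = n47659 := d34_1 D47659 (iv D47659) F179936
theorem F213273 : act 6 n47659 = n47659 := d41_1 D47659 (iv D47659) F179937
theorem F213274 : act 7 n47659 = n43095 := d43_1 D47659 (iv D43095) (iv F179938)
def n47660 : Q := act 8 n43092
theorem D47660 : act 8 n43092 = n47660 := rfl
theorem F213275 : act 0 n47660 = n46278 := d7_1 D47660 (iv F212922) F212916
theorem F213276 : act 2 n47660 = n43093 := d22_1 D47660 (iv D43093) (iv F179940)
theorem F213277 : act 4 n47660 = n47660 := d33_1 D47660 (iv D47660) F179941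
theorem F213278 : act 6 n47660 = n47660 := d40_1 D47660 (iv D47660) F179942
theorem F213279 : act 7 n47660 = n43096 := d42_1 D47660 (iv D43096) (iv F179943)
theorem F213280 : act 9 n47660 = n43688 := d44_2 D43092 D47660 (iv D43688) (iv D29969) (iv F125379)
def n47661 : Q := act 9 n43094
theorem D47661 : act 9 n43094 = n47661 := rfl
theorem F213281 : act 0 n47661 = n43095 := d8_1 D47661 (iv D43095) D43094
theorem F213282 : act 2 n47661 = n43118 := d23_1 D47661 (iv D43118) (iv F179949)
theorem F213283 : act 4 n47661 = n47661 := d34_1 D47661 (iv D47661) F179950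
theorem F213284 : act 6 n47661 = n43097 := d41_1 D47661 (iv D43097) (iv F179951)
def n47662 : Q := act 8 n43095
theorem D47662 : act 8 n43095 = n47662 := rfl
theorem F213285 : act 1 n47662 = n43096 := d15_1 D47662 (iv D43096) (iv F179953)
theorem F213286 : act 2 n47662 = n43119 := d22_1 D47662 (iv D43119) (iv F179954)
theorem F213287 : act 4 n47662 = n47662 := d33_1 D47662 (iv D47662) F179955
theorem F213288 : act 6 n47662 = n43098 := d40_1 D47662 (iv D43098) (iv F179956)
theorem F213289 : act 9 n47662 = n43690 := d44_2 D43095 D47662 (iv D43690) (iv D29972) (iv F125388)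
def n47663 : Q := act 3 n43096
theorem D47663 : act 3 n43096 = n47663 := rfl
theorem F213290 : act 0 n47663 = n45794 := d2_1 D47663 F190521 (iv F204414)
theorem F213291 : act 2 n47663 = n45715 := d17_1 D47663 F190230 F132445 (iv F204320) (iv F179957)
theorem F213292 : act 6 n47663 = n43099 := d26_2 (iv F179959) D47663 (iv D43099)
theorem F213293 : act 9 n47663 = n43691 := d29_2 (iv F179960) D47663 (iv D43691)
def n47664 : Q := act 8 n43097
theorem D47664 : act 8 n43097 = n47664 := rfl
theorem F213294 : act 0 n47664 = n43098 := d7_1 D47664 (iv D43098) (iv F179961)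
theorem F213295 : act 1 n47664 = n46283 := d15_1 D47664 (iv F212941) F212936
theorem F213296 : act 2 n47664 = n43121 := d22_1 D47664 (iv D43121) (iv F179962)
theorem F213297 : act 4 n47664 = n47664 := d33_1 D47664 (iv D47664) F179963
theorem F213298 : act 5 n47664 = n45883 := d37_1 D47664 (iv D45883) (iv F179964)
theorem F213299 : act 7 n47664 = n47664 := d42_1 D47664 (iv D47664) F179965
theorem F213300 : act 9 n47664 = n43692 := d44_2 D43097 D47664 (iv D43692) (iv D29974) (iv F125400)
def n47665 : Q := act 3 n43098
theorem D47665 : act 3 n43098 = n47665 := rfl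
theorem F213301 : act 1 n47665 = n43099 := d10_1 D47665 (iv D43099) (iv F179966)
theorem F213302 : act 5 n47665 = n45884 := d25_2 (iv F179969) D47665 (iv D45884)
theorem F213303 : act 7 n47665 = n47665 := d27_2 F179970 D47665 (iv D47665)
theorem F213304 : act 9 n47665 = n43693 := d29_2 (iv F179971) D47665 (iv D43693)
def n47666 : Q := act 4 n43099
theorem D47666 : act 4 n43099 = n47666 := rfl
theorem F213305 : act 0 n47666 = n45802 := d3_1 D47666 F190546 (iv F204212)
theorem F213306 : act 2 n47666 = n44724 := d18_1 D47666 F203731 (iv F204213)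
theorem F213307 : act 3 n47666 = n47666 := d24_1 D47666 (iv D47666) (iv D43099) F125407 D43099
theorem F213308 : act 7 n47666 = n47666 := d32_2 F179973 D47666 (iv D47666)
theorem F213309 : act 9 n47666 = n43694 := d34_2 (iv F179974) D47666 (iv D43694)
def n47667 : Q := act 1 n43100
theorem D47667 : act 1 n43100 = n47667 := rfl
theorem F213310 : act 4 n47667 = n43678 := d11_2 (iv F204579) D47667 F182440
theorem F213311 : act 5 n47667 = n47667 := d12_2 F179976 D47667 (iv D47667)
theorem F213312 : act 6 n47667 = n43103 := d13_2 (iv F179977) D47667 (iv D43103)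
theorem F213313 : act 7 n47667 = n43685 := d14_2 (iv F204580) D47667 F182464
theorem F213314 : act 8 n47667 = n43677 := d15_2 (iv F179979) D47667 (iv F204564)
theorem F213315 : act 0 n47667 = n46270 := d46_6 (iv F205835) F205833 F124400 D29571 D43100 D47667 F192292 F133953 (iv D31729) (iv D21773) F65364 F45907 F32357 (iv D7105) F22874 F16211 F11527 F8222 F5874 F4546 F3582 F2579 (iv F3645) F3644 (iv F5164) (iv F7227) (iv F10130) (iv F13836) (iv F19339) F19338 (iv F27321) (iv F200817) (iv F201080) F49214 (iv F201015) F49226 (iv F49578) F49577 (iv F49997) (iv F203157) F61646 (iv D14041) (iv F61640) F61639 (iv F87098) F87097 F203792 F203351 D29357 F203880 (iv F204047) F124552 (iv F124791) (iv F178973) F203068 F130510 (iv F141237) (iv F207593) (iv F210749) F210748 F177479 F123752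
def n47668 : Q := act 9 n43100
theorem D47668 : act 9 n43100 = n47668 := rfl
theorem F213316 : act 0 n47668 = n47668 := d8_1 D47668 (iv D47668) F179975
theorem F213317 : act 2 n47668 = n43102 := d23_1 D47668 (iv D43102) D43100
theorem F213318 : act 4 n47668 = n43107 := d34_1 D47668 F180008 (iv F204579)
theorem F213319 : act 5 n47668 = n47668 := d38_1 D47668 (iv D47668) F179976
theorem F213320 : act 6 n47668 = n43105 := d41_1 D47668 (iv D43105) (iv F179977)
theorem F213321 : act 7 n47668 = n43114 := d43_1 D47668 F180037 (iv F204580)
theorem F213322 : act 8 n47668 = n43106 := d44_1 D47668 (iv D43106) F125427 F204581 (iv F179979)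
def n47669 : Q := act 9 n43101
theorem D47669 : act 9 n43101 = n47669 := rfl
theorem F213323 : act 0 n47669 = n47669 := d8_1 D47669 (iv D47669) F179980
theorem F213324 : act 2 n47669 = n43107 := d23_1 D47669 F180008 (iv F204665)
theorem F213325 : act 4 n47669 = n43102 := d34_1 D47669 (iv D43102) D43101
theorem F213326 : act 5 n47669 = n43117 := d38_1 D47669 F180052 (iv F204666)
theorem F213327 : act 6 n47669 = n43106 := d41_1 D47669 (iv D43106) (iv F179981)
theorem F213328 : act 7 n47669 = n43113 := d43_1 D47669 F180032 (iv F204667)
theorem F213329 : act 8 n47669 = n43105 := d44_1 D47669 (iv D43105) F125423 (iv F204611) (iv F179983)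
def n47670 : Q := act 8 n43102
theorem D47670 : act 8 n43102 = n47670 := rfl

end Cfsg.Agent.Helper17.Fi23TC
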