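import Cfsg.Agent.Helper17.Fi23TC.Facts10

set_option autoImplicit false
set_option linter.all false

noncomputable section

namespace Cfsg.Agent.Helper17.Fi23TC

theorem F213330 : act 0 n47670 = n47670 := d7_1 D47670 (iv D47670) F179984
theorem F213331 : act 2 n47670 = n43106 := d22_1 D47670 (iv F213322) F213317
theorem F213332 : act 3 n47670 = n45638 := d28_1 D47670 (iv F212588) F212583 F179325 (iv F179985)
theorem F213333 : act 4 n47670 = n43105 := d33_1 D47670 (iv F213329) F213325
theorem F213334 : act 5 n47670 = n47670 := d37_1 D47670 (iv D47670) F179986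
theorem F213335 : act 6 n47670 = n43107 := d40_1 D47670 (iv D43107) (iv F179987)
theorem F213336 : act 7 n47670 = n43112 := d42_1 D47670 F204680 (iv F179988)
theorem F213337 : act 9 n47670 = n43104 := d44_2 D43102 D47670 F204675 (iv D29979) (iv F125415)
def n47671 : Q := act 0 n43103
theorem D47671 : act 0 n43103 = n47671 := rfl
theorem F213338 : act 1 n47671 = n47671 := d0_2 D43103 D47671 (iv D47671) (iv D43103) F125420
theorem F213339 : act 5 n47671 = n43115 := d4_2 (iv F179989) D47671 (iv D43115)
theorem F213340 : act 6 n47671 = n46270 := d5_2 F213312 D47671 (iv F213315)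
theorem F213341 : act 7 n47671 = n43108 := d6_2 (iv F179990) D47671 (iv D43108)
theorem F213342 : act 8 n47671 = n43701 := d7_2 (iv F179991) D47671 (iv D43701)
theorem F213343 : act 4 n46267 = n47671 := d33_3 F213342 F206677 (iv F192282)
def n47672 : Q := act 4 n43103
theorem D47672 : act 4 n43103 = n47672 := rfl
theorem F213344 : act 0 n47672 = n46267 := d3_1 D47672 F213343 (iv D47671)
theorem F213345 : act 1 n47672 = n43104 := d11_1 D47672 (iv D43104) D43103
theorem F213346 : act 3 n47672 = n45635 := d24_1 D47672 (iv D45635) (iv F186833) (iv F210017) F210016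
theorem F213347 : act 5 n47672 = n47672 := d30_2 (iv F179989) D47672 (iv D47672) F179989 F125452
theorem F213348 : act 6 n47672 = n43678 := d31_2 F213312 D47672 (iv F213310)
theorem F213349 : act 7 n47672 = n43109 := d32_2 (iv F179990) D47672 (iv D43109)
theorem F213350 : act 8 n47672 = n43673 := d33_2 (iv F179991) D47672 F204658
def n47673 : Q := act 9 n43103
theorem D47673 : act 9 n43103 = n47673 := rfl
theorem F213351 : act 1 n47673 = n43105 := d16_1 D47673 (iv D43105) D43103
theorem F213352 : act 5 n47673 = n43116 := d38_1 D47673 (iv D43116) (iv F179989)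
theorem F213353 : act 7 n47673 = n43110 := d43_1 D47673 (iv D43110) (iv F179990)
def n47674 : Q := act 4 n43108
theorem D47674 : act 4 n43108 = n47674 := rfl
theorem F213354 : act 0 n47674 = n43109 := d3_1 D47674 (iv D43109) D43108
theorem F213355 : act 1 n47674 = n47674 := d11_1 D47674 (iv D47674) F180009
theorem F213356 : act 5 n47674 = n47674 := d30_2 (iv F180010) D47674 (iv D47674) F180010 F125467
theorem F213357 : act 6 n47674 = n43612 := d31_2 (iv F180011) D47674 F204708
theorem F213358 : act 7 n47674 = n46267 := d32_2 F213341 D47674 F213343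
theorem F213359 : act 8 n47674 = n43633 := d33_2 (iv F180012) D47674 F204654
theorem F213360 : act 3 n43611 = n47674 := d28_5 F213359 (iv D43633) (iv D29931) (iv F126947) D43611
def n47675 : Q := act 9 n43108
theorem D47675 : act 9 n43108 = n47675 := rfl
theorem F213361 : act 0 n47675 = n43110 := d8_1 D47675 (iv D43110) D43108
theorem F213362 : act 1 n47675 = n47675 := d16_1 D47675 (iv D47675) F180009
theorem F213363 : act 5 n47675 = n43118 := d38_1 D47675 (iv D43118) (iv F180010)
theorem F213364 : act 6 n47675 = n45900 := d41_1 D47675 (iv D45900) (iv F180011)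
def n47676 : Q := act 3 n43109
theorem D47676 : act 3 n43109 = n47676 := rfl
theorem F213365 : act 0 n47676 = n43611 := d2_1 D47676 F213360 F213354
theorem F213366 : act 1 n47676 = n43111 := d10_1 D47676 (iv D43111) (iv F180013)
theorem F213367 : act 4 n47676 = n45629 := d24_2 D43109 D47676 F210042 (iv D46958) F176768
theorem F213368 : act 5 n47676 = n47676 := d25_2 F180014 D47676 (iv D47676)
theorem F213369 : act 6 n47676 = n43548 := d26_2 (iv F180015) D47676 F204712
theorem F213370 : act 7 n47676 = n45635 := d27_2 F213349 D47676 (iv F213346)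
theorem F213371 : act 8 n47676 = n43547 := d28_2 (iv F180016) D47676 F181915 (iv F204422) F204657
def n47677 : Q := act 9 n43109
theorem D47677 : act 9 n43109 = n47677 := rfl
theorem F213372 : act 1 n47677 = n43112 := d16_1 D47677 (iv D43112) (iv F180013)
theorem F213373 : act 4 n47677 = n43110 := d34_1 D47677 (iv D43110) D43109
theorem F213374 : act 5 n47677 = n47677 := d38_1 D47677 (iv D47677) F180014
theorem F213375 : act 6 n47677 = n45869 := d41_1 D47677 F204714 (iv F180015)
theorem F213376 : act 8 n47677 = n45864 := d44_1 D47677 (iv D45864) F132774 (iv F204604) (iv F180016)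
def n47678 : Q := act 8 n43110
theorem D47678 : act 8 n43110 = n47678 := rfl
theorem F213377 : act 1 n47678 = n43113 := d15_1 D47678 (iv D43113) (iv F180017)
theorem F213378 : act 4 n47678 = n45864 := d33_1 D47678 (iv F213376) F213373
theorem F213379 : act 5 n47678 = n43119 := d37_1 D47678 (iv D43119) (iv F180018)
theorem F213380 : act 6 n47678 = n45868 := d40_1 D47678 F204723 (iv F180019)
theorem F213381 : act 9 n47678 = n43712 := d44_2 D43110 D47678 (iv D43712) (iv D29987) (iv F125434)
def n47679 : Q := act 9 n43111
theorem D47679 : act 9 n43111 = n47679 := rfl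
theorem F213382 : act 0 n47679 = n47679 := d8_1 D47679 (iv D47679) F180020
theorem F213383 : act 2 n47679 = n45632 := d23_1 D47679 (iv D45632) (iv F204676)
theorem F213384 : act 3 n47679 = n43112 := d29_1 D47679 (iv D43112) D43111
theorem F213385 : act 4 n47679 = n45631 := d34_1 D47679 (iv D45631) (iv F204677)
theorem F213386 : act 5 n47679 = n47679 := d38_1 D47679 (iv D47679) F180021
theorem F213387 : act 6 n47679 = n45633 := d41_1 D47679 F204818 (iv F180022)
theorem F213388 : act 7 n47679 = n45638 := d43_1 D47679 (iv D45638) (iv F204678)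
theorem F213389 : act 8 n47679 = n45628 := d44_1 D47679 (iv D45628) F132244 D31616 (iv F204679)
def n47680 : Q := act 3 n43113
theorem D47680 : act 3 n43113 = n47680 := rfl
theorem F213390 : act 0 n47680 = n47680 := d2_1 D47680 (iv D47680) F180028
theorem F213391 : act 4 n47680 = n45448 := d24_2 (iv F204669) D47680 F189276 F131803 (iv F132848)
theorem F213392 : act 5 n47680 = n43120 := d25_2 (iv F180030) D47680 (iv D43120)
theorem F213393 : act 6 n47680 = n45452 := d26_2 F204731 D47680 F189291
theorem F213394 : act 9 n47680 = n43716 := d29_2 (iv F180032) D47680 (iv D43716)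
def n47681 : Q := act 3 n43114
theorem D47681 : act 3 n43114 = n47681 := rfl
theorem F213395 : act 0 n47681 = n47681 := d2_1 D47681 (iv D47681) F180033
theorem F213396 : act 2 n47681 = n44943 := d17_1 D47681 F187494 F130577 (iv F132848) (iv F204583)
theorem F213397 : act 5 n47681 = n47681 := d25_2 F180035 D47681 (iv D47681)
theorem F213398 : act 6 n47681 = n44946 := d26_2 F204624 D47681 F187508
theorem F213399 : act 9 n47681 = n43717 := d29_2 (iv F180037) D47681 (iv D43717)
def n47682 : Q := act 9 n43115
theorem D47682 : act 9 n43115 = n47682 := rfl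
theorem F213400 : act 0 n47682 = n43116 := d8_1 D47682 (iv D43116) D43115
theorem F213401 : act 1 n47682 = n47682 := d16_1 D47682 (iv D47682) F180038
theorem F213402 : act 4 n47682 = n47682 := d34_1 D47682 (iv D47682) F180039
theorem F213403 : act 6 n47682 = n47682 := d41_1 D47682 (iv D47682) F180040
theorem F213404 : act 7 n47682 = n43118 := d43_1 D47682 (iv D43118) (iv F180041)
def n47683 : Q := act 8 n43116
theorem D47683 : act 8 n43116 = n47683 := rfl
theorem F213405 : act 1 n47683 = n43117 := d15_1 D47683 (iv D43117) (iv F180043)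
theorem F213406 : act 4 n47683 = n47683 := d33_1 D47683 (iv D47683) F180044
theorem F213407 : act 6 n47683 = n47683 := d40_1 D47683 (iv D47683) F180045
theorem F213408 : act 7 n47683 = n43119 := d42_1 D47683 (iv D43119) (iv F180046)
theorem F213409 : act 9 n47683 = n43719 := d44_2 D43116 D47683 (iv D43719) (iv D29993) (iv F125455)
def n47684 : Q := act 3 n43117
theorem D47684 : act 3 n43117 = n47684 := rfl
theorem F213410 : act 0 n47684 = n47684 := d2_1 D47684 (iv D47684) F180047
theorem F213411 : act 6 n47684 = n47684 := d26_2 F180050 D47684 (iv D47684)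
theorem F213412 : act 7 n47684 = n43120 := d27_2 (iv F180051) D47684 (iv D43120)
theorem F213413 : act 9 n47684 = n43720 := d29_2 (iv F180052) D47684 (iv D43720)
def n47685 : Q := act 8 n43118
theorem D47685 : act 8 n43118 = n47685 := rfl
theorem F213414 : act 0 n47685 = n43119 := d7_1 D47685 (iv D43119) (iv F180053)
theorem F213415 : act 1 n47685 = n47685 := d15_1 D47685 (iv D47685) F180054
theorem F213416 : act 4 n47685 = n47685 := d33_1 D47685 (iv D47685) F180055
theorem F213417 : act 6 n47685 = n43121 := d40_1 D47685 (iv D43121) (iv F180056)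
theorem F213418 : act 9 n47685 = n43721 := d44_2 D43118 D47685 (iv D43721) (iv D29995) (iv F125469)
def n47686 : Q := act 3 n43119
theorem D47686 : act 3 n43119 = n47686 := rfl
theorem F213419 : act 1 n47686 = n43120 := d10_1 D47686 (iv D43120) (iv F180057)
theorem F213420 : act 6 n47686 = n43122 := d26_2 (iv F180059) D47686 (iv D43122)
theorem F213421 : act 9 n47686 = n43722 := d29_2 (iv F180060) D47686 (iv D43722)
def n47687 : Q := act 4 n43120
theorem D47687 : act 4 n43120 = n47687 := rfl
theorem F213422 : act 0 n47687 = n47687 := d3_1 D47687 (iv D47687) F180061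
theorem F213423 : act 3 n47687 = n47687 := d24_1 D47687 (iv D47687) (iv D43120) F125475 D43120
theorem F213424 : act 6 n47687 = n43123 := d31_2 (iv F180062) D47687 (iv D43123)
theorem F213425 : act 9 n47687 = n43723 := d34_2 (iv F180063) D47687 (iv D43723)
def n47688 : Q := act 6 n43408
theorem D47688 : act 6 n43408 = n47688 := rfl
theorem F213426 : act 0 n47688 = n46107 := d5_1 D47688 F191667 (iv F204280)
theorem F213427 : act 1 n47688 = n47688 := d13_1 D47688 (iv D47688) F181347
theorem F213428 : act 3 n47688 = n47688 := d26_1 D47688 (iv D47688) F181348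
theorem F213429 : act 4 n47688 = n43410 := d31_1 D47688 (iv D43410) (iv F181349)
theorem F213430 : act 7 n47688 = n46034 := d39_2 D43408 D47688 (iv D46034) (iv D31547) (iv F126372)
theorem F213431 : act 9 n47688 = n43607 := d41_2 (iv F181351) D47688 (iv D43607)
theorem F213432 : act 5 n46153 = n47688 := d38_3 F213431 F204080 D46153
def n47689 : Q := act 8 n43408
theorem D47689 : act 8 n43408 = n47689 := rfl
theorem F213433 : act 0 n47689 = n45610 := d7_1 D47689 F189851 (iv F204280)
theorem F213434 : act 1 n47689 = n47689 := d15_1 D47689 (iv D47689) F181347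
theorem F213435 : act 4 n47689 = n43411 := d33_1 D47689 (iv D43411) (iv F181349)
theorem F213436 : act 5 n47689 = n47689 := d37_1 D47689 (iv D47689) F181350
theorem F213437 : act 7 n47689 = n43409 := d42_1 D47689 (iv D43409) D43408
def n47690 : Q := act 3 n43409
theorem D47690 : act 3 n43409 = n47690 := rfl
theorem F213438 : act 0 n47690 = n45261 := d2_1 D47690 F188687 (iv F204157)
theorem F213439 : act 1 n47690 = n47690 := d10_1 D47690 (iv D47690) F181352
theorem F213440 : act 4 n47690 = n45212 := d24_2 (iv F181353) D47690 (iv D45212) F131297 (iv F203946)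
theorem F213441 : act 5 n47690 = n47690 := d25_2 F181354 D47690 (iv D47690)
theorem F213442 : act 6 n47690 = n46036 := d26_2 (iv F181355) D47690 (iv D46036)
theorem F213443 : act 8 n47690 = n47690 := d28_2 D43409 D47690 (iv D47690) (iv D43409) F126370
def n47691 : Q := act 9 n43409
theorem D47691 : act 9 n43409 = n47691 := rfl
theorem F213444 : act 0 n47691 = n45615 := d8_1 D47691 (iv D45615) (iv F204157)
theorem F213445 : act 1 n47691 = n47691 := d16_1 D47691 (iv D47691) F181352
theorem F213446 : act 4 n47691 = n43413 := d34_1 D47691 (iv D43413) (iv F181353)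
theorem F213447 : act 5 n47691 = n47691 := d38_1 D47691 (iv D47691) F181354
theorem F213448 : act 6 n47691 = n46037 := d41_1 D47691 (iv D46037) (iv F181355)
theorem F213449 : act 8 n47691 = n43610 := d44_1 D47691 (iv D43610) (iv D29916) (iv F126373) D43409
def n47692 : Q := act 8 n43410
theorem D47692 : act 8 n43410 = n47692 := rfl
theorem F213450 : act 0 n47692 = n45607 := d7_1 D47692 F189840 (iv F204281)
theorem F213451 : act 1 n47692 = n47692 := d15_1 D47692 (iv D47692) F181356
theorem F213452 : act 3 n47692 = n45538 := d28_1 D47692 (iv D45538) F132034 (iv F204343) (iv F181357)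
theorem F213453 : act 5 n47692 = n47692 := d37_1 D47692 (iv D47692) F181358
theorem F213454 : act 6 n47692 = n43411 := d40_1 D47692 (iv D43411) D43410
theorem F213455 : act 7 n47692 = n46038 := d42_1 D47692 (iv D46038) (iv F181359)
def n47693 : Q := act 9 n43411
theorem D47693 : act 9 n43411 = n47693 := rfl
theorem F213456 : act 0 n47693 = n45611 := d8_1 D47693 (iv D45611) (iv F204131)
theorem F213457 : act 1 n47693 = n47693 := d16_1 D47693 (iv D47693) F181361
theorem F213458 : act 3 n47693 = n45540 := d29_1 D47693 (iv D45540) (iv F204132)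
theorem F213459 : act 5 n47693 = n43415 := d38_1 D47693 (iv D43415) (iv F181362)
theorem F213460 : act 7 n47693 = n43413 := d43_1 D47693 (iv D43413) (iv F181363)
theorem F213461 : act 8 n47693 = n43613 := d44_1 D47693 (iv D43613) (iv D29918) (iv F126377) D43411
def n47694 : Q := act 8 n43545
theorem D47694 : act 8 n43545 = n47694 := rfl
theorem F213462 : act 0 n47694 = n43608 := d7_1 D47694 (iv D43608) (iv F181906)
theorem F213463 : act 1 n47694 = n44952 := d15_1 D47694 F204826 (iv F204445)
theorem F213464 : act 4 n47694 = n43548 := d33_1 D47694 (iv D43548) (iv F181908)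
theorem F213465 : act 5 n47694 = n47694 := d37_1 D47694 (iv D47694) F181909
theorem F213466 : act 6 n47694 = n45629 := d40_1 D47694 F189923 (iv F204446)
theorem F213467 : act 7 n47694 = n43546 := d42_1 D47694 (iv D43546) D43545
theorem F213468 : act 3 n44950 = n47694 := d26_3 F213466 F210042 F210039
def n47695 : Q := act 3 n43546
theorem D47695 : act 3 n43546 = n47695 := rfl
theorem F213469 : act 0 n47695 = n43609 := d2_1 D47695 (iv D43609) (iv F181910)
theorem F213470 : act 1 n47695 = n44945 := d10_1 D47695 F204684 (iv F204405)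
theorem F213471 : act 4 n47695 = n44944 := d24_2 (iv F181911) D47695 F187497 (iv F204595) F204409
theorem F213472 : act 5 n47695 = n47695 := d25_2 F181912 D47695 (iv D47695)
theorem F213473 : act 6 n47695 = n46201 := d26_2 (iv F181913) D47695 (iv D46201)
theorem F213474 : act 7 n47695 = n44950 := d27_2 F213467 D47695 F213468
theorem F213475 : act 8 n47695 = n47695 := d28_2 D43546 D47695 (iv D47695) (iv D43546) F126755
def n47696 : Q := act 9 n43546
theorem D47696 : act 9 n43546 = n47696 := rfl
theorem F213476 : act 0 n47696 = n43610 := d8_1 D47696 (iv D43610) (iv F181910)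
theorem F213477 : act 1 n47696 = n45640 := d16_1 D47696 F189963 (iv F204405)
theorem F213478 : act 4 n47696 = n43550 := d34_1 D47696 (iv D43550) (iv F181911)
theorem F213479 : act 5 n47696 = n47696 := d38_1 D47696 (iv D47696) F181912
theorem F213480 : act 6 n47696 = n46202 := d41_1 D47696 (iv D46202) (iv F181913)
theorem F213481 : act 8 n47696 = n45615 := d44_1 D47696 (iv D45615) F132204 (iv F204312) D43546
def n47697 : Q := act 9 n43548
theorem D47697 : act 9 n43548 = n47697 := rfl
theorem F213482 : act 0 n47697 = n43613 := d8_1 D47697 (iv D43613) (iv F181918)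
theorem F213483 : act 1 n47697 = n45633 := d16_1 D47697 F204818 F204743
theorem F213484 : act 3 n47697 = n45869 := d29_1 D47697 F204714 (iv F204712)
theorem F213485 : act 5 n47697 = n43552 := d38_1 D47697 (iv D43552) (iv F181919)
theorem F213486 : act 7 n47697 = n43550 := d43_1 D47697 (iv D43550) (iv F181920)
theorem F213487 : act 8 n47697 = n45611 := d44_1 D47697 (iv D45611) F132195 (iv F204314) D43548
def n47698 : Q := act 2 n43588
theorem D47698 : act 2 n43588 = n47698 := rfl
theorem F213488 : act 0 n47698 = n43671 := d1_1 D47698 (iv D43671) (iv F182079)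
theorem F213489 : act 3 n47698 = n43680 := d17_2 D43588 D47698 F182447 (iv F204657) F204421
theorem F213490 : act 5 n47698 = n47698 := d19_2 F182081 D47698 (iv D47698)
theorem F213491 : act 6 n47698 = n43590 := d20_2 (iv F182082) D47698 (iv D43590)
theorem F213492 : act 7 n47698 = n46236 := d21_2 (iv F182083) D47698 (iv D46236)
theorem F213493 : act 9 n47698 = n46286 := d23_2 (iv F204436) D47698 (iv D46286)
theorem F213494 : act 1 n43682 = n47698 := d13_3 F213491 F204697 (iv F182456)
def n47699 : Q := act 4 n43588
theorem D47699 : act 4 n43588 = n47699 := rfl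
theorem F213495 : act 0 n47699 = n43672 := d3_1 D47699 (iv D43672) (iv F182079)
theorem F213496 : act 1 n47699 = n47699 := d11_1 D47699 (iv D47699) F182080
theorem F213497 : act 3 n47699 = n47699 := d24_1 D47699 (iv D47699) (iv D43588) F126876 D43588
theorem F213498 : act 6 n47699 = n43591 := d31_2 (iv F182082) D47699 (iv D43591)
theorem F213499 : act 7 n47699 = n43709 := d32_2 (iv F182083) D47699 F204644
theorem F213500 : act 9 n47699 = n43701 := d34_2 (iv F204436) D47699 F206677
theorem F213501 : act 5 n43718 = n47699 := d38_3 F213500 F182530 D43718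
def n47700 : Q := act 4 n43590
theorem D47700 : act 4 n43590 = n47700 := rfl
theorem F213502 : act 0 n47700 = n43675 := d3_1 D47700 (iv D43675) (iv F182090)
theorem F213503 : act 1 n47700 = n46297 := d11_1 D47700 F192388 (iv F204697)
theorem F213504 : act 2 n47700 = n43591 := d18_1 D47700 (iv D43591) D43590
theorem F213505 : act 3 n47700 = n46295 := d24_1 D47700 (iv D46295) F133960 (iv F204629) (iv F204496)
theorem F213506 : act 5 n47700 = n47700 := d30_2 (iv F182091) D47700 (iv D47700) F182091 F126903
theorem F213507 : act 7 n47700 = n43594 := d32_2 (iv F182092) D47700 (iv D43594)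
theorem F213508 : act 9 n47700 = n46290 := d34_2 (iv F204497) D47700 (iv D46290)
def n47701 : Q := act 0 n43593
theorem D47701 : act 0 n43593 = n47701 := rfl
theorem F213509 : act 1 n47701 = n43679 := d0_2 D43593 D47701 (iv D43679) (iv D29963) (iv F126889)
theorem F213510 : act 2 n47701 = n47701 := d1_2 F182103 D47701 (iv D47701)
theorem F213511 : act 3 n47701 = n46240 := d2_2 (iv F204689) D47701 F192178
theorem F213512 : act 5 n47701 = n43601 := d4_2 (iv F182104) D47701 (iv D43601)
theorem F213513 : act 6 n47701 = n46244 := d5_2 (iv F182105) D47701 (iv D46244)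
theorem F213514 : act 7 n47701 = n46247 := d6_2 (iv F204690) D47701 F192205
theorem F213515 : act 9 n47701 = n46294 := d8_2 (iv F204534) D47701 (iv D46294)
def n47702 : Q := act 4 n43593
theorem D47702 : act 4 n43593 = n47702 := rfl
theorem F213516 : act 1 n47702 = n43594 := d11_1 D47702 (iv D43594) D43593
theorem F213517 : act 2 n47702 = n47702 := d18_1 D47702 (iv D47702) F182103
theorem F213518 : act 3 n47702 = n46290 := d24_1 D47702 (iv D46290) F133948 D31749 (iv F204689)
theorem F213519 : act 5 n47702 = n47702 := d30_2 (iv F182104) D47702 (iv D47702) F182104 F126913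
theorem F213520 : act 6 n47702 = n46245 := d31_2 (iv F182105) D47702 (iv D46245)
theorem F213521 : act 7 n47702 = n46297 := d32_2 (iv F204690) D47702 F192388
theorem F213522 : act 9 n47702 = n46295 := d34_2 (iv F204534) D47702 (iv D46295)
def n47703 : Q := act 3 n43594
theorem D47703 : act 3 n43594 = n47703 := rfl
theorem F213523 : act 0 n47703 = n43682 := d2_1 D47703 (iv D43682) (iv F182106)
theorem F213524 : act 1 n47703 = n46290 := d10_1 D47703 (iv F213518) F213516
theorem F213525 : act 2 n47703 = n47703 := d17_1 D47703 (iv D47703) F182107 F126894 (iv F182107)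
theorem F213526 : act 4 n47703 = n46289 := d24_2 D43594 D47703 F192359 (iv F204587) (iv F204506)
theorem F213527 : act 5 n47703 = n47703 := d25_2 F182108 D47703 (iv D47703)
theorem F213528 : act 6 n47703 = n46247 := d26_2 (iv F182109) D47703 (iv D46247)
theorem F213529 : act 7 n47703 = n46295 := d27_2 F213507 D47703 (iv F213505)
theorem F213530 : act 9 n47703 = n46297 := d29_2 (iv F204535) D47703 (iv D46297)
def n47704 : Q := act 8 n43607
theorem D47704 : act 8 n43607 = n47704 := rfl
theorem F213531 : act 0 n47704 = n45629 := d7_1 D47704 F189923 (iv F204079)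
theorem F213532 : act 1 n47704 = n47704 := d15_1 D47704 (iv D47704) F182164
theorem F213533 : act 4 n47704 = n43611 := d33_1 D47704 (iv D43611) (iv F182166)
theorem F213534 : act 5 n47704 = n45641 := d37_1 D47704 F189968 (iv F204080)
theorem F213535 : act 6 n47704 = n43608 := d40_1 D47704 (iv D43608) D43607
theorem F213536 : act 7 n47704 = n45634 := d42_1 D47704 F189944 (iv F204081)
def n47705 : Q := act 3 n43608
theorem D47705 : act 3 n43608 = n47705 := rfl
theorem F213537 : act 0 n47705 = n44950 := d2_1 D47705 F213468 F213462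
theorem F213538 : act 1 n47705 = n47705 := d10_1 D47705 (iv D47705) F182168
theorem F213539 : act 4 n47705 = n44949 := d24_2 (iv F182169) D47705 F187520 (iv F204708) (iv D43612)
theorem F213540 : act 5 n47705 = n47705 := d25_2 F182170 D47705 (iv D47705)
theorem F213541 : act 7 n47705 = n43609 := d27_2 (iv F182171) D47705 (iv D43609)
theorem F213542 : act 8 n47705 = n47705 := d28_2 D43608 D47705 (iv D47705) (iv D43608) F126939
def n47706 : Q := act 9 n43608
theorem D47706 : act 9 n43608 = n47706 := rfl
theorem F213543 : act 1 n47706 = n47706 := d16_1 D47706 (iv D47706) F182168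
theorem F213544 : act 4 n47706 = n43613 := d34_1 D47706 (iv D43613) (iv F182169)
theorem F213545 : act 5 n47706 = n47706 := d38_1 D47706 (iv D47706) F182170
theorem F213546 : act 7 n47706 = n43610 := d43_1 D47706 (iv D43610) (iv F182171)
def n47707 : Q := act 2 n43609
theorem D47707 : act 2 n43609 = n47707 := rfl
theorem F213547 : act 5 n47707 = n47707 := d19_2 F182173 D47707 (iv D47707)
theorem F213548 : act 6 n47707 = n46264 := d20_2 (iv F182174) D47707 (iv D46264)
theorem F213549 : act 8 n47707 = n47707 := d22_2 F182175 D47707 (iv D47707)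
def n47708 : Q := act 4 n43609
theorem D47708 : act 4 n43609 = n47708 := rfl
theorem F213550 : act 0 n47708 = n44944 := d3_1 D47708 (iv F213471) F213469
theorem F213551 : act 1 n47708 = n47708 := d11_1 D47708 (iv D47708) F182172
theorem F213552 : act 3 n47708 = n43615 := d24_1 D47708 (iv D43615) (iv D29919) (iv F126943) D43609
theorem F213553 : act 6 n47708 = n46265 := d31_2 (iv F182174) D47708 (iv D46265)
theorem F213554 : act 7 n47708 = n44949 := d32_2 F213541 D47708 (iv F213539)
theorem F213555 : act 8 n47708 = n47708 := d33_2 F182175 D47708 (iv D47708)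
theorem F213556 : act 5 n44956 = n47708 := d36_3 F213554 F187521 (iv F187548)
def n47709 : Q := act 9 n43609
theorem D47709 : act 9 n43609 = n47709 := rfl
theorem F213557 : act 1 n47709 = n47709 := d16_1 D47709 (iv D47709) F182172
theorem F213558 : act 3 n47709 = n43610 := d29_1 D47709 (iv D43610) D43609
theorem F213559 : act 5 n47709 = n47709 := d38_1 D47709 (iv D47709) F182173
theorem F213560 : act 6 n47709 = n46266 := d41_1 D47709 (iv D46266) (iv F182174)
def n47710 : Q := act 9 n43611
theorem D47710 : act 9 n43611 = n47710 := rfl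
theorem F213561 : act 1 n47710 = n47710 := d16_1 D47710 (iv D47710) F182180
theorem F213562 : act 5 n47710 = n47710 := d38_1 D47710 (iv D47710) F182181
theorem F213563 : act 6 n47710 = n43613 := d41_1 D47710 (iv D43613) (iv F182182)
theorem F213564 : act 7 n47710 = n46268 := d43_1 D47710 (iv D46268) (iv F182183)
def n47711 : Q := act 2 n43612
theorem D47711 : act 2 n43612 = n47711 := rfl
theorem F213565 : act 0 n47711 = n45871 := d1_1 D47711 F190739 (iv F204707)
theorem F213566 : act 4 n47711 = n45870 := d18_2 (iv F204708) D47711 F190735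
theorem F213567 : act 5 n47711 = n43617 := d19_2 (iv F182185) D47711 (iv D43617)
theorem F213568 : act 7 n47711 = n43614 := d21_2 (iv F182186) D47711 (iv D43614)
theorem F213569 : act 8 n47711 = n43635 := d22_2 (iv F182187) D47711 (iv D43635)
def n47712 : Q := act 9 n43612
theorem D47712 : act 9 n43612 = n47712 := rfl
theorem F213570 : act 0 n47712 = n45869 := d8_1 D47712 F204714 (iv F204707)
theorem F213571 : act 1 n47712 = n47712 := d16_1 D47712 (iv D47712) F182184
theorem F213572 : act 3 n47712 = n43613 := d29_1 D47712 (iv D43613) D43612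
theorem F213573 : act 4 n47712 = n45900 := d34_1 D47712 (iv D45900) (iv F204708)
theorem F213574 : act 5 n47712 = n43619 := d38_1 D47712 (iv D43619) (iv F182185)
theorem F213575 : act 7 n47712 = n43616 := d43_1 D47712 (iv D43616) (iv F182186)
theorem F213576 : act 8 n47712 = n45764 := d44_1 D47712 (iv D45764) F132565 (iv F204337) (iv F182187)
def n47713 : Q := act 1 n43614
theorem D47713 : act 1 n43614 = n47713 := rfl
theorem F213577 : act 2 n47713 = n47713 := d9_2 D43614 D47713 (iv D47713) (iv D43614) F126953
theorem F213578 : act 5 n47713 = n43620 := d12_2 (iv F182191) D47713 (iv D43620)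
theorem F213579 : act 6 n47713 = n46272 := d13_2 (iv F182192) D47713 (iv D46272)
theorem F213580 : act 8 n47713 = n43638 := d15_2 (iv F182193) D47713 (iv D43638)
def n47714 : Q := act 4 n43614
theorem D47714 : act 4 n43614 = n47714 := rfl
theorem F213581 : act 0 n47714 = n45865 := d3_1 D47714 F204588 (iv F204470)
theorem F213582 : act 2 n47714 = n43615 := d18_1 D47714 (iv D43615) D43614
theorem F213583 : act 5 n47714 = n45877 := d30_2 (iv F182191) D47714 F190757 F204754 F204474
theorem F213584 : act 6 n47714 = n46273 := d31_2 (iv F182192) D47714 (iv D46273)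
theorem F213585 : act 7 n47714 = n45870 := d32_2 F213568 D47714 (iv F213566)
theorem F213586 : act 8 n47714 = n43639 := d33_2 (iv F182193) D47714 (iv D43639)
def n47715 : Q := act 9 n43614
theorem D47715 : act 9 n43614 = n47715 := rfl
theorem F213587 : act 0 n47715 = n45875 := d8_1 D47715 F190751 (iv F204470)
theorem F213588 : act 2 n47715 = n43616 := d23_1 D47715 (iv D43616) D43614
theorem F213589 : act 5 n47715 = n43622 := d38_1 D47715 (iv D43622) (iv F182191)
theorem F213590 : act 6 n47715 = n46274 := d41_1 D47715 (iv D46274) (iv F182192)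
theorem F213591 : act 8 n47715 = n45767 := d44_1 D47715 (iv D45767) F132572 (iv F204509) (iv F182193)
def n47716 : Q := act 9 n43615
theorem D47716 : act 9 n43615 = n47716 := rfl
theorem F213592 : act 0 n47716 = n45876 := d8_1 D47716 F204600 (iv F204592)
theorem F213593 : act 1 n47716 = n47716 := d16_1 D47716 (iv D47716) F182194
theorem F213594 : act 4 n47716 = n43616 := d34_1 D47716 (iv D43616) D43615
theorem F213595 : act 5 n47716 = n45909 := d38_1 D47716 (iv D45909) F204633
theorem F213596 : act 6 n47716 = n46275 := d41_1 D47716 (iv D46275) (iv F182195)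
theorem F213597 : act 7 n47716 = n45900 := d43_1 D47716 (iv D45900) (iv F204593)
theorem F213598 : act 8 n47716 = n45768 := d44_1 D47716 (iv D45768) F132576 (iv F204512) (iv F182196)
def n47717 : Q := act 1 n43617
theorem D47717 : act 1 n43617 = n47717 := rfl
theorem F213599 : act 0 n47717 = n46457 := d0_1 D47717 F207305 F135818 (iv F204769) (iv F204440)
theorem F213600 : act 2 n47717 = n47717 := d9_2 D43617 D47717 (iv D47717) (iv D43617) F126960
theorem F213601 : act 4 n47717 = n46456 := d11_2 F204876 D47717 F207299
theorem F213602 : act 6 n47717 = n47717 := d13_2 F182201 D47717 (iv D47717)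
theorem F213603 : act 7 n47717 = n43620 := d14_2 (iv F182202) D47717 (iv D43620)
theorem F213604 : act 8 n47717 = n43644 := d15_2 (iv F182203) D47717 (iv D43644)
def n47718 : Q := act 9 n43617
theorem D47718 : act 9 n43617 = n47718 := rfl
theorem F213605 : act 0 n47718 = n45879 := d8_1 D47718 F190770 (iv F204440)
theorem F213606 : act 2 n47718 = n43619 := d23_1 D47718 (iv D43619) D43617
theorem F213607 : act 4 n47718 = n46464 := d34_1 D47718 F207340 F204876
theorem F213608 : act 6 n47718 = n47718 := d41_1 D47718 (iv D47718) F182201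
theorem F213609 : act 7 n47718 = n43622 := d43_1 D47718 (iv D43622) (iv F182202)
theorem F213610 : act 8 n47718 = n45771 := d44_1 D47718 (iv D45771) F132585 (iv F204344) (iv F182203)
def n47719 : Q := act 0 n43620
theorem D47719 : act 0 n43620 = n47719 := rfl
theorem F213611 : act 1 n47719 = n46336 := d0_2 D43620 D47719 F192517 F134071 F204468
theorem F213612 : act 2 n47719 = n47719 := d1_2 F182213 D47719 (iv D47719)
theorem F213613 : act 4 n47719 = n46454 := d3_2 (iv F204473) D47719 F207287
theorem F213614 : act 6 n47719 = n43626 := d5_2 (iv F182214) D47719 (iv D43626)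
theorem F213615 : act 7 n47719 = n46457 := d6_2 F213603 D47719 (iv F213599)
theorem F213616 : act 8 n47719 = n43650 := d7_2 (iv F182215) D47719 (iv D43650)
def n47720 : Q := act 9 n43620
theorem D47720 : act 9 n43620 = n47720 := rfl
theorem F213617 : act 1 n47720 = n43622 := d16_1 D47720 (iv D43622) D43620
theorem F213618 : act 2 n47720 = n47720 := d23_1 D47720 (iv D47720) F182213
theorem F213619 : act 4 n47720 = n46466 := d34_1 D47720 F207348 (iv F204473)
theorem F213620 : act 6 n47720 = n43628 := d41_1 D47720 (iv D43628) (iv F182214)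
theorem F213621 : act 8 n47720 = n45774 := d44_1 D47720 (iv D45774) F132595 (iv F204503) (iv F182215)
def n47721 : Q := act 9 n43626
theorem D47721 : act 9 n43626 = n47721 := rfl
theorem F213622 : act 0 n47721 = n43628 := d8_1 D47721 (iv D43628) D43626
theorem F213623 : act 1 n47721 = n45883 := d16_1 D47721 F190786 (iv F204475)
theorem F213624 : act 2 n47721 = n47721 := d23_1 D47721 (iv D47721) F182232
theorem F213625 : act 4 n47721 = n46468 := d34_1 D47721 F207358 (iv F204476)
theorem F213626 : act 5 n47721 = n46283 := d38_1 D47721 (iv D46283) (iv F182233)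
theorem F213627 : act 7 n47721 = n47721 := d43_1 D47721 (iv D47721) F182234
theorem F213628 : act 8 n47721 = n45776 := d44_1 D47721 (iv D45776) F132609 (iv F204521) (iv F182235)
def n47722 : Q := act 2 n43633
theorem D47722 : act 2 n43633 = n47722 := rfl
theorem F213629 : act 0 n47722 = n43680 := d1_1 D47722 F182447 (iv F204653)
theorem F213630 : act 3 n47722 = n43671 := d17_2 D43633 D47722 (iv D43671) (iv D29958) (iv F126998)
theorem F213631 : act 4 n47722 = n43679 := d18_2 (iv F204654) D47722 F182443
theorem F213632 : act 5 n47722 = n47722 := d19_2 F182263 D47722 (iv D47722)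
theorem F213633 : act 6 n47722 = n43635 := d20_2 (iv F182264) D47722 (iv D43635)
theorem F213634 : act 7 n47722 = n46286 := d21_2 (iv F182265) D47722 (iv D46286)
theorem F213635 : act 9 n47722 = n46236 := d23_2 (iv F204434) D47722 (iv D46236)
def n47723 : Q := act 1 n43635
theorem D47723 : act 1 n43635 = n47723 := rfl
theorem F213636 : act 0 n47723 = n46245 := d0_1 D47723 F192199 F133826 (iv F204628) (iv F204428)
theorem F213637 : act 2 n47723 = n47723 := d9_2 D43635 D47723 (iv D47723) (iv D43635) F127003
theorem F213638 : act 3 n47723 = n43674 := d10_2 (iv F182272) D47723 (iv D43674)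
theorem F213639 : act 4 n47723 = n46244 := d11_2 (iv F204696) D47723 F192196
theorem F213640 : act 5 n47723 = n43644 := d12_2 (iv F182273) D47723 (iv D43644)
theorem F213641 : act 7 n47723 = n43638 := d14_2 (iv F182274) D47723 (iv D43638)
theorem F213642 : act 9 n47723 = n46239 := d16_2 (iv F204429) D47723 (iv D46239)
def n47724 : Q := act 0 n43638
theorem D47724 : act 0 n43638 = n47724 := rfl
theorem F213643 : act 1 n47724 = n46240 := d0_2 D43638 D47724 F192178 F204626 (iv F204508)
theorem F213644 : act 2 n47724 = n47724 := d1_2 F182282 D47724 (iv D47724)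
theorem F213645 : act 3 n47724 = n43679 := d2_2 (iv F182283) D47724 (iv D43679)
theorem F213646 : act 5 n47724 = n43650 := d4_2 (iv F182284) D47724 (iv D43650)
theorem F213647 : act 6 n47724 = n46294 := d5_2 (iv F182285) D47724 (iv D46294)
theorem F213648 : act 7 n47724 = n46245 := d6_2 F213641 D47724 (iv F213636)
theorem F213649 : act 9 n47724 = n46244 := d8_2 (iv F204531) D47724 (iv D46244)
theorem F213650 : act 4 n46239 = n47724 := d34_3 F213649 (iv F213639) F213642
def n47725 : Q := act 4 n43638
theorem D47725 : act 4 n43638 = n47725 := rfl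
theorem F213651 : act 0 n47725 = n46239 := d3_1 D47725 F213650 (iv D47724)
theorem F213652 : act 1 n47725 = n43639 := d11_1 D47725 (iv D43639) D43638
theorem F213653 : act 2 n47725 = n47725 := d18_1 D47725 (iv D47725) F182282
theorem F213654 : act 5 n47725 = n46251 := d30_2 (iv F182284) D47725 (iv F204751) F136385 F204523
theorem F213655 : act 6 n47725 = n46295 := d31_2 (iv F182285) D47725 (iv D46295)
theorem F213656 : act 7 n47725 = n46244 := d32_2 F213641 D47725 (iv F213639)
theorem F213657 : act 9 n47725 = n46245 := d34_2 (iv F204531) D47725 (iv D46245)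
def n47726 : Q := act 3 n43639
theorem D47726 : act 3 n43639 = n47726 := rfl
theorem F213658 : act 0 n47726 = n46289 := d2_1 D47726 F192359 (iv F204584)
theorem F213659 : act 2 n47726 = n47726 := d17_1 D47726 (iv D47726) F182286 F127015 (iv F182286)
theorem F213660 : act 4 n47726 = n43682 := d24_2 D43639 D47726 (iv D43682) (iv D29964) (iv F127011)
theorem F213661 : act 5 n47726 = n46301 := d25_2 F204625 D47726 F192399
theorem F213662 : act 6 n47726 = n46297 := d26_2 (iv F182287) D47726 (iv D46297)
theorem F213663 : act 7 n47726 = n46294 := d27_2 (iv F204585) D47726 F192378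
theorem F213664 : act 9 n47726 = n46247 := d29_2 (iv F204538) D47726 (iv D46247)
def n47727 : Q := act 1 n43671
theorem D47727 : act 1 n43671 = n47727 := rfl
theorem F213665 : act 0 n47727 = n46290 := d0_1 D47727 (iv F213524) F213523 F213494 F213488
theorem F213666 : act 2 n47727 = n43677 := d9_2 D43671 D47727 (iv F204564) (iv D29977) (iv F127106)
theorem F213667 : act 5 n47727 = n47727 := d12_2 F182414 D47727 (iv D47727)
theorem F213668 : act 6 n47727 = n43674 := d13_2 (iv F182415) D47727 (iv D43674)
theorem F213669 : act 7 n47727 = n43683 := d14_2 (iv F182416) D47727 F204559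
theorem F213670 : act 4 n43676 = n47727 := d32_3 F213669 F182458 (iv F182434)
theorem F213671 : act 9 n43675 = n47727 := d43_0 F213669 (iv D43683) (iv F182431)
def n47728 : Q := act 4 n43671
theorem D47728 : act 4 n43671 = n47728 := rfl
theorem F213672 : act 1 n47728 = n43676 := d11_1 D47728 F213670 (iv D47727)
theorem F213673 : act 2 n47728 = n43672 := d18_1 D47728 (iv D43672) D43671
theorem F213674 : act 3 n47728 = n46239 := d24_1 D47728 F213650 F213645 (iv F213631) F213630
theorem F213675 : act 6 n47728 = n43675 := d31_2 (iv F182415) D47728 (iv D43675)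
theorem F213676 : act 7 n47728 = n43681 := d32_2 (iv F182416) D47728 F204646
theorem F213677 : act 5 n43687 = n47728 := d36_3 F213676 F182452 (iv F182476)
theorem F213678 : act 9 n43674 = n47728 := d43_0 F213676 (iv D43681) (iv F182428)
def n47729 : Q := act 9 n43671
theorem D47729 : act 9 n43671 = n47729 := rfl
theorem F213679 : act 0 n47729 = n46286 := d8_1 D47729 (iv F213493) F213488
theorem F213680 : act 1 n47729 = n43675 := d16_1 D47729 F213671 (iv D47727)
theorem F213681 : act 2 n47729 = n43673 := d23_1 D47729 (iv D43673) D43671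
theorem F213682 : act 3 n47729 = n46236 := d29_1 D47729 (iv F213635) F213630
theorem F213683 : act 4 n47729 = n43674 := d34_1 D47729 F213678 (iv D47728)
theorem F213684 : act 5 n47729 = n47729 := d38_1 D47729 (iv D47729) F182414
theorem F213685 : act 6 n47729 = n43676 := d41_1 D47729 (iv D43676) (iv F182415)
theorem F213686 : act 7 n47729 = n43680 := d43_1 D47729 F204656 (iv F182416)
def n47730 : Q := act 0 n43674
theorem D47730 : act 0 n43674 = n47730 := rfl
theorem F213687 : act 1 n47730 = n46247 := d0_2 D43674 D47730 F192205 (iv F204697) F182090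
theorem F213688 : act 2 n47730 = n43701 := d1_2 (iv F182426) D47730 (iv D43701)
theorem F213689 : act 3 n47730 = n46245 := d2_2 F213638 D47730 (iv F213636)
theorem F213690 : act 4 n47730 = n46286 := d3_2 F213683 D47730 (iv F213679)
theorem F213691 : act 5 n47730 = n43686 := d4_2 (iv F182427) D47730 (iv D43686)
theorem F213692 : act 6 n47730 = n46290 := d5_2 F213668 D47730 (iv F213665)
theorem F213693 : act 7 n47730 = n43679 := d6_2 (iv F182428) D47730 (iv D43679)
def n47731 : Q := act 3 n43675
theorem D47731 : act 3 n43675 = n47731 := rfl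
theorem F213694 : act 0 n47731 = n46295 := d2_1 D47731 (iv F213505) F213502
theorem F213695 : act 1 n47731 = n46236 := d10_1 D47731 (iv F213682) F213680
theorem F213696 : act 2 n47731 = n47731 := d17_1 D47731 (iv D47731) F182429 F127118 (iv F182429)
theorem F213697 : act 4 n47731 = n46294 := d24_2 D43675 D47731 F192378 (iv F204696) F182272
theorem F213698 : act 5 n47731 = n47731 := d25_2 F182430 D47731 (iv D47731)
theorem F213699 : act 6 n47731 = n46239 := d26_2 F213675 D47731 (iv F213674)
theorem F213700 : act 7 n47731 = n43682 := d27_2 (iv F182431) D47731 (iv D43682)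
def n47732 : Q := act 8 n43676
theorem D47732 : act 8 n43676 = n47732 := rfl
theorem F213701 : act 0 n47732 = n46269 := d7_1 D47732 F192288 (iv F204424)
theorem F213702 : act 2 n47732 = n43678 := d22_1 D47732 (iv D43678) (iv F182432)
theorem F213703 : act 5 n47732 = n43688 := d37_1 D47732 (iv D43688) (iv F182433)
theorem F213704 : act 7 n47732 = n43684 := d42_1 D47732 (iv D43684) (iv F182434)
def n47733 : Q := act 9 n43679
theorem D47733 : act 9 n43679 = n47733 := rfl
theorem F213705 : act 0 n47733 = n43681 := d8_1 D47733 (iv D43681) D43679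
theorem F213706 : act 1 n47733 = n46294 := d16_1 D47733 (iv F213515) F213509
theorem F213707 : act 2 n47733 = n43709 := d23_1 D47733 (iv D43709) (iv F182443)
theorem F213708 : act 3 n47733 = n46244 := d29_1 D47733 (iv F213649) F213645
theorem F213709 : act 4 n47733 = n46236 := d34_1 D47733 (iv F213635) F213631
theorem F213710 : act 5 n47733 = n43689 := d38_1 D47733 (iv D43689) (iv F182444)
theorem F213711 : act 6 n47733 = n46240 := d41_1 D47733 F204688 (iv F182445)
def n47734 : Q := act 8 n43681
theorem D47734 : act 8 n43681 = n47734 := rfl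
theorem F213712 : act 1 n47734 = n43684 := d15_1 D47734 (iv D43684) (iv F182450)
theorem F213713 : act 2 n47734 = n43712 := d22_1 D47734 (iv D43712) (iv F182451)
theorem F213714 : act 4 n47734 = n45862 := d33_1 D47734 F190708 (iv F204646)
theorem F213715 : act 5 n47734 = n43690 := d37_1 D47734 (iv D43690) (iv F182452)
theorem F213716 : act 6 n47734 = n45866 := d40_1 D47734 F190723 (iv F204647)
def n47735 : Q := act 8 n43682
theorem D47735 : act 8 n43682 = n47735 := rfl
theorem F213717 : act 2 n47735 = n47735 := d22_1 D47735 (iv D47735) F182454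
theorem F213718 : act 5 n47735 = n47735 := d37_1 D47735 (iv D47735) F182455
theorem F213719 : act 6 n47735 = n46328 := d40_1 D47735 (iv D46328) (iv F182456)
def n47736 : Q := act 9 n43682
theorem D47736 : act 9 n43682 = n47736 := rfl
theorem F213720 : act 0 n47736 = n46297 := d8_1 D47736 (iv F213530) F213523
theorem F213721 : act 1 n47736 = n46286 := d16_1 D47736 (iv F213493) (iv F213494)
theorem F213722 : act 2 n47736 = n47736 := d23_1 D47736 (iv D47736) F182454
theorem F213723 : act 3 n47736 = n43683 := d29_1 D47736 (iv D43683) D43682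
theorem F213724 : act 4 n47736 = n46247 := d34_1 D47736 (iv F213664) F213660
theorem F213725 : act 5 n47736 = n47736 := d38_1 D47736 (iv D47736) F182455
theorem F213726 : act 6 n47736 = n46289 := d41_1 D47736 F204586 (iv F182456)
def n47737 : Q := act 8 n43683
theorem D47737 : act 8 n43683 = n47737 := rfl
theorem F213727 : act 0 n47737 = n46273 := d7_1 D47737 F192302 (iv F204532)
theorem F213728 : act 1 n47737 = n45862 := d15_1 D47737 F190708 (iv F204559)
theorem F213729 : act 2 n47737 = n43685 := d22_1 D47737 (iv D43685) (iv F182457)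
theorem F213730 : act 4 n47737 = n43684 := d33_1 D47737 (iv D43684) (iv F182458)
theorem F213731 : act 5 n47737 = n47737 := d37_1 D47737 (iv D47737) F182459
theorem F213732 : act 6 n47737 = n45865 := d40_1 D47737 F190719 F204567
def n47738 : Q := act 3 n43684
theorem D47738 : act 3 n43684 = n47738 := rfl
theorem F213733 : act 0 n47738 = n45786 := d2_1 D47738 F190496 (iv F204410)
theorem F213734 : act 2 n47738 = n45709 := d17_1 D47738 (iv D45709) F132434 (iv F204317) (iv F182461)
theorem F213735 : act 5 n47738 = n43691 := d25_2 (iv F182462) D47738 (iv D43691)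
theorem F213736 : act 6 n47738 = n46331 := d26_2 (iv F182463) D47738 (iv D46331)
theorem F213737 : act 8 n47738 = n45725 := d28_2 D43684 D47738 F190267 F132572 (iv F204505)
def n47739 : Q := act 3 n43685
theorem D47739 : act 3 n43685 = n47739 := rfl
theorem F213738 : act 0 n47739 = n46265 := d2_1 D47739 F192273 (iv F204411)
theorem F213739 : act 1 n47739 = n43717 := d10_1 D47739 (iv D43717) (iv F182464)
theorem F213740 : act 4 n47739 = n46201 := d24_2 (iv F182465) D47739 (iv D46201) F133706 (iv F204317)
theorem F213741 : act 5 n47739 = n47739 := d25_2 F182466 D47739 (iv D47739)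
theorem F213742 : act 6 n47739 = n44944 := d26_2 F204570 D47739 F187497
theorem F213743 : act 8 n47739 = n47739 := d28_2 D43685 D47739 (iv D47739) (iv D43685) F127135
def n47740 : Q := act 9 n43686
theorem D47740 : act 9 n43686 = n47740 := rfl
theorem F213744 : act 0 n47740 = n43687 := d8_1 D47740 (iv D43687) D43686
theorem F213745 : act 1 n47740 = n46301 := d16_1 D47740 F206672 (iv F206670)
theorem F213746 : act 2 n47740 = n43718 := d23_1 D47740 (iv D43718) (iv F182468)
theorem F213747 : act 3 n47740 = n46251 := d29_1 D47740 (iv F206669) F206668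
theorem F213748 : act 4 n47740 = n47740 := d34_1 D47740 (iv D47740) F182469
theorem F213749 : act 6 n47740 = n47740 := d41_1 D47740 (iv D47740) F182470
theorem F213750 : act 7 n47740 = n43689 := d43_1 D47740 (iv D43689) (iv F182471)
def n47741 : Q := act 8 n43687
theorem D47741 : act 8 n43687 = n47741 := rfl
theorem F213751 : act 1 n47741 = n43688 := d15_1 D47741 (iv D43688) (iv F182472)
theorem F213752 : act 2 n47741 = n43719 := d22_1 D47741 (iv D43719) (iv F182473)
theorem F213753 : act 4 n47741 = n47741 := d33_1 D47741 (iv D47741) F182474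
theorem F213754 : act 6 n47741 = n47741 := d40_1 D47741 (iv D47741) F182475
theorem F213755 : act 7 n47741 = n43690 := d42_1 D47741 (iv D43690) (iv F182476)
def n47742 : Q := act 3 n43688
theorem D47742 : act 3 n43688 = n47742 := rfl
theorem F213756 : act 0 n47742 = n45789 := d2_1 D47742 F190502 (iv F204145)
theorem F213757 : act 2 n47742 = n45711 := d17_1 D47742 (iv D45711) F132437 (iv F203933) (iv F182477)
theorem F213758 : act 6 n47742 = n47742 := d26_2 F182479 D47742 (iv D47742)
theorem F213759 : act 7 n47742 = n43691 := d27_2 (iv F182480) D47742 (iv D43691)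
theorem F213760 : act 8 n47742 = n45728 := d28_2 D43688 D47742 F190274 F132585 (iv F204336)
def n47743 : Q := act 8 n43689
theorem D47743 : act 8 n43689 = n47743 := rfl
theorem F213761 : act 0 n47743 = n43690 := d7_1 D47743 (iv D43690) (iv F182481)
theorem F213762 : act 1 n47743 = n46280 := d15_1 D47743 F192328 (iv F204525)
theorem F213763 : act 2 n47743 = n43721 := d22_1 D47743 (iv D43721) (iv F182482)
theorem F213764 : act 4 n47743 = n47743 := d33_1 D47743 (iv D47743) F182483
theorem F213765 : act 6 n47743 = n43692 := d40_1 D47743 (iv D43692) (iv F182484)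
def n47744 : Q := act 3 n43690
theorem D47744 : act 3 n43690 = n47744 := rfl
theorem F213766 : act 1 n47744 = n43691 := d10_1 D47744 (iv D43691) (iv F182485)
theorem F213767 : act 6 n47744 = n43693 := d26_2 (iv F182488) D47744 (iv D43693)
theorem F213768 : act 8 n47744 = n45731 := d28_2 D43690 D47744 F190285 F132595 (iv F204502)
def n47745 : Q := act 4 n43691
theorem D47745 : act 4 n43691 = n47745 := rfl
theorem F213769 : act 0 n47745 = n45793 := d3_1 D47745 (iv D45793) (iv F204209)
theorem F213770 : act 2 n47745 = n44720 := d18_1 D47745 F203515 (iv F204210)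
theorem F213771 : act 3 n47745 = n47745 := d24_1 D47745 (iv D47745) (iv D43691) F127162 D43691
theorem F213772 : act 6 n47745 = n43694 := d31_2 (iv F182489) D47745 (iv D43694)
theorem F213773 : act 8 n47745 = n44731 := d33_2 (iv F204211) D47745 F203513
def n47746 : Q := act 8 n43709
theorem D47746 : act 8 n43709 = n47746 := rfl
theorem F213774 : act 0 n47746 = n43712 := d7_1 D47746 (iv D43712) (iv F182561)
theorem F213775 : act 1 n47746 = n47746 := d15_1 D47746 (iv D47746) F182562
theorem F213776 : act 4 n47746 = n45760 := d33_1 D47746 F190397 (iv F204644)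
theorem F213777 : act 5 n47746 = n43721 := d37_1 D47746 (iv D43721) (iv F182564)
theorem F213778 : act 6 n47746 = n45763 := d40_1 D47746 F190410 (iv F204645)
def n47747 : Q := act 3 n43712
theorem D47747 : act 3 n43712 = n47747 := rfl
theorem F213779 : act 1 n47747 = n43716 := d10_1 D47747 (iv D43716) (iv F182574)
theorem F213780 : act 4 n47747 = n45427 := d24_2 (iv F204651) D47747 (iv D45427) F131753 D31429
theorem F213781 : act 5 n47747 = n43722 := d25_2 (iv F182575) D47747 (iv D43722)
theorem F213782 : act 6 n47747 = n45430 := d26_2 (iv F204652) D47747 F189214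
theorem F213783 : act 8 n47747 = n47747 := d28_2 D43712 D47747 (iv D47747) (iv D43712) F127218
def n47748 : Q := act 8 n43718
theorem D47748 : act 8 n43718 = n47748 := rfl
theorem F213784 : act 0 n47748 = n43719 := d7_1 D47748 (iv D43719) (iv F182601)
theorem F213785 : act 1 n47748 = n47748 := d15_1 D47748 (iv D47748) F182602
theorem F213786 : act 4 n47748 = n47748 := d33_1 D47748 (iv D47748) F182604
theorem F213787 : act 6 n47748 = n47748 := d40_1 D47748 (iv D47748) F182605
theorem F213788 : act 7 n47748 = n43721 := d42_1 D47748 (iv D43721) (iv F182606)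
def n47749 : Q := act 3 n43719
theorem D47749 : act 3 n43719 = n47749 := rfl
theorem F213789 : act 1 n47749 = n43720 := d10_1 D47749 (iv D43720) (iv F182607)
theorem F213790 : act 6 n47749 = n47749 := d26_2 F182609 D47749 (iv D47749)
theorem F213791 : act 7 n47749 = n43722 := d27_2 (iv F182610) D47749 (iv D43722)
theorem F213792 : act 8 n47749 = n47749 := d28_2 D43719 D47749 (iv D47749) (iv D43719) F127245
def n47750 : Q := act 3 n44038
theorem D47750 : act 3 n44038 = n47750 := rfl
theorem F213793 : act 0 n47750 = n44303 := d2_1 D47750 (iv D44303) (iv F197054)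
theorem F213794 : act 1 n47750 = n47750 := d10_1 D47750 (iv D47750) F183994
theorem F213795 : act 4 n47750 = n47750 := d24_2 (iv F197055) D47750 (iv D47750) F197055 F128841
theorem F213796 : act 5 n47750 = n46349 := d25_2 F208083 D47750 (iv F208081)
theorem F213797 : act 6 n47750 = n44506 := d26_2 (iv F197056) D47750 (iv D44506)
theorem F213798 : act 7 n47750 = n44271 := d27_2 (iv F197057) D47750 (iv D44271)
theorem F213799 : act 8 n47750 = n44042 := d28_2 D44038 D47750 (iv D44042) (iv D30208) D30206
theorem F213800 : act 9 n47750 = n46405 := d29_2 F208840 D47750 (iv F208835)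
def n47751 : Q := act 3 n44210
theorem D47751 : act 3 n44210 = n47751 := rfl
theorem F213801 : act 0 n47751 = n44284 := d2_1 D47751 (iv D44284) (iv F197068)
theorem F213802 : act 1 n47751 = n45001 := d10_1 D47751 (iv D45001) (iv F184686)
theorem F213803 : act 4 n47751 = n45068 := d24_2 (iv F197070) D47751 (iv D45068) F130933 (iv F201400)
theorem F213804 : act 6 n47751 = n44258 := d26_2 (iv F197071) D47751 (iv D44258)
theorem F213805 : act 7 n47751 = n44415 := d27_2 (iv F184688) D47751 (iv D44415)
theorem F213806 : act 8 n47751 = n44214 := d28_2 D44210 D47751 (iv D44214) (iv D30324) D30322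
def n47752 : Q := act 9 n44210
theorem D47752 : act 9 n44210 = n47752 := rfl
theorem F213807 : act 0 n47752 = n44285 := d8_1 D47752 (iv D44285) (iv F197068)
theorem F213808 : act 1 n47752 = n45002 := d16_1 D47752 (iv D45002) (iv F184686)
theorem F213809 : act 2 n47752 = n44272 := d23_1 D47752 (iv D44272) (iv F197069)
theorem F213810 : act 4 n47752 = n44262 := d34_1 D47752 (iv D44262) (iv F197070)
theorem F213811 : act 6 n47752 = n44259 := d41_1 D47752 (iv D44259) (iv F197071)
theorem F213812 : act 7 n47752 = n44416 := d43_1 D47752 (iv D44416) (iv F184688)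
theorem F213813 : act 8 n47752 = n44280 := d44_1 D47752 (iv D44280) (iv D30368) (iv F128665) D44210
def n47753 : Q := act 9 n44214
theorem D47753 : act 9 n44214 = n47753 := rfl
theorem F213814 : act 0 n47753 = n45121 := d8_1 D47753 (iv D45121) (iv F201908)
theorem F213815 : act 1 n47753 = n45010 := d16_1 D47753 (iv D45010) (iv F184702)
theorem F213816 : act 3 n47753 = n44215 := d29_1 D47753 (iv D44215) D44214
theorem F213817 : act 4 n47753 = n45077 := d34_1 D47753 (iv D45077) (iv F201909)
theorem F213818 : act 7 n47753 = n44424 := d43_1 D47753 (iv D44424) (iv F184703)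
def n47754 : Q := act 3 n44245
theorem D47754 : act 3 n44245 = n47754 := rfl
theorem F213819 : act 0 n47754 = n45009 := d2_1 D47754 F187776 F201469
theorem F213820 : act 1 n47754 = n44258 := d10_1 D47754 (iv D44258) (iv F184818)
theorem F213821 : act 4 n47754 = n44980 := d24_2 (iv F184820) D47754 (iv D44980) F130686 F201067
theorem F213822 : act 6 n47754 = n45001 := d26_2 (iv F197115) D47754 (iv D45001)
theorem F213823 : act 7 n47754 = n44466 := d27_2 (iv F184821) D47754 (iv D44466)
theorem F213824 : act 8 n47754 = n45006 := d28_2 D44245 D47754 (iv D45006) (iv D30856) (iv F196669)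
def n47755 : Q := act 9 n44245
theorem D47755 : act 9 n44245 = n47755 := rfl
theorem F213825 : act 0 n47755 = n45016 := d8_1 D47755 (iv D45016) F201469
theorem F213826 : act 1 n47755 = n44259 := d16_1 D47755 (iv D44259) (iv F184818)
theorem F213827 : act 2 n47755 = n47755 := d23_1 D47755 (iv D47755) F184819
theorem F213828 : act 4 n47755 = n44249 := d34_1 D47755 (iv D44249) (iv F184820)
theorem F213829 : act 6 n47755 = n45002 := d41_1 D47755 (iv D45002) (iv F197115)
theorem F213830 : act 7 n47755 = n44467 := d43_1 D47755 (iv D44467) (iv F184821)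
theorem F213831 : act 8 n47755 = n44294 := d44_1 D47755 (iv D44294) F201405 F197017 D44245
def n47756 : Q := act 4 n44258
theorem D47756 : act 4 n44258 = n47756 := rfl
theorem F213832 : act 0 n47756 = n44287 := d3_1 D47756 (iv D44287) (iv F184876)
theorem F213833 : act 1 n47756 = n44980 := d11_1 D47756 (iv F213821) F213820
theorem F213834 : act 3 n47756 = n44263 := d24_1 D47756 (iv D44263) (iv D30356) (iv F128790) D44258
theorem F213835 : act 6 n47756 = n45068 := d31_2 F213804 D47756 (iv F213803)
theorem F213836 : act 7 n47756 = n44490 := d32_2 (iv F184877) D47756 (iv D44490)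
theorem F213837 : act 8 n47756 = n45073 := d33_2 F208381 D47756 F208383
def n47757 : Q := act 9 n44258
theorem D47757 : act 9 n44258 = n47757 := rfl
theorem F213838 : act 0 n47757 = n44288 := d8_1 D47757 (iv D44288) (iv F184876)
theorem F213839 : act 3 n47757 = n44259 := d29_1 D47757 (iv D44259) D44258
theorem F213840 : act 7 n47757 = n44491 := d43_1 D47757 (iv D44491) (iv F184877)
def n47758 : Q := act 9 n44263
theorem D47758 : act 9 n44263 = n47758 := rfl
theorem F213841 : act 0 n47758 = n44294 := d8_1 D47758 (iv D44294) (iv F184896)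
theorem F213842 : act 1 n47758 = n44981 := d16_1 D47758 (iv D44981) (iv F201337)
theorem F213843 : act 2 n47758 = n47758 := d23_1 D47758 (iv D47758) F184897
theorem F213844 : act 4 n47758 = n44264 := d34_1 D47758 (iv D44264) D44263
theorem F213845 : act 6 n47758 = n45069 := d41_1 D47758 (iv D45069) (iv F201338)
theorem F213846 : act 7 n47758 = n44497 := d43_1 D47758 (iv D44497) (iv F184898)
theorem F213847 : act 8 n47758 = n45016 := d44_1 D47758 (iv D45016) F201470 (iv F130656) (iv F201339)
def n47759 : Q := act 9 n44269
theorem D47759 : act 9 n44269 = n47759 := rfl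
theorem F213848 : act 0 n47759 = n44302 := d8_1 D47759 (iv D44302) (iv F184923)
theorem F213849 : act 1 n47759 = n47759 := d16_1 D47759 (iv D47759) F184924
theorem F213850 : act 3 n47759 = n46348 := d29_1 D47759 F206872 (iv F206299)
theorem F213851 : act 4 n47759 = n47759 := d34_1 D47759 (iv D47759) F184925
theorem F213852 : act 5 n47759 = n44272 := d38_1 D47759 (iv D44272) (iv F184926)
theorem F213853 : act 6 n47759 = n46347 := d41_1 D47759 (iv D46347) F206300
theorem F213854 : act 7 n47759 = n44512 := d43_1 D47759 (iv F208086) F208085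
theorem F213855 : act 8 n47759 = n44274 := d44_1 D47759 (iv D44274) (iv F205611) (iv F201870) D44269
def n47760 : Q := act 9 n44271
theorem D47760 : act 9 n44271 = n47760 := rfl
theorem F213856 : act 0 n47760 = n44306 := d8_1 D47760 (iv D44306) (iv F184932)
theorem F213857 : act 1 n47760 = n47760 := d16_1 D47760 (iv D47760) F184933
theorem F213858 : act 3 n47760 = n44272 := d29_1 D47760 (iv D44272) D44271
theorem F213859 : act 4 n47760 = n47760 := d34_1 D47760 (iv D47760) F184934
theorem F213860 : act 5 n47760 = n46348 := d38_1 D47760 F206872 F206297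
theorem F213861 : act 6 n47760 = n44274 := d41_1 D47760 (iv D44274) (iv F184935)
theorem F213862 : act 7 n47760 = n46405 := d43_1 D47760 (iv F213800) F213798
theorem F213863 : act 8 n47760 = n46347 := d44_1 D47760 (iv D46347) (iv F206319) (iv F206311) (iv F206294)
def n47761 : Q := act 9 n44279
theorem D47761 : act 9 n44279 = n47761 := rfl
theorem F213864 : act 1 n47761 = n45107 := d16_1 D47761 (iv D45107) (iv F184963)
theorem F213865 : act 3 n47761 = n44280 := d29_1 D47761 (iv D44280) D44279
theorem F213866 : act 4 n47761 = n45116 := d34_1 D47761 (iv D45116) (iv F201791)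
theorem F213867 : act 6 n47761 = n45121 := d41_1 D47761 (iv D45121) (iv F201792)
theorem F213868 : act 7 n47761 = n44521 := d43_1 D47761 (iv D44521) (iv F184964)
def n47762 : Q := act 3 n44282
theorem D47762 : act 3 n44282 = n47762 := rfl
theorem F213869 : act 1 n47762 = n45110 := d10_1 D47762 (iv D45110) (iv F184973)
theorem F213870 : act 5 n47762 = n44284 := d25_2 (iv F184976) D47762 (iv D44284)
theorem F213871 : act 7 n47762 = n45386 := d27_2 (iv F206521) D47762 F189106
theorem F213872 : act 8 n47762 = n45120 := d28_2 D44282 D47762 F188197 F131080 F201787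
def n47763 : Q := act 9 n44282
theorem D47763 : act 9 n44282 = n47763 := rfl
theorem F213873 : act 1 n47763 = n45111 := d16_1 D47763 (iv D45111) (iv F184973)
theorem F213874 : act 2 n47763 = n44302 := d23_1 D47763 (iv D44302) (iv F184974)
theorem F213875 : act 4 n47763 = n47763 := d34_1 D47763 (iv D47763) F184975
theorem F213876 : act 5 n47763 = n44285 := d38_1 D47763 (iv D44285) (iv F184976)
theorem F213877 : act 7 n47763 = n44562 := d43_1 D47763 F206522 (iv F206521)
theorem F213878 : act 8 n47763 = n44308 := d44_1 D47763 (iv D44308) (iv F205945) F196421 D44282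
def n47764 : Q := act 2 n44284
theorem D47764 : act 2 n44284 = n47764 := rfl
theorem F213879 : act 3 n47764 = n44305 := d17_2 D44284 D47764 (iv D44305) (iv D30385) (iv F128864)
theorem F213880 : act 4 n47764 = n45105 := d18_2 (iv F201802) D47764 (iv D45105)
theorem F213881 : act 6 n47764 = n44286 := d20_2 (iv F184983) D47764 (iv D44286)
theorem F213882 : act 7 n47764 = n45384 := d21_2 (iv F201803) D47764 F189102
theorem F213883 : act 8 n47764 = n45118 := d22_2 (iv F201804) D47764 F188191
def n47765 : Q := act 9 n44284
theorem D47765 : act 9 n44284 = n47765 := rfl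
theorem F213884 : act 1 n47765 = n45116 := d16_1 D47765 (iv D45116) (iv F184982)
theorem F213885 : act 3 n47765 = n44285 := d29_1 D47765 (iv D44285) D44284
theorem F213886 : act 4 n47765 = n45107 := d34_1 D47765 (iv D45107) (iv F201802)
theorem F213887 : act 6 n47765 = n44288 := d41_1 D47765 (iv D44288) (iv F184983)
theorem F213888 : act 7 n47765 = n45387 := d43_1 D47765 (iv D45387) (iv F201803)
def n47766 : Q := act 1 n44286
theorem D47766 : act 1 n44286 = n47766 := rfl
theorem F213889 : act 2 n47766 = n45117 := d9_2 D44286 D47766 (iv D45117) (iv D30929) (iv F128867)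
theorem F213890 : act 3 n47766 = n44307 := d10_2 (iv F184988) D47766 (iv D44307)
theorem F213891 : act 5 n47766 = n45006 := d12_2 F208378 D47766 F208382
theorem F213892 : act 7 n47766 = n44531 := d14_2 (iv F184989) D47766 (iv D44531)
def n47767 : Q := act 4 n44286
theorem D47767 : act 4 n44286 = n47767 := rfl
theorem F213893 : act 2 n47767 = n44287 := d18_1 D47767 (iv D44287) D44286
theorem F213894 : act 3 n47767 = n47767 := d24_1 D47767 (iv D47767) F184988 F128926 (iv F184988)
theorem F213895 : act 6 n47767 = n45105 := d31_2 F213881 D47767 (iv F213880)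
theorem F213896 : act 7 n47767 = n44532 := d32_2 (iv F184989) D47767 (iv D44532)
theorem F213897 : act 8 n47767 = n45114 := d33_2 F208309 D47767 (iv F208305)
def n47768 : Q := act 9 n44286
theorem D47768 : act 9 n44286 = n47768 := rfl
theorem F213898 : act 2 n47768 = n44288 := d23_1 D47768 (iv D44288) D44286
theorem F213899 : act 3 n47768 = n44308 := d29_1 D47768 (iv D44308) (iv F184988)
theorem F213900 : act 7 n47768 = n44533 := d43_1 D47768 (iv D44533) (iv F184989)
def n47769 : Q := act 5 n44287
theorem D47769 : act 5 n44287 = n47769 := rfl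
theorem F213901 : act 1 n47769 = n45120 := d12_1 D47769 (iv D45120) (iv F184990)
theorem F213902 : act 3 n47769 = n44293 := d25_1 D47769 (iv D44293) (iv F184991)
theorem F213903 : act 7 n47769 = n44534 := d36_2 (iv F184992) D47769 (iv D44534)
theorem F213904 : act 8 n47769 = n45110 := d37_2 (iv F201813) D47769 F188173
def n47770 : Q := act 9 n44287
theorem D47770 : act 9 n44287 = n47770 := rfl
theorem F213905 : act 1 n47770 = n45121 := d16_1 D47770 (iv D45121) (iv F184990)
theorem F213906 : act 3 n47770 = n44294 := d29_1 D47770 (iv D44294) (iv F184991)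
theorem F213907 : act 4 n47770 = n44288 := d34_1 D47770 (iv D44288) D44287
theorem F213908 : act 6 n47770 = n45107 := d41_1 D47770 (iv D45107) (iv F201812)
theorem F213909 : act 7 n47770 = n44535 := d43_1 D47770 (iv D44535) (iv F184992)
def n47771 : Q := act 8 n44288
theorem D47771 : act 8 n44288 = n47771 := rfl
theorem F213910 : act 1 n47771 = n45122 := d15_1 D47771 (iv D45122) (iv F184993)
theorem F213911 : act 7 n47771 = n44536 := d42_1 D47771 (iv D44536) (iv F184995)
def n47772 : Q := act 9 n44293
theorem D47772 : act 9 n44293 = n47772 := rfl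
theorem F213912 : act 1 n47772 = n45129 := d16_1 D47772 (iv D45129) (iv F185016)
theorem F213913 : act 2 n47772 = n47772 := d23_1 D47772 (iv D47772) F185017
theorem F213914 : act 4 n47772 = n44297 := d34_1 D47772 (iv D44297) (iv F185018)
theorem F213915 : act 5 n47772 = n44294 := d38_1 D47772 (iv D44294) D44293
theorem F213916 : act 7 n47772 = n44543 := d43_1 D47772 (iv D44543) (iv F185019)
def n47773 : Q := act 7 n44296
theorem D47773 : act 7 n44296 = n47773 := rfl
theorem F213917 : act 1 n47773 = n45131 := d14_1 D47773 (iv D45131) (iv F185030)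
theorem F213918 : act 2 n47773 = n47773 := d21_1 D47773 (iv D47773) F185031
theorem F213919 : act 5 n47773 = n47773 := d36_1 D47773 (iv D47773) F185032
theorem F213920 : act 6 n47773 = n44545 := d39_1 D47773 (iv D44545) (iv D30545) (iv F128898) D44296
theorem F213921 : act 8 n47773 = n46382 := d42_2 (iv F185033) D47773 F207021
theorem F213922 : act 9 n46398 = n47773 := d44_0 F213921 (iv D46382) F135129 D32037 D46398
def n47774 : Q := act 9 n44296
theorem D47774 : act 9 n44296 = n47774 := rfl
theorem F213923 : act 1 n47774 = n45132 := d16_1 D47774 (iv D45132) (iv F185030)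
theorem F213924 : act 2 n47774 = n47774 := d23_1 D47774 (iv D47774) F185031
theorem F213925 : act 5 n47774 = n47774 := d38_1 D47774 (iv D47774) F185032
theorem F213926 : act 6 n47774 = n44297 := d41_1 D47774 (iv D44297) D44296
theorem F213927 : act 7 n47774 = n46398 := d43_1 D47774 F213922 (iv D47773)
theorem F213928 : act 8 n47774 = n46344 := d44_1 D47774 (iv D46344) (iv F206369) F206835 (iv F185033)
def n47775 : Q := act 2 n44303
theorem D47775 : act 2 n44303 = n47775 := rfl
theorem F213929 : act 3 n47775 = n45384 := d17_2 D44303 D47775 F189102 F131684 (iv F202143)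
theorem F213930 : act 4 n47775 = n47775 := d18_2 F185057 D47775 (iv D47775)
theorem F213931 : act 6 n47775 = n44555 := d20_2 (iv F185058) D47775 (iv D44555)
theorem F213932 : act 7 n47775 = n44305 := d21_2 (iv F185059) D47775 (iv D44305)
theorem F213933 : act 8 n47775 = n46383 := d22_2 F206517 D47775 F207022
def n47776 : Q := act 9 n44305
theorem D47776 : act 9 n44305 = n47776 := rfl
theorem F213934 : act 2 n47776 = n44306 := d23_1 D47776 (iv D44306) D44305
theorem F213935 : act 4 n47776 = n47776 := d34_1 D47776 (iv D47776) F185064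
theorem F213936 : act 6 n47776 = n44308 := d41_1 D47776 (iv D44308) (iv F185065)
def n47777 : Q := act 9 n44307
theorem D47777 : act 9 n44307 = n47777 := rfl
theorem F213937 : act 1 n47777 = n44308 := d16_1 D47777 (iv D44308) D44307
theorem F213938 : act 2 n47777 = n44322 := d23_1 D47777 (iv D44322) (iv F185070)
theorem F213939 : act 4 n47777 = n47777 := d34_1 D47777 (iv D47777) F185071
theorem F213940 : act 5 n47777 = n45007 := d38_1 D47777 (iv D45007) (iv F206183)
theorem F213941 : act 7 n47777 = n44561 := d43_1 D47777 (iv D44561) (iv F185072)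
theorem F213942 : act 8 n47777 = n45111 := d44_1 D47777 (iv D45111) (iv D30925) (iv F130764) (iv F206184)
def n47778 : Q := act 9 n44321
theorem D47778 : act 9 n44321 = n47778 := rfl
theorem F213943 : act 0 n47778 = n44322 := d8_1 D47778 (iv D44322) D44321
theorem F213944 : act 1 n47778 = n47778 := d16_1 D47778 (iv D47778) F185122
theorem F213945 : act 3 n47778 = n45165 := d29_1 D47778 (iv D45165) (iv F185123)
theorem F213946 : act 4 n47778 = n47778 := d34_1 D47778 (iv D47778) F185124
theorem F213947 : act 5 n47778 = n44994 := d38_1 D47778 (iv D44994) (iv F206181)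
theorem F213948 : act 7 n47778 = n44579 := d43_1 D47778 (iv D44579) (iv F185125)
theorem F213949 : act 8 n47778 = n45091 := d44_1 D47778 (iv D45091) (iv D30912) (iv F130722) (iv F206182)
def n47779 : Q := act 8 n44412
theorem D47779 : act 8 n44412 = n47779 := rfl
theorem F213950 : act 0 n47779 = n44523 := d7_1 D47779 (iv D44523) (iv F197887)
theorem F213951 : act 1 n47779 = n45223 := d15_1 D47779 (iv D45223) (iv F185493)
theorem F213952 : act 2 n47779 = n44503 := d22_1 D47779 (iv D44503) (iv F197888)
theorem F213953 : act 4 n47779 = n44827 := d33_1 D47779 (iv D44827) (iv F197889)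
theorem F213954 : act 5 n47779 = n44414 := d37_1 D47779 (iv D44414) D44412
theorem F213955 : act 7 n47779 = n44485 := d42_1 D47779 (iv D44485) (iv F197890)
def n47780 : Q := act 3 n44414
theorem D47780 : act 3 n44414 = n47780 := rfl
theorem F213956 : act 0 n47780 = n44526 := d2_1 D47780 (iv D44526) (iv F197891)
theorem F213957 : act 1 n47780 = n45225 := d10_1 D47780 (iv D45225) (iv F185500)
theorem F213958 : act 4 n47780 = n45326 := d24_2 (iv F197893) D47780 (iv D45326) F131549 F201872
theorem F213959 : act 6 n47780 = n44415 := d26_2 (iv F185502) D47780 (iv D44415)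
theorem F213960 : act 7 n47780 = n44487 := d27_2 (iv F197894) D47780 (iv D44487)
theorem F213961 : act 8 n47780 = n44420 := d28_2 D44414 D47780 (iv D44420) (iv D30462) (iv F129217)
def n47781 : Q := act 9 n44414
theorem D47781 : act 9 n44414 = n47781 := rfl
theorem F213962 : act 0 n47781 = n44527 := d8_1 D47781 (iv D44527) (iv F197891)
theorem F213963 : act 1 n47781 = n45226 := d16_1 D47781 (iv D45226) (iv F185500)
theorem F213964 : act 2 n47781 = n44507 := d23_1 D47781 (iv D44507) (iv F197892)
theorem F213965 : act 4 n47781 = n44493 := d34_1 D47781 (iv D44493) (iv F197893)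
theorem F213966 : act 6 n47781 = n44416 := d41_1 D47781 (iv D44416) (iv F185502)
theorem F213967 : act 7 n47781 = n44488 := d43_1 D47781 (iv D44488) (iv F197894)
theorem F213968 : act 8 n47781 = n44518 := d44_1 D47781 (iv D44518) (iv D30527) (iv F129219) D44414
def n47782 : Q := act 2 n44415
theorem D47782 : act 2 n44415 = n47782 := rfl
theorem F213969 : act 0 n47782 = n45384 := d1_1 D47782 F189102 (iv F202114)
theorem F213970 : act 4 n47782 = n45328 := d18_2 (iv F202115) D47782 (iv D45328)
theorem F213971 : act 8 n47782 = n44422 := d22_2 (iv F185504) D47782 (iv D44422)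
def n47783 : Q := act 9 n44415
theorem D47783 : act 9 n44415 = n47783 := rfl
theorem F213972 : act 0 n47783 = n45387 := d8_1 D47783 (iv D45387) (iv F202114)
theorem F213973 : act 1 n47783 = n45229 := d16_1 D47783 (iv D45229) (iv F185503)
theorem F213974 : act 3 n47783 = n44416 := d29_1 D47783 (iv D44416) D44415
theorem F213975 : act 4 n47783 = n45330 := d34_1 D47783 (iv D45330) (iv F202115)
def n47784 : Q := act 3 n44418
theorem D47784 : act 3 n44418 = n47784 := rfl
theorem F213976 : act 0 n47784 = n45401 := d2_1 D47784 F189139 (iv F202623)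
theorem F213977 : act 1 n47784 = n45232 := d10_1 D47784 (iv D45232) (iv F185513)
theorem F213978 : act 5 n47784 = n44420 := d25_2 (iv F185516) D47784 (iv D44420)
def n47785 : Q := act 9 n44418
theorem D47785 : act 9 n44418 = n47785 := rfl
theorem F213979 : act 0 n47785 = n45417 := d8_1 D47785 (iv D45417) (iv F202623)
theorem F213980 : act 1 n47785 = n45233 := d16_1 D47785 (iv D45233) (iv F185513)
theorem F213981 : act 2 n47785 = n44438 := d23_1 D47785 (iv D44438) (iv F185514)
theorem F213982 : act 4 n47785 = n44728 := d34_1 D47785 (iv D44728) (iv F185515)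
theorem F213983 : act 5 n47785 = n44421 := d38_1 D47785 (iv D44421) (iv F185516)
theorem F213984 : act 8 n47785 = n44525 := d44_1 D47785 (iv D44525) (iv D30531) (iv F129225) D44418
def n47786 : Q := act 9 n44420
theorem D47786 : act 9 n44420 = n47786 := rfl
theorem F213985 : act 0 n47786 = n45402 := d8_1 D47786 (iv D45402) (iv F202621)
theorem F213986 : act 1 n47786 = n45238 := d16_1 D47786 (iv D45238) (iv F185521)
theorem F213987 : act 3 n47786 = n44421 := d29_1 D47786 (iv D44421) D44420
theorem F213988 : act 4 n47786 = n45339 := d34_1 D47786 (iv D45339) (iv F202622)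
theorem F213989 : act 6 n47786 = n44424 := d41_1 D47786 (iv D44424) (iv F185522)
def n47787 : Q := act 9 n44422
theorem D47787 : act 9 n44422 = n47787 := rfl
theorem F213990 : act 0 n47787 = n45408 := d8_1 D47787 (iv D45408) (iv F202761)
theorem F213991 : act 2 n47787 = n44424 := d23_1 D47787 (iv D44424) D44422
theorem F213992 : act 3 n47787 = n44444 := d29_1 D47787 (iv D44444) (iv F185528)
theorem F213993 : act 4 n47787 = n45342 := d34_1 D47787 (iv D45342) (iv F202762)
def n47788 : Q := act 8 n44424
theorem D47788 : act 8 n44424 = n47788 := rfl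
theorem F213994 : act 0 n47788 = n45412 := d7_1 D47788 (iv D45412) (iv F202763)
theorem F213995 : act 1 n47788 = n45244 := d15_1 D47788 (iv D45244) (iv F185531)
theorem F213996 : act 3 n47788 = n44536 := d28_1 D47788 (iv D44536) F129480 (iv F129238) (iv F185532)
theorem F213997 : act 4 n47788 = n45345 := d33_1 D47788 (iv D45345) (iv F202764)
def n47789 : Q := act 8 n44444
theorem D47789 : act 8 n44444 = n47789 := rfl
theorem F213998 : act 0 n47789 = n46401 := d7_1 D47789 (iv D46401) F206810
theorem F213999 : act 2 n47789 = n44445 := d22_1 D47789 (iv D44445) (iv F185591)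
theorem F214000 : act 4 n47789 = n46373 := d33_1 D47789 (iv D46373) (iv F206809)
def n47790 : Q := act 8 n44463
theorem D47790 : act 8 n44463 = n47790 := rfl
theorem F214001 : act 0 n47790 = n45247 := d7_1 D47790 F202740 (iv F185646)
theorem F214002 : act 1 n47790 = n44485 := d15_1 D47790 (iv D44485) (iv F185647)
theorem F214003 : act 2 n47790 = n47790 := d22_1 D47790 (iv D47790) F185648
theorem F214004 : act 4 n47790 = n44793 := d33_1 D47790 (iv D44793) (iv F185649)
theorem F214005 : act 5 n47790 = n44465 := d37_1 D47790 (iv D44465) D44463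
theorem F214006 : act 7 n47790 = n45223 := d42_1 D47790 (iv D45223) (iv F197908)
def n47791 : Q := act 3 n44465
theorem D47791 : act 3 n44465 = n47791 := rfl
theorem F214007 : act 0 n47791 = n45237 := d2_1 D47791 F188620 F202299
theorem F214008 : act 1 n47791 = n44487 := d10_1 D47791 (iv D44487) (iv F185655)
theorem F214009 : act 4 n47791 = n45195 := d24_2 (iv F185657) D47791 (iv D45195) F131249 F201881
theorem F214010 : act 6 n47791 = n44466 := d26_2 (iv F185658) D47791 (iv D44466)
theorem F214011 : act 7 n47791 = n45225 := d27_2 (iv F197910) D47791 (iv D45225)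
theorem F214012 : act 8 n47791 = n45234 := d28_2 D44465 D47791 (iv D45234) (iv D31007) (iv F197409)
def n47792 : Q := act 9 n44465
theorem D47792 : act 9 n44465 = n47792 := rfl
theorem F214013 : act 0 n47792 = n45248 := d8_1 D47792 (iv D45248) F202299
theorem F214014 : act 1 n47792 = n44488 := d16_1 D47792 (iv D44488) (iv F185655)
theorem F214015 : act 2 n47792 = n47792 := d23_1 D47792 (iv D47792) F185656
theorem F214016 : act 4 n47792 = n44470 := d34_1 D47792 (iv D44470) (iv F185657)
theorem F214017 : act 6 n47792 = n44467 := d41_1 D47792 (iv D44467) (iv F185658)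
theorem F214018 : act 7 n47792 = n45226 := d43_1 D47792 (iv D45226) (iv F197910)
theorem F214019 : act 8 n47792 = n44540 := d44_1 D47792 (iv D44540) F202265 F197851 D44465
def n47793 : Q := act 9 n44466
theorem D47793 : act 9 n44466 = n47793 := rfl
theorem F214020 : act 0 n47793 = n45243 := d8_1 D47793 (iv D45243) F202303
theorem F214021 : act 1 n47793 = n44491 := d16_1 D47793 (iv D44491) (iv F185660)
theorem F214022 : act 3 n47793 = n44467 := d29_1 D47793 (iv D44467) D44466
theorem F214023 : act 4 n47793 = n45199 := d34_1 D47793 (iv D45199) (iv F202120)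
def n47794 : Q := act 3 n44485
theorem D47794 : act 3 n44485 = n47794 := rfl
theorem F214024 : act 0 n47794 = n44524 := d2_1 D47794 (iv D44524) (iv F185729)
theorem F214025 : act 5 n47794 = n44487 := d25_2 (iv F185732) D47794 (iv D44487)
def n47795 : Q := act 9 n44485
theorem D47795 : act 9 n44485 = n47795 := rfl
theorem F214026 : act 0 n47795 = n44525 := d8_1 D47795 (iv D44525) (iv F185729)
theorem F214027 : act 2 n47795 = n44505 := d23_1 D47795 (iv D44505) (iv F185730)
theorem F214028 : act 4 n47795 = n44829 := d34_1 D47795 (iv D44829) (iv F185731)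
theorem F214029 : act 5 n47795 = n44488 := d38_1 D47795 (iv D44488) (iv F185732)
theorem F214030 : act 8 n47795 = n45417 := d44_1 D47795 (iv D45417) F131724 F202506 D44485
def n47796 : Q := act 4 n44487
theorem D47796 : act 4 n44487 = n47796 := rfl
theorem F214031 : act 0 n47796 = n44529 := d3_1 D47796 (iv D44529) (iv F185737)
theorem F214032 : act 1 n47796 = n45195 := d11_1 D47796 (iv F214009) F214008
theorem F214033 : act 3 n47796 = n44494 := d24_1 D47796 (iv D44494) (iv D30510) (iv F129378) D44487
theorem F214034 : act 6 n47796 = n44490 := d31_2 (iv F185738) D47796 (iv D44490)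
theorem F214035 : act 7 n47796 = n45326 := d32_2 F213960 D47796 (iv F213958)
theorem F214036 : act 8 n47796 = n45335 := d33_2 F208914 D47796 F208916
def n47797 : Q := act 9 n44487
theorem D47797 : act 9 n44487 = n47797 := rfl
theorem F214037 : act 0 n47797 = n44530 := d8_1 D47797 (iv D44530) (iv F185737)
theorem F214038 : act 3 n47797 = n44488 := d29_1 D47797 (iv D44488) D44487
theorem F214039 : act 6 n47797 = n44491 := d41_1 D47797 (iv D44491) (iv F185738)
def n47798 : Q := act 9 n44490
theorem D47798 : act 9 n44490 = n47798 := rfl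
theorem F214040 : act 0 n47798 = n44535 := d8_1 D47798 (iv D44535) (iv F185745)
theorem F214041 : act 1 n47798 = n45199 := d16_1 D47798 (iv D45199) (iv F202151)
theorem F214042 : act 3 n47798 = n44497 := d29_1 D47798 (iv D44497) (iv F185746)
theorem F214043 : act 4 n47798 = n44491 := d34_1 D47798 (iv D44491) D44490
def n47799 : Q := act 8 n44491
theorem D47799 : act 8 n44491 = n47799 := rfl
theorem F214044 : act 0 n47799 = n44536 := d7_1 D47799 (iv D44536) (iv F185747)
theorem F214045 : act 3 n47799 = n45412 := d28_1 D47799 (iv D45412) F131713 F202691 (iv F185748)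
def n47800 : Q := act 5 n44494
theorem D47800 : act 5 n44494 = n47800 := rfl
theorem F214046 : act 0 n47800 = n44539 := d4_1 D47800 (iv D44539) (iv F185758)
theorem F214047 : act 1 n47800 = n45193 := d12_1 D47800 F188467 (iv F202127)
theorem F214048 : act 2 n47800 = n47800 := d19_1 D47800 (iv D47800) F185759
theorem F214049 : act 4 n47800 = n44843 := d30_1 D47800 (iv D44843) (iv D30743) (iv F129390) D44494
theorem F214050 : act 7 n47800 = n45324 := d36_2 (iv F202128) D47800 F188901
theorem F214051 : act 8 n47800 = n45171 := d37_2 (iv F202129) D47800 (iv D45171)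
def n47801 : Q := act 9 n44494
theorem D47801 : act 9 n44494 = n47801 := rfl
theorem F214052 : act 0 n47801 = n44540 := d8_1 D47801 (iv D44540) (iv F185758)
theorem F214053 : act 1 n47801 = n45196 := d16_1 D47801 (iv D45196) (iv F202127)
theorem F214054 : act 2 n47801 = n47801 := d23_1 D47801 (iv D47801) F185759
theorem F214055 : act 4 n47801 = n44495 := d34_1 D47801 (iv D44495) D44494
theorem F214056 : act 6 n47801 = n44497 := d41_1 D47801 (iv D44497) (iv F185760)
theorem F214057 : act 7 n47801 = n45327 := d43_1 D47801 (iv D45327) (iv F202128)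
theorem F214058 : act 8 n47801 = n45248 := d44_1 D47801 (iv D45248) F202300 (iv F131201) (iv F202129)
def n47802 : Q := act 8 n44502
theorem D47802 : act 8 n44502 = n47802 := rfl
theorem F214059 : act 0 n47802 = n44549 := d7_1 D47802 (iv D44549) (iv F185790)
theorem F214060 : act 1 n47802 = n47802 := d15_1 D47802 (iv D47802) F185791
theorem F214061 : act 3 n47802 = n46407 := d28_1 D47802 F207099 (iv F207748) (iv F208094) F208090
theorem F214062 : act 4 n47802 = n44853 := d33_1 D47802 (iv D44853) (iv F185792)
theorem F214063 : act 5 n47802 = n46403 := d37_1 D47802 F208077 F208074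
theorem F214064 : act 6 n47802 = n44503 := d40_1 D47802 (iv D44503) D44502
theorem F214065 : act 7 n47802 = n46391 := d42_1 D47802 (iv F208822) F208821
def n47803 : Q := act 3 n44503
theorem D47803 : act 3 n44503 = n47803 := rfl
theorem F214066 : act 0 n47803 = n44550 := d2_1 D47803 (iv D44550) (iv F185793)
theorem F214067 : act 1 n47803 = n47803 := d10_1 D47803 (iv D47803) F185794
theorem F214068 : act 5 n47803 = n44506 := d25_2 (iv F185796) D47803 (iv D44506)
theorem F214069 : act 6 n47803 = n46407 := d26_2 F214064 D47803 (iv F214061)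
theorem F214070 : act 7 n47803 = n44504 := d27_2 (iv F185797) D47803 (iv D44504)
theorem F214071 : act 8 n47803 = n46567 := d28_2 D44503 D47803 (iv F208144) F208148 F197073
theorem F214072 : act 4 n46517 = n47803 := d33_3 F214071 F207753 (iv F207561)
def n47804 : Q := act 9 n44503
theorem D47804 : act 9 n44503 = n47804 := rfl
theorem F214073 : act 0 n47804 = n44551 := d8_1 D47804 (iv D44551) (iv F185793)
theorem F214074 : act 1 n47804 = n47804 := d16_1 D47804 (iv D47804) F185794
theorem F214075 : act 4 n47804 = n44855 := d34_1 D47804 (iv D44855) (iv F185795)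
theorem F214076 : act 5 n47804 = n44507 := d38_1 D47804 (iv D44507) (iv F185796)
theorem F214077 : act 7 n47804 = n44505 := d43_1 D47804 (iv D44505) (iv F185797)
theorem F214078 : act 8 n47804 = n46406 := d44_1 D47804 (iv D46406) F135222 F202493 D44503
def n47805 : Q := act 9 n44504
theorem D47805 : act 9 n44504 = n47805 := rfl
theorem F214079 : act 0 n47805 = n44554 := d8_1 D47805 (iv D44554) (iv F185798)
theorem F214080 : act 1 n47805 = n47805 := d16_1 D47805 (iv D47805) F185799
theorem F214081 : act 3 n47805 = n44505 := d29_1 D47805 (iv D44505) D44504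
theorem F214082 : act 4 n47805 = n46518 := d34_1 D47805 (iv D46518) F206535
theorem F214083 : act 5 n47805 = n44509 := d38_1 D47805 (iv D44509) (iv F185800)
theorem F214084 : act 6 n47805 = n46406 := d41_1 D47805 (iv D46406) F206536
def n47806 : Q := act 9 n44506
theorem D47806 : act 9 n44506 = n47806 := rfl
theorem F214085 : act 0 n47806 = n44556 := d8_1 D47806 (iv D44556) (iv F185805)
theorem F214086 : act 1 n47806 = n47806 := d16_1 D47806 (iv D47806) F185806
theorem F214087 : act 3 n47806 = n44507 := d29_1 D47806 (iv D44507) D44506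
theorem F214088 : act 4 n47806 = n47806 := d34_1 D47806 (iv D47806) F185807
theorem F214089 : act 6 n47806 = n46405 := d41_1 D47806 (iv F213800) F213797
theorem F214090 : act 7 n47806 = n44509 := d43_1 D47806 (iv D44509) (iv F185808)
theorem F214091 : act 8 n47806 = n46404 := d44_1 D47806 (iv D46404) (iv F207034) (iv F208140) F208139
def n47807 : Q := act 8 n44509
theorem D47807 : act 8 n44509 = n47807 := rfl
theorem F214092 : act 0 n47807 = n44559 := d7_1 D47807 (iv D44559) (iv F185816)
theorem F214093 : act 1 n47807 = n47807 := d15_1 D47807 (iv D47807) F185817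
theorem F214094 : act 3 n47807 = n46393 := d28_1 D47807 (iv D46393) F135189 F203446 (iv F185818)
theorem F214095 : act 4 n47807 = n47807 := d33_1 D47807 (iv D47807) F185819
theorem F214096 : act 6 n47807 = n44512 := d40_1 D47807 (iv D44512) (iv F185820)
theorem F214097 : act 7 n47807 = n46404 := d42_1 D47807 (iv F214091) F214090
theorem F214098 : act 9 n47807 = n46403 := d44_2 D44509 D47807 F208077 F208076 F205610
def n47808 : Q := act 3 n44515
theorem D47808 : act 3 n44515 = n47808 := rfl
theorem F214099 : act 1 n47808 = n45376 := d10_1 D47808 (iv D45376) (iv F185835)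
theorem F214100 : act 5 n47808 = n44517 := d25_2 (iv F185836) D47808 (iv D44517)
theorem F214101 : act 7 n47808 = n45401 := d27_2 (iv F202509) D47808 F189139
theorem F214102 : act 8 n47808 = n44524 := d28_2 D44515 D47808 (iv D44524) (iv D30531) (iv F129447)
def n47809 : Q := act 9 n44515
theorem D47809 : act 9 n44515 = n47809 := rfl
theorem F214103 : act 1 n47809 = n45377 := d16_1 D47809 (iv D45377) (iv F185835)
theorem F214104 : act 2 n47809 = n46406 := d23_1 D47809 (iv D46406) (iv F202507)
theorem F214105 : act 4 n47809 = n45847 := d34_1 D47809 (iv D45847) (iv F202508)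
theorem F214106 : act 5 n47809 = n44518 := d38_1 D47809 (iv D44518) (iv F185836)
theorem F214107 : act 7 n47809 = n45417 := d43_1 D47809 (iv D45417) (iv F202509)
def n47810 : Q := act 9 n44517
theorem D47810 : act 9 n44517 = n47810 := rfl
theorem F214108 : act 1 n47810 = n45382 := d16_1 D47810 (iv D45382) (iv F185840)
theorem F214109 : act 3 n47810 = n44518 := d29_1 D47810 (iv D44518) D44517
theorem F214110 : act 4 n47810 = n45397 := d34_1 D47810 (iv D45397) (iv F202512)
theorem F214111 : act 6 n47810 = n44521 := d41_1 D47810 (iv D44521) (iv F185841)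
theorem F214112 : act 7 n47810 = n45402 := d43_1 D47810 (iv D45402) (iv F202513)
def n47811 : Q := act 5 n44520
theorem D47811 : act 5 n44520 = n47811 := rfl
theorem F214113 : act 1 n47811 = n45386 := d12_1 D47811 (iv D45386) (iv F185847)
theorem F214114 : act 3 n47811 = n45109 := d25_1 D47811 F188171 (iv F202117)
theorem F214115 : act 7 n47811 = n45110 := d36_2 (iv F202119) D47811 F188173
theorem F214116 : act 8 n47811 = n44534 := d37_2 (iv F185849) D47811 (iv D44534)
def n47812 : Q := act 9 n44520
theorem D47812 : act 9 n44520 = n47812 := rfl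
theorem F214117 : act 1 n47812 = n45387 := d16_1 D47812 (iv D45387) (iv F185847)
theorem F214118 : act 3 n47812 = n45113 := d29_1 D47812 (iv D45113) (iv F202117)
theorem F214119 : act 4 n47812 = n44521 := d34_1 D47812 (iv D44521) D44520
theorem F214120 : act 6 n47812 = n45397 := d41_1 D47812 (iv D45397) (iv F202118)
theorem F214121 : act 7 n47812 = n45116 := d43_1 D47812 (iv D45116) (iv F202119)
def n47813 : Q := act 8 n44521
theorem D47813 : act 8 n44521 = n47813 := rfl
theorem F214122 : act 1 n47813 = n45388 := d15_1 D47813 (iv D45388) (iv F185850)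
theorem F214123 : act 9 n47813 = n44536 := d44_2 D44521 D47813 (iv D44536) (iv D30537) (iv F129455)
def n47814 : Q := act 8 n44522
theorem D47814 : act 8 n44522 = n47814 := rfl
theorem F214124 : act 1 n47814 = n45389 := d15_1 D47814 (iv D45389) (iv F185852)
theorem F214125 : act 2 n47814 = n44549 := d22_1 D47814 (iv D44549) (iv F185853)
theorem F214126 : act 4 n47814 = n44884 := d33_1 D47814 (iv D44884) (iv F185854)
theorem F214127 : act 5 n47814 = n46536 := d37_1 D47814 F207640 (iv F206412)
theorem F214128 : act 6 n47814 = n44523 := d40_1 D47814 (iv D44523) D44522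
def n47815 : Q := act 3 n44523
theorem D47815 : act 3 n44523 = n47815 := rfl
theorem F214129 : act 1 n47815 = n45390 := d10_1 D47815 (iv D45390) (iv F185855)
theorem F214130 : act 5 n47815 = n44526 := d25_2 (iv F185858) D47815 (iv D44526)
theorem F214131 : act 7 n47815 = n44524 := d27_2 (iv F185859) D47815 (iv D44524)
theorem F214132 : act 8 n47815 = n45401 := d28_2 D44523 D47815 F189139 F131724 F202504
def n47816 : Q := act 9 n44523
theorem D47816 : act 9 n44523 = n47816 := rfl
theorem F214133 : act 1 n47816 = n45391 := d16_1 D47816 (iv D45391) (iv F185855)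
theorem F214134 : act 2 n47816 = n44551 := d23_1 D47816 (iv D44551) (iv F185856)
theorem F214135 : act 4 n47816 = n44886 := d34_1 D47816 (iv D44886) (iv F185857)
theorem F214136 : act 5 n47816 = n44527 := d38_1 D47816 (iv D44527) (iv F185858)
theorem F214137 : act 7 n47816 = n44525 := d43_1 D47816 (iv D44525) (iv F185859)
def n47817 : Q := act 2 n44524
theorem D47817 : act 2 n44524 = n47817 := rfl
theorem F214138 : act 3 n47817 = n44552 := d17_2 D44524 D47817 (iv D44552) (iv D30550) (iv F129463)
theorem F214139 : act 5 n47817 = n44528 := d19_2 (iv F185861) D47817 (iv D44528)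
def n47818 : Q := act 4 n44524
theorem D47818 : act 4 n44524 = n47818 := rfl
theorem F214140 : act 1 n47818 = n45393 := d11_1 D47818 (iv D45393) (iv F185860)
theorem F214141 : act 3 n47818 = n44888 := d24_1 D47818 (iv D44888) (iv D30773) (iv F129464) D44524
def n47819 : Q := act 9 n44524
theorem D47819 : act 9 n44524 = n47819 := rfl
theorem F214142 : act 1 n47819 = n45394 := d16_1 D47819 (iv D45394) (iv F185860)
theorem F214143 : act 3 n47819 = n44525 := d29_1 D47819 (iv D44525) D44524
theorem F214144 : act 5 n47819 = n44530 := d38_1 D47819 (iv D44530) (iv F185861)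
def n47820 : Q := act 2 n44526
theorem D47820 : act 2 n44526 = n47820 := rfl
theorem F214145 : act 3 n47820 = n44555 := d17_2 D44526 D47820 (iv D44555) (iv D30552) (iv F129467)
theorem F214146 : act 4 n47820 = n45380 := d18_2 (iv F202596) D47820 (iv D45380)
theorem F214147 : act 6 n47820 = n45384 := d20_2 (iv F202597) D47820 F189102
theorem F214148 : act 7 n47820 = n44528 := d21_2 (iv F185867) D47820 (iv D44528)
theorem F214149 : act 8 n47820 = n45399 := d22_2 (iv F202598) D47820 F189133
def n47821 : Q := act 9 n44526
theorem D47821 : act 9 n44526 = n47821 := rfl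
theorem F214150 : act 1 n47821 = n45397 := d16_1 D47821 (iv D45397) (iv F185866)
theorem F214151 : act 3 n47821 = n44527 := d29_1 D47821 (iv D44527) D44526
theorem F214152 : act 4 n47821 = n45382 := d34_1 D47821 (iv D45382) (iv F202596)
theorem F214153 : act 6 n47821 = n45387 := d41_1 D47821 (iv D45387) (iv F202597)
theorem F214154 : act 7 n47821 = n44530 := d43_1 D47821 (iv D44530) (iv F185867)
def n47822 : Q := act 1 n44528
theorem D47822 : act 1 n44528 = n47822 := rfl
theorem F214155 : act 2 n47822 = n45398 := d9_2 D44528 D47822 (iv D45398) (iv D31116) (iv F129470)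
theorem F214156 : act 3 n47822 = n44557 := d10_2 (iv F185872) D47822 (iv D44557)
theorem F214157 : act 6 n47822 = n44531 := d13_2 (iv F185873) D47822 (iv D44531)
def n47823 : Q := act 4 n44528
theorem D47823 : act 4 n44528 = n47823 := rfl
theorem F214158 : act 2 n47823 = n44529 := d18_1 D47823 (iv D44529) D44528
theorem F214159 : act 3 n47823 = n47823 := d24_1 D47823 (iv D47823) F185872 F129539 (iv F185872)
theorem F214160 : act 6 n47823 = n44532 := d31_2 (iv F185873) D47823 (iv D44532)
theorem F214161 : act 7 n47823 = n45380 := d32_2 F214148 D47823 (iv F214146)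
theorem F214162 : act 8 n47823 = n45395 := d33_2 F208766 D47823 (iv F208763)
def n47824 : Q := act 9 n44528
theorem D47824 : act 9 n44528 = n47824 := rfl
theorem F214163 : act 2 n47824 = n44530 := d23_1 D47824 (iv D44530) D44528
theorem F214164 : act 3 n47824 = n44558 := d29_1 D47824 (iv D44558) (iv F185872)
theorem F214165 : act 6 n47824 = n44533 := d41_1 D47824 (iv D44533) (iv F185873)
def n47825 : Q := act 5 n44529
theorem D47825 : act 5 n44529 = n47825 := rfl
theorem F214166 : act 1 n47825 = n45401 := d12_1 D47825 (iv D45401) (iv F185874)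
theorem F214167 : act 3 n47825 = n44539 := d25_1 D47825 (iv D44539) (iv F185875)
theorem F214168 : act 7 n47825 = n45376 := d36_2 (iv F202703) D47825 F189083
theorem F214169 : act 8 n47825 = n45390 := d37_2 (iv F202704) D47825 F189114
def n47826 : Q := act 9 n44529
theorem D47826 : act 9 n44529 = n47826 := rfl
theorem F214170 : act 1 n47826 = n45402 := d16_1 D47826 (iv D45402) (iv F185874)
theorem F214171 : act 3 n47826 = n44540 := d29_1 D47826 (iv D44540) (iv F185875)
theorem F214172 : act 4 n47826 = n44530 := d34_1 D47826 (iv D44530) D44529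
theorem F214173 : act 6 n47826 = n44535 := d41_1 D47826 (iv D44535) (iv F185876)
theorem F214174 : act 7 n47826 = n45382 := d43_1 D47826 (iv D45382) (iv F202703)
def n47827 : Q := act 8 n44530
theorem D47827 : act 8 n44530 = n47827 := rfl
theorem F214175 : act 1 n47827 = n45403 := d15_1 D47827 (iv D45403) (iv F185877)
theorem F214176 : act 6 n47827 = n44536 := d40_1 D47827 (iv D44536) (iv F185879)
def n47828 : Q := act 4 n44531
theorem D47828 : act 4 n44531 = n47828 := rfl
theorem F214177 : act 1 n47828 = n44532 := d11_1 D47828 (iv D44532) D44531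
theorem F214178 : act 2 n47828 = n45405 := d18_1 D47828 (iv D45405) (iv F185880)
theorem F214179 : act 3 n47828 = n47828 := d24_1 D47828 (iv D47828) F185881 F129546 (iv F185881)
def n47829 : Q := act 9 n44531
theorem D47829 : act 9 n44531 = n47829 := rfl
theorem F214180 : act 1 n47829 = n44533 := d16_1 D47829 (iv D44533) D44531
theorem F214181 : act 2 n47829 = n45406 := d23_1 D47829 (iv D45406) (iv F185880)
theorem F214182 : act 3 n47829 = n44561 := d29_1 D47829 (iv D44561) (iv F185881)
def n47830 : Q := act 5 n44532
theorem D47830 : act 5 n44532 = n47830 := rfl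
theorem F214183 : act 2 n47830 = n44534 := d19_1 D47830 (iv D44534) (iv F185882)
theorem F214184 : act 3 n47830 = n47830 := d25_1 D47830 (iv D47830) F185883
def n47831 : Q := act 9 n44532
theorem D47831 : act 9 n44532 = n47831 := rfl
theorem F214185 : act 2 n47831 = n44535 := d23_1 D47831 (iv D44535) (iv F185882)
theorem F214186 : act 3 n47831 = n47831 := d29_1 D47831 (iv D47831) F185883
theorem F214187 : act 4 n47831 = n44533 := d34_1 D47831 (iv D44533) D44532
def n47832 : Q := act 8 n44533
theorem D47832 : act 8 n44533 = n47832 := rfl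
theorem F214188 : act 2 n47832 = n44536 := d22_1 D47832 (iv D44536) (iv F185884)
def n47833 : Q := act 6 n44534
theorem D47833 : act 6 n44534 = n47833 := rfl
theorem F214189 : act 1 n47833 = n45410 := d13_1 D47833 (iv D45410) (iv F185886)
theorem F214190 : act 3 n47833 = n44542 := d26_1 D47833 (iv D44542) (iv F185887)
def n47834 : Q := act 9 n44534
theorem D47834 : act 9 n44534 = n47834 := rfl
theorem F214191 : act 1 n47834 = n45411 := d16_1 D47834 (iv D45411) (iv F185886)
theorem F214192 : act 3 n47834 = n44543 := d29_1 D47834 (iv D44543) (iv F185887)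
theorem F214193 : act 5 n47834 = n44535 := d38_1 D47834 (iv D44535) D44534
def n47835 : Q := act 8 n44535
theorem D47835 : act 8 n44535 = n47835 := rfl
theorem F214194 : act 1 n47835 = n45412 := d15_1 D47835 (iv D45412) (iv F185888)
theorem F214195 : act 4 n47835 = n44536 := d33_1 D47835 (iv D44536) (iv F185890)
def n47836 : Q := act 6 n44539
theorem D47836 : act 6 n44539 = n47836 := rfl
theorem F214196 : act 1 n47836 = n45416 := d13_1 D47836 (iv D45416) (iv F185901)
theorem F214197 : act 2 n47836 = n47836 := d20_1 D47836 (iv D47836) F185902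
theorem F214198 : act 4 n47836 = n44911 := d31_1 D47836 (iv D44911) (iv F185903)
theorem F214199 : act 5 n47836 = n44542 := d35_1 D47836 (iv D44542) (iv D30542) (iv F129492) D44539
theorem F214200 : act 8 n47836 = n45374 := d40_2 (iv F202706) D47836 (iv D45374)
def n47837 : Q := act 9 n44539
theorem D47837 : act 9 n44539 = n47837 := rfl
theorem F214201 : act 1 n47837 = n45417 := d16_1 D47837 (iv D45417) (iv F185901)
theorem F214202 : act 2 n47837 = n47837 := d23_1 D47837 (iv D47837) F185902
theorem F214203 : act 4 n47837 = n44912 := d34_1 D47837 (iv D44912) (iv F185903)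
theorem F214204 : act 5 n47837 = n44540 := d38_1 D47837 (iv D44540) D44539
theorem F214205 : act 7 n47837 = n45377 := d43_1 D47837 (iv D45377) (iv F202705)
def n47838 : Q := act 7 n44542
theorem D47838 : act 7 n44542 = n47838 := rfl
theorem F214206 : act 1 n47838 = n45419 := d14_1 D47838 (iv D45419) (iv F185914)
theorem F214207 : act 2 n47838 = n47838 := d21_1 D47838 (iv D47838) F185915
theorem F214208 : act 4 n47838 = n44545 := d32_1 D47838 (iv D44545) (iv F185916)
theorem F214209 : act 8 n47838 = n46528 := d42_2 (iv F185917) D47838 (iv D46528)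
def n47839 : Q := act 9 n44542
theorem D47839 : act 9 n44542 = n47839 := rfl
theorem F214210 : act 1 n47839 = n45420 := d16_1 D47839 (iv D45420) (iv F185914)
theorem F214211 : act 2 n47839 = n47839 := d23_1 D47839 (iv D47839) F185915
theorem F214212 : act 4 n47839 = n44546 := d34_1 D47839 (iv D44546) (iv F185916)
theorem F214213 : act 6 n47839 = n44543 := d41_1 D47839 (iv D44543) D44542
def n47840 : Q := act 9 n44545
theorem D47840 : act 9 n44545 = n47840 := rfl
theorem F214214 : act 1 n47840 = n45423 := d16_1 D47840 (iv D45423) (iv F185926)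
theorem F214215 : act 2 n47840 = n47840 := d23_1 D47840 (iv D47840) F185927
theorem F214216 : act 5 n47840 = n44918 := d38_1 D47840 (iv D44918) (iv F185928)
theorem F214217 : act 6 n47840 = n46398 := d41_1 D47840 F213922 F213920
theorem F214218 : act 7 n47840 = n44546 := d43_1 D47840 (iv D44546) D44545
theorem F214219 : act 8 n47840 = n46388 := d44_1 D47840 (iv D46388) F206375 F206829 (iv F185929)
def n47841 : Q := act 9 n44549
theorem D47841 : act 9 n44549 = n47841 := rfl
theorem F214220 : act 1 n47841 = n44564 := d16_1 D47841 (iv D44564) (iv F185941)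
theorem F214221 : act 4 n47841 = n44923 := d34_1 D47841 (iv D44923) (iv F185942)
theorem F214222 : act 5 n47841 = n44559 := d38_1 D47841 F208573 F208568
theorem F214223 : act 6 n47841 = n44551 := d41_1 D47841 (iv D44551) (iv F185943)
theorem F214224 : act 8 n47841 = n44554 := d44_1 D47841 (iv D44554) (iv F184324) F205890 D44549
def n47842 : Q := act 2 n44550
theorem D47842 : act 2 n44550 = n47842 := rfl
theorem F214225 : act 5 n47842 = n44555 := d19_2 (iv F185945) D47842 (iv D44555)
theorem F214226 : act 7 n47842 = n44552 := d21_2 (iv F185946) D47842 (iv D44552)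
def n47843 : Q := act 9 n44550
theorem D47843 : act 9 n44550 = n47843 := rfl
theorem F214227 : act 1 n47843 = n44567 := d16_1 D47843 (iv D44567) (iv F185944)
theorem F214228 : act 3 n47843 = n44551 := d29_1 D47843 (iv D44551) D44550
theorem F214229 : act 5 n47843 = n44556 := d38_1 D47843 (iv D44556) (iv F185945)
theorem F214230 : act 7 n47843 = n44554 := d43_1 D47843 (iv D44554) (iv F185946)
def n47844 : Q := act 1 n44552
theorem D47844 : act 1 n44552 = n47844 := rfl
theorem F214231 : act 2 n47844 = n44568 := d9_2 D44552 D47844 (iv D44568) (iv D30562) (iv F129528)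
theorem F214232 : act 5 n47844 = n44557 := d12_2 (iv F185951) D47844 (iv D44557)
theorem F214233 : act 6 n47844 = n45231 := d13_2 F209002 D47844 (iv F208999)
theorem F214234 : act 8 n47844 = n45230 := d15_2 F208739 D47844 (iv F208735)
theorem F214235 : act 4 n45569 = n47844 := d33_3 F214234 F188602 D45569
def n47845 : Q := act 4 n44552
theorem D47845 : act 4 n44552 = n47845 := rfl
theorem F214236 : act 0 n47845 = n45846 := d3_1 D47845 (iv F208850) F208847
theorem F214237 : act 1 n47845 = n45569 := d11_1 D47845 F214235 (iv D47844)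
theorem F214238 : act 2 n47845 = n44553 := d18_1 D47845 (iv D44553) D44552
theorem F214239 : act 5 n47845 = n47845 := d30_2 (iv F185951) D47845 (iv D47845) F185951 F129539
theorem F214240 : act 6 n47845 = n44726 := d31_2 F209002 D47845 (iv F209000)
theorem F214241 : act 8 n47845 = n44725 := d33_2 F208739 D47845 F208741
def n47846 : Q := act 9 n44552
theorem D47846 : act 9 n44552 = n47846 := rfl
theorem F214242 : act 2 n47846 = n44554 := d23_1 D47846 (iv D44554) D44552
theorem F214243 : act 5 n47846 = n44558 := d38_1 D47846 (iv D44558) (iv F185951)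
def n47847 : Q := act 9 n44553
theorem D47847 : act 9 n44553 = n47847 := rfl
theorem F214244 : act 0 n47847 = n46518 := d8_1 D47847 (iv D46518) (iv F206554)
theorem F214245 : act 1 n47847 = n44571 := d16_1 D47847 (iv D44571) (iv F185952)
theorem F214246 : act 3 n47847 = n44930 := d29_1 D47847 (iv D44930) (iv F185953)
theorem F214247 : act 4 n47847 = n44554 := d34_1 D47847 (iv D44554) D44553
theorem F214248 : act 5 n47847 = n47847 := d38_1 D47847 (iv D47847) F185954
theorem F214249 : act 6 n47847 = n44754 := d41_1 D47847 (iv D44754) (iv F205535)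
theorem F214250 : act 8 n47847 = n44923 := d44_1 D47847 (iv D44923) (iv D30798) (iv F130088) (iv F205536)
def n47848 : Q := act 1 n44555
theorem D47848 : act 1 n44555 = n47848 := rfl
theorem F214251 : act 2 n47848 = n44573 := d9_2 D44555 D47848 (iv D44573) (iv D30565) (iv F129533)
theorem F214252 : act 4 n47848 = n47848 := d11_2 F185958 D47848 (iv D47848)
theorem F214253 : act 7 n47848 = n44557 := d14_2 (iv F185959) D47848 (iv D44557)
def n47849 : Q := act 9 n44555
theorem D47849 : act 9 n44555 = n47849 := rfl
theorem F214254 : act 2 n47849 = n44556 := d23_1 D47849 (iv D44556) D44555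
theorem F214255 : act 4 n47849 = n47849 := d34_1 D47849 (iv D47849) F185958
theorem F214256 : act 7 n47849 = n44558 := d43_1 D47849 (iv D44558) (iv F185959)
def n47850 : Q := act 9 n44557
theorem D47850 : act 9 n44557 = n47850 := rfl
theorem F214257 : act 1 n47850 = n44558 := d16_1 D47850 (iv D44558) D44557
theorem F214258 : act 2 n47850 = n44577 := d23_1 D47850 (iv D44577) (iv F185964)
theorem F214259 : act 4 n47850 = n47850 := d34_1 D47850 (iv D47850) F185965
theorem F214260 : act 6 n47850 = n44561 := d41_1 D47850 (iv D44561) (iv F185966)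
def n47851 : Q := act 8 n44558
theorem D47851 : act 8 n44558 = n47851 := rfl
theorem F214261 : act 2 n47851 = n44559 := d22_1 D47851 (iv D44559) (iv F185967)
theorem F214262 : act 4 n47851 = n47851 := d33_1 D47851 (iv D47851) F185968
theorem F214263 : act 6 n47851 = n44562 := d40_1 D47851 (iv D44562) (iv F185969)
theorem F214264 : act 9 n47851 = n46536 := d44_2 D44558 D47851 F207640 (iv F206415) F205943
def n47852 : Q := act 8 n44561
theorem D47852 : act 8 n44561 = n47852 := rfl
theorem F214265 : act 1 n47852 = n44562 := d15_1 D47852 (iv D44562) (iv F185975)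
theorem F214266 : act 2 n47852 = n44580 := d22_1 D47852 (iv D44580) (iv F185976)
theorem F214267 : act 4 n47852 = n47852 := d33_1 D47852 (iv D47852) F185977
theorem F214268 : act 5 n47852 = n45113 := d37_1 D47852 (iv F209027) F209024
theorem F214269 : act 7 n47852 = n45111 := d42_1 D47852 (iv F213942) F213941
theorem F214270 : act 9 n47852 = n45109 := d44_2 D44561 D47852 (iv D45109) (iv F197095) F205941
def n47853 : Q := act 3 n44562
theorem D47853 : act 3 n44562 = n47853 := rfl
theorem F214271 : act 5 n47853 = n45387 := d25_2 F206523 D47853 F189108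
theorem F214272 : act 9 n47853 = n45386 := d29_2 (iv F206522) D47853 F189106
def n47854 : Q := act 0 n44568
theorem D47854 : act 0 n44568 = n47854 := rfl
theorem F214273 : act 1 n47854 = n47854 := d0_2 D44568 D47854 (iv D47854) (iv D44568) F129563
theorem F214274 : act 3 n47854 = n45454 := d2_2 (iv F185998) D47854 (iv D45454)
theorem F214275 : act 4 n47854 = n45538 := d3_2 (iv F205876) D47854 F189612
theorem F214276 : act 5 n47854 = n44576 := d4_2 (iv F185999) D47854 (iv D44576)
theorem F214277 : act 6 n47854 = n45211 := d5_2 (iv F205877) D47854 F188533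
theorem F214278 : act 8 n47854 = n45210 := d7_2 (iv F205878) D47854 F188528
def n47855 : Q := act 9 n44568
theorem D47855 : act 9 n44568 = n47855 := rfl
theorem F214279 : act 1 n47855 = n44570 := d16_1 D47855 (iv D44570) D44568
theorem F214280 : act 3 n47855 = n45456 := d29_1 D47855 (iv D45456) (iv F185998)
theorem F214281 : act 4 n47855 = n45608 := d34_1 D47855 (iv D45608) (iv F205876)
theorem F214282 : act 5 n47855 = n44577 := d38_1 D47855 (iv D44577) (iv F185999)
theorem F214283 : act 6 n47855 = n45259 := d41_1 D47855 (iv D45259) (iv F205877)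
theorem F214284 : act 8 n47855 = n45428 := d44_1 D47855 (iv D45428) (iv D31137) (iv F131394) (iv F205878)
def n47856 : Q := act 0 n44573
theorem D47856 : act 0 n44573 = n47856 := rfl
theorem F214285 : act 1 n47856 = n47856 := d0_2 D44573 D47856 (iv D47856) (iv D44573) F129572
theorem F214286 : act 3 n47856 = n45461 := d2_2 (iv F186013) D47856 (iv D45461)
theorem F214287 : act 4 n47856 = n47856 := d3_2 F186014 D47856 (iv D47856)
theorem F214288 : act 7 n47856 = n44576 := d6_2 (iv F186015) D47856 (iv D44576)
def n47857 : Q := act 9 n44573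
theorem D47857 : act 9 n44573 = n47857 := rfl
theorem F214289 : act 1 n47857 = n44574 := d16_1 D47857 (iv D44574) D44573
theorem F214290 : act 3 n47857 = n45462 := d29_1 D47857 (iv D45462) (iv F186013)
theorem F214291 : act 4 n47857 = n47857 := d34_1 D47857 (iv D47857) F186014
theorem F214292 : act 7 n47857 = n44577 := d43_1 D47857 (iv D44577) (iv F186015)
def n47858 : Q := act 9 n44576
theorem D47858 : act 9 n44576 = n47858 := rfl
theorem F214293 : act 0 n47858 = n44577 := d8_1 D47858 (iv D44577) D44576
theorem F214294 : act 1 n47858 = n47858 := d16_1 D47858 (iv D47858) F186024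
theorem F214295 : act 3 n47858 = n45464 := d29_1 D47858 (iv D45464) (iv F186025)
theorem F214296 : act 4 n47858 = n47858 := d34_1 D47858 (iv D47858) F186026
theorem F214297 : act 6 n47858 = n44579 := d41_1 D47858 (iv D44579) (iv F186027)
def n47859 : Q := act 8 n44577
theorem D47859 : act 8 n44577 = n47859 := rfl
theorem F214298 : act 1 n47859 = n44578 := d15_1 D47859 (iv D44578) (iv F186028)
theorem F214299 : act 4 n47859 = n47859 := d33_1 D47859 (iv D47859) F186030
theorem F214300 : act 5 n47859 = n45428 := d37_1 D47859 (iv F214284) F214282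
theorem F214301 : act 6 n47859 = n44580 := d40_1 D47859 (iv D44580) (iv F186031)
theorem F214302 : act 9 n47859 = n45135 := d44_2 D44577 D47859 (iv D45135) (iv F206160) F184386
def n47860 : Q := act 8 n44579
theorem D47860 : act 8 n44579 = n47860 := rfl
theorem F214303 : act 0 n47860 = n44580 := d7_1 D47860 (iv D44580) (iv F186036)
theorem F214304 : act 1 n47860 = n47860 := d15_1 D47860 (iv D47860) F186037
theorem F214305 : act 4 n47860 = n47860 := d33_1 D47860 (iv D47860) F186039
theorem F214306 : act 5 n47860 = n45093 := d37_1 D47860 (iv F209036) F209033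
theorem F214307 : act 7 n47860 = n45091 := d42_1 D47860 (iv F213949) F213948
theorem F214308 : act 9 n47860 = n45089 := d44_2 D44579 D47860 (iv D45089) (iv F197119) F206192
def n47861 : Q := act 3 n44580
theorem D47861 : act 3 n44580 = n47861 := rfl
theorem F214309 : act 1 n47861 = n44581 := d10_1 D47861 (iv D44581) (iv F186040)
theorem F214310 : act 5 n47861 = n45142 := d25_2 (iv F206204) D47861 F188273
theorem F214311 : act 7 n47861 = n45140 := d27_2 (iv F206205) D47861 F188266
theorem F214312 : act 8 n47861 = n45468 := d28_2 D44580 D47861 (iv D45468) (iv D31168) (iv F129595)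
theorem F214313 : act 9 n47861 = n45136 := d29_2 (iv F206206) D47861 (iv D45136)
def n47862 : Q := act 4 n44581
theorem D47862 : act 4 n44581 = n47862 := rfl
theorem F214314 : act 0 n47862 = n47862 := d3_1 D47862 (iv D47862) F186042
theorem F214315 : act 3 n47862 = n47862 := d24_1 D47862 (iv D47862) (iv D44581) F129599 D44581
theorem F214316 : act 5 n47862 = n46359 := d30_2 (iv F206207) D47862 F206918 F134692 (iv F131169)
theorem F214317 : act 7 n47862 = n45157 := d32_2 (iv F206208) D47862 F188332
theorem F214318 : act 8 n47862 = n45469 := d33_2 (iv F186043) D47862 (iv D45469)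
theorem F214319 : act 9 n47862 = n45152 := d34_2 (iv F206209) D47862 (iv D45152)
def n47863 : Q := act 0 n44657
theorem D47863 : act 0 n44657 = n47863 := rfl
theorem F214320 : act 1 n47863 = n47863 := d0_2 D44657 D47863 (iv D47863) (iv D44657) F129836
theorem F214321 : act 2 n47863 = n46448 := d1_2 F206689 D47863 (iv D46448)
theorem F214322 : act 3 n47863 = n47863 := d2_2 F186393 D47863 (iv D47863)
theorem F214323 : act 4 n47863 = n44779 := d3_2 (iv F186394) D47863 (iv D44779)
theorem F214324 : act 6 n47863 = n44660 := d5_2 (iv F186395) D47863 (iv D44660)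
theorem F214325 : act 8 n47863 = n47863 := d7_2 F186396 D47863 (iv D47863)
def n47864 : Q := act 9 n44657
theorem D47864 : act 9 n44657 = n47864 := rfl
theorem F214326 : act 1 n47864 = n44658 := d16_1 D47864 (iv D44658) D44657
theorem F214327 : act 2 n47864 = n46449 := d23_1 D47864 (iv D46449) F206689
theorem F214328 : act 3 n47864 = n47864 := d29_1 D47864 (iv D47864) F186393
theorem F214329 : act 4 n47864 = n44780 := d34_1 D47864 (iv D44780) (iv F186394)
theorem F214330 : act 6 n47864 = n44661 := d41_1 D47864 (iv D44661) (iv F186395)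
def n47865 : Q := act 8 n44658
theorem D47865 : act 8 n44658 = n47865 := rfl
theorem F214331 : act 0 n47865 = n47865 := d7_1 D47865 (iv D47865) F186397
theorem F214332 : act 2 n47865 = n44659 := d22_1 D47865 (iv D44659) (iv F186398)
theorem F214333 : act 4 n47865 = n44781 := d33_1 D47865 (iv D44781) (iv F186400)
theorem F214334 : act 6 n47865 = n44662 := d40_1 D47865 (iv D44662) (iv F186401)
theorem F214335 : act 9 n47865 = n47865 := d44_2 D44658 D47865 (iv D47865) (iv D44658) F129840
def n47866 : Q := act 9 n44660
theorem D47866 : act 9 n44660 = n47866 := rfl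
theorem F214336 : act 0 n47866 = n44661 := d8_1 D47866 (iv D44661) D44660
theorem F214337 : act 1 n47866 = n47866 := d16_1 D47866 (iv D47866) F186407
theorem F214338 : act 2 n47866 = n46451 := d23_1 D47866 (iv D46451) F206691
theorem F214339 : act 3 n47866 = n47866 := d29_1 D47866 (iv D47866) F186408
theorem F214340 : act 4 n47866 = n44782 := d34_1 D47866 (iv D44782) (iv F186409)
theorem F214341 : act 5 n47866 = n47866 := d38_1 D47866 (iv D47866) F186410
theorem F214342 : act 7 n47866 = n47866 := d43_1 D47866 (iv D47866) F186411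
def n47867 : Q := act 8 n44661
theorem D47867 : act 8 n44661 = n47867 := rfl
theorem F214343 : act 1 n47867 = n44662 := d15_1 D47867 (iv D44662) (iv F186413)
theorem F214344 : act 2 n47867 = n46452 := d22_1 D47867 (iv D46452) F206688
theorem F214345 : act 4 n47867 = n44783 := d33_1 D47867 (iv D44783) (iv F186415)
theorem F214346 : act 5 n47867 = n47867 := d37_1 D47867 (iv D47867) F186416
theorem F214347 : act 7 n47867 = n47867 := d42_1 D47867 (iv D47867) F186417
theorem F214348 : act 9 n47867 = n47867 := d44_2 D44661 D47867 (iv D47867) (iv D44661) F129849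
def n47868 : Q := act 3 n44662
theorem D47868 : act 3 n44662 = n47868 := rfl
theorem F214349 : act 0 n47868 = n47868 := d2_1 D47868 (iv D47868) F186418
theorem F214350 : act 2 n47868 = n47868 := d17_1 D47868 (iv D47868) F186419 F129857 (iv F186419)
theorem F214351 : act 5 n47868 = n47868 := d25_2 F186421 D47868 (iv D47868)
theorem F214352 : act 7 n47868 = n47868 := d27_2 F186422 D47868 (iv D47868)
theorem F214353 : act 8 n47868 = n47868 := d28_2 D44662 D47868 (iv D47868) (iv D44662) F129852
theorem F214354 : act 9 n47868 = n47868 := d29_2 F186423 D47868 (iv D47868)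
def n47869 : Q := act 8 n44716
theorem D47869 : act 8 n44716 = n47869 := rfl
theorem F214355 : act 0 n47869 = n44870 := d7_1 D47869 (iv D44870) (iv F198712)
theorem F214356 : act 1 n47869 = n45553 := d15_1 D47869 (iv D45553) (iv F186644)
theorem F214357 : act 2 n47869 = n47869 := d22_1 D47869 (iv D47869) F186645
theorem F214358 : act 4 n47869 = n44718 := d33_1 D47869 (iv D44718) D44716
theorem F214359 : act 5 n47869 = n44820 := d37_1 D47869 (iv D44820) (iv F198714)
theorem F214360 : act 7 n47869 = n44819 := d42_1 D47869 (iv D44819) (iv F198715)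
def n47870 : Q := act 8 n44717
theorem D47870 : act 8 n44717 = n47870 := rfl
theorem F214361 : act 0 n47870 = n44868 := d7_1 D47870 (iv D44868) (iv F197967)
theorem F214362 : act 1 n47870 = n45555 := d15_1 D47870 (iv D45555) (iv F186648)
theorem F214363 : act 2 n47870 = n47870 := d22_1 D47870 (iv D47870) F186649
theorem F214364 : act 4 n47870 = n44819 := d33_1 D47870 (iv D44819) (iv F197968)
theorem F214365 : act 5 n47870 = n44719 := d37_1 D47870 (iv D44719) (iv F186651)
theorem F214366 : act 7 n47870 = n44718 := d42_1 D47870 (iv D44718) D44717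
def n47871 : Q := act 3 n44718
theorem D47871 : act 3 n44718 = n47871 := rfl
theorem F214367 : act 0 n47871 = n45795 := d2_1 D47871 F190523 (iv F206560)
theorem F214368 : act 1 n47871 = n45556 := d10_1 D47871 (iv D45556) (iv F186653)
theorem F214369 : act 5 n47871 = n44720 := d25_2 (iv F186655) D47871 (iv D44720)
theorem F214370 : act 8 n47871 = n44727 := d28_2 D44718 D47871 (iv D44727) (iv D30667) (iv F130002)
def n47872 : Q := act 9 n44718
theorem D47872 : act 9 n44718 = n47872 := rfl
theorem F214371 : act 0 n47872 = n46549 := d8_1 D47872 (iv D46549) (iv F206560)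
theorem F214372 : act 1 n47872 = n45557 := d16_1 D47872 (iv D45557) (iv F186653)
theorem F214373 : act 2 n47872 = n47872 := d23_1 D47872 (iv D47872) F186654
theorem F214374 : act 5 n47872 = n44721 := d38_1 D47872 (iv D44721) (iv F186655)
theorem F214375 : act 8 n47872 = n44872 := d44_1 D47872 (iv D44872) (iv D30764) (iv F130003) D44718
def n47873 : Q := act 3 n44719
theorem D47873 : act 3 n44719 = n47873 := rfl
theorem F214376 : act 0 n47873 = n45790 := d2_1 D47873 (iv F203173) (iv F206793)
theorem F214377 : act 1 n47873 = n45558 := d10_1 D47873 (iv D45558) (iv F186656)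
theorem F214378 : act 4 n47873 = n45711 := d24_2 (iv F186658) D47873 (iv D45711) F132438 (iv F202293)
theorem F214379 : act 6 n47873 = n47873 := d26_2 F186659 D47873 (iv D47873)
theorem F214380 : act 7 n47873 = n44720 := d27_2 (iv F186660) D47873 (iv D44720)
theorem F214381 : act 8 n47873 = n44729 := d28_2 D44719 D47873 (iv D44729) (iv D30668) (iv F130006)
def n47874 : Q := act 9 n44719
theorem D47874 : act 9 n44719 = n47874 := rfl
theorem F214382 : act 0 n47874 = n46533 := d8_1 D47874 (iv D46533) (iv F206793)
theorem F214383 : act 1 n47874 = n45559 := d16_1 D47874 (iv D45559) (iv F186656)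
theorem F214384 : act 2 n47874 = n47874 := d23_1 D47874 (iv D47874) F186657
theorem F214385 : act 4 n47874 = n46530 := d34_1 D47874 (iv D46530) (iv F186658)
theorem F214386 : act 6 n47874 = n47874 := d41_1 D47874 (iv D47874) F186659
theorem F214387 : act 7 n47874 = n44721 := d43_1 D47874 (iv D44721) (iv F186660)
theorem F214388 : act 8 n47874 = n44874 := d44_1 D47874 (iv D44874) (iv D30765) (iv F130009) D44719
def n47875 : Q := act 9 n44720
theorem D47875 : act 9 n44720 = n47875 := rfl
theorem F214389 : act 0 n47875 = n45796 := d8_1 D47875 (iv D45796) (iv F203514)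
theorem F214390 : act 1 n47875 = n45562 := d16_1 D47875 (iv D45562) (iv F186661)
theorem F214391 : act 3 n47875 = n44721 := d29_1 D47875 (iv D44721) D44720
theorem F214392 : act 4 n47875 = n45715 := d34_1 D47875 (iv D45715) (iv F203515)
theorem F214393 : act 6 n47875 = n44724 := d41_1 D47875 (iv D44724) (iv F186662)
def n47876 : Q := act 8 n44724
theorem D47876 : act 8 n44724 = n47876 := rfl
theorem F214394 : act 0 n47876 = n45806 := d7_1 D47876 (iv D45806) (iv F203730)
theorem F214395 : act 1 n47876 = n45568 := d15_1 D47876 (iv D45568) (iv F186676)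
theorem F214396 : act 3 n47876 = n44883 := d28_1 D47876 (iv D44883) F130424 (iv F130021) (iv F186677)
theorem F214397 : act 4 n47876 = n45721 := d33_1 D47876 (iv D45721) (iv F203731)
theorem F214398 : act 7 n47876 = n47876 := d42_1 D47876 (iv D47876) F186678
theorem F214399 : act 9 n47876 = n44739 := d44_2 D44724 D47876 (iv D44739) (iv D30673) (iv F130016)
def n47877 : Q := act 3 n44726
theorem D47877 : act 3 n44726 = n47877 := rfl
theorem F214400 : act 0 n47877 = n45821 := d2_1 D47877 F190591 (iv F202627)
theorem F214401 : act 1 n47877 = n45570 := d10_1 D47877 (iv D45570) (iv F186683)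
theorem F214402 : act 5 n47877 = n44729 := d25_2 (iv F186685) D47877 (iv D44729)
theorem F214403 : act 7 n47877 = n44727 := d27_2 (iv F186686) D47877 (iv D44727)
def n47878 : Q := act 9 n44726
theorem D47878 : act 9 n44726 = n47878 := rfl
theorem F214404 : act 0 n47878 = n45847 := d8_1 D47878 (iv D45847) (iv F202627)
theorem F214405 : act 1 n47878 = n45571 := d16_1 D47878 (iv D45571) (iv F186683)
theorem F214406 : act 2 n47878 = n44754 := d23_1 D47878 (iv D44754) (iv F186684)
theorem F214407 : act 5 n47878 = n44730 := d38_1 D47878 (iv D44730) (iv F186685)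
theorem F214408 : act 7 n47878 = n44728 := d43_1 D47878 (iv D44728) (iv F186686)
theorem F214409 : act 8 n47878 = n44886 := d44_1 D47878 (iv D44886) (iv D30772) (iv F130025) D44726
def n47879 : Q := act 2 n44727
theorem D47879 : act 2 n44727 = n47879 := rfl
theorem F214410 : act 0 n47879 = n45827 := d1_1 D47879 F190607 (iv F203509)
theorem F214411 : act 3 n47879 = n44755 := d17_2 D44727 D47879 (iv D44755) (iv D30686) (iv F130027)
theorem F214412 : act 5 n47879 = n44731 := d19_2 (iv F186688) D47879 (iv D44731)
def n47880 : Q := act 4 n44727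
theorem D47880 : act 4 n44727 = n47880 := rfl
theorem F214413 : act 0 n47880 = n45815 := d3_1 D47880 F190577 (iv F203509)
theorem F214414 : act 1 n47880 = n45573 := d11_1 D47880 (iv D45573) (iv F186687)
theorem F214415 : act 5 n47880 = n45726 := d30_2 (iv F186688) D47880 (iv D45726) F132467 F203506
def n47881 : Q := act 9 n44727
theorem D47881 : act 9 n44727 = n47881 := rfl
theorem F214416 : act 0 n47881 = n45831 := d8_1 D47881 (iv D45831) (iv F203509)
theorem F214417 : act 1 n47881 = n45574 := d16_1 D47881 (iv D45574) (iv F186687)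
theorem F214418 : act 3 n47881 = n44728 := d29_1 D47881 (iv D44728) D44727
theorem F214419 : act 5 n47881 = n44733 := d38_1 D47881 (iv D44733) (iv F186688)
def n47882 : Q := act 2 n44729
theorem D47882 : act 2 n44729 = n47882 := rfl
theorem F214420 : act 0 n47882 = n45819 := d1_1 D47882 F190583 (iv F202625)
theorem F214421 : act 3 n47882 = n44758 := d17_2 D44729 D47882 (iv D44758) (iv D30688) (iv F130030)
theorem F214422 : act 4 n47882 = n45728 := d18_2 (iv F202626) D47882 (iv D45728)
theorem F214423 : act 6 n47882 = n47882 := d20_2 F186694 D47882 (iv D47882)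
theorem F214424 : act 7 n47882 = n44731 := d21_2 (iv F186695) D47882 (iv D44731)
def n47883 : Q := act 9 n44729
theorem D47883 : act 9 n44729 = n47883 := rfl
theorem F214425 : act 0 n47883 = n45822 := d8_1 D47883 (iv D45822) (iv F202625)
theorem F214426 : act 1 n47883 = n45577 := d16_1 D47883 (iv D45577) (iv F186693)
theorem F214427 : act 3 n47883 = n44730 := d29_1 D47883 (iv D44730) D44729
theorem F214428 : act 4 n47883 = n45730 := d34_1 D47883 (iv D45730) (iv F202626)
theorem F214429 : act 6 n47883 = n47883 := d41_1 D47883 (iv D47883) F186694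
theorem F214430 : act 7 n47883 = n44733 := d43_1 D47883 (iv D44733) (iv F186695)
def n47884 : Q := act 1 n44731
theorem D47884 : act 1 n44731 = n47884 := rfl
theorem F214431 : act 2 n47884 = n45578 := d9_2 D44731 D47884 (iv D45578) (iv D31238) (iv F130034)
theorem F214432 : act 3 n47884 = n44760 := d10_2 (iv F186702) D47884 (iv D44760)
theorem F214433 : act 4 n47884 = n45731 := d11_2 (iv F203513) D47884 (iv D45731)
theorem F214434 : act 6 n47884 = n44734 := d13_2 (iv F186703) D47884 (iv D44734)
def n47885 : Q := act 9 n44731
theorem D47885 : act 9 n44731 = n47885 := rfl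
theorem F214435 : act 0 n47885 = n45828 := d8_1 D47885 (iv D45828) (iv F203512)
theorem F214436 : act 2 n47885 = n44733 := d23_1 D47885 (iv D44733) D44731
theorem F214437 : act 3 n47885 = n44761 := d29_1 D47885 (iv D44761) (iv F186702)
theorem F214438 : act 4 n47885 = n45733 := d34_1 D47885 (iv D45733) (iv F203513)
theorem F214439 : act 6 n47885 = n44736 := d41_1 D47885 (iv D44736) (iv F186703)
def n47886 : Q := act 8 n44733
theorem D47886 : act 8 n44733 = n47886 := rfl
theorem F214440 : act 0 n47886 = n45832 := d7_1 D47886 (iv D45832) (iv F203516)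
theorem F214441 : act 1 n47886 = n45583 := d15_1 D47886 (iv D45583) (iv F186707)
theorem F214442 : act 3 n47886 = n44898 := d28_1 D47886 (iv D44898) F130452 (iv F130040) (iv F186708)
theorem F214443 : act 4 n47886 = n45736 := d33_1 D47886 (iv D45736) (iv F203517)
theorem F214444 : act 6 n47886 = n44739 := d40_1 D47886 (iv D44739) (iv F186709)
def n47887 : Q := act 0 n44734
theorem D47887 : act 0 n44734 = n47887 := rfl
theorem F214445 : act 1 n47887 = n45833 := d0_2 D44734 D47887 F190621 F132704 F203664
theorem F214446 : act 2 n47887 = n44881 := d1_2 (iv F186710) D47887 F203079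
theorem F214447 : act 3 n47887 = n44763 := d2_2 (iv F186711) D47887 (iv D44763)
theorem F214448 : act 4 n47887 = n45737 := d3_2 (iv F203736) D47887 (iv D45737)
theorem F214449 : act 5 n47887 = n44879 := d4_2 F209135 D47887 F209138
theorem F214450 : act 7 n47887 = n47887 := d6_2 F186712 D47887 (iv D47887)
theorem F214451 : act 8 n47887 = n44902 := d7_2 F212224 D47887 (iv F212218)
def n47888 : Q := act 9 n44734
theorem D47888 : act 9 n44734 = n47888 := rfl
theorem F214452 : act 1 n47888 = n44736 := d16_1 D47888 (iv D44736) D44734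
theorem F214453 : act 2 n47888 = n45586 := d23_1 D47888 (iv D45586) (iv F186710)
theorem F214454 : act 3 n47888 = n44764 := d29_1 D47888 (iv D44764) (iv F186711)
theorem F214455 : act 4 n47888 = n45739 := d34_1 D47888 (iv D45739) (iv F203736)
theorem F214456 : act 7 n47888 = n47888 := d43_1 D47888 (iv D47888) F186712
def n47889 : Q := act 8 n44736
theorem D47889 : act 8 n44736 = n47889 := rfl
theorem F214457 : act 0 n47889 = n45840 := d7_1 D47889 (iv D45840) (iv F203732)
theorem F214458 : act 2 n47889 = n44739 := d22_1 D47889 (iv D44739) (iv F186715)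
theorem F214459 : act 4 n47889 = n45742 := d33_1 D47889 (iv D45742) (iv F203733)
theorem F214460 : act 7 n47889 = n47889 := d42_1 D47889 (iv D47889) F186717
def n47890 : Q := act 1 n44755
theorem D47890 : act 1 n44755 = n47890 := rfl
theorem F214461 : act 2 n47890 = n44771 := d9_2 D44755 D47890 (iv D44771) (iv D30698) (iv F130092)
theorem F214462 : act 5 n47890 = n44760 := d12_2 (iv F186780) D47890 (iv D44760)
theorem F214463 : act 8 n47890 = n47890 := d15_2 F186781 D47890 (iv D47890)
def n47891 : Q := act 9 n44755
theorem D47891 : act 9 n44755 = n47891 := rfl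
theorem F214464 : act 0 n47891 = n46497 := d8_1 D47891 (iv D46497) (iv F206733)
theorem F214465 : act 2 n47891 = n44757 := d23_1 D47891 (iv D44757) D44755
theorem F214466 : act 5 n47891 = n44761 := d38_1 D47891 (iv D44761) (iv F186780)
def n47892 : Q := act 8 n44757
theorem D47892 : act 8 n44757 = n47892 := rfl
theorem F214467 : act 0 n47892 = n46502 := d7_1 D47892 (iv D46502) (iv F206732)
theorem F214468 : act 1 n47892 = n44775 := d15_1 D47892 (iv D44775) (iv F186784)
theorem F214469 : act 3 n47892 = n44931 := d28_1 D47892 (iv D44931) F130538 (iv F130097) (iv F186785)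
theorem F214470 : act 5 n47892 = n44762 := d37_1 D47892 (iv D44762) (iv F186786)
theorem F214471 : act 9 n47892 = n47892 := d44_2 D44757 D47892 (iv D47892) (iv D44757) F130094
def n47893 : Q := act 1 n44758
theorem D47893 : act 1 n44758 = n47893 := rfl
theorem F214472 : act 2 n47893 = n44776 := d9_2 D44758 D47893 (iv D44776) (iv D30701) (iv F130098)
theorem F214473 : act 4 n47893 = n46445 := d11_2 (iv F206730) D47893 (iv D46445)
theorem F214474 : act 6 n47893 = n47893 := d13_2 F186787 D47893 (iv D47893)
theorem F214475 : act 7 n47893 = n44760 := d14_2 (iv F186788) D47893 (iv D44760)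
theorem F214476 : act 8 n47893 = n47893 := d15_2 F186789 D47893 (iv D47893)
def n47894 : Q := act 9 n44758
theorem D47894 : act 9 n44758 = n47894 := rfl
theorem F214477 : act 0 n47894 = n46487 := d8_1 D47894 (iv D46487) F206731
theorem F214478 : act 2 n47894 = n44759 := d23_1 D47894 (iv D44759) D44758
theorem F214479 : act 4 n47894 = n46446 := d34_1 D47894 (iv D46446) (iv F206730)
theorem F214480 : act 6 n47894 = n47894 := d41_1 D47894 (iv D47894) F186787
theorem F214481 : act 7 n47894 = n44761 := d43_1 D47894 (iv D44761) (iv F186788)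
def n47895 : Q := act 8 n44759
theorem D47895 : act 8 n44759 = n47895 := rfl
theorem F214482 : act 0 n47895 = n46490 := d7_1 D47895 (iv D46490) F206635
theorem F214483 : act 1 n47895 = n44778 := d15_1 D47895 (iv D44778) (iv F186790)
theorem F214484 : act 3 n47895 = n44934 := d28_1 D47895 (iv D44934) F130545 (iv F130106) (iv F186791)
theorem F214485 : act 4 n47895 = n46447 := d33_1 D47895 (iv D46447) (iv F206624)
theorem F214486 : act 6 n47895 = n47895 := d40_1 D47895 (iv D47895) F186792
theorem F214487 : act 7 n47895 = n44762 := d42_1 D47895 (iv D44762) (iv F186793)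
theorem F214488 : act 9 n47895 = n47895 := d44_2 D44759 D47895 (iv D47895) (iv D44759) F130101
def n47896 : Q := act 0 n44760
theorem D47896 : act 0 n44760 = n47896 := rfl
theorem F214489 : act 1 n47896 = n46491 := d0_2 D44760 D47896 F207455 F135952 F204087
theorem F214490 : act 2 n47896 = n44779 := d1_2 (iv F186794) D47896 (iv D44779)
theorem F214491 : act 4 n47896 = n46448 := d3_2 (iv F206686) D47896 (iv D46448)
theorem F214492 : act 6 n47896 = n44763 := d5_2 (iv F186795) D47896 (iv D44763)
theorem F214493 : act 8 n47896 = n47896 := d7_2 F186796 D47896 (iv D47896)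
def n47897 : Q := act 9 n44760
theorem D47897 : act 9 n44760 = n47897 := rfl
theorem F214494 : act 1 n47897 = n44761 := d16_1 D47897 (iv D44761) D44760
theorem F214495 : act 2 n47897 = n44780 := d23_1 D47897 (iv D44780) (iv F186794)
theorem F214496 : act 4 n47897 = n46449 := d34_1 D47897 (iv D46449) (iv F206686)
theorem F214497 : act 6 n47897 = n44764 := d41_1 D47897 (iv D44764) (iv F186795)
def n47898 : Q := act 8 n44761
theorem D47898 : act 8 n44761 = n47898 := rfl
theorem F214498 : act 0 n47898 = n46498 := d7_1 D47898 (iv D46498) F206699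
theorem F214499 : act 2 n47898 = n44762 := d22_1 D47898 (iv D44762) (iv F186797)
theorem F214500 : act 4 n47898 = n46450 := d33_1 D47898 (iv D46450) (iv F206698)
theorem F214501 : act 6 n47898 = n44765 := d40_1 D47898 (iv D44765) (iv F186798)
theorem F214502 : act 9 n47898 = n47898 := d44_2 D44761 D47898 (iv D47898) (iv D44761) F130108
def n47899 : Q := act 9 n44763
theorem D47899 : act 9 n44763 = n47899 := rfl
theorem F214503 : act 0 n47899 = n44764 := d8_1 D47899 (iv D44764) D44763
theorem F214504 : act 1 n47899 = n46504 := d16_1 D47899 (iv D46504) F206690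
theorem F214505 : act 2 n47899 = n44782 := d23_1 D47899 (iv D44782) (iv F186803)
theorem F214506 : act 4 n47899 = n46451 := d34_1 D47899 (iv D46451) (iv F206685)
theorem F214507 : act 7 n47899 = n47899 := d43_1 D47899 (iv D47899) F186804
def n47900 : Q := act 8 n44764
theorem D47900 : act 8 n44764 = n47900 := rfl
theorem F214508 : act 1 n47900 = n44765 := d15_1 D47900 (iv D44765) (iv F186806)
theorem F214509 : act 2 n47900 = n44783 := d22_1 D47900 (iv D44783) (iv F186807)
theorem F214510 : act 4 n47900 = n46452 := d33_1 D47900 (iv D46452) (iv F206687)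
theorem F214511 : act 7 n47900 = n47900 := d42_1 D47900 (iv D47900) F186808
theorem F214512 : act 9 n47900 = n47900 := d44_2 D44764 D47900 (iv D47900) (iv D44764) F130114
def n47901 : Q := act 3 n44765
theorem D47901 : act 3 n44765 = n47901 := rfl
theorem F214513 : act 0 n47901 = n46513 := d2_1 D47901 (iv D46513) F206697
theorem F214514 : act 2 n47901 = n44940 := d17_1 D47901 (iv D44940) F130568 (iv F130118) (iv F186809)
theorem F214515 : act 7 n47901 = n47901 := d27_2 F186810 D47901 (iv D47901)
theorem F214516 : act 9 n47901 = n47901 := d29_2 F186811 D47901 (iv D47901)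
def n47902 : Q := act 0 n44771
theorem D47902 : act 0 n44771 = n47902 := rfl
theorem F214517 : act 1 n47902 = n47902 := d0_2 D44771 D47902 (iv D47902) (iv D44771) F130134
theorem F214518 : act 3 n47902 = n45634 := d2_2 (iv F186833) D47902 (iv D45634)
theorem F214519 : act 5 n47902 = n44779 := d4_2 (iv F186834) D47902 (iv D44779)
theorem F214520 : act 6 n47902 = n46262 := d5_2 F209304 D47902 F209307
theorem F214521 : act 8 n47902 = n47902 := d7_2 F186835 D47902 (iv D47902)
def n47903 : Q := act 9 n44771
theorem D47903 : act 9 n44771 = n47903 := rfl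
theorem F214522 : act 1 n47903 = n44773 := d16_1 D47903 (iv D44773) D44771
theorem F214523 : act 3 n47903 = n45636 := d29_1 D47903 (iv D45636) (iv F186833)
theorem F214524 : act 5 n47903 = n44780 := d38_1 D47903 (iv D44780) (iv F186834)
def n47904 : Q := act 8 n44773
theorem D47904 : act 8 n44773 = n47904 := rfl
theorem F214525 : act 0 n47904 = n47904 := d7_1 D47904 (iv D47904) F186839
theorem F214526 : act 2 n47904 = n44775 := d22_1 D47904 (iv D44775) (iv F186840)
theorem F214527 : act 5 n47904 = n44781 := d37_1 D47904 (iv D44781) (iv F186842)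
theorem F214528 : act 9 n47904 = n47904 := d44_2 D44773 D47904 (iv D47904) (iv D44773) F130137
def n47905 : Q := act 0 n44776
theorem D47905 : act 0 n44776 = n47905 := rfl
theorem F214529 : act 1 n47905 = n47905 := d0_2 D44776 D47905 (iv D47905) (iv D44776) F130143
theorem F214530 : act 3 n47905 = n45641 := d2_2 (iv F186849) D47905 (iv D45641)
theorem F214531 : act 6 n47905 = n47905 := d5_2 F186850 D47905 (iv D47905)
theorem F214532 : act 7 n47905 = n44779 := d6_2 (iv F186851) D47905 (iv D44779)
theorem F214533 : act 8 n47905 = n47905 := d7_2 F186852 D47905 (iv D47905)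
def n47906 : Q := act 9 n44776
theorem D47906 : act 9 n44776 = n47906 := rfl
theorem F214534 : act 1 n47906 = n44777 := d16_1 D47906 (iv D44777) D44776
theorem F214535 : act 3 n47906 = n45642 := d29_1 D47906 (iv D45642) (iv F186849)
theorem F214536 : act 6 n47906 = n47906 := d41_1 D47906 (iv D47906) F186850
theorem F214537 : act 7 n47906 = n44780 := d43_1 D47906 (iv D44780) (iv F186851)
def n47907 : Q := act 8 n44777
theorem D47907 : act 8 n44777 = n47907 := rfl
theorem F214538 : act 0 n47907 = n47907 := d7_1 D47907 (iv D47907) F186853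
theorem F214539 : act 2 n47907 = n44778 := d22_1 D47907 (iv D44778) (iv F186854)
theorem F214540 : act 3 n47907 = n46430 := d28_1 D47907 (iv D46430) (iv F206659) (iv D45643) (iv F186855)
theorem F214541 : act 6 n47907 = n47907 := d40_1 D47907 (iv D47907) F186856
theorem F214542 : act 7 n47907 = n44781 := d42_1 D47907 (iv D44781) (iv F186857)
theorem F214543 : act 9 n47907 = n47907 := d44_2 D44777 D47907 (iv D47907) (iv D44777) F130147
def n47908 : Q := act 9 n44779
theorem D47908 : act 9 n44779 = n47908 := rfl
theorem F214544 : act 0 n47908 = n44780 := d8_1 D47908 (iv D44780) D44779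
theorem F214545 : act 1 n47908 = n47908 := d16_1 D47908 (iv D47908) F186863
theorem F214546 : act 3 n47908 = n45644 := d29_1 D47908 (iv D45644) (iv F186864)
theorem F214547 : act 6 n47908 = n44782 := d41_1 D47908 (iv D44782) (iv F186865)
def n47909 : Q := act 8 n44780
theorem D47909 : act 8 n44780 = n47909 := rfl
theorem F214548 : act 1 n47909 = n44781 := d15_1 D47909 (iv D44781) (iv F186867)
theorem F214549 : act 6 n47909 = n44783 := d40_1 D47909 (iv D44783) (iv F186869)
theorem F214550 : act 9 n47909 = n47909 := d44_2 D44780 D47909 (iv D47909) (iv D44780) F130154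
def n47910 : Q := act 3 n44781
theorem D47910 : act 3 n44781 = n47910 := rfl
theorem F214551 : act 0 n47910 = n47910 := d2_1 D47910 (iv D47910) F186870
theorem F214552 : act 2 n47910 = n44961 := d17_1 D47910 (iv D44961) F130636 (iv F130160) (iv F186871)
theorem F214553 : act 6 n47910 = n44784 := d26_2 (iv F186872) D47910 (iv D44784)
theorem F214554 : act 7 n47910 = n46430 := d27_2 F214542 D47910 (iv F214540)
theorem F214555 : act 8 n47910 = n45646 := d28_2 D44781 D47910 (iv D45646) (iv D31288) (iv F130157)
theorem F214556 : act 9 n47910 = n47910 := d29_2 F186873 D47910 (iv D47910)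
theorem F214557 : act 4 n46425 = n47910 := d33_3 F214555 F206657 D46425
def n47911 : Q := act 8 n44782
theorem D47911 : act 8 n44782 = n47911 := rfl
theorem F214558 : act 0 n47911 = n44783 := d7_1 D47911 (iv D44783) (iv F186874)
theorem F214559 : act 1 n47911 = n47911 := d15_1 D47911 (iv D47911) F186875
theorem F214560 : act 7 n47911 = n47911 := d42_1 D47911 (iv D47911) F186877
theorem F214561 : act 9 n47911 = n47911 := d44_2 D44782 D47911 (iv D47911) (iv D44782) F130166
def n47912 : Q := act 3 n44783
theorem D47912 : act 3 n44783 = n47912 := rfl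
theorem F214562 : act 1 n47912 = n44784 := d10_1 D47912 (iv D44784) (iv F186878)
theorem F214563 : act 7 n47912 = n47912 := d27_2 F186879 D47912 (iv D47912)
theorem F214564 : act 8 n47912 = n45648 := d28_2 D44783 D47912 (iv D45648) (iv D31290) (iv F130168)
theorem F214565 : act 9 n47912 = n47912 := d29_2 F186880 D47912 (iv D47912)
def n47913 : Q := act 4 n44784
theorem D47913 : act 4 n44784 = n47913 := rfl
theorem F214566 : act 0 n47913 = n47913 := d3_1 D47913 (iv D47913) F186881
theorem F214567 : act 2 n47913 = n44964 := d18_1 D47913 (iv D44964) (iv F186882)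
theorem F214568 : act 6 n47913 = n46425 := d31_2 F214553 D47913 F214557
theorem F214569 : act 7 n47913 = n47913 := d32_2 F186883 D47913 (iv D47913)
theorem F214570 : act 8 n47913 = n45649 := d33_2 (iv F186884) D47913 (iv D45649)
theorem F214571 : act 9 n47913 = n47913 := d34_2 F186885 D47913 (iv D47913)
def n47914 : Q := act 8 n44787
theorem D47914 : act 8 n44787 = n47914 := rfl
theorem F214572 : act 0 n47914 = n45657 := d7_1 D47914 (iv D45657) (iv F186896)
theorem F214573 : act 1 n47914 = n44819 := d15_1 D47914 (iv D44819) (iv F186897)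
theorem F214574 : act 2 n47914 = n46035 := d22_1 D47914 (iv D46035) (iv F198758)
theorem F214575 : act 4 n47914 = n45555 := d33_1 D47914 (iv D45555) (iv F198759)
theorem F214576 : act 5 n47914 = n44789 := d37_1 D47914 (iv D44789) D44787
theorem F214577 : act 7 n47914 = n45553 := d42_1 D47914 (iv D45553) (iv F198760)
def n47915 : Q := act 9 n44789
theorem D47915 : act 9 n44789 = n47915 := rfl
theorem F214578 : act 0 n47915 = n45660 := d8_1 D47915 (iv D45660) (iv F186904)
theorem F214579 : act 1 n47915 = n44822 := d16_1 D47915 (iv D44822) (iv F186905)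
theorem F214580 : act 2 n47915 = n46556 := d23_1 D47915 (iv D46556) (iv F206717)
theorem F214581 : act 4 n47915 = n46531 := d34_1 D47915 (iv D46531) (iv F186906)
theorem F214582 : act 6 n47915 = n44791 := d41_1 D47915 (iv D44791) (iv F186907)
theorem F214583 : act 7 n47915 = n46542 := d43_1 D47915 (iv D46542) F206723
theorem F214584 : act 8 n47915 = n46534 := d44_1 D47915 (iv D46534) F142813 (iv F203006) D44789
def n47916 : Q := act 8 n44792
theorem D47916 : act 8 n44792 = n47916 := rfl
theorem F214585 : act 0 n47916 = n45593 := d7_1 D47916 F203500 (iv F186916)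
theorem F214586 : act 1 n47916 = n44827 := d15_1 D47916 (iv D44827) (iv F186917)
theorem F214587 : act 2 n47916 = n47916 := d22_1 D47916 (iv D47916) F186918
theorem F214588 : act 4 n47916 = n45223 := d33_1 D47916 (iv D45223) (iv F198707)
theorem F214589 : act 5 n47916 = n44794 := d37_1 D47916 (iv D44794) (iv F186919)
theorem F214590 : act 7 n47916 = n44793 := d42_1 D47916 (iv D44793) D44792
def n47917 : Q := act 3 n44793
theorem D47917 : act 3 n44793 = n47917 := rfl
theorem F214591 : act 0 n47917 = n45581 := d2_1 D47917 F189759 F203193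
theorem F214592 : act 1 n47917 = n44828 := d10_1 D47917 (iv D44828) (iv F186921)
theorem F214593 : act 5 n47917 = n44795 := d25_2 (iv F186923) D47917 (iv D44795)
def n47918 : Q := act 9 n44793
theorem D47918 : act 9 n44793 = n47918 := rfl
theorem F214594 : act 0 n47918 = n45597 := d8_1 D47918 (iv D45597) F203193
theorem F214595 : act 1 n47918 = n44829 := d16_1 D47918 (iv D44829) (iv F186921)
theorem F214596 : act 2 n47918 = n47918 := d23_1 D47918 (iv D47918) F186922
theorem F214597 : act 5 n47918 = n44796 := d38_1 D47918 (iv D44796) (iv F186923)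
theorem F214598 : act 8 n47918 = n44912 := d44_1 D47918 (iv D44912) F130484 (iv F203007) D44793
def n47919 : Q := act 3 n44794
theorem D47919 : act 3 n44794 = n47919 := rfl
theorem F214599 : act 0 n47919 = n45576 := d2_1 D47919 F189745 F203101
theorem F214600 : act 1 n47919 = n44830 := d10_1 D47919 (iv D44830) (iv F186925)
theorem F214601 : act 4 n47919 = n45515 := d24_2 (iv F186927) D47919 (iv D45515) F131968 F202602
theorem F214602 : act 6 n47919 = n47919 := d26_2 F186928 D47919 (iv D47919)
theorem F214603 : act 7 n47919 = n44795 := d27_2 (iv F186929) D47919 (iv D44795)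
theorem F214604 : act 8 n47919 = n46541 := d28_2 D44794 D47919 (iv D46541) (iv D34509) F198704
def n47920 : Q := act 9 n44794
theorem D47920 : act 9 n44794 = n47920 := rfl
theorem F214605 : act 0 n47920 = n45594 := d8_1 D47920 (iv D45594) F203101
theorem F214606 : act 1 n47920 = n44831 := d16_1 D47920 (iv D44831) (iv F186925)
theorem F214607 : act 2 n47920 = n47920 := d23_1 D47920 (iv D47920) F186926
theorem F214608 : act 4 n47920 = n44801 := d34_1 D47920 (iv D44801) (iv F186927)
theorem F214609 : act 6 n47920 = n47920 := d41_1 D47920 (iv D47920) F186928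
theorem F214610 : act 7 n47920 = n44796 := d43_1 D47920 (iv D44796) (iv F186929)
theorem F214611 : act 8 n47920 = n44909 := d44_1 D47920 (iv D44909) F130476 (iv F202295) D44794
def n47921 : Q := act 9 n44795
theorem D47921 : act 9 n44795 = n47921 := rfl
theorem F214612 : act 0 n47921 = n45582 := d8_1 D47921 (iv D45582) F203195
theorem F214613 : act 1 n47921 = n44834 := d16_1 D47921 (iv D44834) (iv F186931)
theorem F214614 : act 3 n47921 = n44796 := d29_1 D47921 (iv D44796) D44795
theorem F214615 : act 4 n47921 = n45519 := d34_1 D47921 (iv D45519) (iv F203009)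
theorem F214616 : act 6 n47921 = n44799 := d41_1 D47921 (iv D44799) (iv F186932)
def n47922 : Q := act 8 n44799
theorem D47922 : act 8 n44799 = n47922 := rfl
theorem F214617 : act 0 n47922 = n45592 := d7_1 D47922 (iv D45592) F203400
theorem F214618 : act 1 n47922 = n44840 := d15_1 D47922 (iv D44840) (iv F186946)
theorem F214619 : act 3 n47922 = n44907 := d28_1 D47922 (iv D44907) F130467 F202815 (iv F186947)
theorem F214620 : act 4 n47922 = n45525 := d33_1 D47922 (iv D45525) (iv F203047)
theorem F214621 : act 7 n47922 = n47922 := d42_1 D47922 (iv D47922) F186948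
def n47923 : Q := act 3 n44819
theorem D47923 : act 3 n44819 = n47923 := rfl
theorem F214622 : act 0 n47923 = n44871 := d2_1 D47923 (iv D44871) (iv F187035)
theorem F214623 : act 5 n47923 = n44821 := d25_2 (iv F187037) D47923 (iv D44821)
theorem F214624 : act 8 n47923 = n44828 := d28_2 D44819 D47923 (iv D44828) (iv D30734) (iv F130260)
def n47924 : Q := act 9 n44819
theorem D47924 : act 9 n44819 = n47924 := rfl
theorem F214625 : act 0 n47924 = n44872 := d8_1 D47924 (iv D44872) (iv F187035)
theorem F214626 : act 2 n47924 = n47924 := d23_1 D47924 (iv D47924) F187036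
theorem F214627 : act 5 n47924 = n44822 := d38_1 D47924 (iv D44822) (iv F187037)
theorem F214628 : act 8 n47924 = n46549 := d44_1 D47924 (iv D46549) F145875 F203451 D44819
def n47925 : Q := act 3 n44820
theorem D47925 : act 3 n44820 = n47925 := rfl
theorem F214629 : act 0 n47925 = n44873 := d2_1 D47925 (iv D44873) (iv F187038)
theorem F214630 : act 1 n47925 = n46541 := d10_1 D47925 (iv D46541) (iv F206725)
theorem F214631 : act 4 n47925 = n46544 := d24_2 F198303 D47925 (iv D46544) F145672 (iv F202315)
theorem F214632 : act 6 n47925 = n47925 := d26_2 F187041 D47925 (iv D47925)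
theorem F214633 : act 7 n47925 = n44821 := d27_2 (iv F187042) D47925 (iv D44821)
theorem F214634 : act 8 n47925 = n44830 := d28_2 D44820 D47925 (iv D44830) (iv D30735) (iv F130263)
def n47926 : Q := act 9 n44820
theorem D47926 : act 9 n44820 = n47926 := rfl
theorem F214635 : act 0 n47926 = n44874 := d8_1 D47926 (iv D44874) (iv F187038)
theorem F214636 : act 1 n47926 = n46542 := d16_1 D47926 (iv D46542) (iv F206725)
theorem F214637 : act 2 n47926 = n47926 := d23_1 D47926 (iv D47926) F187039
theorem F214638 : act 4 n47926 = n46529 := d34_1 D47926 (iv D46529) F198303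
theorem F214639 : act 6 n47926 = n47926 := d41_1 D47926 (iv D47926) F187041
theorem F214640 : act 7 n47926 = n44822 := d43_1 D47926 (iv D44822) (iv F187042)
theorem F214641 : act 8 n47926 = n46533 := d44_1 D47926 (iv D46533) (iv D33867) (iv F198237) D44820
def n47927 : Q := act 2 n44821
theorem D47927 : act 2 n44821 = n47927 := rfl
theorem F214642 : act 0 n47927 = n44875 := d1_1 D47927 (iv D44875) (iv F187043)
theorem F214643 : act 3 n47927 = n47927 := d17_2 D44821 D47927 (iv D47927) (iv D44821) F130267
theorem F214644 : act 6 n47927 = n44823 := d20_2 (iv F187044) D47927 (iv D44823)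
theorem F214645 : act 8 n47927 = n44832 := d22_2 (iv F187045) D47927 (iv D44832)
def n47928 : Q := act 9 n44821
theorem D47928 : act 9 n44821 = n47928 := rfl
theorem F214646 : act 0 n47928 = n44877 := d8_1 D47928 (iv D44877) (iv F187043)
theorem F214647 : act 3 n47928 = n44822 := d29_1 D47928 (iv D44822) D44821
theorem F214648 : act 6 n47928 = n44825 := d41_1 D47928 (iv D44825) (iv F187044)
def n47929 : Q := act 9 n44823
theorem D47929 : act 9 n44823 = n47929 := rfl
theorem F214649 : act 0 n47929 = n44880 := d8_1 D47929 (iv D44880) (iv F187050)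
theorem F214650 : act 2 n47929 = n44825 := d23_1 D47929 (iv D44825) D44823
theorem F214651 : act 3 n47929 = n47929 := d29_1 D47929 (iv D47929) F187051
theorem F214652 : act 7 n47929 = n47929 := d43_1 D47929 (iv D47929) F187052
def n47930 : Q := act 8 n44825
theorem D47930 : act 8 n44825 = n47930 := rfl
theorem F214653 : act 0 n47930 = n44883 := d7_1 D47930 (iv D44883) (iv F187058)
theorem F214654 : act 3 n47930 = n45806 := d28_1 D47930 (iv D45806) F132663 F203712 (iv F187059)
theorem F214655 : act 7 n47930 = n47930 := d42_1 D47930 (iv D47930) F187060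
theorem F214656 : act 9 n47930 = n44840 := d44_2 D44825 D47930 (iv D44840) (iv D30740) (iv F130272)
def n47931 : Q := act 8 n44826
theorem D47931 : act 8 n44826 = n47931 := rfl
theorem F214657 : act 0 n47931 = n44884 := d7_1 D47931 (iv D44884) (iv F187061)
theorem F214658 : act 2 n47931 = n44853 := d22_1 D47931 (iv D44853) (iv F187062)
theorem F214659 : act 5 n47931 = n47931 := d37_1 D47931 (iv D47931) F187063
theorem F214660 : act 6 n47931 = n44827 := d40_1 D47931 (iv D44827) D44826
def n47932 : Q := act 3 n44827
theorem D47932 : act 3 n44827 = n47932 := rfl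
theorem F214661 : act 0 n47932 = n44885 := d2_1 D47932 (iv D44885) (iv F187064)
theorem F214662 : act 5 n47932 = n44830 := d25_2 (iv F187066) D47932 (iv D44830)
theorem F214663 : act 7 n47932 = n44828 := d27_2 (iv F187067) D47932 (iv D44828)
def n47933 : Q := act 9 n44827
theorem D47933 : act 9 n44827 = n47933 := rfl
theorem F214664 : act 0 n47933 = n44886 := d8_1 D47933 (iv D44886) (iv F187064)
theorem F214665 : act 2 n47933 = n44855 := d23_1 D47933 (iv D44855) (iv F187065)
theorem F214666 : act 5 n47933 = n44831 := d38_1 D47933 (iv D44831) (iv F187066)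
theorem F214667 : act 7 n47933 = n44829 := d43_1 D47933 (iv D44829) (iv F187067)
theorem F214668 : act 8 n47933 = n45847 := d44_1 D47933 (iv D45847) F132727 F202501 D44827
def n47934 : Q := act 2 n44828
theorem D47934 : act 2 n44828 = n47934 := rfl
theorem F214669 : act 0 n47934 = n44887 := d1_1 D47934 (iv D44887) (iv F187068)
theorem F214670 : act 3 n47934 = n44856 := d17_2 D44828 D47934 (iv D44856) (iv D30753) (iv F130281)
theorem F214671 : act 5 n47934 = n44832 := d19_2 (iv F187069) D47934 (iv D44832)
def n47935 : Q := act 4 n44828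
theorem D47935 : act 4 n44828 = n47935 := rfl
theorem F214672 : act 0 n47935 = n44888 := d3_1 D47935 (iv D44888) (iv F187068)
def n47936 : Q := act 9 n44828
theorem D47936 : act 9 n44828 = n47936 := rfl
theorem F214673 : act 0 n47936 = n44889 := d8_1 D47936 (iv D44889) (iv F187068)
theorem F214674 : act 3 n47936 = n44829 := d29_1 D47936 (iv D44829) D44828
theorem F214675 : act 5 n47936 = n44834 := d38_1 D47936 (iv D44834) (iv F187069)
def n47937 : Q := act 2 n44830
theorem D47937 : act 2 n44830 = n47937 := rfl
theorem F214676 : act 0 n47937 = n44890 := d1_1 D47937 (iv D44890) (iv F187073)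
theorem F214677 : act 3 n47937 = n44859 := d17_2 D44830 D47937 (iv D44859) (iv D30755) (iv F130284)
theorem F214678 : act 6 n47937 = n47937 := d20_2 F187074 D47937 (iv D47937)
theorem F214679 : act 7 n47937 = n44832 := d21_2 (iv F187075) D47937 (iv D44832)
def n47938 : Q := act 4 n44830
theorem D47938 : act 4 n44830 = n47938 := rfl
theorem F214680 : act 0 n47938 = n44891 := d3_1 D47938 (iv D44891) (iv F187073)
theorem F214681 : act 1 n47938 = n45515 := d11_1 D47938 (iv F214601) F214600
theorem F214682 : act 3 n47938 = n44841 := d24_1 D47938 (iv D44841) (iv D30741) (iv F130285) D44830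
theorem F214683 : act 6 n47938 = n47938 := d31_2 F187074 D47938 (iv D47938)
theorem F214684 : act 7 n47938 = n44833 := d32_2 (iv F187075) D47938 (iv D44833)
theorem F214685 : act 8 n47938 = n46544 := d33_2 F214634 D47938 (iv F214631)
def n47939 : Q := act 9 n44830
theorem D47939 : act 9 n44830 = n47939 := rfl
theorem F214686 : act 0 n47939 = n44892 := d8_1 D47939 (iv D44892) (iv F187073)
theorem F214687 : act 3 n47939 = n44831 := d29_1 D47939 (iv D44831) D44830
theorem F214688 : act 6 n47939 = n47939 := d41_1 D47939 (iv D47939) F187074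
theorem F214689 : act 7 n47939 = n44834 := d43_1 D47939 (iv D44834) (iv F187075)
def n47940 : Q := act 1 n44832
theorem D47940 : act 1 n44832 = n47940 := rfl
theorem F214690 : act 3 n47940 = n44861 := d10_2 (iv F187082) D47940 (iv D44861)
theorem F214691 : act 6 n47940 = n44835 := d13_2 (iv F187083) D47940 (iv D44835)
def n47941 : Q := act 4 n44832
theorem D47941 : act 4 n44832 = n47941 := rfl
theorem F214692 : act 0 n47941 = n44894 := d3_1 D47941 (iv D44894) (iv F187081)
theorem F214693 : act 2 n47941 = n44833 := d18_1 D47941 (iv D44833) D44832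
theorem F214694 : act 3 n47941 = n47941 := d24_1 D47941 (iv D47941) F187082 F130373 (iv F187082)
theorem F214695 : act 6 n47941 = n44836 := d31_2 (iv F187083) D47941 (iv D44836)
def n47942 : Q := act 9 n44832
theorem D47942 : act 9 n44832 = n47942 := rfl
theorem F214696 : act 0 n47942 = n44895 := d8_1 D47942 (iv D44895) (iv F187081)
theorem F214697 : act 2 n47942 = n44834 := d23_1 D47942 (iv D44834) D44832
theorem F214698 : act 3 n47942 = n44862 := d29_1 D47942 (iv D44862) (iv F187082)
theorem F214699 : act 6 n47942 = n44837 := d41_1 D47942 (iv D44837) (iv F187083)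
def n47943 : Q := act 5 n44833
theorem D47943 : act 5 n44833 = n47943 := rfl
theorem F214700 : act 0 n47943 = n44896 := d4_1 D47943 (iv D44896) (iv F187084)
theorem F214701 : act 1 n47943 = n45513 := d12_1 D47943 F189517 (iv F203012)
theorem F214702 : act 3 n47943 = n44843 := d25_1 D47943 (iv D44843) (iv F187085)
def n47944 : Q := act 9 n44833
theorem D47944 : act 9 n44833 = n47944 := rfl
theorem F214703 : act 0 n47944 = n44897 := d8_1 D47944 (iv D44897) (iv F187084)
theorem F214704 : act 1 n47944 = n45519 := d16_1 D47944 (iv D45519) (iv F203012)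
theorem F214705 : act 3 n47944 = n44844 := d29_1 D47944 (iv D44844) (iv F187085)
theorem F214706 : act 4 n47944 = n44834 := d34_1 D47944 (iv D44834) D44833
theorem F214707 : act 6 n47944 = n44839 := d41_1 D47944 (iv D44839) (iv F187086)
def n47945 : Q := act 8 n44834
theorem D47945 : act 8 n44834 = n47945 := rfl
theorem F214708 : act 0 n47945 = n44898 := d7_1 D47945 (iv D44898) (iv F187087)
theorem F214709 : act 3 n47945 = n45832 := d28_1 D47945 (iv D45832) F132698 F203504 (iv F187088)
theorem F214710 : act 6 n47945 = n44840 := d40_1 D47945 (iv D44840) (iv F187089)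
def n47946 : Q := act 9 n44835
theorem D47946 : act 9 n44835 = n47946 := rfl
theorem F214711 : act 1 n47946 = n44837 := d16_1 D47946 (iv D44837) D44835
theorem F214712 : act 3 n47946 = n44865 := d29_1 D47946 (iv D44865) (iv F187090)
theorem F214713 : act 5 n47946 = n45885 := d38_1 D47946 F190792 (iv F204546)
theorem F214714 : act 7 n47946 = n47946 := d43_1 D47946 (iv D47946) F187091
def n47947 : Q := act 9 n44836
theorem D47947 : act 9 n44836 = n47947 := rfl
theorem F214715 : act 0 n47947 = n44903 := d8_1 D47947 (iv D44903) (iv F187092)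
theorem F214716 : act 2 n47947 = n44839 := d23_1 D47947 (iv D44839) (iv F187093)
theorem F214717 : act 3 n47947 = n47947 := d29_1 D47947 (iv D47947) F187094
theorem F214718 : act 4 n47947 = n44837 := d34_1 D47947 (iv D44837) D44836
theorem F214719 : act 7 n47947 = n47947 := d43_1 D47947 (iv D47947) F187095
def n47948 : Q := act 8 n44837
theorem D47948 : act 8 n44837 = n47948 := rfl
theorem F214720 : act 0 n47948 = n44904 := d7_1 D47948 (iv D44904) (iv F187096)
theorem F214721 : act 2 n47948 = n44840 := d22_1 D47948 (iv D44840) (iv F187097)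
theorem F214722 : act 7 n47948 = n47948 := d42_1 D47948 (iv D47948) F187099
def n47949 : Q := act 8 n44839
theorem D47949 : act 8 n44839 = n47949 := rfl
theorem F214723 : act 0 n47949 = n44907 := d7_1 D47949 (iv D44907) (iv F187103)
theorem F214724 : act 1 n47949 = n45525 := d15_1 D47949 (iv D45525) (iv F203062)
theorem F214725 : act 3 n47949 = n45592 := d28_1 D47949 (iv D45592) F132144 F202935 (iv F187104)
theorem F214726 : act 4 n47949 = n44840 := d33_1 D47949 (iv D44840) (iv F187105)
theorem F214727 : act 7 n47949 = n47949 := d42_1 D47949 (iv D47949) F187106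
def n47950 : Q := act 5 n44841
theorem D47950 : act 5 n44841 = n47950 := rfl
theorem F214728 : act 0 n47950 = n44908 := d4_1 D47950 (iv D44908) (iv F187109)
theorem F214729 : act 1 n47950 = n45512 := d12_1 D47950 F189514 (iv F202749)
theorem F214730 : act 2 n47950 = n47950 := d19_1 D47950 (iv D47950) F187110
theorem F214731 : act 4 n47950 = n45324 := d30_1 D47950 F188901 F131549 (iv F202305) D44841
theorem F214732 : act 7 n47950 = n44843 := d36_2 (iv F187112) D47950 (iv D44843)
theorem F214733 : act 8 n47950 = n45322 := d37_2 (iv F202750) D47950 F198700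
def n47951 : Q := act 9 n44841
theorem D47951 : act 9 n44841 = n47951 := rfl
theorem F214734 : act 0 n47951 = n44909 := d8_1 D47951 (iv D44909) (iv F187109)
theorem F214735 : act 1 n47951 = n45516 := d16_1 D47951 (iv D45516) (iv F202749)
theorem F214736 : act 2 n47951 = n47951 := d23_1 D47951 (iv D47951) F187110
theorem F214737 : act 4 n47951 = n44842 := d34_1 D47951 (iv D44842) D44841
theorem F214738 : act 6 n47951 = n47951 := d41_1 D47951 (iv D47951) F187111
theorem F214739 : act 7 n47951 = n44844 := d43_1 D47951 (iv D44844) (iv F187112)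
theorem F214740 : act 8 n47951 = n45594 := d44_1 D47951 (iv D45594) F203103 (iv F131884) (iv F202750)
def n47952 : Q := act 9 n44843
theorem D47952 : act 9 n44843 = n47952 := rfl
theorem F214741 : act 0 n47952 = n44912 := d8_1 D47952 (iv D44912) (iv F187119)
theorem F214742 : act 1 n47952 = n45514 := d16_1 D47952 (iv D45514) (iv F203013)
theorem F214743 : act 2 n47952 = n47952 := d23_1 D47952 (iv D47952) F187120
theorem F214744 : act 5 n47952 = n44844 := d38_1 D47952 (iv D44844) D44843
theorem F214745 : act 8 n47952 = n45597 := d44_1 D47952 (iv D45597) F203194 (iv F131879) (iv F203014)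
def n47953 : Q := act 3 n44853
theorem D47953 : act 3 n44853 = n47953 := rfl
theorem F214746 : act 0 n47953 = n44922 := d2_1 D47953 (iv D44922) (iv F187159)
theorem F214747 : act 1 n47953 = n47953 := d10_1 D47953 (iv D47953) F187160
theorem F214748 : act 4 n47953 = n46500 := d24_2 F214062 D47953 F207488 (iv F207097) (iv F214061)
theorem F214749 : act 5 n47953 = n47953 := d25_2 F187161 D47953 (iv D47953)
theorem F214750 : act 6 n47953 = n44854 := d26_2 (iv F187162) D47953 (iv D44854)
theorem F214751 : act 7 n47953 = n46480 := d27_2 F209662 D47953 F209663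
theorem F214752 : act 8 n47953 = n47953 := d28_2 D44853 D47953 (iv D47953) (iv D44853) F130348
def n47954 : Q := act 9 n44853
theorem D47954 : act 9 n44853 = n47954 := rfl
theorem F214753 : act 0 n47954 = n44923 := d8_1 D47954 (iv D44923) (iv F187159)
theorem F214754 : act 1 n47954 = n47954 := d16_1 D47954 (iv D47954) F187160
theorem F214755 : act 5 n47954 = n47954 := d38_1 D47954 (iv D47954) F187161
theorem F214756 : act 6 n47954 = n44855 := d41_1 D47954 (iv D44855) (iv F187162)
theorem F214757 : act 8 n47954 = n46518 := d44_1 D47954 (iv D46518) F136039 F203437 D44853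
def n47955 : Q := act 2 n44854
theorem D47955 : act 2 n44854 = n47955 := rfl
theorem F214758 : act 0 n47955 = n44924 := d1_1 D47955 (iv D44924) (iv F187163)
theorem F214759 : act 5 n47955 = n44859 := d19_2 (iv F187165) D47955 (iv D44859)
theorem F214760 : act 7 n47955 = n44856 := d21_2 (iv F187166) D47955 (iv D44856)
theorem F214761 : act 8 n47955 = n47955 := d22_2 F187167 D47955 (iv D47955)
def n47956 : Q := act 4 n44854
theorem D47956 : act 4 n44854 = n47956 := rfl
theorem F214762 : act 0 n47956 = n44925 := d3_1 D47956 (iv D44925) (iv F187163)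
theorem F214763 : act 1 n47956 = n47956 := d11_1 D47956 (iv D47956) F187164
theorem F214764 : act 3 n47956 = n46517 := d24_1 D47956 F214072 (iv D47803) F185795 D44854
theorem F214765 : act 5 n47956 = n47956 := d30_2 (iv F187165) D47956 (iv D47956) F187165 F130363
theorem F214766 : act 6 n47956 = n46500 := d31_2 F214750 D47956 (iv F214748)
theorem F214767 : act 7 n47956 = n44857 := d32_2 (iv F187166) D47956 (iv D44857)
theorem F214768 : act 8 n47956 = n47956 := d33_2 F187167 D47956 (iv D47956)
def n47957 : Q := act 9 n44854
theorem D47957 : act 9 n44854 = n47957 := rfl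
theorem F214769 : act 0 n47957 = n44926 := d8_1 D47957 (iv D44926) (iv F187163)
theorem F214770 : act 1 n47957 = n47957 := d16_1 D47957 (iv D47957) F187164
theorem F214771 : act 3 n47957 = n44855 := d29_1 D47957 (iv D44855) D44854
theorem F214772 : act 5 n47957 = n44860 := d38_1 D47957 (iv D44860) (iv F187165)
theorem F214773 : act 7 n47957 = n44858 := d43_1 D47957 (iv D44858) (iv F187166)
def n47958 : Q := act 1 n44856
theorem D47958 : act 1 n44856 = n47958 := rfl
theorem F214774 : act 2 n47958 = n47958 := d9_2 D44856 D47958 (iv D47958) (iv D44856) F130355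
theorem F214775 : act 5 n47958 = n44861 := d12_2 (iv F187173) D47958 (iv D44861)
theorem F214776 : act 6 n47958 = n46527 := d13_2 F209674 D47958 F209677
theorem F214777 : act 8 n47958 = n47958 := d15_2 F187174 D47958 (iv D47958)
def n47959 : Q := act 4 n44856
theorem D47959 : act 4 n44856 = n47959 := rfl
theorem F214778 : act 0 n47959 = n44928 := d3_1 D47959 (iv D44928) (iv F187172)
theorem F214779 : act 2 n47959 = n44857 := d18_1 D47959 (iv D44857) D44856
theorem F214780 : act 5 n47959 = n47959 := d30_2 (iv F187173) D47959 (iv D47959) F187173 F130373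
theorem F214781 : act 6 n47959 = n46486 := d31_2 F209674 D47959 (iv F209672)
theorem F214782 : act 8 n47959 = n47959 := d33_2 F187174 D47959 (iv D47959)
def n47960 : Q := act 9 n44856
theorem D47960 : act 9 n44856 = n47960 := rfl
theorem F214783 : act 0 n47960 = n44929 := d8_1 D47960 (iv D44929) (iv F187172)
theorem F214784 : act 2 n47960 = n44858 := d23_1 D47960 (iv D44858) D44856
theorem F214785 : act 5 n47960 = n44862 := d38_1 D47960 (iv D44862) (iv F187173)
def n47961 : Q := act 9 n44857
theorem D47961 : act 9 n44857 = n47961 := rfl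
theorem F214786 : act 0 n47961 = n44930 := d8_1 D47961 (iv D44930) (iv F187175)
theorem F214787 : act 1 n47961 = n47961 := d16_1 D47961 (iv D47961) F187176
theorem F214788 : act 3 n47961 = n46518 := d29_1 D47961 (iv D46518) F206553
theorem F214789 : act 4 n47961 = n44858 := d34_1 D47961 (iv D44858) D44857
theorem F214790 : act 5 n47961 = n47961 := d38_1 D47961 (iv D47961) F187177
theorem F214791 : act 6 n47961 = n46489 := d41_1 D47961 (iv D46489) (iv F206552)
def n47962 : Q := act 8 n44858
theorem D47962 : act 8 n44858 = n47962 := rfl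
theorem F214792 : act 0 n47962 = n44931 := d7_1 D47962 (iv D44931) (iv F187179)
theorem F214793 : act 1 n47962 = n47962 := d15_1 D47962 (iv D47962) F187180
theorem F214794 : act 3 n47962 = n46502 := d28_1 D47962 (iv D46502) F135973 F204071 (iv F187181)
theorem F214795 : act 5 n47962 = n44863 := d37_1 D47962 (iv D44863) (iv F187182)
theorem F214796 : act 9 n47962 = n47962 := d44_2 D44858 D47962 (iv D47962) (iv D44858) F130357
def n47963 : Q := act 1 n44859
theorem D47963 : act 1 n44859 = n47963 := rfl
theorem F214797 : act 2 n47963 = n47963 := d9_2 D44859 D47963 (iv D47963) (iv D44859) F130362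
theorem F214798 : act 4 n47963 = n47963 := d11_2 F187184 D47963 (iv D47963)
theorem F214799 : act 6 n47963 = n47963 := d13_2 F187185 D47963 (iv D47963)
theorem F214800 : act 7 n47963 = n44861 := d14_2 (iv F187186) D47963 (iv D44861)
theorem F214801 : act 8 n47963 = n47963 := d15_2 F187187 D47963 (iv D47963)
def n47964 : Q := act 9 n44859
theorem D47964 : act 9 n44859 = n47964 := rfl
theorem F214802 : act 0 n47964 = n44933 := d8_1 D47964 (iv D44933) (iv F187183)
theorem F214803 : act 2 n47964 = n44860 := d23_1 D47964 (iv D44860) D44859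
theorem F214804 : act 4 n47964 = n47964 := d34_1 D47964 (iv D47964) F187184
theorem F214805 : act 6 n47964 = n47964 := d41_1 D47964 (iv D47964) F187185
theorem F214806 : act 7 n47964 = n44862 := d43_1 D47964 (iv D44862) (iv F187186)
def n47965 : Q := act 8 n44860
theorem D47965 : act 8 n44860 = n47965 := rfl
theorem F214807 : act 0 n47965 = n44934 := d7_1 D47965 (iv D44934) (iv F187188)
theorem F214808 : act 1 n47965 = n47965 := d15_1 D47965 (iv D47965) F187189
theorem F214809 : act 3 n47965 = n46490 := d28_1 D47965 (iv D46490) F135939 F203483 (iv F187190)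
theorem F214810 : act 4 n47965 = n47965 := d33_1 D47965 (iv D47965) F187191
theorem F214811 : act 6 n47965 = n47965 := d40_1 D47965 (iv D47965) F187192
theorem F214812 : act 7 n47965 = n44863 := d42_1 D47965 (iv D44863) (iv F187193)
theorem F214813 : act 9 n47965 = n47965 := d44_2 D44860 D47965 (iv D47965) (iv D44860) F130366
def n47966 : Q := act 0 n44861
theorem D47966 : act 0 n44861 = n47966 := rfl
theorem F214814 : act 1 n47966 = n44935 := d0_2 D44861 D47966 (iv D44935) (iv D30806) (iv F130372)
theorem F214815 : act 2 n47966 = n47966 := d1_2 F187194 D47966 (iv D47966)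
theorem F214816 : act 4 n47966 = n47966 := d3_2 F187195 D47966 (iv D47966)
theorem F214817 : act 6 n47966 = n44864 := d5_2 (iv F187196) D47966 (iv D44864)
theorem F214818 : act 8 n47966 = n47966 := d7_2 F187197 D47966 (iv D47966)
def n47967 : Q := act 9 n44861
theorem D47967 : act 9 n44861 = n47967 := rfl
theorem F214819 : act 1 n47967 = n44862 := d16_1 D47967 (iv D44862) D44861
theorem F214820 : act 2 n47967 = n47967 := d23_1 D47967 (iv D47967) F187194
theorem F214821 : act 4 n47967 = n47967 := d34_1 D47967 (iv D47967) F187195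
theorem F214822 : act 6 n47967 = n44865 := d41_1 D47967 (iv D44865) (iv F187196)
def n47968 : Q := act 8 n44862
theorem D47968 : act 8 n44862 = n47968 := rfl
theorem F214823 : act 0 n47968 = n44937 := d7_1 D47968 (iv D44937) (iv F187198)
theorem F214824 : act 2 n47968 = n44863 := d22_1 D47968 (iv D44863) (iv F187199)
theorem F214825 : act 4 n47968 = n47968 := d33_1 D47968 (iv D47968) F187200
theorem F214826 : act 6 n47968 = n44866 := d40_1 D47968 (iv D44866) (iv F187201)
theorem F214827 : act 9 n47968 = n47968 := d44_2 D44862 D47968 (iv D47968) (iv D44862) F130375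
def n47969 : Q := act 9 n44864
theorem D47969 : act 9 n44864 = n47969 := rfl
theorem F214828 : act 0 n47969 = n44865 := d8_1 D47969 (iv D44865) D44864
theorem F214829 : act 1 n47969 = n44938 := d16_1 D47969 (iv D44938) (iv F187207)
theorem F214830 : act 2 n47969 = n47969 := d23_1 D47969 (iv D47969) F187208
theorem F214831 : act 4 n47969 = n47969 := d34_1 D47969 (iv D47969) F187209
theorem F214832 : act 5 n47969 = n46470 := d38_1 D47969 F207366 (iv F204551)
theorem F214833 : act 7 n47969 = n47969 := d43_1 D47969 (iv D47969) F187210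
def n47970 : Q := act 8 n44865
theorem D47970 : act 8 n44865 = n47970 := rfl
theorem F214834 : act 1 n47970 = n44866 := d15_1 D47970 (iv D44866) (iv F187212)
theorem F214835 : act 2 n47970 = n47970 := d22_1 D47970 (iv D47970) F187213
theorem F214836 : act 4 n47970 = n47970 := d33_1 D47970 (iv D47970) F187214
theorem F214837 : act 5 n47970 = n46514 := d37_1 D47970 F207547 (iv F204558)
theorem F214838 : act 7 n47970 = n47970 := d42_1 D47970 (iv D47970) F187215
theorem F214839 : act 9 n47970 = n47970 := d44_2 D44865 D47970 (iv D47970) (iv D44865) F130384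
def n47971 : Q := act 3 n44866
theorem D47971 : act 3 n44866 = n47971 := rfl
theorem F214840 : act 0 n47971 = n44940 := d2_1 D47971 (iv D44940) (iv F187216)
theorem F214841 : act 2 n47971 = n46513 := d17_1 D47971 (iv D46513) F136009 F204224 (iv F187217)
theorem F214842 : act 7 n47971 = n47971 := d27_2 F187219 D47971 (iv D47971)
theorem F214843 : act 9 n47971 = n47971 := d29_2 F187220 D47971 (iv D47971)
def n47972 : Q := act 3 n44868
theorem D47972 : act 3 n44868 = n47972 := rfl
theorem F214844 : act 1 n47972 = n45781 := d10_1 D47972 (iv D45781) (iv F187225)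
theorem F214845 : act 5 n47972 = n45790 := d25_2 (iv F187228) D47972 (iv F203173)
theorem F214846 : act 7 n47972 = n45795 := d27_2 (iv F206820) D47972 F190523
theorem F214847 : act 8 n47972 = n45821 := d28_2 D44868 D47972 F190591 F132727 (iv F203001)
def n47973 : Q := act 9 n44868
theorem D47973 : act 9 n44868 = n47973 := rfl
theorem F214848 : act 1 n47973 = n45782 := d16_1 D47973 (iv D45782) (iv F187225)
theorem F214849 : act 2 n47973 = n47973 := d23_1 D47973 (iv D47973) F187226
theorem F214850 : act 4 n47973 = n44872 := d34_1 D47973 (iv D44872) (iv F187227)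
theorem F214851 : act 5 n47973 = n46533 := d38_1 D47973 (iv D46533) (iv F187228)
theorem F214852 : act 7 n47973 = n46549 := d43_1 D47973 (iv D46549) (iv F206820)
def n47974 : Q := act 8 n44869
theorem D47974 : act 8 n44869 = n47974 := rfl
theorem F214853 : act 1 n47974 = n45783 := d15_1 D47974 (iv D45783) (iv F187229)
theorem F214854 : act 2 n47974 = n47974 := d22_1 D47974 (iv D47974) F187230
theorem F214855 : act 4 n47974 = n46548 := d33_1 D47974 F207687 (iv F206411)
theorem F214856 : act 5 n47974 = n47974 := d37_1 D47974 (iv D47974) F187232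
theorem F214857 : act 6 n47974 = n44870 := d40_1 D47974 (iv D44870) D44869
def n47975 : Q := act 3 n44870
theorem D47975 : act 3 n44870 = n47975 := rfl
theorem F214858 : act 1 n47975 = n45784 := d10_1 D47975 (iv D45784) (iv F187233)
theorem F214859 : act 5 n47975 = n44873 := d25_2 (iv F187235) D47975 (iv D44873)
theorem F214860 : act 7 n47975 = n44871 := d27_2 (iv F187236) D47975 (iv D44871)
theorem F214861 : act 8 n47975 = n44885 := d28_2 D44870 D47975 (iv D44885) (iv D30772) (iv F130399)
def n47976 : Q := act 9 n44870
theorem D47976 : act 9 n44870 = n47976 := rfl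
theorem F214862 : act 1 n47976 = n45785 := d16_1 D47976 (iv D45785) (iv F187233)
theorem F214863 : act 2 n47976 = n47976 := d23_1 D47976 (iv D47976) F187234
theorem F214864 : act 4 n47976 = n46549 := d34_1 D47976 (iv D46549) F206822
theorem F214865 : act 5 n47976 = n44874 := d38_1 D47976 (iv D44874) (iv F187235)
theorem F214866 : act 7 n47976 = n44872 := d43_1 D47976 (iv D44872) (iv F187236)
def n47977 : Q := act 2 n44871
theorem D47977 : act 2 n44871 = n47977 := rfl
theorem F214867 : act 3 n47977 = n47977 := d17_2 D44871 D47977 (iv D47977) (iv D44871) F130402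
theorem F214868 : act 5 n47977 = n44875 := d19_2 (iv F187238) D47977 (iv D44875)
theorem F214869 : act 8 n47977 = n44887 := d22_2 (iv F187239) D47977 (iv D44887)
def n47978 : Q := act 4 n44871
theorem D47978 : act 4 n44871 = n47978 := rfl
theorem F214870 : act 1 n47978 = n45787 := d11_1 D47978 (iv D45787) (iv F187237)
theorem F214871 : act 8 n47978 = n44888 := d33_2 (iv F187239) D47978 (iv D44888)
def n47979 : Q := act 9 n44871
theorem D47979 : act 9 n44871 = n47979 := rfl
theorem F214872 : act 1 n47979 = n45788 := d16_1 D47979 (iv D45788) (iv F187237)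
theorem F214873 : act 3 n47979 = n44872 := d29_1 D47979 (iv D44872) D44871
theorem F214874 : act 5 n47979 = n44877 := d38_1 D47979 (iv D44877) (iv F187238)
def n47980 : Q := act 2 n44873
theorem D47980 : act 2 n44873 = n47980 := rfl
theorem F214875 : act 3 n47980 = n47980 := d17_2 D44873 D47980 (iv D47980) (iv D44873) F130405
theorem F214876 : act 4 n47980 = n46546 := d18_2 (iv F206827) D47980 (iv D46546)
theorem F214877 : act 6 n47980 = n47980 := d20_2 F187244 D47980 (iv D47980)
theorem F214878 : act 7 n47980 = n44875 := d21_2 (iv F187245) D47980 (iv D44875)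
theorem F214879 : act 8 n47980 = n44890 := d22_2 (iv F187246) D47980 (iv D44890)
def n47981 : Q := act 9 n44873
theorem D47981 : act 9 n44873 = n47981 := rfl
theorem F214880 : act 1 n47981 = n45791 := d16_1 D47981 (iv D45791) (iv F187243)
theorem F214881 : act 3 n47981 = n44874 := d29_1 D47981 (iv D44874) D44873
theorem F214882 : act 4 n47981 = n46547 := d34_1 D47981 (iv D46547) (iv F206827)
theorem F214883 : act 6 n47981 = n47981 := d41_1 D47981 (iv D47981) F187244
theorem F214884 : act 7 n47981 = n44877 := d43_1 D47981 (iv D44877) (iv F187245)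
def n47982 : Q := act 1 n44875
theorem D47982 : act 1 n44875 = n47982 := rfl
theorem F214885 : act 2 n47982 = n45792 := d9_2 D44875 D47982 (iv D45792) (iv D31382) (iv F130409)
theorem F214886 : act 3 n47982 = n47982 := d10_2 F187252 D47982 (iv D47982)
theorem F214887 : act 6 n47982 = n44878 := d13_2 (iv F187253) D47982 (iv D44878)
theorem F214888 : act 8 n47982 = n44893 := d15_2 (iv F187254) D47982 (iv D44893)
def n47983 : Q := act 4 n44875
theorem D47983 : act 4 n44875 = n47983 := rfl
theorem F214889 : act 2 n47983 = n44876 := d18_1 D47983 (iv D44876) D44875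
theorem F214890 : act 6 n47983 = n44879 := d31_2 (iv F187253) D47983 (iv D44879)
theorem F214891 : act 7 n47983 = n46546 := d32_2 F214878 D47983 (iv F214876)
theorem F214892 : act 8 n47983 = n44894 := d33_2 (iv F187254) D47983 (iv D44894)
theorem F214893 : act 3 n46560 = n47983 := d27_3 F214891 F207681 (iv F207726)
def n47984 : Q := act 9 n44875
theorem D47984 : act 9 n44875 = n47984 := rfl
theorem F214894 : act 2 n47984 = n44877 := d23_1 D47984 (iv D44877) D44875
theorem F214895 : act 3 n47984 = n47984 := d29_1 D47984 (iv D47984) F187252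
theorem F214896 : act 6 n47984 = n44880 := d41_1 D47984 (iv D44880) (iv F187253)
def n47985 : Q := act 5 n44876
theorem D47985 : act 5 n44876 = n47985 := rfl
theorem F214897 : act 1 n47985 = n45795 := d12_1 D47985 (iv D45795) (iv F187255)
theorem F214898 : act 3 n47985 = n45780 := d25_1 D47985 (iv F203212) (iv F187256)
theorem F214899 : act 7 n47985 = n45781 := d36_2 F206825 D47985 F190483
theorem F214900 : act 8 n47985 = n44896 := d37_2 (iv F187258) D47985 (iv D44896)
def n47986 : Q := act 9 n44876
theorem D47986 : act 9 n44876 = n47986 := rfl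
theorem F214901 : act 1 n47986 = n45796 := d16_1 D47986 (iv D45796) (iv F187255)
theorem F214902 : act 3 n47986 = n46534 := d29_1 D47986 (iv D46534) (iv F187256)
theorem F214903 : act 4 n47986 = n44877 := d34_1 D47986 (iv D44877) D44876
theorem F214904 : act 6 n47986 = n44882 := d41_1 D47986 (iv D44882) (iv F187257)
theorem F214905 : act 7 n47986 = n46547 := d43_1 D47986 (iv D46547) F206825
def n47987 : Q := act 8 n44877
theorem D47987 : act 8 n44877 = n47987 := rfl
theorem F214906 : act 1 n47987 = n45797 := d15_1 D47987 (iv D45797) (iv F187259)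
theorem F214907 : act 6 n47987 = n44883 := d40_1 D47987 (iv D44883) (iv F187261)
theorem F214908 : act 9 n47987 = n44898 := d44_2 D44877 D47987 (iv D44898) (iv D30779) (iv F130411)
def n47988 : Q := act 4 n44878
theorem D47988 : act 4 n44878 = n47988 := rfl
theorem F214909 : act 0 n47988 = n45835 := d3_1 D47988 (iv F213119) F213115
theorem F214910 : act 1 n47988 = n44879 := d11_1 D47988 (iv D44879) D44878
theorem F214911 : act 2 n47988 = n45799 := d18_1 D47988 (iv D45799) (iv F187262)
theorem F214912 : act 5 n47988 = n45833 := d30_2 F209756 D47988 (iv D45833) (iv F179819) F209759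
theorem F214913 : act 7 n47988 = n47988 := d32_2 F187264 D47988 (iv D47988)
theorem F214914 : act 8 n47988 = n44900 := d33_2 (iv F187265) D47988 (iv D44900)
theorem F214915 : act 3 n47988 = n46503 := d46_3 (iv F209758) F209756 D47988 F207499 (iv F209261) (iv D46808) F176265 F176263 (iv F204256) F94676 F66297 (iv D15177) F46518 F32840 F23308 (iv F32342) (iv F45891) (iv D10294) F32308 (iv F204181) D14161 F62181 F45937 F32985 (iv F46812) (iv F66684) (iv F95301) (iv D22218) F66682 (iv F93571) (iv F204516) F126924 F126923 (iv D20590) (iv F87594) F87592 F64789 (iv F66351) F66350 (iv D15189) (iv F66208) F66212 F66210 F204013 (iv F130041) (iv D30671) F90767 (iv F92078) (iv F203372) F124893 D31242 F132137 F132136 (iv F203239) F64623 (iv F64706) (iv F87497) D29528 F125266 (iv F179763) (iv F209841) (iv D46916)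
def n47989 : Q := act 9 n44878
theorem D47989 : act 9 n44878 = n47989 := rfl
theorem F214916 : act 1 n47989 = n44880 := d16_1 D47989 (iv D44880) D44878
theorem F214917 : act 2 n47989 = n45800 := d23_1 D47989 (iv D45800) (iv F187262)
theorem F214918 : act 3 n47989 = n47989 := d29_1 D47989 (iv D47989) F187263
theorem F214919 : act 7 n47989 = n47989 := d43_1 D47989 (iv D47989) F187264
def n47990 : Q := act 9 n44879
theorem D47990 : act 9 n44879 = n47990 := rfl
theorem F214920 : act 2 n47990 = n44882 := d23_1 D47990 (iv D44882) (iv F187266)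
theorem F214921 : act 4 n47990 = n44880 := d34_1 D47990 (iv D44880) D44879
theorem F214922 : act 7 n47990 = n47990 := d43_1 D47990 (iv D47990) F187267
def n47991 : Q := act 8 n44880
theorem D47991 : act 8 n44880 = n47991 := rfl
theorem F214923 : act 2 n47991 = n44883 := d22_1 D47991 (iv D44883) (iv F187269)
theorem F214924 : act 7 n47991 = n47991 := d42_1 D47991 (iv D47991) F187271
theorem F214925 : act 9 n47991 = n44904 := d44_2 D44880 D47991 (iv D44904) (iv D30782) (iv F130418)
def n47992 : Q := act 6 n44881
theorem D47992 : act 6 n44881 = n47992 := rfl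
theorem F214926 : act 0 n47992 = n45578 := d5_1 D47992 F189752 (iv F203079)
theorem F214927 : act 1 n47992 = n45804 := d13_1 D47992 (iv D45804) (iv F187272)
theorem F214928 : act 3 n47992 = n45620 := d26_1 D47992 F189888 (iv F203080)
theorem F214929 : act 8 n47992 = n44905 := d40_2 (iv F187275) D47992 (iv D44905)
def n47993 : Q := act 9 n44881
theorem D47993 : act 9 n44881 = n47993 := rfl
theorem F214930 : act 0 n47993 = n45586 := d8_1 D47993 (iv D45586) (iv F203079)
theorem F214931 : act 1 n47993 = n45805 := d16_1 D47993 (iv D45805) (iv F187272)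
theorem F214932 : act 3 n47993 = n45623 := d29_1 D47993 (iv D45623) (iv F203080)
theorem F214933 : act 5 n47993 = n44882 := d38_1 D47993 (iv D44882) D44881
theorem F214934 : act 7 n47993 = n47993 := d43_1 D47993 (iv D47993) F187274
def n47994 : Q := act 8 n44882
theorem D47994 : act 8 n44882 = n47994 := rfl
theorem F214935 : act 1 n47994 = n45806 := d15_1 D47994 (iv D45806) (iv F187276)
theorem F214936 : act 4 n47994 = n44883 := d33_1 D47994 (iv D44883) (iv F187278)
theorem F214937 : act 7 n47994 = n47994 := d42_1 D47994 (iv D47994) F187279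
theorem F214938 : act 9 n47994 = n44907 := d44_2 D44882 D47994 (iv D44907) (iv D30784) (iv F130422)
def n47995 : Q := act 3 n44884
theorem D47995 : act 3 n44884 = n47995 := rfl
theorem F214939 : act 1 n47995 = n45807 := d10_1 D47995 (iv D45807) (iv F187283)
theorem F214940 : act 5 n47995 = n47995 := d25_2 F187285 D47995 (iv D47995)
theorem F214941 : act 6 n47995 = n44885 := d26_2 (iv F187286) D47995 (iv D44885)
def n47996 : Q := act 9 n44884
theorem D47996 : act 9 n44884 = n47996 := rfl
theorem F214942 : act 1 n47996 = n45808 := d16_1 D47996 (iv D45808) (iv F187283)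
theorem F214943 : act 2 n47996 = n44923 := d23_1 D47996 (iv D44923) (iv F187284)
theorem F214944 : act 5 n47996 = n47996 := d38_1 D47996 (iv D47996) F187285
theorem F214945 : act 6 n47996 = n44886 := d41_1 D47996 (iv D44886) (iv F187286)
def n47997 : Q := act 2 n44885
theorem D47997 : act 2 n44885 = n47997 := rfl
theorem F214946 : act 3 n47997 = n44924 := d17_2 D44885 D47997 (iv D44924) (iv D30799) (iv F130430)
theorem F214947 : act 5 n47997 = n44890 := d19_2 (iv F187288) D47997 (iv D44890)
theorem F214948 : act 7 n47997 = n44887 := d21_2 (iv F187289) D47997 (iv D44887)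
def n47998 : Q := act 4 n44885
theorem D47998 : act 4 n44885 = n47998 := rfl
theorem F214949 : act 1 n47998 = n45810 := d11_1 D47998 (iv D45810) (iv F187287)
theorem F214950 : act 7 n47998 = n44888 := d32_2 (iv F187289) D47998 (iv D44888)
def n47999 : Q := act 9 n44885
theorem D47999 : act 9 n44885 = n47999 := rfl
theorem F214951 : act 1 n47999 = n45811 := d16_1 D47999 (iv D45811) (iv F187287)
theorem F214952 : act 3 n47999 = n44886 := d29_1 D47999 (iv D44886) D44885
theorem F214953 : act 5 n47999 = n44892 := d38_1 D47999 (iv D44892) (iv F187288)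
theorem F214954 : act 7 n47999 = n44889 := d43_1 D47999 (iv D44889) (iv F187289)
def n48000 : Q := act 1 n44887
theorem D48000 : act 1 n44887 = n48000 := rfl
theorem F214955 : act 2 n48000 = n45812 := d9_2 D44887 D48000 (iv D45812) (iv D31394) (iv F130433)
theorem F214956 : act 3 n48000 = n44927 := d10_2 (iv F187294) D48000 (iv D44927)
theorem F214957 : act 5 n48000 = n44893 := d12_2 (iv F187295) D48000 (iv D44893)
def n48001 : Q := act 4 n44887
theorem D48001 : act 4 n44887 = n48001 := rfl
theorem F214958 : act 2 n48001 = n44888 := d18_1 D48001 (iv D44888) D44887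
def n48002 : Q := act 9 n44887
theorem D48002 : act 9 n44887 = n48002 := rfl
theorem F214959 : act 2 n48002 = n44889 := d23_1 D48002 (iv D44889) D44887
theorem F214960 : act 3 n48002 = n44929 := d29_1 D48002 (iv D44929) (iv F187294)
theorem F214961 : act 5 n48002 = n44895 := d38_1 D48002 (iv D44895) (iv F187295)
def n48003 : Q := act 5 n44888
theorem D48003 : act 5 n44888 = n48003 := rfl
theorem F214962 : act 1 n48003 = n45815 := d12_1 D48003 (iv D45815) (iv F187296)
theorem F214963 : act 4 n48003 = n44896 := d30_1 D48003 (iv D44896) (iv D30778) (iv F130434) D44888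
def n48004 : Q := act 9 n44888
theorem D48004 : act 9 n44888 = n48004 := rfl
theorem F214964 : act 1 n48004 = n45816 := d16_1 D48004 (iv D45816) (iv F187296)
theorem F214965 : act 4 n48004 = n44889 := d34_1 D48004 (iv D44889) D44888
def n48005 : Q := act 8 n44889
theorem D48005 : act 8 n44889 = n48005 := rfl
theorem F214966 : act 1 n48005 = n45817 := d15_1 D48005 (iv D45817) (iv F187297)
theorem F214967 : act 5 n48005 = n44898 := d37_1 D48005 (iv D44898) (iv F187299)
def n48006 : Q := act 1 n44890
theorem D48006 : act 1 n44890 = n48006 := rfl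
theorem F214968 : act 2 n48006 = n45818 := d9_2 D44890 D48006 (iv D45818) (iv D31397) (iv F130438)
theorem F214969 : act 3 n48006 = n44932 := d10_2 (iv F187300) D48006 (iv D44932)
theorem F214970 : act 6 n48006 = n48006 := d13_2 F187301 D48006 (iv D48006)
theorem F214971 : act 7 n48006 = n44893 := d14_2 (iv F187302) D48006 (iv D44893)
def n48007 : Q := act 4 n44890
theorem D48007 : act 4 n44890 = n48007 := rfl
theorem F214972 : act 2 n48007 = n44891 := d18_1 D48007 (iv D44891) D44890
theorem F214973 : act 3 n48007 = n48007 := d24_1 D48007 (iv D48007) F187300 F130540 (iv F187300)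
theorem F214974 : act 6 n48007 = n48007 := d31_2 F187301 D48007 (iv D48007)
theorem F214975 : act 7 n48007 = n44894 := d32_2 (iv F187302) D48007 (iv D44894)
theorem F214976 : act 8 n48007 = n46546 := d33_2 F214879 D48007 (iv F214876)
def n48008 : Q := act 9 n44890
theorem D48008 : act 9 n44890 = n48008 := rfl
theorem F214977 : act 2 n48008 = n44892 := d23_1 D48008 (iv D44892) D44890
theorem F214978 : act 3 n48008 = n44933 := d29_1 D48008 (iv D44933) (iv F187300)
theorem F214979 : act 6 n48008 = n48008 := d41_1 D48008 (iv D48008) F187301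
theorem F214980 : act 7 n48008 = n44895 := d43_1 D48008 (iv D44895) (iv F187302)
def n48009 : Q := act 5 n44891
theorem D48009 : act 5 n44891 = n48009 := rfl
theorem F214981 : act 1 n48009 = n45821 := d12_1 D48009 (iv D45821) (iv F187303)
theorem F214982 : act 3 n48009 = n44908 := d25_1 D48009 (iv D44908) (iv F187304)
theorem F214983 : act 7 n48009 = n44896 := d36_2 (iv F187306) D48009 (iv D44896)
theorem F214984 : act 8 n48009 = n45781 := d37_2 (iv F206828) D48009 F190483
def n48010 : Q := act 9 n44891
theorem D48010 : act 9 n44891 = n48010 := rfl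
theorem F214985 : act 1 n48010 = n45822 := d16_1 D48010 (iv D45822) (iv F187303)
theorem F214986 : act 3 n48010 = n44909 := d29_1 D48010 (iv D44909) (iv F187304)
theorem F214987 : act 4 n48010 = n44892 := d34_1 D48010 (iv D44892) D44891
theorem F214988 : act 6 n48010 = n48010 := d41_1 D48010 (iv D48010) F187305
theorem F214989 : act 7 n48010 = n44897 := d43_1 D48010 (iv D44897) (iv F187306)
def n48011 : Q := act 8 n44892
theorem D48011 : act 8 n44892 = n48011 := rfl
theorem F214990 : act 1 n48011 = n45823 := d15_1 D48011 (iv D45823) (iv F187307)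
theorem F214991 : act 6 n48011 = n48011 := d40_1 D48011 (iv D48011) F187309
theorem F214992 : act 7 n48011 = n44898 := d42_1 D48011 (iv D44898) (iv F187310)
def n48012 : Q := act 0 n44893
theorem D48012 : act 0 n44893 = n48012 := rfl
theorem F214993 : act 2 n48012 = n45824 := d1_2 (iv F187311) D48012 (iv D45824)
theorem F214994 : act 3 n48012 = n44935 := d2_2 (iv F187312) D48012 (iv D44935)
theorem F214995 : act 6 n48012 = n44899 := d5_2 (iv F187313) D48012 (iv D44899)
def n48013 : Q := act 4 n44893
theorem D48013 : act 4 n44893 = n48013 := rfl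
theorem F214996 : act 1 n48013 = n44894 := d11_1 D48013 (iv D44894) D44893
theorem F214997 : act 2 n48013 = n45825 := d18_1 D48013 (iv D45825) (iv F187311)
theorem F214998 : act 3 n48013 = n48013 := d24_1 D48013 (iv D48013) F187312 F130550 (iv F187312)
theorem F214999 : act 6 n48013 = n44900 := d31_2 (iv F187313) D48013 (iv D44900)
def n48014 : Q := act 9 n44893
theorem D48014 : act 9 n44893 = n48014 := rfl
theorem F215000 : act 1 n48014 = n44895 := d16_1 D48014 (iv D44895) D44893
theorem F215001 : act 2 n48014 = n45826 := d23_1 D48014 (iv D45826) (iv F187311)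
theorem F215002 : act 3 n48014 = n44936 := d29_1 D48014 (iv D44936) (iv F187312)
theorem F215003 : act 6 n48014 = n44901 := d41_1 D48014 (iv D44901) (iv F187313)
def n48015 : Q := act 5 n44894
theorem D48015 : act 5 n44894 = n48015 := rfl
theorem F215004 : act 2 n48015 = n44896 := d19_1 D48015 (iv D44896) (iv F187314)
theorem F215005 : act 3 n48015 = n48015 := d25_1 D48015 (iv D48015) F187315
def n48016 : Q := act 9 n44894
theorem D48016 : act 9 n44894 = n48016 := rfl
theorem F215006 : act 2 n48016 = n44897 := d23_1 D48016 (iv D44897) (iv F187314)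
theorem F215007 : act 3 n48016 = n48016 := d29_1 D48016 (iv D48016) F187315
theorem F215008 : act 4 n48016 = n44895 := d34_1 D48016 (iv D44895) D44894
theorem F215009 : act 6 n48016 = n44903 := d41_1 D48016 (iv D44903) (iv F187316)
def n48017 : Q := act 8 n44895
theorem D48017 : act 8 n44895 = n48017 := rfl
theorem F215010 : act 2 n48017 = n44898 := d22_1 D48017 (iv D44898) (iv F187317)
theorem F215011 : act 6 n48017 = n44904 := d40_1 D48017 (iv D44904) (iv F187319)
def n48018 : Q := act 6 n44896
theorem D48018 : act 6 n44896 = n48018 := rfl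
theorem F215012 : act 1 n48018 = n45830 := d13_1 D48018 (iv D45830) (iv F187320)
theorem F215013 : act 3 n48018 = n44911 := d26_1 D48018 (iv D44911) (iv F187321)
theorem F215014 : act 5 n48018 = n44905 := d35_1 D48018 (iv D44905) (iv D30783) (iv F130450) D44896
def n48019 : Q := act 9 n44896
theorem D48019 : act 9 n44896 = n48019 := rfl
theorem F215015 : act 1 n48019 = n45831 := d16_1 D48019 (iv D45831) (iv F187320)
theorem F215016 : act 3 n48019 = n44912 := d29_1 D48019 (iv D44912) (iv F187321)
theorem F215017 : act 5 n48019 = n44897 := d38_1 D48019 (iv D44897) D44896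
def n48020 : Q := act 8 n44897
theorem D48020 : act 8 n44897 = n48020 := rfl
theorem F215018 : act 1 n48020 = n45832 := d15_1 D48020 (iv D45832) (iv F187322)
theorem F215019 : act 4 n48020 = n44898 := d33_1 D48020 (iv D44898) (iv F187324)
theorem F215020 : act 6 n48020 = n44907 := d40_1 D48020 (iv D44907) (iv F187325)
def n48021 : Q := act 4 n44899
theorem D48021 : act 4 n44899 = n48021 := rfl
theorem F215021 : act 0 n48021 = n44900 := d3_1 D48021 (iv D44900) D44899
theorem F215022 : act 1 n48021 = n45801 := d11_1 D48021 (iv F213018) F213015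
theorem F215023 : act 2 n48021 = n45833 := d18_1 D48021 (iv D45833) (iv F187328)
theorem F215024 : act 3 n48021 = n48021 := d24_1 D48021 (iv D48021) F187329 F130561 (iv F187329)
theorem F215025 : act 5 n48021 = n45799 := d30_2 F209844 D48021 (iv D45799) (iv F179760) F209847
theorem F215026 : act 7 n48021 = n48021 := d32_2 F187330 D48021 (iv D48021)
theorem F215027 : act 8 n48021 = n45835 := d33_2 F213121 D48021 (iv F213119)
def n48022 : Q := act 9 n44899
theorem D48022 : act 9 n44899 = n48022 := rfl
theorem F215028 : act 0 n48022 = n44901 := d8_1 D48022 (iv D44901) D44899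
theorem F215029 : act 2 n48022 = n45834 := d23_1 D48022 (iv D45834) (iv F187328)
theorem F215030 : act 3 n48022 = n44938 := d29_1 D48022 (iv D44938) (iv F187329)
theorem F215031 : act 7 n48022 = n48022 := d43_1 D48022 (iv D48022) F187330
def n48023 : Q := act 5 n44900
theorem D48023 : act 5 n44900 = n48023 := rfl
theorem F215032 : act 0 n48023 = n45799 := d4_1 D48023 (iv F215025) F215021
theorem F215033 : act 1 n48023 = n44902 := d12_1 D48023 (iv D44902) (iv F187331)
theorem F215034 : act 2 n48023 = n45835 := d19_1 D48023 (iv D45835) (iv F187332)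
theorem F215035 : act 3 n48023 = n48023 := d25_1 D48023 (iv D48023) F187333
theorem F215036 : act 4 n48023 = n45798 := d30_1 D48023 F209854 (iv D46917) F176637 D44900
theorem F215037 : act 7 n48023 = n48023 := d36_2 F187334 D48023 (iv D48023)
theorem F215038 : act 8 n48023 = n45833 := d37_2 F214914 D48023 (iv F214912)
def n48024 : Q := act 9 n44900
theorem D48024 : act 9 n44900 = n48024 := rfl
theorem F215039 : act 1 n48024 = n44903 := d16_1 D48024 (iv D44903) (iv F187331)
theorem F215040 : act 2 n48024 = n45836 := d23_1 D48024 (iv D45836) (iv F187332)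
theorem F215041 : act 3 n48024 = n48024 := d29_1 D48024 (iv D48024) F187333
theorem F215042 : act 4 n48024 = n44901 := d34_1 D48024 (iv D44901) D44900
theorem F215043 : act 7 n48024 = n48024 := d43_1 D48024 (iv D48024) F187334
def n48025 : Q := act 8 n44901
theorem D48025 : act 8 n44901 = n48025 := rfl
theorem F215044 : act 1 n48025 = n44904 := d15_1 D48025 (iv D44904) (iv F187335)
theorem F215045 : act 2 n48025 = n45837 := d22_1 D48025 (iv D45837) (iv F187336)
theorem F215046 : act 7 n48025 = n48025 := d42_1 D48025 (iv D48025) F187338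
def n48026 : Q := act 6 n44902
theorem D48026 : act 6 n44902 = n48026 := rfl
theorem F215047 : act 2 n48026 = n44905 := d20_1 D48026 (iv D44905) (iv F187339)
theorem F215048 : act 3 n48026 = n48026 := d26_1 D48026 (iv D48026) F187340
def n48027 : Q := act 9 n44902
theorem D48027 : act 9 n44902 = n48027 := rfl
theorem F215049 : act 2 n48027 = n44906 := d23_1 D48027 (iv D44906) (iv F187339)
theorem F215050 : act 3 n48027 = n48027 := d29_1 D48027 (iv D48027) F187340
theorem F215051 : act 5 n48027 = n44903 := d38_1 D48027 (iv D44903) D44902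
theorem F215052 : act 7 n48027 = n48027 := d43_1 D48027 (iv D48027) F187341
def n48028 : Q := act 8 n44903
theorem D48028 : act 8 n44903 = n48028 := rfl
theorem F215053 : act 2 n48028 = n44907 := d22_1 D48028 (iv D44907) (iv F187342)
theorem F215054 : act 4 n48028 = n44904 := d33_1 D48028 (iv D44904) (iv F187344)
theorem F215055 : act 7 n48028 = n48028 := d42_1 D48028 (iv D48028) F187345
def n48029 : Q := act 3 n44904
theorem D48029 : act 3 n44904 = n48029 := rfl
theorem F215056 : act 7 n48029 = n48029 := d27_2 F187347 D48029 (iv D48029)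
theorem F215057 : act 8 n48029 = n44940 := d28_2 D44904 D48029 (iv D44940) (iv D30811) (iv F130461)
def n48030 : Q := act 7 n44905
theorem D48030 : act 7 n44905 = n48030 := rfl
theorem F215058 : act 1 n48030 = n45842 := d14_1 D48030 (iv D45842) (iv F187348)
theorem F215059 : act 3 n48030 = n44914 := d27_1 D48030 (iv D44914) (iv F187349)
theorem F215060 : act 6 n48030 = n48030 := d39_1 D48030 (iv D48030) (iv D44905) F130465 D44905
def n48031 : Q := act 9 n44905
theorem D48031 : act 9 n44905 = n48031 := rfl
theorem F215061 : act 1 n48031 = n45843 := d16_1 D48031 (iv D45843) (iv F187348)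
theorem F215062 : act 3 n48031 = n44915 := d29_1 D48031 (iv D44915) (iv F187349)
theorem F215063 : act 6 n48031 = n44906 := d41_1 D48031 (iv D44906) D44905
def n48032 : Q := act 8 n44906
theorem D48032 : act 8 n44906 = n48032 := rfl
theorem F215064 : act 1 n48032 = n45844 := d15_1 D48032 (iv D45844) (iv F187350)
theorem F215065 : act 5 n48032 = n44907 := d37_1 D48032 (iv D44907) (iv F187352)
theorem F215066 : act 7 n48032 = n48032 := d42_1 D48032 (iv D48032) F187353
def n48033 : Q := act 9 n44908
theorem D48033 : act 9 n44908 = n48033 := rfl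
theorem F215067 : act 1 n48033 = n45847 := d16_1 D48033 (iv D45847) (iv F187357)
theorem F215068 : act 2 n48033 = n48033 := d23_1 D48033 (iv D48033) F187358
theorem F215069 : act 4 n48033 = n45377 := d34_1 D48033 (iv D45377) (iv F203004)
theorem F215070 : act 5 n48033 = n44909 := d38_1 D48033 (iv D44909) D44908
theorem F215071 : act 7 n48033 = n44912 := d43_1 D48033 (iv D44912) (iv F187359)
def n48034 : Q := act 7 n44911
theorem D48034 : act 7 n44911 = n48034 := rfl
theorem F215072 : act 1 n48034 = n45849 := d14_1 D48034 (iv D45849) (iv F187371)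
theorem F215073 : act 2 n48034 = n48034 := d21_1 D48034 (iv D48034) F187372
theorem F215074 : act 5 n48034 = n44914 := d36_1 D48034 (iv D44914) (iv F187373)
theorem F215075 : act 8 n48034 = n46535 := d42_2 (iv F187374) D48034 (iv D46535)
def n48035 : Q := act 9 n44911
theorem D48035 : act 9 n44911 = n48035 := rfl
theorem F215076 : act 1 n48035 = n45850 := d16_1 D48035 (iv D45850) (iv F187371)
theorem F215077 : act 2 n48035 = n48035 := d23_1 D48035 (iv D48035) F187372
theorem F215078 : act 5 n48035 = n44915 := d38_1 D48035 (iv D44915) (iv F187373)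
theorem F215079 : act 6 n48035 = n44912 := d41_1 D48035 (iv D44912) D44911
def n48036 : Q := act 9 n44914
theorem D48036 : act 9 n44914 = n48036 := rfl
theorem F215080 : act 1 n48036 = n45853 := d16_1 D48036 (iv D45853) (iv F187383)
theorem F215081 : act 2 n48036 = n48036 := d23_1 D48036 (iv D48036) F187384
theorem F215082 : act 4 n48036 = n44918 := d34_1 D48036 (iv D44918) (iv F187385)
theorem F215083 : act 6 n48036 = n48036 := d41_1 D48036 (iv D48036) F187386
theorem F215084 : act 7 n48036 = n44915 := d43_1 D48036 (iv D44915) D44914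
def n48037 : Q := act 2 n44922
theorem D48037 : act 2 n44922 = n48037 := rfl
theorem F215085 : act 5 n48037 = n48037 := d19_2 F187417 D48037 (iv D48037)
theorem F215086 : act 6 n48037 = n44924 := d20_2 (iv F187418) D48037 (iv D44924)
theorem F215087 : act 8 n48037 = n48037 := d22_2 F187419 D48037 (iv D48037)
def n48038 : Q := act 9 n44922
theorem D48038 : act 9 n44922 = n48038 := rfl
theorem F215088 : act 1 n48038 = n44943 := d16_1 D48038 (iv D44943) (iv F187416)
theorem F215089 : act 3 n48038 = n44923 := d29_1 D48038 (iv D44923) D44922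
theorem F215090 : act 5 n48038 = n48038 := d38_1 D48038 (iv D48038) F187417
theorem F215091 : act 6 n48038 = n44926 := d41_1 D48038 (iv D44926) (iv F187418)
def n48039 : Q := act 1 n44924
theorem D48039 : act 1 n44924 = n48039 := rfl
theorem F215092 : act 2 n48039 = n44944 := d9_2 D44924 D48039 (iv D44944) (iv D30814) (iv F130525)
theorem F215093 : act 5 n48039 = n44932 := d12_2 (iv F187423) D48039 (iv D44932)
theorem F215094 : act 7 n48039 = n44927 := d14_2 (iv F187424) D48039 (iv D44927)
theorem F215095 : act 8 n48039 = n48039 := d15_2 F187425 D48039 (iv D48039)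
def n48040 : Q := act 4 n44924
theorem D48040 : act 4 n44924 = n48040 := rfl
theorem F215096 : act 2 n48040 = n44925 := d18_1 D48040 (iv D44925) D44924
theorem F215097 : act 5 n48040 = n48040 := d30_2 (iv F187423) D48040 (iv D48040) F187423 F130540
theorem F215098 : act 7 n48040 = n44928 := d32_2 (iv F187424) D48040 (iv D44928)
theorem F215099 : act 8 n48040 = n48040 := d33_2 F187425 D48040 (iv D48040)
def n48041 : Q := act 9 n44924
theorem D48041 : act 9 n44924 = n48041 := rfl
theorem F215100 : act 2 n48041 = n44926 := d23_1 D48041 (iv D44926) D44924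
theorem F215101 : act 5 n48041 = n44933 := d38_1 D48041 (iv D44933) (iv F187423)
theorem F215102 : act 7 n48041 = n44929 := d43_1 D48041 (iv D44929) (iv F187424)
def n48042 : Q := act 9 n44925
theorem D48042 : act 9 n44925 = n48042 := rfl
theorem F215103 : act 1 n48042 = n44947 := d16_1 D48042 (iv D44947) (iv F187426)
theorem F215104 : act 4 n48042 = n44926 := d34_1 D48042 (iv D44926) D44925
theorem F215105 : act 5 n48042 = n48042 := d38_1 D48042 (iv D48042) F187427
theorem F215106 : act 7 n48042 = n44930 := d43_1 D48042 (iv D44930) (iv F187428)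
def n48043 : Q := act 8 n44926
theorem D48043 : act 8 n44926 = n48043 := rfl
theorem F215107 : act 1 n48043 = n44948 := d15_1 D48043 (iv D44948) (iv F187430)
theorem F215108 : act 5 n48043 = n44934 := d37_1 D48043 (iv D44934) (iv F187432)
theorem F215109 : act 7 n48043 = n44931 := d42_1 D48043 (iv D44931) (iv F187433)
theorem F215110 : act 9 n48043 = n48043 := d44_2 D44926 D48043 (iv D48043) (iv D44926) F130528
def n48044 : Q := act 0 n44927
theorem D48044 : act 0 n44927 = n48044 := rfl
theorem F215111 : act 2 n48044 = n44949 := d1_2 (iv F187434) D48044 (iv D44949)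
theorem F215112 : act 5 n48044 = n44935 := d4_2 (iv F187435) D48044 (iv D44935)
theorem F215113 : act 8 n48044 = n48044 := d7_2 F187436 D48044 (iv D48044)
def n48045 : Q := act 4 n44927
theorem D48045 : act 4 n44927 = n48045 := rfl
theorem F215114 : act 1 n48045 = n44928 := d11_1 D48045 (iv D44928) D44927
theorem F215115 : act 2 n48045 = n44950 := d18_1 D48045 (iv D44950) (iv F187434)
theorem F215116 : act 5 n48045 = n48045 := d30_2 (iv F187435) D48045 (iv D48045) F187435 F130550
theorem F215117 : act 8 n48045 = n48045 := d33_2 F187436 D48045 (iv D48045)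
def n48046 : Q := act 9 n44927
theorem D48046 : act 9 n44927 = n48046 := rfl
theorem F215118 : act 1 n48046 = n44929 := d16_1 D48046 (iv D44929) D44927
theorem F215119 : act 2 n48046 = n44951 := d23_1 D48046 (iv D44951) (iv F187434)
theorem F215120 : act 5 n48046 = n44936 := d38_1 D48046 (iv D44936) (iv F187435)
def n48047 : Q := act 3 n44928
theorem D48047 : act 3 n44928 = n48047 := rfl
theorem F215121 : act 5 n48047 = n48047 := d25_2 F187438 D48047 (iv D48047)
def n48048 : Q := act 9 n44928
theorem D48048 : act 9 n44928 = n48048 := rfl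
theorem F215122 : act 2 n48048 = n44930 := d23_1 D48048 (iv D44930) (iv F187437)
theorem F215123 : act 4 n48048 = n44929 := d34_1 D48048 (iv D44929) D44928
theorem F215124 : act 5 n48048 = n48048 := d38_1 D48048 (iv D48048) F187438
def n48049 : Q := act 8 n44929
theorem D48049 : act 8 n44929 = n48049 := rfl
theorem F215125 : act 2 n48049 = n44931 := d22_1 D48049 (iv D44931) (iv F187440)
theorem F215126 : act 5 n48049 = n44937 := d37_1 D48049 (iv D44937) (iv F187441)
theorem F215127 : act 9 n48049 = n48049 := d44_2 D44929 D48049 (iv D48049) (iv D44929) F130533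
def n48050 : Q := act 8 n44930
theorem D48050 : act 8 n44930 = n48050 := rfl
theorem F215128 : act 1 n48050 = n44955 := d15_1 D48050 (iv D44955) (iv F187442)
theorem F215129 : act 4 n48050 = n44931 := d33_1 D48050 (iv D44931) (iv F187443)
theorem F215130 : act 5 n48050 = n48050 := d37_1 D48050 (iv D48050) F187444
theorem F215131 : act 9 n48050 = n48050 := d44_2 D44930 D48050 (iv D48050) (iv D44930) F130536
def n48051 : Q := act 0 n44932
theorem D48051 : act 0 n44932 = n48051 := rfl
theorem F215132 : act 2 n48051 = n44956 := d1_2 (iv F187448) D48051 (iv D44956)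
theorem F215133 : act 4 n48051 = n48051 := d3_2 F187449 D48051 (iv D48051)
theorem F215134 : act 6 n48051 = n48051 := d5_2 F187450 D48051 (iv D48051)
theorem F215135 : act 7 n48051 = n44935 := d6_2 (iv F187451) D48051 (iv D44935)
theorem F215136 : act 8 n48051 = n48051 := d7_2 F187452 D48051 (iv D48051)
def n48052 : Q := act 9 n44932
theorem D48052 : act 9 n44932 = n48052 := rfl
theorem F215137 : act 1 n48052 = n44933 := d16_1 D48052 (iv D44933) D44932
theorem F215138 : act 2 n48052 = n44957 := d23_1 D48052 (iv D44957) (iv F187448)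
theorem F215139 : act 4 n48052 = n48052 := d34_1 D48052 (iv D48052) F187449
theorem F215140 : act 6 n48052 = n48052 := d41_1 D48052 (iv D48052) F187450
theorem F215141 : act 7 n48052 = n44936 := d43_1 D48052 (iv D44936) (iv F187451)
def n48053 : Q := act 8 n44933
theorem D48053 : act 8 n44933 = n48053 := rfl
theorem F215142 : act 2 n48053 = n44934 := d22_1 D48053 (iv D44934) (iv F187453)
theorem F215143 : act 4 n48053 = n48053 := d33_1 D48053 (iv D48053) F187454
theorem F215144 : act 6 n48053 = n48053 := d40_1 D48053 (iv D48053) F187455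
theorem F215145 : act 7 n48053 = n44937 := d42_1 D48053 (iv D44937) (iv F187456)
theorem F215146 : act 9 n48053 = n48053 := d44_2 D44933 D48053 (iv D48053) (iv D44933) F130543
def n48054 : Q := act 9 n44935
theorem D48054 : act 9 n44935 = n48054 := rfl
theorem F215147 : act 0 n48054 = n44936 := d8_1 D48054 (iv D44936) D44935
theorem F215148 : act 2 n48054 = n44959 := d23_1 D48054 (iv D44959) (iv F187462)
theorem F215149 : act 4 n48054 = n48054 := d34_1 D48054 (iv D48054) F187463
theorem F215150 : act 6 n48054 = n44938 := d41_1 D48054 (iv D44938) (iv F187464)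
def n48055 : Q := act 8 n44936
theorem D48055 : act 8 n44936 = n48055 := rfl
theorem F215151 : act 1 n48055 = n44937 := d15_1 D48055 (iv D44937) (iv F187466)
theorem F215152 : act 2 n48055 = n44960 := d22_1 D48055 (iv D44960) (iv F187467)
theorem F215153 : act 4 n48055 = n48055 := d33_1 D48055 (iv D48055) F187468
theorem F215154 : act 6 n48055 = n44939 := d40_1 D48055 (iv D44939) (iv F187469)
theorem F215155 : act 9 n48055 = n48055 := d44_2 D44936 D48055 (iv D48055) (iv D44936) F130552
def n48056 : Q := act 3 n44937
theorem D48056 : act 3 n44937 = n48056 := rfl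
theorem F215156 : act 6 n48056 = n44940 := d26_2 (iv F187472) D48056 (iv D44940)
theorem F215157 : act 9 n48056 = n48056 := d29_2 F187473 D48056 (iv D48056)
def n48057 : Q := act 8 n44938
theorem D48057 : act 8 n44938 = n48057 := rfl
theorem F215158 : act 0 n48057 = n44939 := d7_1 D48057 (iv D44939) (iv F187474)
theorem F215159 : act 2 n48057 = n44962 := d22_1 D48057 (iv D44962) (iv F187475)
theorem F215160 : act 4 n48057 = n48057 := d33_1 D48057 (iv D48057) F187476
theorem F215161 : act 7 n48057 = n48057 := d42_1 D48057 (iv D48057) F187477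
theorem F215162 : act 9 n48057 = n48057 := d44_2 D44938 D48057 (iv D48057) (iv D44938) F130563
def n48058 : Q := act 3 n44939
theorem D48058 : act 3 n44939 = n48058 := rfl
theorem F215163 : act 1 n48058 = n44940 := d10_1 D48058 (iv D44940) (iv F187478)
theorem F215164 : act 7 n48058 = n48058 := d27_2 F187481 D48058 (iv D48058)
theorem F215165 : act 9 n48058 = n48058 := d29_2 F187482 D48058 (iv D48058)
def n48059 : Q := act 4 n44940
theorem D48059 : act 4 n44940 = n48059 := rfl
theorem F215166 : act 3 n48059 = n48059 := d24_1 D48059 (iv D48059) (iv D44940) F130569 D44940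
theorem F215167 : act 7 n48059 = n48059 := d32_2 F187483 D48059 (iv D48059)
theorem F215168 : act 9 n48059 = n48059 := d34_2 F187484 D48059 (iv D48059)
def n48060 : Q := act 8 n44943
theorem D48060 : act 8 n44943 = n48060 := rfl
theorem F215169 : act 0 n48060 = n48060 := d7_1 D48060 (iv D48060) F187493
theorem F215170 : act 3 n48060 = n44955 := d28_1 D48060 (iv D44955) (iv F186008) F205544 (iv F187494)
theorem F215171 : act 5 n48060 = n48060 := d37_1 D48060 (iv D48060) F187495
theorem F215172 : act 6 n48060 = n44948 := d40_1 D48060 (iv D44948) (iv F187496)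
theorem F215173 : act 9 n48060 = n48060 := d44_2 D44943 D48060 (iv D48060) (iv D44943) F130575
def n48061 : Q := act 9 n44944
theorem D48061 : act 9 n44944 = n48061 := rfl
theorem F215174 : act 1 n48061 = n44946 := d16_1 D48061 (iv D44946) D44944
theorem F215175 : act 3 n48061 = n45876 := d29_1 D48061 F204600 (iv F187497)
theorem F215176 : act 5 n48061 = n44957 := d38_1 D48061 (iv D44957) (iv F187498)
theorem F215177 : act 7 n48061 = n44951 := d43_1 D48061 (iv D44951) (iv F187499)
def n48062 : Q := act 9 n44945
theorem D48062 : act 9 n44945 = n48062 := rfl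
theorem F215178 : act 0 n48062 = n48062 := d8_1 D48062 (iv D48062) F187501
theorem F215179 : act 2 n48062 = n44947 := d23_1 D48062 (iv D44947) (iv F187502)
theorem F215180 : act 3 n48062 = n45640 := d29_1 D48062 F189963 (iv F204684)
theorem F215181 : act 4 n48062 = n44946 := d34_1 D48062 (iv D44946) D44945
theorem F215182 : act 5 n48062 = n48062 := d38_1 D48062 (iv D48062) F187503
theorem F215183 : act 7 n48062 = n44953 := d43_1 D48062 (iv D44953) (iv F187504)
def n48063 : Q := act 8 n44946
theorem D48063 : act 8 n44946 = n48063 := rfl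
theorem F215184 : act 0 n48063 = n48063 := d7_1 D48063 (iv D48063) F187506
theorem F215185 : act 2 n48063 = n44948 := d22_1 D48063 (iv D44948) (iv F187507)
theorem F215186 : act 3 n48063 = n45460 := d28_1 D48063 (iv D45460) F131828 F204685 (iv F187508)
theorem F215187 : act 5 n48063 = n44958 := d37_1 D48063 (iv D44958) (iv F187509)
theorem F215188 : act 7 n48063 = n44954 := d42_1 D48063 (iv D44954) (iv F187510)
theorem F215189 : act 9 n48063 = n48063 := d44_2 D44946 D48063 (iv D48063) (iv D44946) F130584
def n48064 : Q := act 8 n44947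
theorem D48064 : act 8 n44947 = n48064 := rfl
theorem F215190 : act 0 n48064 = n48064 := d7_1 D48064 (iv D48064) F187511
theorem F215191 : act 4 n48064 = n44948 := d33_1 D48064 (iv D44948) (iv F187512)
theorem F215192 : act 5 n48064 = n48064 := d37_1 D48064 (iv D48064) F187513
theorem F215193 : act 7 n48064 = n44955 := d42_1 D48064 (iv D44955) (iv F187514)
theorem F215194 : act 9 n48064 = n48064 := d44_2 D44947 D48064 (iv D48064) (iv D44947) F130588
def n48065 : Q := act 9 n44949
theorem D48065 : act 9 n44949 = n48065 := rfl
theorem F215195 : act 0 n48065 = n44951 := d8_1 D48065 (iv D44951) D44949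
theorem F215196 : act 1 n48065 = n48065 := d16_1 D48065 (iv D48065) F187519
theorem F215197 : act 3 n48065 = n45900 := d29_1 D48065 (iv D45900) (iv F187520)
theorem F215198 : act 5 n48065 = n44959 := d38_1 D48065 (iv D44959) (iv F187521)
def n48066 : Q := act 9 n44950
theorem D48066 : act 9 n44950 = n48066 := rfl
theorem F215199 : act 1 n48066 = n44953 := d16_1 D48066 (iv D44953) (iv F187523)
theorem F215200 : act 4 n48066 = n44951 := d34_1 D48066 (iv D44951) D44950
theorem F215201 : act 5 n48066 = n48066 := d38_1 D48066 (iv D48066) F187524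
def n48067 : Q := act 8 n44951
theorem D48067 : act 8 n44951 = n48067 := rfl
theorem F215202 : act 1 n48067 = n44954 := d15_1 D48067 (iv D44954) (iv F187526)
theorem F215203 : act 5 n48067 = n44960 := d37_1 D48067 (iv D44960) (iv F187528)
theorem F215204 : act 9 n48067 = n48067 := d44_2 D44951 D48067 (iv D48067) (iv D44951) F130595
def n48068 : Q := act 9 n44952
theorem D48068 : act 9 n44952 = n48068 := rfl
theorem F215205 : act 0 n48068 = n48068 := d8_1 D48068 (iv D48068) F187529
theorem F215206 : act 2 n48068 = n45628 := d23_1 D48068 (iv D45628) (iv F204823)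
theorem F215207 : act 3 n48068 = n44953 := d29_1 D48068 (iv D44953) D44952
theorem F215208 : act 4 n48068 = n45633 := d34_1 D48068 F204818 (iv F187530)
theorem F215209 : act 5 n48068 = n48068 := d38_1 D48068 (iv D48068) F187531
theorem F215210 : act 6 n48068 = n45631 := d41_1 D48068 (iv D45631) (iv F204824)
theorem F215211 : act 7 n48068 = n45640 := d43_1 D48068 F189963 (iv F204825)
theorem F215212 : act 8 n48068 = n45632 := d44_1 D48068 (iv D45632) F132256 F204454 (iv F204826)
def n48069 : Q := act 8 n44953
theorem D48069 : act 8 n44953 = n48069 := rfl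
theorem F215213 : act 0 n48069 = n48069 := d7_1 D48069 (iv D48069) F187532
theorem F215214 : act 2 n48069 = n44955 := d22_1 D48069 (iv D44955) (iv F187533)
theorem F215215 : act 4 n48069 = n44954 := d33_1 D48069 (iv D44954) (iv F187534)
theorem F215216 : act 5 n48069 = n48069 := d37_1 D48069 (iv D48069) F187535
theorem F215217 : act 9 n48069 = n48069 := d44_2 D44953 D48069 (iv D48069) (iv D44953) F130599
def n48070 : Q := act 3 n44954
theorem D48070 : act 3 n44954 = n48070 := rfl
theorem F215218 : act 0 n48070 = n48070 := d2_1 D48070 (iv D48070) F187536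
theorem F215219 : act 5 n48070 = n44961 := d25_2 (iv F187538) D48070 (iv D44961)
theorem F215220 : act 7 n48070 = n45460 := d27_2 F215188 D48070 (iv F215186)
theorem F215221 : act 8 n48070 = n45452 := d28_2 D44954 D48070 F189291 F204732 (iv F130602)
theorem F215222 : act 9 n48070 = n48070 := d29_2 F187539 D48070 (iv D48070)
theorem F215223 : act 4 n45453 = n48070 := d33_3 F215221 F189292 D45453
def n48071 : Q := act 9 n44956
theorem D48071 : act 9 n44956 = n48071 := rfl
theorem F215224 : act 0 n48071 = n44957 := d8_1 D48071 (iv D44957) D44956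
theorem F215225 : act 1 n48071 = n48071 := d16_1 D48071 (iv D48071) F187544
theorem F215226 : act 3 n48071 = n45909 := d29_1 D48071 (iv D45909) (iv F187545)
theorem F215227 : act 4 n48071 = n48071 := d34_1 D48071 (iv D48071) F187546
theorem F215228 : act 6 n48071 = n48071 := d41_1 D48071 (iv D48071) F187547
theorem F215229 : act 7 n48071 = n44959 := d43_1 D48071 (iv D44959) (iv F187548)
def n48072 : Q := act 8 n44957
theorem D48072 : act 8 n44957 = n48072 := rfl
theorem F215230 : act 1 n48072 = n44958 := d15_1 D48072 (iv D44958) (iv F187550)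
theorem F215231 : act 3 n48072 = n46415 := d28_1 D48072 (iv D46415) F135302 F204722 (iv F187551)
theorem F215232 : act 4 n48072 = n48072 := d33_1 D48072 (iv D48072) F187552
theorem F215233 : act 6 n48072 = n48072 := d40_1 D48072 (iv D48072) F187553
theorem F215234 : act 7 n48072 = n44960 := d42_1 D48072 (iv D44960) (iv F187554)
theorem F215235 : act 9 n48072 = n48072 := d44_2 D44957 D48072 (iv D48072) (iv D44957) F130614
def n48073 : Q := act 8 n44959
theorem D48073 : act 8 n44959 = n48073 := rfl
theorem F215236 : act 0 n48073 = n44960 := d7_1 D48073 (iv D44960) (iv F187561)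
theorem F215237 : act 1 n48073 = n48073 := d15_1 D48073 (iv D48073) F187562
theorem F215238 : act 4 n48073 = n48073 := d33_1 D48073 (iv D48073) F187564
theorem F215239 : act 6 n48073 = n44962 := d40_1 D48073 (iv D44962) (iv F187565)
theorem F215240 : act 9 n48073 = n48073 := d44_2 D44959 D48073 (iv D48073) (iv D44959) F130630
def n48074 : Q := act 3 n44960
theorem D48074 : act 3 n44960 = n48074 := rfl
theorem F215241 : act 1 n48074 = n44961 := d10_1 D48074 (iv D44961) (iv F187566)
theorem F215242 : act 6 n48074 = n44963 := d26_2 (iv F187568) D48074 (iv D44963)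
theorem F215243 : act 7 n48074 = n46415 := d27_2 F215234 D48074 (iv F215231)
theorem F215244 : act 8 n48074 = n45913 := d28_2 D44960 D48074 (iv D45913) (iv D31467) (iv F130632)
theorem F215245 : act 9 n48074 = n48074 := d29_2 F187569 D48074 (iv D48074)
theorem F215246 : act 4 n46409 = n48074 := d33_3 F215244 F206499 D46409
def n48075 : Q := act 3 n44976
theorem D48075 : act 3 n44976 = n48075 := rfl
theorem F215247 : act 0 n48075 = n45001 := d2_1 D48075 (iv D45001) (iv F187637)
theorem F215248 : act 1 n48075 = n45073 := d10_1 D48075 (iv D45073) (iv F197899)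
theorem F215249 : act 4 n48075 = n45006 := d24_2 (iv F201736) D48075 (iv D45006) F130770 D30860
theorem F215250 : act 6 n48075 = n45009 := d26_2 (iv F201737) D48075 F187776
theorem F215251 : act 7 n48075 = n45190 := d27_2 (iv F187640) D48075 (iv D45190)
theorem F215252 : act 8 n48075 = n44980 := d28_2 D44976 D48075 (iv D44980) (iv D30838) D30836
def n48076 : Q := act 9 n44976
theorem D48076 : act 9 n44976 = n48076 := rfl
theorem F215253 : act 0 n48076 = n45002 := d8_1 D48076 (iv D45002) (iv F187637)
theorem F215254 : act 1 n48076 = n45074 := d16_1 D48076 (iv D45074) (iv F197899)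
theorem F215255 : act 2 n48076 = n48076 := d23_1 D48076 (iv D48076) F187638
theorem F215256 : act 4 n48076 = n45014 := d34_1 D48076 (iv D45014) (iv F201736)
theorem F215257 : act 6 n48076 = n45016 := d41_1 D48076 (iv D45016) (iv F201737)
theorem F215258 : act 7 n48076 = n45191 := d43_1 D48076 (iv D45191) (iv F187640)
theorem F215259 : act 8 n48076 = n45069 := d44_1 D48076 (iv D45069) (iv D30897) (iv F130679) D44976
def n48077 : Q := act 3 n44979
theorem D48077 : act 3 n44979 = n48077 := rfl
theorem F215260 : act 0 n48077 = n45006 := d2_1 D48077 (iv D45006) (iv F187650)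
theorem F215261 : act 1 n48077 = n45068 := d10_1 D48077 (iv D45068) (iv F197111)
theorem F215262 : act 4 n48077 = n45001 := d24_2 (iv F187652) D48077 (iv D45001) F130760 (iv F201369)
theorem F215263 : act 6 n48077 = n44980 := d26_2 (iv F187653) D48077 (iv D44980)
theorem F215264 : act 7 n48077 = n45228 := d27_2 (iv F197112) D48077 F202600
theorem F215265 : act 8 n48077 = n45009 := d28_2 D44979 D48077 F187776 F201470 F197106
def n48078 : Q := act 9 n44979
theorem D48078 : act 9 n44979 = n48078 := rfl
theorem F215266 : act 0 n48078 = n45007 := d8_1 D48078 (iv D45007) (iv F187650)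
theorem F215267 : act 1 n48078 = n45069 := d16_1 D48078 (iv D45069) (iv F197111)
theorem F215268 : act 2 n48078 = n44994 := d23_1 D48078 (iv D44994) (iv F187651)
theorem F215269 : act 4 n48078 = n44984 := d34_1 D48078 (iv D44984) (iv F187652)
theorem F215270 : act 6 n48078 = n44981 := d41_1 D48078 (iv D44981) (iv F187653)
theorem F215271 : act 7 n48078 = n45296 := d43_1 D48078 (iv D45296) (iv F197112)
theorem F215272 : act 8 n48078 = n45074 := d44_1 D48078 (iv D45074) (iv D30900) (iv F130683) D44979
def n48079 : Q := act 2 n44980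
theorem D48079 : act 2 n44980 = n48079 := rfl
theorem F215273 : act 0 n48079 = n45008 := d1_1 D48079 (iv D45008) (iv F187654)
theorem F215274 : act 3 n48079 = n44995 := d17_2 D44980 D48079 (iv D44995) (iv D30848) (iv F130685)
theorem F215275 : act 7 n48079 = n45197 := d21_2 (iv F187655) D48079 (iv D45197)
def n48080 : Q := act 9 n44980
theorem D48080 : act 9 n44980 = n48080 := rfl
theorem F215276 : act 0 n48080 = n45010 := d8_1 D48080 (iv D45010) (iv F187654)
theorem F215277 : act 3 n48080 = n44981 := d29_1 D48080 (iv D44981) D44980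
theorem F215278 : act 7 n48080 = n45199 := d43_1 D48080 (iv D45199) (iv F187655)
def n48081 : Q := act 1 n44995
theorem D48081 : act 1 n44995 = n48081 := rfl
theorem F215279 : act 2 n48081 = n48081 := d9_2 D44995 D48081 (iv D48081) (iv D44995) F130734
theorem F215280 : act 4 n48081 = n48081 := d11_2 F187726 D48081 (iv D48081)
theorem F215281 : act 7 n48081 = n45218 := d14_2 (iv F187727) D48081 (iv D45218)
theorem F215282 : act 8 n48081 = n48081 := d15_2 F187728 D48081 (iv D48081)
def n48082 : Q := act 9 n44995
theorem D48082 : act 9 n44995 = n48082 := rfl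
theorem F215283 : act 0 n48082 = n45030 := d8_1 D48082 (iv D45030) (iv F187725)
theorem F215284 : act 2 n48082 = n44996 := d23_1 D48082 (iv D44996) D44995
theorem F215285 : act 4 n48082 = n48082 := d34_1 D48082 (iv D48082) F187726
theorem F215286 : act 7 n48082 = n45219 := d43_1 D48082 (iv D45219) (iv F187727)
def n48083 : Q := act 8 n44996
theorem D48083 : act 8 n44996 = n48083 := rfl
theorem F215287 : act 0 n48083 = n45031 := d7_1 D48083 (iv D45031) (iv F187729)
theorem F215288 : act 1 n48083 = n48083 := d15_1 D48083 (iv D48083) F187730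
theorem F215289 : act 3 n48083 = n45098 := d28_1 D48083 (iv D45098) F131018 (iv F130742) (iv F187731)
theorem F215290 : act 4 n48083 = n48083 := d33_1 D48083 (iv D48083) F187732
theorem F215291 : act 7 n48083 = n45220 := d42_1 D48083 (iv D45220) (iv F187733)
theorem F215292 : act 9 n48083 = n48083 := d44_2 D44996 D48083 (iv D48083) (iv D44996) F130737
def n48084 : Q := act 2 n45001
theorem D48084 : act 2 n45001 = n48084 := rfl
theorem F215293 : act 3 n48084 = n48084 := d17_2 D45001 D48084 (iv D48084) (iv D45001) F130759
theorem F215294 : act 7 n48084 = n45227 := d21_2 (iv F187752) D48084 (iv D45227)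
theorem F215295 : act 8 n48084 = n45008 := d22_2 (iv F187753) D48084 (iv D45008)
def n48085 : Q := act 9 n45001
theorem D48085 : act 9 n45001 = n48085 := rfl
theorem F215296 : act 3 n48085 = n45002 := d29_1 D48085 (iv D45002) D45001
theorem F215297 : act 7 n48085 = n45229 := d43_1 D48085 (iv D45229) (iv F187752)
def n48086 : Q := act 9 n45006
theorem D48086 : act 9 n45006 = n48086 := rfl
theorem F215298 : act 3 n48086 = n45007 := d29_1 D48086 (iv D45007) D45006
theorem F215299 : act 6 n48086 = n45010 := d41_1 D48086 (iv D45010) (iv F187769)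
def n48087 : Q := act 4 n45008
theorem D48087 : act 4 n45008 = n48087 := rfl
theorem F215300 : act 2 n48087 = n45009 := d18_1 D48087 (iv D45009) D45008
theorem F215301 : act 3 n48087 = n48087 := d24_1 D48087 (iv D48087) F187774 F130828 (iv F187774)
theorem F215302 : act 7 n48087 = n45240 := d32_2 (iv F187775) D48087 (iv D45240)
def n48088 : Q := act 9 n45008
theorem D48088 : act 9 n45008 = n48088 := rfl
theorem F215303 : act 2 n48088 = n45010 := d23_1 D48088 (iv D45010) D45008
theorem F215304 : act 3 n48088 = n45030 := d29_1 D48088 (iv D45030) (iv F187774)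
theorem F215305 : act 7 n48088 = n45241 := d43_1 D48088 (iv D45241) (iv F187775)
def n48089 : Q := act 9 n45009
theorem D48089 : act 9 n45009 = n48089 := rfl
theorem F215306 : act 1 n48089 = n45077 := d16_1 D48089 (iv D45077) (iv F201902)
theorem F215307 : act 3 n48089 = n45016 := d29_1 D48089 (iv D45016) (iv F187776)
theorem F215308 : act 4 n48089 = n45010 := d34_1 D48089 (iv D45010) D45009
theorem F215309 : act 7 n48089 = n45243 := d43_1 D48089 (iv D45243) (iv F187777)
def n48090 : Q := act 8 n45010
theorem D48090 : act 8 n45010 = n48090 := rfl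
theorem F215310 : act 3 n48090 = n45122 := d28_1 D48090 (iv D45122) F131059 (iv F130776) (iv F187778)
theorem F215311 : act 7 n48090 = n45244 := d42_1 D48090 (iv D45244) (iv F187779)
def n48091 : Q := act 8 n45030
theorem D48091 : act 8 n45030 = n48091 := rfl
theorem F215312 : act 2 n48091 = n45031 := d22_1 D48091 (iv D45031) (iv F187857)
theorem F215313 : act 4 n48091 = n48091 := d33_1 D48091 (iv D48091) F187858
theorem F215314 : act 7 n48091 = n45270 := d42_1 D48091 (iv D45270) (iv F187859)
theorem F215315 : act 9 n48091 = n48091 := d44_2 D45030 D48091 (iv D48091) (iv D45030) F130830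
def n48092 : Q := act 2 n45068
theorem D48092 : act 2 n45068 = n48092 := rfl
theorem F215316 : act 0 n48092 = n45105 := d1_1 D48092 (iv D45105) (iv F188007)
theorem F215317 : act 3 n48092 = n48092 := d17_2 D45068 D48092 (iv D48092) (iv D45068) F130932
theorem F215318 : act 7 n48092 = n45328 := d21_2 (iv F188008) D48092 (iv D45328)
theorem F215319 : act 8 n48092 = n45075 := d22_2 (iv F188009) D48092 (iv D45075)
def n48093 : Q := act 9 n45068
theorem D48093 : act 9 n45068 = n48093 := rfl
theorem F215320 : act 0 n48093 = n45107 := d8_1 D48093 (iv D45107) (iv F188007)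
theorem F215321 : act 3 n48093 = n45069 := d29_1 D48093 (iv D45069) D45068
theorem F215322 : act 7 n48093 = n45330 := d43_1 D48093 (iv D45330) (iv F188008)
def n48094 : Q := act 3 n45071
theorem D48094 : act 3 n45071 = n48094 := rfl
theorem F215323 : act 0 n48094 = n45110 := d2_1 D48094 (iv D45110) (iv F188018)
theorem F215324 : act 5 n48094 = n45073 := d25_2 (iv F188021) D48094 (iv D45073)
def n48095 : Q := act 9 n45071
theorem D48095 : act 9 n45071 = n48095 := rfl
theorem F215325 : act 0 n48095 = n45111 := d8_1 D48095 (iv D45111) (iv F188018)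
theorem F215326 : act 2 n48095 = n45091 := d23_1 D48095 (iv D45091) (iv F188019)
theorem F215327 : act 4 n48095 = n48095 := d34_1 D48095 (iv D48095) F188020
theorem F215328 : act 5 n48095 = n45074 := d38_1 D48095 (iv D45074) (iv F188021)
def n48096 : Q := act 9 n45072
theorem D48096 : act 9 n45072 = n48096 := rfl
theorem F215329 : act 0 n48096 = n45113 := d8_1 D48096 (iv D45113) (iv F188022)
theorem F215330 : act 1 n48096 = n45191 := d16_1 D48096 (iv D45191) (iv F197915)
theorem F215331 : act 2 n48096 = n45093 := d23_1 D48096 (iv D45093) (iv F188023)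
theorem F215332 : act 4 n48096 = n45079 := d34_1 D48096 (iv D45079) (iv F188024)
theorem F215333 : act 6 n48096 = n45336 := d41_1 D48096 (iv D45336) (iv F188025)
theorem F215334 : act 7 n48096 = n45074 := d43_1 D48096 (iv D45074) (iv F188026)
theorem F215335 : act 8 n48096 = n45296 := d44_1 D48096 (iv D45296) (iv D31050) (iv F197410) D45072
def n48097 : Q := act 9 n45073
theorem D48097 : act 9 n45073 = n48097 := rfl
theorem F215336 : act 0 n48097 = n45116 := d8_1 D48097 (iv D45116) (iv F188027)
theorem F215337 : act 3 n48097 = n45074 := d29_1 D48097 (iv D45074) D45073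
theorem F215338 : act 6 n48097 = n45077 := d41_1 D48097 (iv D45077) (iv F188028)
def n48098 : Q := act 9 n45075
theorem D48098 : act 9 n45075 = n48098 := rfl
theorem F215339 : act 0 n48098 = n45119 := d8_1 D48098 (iv D45119) (iv F188033)
theorem F215340 : act 2 n48098 = n45077 := d23_1 D48098 (iv D45077) D45075
theorem F215341 : act 3 n48098 = n45097 := d29_1 D48098 (iv D45097) (iv F188034)
theorem F215342 : act 7 n48098 = n45342 := d43_1 D48098 (iv D45342) (iv F188035)
def n48099 : Q := act 8 n45077
theorem D48099 : act 8 n45077 = n48099 := rfl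
theorem F215343 : act 0 n48099 = n45122 := d7_1 D48099 (iv D45122) (iv F188039)
theorem F215344 : act 7 n48099 = n45345 := d42_1 D48099 (iv D45345) (iv F188041)
def n48100 : Q := act 8 n45088
theorem D48100 : act 8 n45088 = n48100 := rfl
theorem F215345 : act 0 n48100 = n45135 := d7_1 D48100 (iv D45135) (iv F188090)
theorem F215346 : act 1 n48100 = n48100 := d15_1 D48100 (iv D48100) F188091
theorem F215347 : act 4 n48100 = n48100 := d33_1 D48100 (iv D48100) F188093
theorem F215348 : act 5 n48100 = n45358 := d37_1 D48100 (iv D45358) (iv F188094)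
theorem F215349 : act 6 n48100 = n45089 := d40_1 D48100 (iv D45089) D45088
def n48101 : Q := act 9 n45090
theorem D48101 : act 9 n45090 = n48101 := rfl
theorem F215350 : act 0 n48101 = n45140 := d8_1 D48101 (iv D45140) (iv F188100)
theorem F215351 : act 1 n48101 = n48101 := d16_1 D48101 (iv D48101) F188101
theorem F215352 : act 3 n48101 = n45091 := d29_1 D48101 (iv D45091) D45090
theorem F215353 : act 5 n48101 = n45095 := d38_1 D48101 (iv D45095) (iv F188102)
def n48102 : Q := act 8 n45095
theorem D48102 : act 8 n45095 = n48102 := rfl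
theorem F215354 : act 0 n48102 = n45145 := d7_1 D48102 (iv D45145) (iv F188123)
theorem F215355 : act 1 n48102 = n48102 := d15_1 D48102 (iv D48102) F188124
theorem F215356 : act 4 n48102 = n46341 := d33_1 D48102 (iv D46341) (iv F188126)
theorem F215357 : act 6 n48102 = n45098 := d40_1 D48102 (iv D45098) (iv F188127)
theorem F215358 : act 9 n48102 = n48102 := d44_2 D45095 D48102 (iv D48102) (iv D45095) F131007
def n48103 : Q := act 8 n45097
theorem D48103 : act 8 n45097 = n48103 := rfl
theorem F215359 : act 0 n48103 = n45148 := d7_1 D48103 (iv D45148) (iv F188132)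
theorem F215360 : act 2 n48103 = n45098 := d22_1 D48103 (iv D45098) (iv F188133)
theorem F215361 : act 4 n48103 = n46342 := d33_1 D48103 (iv D46342) (iv F188134)
theorem F215362 : act 7 n48103 = n45371 := d42_1 D48103 (iv D45371) (iv F188135)
theorem F215363 : act 9 n48103 = n48103 := d44_2 D45097 D48103 (iv D48103) (iv D45097) F131015
def n48104 : Q := act 1 n45105
theorem D48104 : act 1 n45105 = n48104 := rfl
theorem F215364 : act 3 n48104 = n48104 := d10_2 F188158 D48104 (iv D48104)
theorem F215365 : act 7 n48104 = n45383 := d14_2 (iv F188159) D48104 (iv D45383)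
theorem F215366 : act 8 n48104 = n45117 := d15_2 (iv F188160) D48104 (iv D45117)
def n48105 : Q := act 9 n45105
theorem D48105 : act 9 n45105 = n48105 := rfl
theorem F215367 : act 2 n48105 = n45107 := d23_1 D48105 (iv D45107) D45105
theorem F215368 : act 3 n48105 = n48105 := d29_1 D48105 (iv D48105) F188158
theorem F215369 : act 7 n48105 = n45385 := d43_1 D48105 (iv D45385) (iv F188159)
def n48106 : Q := act 8 n45107
theorem D48106 : act 8 n45107 = n48106 := rfl
theorem F215370 : act 7 n48106 = n45388 := d42_1 D48106 (iv D45388) (iv F188165)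
theorem F215371 : act 9 n48106 = n45122 := d44_2 D45107 D48106 (iv D45122) (iv D30931) (iv F131037)
def n48107 : Q := act 8 n45108
theorem D48107 : act 8 n45108 = n48107 := rfl
theorem F215372 : act 1 n48107 = n46536 := d15_1 D48107 F207640 F206413
theorem F215373 : act 2 n48107 = n45135 := d22_1 D48107 (iv D45135) (iv F188166)
theorem F215374 : act 4 n48107 = n48107 := d33_1 D48107 (iv D48107) F188167
theorem F215375 : act 5 n48107 = n45389 := d37_1 D48107 (iv D45389) (iv F188168)
theorem F215376 : act 6 n48107 = n45109 := d40_1 D48107 (iv D45109) D45108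
def n48108 : Q := act 2 n45110
theorem D48108 : act 2 n45110 = n48108 := rfl
theorem F215377 : act 3 n48108 = n45138 := d17_2 D45110 D48108 (iv D45138) (iv D30944) (iv F131044)
theorem F215378 : act 5 n48108 = n45114 := d19_2 (iv F188173) D48108 (iv D45114)
def n48109 : Q := act 4 n45110
theorem D48109 : act 4 n45110 = n48109 := rfl
theorem F215379 : act 3 n48109 = n48109 := d24_1 D48109 (iv D48109) (iv D45110) F131045 D45110
def n48110 : Q := act 9 n45110
theorem D48110 : act 9 n45110 = n48110 := rfl
theorem F215380 : act 3 n48110 = n45111 := d29_1 D48110 (iv D45111) D45110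
theorem F215381 : act 5 n48110 = n45116 := d38_1 D48110 (iv D45116) (iv F188173)
def n48111 : Q := act 1 n45114
theorem D48111 : act 1 n45114 = n48111 := rfl
theorem F215382 : act 3 n48111 = n45143 := d10_2 (iv F188183) D48111 (iv D45143)
theorem F215383 : act 6 n48111 = n45117 := d13_2 (iv F188184) D48111 (iv D45117)
def n48112 : Q := act 9 n45114
theorem D48112 : act 9 n45114 = n48112 := rfl
theorem F215384 : act 2 n48112 = n45116 := d23_1 D48112 (iv D45116) D45114
theorem F215385 : act 3 n48112 = n45144 := d29_1 D48112 (iv D45144) (iv F188183)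
theorem F215386 : act 6 n48112 = n45119 := d41_1 D48112 (iv D45119) (iv F188184)
def n48113 : Q := act 8 n45116
theorem D48113 : act 8 n45116 = n48113 := rfl
theorem F215387 : act 6 n48113 = n45122 := d40_1 D48113 (iv D45122) (iv F188188)
def n48114 : Q := act 0 n45117
theorem D48114 : act 0 n45117 = n48114 := rfl
theorem F215388 : act 3 n48114 = n45146 := d2_2 (iv F188189) D48114 (iv D45146)
theorem F215389 : act 7 n48114 = n45404 := d6_2 (iv F188190) D48114 (iv D45404)
def n48115 : Q := act 4 n45117
theorem D48115 : act 4 n45117 = n48115 := rfl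
theorem F215390 : act 1 n48115 = n45118 := d11_1 D48115 (iv D45118) D45117
theorem F215391 : act 3 n48115 = n46343 := d24_1 D48115 (iv D46343) F134545 (iv F131130) (iv F188189)
theorem F215392 : act 7 n48115 = n45405 := d32_2 (iv F188190) D48115 (iv D45405)
def n48116 : Q := act 9 n45117
theorem D48116 : act 9 n45117 = n48116 := rfl
theorem F215393 : act 1 n48116 = n45119 := d16_1 D48116 (iv D45119) D45117
theorem F215394 : act 3 n48116 = n45147 := d29_1 D48116 (iv D45147) (iv F188189)
theorem F215395 : act 7 n48116 = n45406 := d43_1 D48116 (iv D45406) (iv F188190)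
def n48117 : Q := act 5 n45118
theorem D48117 : act 5 n45118 = n48117 := rfl
theorem F215396 : act 2 n48117 = n45120 := d19_1 D48117 (iv D45120) (iv F188191)
theorem F215397 : act 3 n48117 = n46345 := d25_1 D48117 (iv D46345) (iv F188192)
theorem F215398 : act 7 n48117 = n45407 := d36_2 (iv F188193) D48117 (iv D45407)
def n48118 : Q := act 9 n45118
theorem D48118 : act 9 n45118 = n48118 := rfl
theorem F215399 : act 2 n48118 = n45121 := d23_1 D48118 (iv D45121) (iv F188191)
theorem F215400 : act 3 n48118 = n46346 := d29_1 D48118 (iv D46346) (iv F188192)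
theorem F215401 : act 4 n48118 = n45119 := d34_1 D48118 (iv D45119) D45118
theorem F215402 : act 7 n48118 = n45408 := d43_1 D48118 (iv D45408) (iv F188193)
def n48119 : Q := act 8 n45119
theorem D48119 : act 8 n45119 = n48119 := rfl
theorem F215403 : act 2 n48119 = n45122 := d22_1 D48119 (iv D45122) (iv F188194)
theorem F215404 : act 7 n48119 = n45409 := d42_1 D48119 (iv D45409) (iv F188196)
def n48120 : Q := act 6 n45120
theorem D48120 : act 6 n45120 = n48120 := rfl
theorem F215405 : act 3 n48120 = n45128 := d26_1 D48120 (iv D45128) (iv F188197)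
def n48121 : Q := act 9 n45120
theorem D48121 : act 9 n45120 = n48121 := rfl
theorem F215406 : act 3 n48121 = n45129 := d29_1 D48121 (iv D45129) (iv F188197)
theorem F215407 : act 5 n48121 = n45121 := d38_1 D48121 (iv D45121) D45120
theorem F215408 : act 7 n48121 = n45411 := d43_1 D48121 (iv D45411) (iv F188198)
def n48122 : Q := act 8 n45121
theorem D48122 : act 8 n45121 = n48122 := rfl
theorem F215409 : act 4 n48122 = n45122 := d33_1 D48122 (iv D45122) (iv F188200)
theorem F215410 : act 7 n48122 = n45412 := d42_1 D48122 (iv D45412) (iv F188201)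
def n48123 : Q := act 7 n45128
theorem D48123 : act 7 n45128 = n48123 := rfl
theorem F215411 : act 2 n48123 = n46349 := d21_1 D48123 (iv D46349) (iv F188222)
theorem F215412 : act 4 n48123 = n45131 := d32_1 D48123 (iv D45131) (iv F188223)
theorem F215413 : act 6 n48123 = n45419 := d39_1 D48123 (iv D45419) (iv D31130) (iv F131079) D45128
theorem F215414 : act 8 n48123 = n46385 := d42_2 (iv F188224) D48123 F207030
theorem F215415 : act 9 n46401 = n48123 := d44_0 F215414 (iv D46385) F135131 D32039 D46401
def n48124 : Q := act 9 n45128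
theorem D48124 : act 9 n45128 = n48124 := rfl
theorem F215416 : act 2 n48124 = n46348 := d23_1 D48124 F206872 (iv F188222)
theorem F215417 : act 4 n48124 = n45132 := d34_1 D48124 (iv D45132) (iv F188223)
theorem F215418 : act 6 n48124 = n45129 := d41_1 D48124 (iv D45129) D45128
theorem F215419 : act 7 n48124 = n46401 := d43_1 D48124 F215415 (iv D48123)
theorem F215420 : act 8 n48124 = n46346 := d44_1 D48124 (iv D46346) (iv F206615) F206833 (iv F188224)
def n48125 : Q := act 9 n45138
theorem D48125 : act 9 n45138 = n48125 := rfl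
theorem F215421 : act 2 n48125 = n45140 := d23_1 D48125 (iv D45140) D45138
theorem F215422 : act 5 n48125 = n45144 := d38_1 D48125 (iv D45144) (iv F188259)
def n48126 : Q := act 9 n45139
theorem D48126 : act 9 n45139 = n48126 := rfl
theorem F215423 : act 1 n48126 = n45157 := d16_1 D48126 (iv D45157) (iv F188261)
theorem F215424 : act 3 n48126 = n48126 := d29_1 D48126 (iv D48126) F188262
theorem F215425 : act 4 n48126 = n45140 := d34_1 D48126 (iv D45140) D45139
theorem F215426 : act 5 n48126 = n46350 := d38_1 D48126 (iv D46350) (iv F188263)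
def n48127 : Q := act 8 n45140
theorem D48127 : act 8 n45140 = n48127 := rfl
theorem F215427 : act 1 n48127 = n45158 := d15_1 D48127 (iv D45158) (iv F188265)
theorem F215428 : act 3 n48127 = n45166 := d28_1 D48127 (iv D45166) (iv F185127) F206190 (iv F188266)
theorem F215429 : act 5 n48127 = n45145 := d37_1 D48127 (iv D45145) (iv F188267)
theorem F215430 : act 7 n48127 = n45468 := d42_1 D48127 (iv F214312) F214311
theorem F215431 : act 9 n48127 = n48127 := d44_2 D45140 D48127 (iv D48127) (iv D45140) F131109
def n48128 : Q := act 9 n45143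
theorem D48128 : act 9 n45143 = n48128 := rfl
theorem F215432 : act 1 n48128 = n45144 := d16_1 D48128 (iv D45144) D45143
theorem F215433 : act 2 n48128 = n45163 := d23_1 D48128 (iv D45163) (iv F188277)
theorem F215434 : act 4 n48128 = n46353 := d34_1 D48128 (iv D46353) (iv F188278)
theorem F215435 : act 6 n48128 = n45147 := d41_1 D48128 (iv D45147) (iv F188279)
def n48129 : Q := act 8 n45144
theorem D48129 : act 8 n45144 = n48129 := rfl
theorem F215436 : act 2 n48129 = n45145 := d22_1 D48129 (iv D45145) (iv F188281)
theorem F215437 : act 4 n48129 = n46354 := d33_1 D48129 (iv D46354) (iv F188282)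
theorem F215438 : act 6 n48129 = n45148 := d40_1 D48129 (iv D45148) (iv F188283)
theorem F215439 : act 9 n48129 = n48129 := d44_2 D45144 D48129 (iv D48129) (iv D45144) F131124
def n48130 : Q := act 9 n45146
theorem D48130 : act 9 n45146 = n48130 := rfl
theorem F215440 : act 0 n48130 = n45147 := d8_1 D48130 (iv D45147) D45146
theorem F215441 : act 2 n48130 = n45165 := d23_1 D48130 (iv D45165) (iv F188288)
theorem F215442 : act 4 n48130 = n46355 := d34_1 D48130 (iv D46355) (iv F188289)
theorem F215443 : act 7 n48130 = n45443 := d43_1 D48130 (iv D45443) (iv F188290)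
def n48131 : Q := act 8 n45147
theorem D48131 : act 8 n45147 = n48131 := rfl
theorem F215444 : act 1 n48131 = n45148 := d15_1 D48131 (iv D45148) (iv F188292)
theorem F215445 : act 2 n48131 = n45166 := d22_1 D48131 (iv D45166) (iv F188293)
theorem F215446 : act 4 n48131 = n46356 := d33_1 D48131 (iv D46356) (iv F188294)
theorem F215447 : act 7 n48131 = n45444 := d42_1 D48131 (iv D45444) (iv F188295)
theorem F215448 : act 9 n48131 = n48131 := d44_2 D45147 D48131 (iv D48131) (iv D45147) F131132
def n48132 : Q := act 3 n45148
theorem D48132 : act 3 n45148 = n48132 := rfl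
theorem F215449 : act 7 n48132 = n45445 := d27_2 (iv F188298) D48132 (iv D45445)
theorem F215450 : act 9 n48132 = n48132 := d29_2 F188299 D48132 (iv D48132)
def n48133 : Q := act 8 n45157
theorem D48133 : act 8 n45157 = n48133 := rfl
theorem F215451 : act 0 n48133 = n48133 := d7_1 D48133 (iv D48133) F188330
theorem F215452 : act 4 n48133 = n45158 := d33_1 D48133 (iv D45158) (iv F188332)
theorem F215453 : act 5 n48133 = n46364 := d37_1 D48133 (iv D46364) (iv F188333)
theorem F215454 : act 7 n48133 = n45469 := d42_1 D48133 (iv F214318) F214317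
theorem F215455 : act 9 n48133 = n48133 := d44_2 D45157 D48133 (iv D48133) (iv D45157) F131158
theorem F215456 : act 3 n46372 = n48133 := d27_3 F215454 F189352 (iv F206975)
def n48134 : Q := act 9 n45159
theorem D48134 : act 9 n45159 = n48134 := rfl
theorem F215457 : act 1 n48134 = n45160 := d16_1 D48134 (iv D45160) D45159
theorem F215458 : act 4 n48134 = n46365 := d34_1 D48134 (iv D46365) (iv F188337)
theorem F215459 : act 6 n48134 = n45462 := d41_1 D48134 (iv D45462) (iv F188338)
theorem F215460 : act 7 n48134 = n45163 := d43_1 D48134 (iv D45163) (iv F188339)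
def n48135 : Q := act 9 n45162
theorem D48135 : act 9 n45162 = n48135 := rfl
theorem F215461 : act 0 n48135 = n45163 := d8_1 D48135 (iv D45163) D45162
theorem F215462 : act 1 n48135 = n48135 := d16_1 D48135 (iv D48135) F188351
theorem F215463 : act 4 n48135 = n46367 := d34_1 D48135 (iv D46367) (iv F188352)
theorem F215464 : act 6 n48135 = n45165 := d41_1 D48135 (iv D45165) (iv F188353)
def n48136 : Q := act 8 n45163
theorem D48136 : act 8 n45163 = n48136 := rfl
theorem F215465 : act 1 n48136 = n45164 := d15_1 D48136 (iv D45164) (iv F188355)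
theorem F215466 : act 4 n48136 = n46368 := d33_1 D48136 (iv D46368) (iv F188356)
theorem F215467 : act 6 n48136 = n45166 := d40_1 D48136 (iv D45166) (iv F188357)
theorem F215468 : act 9 n48136 = n48136 := d44_2 D45163 D48136 (iv D48136) (iv D45163) F131174
def n48137 : Q := act 8 n45165
theorem D48137 : act 8 n45165 = n48137 := rfl
theorem F215469 : act 0 n48137 = n45166 := d7_1 D48137 (iv D45166) (iv F188363)
theorem F215470 : act 1 n48137 = n48137 := d15_1 D48137 (iv D48137) F188364
theorem F215471 : act 4 n48137 = n46370 := d33_1 D48137 (iv D46370) (iv F188365)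
theorem F215472 : act 7 n48137 = n45467 := d42_1 D48137 (iv D45467) (iv F188366)
theorem F215473 : act 9 n48137 = n48137 := d44_2 D45165 D48137 (iv D48137) (iv D45165) F131186
def n48138 : Q := act 8 n45187
theorem D48138 : act 8 n45187 = n48138 := rfl
theorem F215474 : act 0 n48138 = n45223 := d7_1 D48138 (iv D45223) (iv F188440)
theorem F215475 : act 1 n48138 = n45332 := d15_1 D48138 (iv D45332) (iv F198716)
theorem F215476 : act 2 n48138 = n48138 := d22_1 D48138 (iv D48138) F188441
theorem F215477 : act 4 n48138 = n45593 := d33_1 D48138 F203500 (iv F198717)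
theorem F215478 : act 5 n48138 = n45189 := d37_1 D48138 (iv D45189) D45187
theorem F215479 : act 7 n48138 = n45247 := d42_1 D48138 F202740 (iv F198718)
def n48139 : Q := act 3 n45189
theorem D48139 : act 3 n45189 = n48139 := rfl
theorem F215480 : act 0 n48139 = n45225 := d2_1 D48139 (iv D45225) (iv F188449)
theorem F215481 : act 1 n48139 = n45335 := d10_1 D48139 (iv D45335) (iv F198719)
theorem F215482 : act 4 n48139 = n45234 := d24_2 (iv F202606) D48139 (iv D45234) F131348 D31013
theorem F215483 : act 6 n48139 = n45190 := d26_2 (iv F188452) D48139 (iv D45190)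
theorem F215484 : act 7 n48139 = n45237 := d27_2 (iv F202607) D48139 F188620
theorem F215485 : act 8 n48139 = n45195 := d28_2 D45189 D48139 (iv D45195) (iv D30981) (iv F131233)
def n48140 : Q := act 9 n45189
theorem D48140 : act 9 n45189 = n48140 := rfl
theorem F215486 : act 0 n48140 = n45226 := d8_1 D48140 (iv D45226) (iv F188449)
theorem F215487 : act 1 n48140 = n45336 := d16_1 D48140 (iv D45336) (iv F198719)
theorem F215488 : act 2 n48140 = n48140 := d23_1 D48140 (iv D48140) F188450
theorem F215489 : act 4 n48140 = n45246 := d34_1 D48140 (iv D45246) (iv F202606)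
theorem F215490 : act 6 n48140 = n45191 := d41_1 D48140 (iv D45191) (iv F188452)
theorem F215491 : act 7 n48140 = n45248 := d43_1 D48140 (iv D45248) (iv F202607)
theorem F215492 : act 8 n48140 = n45327 := d44_1 D48140 (iv D45327) (iv D31069) (iv F131235) D45189
def n48141 : Q := act 9 n45190
theorem D48141 : act 9 n45190 = n48141 := rfl
theorem F215493 : act 0 n48141 = n45229 := d8_1 D48141 (iv D45229) (iv F188453)
theorem F215494 : act 3 n48141 = n45191 := d29_1 D48141 (iv D45191) D45190
def n48142 : Q := act 8 n45192
theorem D48142 : act 8 n45192 = n48142 := rfl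
theorem F215495 : act 0 n48142 = n45231 := d7_1 D48142 (iv D45231) (iv F188459)
theorem F215496 : act 1 n48142 = n45324 := d15_1 D48142 (iv D45324) (iv F197903)
theorem F215497 : act 2 n48142 = n45211 := d22_1 D48142 (iv D45211) (iv F188460)
theorem F215498 : act 4 n48142 = n45512 := d33_1 D48142 (iv D45512) (iv F188461)
theorem F215499 : act 5 n48142 = n45194 := d37_1 D48142 (iv D45194) (iv F188462)
theorem F215500 : act 7 n48142 = n45193 := d42_1 D48142 (iv D45193) D45192
def n48143 : Q := act 3 n45193
theorem D48143 : act 3 n45193 = n48143 := rfl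
theorem F215501 : act 0 n48143 = n45232 := d2_1 D48143 (iv D45232) (iv F188464)
theorem F215502 : act 5 n48143 = n45195 := d25_2 (iv F188467) D48143 (iv D45195)
def n48144 : Q := act 9 n45193
theorem D48144 : act 9 n45193 = n48144 := rfl
theorem F215503 : act 0 n48144 = n45233 := d8_1 D48144 (iv D45233) (iv F188464)
theorem F215504 : act 2 n48144 = n45213 := d23_1 D48144 (iv D45213) (iv F188465)
theorem F215505 : act 4 n48144 = n45514 := d34_1 D48144 (iv D45514) (iv F188466)
theorem F215506 : act 5 n48144 = n45196 := d38_1 D48144 (iv D45196) (iv F188467)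
theorem F215507 : act 8 n48144 = n45334 := d44_1 D48144 (iv D45334) (iv D31073) (iv F131242) D45193
def n48145 : Q := act 3 n45194
theorem D48145 : act 3 n45194 = n48145 := rfl
theorem F215508 : act 0 n48145 = n45234 := d2_1 D48145 (iv D45234) (iv F188468)
theorem F215509 : act 1 n48145 = n45326 := d10_1 D48145 (iv D45326) (iv F197905)
theorem F215510 : act 4 n48145 = n45225 := d24_2 (iv F188470) D48145 (iv D45225) F131334 (iv F202196)
theorem F215511 : act 6 n48145 = n45228 := d26_2 (iv F197906) D48145 F202600
theorem F215512 : act 7 n48145 = n45195 := d27_2 (iv F188471) D48145 (iv D45195)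
theorem F215513 : act 8 n48145 = n45237 := d28_2 D45194 D48145 F188620 F202300 F197902
def n48146 : Q := act 9 n45194
theorem D48146 : act 9 n45194 = n48146 := rfl
theorem F215514 : act 0 n48146 = n45235 := d8_1 D48146 (iv D45235) (iv F188468)
theorem F215515 : act 1 n48146 = n45327 := d16_1 D48146 (iv D45327) (iv F197905)
theorem F215516 : act 2 n48146 = n45215 := d23_1 D48146 (iv D45215) (iv F188469)
theorem F215517 : act 4 n48146 = n45201 := d34_1 D48146 (iv D45201) (iv F188470)
theorem F215518 : act 6 n48146 = n45296 := d41_1 D48146 (iv D45296) (iv F197906)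
theorem F215519 : act 7 n48146 = n45196 := d43_1 D48146 (iv D45196) (iv F188471)
theorem F215520 : act 8 n48146 = n45336 := d44_1 D48146 (iv D45336) (iv D31074) (iv F131246) D45194
def n48147 : Q := act 2 n45195
theorem D48147 : act 2 n45195 = n48147 := rfl
theorem F215521 : act 0 n48147 = n45236 := d1_1 D48147 (iv D45236) (iv F188472)
theorem F215522 : act 3 n48147 = n45216 := d17_2 D45195 D48147 (iv D45216) (iv D30995) (iv F131248)
theorem F215523 : act 6 n48147 = n45197 := d20_2 (iv F188473) D48147 (iv D45197)
def n48148 : Q := act 9 n45195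
theorem D48148 : act 9 n45195 = n48148 := rfl
theorem F215524 : act 0 n48148 = n45238 := d8_1 D48148 (iv D45238) (iv F188472)
theorem F215525 : act 3 n48148 = n45196 := d29_1 D48148 (iv D45196) D45195
theorem F215526 : act 6 n48148 = n45199 := d41_1 D48148 (iv D45199) (iv F188473)
def n48149 : Q := act 9 n45197
theorem D48149 : act 9 n45197 = n48149 := rfl
theorem F215527 : act 0 n48149 = n45241 := d8_1 D48149 (iv D45241) (iv F188479)
theorem F215528 : act 2 n48149 = n45199 := d23_1 D48149 (iv D45199) D45197
theorem F215529 : act 3 n48149 = n45219 := d29_1 D48149 (iv D45219) (iv F188480)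
def n48150 : Q := act 8 n45199
theorem D48150 : act 8 n45199 = n48150 := rfl
theorem F215530 : act 0 n48150 = n45244 := d7_1 D48150 (iv D45244) (iv F188483)
theorem F215531 : act 3 n48150 = n45345 := d28_1 D48150 (iv D45345) F131579 (iv F131255) (iv F188484)
def n48151 : Q := act 9 n45211
theorem D48151 : act 9 n45211 = n48151 := rfl
theorem F215532 : act 0 n48151 = n45259 := d8_1 D48151 (iv D45259) (iv F188533)
theorem F215533 : act 1 n48151 = n48151 := d16_1 D48151 (iv D48151) F188534
theorem F215534 : act 4 n48151 = n45540 := d34_1 D48151 (iv D45540) (iv F188535)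
theorem F215535 : act 5 n48151 = n45215 := d38_1 D48151 (iv D45215) (iv F188536)
theorem F215536 : act 7 n48151 = n45213 := d43_1 D48151 (iv D45213) (iv F188537)
theorem F215537 : act 8 n48151 = n45360 := d44_1 D48151 (iv D45360) (iv D31091) (iv F131294) D45211
def n48152 : Q := act 2 n45212
theorem D48152 : act 2 n45212 = n48152 := rfl
theorem F215538 : act 0 n48152 = n45260 := d1_1 D48152 (iv D45260) (iv F188538)
theorem F215539 : act 5 n48152 = n45216 := d19_2 (iv F188540) D48152 (iv D45216)
theorem F215540 : act 8 n48152 = n48152 := d22_2 F188541 D48152 (iv D48152)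
def n48153 : Q := act 9 n45212
theorem D48153 : act 9 n45212 = n48153 := rfl
theorem F215541 : act 0 n48153 = n45262 := d8_1 D48153 (iv D45262) (iv F188538)
theorem F215542 : act 1 n48153 = n48153 := d16_1 D48153 (iv D48153) F188539
theorem F215543 : act 3 n48153 = n45213 := d29_1 D48153 (iv D45213) D45212
theorem F215544 : act 5 n48153 = n45217 := d38_1 D48153 (iv D45217) (iv F188540)
def n48154 : Q := act 1 n45216
theorem D48154 : act 1 n45216 = n48154 := rfl
theorem F215545 : act 2 n48154 = n48154 := d9_2 D45216 D48154 (iv D48154) (iv D45216) F131304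
theorem F215546 : act 4 n48154 = n48154 := d11_2 F188558 D48154 (iv D48154)
theorem F215547 : act 6 n48154 = n45218 := d13_2 (iv F188559) D48154 (iv D45218)
theorem F215548 : act 8 n48154 = n48154 := d15_2 F188560 D48154 (iv D48154)
def n48155 : Q := act 9 n45216
theorem D48155 : act 9 n45216 = n48155 := rfl
theorem F215549 : act 0 n48155 = n45266 := d8_1 D48155 (iv D45266) (iv F188557)
theorem F215550 : act 2 n48155 = n45217 := d23_1 D48155 (iv D45217) D45216
theorem F215551 : act 4 n48155 = n48155 := d34_1 D48155 (iv D48155) F188558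
theorem F215552 : act 6 n48155 = n45219 := d41_1 D48155 (iv D45219) (iv F188559)
def n48156 : Q := act 8 n45217
theorem D48156 : act 8 n45217 = n48156 := rfl
theorem F215553 : act 0 n48156 = n45267 := d7_1 D48156 (iv D45267) (iv F188561)
theorem F215554 : act 1 n48156 = n48156 := d15_1 D48156 (iv D48156) F188562
theorem F215555 : act 3 n48156 = n45368 := d28_1 D48156 (iv D45368) F131653 (iv F131312) (iv F188563)
theorem F215556 : act 4 n48156 = n48156 := d33_1 D48156 (iv D48156) F188564
theorem F215557 : act 6 n48156 = n45220 := d40_1 D48156 (iv D45220) (iv F188565)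
theorem F215558 : act 9 n48156 = n48156 := d44_2 D45217 D48156 (iv D48156) (iv D45217) F131307
def n48157 : Q := act 0 n45218
theorem D48157 : act 0 n45218 = n48157 := rfl
theorem F215559 : act 1 n48157 = n45268 := d0_2 D45218 D48157 (iv D45268) (iv D31031) (iv F131313)
theorem F215560 : act 2 n48157 = n48157 := d1_2 F188566 D48157 (iv D48157)
theorem F215561 : act 4 n48157 = n48157 := d3_2 F188567 D48157 (iv D48157)
theorem F215562 : act 8 n48157 = n48157 := d7_2 F188568 D48157 (iv D48157)
def n48158 : Q := act 9 n45218
theorem D48158 : act 9 n45218 = n48158 := rfl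
theorem F215563 : act 1 n48158 = n45219 := d16_1 D48158 (iv D45219) D45218
theorem F215564 : act 2 n48158 = n48158 := d23_1 D48158 (iv D48158) F188566
theorem F215565 : act 4 n48158 = n48158 := d34_1 D48158 (iv D48158) F188567
def n48159 : Q := act 8 n45219
theorem D48159 : act 8 n45219 = n48159 := rfl
theorem F215566 : act 0 n48159 = n45270 := d7_1 D48159 (iv D45270) (iv F188569)
theorem F215567 : act 2 n48159 = n45220 := d22_1 D48159 (iv D45220) (iv F188570)
theorem F215568 : act 4 n48159 = n48159 := d33_1 D48159 (iv D48159) F188571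
theorem F215569 : act 9 n48159 = n48159 := d44_2 D45219 D48159 (iv D48159) (iv D45219) F131315
def n48160 : Q := act 3 n45223
theorem D48160 : act 3 n45223 = n48160 := rfl
theorem F215570 : act 5 n48160 = n45225 := d25_2 (iv F188586) D48160 (iv D45225)
theorem F215571 : act 8 n48160 = n45232 := d28_2 D45223 D48160 (iv D45232) (iv D31006) (iv F131327)
def n48161 : Q := act 9 n45223
theorem D48161 : act 9 n45223 = n48161 := rfl
theorem F215572 : act 2 n48161 = n48161 := d23_1 D48161 (iv D48161) F188585
theorem F215573 : act 5 n48161 = n45226 := d38_1 D48161 (iv D45226) (iv F188586)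
theorem F215574 : act 8 n48161 = n45377 := d44_1 D48161 (iv D45377) (iv D31103) (iv F131328) D45223
def n48162 : Q := act 2 n45225
theorem D48162 : act 2 n45225 = n48162 := rfl
theorem F215575 : act 3 n48162 = n48162 := d17_2 D45225 D48162 (iv D48162) (iv D45225) F131333
theorem F215576 : act 6 n48162 = n45227 := d20_2 (iv F188590) D48162 (iv D45227)
theorem F215577 : act 8 n48162 = n45236 := d22_2 (iv F188591) D48162 (iv D45236)
def n48163 : Q := act 9 n45225
theorem D48163 : act 9 n45225 = n48163 := rfl
theorem F215578 : act 3 n48163 = n45226 := d29_1 D48163 (iv D45226) D45225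
theorem F215579 : act 6 n48163 = n45229 := d41_1 D48163 (iv D45229) (iv F188590)
def n48164 : Q := act 1 n45227
theorem D48164 : act 1 n45227 = n48164 := rfl
theorem F215580 : act 3 n48164 = n48164 := d10_2 F188596 D48164 (iv D48164)
theorem F215581 : act 8 n48164 = n45239 := d15_2 (iv F188597) D48164 (iv D45239)
def n48165 : Q := act 9 n45227
theorem D48165 : act 9 n45227 = n48165 := rfl
theorem F215582 : act 2 n48165 = n45229 := d23_1 D48165 (iv D45229) D45227
theorem F215583 : act 3 n48165 = n48165 := d29_1 D48165 (iv D48165) F188596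
def n48166 : Q := act 9 n45228
theorem D48166 : act 9 n45228 = n48166 := rfl
theorem F215584 : act 1 n48166 = n45330 := d16_1 D48166 (iv D45330) (iv F202599)
theorem F215585 : act 3 n48166 = n45296 := d29_1 D48166 (iv D45296) (iv F202600)
theorem F215586 : act 4 n48166 = n45229 := d34_1 D48166 (iv D45229) D45228
def n48167 : Q := act 8 n45229
theorem D48167 : act 8 n45229 = n48167 := rfl
theorem F215587 : act 3 n48167 = n45388 := d28_1 D48167 (iv D45388) F131686 (iv F131339) (iv F188600)
theorem F215588 : act 9 n48167 = n45244 := d44_2 D45229 D48167 (iv D45244) (iv D31012) (iv F131336)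
def n48168 : Q := act 3 n45231
theorem D48168 : act 3 n45231 = n48168 := rfl
theorem F215589 : act 5 n48168 = n45234 := d25_2 (iv F188606) D48168 (iv D45234)
theorem F215590 : act 7 n48168 = n45232 := d27_2 (iv F188607) D48168 (iv D45232)
def n48169 : Q := act 9 n45231
theorem D48169 : act 9 n45231 = n48169 := rfl
theorem F215591 : act 2 n48169 = n45259 := d23_1 D48169 (iv D45259) (iv F188604)
theorem F215592 : act 4 n48169 = n45571 := d34_1 D48169 (iv D45571) (iv F188605)
theorem F215593 : act 5 n48169 = n45235 := d38_1 D48169 (iv D45235) (iv F188606)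
theorem F215594 : act 7 n48169 = n45233 := d43_1 D48169 (iv D45233) (iv F188607)
theorem F215595 : act 8 n48169 = n45391 := d44_1 D48169 (iv D45391) (iv D31111) (iv F131343) D45231
def n48170 : Q := act 2 n45232
theorem D48170 : act 2 n45232 = n48170 := rfl
theorem F215596 : act 3 n48170 = n45260 := d17_2 D45232 D48170 (iv D45260) (iv D31025) (iv F131344)
theorem F215597 : act 5 n48170 = n45236 := d19_2 (iv F188608) D48170 (iv D45236)
def n48171 : Q := act 4 n45232
theorem D48171 : act 4 n45232 = n48171 := rfl
theorem F215598 : act 3 n48171 = n45573 := d24_1 D48171 (iv D45573) (iv D31234) (iv F131345) D45232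
def n48172 : Q := act 9 n45232
theorem D48172 : act 9 n45232 = n48172 := rfl
theorem F215599 : act 3 n48172 = n45233 := d29_1 D48172 (iv D45233) D45232
theorem F215600 : act 5 n48172 = n45238 := d38_1 D48172 (iv D45238) (iv F188608)
def n48173 : Q := act 9 n45234
theorem D48173 : act 9 n45234 = n48173 := rfl
theorem F215601 : act 3 n48173 = n45235 := d29_1 D48173 (iv D45235) D45234
theorem F215602 : act 7 n48173 = n45238 := d43_1 D48173 (iv D45238) (iv F188613)
def n48174 : Q := act 4 n45236
theorem D48174 : act 4 n45236 = n48174 := rfl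
theorem F215603 : act 2 n48174 = n45237 := d18_1 D48174 (iv D45237) D45236
theorem F215604 : act 3 n48174 = n48174 := d24_1 D48174 (iv D48174) F188618 F131414 (iv F188618)
theorem F215605 : act 6 n48174 = n45240 := d31_2 (iv F188619) D48174 (iv D45240)
def n48175 : Q := act 9 n45236
theorem D48175 : act 9 n45236 = n48175 := rfl
theorem F215606 : act 2 n48175 = n45238 := d23_1 D48175 (iv D45238) D45236
theorem F215607 : act 3 n48175 = n45266 := d29_1 D48175 (iv D45266) (iv F188618)
theorem F215608 : act 6 n48175 = n45241 := d41_1 D48175 (iv D45241) (iv F188619)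
def n48176 : Q := act 5 n45237
theorem D48176 : act 5 n45237 = n48176 := rfl
theorem F215609 : act 1 n48176 = n45333 := d12_1 D48176 F188930 (iv F202741)
theorem F215610 : act 3 n48176 = n45247 := d25_1 D48176 (iv D45247) (iv F188620)
def n48177 : Q := act 9 n45237
theorem D48177 : act 9 n45237 = n48177 := rfl
theorem F215611 : act 1 n48177 = n45339 := d16_1 D48177 (iv D45339) (iv F202741)
theorem F215612 : act 3 n48177 = n45248 := d29_1 D48177 (iv D45248) (iv F188620)
theorem F215613 : act 4 n48177 = n45238 := d34_1 D48177 (iv D45238) D45237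
theorem F215614 : act 6 n48177 = n45243 := d41_1 D48177 (iv D45243) (iv F188621)
def n48178 : Q := act 8 n45238
theorem D48178 : act 8 n45238 = n48178 := rfl
theorem F215615 : act 3 n48178 = n45403 := d28_1 D48178 (iv D45403) F131705 (iv F131354) (iv F188622)
theorem F215616 : act 6 n48178 = n45244 := d40_1 D48178 (iv D45244) (iv F188623)
def n48179 : Q := act 0 n45239
theorem D48179 : act 0 n45239 = n48179 := rfl
theorem F215617 : act 3 n48179 = n45268 := d2_2 (iv F188624) D48179 (iv D45268)
def n48180 : Q := act 4 n45239
theorem D48180 : act 4 n45239 = n48180 := rfl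
theorem F215618 : act 1 n48180 = n45240 := d11_1 D48180 (iv D45240) D45239
theorem F215619 : act 2 n48180 = n45340 := d18_1 D48180 (iv F210761) F210760
theorem F215620 : act 3 n48180 = n48180 := d24_1 D48180 (iv D48180) F188624 F131422 (iv F188624)
def n48181 : Q := act 9 n45239
theorem D48181 : act 9 n45239 = n48181 := rfl
theorem F215621 : act 1 n48181 = n45241 := d16_1 D48181 (iv D45241) D45239
theorem F215622 : act 3 n48181 = n45269 := d29_1 D48181 (iv D45269) (iv F188624)
def n48182 : Q := act 9 n45240
theorem D48182 : act 9 n45240 = n48182 := rfl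
theorem F215623 : act 2 n48182 = n45243 := d23_1 D48182 (iv D45243) (iv F188625)
theorem F215624 : act 3 n48182 = n48182 := d29_1 D48182 (iv D48182) F188626
theorem F215625 : act 4 n48182 = n45241 := d34_1 D48182 (iv D45241) D45240
def n48183 : Q := act 8 n45241
theorem D48183 : act 8 n45241 = n48183 := rfl
theorem F215626 : act 2 n48183 = n45244 := d22_1 D48183 (iv D45244) (iv F188627)
def n48184 : Q := act 8 n45243
theorem D48184 : act 8 n45243 = n48184 := rfl
theorem F215627 : act 1 n48184 = n45345 := d15_1 D48184 (iv D45345) (iv F202745)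
theorem F215628 : act 4 n48184 = n45244 := d33_1 D48184 (iv D45244) (iv F188631)
def n48185 : Q := act 9 n45247
theorem D48185 : act 9 n45247 = n48185 := rfl
theorem F215629 : act 1 n48185 = n45334 := d16_1 D48185 (iv D45334) (iv F202739)
theorem F215630 : act 2 n48185 = n48185 := d23_1 D48185 (iv D48185) F188640
theorem F215631 : act 4 n48185 = n45597 := d34_1 D48185 (iv D45597) (iv F188641)
theorem F215632 : act 5 n48185 = n45248 := d38_1 D48185 (iv D45248) D45247
def n48186 : Q := act 4 n45260
theorem D48186 : act 4 n45260 = n48186 := rfl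
theorem F215633 : act 2 n48186 = n45261 := d18_1 D48186 (iv D45261) D45260
theorem F215634 : act 5 n48186 = n48186 := d30_2 (iv F188684) D48186 (iv D48186) F188684 F131414
theorem F215635 : act 8 n48186 = n48186 := d33_2 F188685 D48186 (iv D48186)
def n48187 : Q := act 9 n45260
theorem D48187 : act 9 n45260 = n48187 := rfl
theorem F215636 : act 2 n48187 = n45262 := d23_1 D48187 (iv D45262) D45260
theorem F215637 : act 5 n48187 = n45266 := d38_1 D48187 (iv D45266) (iv F188684)
def n48188 : Q := act 9 n45261
theorem D48188 : act 9 n45261 = n48188 := rfl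
theorem F215638 : act 1 n48188 = n45279 := d16_1 D48188 (iv D45279) (iv F188686)
theorem F215639 : act 3 n48188 = n45615 := d29_1 D48188 (iv D45615) (iv F188687)
theorem F215640 : act 4 n48188 = n45262 := d34_1 D48188 (iv D45262) D45261
theorem F215641 : act 5 n48188 = n48188 := d38_1 D48188 (iv D48188) F188688
def n48189 : Q := act 8 n45262
theorem D48189 : act 8 n45262 = n48189 := rfl
theorem F215642 : act 1 n48189 = n45280 := d15_1 D48189 (iv D45280) (iv F188690)
theorem F215643 : act 3 n48189 = n45436 := d28_1 D48189 (iv D45436) F131770 (iv F131405) (iv F188691)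
theorem F215644 : act 5 n48189 = n45267 := d37_1 D48189 (iv D45267) (iv F188692)
theorem F215645 : act 9 n48189 = n48189 := d44_2 D45262 D48189 (iv D48189) (iv D45262) F131401
def n48190 : Q := act 8 n45266
theorem D48190 : act 8 n45266 = n48190 := rfl
theorem F215646 : act 2 n48190 = n45267 := d22_1 D48190 (iv D45267) (iv F188704)
theorem F215647 : act 4 n48190 = n48190 := d33_1 D48190 (iv D48190) F188705
theorem F215648 : act 6 n48190 = n45270 := d40_1 D48190 (iv D45270) (iv F188706)
theorem F215649 : act 9 n48190 = n48190 := d44_2 D45266 D48190 (iv D48190) (iv D45266) F131416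
def n48191 : Q := act 9 n45268
theorem D48191 : act 9 n45268 = n48191 := rfl
theorem F215650 : act 0 n48191 = n45269 := d8_1 D48191 (iv D45269) D45268
theorem F215651 : act 2 n48191 = n45287 := d23_1 D48191 (iv D45287) (iv F188712)
theorem F215652 : act 4 n48191 = n48191 := d34_1 D48191 (iv D48191) F188713
def n48192 : Q := act 8 n45269
theorem D48192 : act 8 n45269 = n48192 := rfl
theorem F215653 : act 1 n48192 = n45270 := d15_1 D48192 (iv D45270) (iv F188715)
theorem F215654 : act 2 n48192 = n45288 := d22_1 D48192 (iv D45288) (iv F188716)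
theorem F215655 : act 4 n48192 = n48192 := d33_1 D48192 (iv D48192) F188717
theorem F215656 : act 9 n48192 = n48192 := d44_2 D45269 D48192 (iv D48192) (iv D45269) F131423
def n48193 : Q := act 3 n45270
theorem D48193 : act 3 n45270 = n48193 := rfl
theorem F215657 : act 2 n48193 = n45445 := d17_1 D48193 (iv D45445) F131796 (iv F131427) (iv F188718)
theorem F215658 : act 9 n48193 = n48193 := d29_2 F188720 D48193 (iv D48193)
def n48194 : Q := act 8 n45279
theorem D48194 : act 8 n45279 = n48194 := rfl
theorem F215659 : act 0 n48194 = n48194 := d7_1 D48194 (iv D48194) F188750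
theorem F215660 : act 4 n48194 = n45280 := d33_1 D48194 (iv D45280) (iv F188752)
theorem F215661 : act 5 n48194 = n48194 := d37_1 D48194 (iv D48194) F188753
theorem F215662 : act 9 n48194 = n48194 := d44_2 D45279 D48194 (iv D48194) (iv D45279) F131448
def n48195 : Q := act 8 n45287
theorem D48195 : act 8 n45287 = n48195 := rfl
theorem F215663 : act 0 n48195 = n45288 := d7_1 D48195 (iv D45288) (iv F188782)
theorem F215664 : act 1 n48195 = n48195 := d15_1 D48195 (iv D48195) F188783
theorem F215665 : act 4 n48195 = n48195 := d33_1 D48195 (iv D48195) F188784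
theorem F215666 : act 9 n48195 = n48195 := d44_2 D45287 D48195 (iv D48195) (iv D45287) F131474
def n48196 : Q := act 3 n45288
theorem D48196 : act 3 n45288 = n48196 := rfl
theorem F215667 : act 1 n48196 = n45289 := d10_1 D48196 (iv D45289) (iv F188785)
theorem F215668 : act 9 n48196 = n48196 := d29_2 F188787 D48196 (iv D48196)
def n48197 : Q := act 4 n45289
theorem D48197 : act 4 n45289 = n48197 := rfl
theorem F215669 : act 0 n48197 = n48197 := d3_1 D48197 (iv D48197) F188788
theorem F215670 : act 2 n48197 = n45469 := d18_1 D48197 (iv D45469) (iv F188789)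
theorem F215671 : act 3 n48197 = n48197 := d24_1 D48197 (iv D48197) (iv D45289) F131479 D45289
theorem F215672 : act 9 n48197 = n48197 := d34_2 F188790 D48197 (iv D48197)
def n48198 : Q := act 3 n45324
theorem D48198 : act 3 n45324 = n48198 := rfl
theorem F215673 : act 0 n48198 = n45376 := d2_1 D48198 (iv D45376) (iv F188899)
theorem F215674 : act 5 n48198 = n45326 := d25_2 (iv F188901) D48198 (iv D45326)
theorem F215675 : act 8 n48198 = n45333 := d28_2 D45324 D48198 (iv D45333) (iv D31073) (iv F131542)
def n48199 : Q := act 9 n45324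
theorem D48199 : act 9 n45324 = n48199 := rfl
theorem F215676 : act 0 n48199 = n45377 := d8_1 D48199 (iv D45377) (iv F188899)
theorem F215677 : act 2 n48199 = n48199 := d23_1 D48199 (iv D48199) F188900
theorem F215678 : act 5 n48199 = n45327 := d38_1 D48199 (iv D45327) (iv F188901)
def n48200 : Q := act 2 n45326
theorem D48200 : act 2 n45326 = n48200 := rfl
theorem F215679 : act 0 n48200 = n45380 := d1_1 D48200 (iv D45380) (iv F188906)
theorem F215680 : act 3 n48200 = n48200 := d17_2 D45326 D48200 (iv D48200) (iv D45326) F131548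
theorem F215681 : act 6 n48200 = n45328 := d20_2 (iv F188907) D48200 (iv D45328)
theorem F215682 : act 8 n48200 = n45337 := d22_2 (iv F188908) D48200 (iv D45337)
def n48201 : Q := act 9 n45326
theorem D48201 : act 9 n45326 = n48201 := rfl
theorem F215683 : act 0 n48201 = n45382 := d8_1 D48201 (iv D45382) (iv F188906)
theorem F215684 : act 3 n48201 = n45327 := d29_1 D48201 (iv D45327) D45326
theorem F215685 : act 6 n48201 = n45330 := d41_1 D48201 (iv D45330) (iv F188907)
def n48202 : Q := act 1 n45328
theorem D48202 : act 1 n45328 = n48202 := rfl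
theorem F215686 : act 3 n48202 = n48202 := d10_2 F188914 D48202 (iv D48202)
theorem F215687 : act 8 n48202 = n45340 := d15_2 (iv F188915) D48202 (iv D45340)
def n48203 : Q := act 9 n45328
theorem D48203 : act 9 n45328 = n48203 := rfl
theorem F215688 : act 0 n48203 = n45385 := d8_1 D48203 (iv D45385) (iv F188913)
theorem F215689 : act 2 n48203 = n45330 := d23_1 D48203 (iv D45330) D45328
theorem F215690 : act 3 n48203 = n48203 := d29_1 D48203 (iv D48203) F188914
def n48204 : Q := act 8 n45330
theorem D48204 : act 8 n45330 = n48204 := rfl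
theorem F215691 : act 0 n48204 = n45388 := d7_1 D48204 (iv D45388) (iv F188919)
theorem F215692 : act 9 n48204 = n45345 := d44_2 D45330 D48204 (iv D45345) (iv D31079) (iv F131552)
def n48205 : Q := act 8 n45331
theorem D48205 : act 8 n45331 = n48205 := rfl
theorem F215693 : act 0 n48205 = n45389 := d7_1 D48205 (iv D45389) (iv F188921)
theorem F215694 : act 2 n48205 = n45358 := d22_1 D48205 (iv D45358) (iv F188922)
theorem F215695 : act 4 n48205 = n45722 := d33_1 D48205 (iv D45722) (iv F188923)
theorem F215696 : act 6 n48205 = n45332 := d40_1 D48205 (iv D45332) D45331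
def n48206 : Q := act 3 n45332
theorem D48206 : act 3 n45332 = n48206 := rfl
theorem F215697 : act 0 n48206 = n45390 := d2_1 D48206 (iv D45390) (iv F188924)
theorem F215698 : act 5 n48206 = n45335 := d25_2 (iv F188927) D48206 (iv D45335)
theorem F215699 : act 7 n48206 = n45333 := d27_2 (iv F188928) D48206 (iv D45333)
def n48207 : Q := act 9 n45332
theorem D48207 : act 9 n45332 = n48207 := rfl
theorem F215700 : act 0 n48207 = n45391 := d8_1 D48207 (iv D45391) (iv F188924)
theorem F215701 : act 2 n48207 = n45360 := d23_1 D48207 (iv D45360) (iv F188925)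
theorem F215702 : act 4 n48207 = n45724 := d34_1 D48207 (iv D45724) (iv F188926)
theorem F215703 : act 5 n48207 = n45336 := d38_1 D48207 (iv D45336) (iv F188927)
theorem F215704 : act 7 n48207 = n45334 := d43_1 D48207 (iv D45334) (iv F188928)
def n48208 : Q := act 2 n45333
theorem D48208 : act 2 n45333 = n48208 := rfl
theorem F215705 : act 0 n48208 = n45392 := d1_1 D48208 (iv D45392) (iv F188929)
theorem F215706 : act 3 n48208 = n45361 := d17_2 D45333 D48208 (iv D45361) (iv D31092) (iv F131561)
theorem F215707 : act 5 n48208 = n45337 := d19_2 (iv F188930) D48208 (iv D45337)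
def n48209 : Q := act 4 n45333
theorem D48209 : act 4 n45333 = n48209 := rfl
theorem F215708 : act 0 n48209 = n45393 := d3_1 D48209 (iv D45393) (iv F188929)
theorem F215709 : act 3 n48209 = n45726 := d24_1 D48209 (iv D45726) (iv D31335) (iv F131562) D45333
def n48210 : Q := act 9 n45333
theorem D48210 : act 9 n45333 = n48210 := rfl
theorem F215710 : act 0 n48210 = n45394 := d8_1 D48210 (iv D45394) (iv F188929)
theorem F215711 : act 3 n48210 = n45334 := d29_1 D48210 (iv D45334) D45333
theorem F215712 : act 5 n48210 = n45339 := d38_1 D48210 (iv D45339) (iv F188930)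
def n48211 : Q := act 9 n45335
theorem D48211 : act 9 n45335 = n48211 := rfl
theorem F215713 : act 0 n48211 = n45397 := d8_1 D48211 (iv D45397) (iv F188935)
theorem F215714 : act 3 n48211 = n45336 := d29_1 D48211 (iv D45336) D45335
theorem F215715 : act 7 n48211 = n45339 := d43_1 D48211 (iv D45339) (iv F188936)
def n48212 : Q := act 9 n45337
theorem D48212 : act 9 n45337 = n48212 := rfl
theorem F215716 : act 0 n48212 = n45400 := d8_1 D48212 (iv D45400) (iv F188941)
theorem F215717 : act 2 n48212 = n45339 := d23_1 D48212 (iv D45339) D45337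
theorem F215718 : act 3 n48212 = n45367 := d29_1 D48212 (iv D45367) (iv F188942)
theorem F215719 : act 6 n48212 = n45342 := d41_1 D48212 (iv D45342) (iv F188943)
def n48213 : Q := act 8 n45339
theorem D48213 : act 8 n45339 = n48213 := rfl
theorem F215720 : act 0 n48213 = n45403 := d7_1 D48213 (iv D45403) (iv F188947)
theorem F215721 : act 6 n48213 = n45345 := d40_1 D48213 (iv D45345) (iv F188949)
def n48214 : Q := act 0 n45340
theorem D48214 : act 0 n45340 = n48214 := rfl
theorem F215722 : act 1 n48214 = n45404 := d0_2 D45340 D48214 (iv D45404) (iv D31119) (iv F131574)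
theorem F215723 : act 3 n48214 = n45369 := d2_2 (iv F188950) D48214 (iv D45369)
def n48215 : Q := act 9 n45340
theorem D48215 : act 9 n45340 = n48215 := rfl
theorem F215724 : act 1 n48215 = n45342 := d16_1 D48215 (iv D45342) D45340
theorem F215725 : act 3 n48215 = n45370 := d29_1 D48215 (iv D45370) (iv F188950)
def n48216 : Q := act 8 n45342
theorem D48216 : act 8 n45342 = n48216 := rfl
theorem F215726 : act 0 n48216 = n45409 := d7_1 D48216 (iv D45409) (iv F188954)
theorem F215727 : act 2 n48216 = n45345 := d22_1 D48216 (iv D45345) (iv F188955)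
def n48217 : Q := act 3 n45358
theorem D48217 : act 3 n45358 = n48217 := rfl
theorem F215728 : act 0 n48217 = n45427 := d2_1 D48217 (iv D45427) (iv F189012)
theorem F215729 : act 1 n48217 = n48217 := d10_1 D48217 (iv D48217) F189013
theorem F215730 : act 6 n48217 = n45359 := d26_2 (iv F189015) D48217 (iv D45359)
theorem F215731 : act 8 n48217 = n48217 := d28_2 D45358 D48217 (iv D48217) (iv D45358) F131623
def n48218 : Q := act 9 n45358
theorem D48218 : act 9 n45358 = n48218 := rfl
theorem F215732 : act 0 n48218 = n45428 := d8_1 D48218 (iv D45428) (iv F189012)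
theorem F215733 : act 1 n48218 = n48218 := d16_1 D48218 (iv D48218) F189013
theorem F215734 : act 4 n48218 = n45761 := d34_1 D48218 (iv D45761) (iv F189014)
theorem F215735 : act 6 n48218 = n45360 := d41_1 D48218 (iv D45360) (iv F189015)
def n48219 : Q := act 9 n45359
theorem D48219 : act 9 n45359 = n48219 := rfl
theorem F215736 : act 0 n48219 = n45431 := d8_1 D48219 (iv D45431) (iv F189016)
theorem F215737 : act 1 n48219 = n48219 := d16_1 D48219 (iv D48219) F189017
theorem F215738 : act 3 n48219 = n45360 := d29_1 D48219 (iv D45360) D45359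
theorem F215739 : act 5 n48219 = n45365 := d38_1 D48219 (iv D45365) (iv F189018)
theorem F215740 : act 7 n48219 = n45363 := d43_1 D48219 (iv D45363) (iv F189019)
def n48220 : Q := act 9 n45361
theorem D48220 : act 9 n45361 = n48220 := rfl
theorem F215741 : act 0 n48220 = n45434 := d8_1 D48220 (iv D45434) (iv F189026)
theorem F215742 : act 2 n48220 = n45363 := d23_1 D48220 (iv D45363) D45361
theorem F215743 : act 5 n48220 = n45367 := d38_1 D48220 (iv D45367) (iv F189027)
def n48221 : Q := act 9 n45362
theorem D48221 : act 9 n45362 = n48221 := rfl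
theorem F215744 : act 0 n48221 = n45435 := d8_1 D48221 (iv D45435) (iv F189029)
theorem F215745 : act 1 n48221 = n48221 := d16_1 D48221 (iv D48221) F189030
theorem F215746 : act 3 n48221 = n45768 := d29_1 D48221 (iv D45768) (iv F189031)
theorem F215747 : act 4 n48221 = n45363 := d34_1 D48221 (iv D45363) D45362
theorem F215748 : act 5 n48221 = n46374 := d38_1 D48221 (iv D46374) (iv F189032)
def n48222 : Q := act 8 n45363
theorem D48222 : act 8 n45363 = n48222 := rfl
theorem F215749 : act 0 n48222 = n45436 := d7_1 D48222 (iv D45436) (iv F189034)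
theorem F215750 : act 1 n48222 = n48222 := d15_1 D48222 (iv D48222) F189035
theorem F215751 : act 5 n48222 = n45368 := d37_1 D48222 (iv D45368) (iv F189037)
theorem F215752 : act 9 n48222 = n48222 := d44_2 D45363 D48222 (iv D48222) (iv D45363) F131633
def n48223 : Q := act 8 n45365
theorem D48223 : act 8 n45365 = n48223 := rfl
theorem F215753 : act 0 n48223 = n45439 := d7_1 D48223 (iv D45439) (iv F189042)
theorem F215754 : act 1 n48223 = n48223 := d15_1 D48223 (iv D48223) F189043
theorem F215755 : act 4 n48223 = n46376 := d33_1 D48223 (iv D46376) (iv F189045)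
theorem F215756 : act 7 n48223 = n45368 := d42_1 D48223 (iv D45368) (iv F189046)
theorem F215757 : act 9 n48223 = n48223 := d44_2 D45365 D48223 (iv D48223) (iv D45365) F131642
def n48224 : Q := act 8 n45367
theorem D48224 : act 8 n45367 = n48224 := rfl
theorem F215758 : act 0 n48224 = n45442 := d7_1 D48224 (iv D45442) (iv F189051)
theorem F215759 : act 2 n48224 = n45368 := d22_1 D48224 (iv D45368) (iv F189052)
theorem F215760 : act 4 n48224 = n46377 := d33_1 D48224 (iv D46377) (iv F189053)
theorem F215761 : act 6 n48224 = n45371 := d40_1 D48224 (iv D45371) (iv F189054)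
theorem F215762 : act 9 n48224 = n48224 := d44_2 D45367 D48224 (iv D48224) (iv D45367) F131650
def n48225 : Q := act 9 n45369
theorem D48225 : act 9 n45369 = n48225 := rfl
theorem F215763 : act 0 n48225 = n45370 := d8_1 D48225 (iv D45370) D45369
theorem F215764 : act 1 n48225 = n45443 := d16_1 D48225 (iv D45443) (iv F189060)
theorem F215765 : act 2 n48225 = n48225 := d23_1 D48225 (iv D48225) F189061
theorem F215766 : act 4 n48225 = n46378 := d34_1 D48225 (iv D46378) (iv F189062)
def n48226 : Q := act 8 n45370
theorem D48226 : act 8 n45370 = n48226 := rfl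
theorem F215767 : act 1 n48226 = n45371 := d15_1 D48226 (iv D45371) (iv F189064)
theorem F215768 : act 2 n48226 = n48226 := d22_1 D48226 (iv D48226) F189065
theorem F215769 : act 4 n48226 = n46379 := d33_1 D48226 (iv D46379) (iv F189066)
theorem F215770 : act 9 n48226 = n48226 := d44_2 D45370 D48226 (iv D48226) (iv D45370) F131658
def n48227 : Q := act 3 n45371
theorem D48227 : act 3 n45371 = n48227 := rfl
theorem F215771 : act 0 n48227 = n45445 := d2_1 D48227 (iv D45445) (iv F189067)
theorem F215772 : act 9 n48227 = n48227 := d29_2 F189070 D48227 (iv D48227)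
def n48228 : Q := act 2 n45376
theorem D48228 : act 2 n45376 = n48228 := rfl
theorem F215773 : act 3 n48228 = n48228 := d17_2 D45376 D48228 (iv D48228) (iv D45376) F131672
theorem F215774 : act 5 n48228 = n45380 := d19_2 (iv F189083) D48228 (iv D45380)
theorem F215775 : act 8 n48228 = n45392 := d22_2 (iv F189084) D48228 (iv D45392)
def n48229 : Q := act 4 n45376
theorem D48229 : act 4 n45376 = n48229 := rfl
theorem F215776 : act 8 n48229 = n45393 := d33_2 (iv F189084) D48229 (iv D45393)
def n48230 : Q := act 9 n45376
theorem D48230 : act 9 n45376 = n48230 := rfl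
theorem F215777 : act 3 n48230 = n45377 := d29_1 D48230 (iv D45377) D45376
theorem F215778 : act 5 n48230 = n45382 := d38_1 D48230 (iv D45382) (iv F189083)
def n48231 : Q := act 1 n45380
theorem D48231 : act 1 n45380 = n48231 := rfl
theorem F215779 : act 3 n48231 = n48231 := d10_2 F189092 D48231 (iv D48231)
theorem F215780 : act 6 n48231 = n45383 := d13_2 (iv F189093) D48231 (iv D45383)
theorem F215781 : act 8 n48231 = n45398 := d15_2 (iv F189094) D48231 (iv D45398)
def n48232 : Q := act 9 n45380
theorem D48232 : act 9 n45380 = n48232 := rfl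
theorem F215782 : act 2 n48232 = n45382 := d23_1 D48232 (iv D45382) D45380
theorem F215783 : act 3 n48232 = n48232 := d29_1 D48232 (iv D48232) F189092
theorem F215784 : act 6 n48232 = n45385 := d41_1 D48232 (iv D45385) (iv F189093)
def n48233 : Q := act 8 n45382
theorem D48233 : act 8 n45382 = n48233 := rfl
theorem F215785 : act 6 n48233 = n45388 := d40_1 D48233 (iv D45388) (iv F189099)
theorem F215786 : act 9 n48233 = n45403 := d44_2 D45382 D48233 (iv D45403) (iv D31118) (iv F131678)
def n48234 : Q := act 4 n45383
theorem D48234 : act 4 n45383 = n48234 := rfl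
theorem F215787 : act 1 n48234 = n45384 := d11_1 D48234 (iv D45384) D45383
theorem F215788 : act 8 n48234 = n45405 := d33_2 (iv F189101) D48234 (iv D45405)
def n48235 : Q := act 9 n45383
theorem D48235 : act 9 n45383 = n48235 := rfl
theorem F215789 : act 1 n48235 = n45385 := d16_1 D48235 (iv D45385) D45383
theorem F215790 : act 3 n48235 = n48235 := d29_1 D48235 (iv D48235) F189100
def n48236 : Q := act 5 n45384
theorem D48236 : act 5 n45384 = n48236 := rfl
theorem F215791 : act 2 n48236 = n45386 := d19_1 D48236 (iv D45386) (iv F189102)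
theorem F215792 : act 8 n48236 = n45407 := d37_2 (iv F189103) D48236 (iv D45407)
def n48237 : Q := act 9 n45384
theorem D48237 : act 9 n45384 = n48237 := rfl
theorem F215793 : act 2 n48237 = n45387 := d23_1 D48237 (iv D45387) (iv F189102)
theorem F215794 : act 4 n48237 = n45385 := d34_1 D48237 (iv D45385) D45384
def n48238 : Q := act 8 n45385
theorem D48238 : act 8 n45385 = n48238 := rfl
theorem F215795 : act 2 n48238 = n45388 := d22_1 D48238 (iv D45388) (iv F189104)
theorem F215796 : act 9 n48238 = n45409 := d44_2 D45385 D48238 (iv D45409) (iv D31121) (iv F131683)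
def n48239 : Q := act 6 n45386
theorem D48239 : act 6 n45386 = n48239 := rfl
theorem F215797 : act 3 n48239 = n46536 := d26_1 D48239 (iv D46536) (iv F189106)
theorem F215798 : act 8 n48239 = n45410 := d40_2 (iv F189107) D48239 (iv D45410)
def n48240 : Q := act 8 n45387
theorem D48240 : act 8 n45387 = n48240 := rfl
theorem F215799 : act 4 n48240 = n45388 := d33_1 D48240 (iv D45388) (iv F189109)
theorem F215800 : act 9 n48240 = n45412 := d44_2 D45387 D48240 (iv D45412) (iv D31123) (iv F131685)
def n48241 : Q := act 3 n45389
theorem D48241 : act 3 n45389 = n48241 := rfl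
theorem F215801 : act 6 n48241 = n45390 := d26_2 (iv F189113) D48241 (iv D45390)
def n48242 : Q := act 9 n45389
theorem D48242 : act 9 n45389 = n48242 := rfl
theorem F215802 : act 2 n48242 = n45428 := d23_1 D48242 (iv D45428) (iv F189111)
theorem F215803 : act 4 n48242 = n45808 := d34_1 D48242 (iv D45808) (iv F189112)
theorem F215804 : act 6 n48242 = n45391 := d41_1 D48242 (iv D45391) (iv F189113)
def n48243 : Q := act 2 n45390
theorem D48243 : act 2 n45390 = n48243 := rfl
theorem F215805 : act 3 n48243 = n45429 := d17_2 D45390 D48243 (iv D45429) (iv D31138) (iv F131689)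
theorem F215806 : act 5 n48243 = n45395 := d19_2 (iv F189114) D48243 (iv D45395)
theorem F215807 : act 7 n48243 = n45392 := d21_2 (iv F189115) D48243 (iv D45392)
def n48244 : Q := act 4 n45390
theorem D48244 : act 4 n45390 = n48244 := rfl
theorem F215808 : act 3 n48244 = n45810 := d24_1 D48244 (iv D45810) (iv D31392) (iv F131690) D45390
theorem F215809 : act 7 n48244 = n45393 := d32_2 (iv F189115) D48244 (iv D45393)
def n48245 : Q := act 9 n45390
theorem D48245 : act 9 n45390 = n48245 := rfl
theorem F215810 : act 3 n48245 = n45391 := d29_1 D48245 (iv D45391) D45390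
theorem F215811 : act 5 n48245 = n45397 := d38_1 D48245 (iv D45397) (iv F189114)
theorem F215812 : act 7 n48245 = n45394 := d43_1 D48245 (iv D45394) (iv F189115)
def n48246 : Q := act 1 n45392
theorem D48246 : act 1 n45392 = n48246 := rfl
theorem F215813 : act 3 n48246 = n45432 := d10_2 (iv F189120) D48246 (iv D45432)
theorem F215814 : act 5 n48246 = n45398 := d12_2 (iv F189121) D48246 (iv D45398)
def n48247 : Q := act 4 n45392
theorem D48247 : act 4 n45392 = n48247 := rfl
theorem F215815 : act 2 n48247 = n45393 := d18_1 D48247 (iv D45393) D45392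
def n48248 : Q := act 9 n45392
theorem D48248 : act 9 n45392 = n48248 := rfl
theorem F215816 : act 2 n48248 = n45394 := d23_1 D48248 (iv D45394) D45392
theorem F215817 : act 3 n48248 = n45434 := d29_1 D48248 (iv D45434) (iv F189120)
theorem F215818 : act 5 n48248 = n45400 := d38_1 D48248 (iv D45400) (iv F189121)
def n48249 : Q := act 5 n45393
theorem D48249 : act 5 n45393 = n48249 := rfl
theorem F215819 : act 3 n48249 = n45815 := d25_1 D48249 (iv D45815) (iv F189122)
theorem F215820 : act 4 n48249 = n45401 := d30_1 D48249 (iv D45401) (iv D31117) (iv F131693) D45393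
def n48250 : Q := act 9 n45393
theorem D48250 : act 9 n45393 = n48250 := rfl
theorem F215821 : act 3 n48250 = n45816 := d29_1 D48250 (iv D45816) (iv F189122)
theorem F215822 : act 4 n48250 = n45394 := d34_1 D48250 (iv D45394) D45393
def n48251 : Q := act 8 n45394
theorem D48251 : act 8 n45394 = n48251 := rfl
theorem F215823 : act 5 n48251 = n45403 := d37_1 D48251 (iv D45403) (iv F189124)
def n48252 : Q := act 1 n45395
theorem D48252 : act 1 n45395 = n48252 := rfl
theorem F215824 : act 3 n48252 = n45437 := d10_2 (iv F189125) D48252 (iv D45437)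
theorem F215825 : act 7 n48252 = n45398 := d14_2 (iv F189126) D48252 (iv D45398)
def n48253 : Q := act 9 n45395
theorem D48253 : act 9 n45395 = n48253 := rfl
theorem F215826 : act 2 n48253 = n45397 := d23_1 D48253 (iv D45397) D45395
theorem F215827 : act 3 n48253 = n45438 := d29_1 D48253 (iv D45438) (iv F189125)
theorem F215828 : act 7 n48253 = n45400 := d43_1 D48253 (iv D45400) (iv F189126)
def n48254 : Q := act 8 n45397
theorem D48254 : act 8 n45397 = n48254 := rfl
theorem F215829 : act 7 n48254 = n45403 := d42_1 D48254 (iv D45403) (iv F189130)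
def n48255 : Q := act 0 n45398
theorem D48255 : act 0 n45398 = n48255 := rfl
theorem F215830 : act 3 n48255 = n45440 := d2_2 (iv F189131) D48255 (iv D45440)
theorem F215831 : act 6 n48255 = n45404 := d5_2 (iv F189132) D48255 (iv D45404)
def n48256 : Q := act 4 n45398
theorem D48256 : act 4 n45398 = n48256 := rfl
theorem F215832 : act 1 n48256 = n45399 := d11_1 D48256 (iv D45399) D45398
theorem F215833 : act 3 n48256 = n46387 := d24_1 D48256 (iv D46387) F135179 (iv F131780) (iv F189131)
theorem F215834 : act 6 n48256 = n45405 := d31_2 (iv F189132) D48256 (iv D45405)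
def n48257 : Q := act 9 n45398
theorem D48257 : act 9 n45398 = n48257 := rfl
theorem F215835 : act 1 n48257 = n45400 := d16_1 D48257 (iv D45400) D45398
theorem F215836 : act 3 n48257 = n45441 := d29_1 D48257 (iv D45441) (iv F189131)
theorem F215837 : act 6 n48257 = n45406 := d41_1 D48257 (iv D45406) (iv F189132)
def n48258 : Q := act 5 n45399
theorem D48258 : act 5 n45399 = n48258 := rfl
theorem F215838 : act 2 n48258 = n45401 := d19_1 D48258 (iv D45401) (iv F189133)
theorem F215839 : act 3 n48258 = n46389 := d25_1 D48258 (iv D46389) (iv F189134)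
def n48259 : Q := act 9 n45399
theorem D48259 : act 9 n45399 = n48259 := rfl
theorem F215840 : act 2 n48259 = n45402 := d23_1 D48259 (iv D45402) (iv F189133)
theorem F215841 : act 3 n48259 = n46390 := d29_1 D48259 (iv D46390) (iv F189134)
theorem F215842 : act 4 n48259 = n45400 := d34_1 D48259 (iv D45400) D45399
theorem F215843 : act 6 n48259 = n45408 := d41_1 D48259 (iv D45408) (iv F189135)
def n48260 : Q := act 8 n45400
theorem D48260 : act 8 n45400 = n48260 := rfl
theorem F215844 : act 2 n48260 = n45403 := d22_1 D48260 (iv D45403) (iv F189136)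
theorem F215845 : act 6 n48260 = n45409 := d40_1 D48260 (iv D45409) (iv F189138)
def n48261 : Q := act 6 n45401
theorem D48261 : act 6 n45401 = n48261 := rfl
theorem F215846 : act 3 n48261 = n45416 := d26_1 D48261 (iv D45416) (iv F189139)
theorem F215847 : act 5 n48261 = n45410 := d35_1 D48261 (iv D45410) (iv D31122) (iv F131704) D45401
def n48262 : Q := act 9 n45401
theorem D48262 : act 9 n45401 = n48262 := rfl
theorem F215848 : act 3 n48262 = n45417 := d29_1 D48262 (iv D45417) (iv F189139)
theorem F215849 : act 5 n48262 = n45402 := d38_1 D48262 (iv D45402) D45401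
def n48263 : Q := act 8 n45402
theorem D48263 : act 8 n45402 = n48263 := rfl
theorem F215850 : act 4 n48263 = n45403 := d33_1 D48263 (iv D45403) (iv F189141)
theorem F215851 : act 6 n48263 = n45412 := d40_1 D48263 (iv D45412) (iv F189142)
def n48264 : Q := act 4 n45404
theorem D48264 : act 4 n45404 = n48264 := rfl
theorem F215852 : act 0 n48264 = n45405 := d3_1 D48264 (iv D45405) D45404
theorem F215853 : act 3 n48264 = n46394 := d24_1 D48264 (iv D46394) F135196 (iv F131791) (iv F189144)
def n48265 : Q := act 9 n45404
theorem D48265 : act 9 n45404 = n48265 := rfl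
theorem F215854 : act 0 n48265 = n45406 := d8_1 D48265 (iv D45406) D45404
theorem F215855 : act 3 n48265 = n45443 := d29_1 D48265 (iv D45443) (iv F189144)
def n48266 : Q := act 5 n45405
theorem D48266 : act 5 n45405 = n48266 := rfl
theorem F215856 : act 1 n48266 = n45407 := d12_1 D48266 (iv D45407) (iv F189145)
theorem F215857 : act 3 n48266 = n46396 := d25_1 D48266 (iv D46396) (iv F189146)
def n48267 : Q := act 9 n45405
theorem D48267 : act 9 n45405 = n48267 := rfl
theorem F215858 : act 1 n48267 = n45408 := d16_1 D48267 (iv D45408) (iv F189145)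
theorem F215859 : act 3 n48267 = n46397 := d29_1 D48267 (iv D46397) (iv F189146)
theorem F215860 : act 4 n48267 = n45406 := d34_1 D48267 (iv D45406) D45405
def n48268 : Q := act 8 n45406
theorem D48268 : act 8 n45406 = n48268 := rfl
theorem F215861 : act 1 n48268 = n45409 := d15_1 D48268 (iv D45409) (iv F189147)
def n48269 : Q := act 6 n45407
theorem D48269 : act 6 n45407 = n48269 := rfl
theorem F215862 : act 2 n48269 = n45410 := d20_1 D48269 (iv D45410) (iv F189149)
theorem F215863 : act 3 n48269 = n46399 := d26_1 D48269 (iv D46399) (iv F189150)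
def n48270 : Q := act 9 n45407
theorem D48270 : act 9 n45407 = n48270 := rfl
theorem F215864 : act 2 n48270 = n45411 := d23_1 D48270 (iv D45411) (iv F189149)
theorem F215865 : act 3 n48270 = n46400 := d29_1 D48270 (iv D46400) (iv F189150)
theorem F215866 : act 5 n48270 = n45408 := d38_1 D48270 (iv D45408) D45407
def n48271 : Q := act 8 n45408
theorem D48271 : act 8 n45408 = n48271 := rfl
theorem F215867 : act 2 n48271 = n45412 := d22_1 D48271 (iv D45412) (iv F189151)
theorem F215868 : act 4 n48271 = n45409 := d33_1 D48271 (iv D45409) (iv F189153)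
def n48272 : Q := act 3 n45409
theorem D48272 : act 3 n45409 = n48272 := rfl
theorem F215869 : act 8 n48272 = n45445 := d28_2 D45409 D48272 (iv D45445) (iv D31150) (iv F131711)
def n48273 : Q := act 7 n45410
theorem D48273 : act 7 n45410 = n48273 := rfl
theorem F215870 : act 3 n48273 = n45419 := d27_1 D48273 (iv D45419) (iv F189155)
def n48274 : Q := act 9 n45410
theorem D48274 : act 9 n45410 = n48274 := rfl
theorem F215871 : act 3 n48274 = n45420 := d29_1 D48274 (iv D45420) (iv F189155)
theorem F215872 : act 6 n48274 = n45411 := d41_1 D48274 (iv D45411) D45410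
def n48275 : Q := act 8 n45411
theorem D48275 : act 8 n45411 = n48275 := rfl
theorem F215873 : act 5 n48275 = n45412 := d37_1 D48275 (iv D45412) (iv F189157)
def n48276 : Q := act 7 n45416
theorem D48276 : act 7 n45416 = n48276 := rfl
theorem F215874 : act 2 n48276 = n46407 := d21_1 D48276 (iv D46407) (iv F189170)
theorem F215875 : act 4 n48276 = n45849 := d32_1 D48276 (iv D45849) (iv F189171)
theorem F215876 : act 5 n48276 = n45419 := d36_1 D48276 (iv D45419) (iv F189172)
theorem F215877 : act 8 n48276 = n46538 := d42_2 (iv F189173) D48276 (iv D46538)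
def n48277 : Q := act 9 n45416
theorem D48277 : act 9 n45416 = n48277 := rfl
theorem F215878 : act 2 n48277 = n46408 := d23_1 D48277 (iv D46408) (iv F189170)
theorem F215879 : act 4 n48277 = n45850 := d34_1 D48277 (iv D45850) (iv F189171)
theorem F215880 : act 5 n48277 = n45420 := d38_1 D48277 (iv D45420) (iv F189172)
theorem F215881 : act 6 n48277 = n45417 := d41_1 D48277 (iv D45417) D45416
def n48278 : Q := act 9 n45419
theorem D48278 : act 9 n45419 = n48278 := rfl
theorem F215882 : act 2 n48278 = n46393 := d23_1 D48278 F207056 (iv F189181)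
theorem F215883 : act 4 n48278 = n45423 := d34_1 D48278 (iv D45423) (iv F189182)
theorem F215884 : act 6 n48278 = n46401 := d41_1 D48278 F215415 F215413
theorem F215885 : act 7 n48278 = n45420 := d43_1 D48278 (iv D45420) D45419
theorem F215886 : act 8 n48278 = n46390 := d44_1 D48278 (iv D46390) F206619 F206811 (iv F189183)
def n48279 : Q := act 2 n45427
theorem D48279 : act 2 n45427 = n48279 := rfl
theorem F215887 : act 6 n48279 = n45429 := d20_2 (iv F189205) D48279 (iv D45429)
theorem F215888 : act 8 n48279 = n48279 := d22_2 F189206 D48279 (iv D48279)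
def n48280 : Q := act 9 n45427
theorem D48280 : act 9 n45427 = n48280 := rfl
theorem F215889 : act 1 n48280 = n45448 := d16_1 D48280 (iv D45448) (iv F189204)
theorem F215890 : act 3 n48280 = n45428 := d29_1 D48280 (iv D45428) D45427
theorem F215891 : act 6 n48280 = n45431 := d41_1 D48280 (iv D45431) (iv F189205)
def n48281 : Q := act 1 n45429
theorem D48281 : act 1 n45429 = n48281 := rfl
theorem F215892 : act 2 n48281 = n45449 := d9_2 D45429 D48281 (iv D45449) (iv D31153) (iv F131755)
theorem F215893 : act 5 n48281 = n45437 := d12_2 (iv F189210) D48281 (iv D45437)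
theorem F215894 : act 7 n48281 = n45432 := d14_2 (iv F189211) D48281 (iv D45432)
theorem F215895 : act 8 n48281 = n48281 := d15_2 F189212 D48281 (iv D48281)
def n48282 : Q := act 9 n45429
theorem D48282 : act 9 n45429 = n48282 := rfl
theorem F215896 : act 2 n48282 = n45431 := d23_1 D48282 (iv D45431) D45429
theorem F215897 : act 5 n48282 = n45438 := d38_1 D48282 (iv D45438) (iv F189210)
theorem F215898 : act 7 n48282 = n45434 := d43_1 D48282 (iv D45434) (iv F189211)
def n48283 : Q := act 9 n45430
theorem D48283 : act 9 n45430 = n48283 := rfl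
theorem F215899 : act 1 n48283 = n45452 := d16_1 D48283 (iv D45452) (iv F189213)
theorem F215900 : act 3 n48283 = n45868 := d29_1 D48283 (iv D45868) (iv F189214)
theorem F215901 : act 4 n48283 = n45431 := d34_1 D48283 (iv D45431) D45430
theorem F215902 : act 5 n48283 = n45913 := d38_1 D48283 F190897 F204796
theorem F215903 : act 7 n48283 = n45435 := d43_1 D48283 (iv D45435) (iv F189216)
def n48284 : Q := act 8 n45431
theorem D48284 : act 8 n45431 = n48284 := rfl
theorem F215904 : act 1 n48284 = n45453 := d15_1 D48284 (iv D45453) (iv F189218)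
theorem F215905 : act 5 n48284 = n45439 := d37_1 D48284 (iv D45439) (iv F189220)
theorem F215906 : act 7 n48284 = n45436 := d42_1 D48284 (iv D45436) (iv F189221)
theorem F215907 : act 9 n48284 = n48284 := d44_2 D45431 D48284 (iv D48284) (iv D45431) F131758
def n48285 : Q := act 0 n45432
theorem D48285 : act 0 n45432 = n48285 := rfl
theorem F215908 : act 2 n48285 = n45454 := d1_2 (iv F189222) D48285 (iv D45454)
theorem F215909 : act 5 n48285 = n45440 := d4_2 (iv F189223) D48285 (iv D45440)
theorem F215910 : act 8 n48285 = n48285 := d7_2 F189224 D48285 (iv D48285)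
def n48286 : Q := act 4 n45432
theorem D48286 : act 4 n45432 = n48286 := rfl
theorem F215911 : act 1 n48286 = n45433 := d11_1 D48286 (iv D45433) D45432
theorem F215912 : act 2 n48286 = n45455 := d18_1 D48286 (iv D45455) (iv F189222)
theorem F215913 : act 5 n48286 = n46410 := d30_2 (iv F189223) D48286 (iv D46410) F135292 (iv F131780)
theorem F215914 : act 8 n48286 = n48286 := d33_2 F189224 D48286 (iv D48286)
def n48287 : Q := act 9 n45432
theorem D48287 : act 9 n45432 = n48287 := rfl
theorem F215915 : act 1 n48287 = n45434 := d16_1 D48287 (iv D45434) D45432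
theorem F215916 : act 2 n48287 = n45456 := d23_1 D48287 (iv D45456) (iv F189222)
theorem F215917 : act 5 n48287 = n45441 := d38_1 D48287 (iv D45441) (iv F189223)
def n48288 : Q := act 3 n45433
theorem D48288 : act 3 n45433 = n48288 := rfl
theorem F215918 : act 2 n48288 = n45873 := d17_1 D48288 (iv D45873) F132792 (iv F131766) (iv F189225)
theorem F215919 : act 5 n48288 = n46412 := d25_2 (iv F189226) D48288 (iv D46412)
def n48289 : Q := act 9 n45433
theorem D48289 : act 9 n45433 = n48289 := rfl
theorem F215920 : act 2 n48289 = n45435 := d23_1 D48289 (iv D45435) (iv F189225)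
theorem F215921 : act 4 n48289 = n45434 := d34_1 D48289 (iv D45434) D45433
theorem F215922 : act 5 n48289 = n46413 := d38_1 D48289 (iv D46413) (iv F189226)
def n48290 : Q := act 8 n45434
theorem D48290 : act 8 n45434 = n48290 := rfl
theorem F215923 : act 2 n48290 = n45436 := d22_1 D48290 (iv D45436) (iv F189228)
theorem F215924 : act 5 n48290 = n45442 := d37_1 D48290 (iv D45442) (iv F189229)
theorem F215925 : act 9 n48290 = n48290 := d44_2 D45434 D48290 (iv D48290) (iv D45434) F131764
def n48291 : Q := act 8 n45435
theorem D48291 : act 8 n45435 = n48291 := rfl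
theorem F215926 : act 1 n48291 = n45460 := d15_1 D48291 (iv D45460) (iv F189230)
theorem F215927 : act 4 n48291 = n45436 := d33_1 D48291 (iv D45436) (iv F189232)
theorem F215928 : act 5 n48291 = n46415 := d37_1 D48291 (iv D46415) (iv F189233)
theorem F215929 : act 9 n48291 = n48291 := d44_2 D45435 D48291 (iv D48291) (iv D45435) F131768
def n48292 : Q := act 9 n45437
theorem D48292 : act 9 n45437 = n48292 := rfl
theorem F215930 : act 1 n48292 = n45438 := d16_1 D48292 (iv D45438) D45437
theorem F215931 : act 2 n48292 = n45462 := d23_1 D48292 (iv D45462) (iv F189237)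
theorem F215932 : act 4 n48292 = n46416 := d34_1 D48292 (iv D46416) (iv F189238)
theorem F215933 : act 7 n48292 = n45441 := d43_1 D48292 (iv D45441) (iv F189239)
def n48293 : Q := act 8 n45438
theorem D48293 : act 8 n45438 = n48293 := rfl
theorem F215934 : act 2 n48293 = n45439 := d22_1 D48293 (iv D45439) (iv F189241)
theorem F215935 : act 4 n48293 = n46417 := d33_1 D48293 (iv D46417) (iv F189242)
theorem F215936 : act 7 n48293 = n45442 := d42_1 D48293 (iv D45442) (iv F189243)
theorem F215937 : act 9 n48293 = n48293 := d44_2 D45438 D48293 (iv D48293) (iv D45438) F131774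
def n48294 : Q := act 9 n45440
theorem D48294 : act 9 n45440 = n48294 := rfl
theorem F215938 : act 0 n48294 = n45441 := d8_1 D48294 (iv D45441) D45440
theorem F215939 : act 2 n48294 = n45464 := d23_1 D48294 (iv D45464) (iv F189248)
theorem F215940 : act 4 n48294 = n46418 := d34_1 D48294 (iv D46418) (iv F189249)
theorem F215941 : act 6 n48294 = n45443 := d41_1 D48294 (iv D45443) (iv F189250)
def n48295 : Q := act 8 n45441
theorem D48295 : act 8 n45441 = n48295 := rfl
theorem F215942 : act 1 n48295 = n45442 := d15_1 D48295 (iv D45442) (iv F189252)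
theorem F215943 : act 2 n48295 = n45465 := d22_1 D48295 (iv D45465) (iv F189253)
theorem F215944 : act 4 n48295 = n46419 := d33_1 D48295 (iv D46419) (iv F189254)
theorem F215945 : act 6 n48295 = n45444 := d40_1 D48295 (iv D45444) (iv F189255)
theorem F215946 : act 9 n48295 = n48295 := d44_2 D45441 D48295 (iv D48295) (iv D45441) F131782
def n48296 : Q := act 3 n45442
theorem D48296 : act 3 n45442 = n48296 := rfl
theorem F215947 : act 6 n48296 = n45445 := d26_2 (iv F189258) D48296 (iv D45445)
theorem F215948 : act 9 n48296 = n48296 := d29_2 F189259 D48296 (iv D48296)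
def n48297 : Q := act 8 n45443
theorem D48297 : act 8 n45443 = n48297 := rfl
theorem F215949 : act 0 n48297 = n45444 := d7_1 D48297 (iv D45444) (iv F189260)
theorem F215950 : act 2 n48297 = n45467 := d22_1 D48297 (iv D45467) (iv F189261)
theorem F215951 : act 4 n48297 = n46421 := d33_1 D48297 (iv D46421) (iv F189262)
theorem F215952 : act 9 n48297 = n48297 := d44_2 D45443 D48297 (iv D48297) (iv D45443) F131792
def n48298 : Q := act 3 n45444
theorem D48298 : act 3 n45444 = n48298 := rfl
theorem F215953 : act 1 n48298 = n45445 := d10_1 D48298 (iv D45445) (iv F189263)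
theorem F215954 : act 9 n48298 = n48298 := d29_2 F189266 D48298 (iv D48298)
def n48299 : Q := act 4 n45445
theorem D48299 : act 4 n45445 = n48299 := rfl
theorem F215955 : act 3 n48299 = n46423 := d24_1 D48299 (iv D46423) (iv D32076) (iv F131797) D45445
theorem F215956 : act 9 n48299 = n48299 := d34_2 F189267 D48299 (iv D48299)
def n48300 : Q := act 8 n45448
theorem D48300 : act 8 n45448 = n48300 := rfl
theorem F215957 : act 0 n48300 = n48300 := d7_1 D48300 (iv D48300) F189275
theorem F215958 : act 3 n48300 = n45459 := d28_1 D48300 (iv D45459) (iv F186005) F205887 (iv F189276)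
theorem F215959 : act 5 n48300 = n45466 := d37_1 D48300 F211477 F211474
theorem F215960 : act 6 n48300 = n45453 := d40_1 D48300 (iv D45453) (iv F189277)
theorem F215961 : act 9 n48300 = n48300 := d44_2 D45448 D48300 (iv D48300) (iv D45448) F131801
def n48301 : Q := act 0 n45449
theorem D48301 : act 0 n45449 = n48301 := rfl
theorem F215962 : act 1 n48301 = n48301 := d0_2 D45449 D48301 (iv D48301) (iv D45449) F131805
theorem F215963 : act 5 n48301 = n45461 := d4_2 (iv F189278) D48301 (iv D45461)
theorem F215964 : act 7 n48301 = n45454 := d6_2 (iv F189279) D48301 (iv D45454)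
theorem F215965 : act 8 n48301 = n48301 := d7_2 F189280 D48301 (iv D48301)
def n48302 : Q := act 4 n45449
theorem D48302 : act 4 n45449 = n48302 := rfl
theorem F215966 : act 1 n48302 = n45450 := d11_1 D48302 (iv D45450) D45449
theorem F215967 : act 3 n48302 = n46147 := d24_1 D48302 F212517 (iv D47482) (iv F211369) (iv F211373)
theorem F215968 : act 5 n48302 = n46157 := d30_2 (iv F189278) D48302 F206383 F135353 (iv F131834)
theorem F215969 : act 7 n48302 = n45455 := d32_2 (iv F189279) D48302 (iv D45455)
theorem F215970 : act 8 n48302 = n48302 := d33_2 F189280 D48302 (iv D48302)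
def n48303 : Q := act 9 n45449
theorem D48303 : act 9 n45449 = n48303 := rfl
theorem F215971 : act 1 n48303 = n45451 := d16_1 D48303 (iv D45451) D45449
theorem F215972 : act 5 n48303 = n45462 := d38_1 D48303 (iv D45462) (iv F189278)
theorem F215973 : act 7 n48303 = n45456 := d43_1 D48303 (iv D45456) (iv F189279)
def n48304 : Q := act 9 n45450
theorem D48304 : act 9 n45450 = n48304 := rfl
theorem F215974 : act 0 n48304 = n48304 := d8_1 D48304 (iv D48304) F189281
theorem F215975 : act 2 n48304 = n45452 := d23_1 D48304 (iv D45452) (iv F189282)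
theorem F215976 : act 3 n48304 = n45639 := d29_1 D48304 F189959 (iv F204809)
theorem F215977 : act 4 n48304 = n45451 := d34_1 D48304 (iv D45451) D45450
theorem F215978 : act 5 n48304 = n45646 := d38_1 D48304 F189990 F204858
theorem F215979 : act 7 n48304 = n45458 := d43_1 D48304 (iv D45458) (iv F189284)
def n48305 : Q := act 8 n45451
theorem D48305 : act 8 n45451 = n48305 := rfl
theorem F215980 : act 0 n48305 = n48305 := d7_1 D48305 (iv D48305) F189286
theorem F215981 : act 2 n48305 = n45453 := d22_1 D48305 (iv D45453) (iv F189287)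
theorem F215982 : act 5 n48305 = n45463 := d37_1 D48305 (iv D45463) (iv F189288)
theorem F215983 : act 7 n48305 = n45459 := d42_1 D48305 (iv D45459) (iv F189289)
theorem F215984 : act 9 n48305 = n48305 := d44_2 D45451 D48305 (iv D48305) (iv D45451) F131808
def n48306 : Q := act 4 n45454
theorem D48306 : act 4 n45454 = n48306 := rfl
theorem F215985 : act 0 n48306 = n45455 := d3_1 D48306 (iv D45455) D45454
theorem F215986 : act 1 n48306 = n48306 := d11_1 D48306 (iv D48306) F189299
theorem F215987 : act 5 n48306 = n46426 := d30_2 (iv F189300) D48306 (iv D46426) F135376 (iv F131846)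
theorem F215988 : act 8 n48306 = n48306 := d33_2 F189301 D48306 (iv D48306)
def n48307 : Q := act 9 n45454
theorem D48307 : act 9 n45454 = n48307 := rfl
theorem F215989 : act 0 n48307 = n45456 := d8_1 D48307 (iv D45456) D45454
theorem F215990 : act 1 n48307 = n48307 := d16_1 D48307 (iv D48307) F189299
theorem F215991 : act 5 n48307 = n45464 := d38_1 D48307 (iv D45464) (iv F189300)
def n48308 : Q := act 3 n45455
theorem D48308 : act 3 n45455 = n48308 := rfl
theorem F215992 : act 1 n48308 = n45457 := d10_1 D48308 (iv D45457) (iv F189302)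
theorem F215993 : act 4 n48308 = n45607 := d24_2 D45455 D48308 (iv D45607) (iv F205876) F185998
theorem F215994 : act 5 n48308 = n46154 := d25_2 (iv F189303) D48308 F206385
theorem F215995 : act 6 n48308 = n45610 := d26_2 F212029 D48308 (iv F212027)
theorem F215996 : act 7 n48308 = n46147 := d27_2 F215969 D48308 (iv F215967)
theorem F215997 : act 8 n46107 = n48308 := d42_0 F215996 (iv D46147) (iv F204490)
def n48309 : Q := act 9 n45455
theorem D48309 : act 9 n45455 = n48309 := rfl
theorem F215998 : act 1 n48309 = n45458 := d16_1 D48309 (iv D45458) (iv F189302)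
theorem F215999 : act 4 n48309 = n45456 := d34_1 D48309 (iv D45456) D45455
theorem F216000 : act 5 n48309 = n46428 := d38_1 D48309 (iv D46428) (iv F189303)
def n48310 : Q := act 8 n45456
theorem D48310 : act 8 n45456 = n48310 := rfl
theorem F216001 : act 1 n48310 = n45459 := d15_1 D48310 (iv D45459) (iv F189305)
theorem F216002 : act 5 n48310 = n45465 := d37_1 D48310 (iv D45465) (iv F189306)
theorem F216003 : act 9 n48310 = n48310 := d44_2 D45456 D48310 (iv D48310) (iv D45456) F131819
def n48311 : Q := act 9 n45457
theorem D48311 : act 9 n45457 = n48311 := rfl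
theorem F216004 : act 0 n48311 = n48311 := d8_1 D48311 (iv D48311) F189307
theorem F216005 : act 2 n48311 = n45633 := d23_1 D48311 F204818 (iv F189308)
theorem F216006 : act 3 n48311 = n45458 := d29_1 D48311 (iv D45458) D45457
theorem F216007 : act 4 n48311 = n45628 := d34_1 D48311 (iv D45628) (iv F204819)
theorem F216008 : act 5 n48311 = n45643 := d38_1 D48311 F189978 F204871
theorem F216009 : act 6 n48311 = n45632 := d41_1 D48311 (iv D45632) (iv F204820)
theorem F216010 : act 7 n48311 = n45639 := d43_1 D48311 F189959 (iv F204821)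
theorem F216011 : act 8 n48311 = n45631 := d44_1 D48311 (iv D45631) F132252 F204450 (iv F204822)
def n48312 : Q := act 8 n45458
theorem D48312 : act 8 n45458 = n48312 := rfl
theorem F216012 : act 0 n48312 = n48312 := d7_1 D48312 (iv D48312) F189310
theorem F216013 : act 2 n48312 = n45460 := d22_1 D48312 (iv D45460) (iv F189311)
theorem F216014 : act 4 n48312 = n45459 := d33_1 D48312 (iv D45459) (iv F189312)
theorem F216015 : act 5 n48312 = n46430 := d37_1 D48312 (iv D46430) (iv F189313)
theorem F216016 : act 9 n48312 = n48312 := d44_2 D45458 D48312 (iv D48312) (iv D45458) F131823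
def n48313 : Q := act 9 n45461
theorem D48313 : act 9 n45461 = n48313 := rfl
theorem F216017 : act 0 n48313 = n45462 := d8_1 D48313 (iv D45462) D45461
theorem F216018 : act 1 n48313 = n48313 := d16_1 D48313 (iv D48313) F189322
theorem F216019 : act 4 n48313 = n46432 := d34_1 D48313 (iv D46432) (iv F189323)
theorem F216020 : act 7 n48313 = n45464 := d43_1 D48313 (iv D45464) (iv F189324)
def n48314 : Q := act 8 n45462
theorem D48314 : act 8 n45462 = n48314 := rfl
theorem F216021 : act 1 n48314 = n45463 := d15_1 D48314 (iv D45463) (iv F189326)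
theorem F216022 : act 4 n48314 = n46433 := d33_1 D48314 (iv D46433) (iv F189327)
theorem F216023 : act 7 n48314 = n45465 := d42_1 D48314 (iv D45465) (iv F189328)
theorem F216024 : act 9 n48314 = n48314 := d44_2 D45462 D48314 (iv D48314) (iv D45462) F131836
def n48315 : Q := act 8 n45464
theorem D48315 : act 8 n45464 = n48315 := rfl
theorem F216025 : act 0 n48315 = n45465 := d7_1 D48315 (iv D45465) (iv F189334)
theorem F216026 : act 1 n48315 = n48315 := d15_1 D48315 (iv D48315) F189335
theorem F216027 : act 4 n48315 = n46435 := d33_1 D48315 (iv D46435) (iv F189336)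
theorem F216028 : act 6 n48315 = n45467 := d40_1 D48315 (iv D45467) (iv F189337)
theorem F216029 : act 9 n48315 = n48315 := d44_2 D45464 D48315 (iv D48315) (iv D45464) F131848
def n48316 : Q := act 3 n45465
theorem D48316 : act 3 n45465 = n48316 := rfl
theorem F216030 : act 1 n48316 = n45466 := d10_1 D48316 (iv D45466) (iv F189338)
theorem F216031 : act 6 n48316 = n45468 := d26_2 (iv F189340) D48316 (iv D45468)
theorem F216032 : act 9 n48316 = n48316 := d29_2 F189341 D48316 (iv D48316)
def n48317 : Q := act 4 n45466
theorem D48317 : act 4 n45466 = n48317 := rfl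
theorem F216033 : act 0 n48317 = n48317 := d3_1 D48317 (iv D48317) F189342
theorem F216034 : act 3 n48317 = n46437 := d24_1 D48317 (iv D46437) (iv D32097) (iv F131854) D45466
theorem F216035 : act 6 n48317 = n45469 := d31_2 (iv F189343) D48317 (iv D45469)
theorem F216036 : act 9 n48317 = n48317 := d34_2 F189344 D48317 (iv D48317)
def n48318 : Q := act 3 n45467
theorem D48318 : act 3 n45467 = n48318 := rfl
theorem F216037 : act 0 n48318 = n45468 := d2_1 D48318 (iv D45468) (iv F189345)
theorem F216038 : act 1 n48318 = n48318 := d10_1 D48318 (iv D48318) F189346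
theorem F216039 : act 9 n48318 = n48318 := d29_2 F189348 D48318 (iv D48318)
def n48319 : Q := act 2 n45468
theorem D48319 : act 2 n45468 = n48319 := rfl
theorem F216040 : act 9 n48319 = n48319 := d23_2 F189350 D48319 (iv D48319)
def n48320 : Q := act 4 n45468
theorem D48320 : act 4 n45468 = n48320 := rfl
theorem F216041 : act 1 n48320 = n45469 := d11_1 D48320 (iv D45469) (iv F189349)
theorem F216042 : act 3 n48320 = n46440 := d24_1 D48320 (iv D46440) (iv D32099) (iv F131861) D45468
theorem F216043 : act 9 n48320 = n48320 := d34_2 F189350 D48320 (iv D48320)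
def n48321 : Q := act 5 n45469
theorem D48321 : act 5 n45469 = n48321 := rfl
theorem F216044 : act 0 n48321 = n48321 := d4_1 D48321 (iv D48321) F189351
theorem F216045 : act 3 n48321 = n46441 := d25_1 D48321 (iv D46441) (iv F189352)
theorem F216046 : act 4 n48321 = n46360 := d30_1 D48321 F206922 (iv F206504) F178555 D45469
theorem F216047 : act 7 n48321 = n46364 := d36_2 F215454 D48321 (iv F215453)
theorem F216048 : act 8 n48321 = n46359 := d37_2 F214318 D48321 (iv F214316)
theorem F216049 : act 9 n48321 = n48321 := d38_2 F189353 D48321 (iv D48321)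
def n48322 : Q := act 8 n45511
theorem D48322 : act 8 n45511 = n48322 := rfl
theorem F216050 : act 0 n48322 = n45569 := d7_1 D48322 (iv D45569) (iv F189508)
theorem F216051 : act 2 n48322 = n45538 := d22_1 D48322 (iv D45538) (iv F189509)
theorem F216052 : act 5 n48322 = n48322 := d37_1 D48322 (iv D48322) F189510
theorem F216053 : act 6 n48322 = n45512 := d40_1 D48322 (iv D45512) D45511
def n48323 : Q := act 3 n45512
theorem D48323 : act 3 n45512 = n48323 := rfl
theorem F216054 : act 0 n48323 = n45570 := d2_1 D48323 (iv D45570) (iv F189512)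
theorem F216055 : act 5 n48323 = n45515 := d25_2 (iv F189514) D48323 (iv D45515)
theorem F216056 : act 7 n48323 = n45513 := d27_2 (iv F189515) D48323 (iv D45513)
def n48324 : Q := act 9 n45512
theorem D48324 : act 9 n45512 = n48324 := rfl
theorem F216057 : act 0 n48324 = n45571 := d8_1 D48324 (iv D45571) (iv F189512)
theorem F216058 : act 2 n48324 = n45540 := d23_1 D48324 (iv D45540) (iv F189513)
theorem F216059 : act 5 n48324 = n45516 := d38_1 D48324 (iv D45516) (iv F189514)
theorem F216060 : act 7 n48324 = n45514 := d43_1 D48324 (iv D45514) (iv F189515)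
theorem F216061 : act 8 n48324 = n45724 := d44_1 D48324 (iv D45724) (iv D31334) (iv F131962) D45512
def n48325 : Q := act 4 n45513
theorem D48325 : act 4 n45513 = n48325 := rfl
theorem F216062 : act 0 n48325 = n45573 := d3_1 D48325 (iv D45573) (iv F189516)
def n48326 : Q := act 9 n45513
theorem D48326 : act 9 n45513 = n48326 := rfl
theorem F216063 : act 0 n48326 = n45574 := d8_1 D48326 (iv D45574) (iv F189516)
theorem F216064 : act 3 n48326 = n45514 := d29_1 D48326 (iv D45514) D45513
theorem F216065 : act 5 n48326 = n45519 := d38_1 D48326 (iv D45519) (iv F189517)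
def n48327 : Q := act 9 n45515
theorem D48327 : act 9 n45515 = n48327 := rfl
theorem F216066 : act 0 n48327 = n45577 := d8_1 D48327 (iv D45577) (iv F189522)
theorem F216067 : act 3 n48327 = n45516 := d29_1 D48327 (iv D45516) D45515
theorem F216068 : act 6 n48327 = n48327 := d41_1 D48327 (iv D48327) F189523
theorem F216069 : act 7 n48327 = n45519 := d43_1 D48327 (iv D45519) (iv F189524)
def n48328 : Q := act 8 n45519
theorem D48328 : act 8 n45519 = n48328 := rfl
theorem F216070 : act 0 n48328 = n45583 := d7_1 D48328 (iv D45583) (iv F189537)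
theorem F216071 : act 3 n48328 = n45736 := d28_1 D48328 (iv D45736) F132486 (iv F131977) (iv F189538)
theorem F216072 : act 6 n48328 = n45525 := d40_1 D48328 (iv D45525) (iv F189539)
def n48329 : Q := act 9 n45538
theorem D48329 : act 9 n45538 = n48329 := rfl
theorem F216073 : act 0 n48329 = n45608 := d8_1 D48329 (iv D45608) (iv F189612)
theorem F216074 : act 1 n48329 = n48329 := d16_1 D48329 (iv D48329) F189613
theorem F216075 : act 5 n48329 = n48329 := d38_1 D48329 (iv D48329) F189614
theorem F216076 : act 6 n48329 = n45540 := d41_1 D48329 (iv D45540) (iv F189615)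
theorem F216077 : act 8 n48329 = n45761 := d44_1 D48329 (iv D45761) (iv D31360) (iv F132036) D45538
def n48330 : Q := act 3 n45553
theorem D48330 : act 3 n45553 = n48330 := rfl
theorem F216078 : act 5 n48330 = n46541 := d25_2 (iv F189682) D48330 (iv D46541)
def n48331 : Q := act 9 n45553
theorem D48331 : act 9 n45553 = n48331 := rfl
theorem F216079 : act 2 n48331 = n46037 := d23_1 D48331 (iv D46037) (iv F189680)
theorem F216080 : act 4 n48331 = n45557 := d34_1 D48331 (iv D45557) (iv F189681)
theorem F216081 : act 5 n48331 = n46542 := d38_1 D48331 (iv D46542) (iv F189682)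
theorem F216082 : act 8 n48331 = n45782 := d44_1 D48331 (iv D45782) (iv D31375) (iv F132086) D45553
def n48332 : Q := act 8 n45554
theorem D48332 : act 8 n45554 = n48332 := rfl
theorem F216083 : act 2 n48332 = n46038 := d22_1 D48332 (iv D46038) (iv F189683)
theorem F216084 : act 5 n48332 = n48332 := d37_1 D48332 (iv D48332) F189685
theorem F216085 : act 6 n48332 = n45555 := d40_1 D48332 (iv D45555) D45554
def n48333 : Q := act 3 n45555
theorem D48333 : act 3 n45555 = n48333 := rfl
theorem F216086 : act 5 n48333 = n45558 := d25_2 (iv F189688) D48333 (iv D45558)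
theorem F216087 : act 7 n48333 = n45556 := d27_2 (iv F189689) D48333 (iv D45556)
theorem F216088 : act 8 n48333 = n45570 := d28_2 D45555 D48333 (iv D45570) (iv D31233) (iv F132088)
def n48334 : Q := act 9 n45555
theorem D48334 : act 9 n45555 = n48334 := rfl
theorem F216089 : act 2 n48334 = n46040 := d23_1 D48334 (iv D46040) (iv F189687)
theorem F216090 : act 5 n48334 = n45559 := d38_1 D48334 (iv D45559) (iv F189688)
theorem F216091 : act 7 n48334 = n45557 := d43_1 D48334 (iv D45557) (iv F189689)
theorem F216092 : act 8 n48334 = n45785 := d44_1 D48334 (iv D45785) (iv D31377) (iv F132090) D45555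
def n48335 : Q := act 4 n45556
theorem D48335 : act 4 n45556 = n48335 := rfl
theorem F216093 : act 8 n48335 = n45573 := d33_2 (iv F189691) D48335 (iv D45573)
def n48336 : Q := act 9 n45556
theorem D48336 : act 9 n45556 = n48336 := rfl
theorem F216094 : act 3 n48336 = n45557 := d29_1 D48336 (iv D45557) D45556
theorem F216095 : act 5 n48336 = n45562 := d38_1 D48336 (iv D45562) (iv F189690)
def n48337 : Q := act 4 n45558
theorem D48337 : act 4 n45558 = n48337 := rfl
theorem F216096 : act 0 n48337 = n46541 := d3_1 D48337 F212407 F212401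
theorem F216097 : act 1 n48337 = n45711 := d11_1 D48337 (iv F214378) F214377
theorem F216098 : act 3 n48337 = n45658 := d24_1 D48337 (iv F198937) F203148 (iv F132094) D45558
theorem F216099 : act 6 n48337 = n48337 := d31_2 F189695 D48337 (iv D48337)
theorem F216100 : act 7 n48337 = n45561 := d32_2 (iv F189696) D48337 (iv D45561)
theorem F216101 : act 8 n48337 = n45576 := d33_2 (iv F189697) D48337 (iv D45576)
def n48338 : Q := act 9 n45558
theorem D48338 : act 9 n45558 = n48338 := rfl
theorem F216102 : act 3 n48338 = n45559 := d29_1 D48338 (iv D45559) D45558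
theorem F216103 : act 6 n48338 = n48338 := d41_1 D48338 (iv D48338) F189695
theorem F216104 : act 7 n48338 = n45562 := d43_1 D48338 (iv D45562) (iv F189696)
def n48339 : Q := act 5 n45561
theorem D48339 : act 5 n45561 = n48339 := rfl
theorem F216105 : act 1 n48339 = n45709 := d12_1 D48339 F190207 (iv F203624)
theorem F216106 : act 3 n48339 = n45657 := d25_1 D48339 F190029 (iv F203625)
theorem F216107 : act 8 n48339 = n45581 := d37_2 (iv F189708) D48339 (iv D45581)
def n48340 : Q := act 9 n45561
theorem D48340 : act 9 n45561 = n48340 := rfl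
theorem F216108 : act 1 n48340 = n45715 := d16_1 D48340 (iv D45715) (iv F203624)
theorem F216109 : act 3 n48340 = n45660 := d29_1 D48340 (iv D45660) (iv F203625)
theorem F216110 : act 4 n48340 = n45562 := d34_1 D48340 (iv D45562) D45561
theorem F216111 : act 6 n48340 = n45567 := d41_1 D48340 (iv D45567) (iv F189707)
def n48341 : Q := act 8 n45562
theorem D48341 : act 8 n45562 = n48341 := rfl
theorem F216112 : act 3 n48341 = n45797 := d28_1 D48341 (iv D45797) F132648 (iv F132102) (iv F189709)
theorem F216113 : act 6 n48341 = n45568 := d40_1 D48341 (iv D45568) (iv F189710)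
theorem F216114 : act 9 n48341 = n45583 := d44_2 D45562 D48341 (iv D45583) (iv D31240) (iv F132098)
def n48342 : Q := act 8 n45567
theorem D48342 : act 8 n45567 = n48342 := rfl
theorem F216115 : act 1 n48342 = n45721 := d15_1 D48342 (iv D45721) (iv F203858)
theorem F216116 : act 4 n48342 = n45568 := d33_1 D48342 (iv D45568) (iv F189724)
theorem F216117 : act 7 n48342 = n48342 := d42_1 D48342 (iv D48342) F189725
theorem F216118 : act 9 n48342 = n45592 := d44_2 D45567 D48342 (iv D45592) (iv D31245) (iv F132108)
def n48343 : Q := act 3 n45569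
theorem D48343 : act 3 n45569 = n48343 := rfl
theorem F216119 : act 5 n48343 = n48343 := d25_2 F189730 D48343 (iv D48343)
theorem F216120 : act 6 n48343 = n45570 := d26_2 (iv F189731) D48343 (iv D45570)
def n48344 : Q := act 9 n45569
theorem D48344 : act 9 n45569 = n48344 := rfl
theorem F216121 : act 2 n48344 = n45608 := d23_1 D48344 (iv D45608) (iv F189729)
theorem F216122 : act 5 n48344 = n48344 := d38_1 D48344 (iv D48344) F189730
theorem F216123 : act 6 n48344 = n45571 := d41_1 D48344 (iv D45571) (iv F189731)
theorem F216124 : act 8 n48344 = n45808 := d44_1 D48344 (iv D45808) (iv D31391) (iv F132113) D45569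
def n48345 : Q := act 2 n45570
theorem D48345 : act 2 n45570 = n48345 := rfl
theorem F216125 : act 3 n48345 = n45609 := d17_2 D45570 D48345 (iv D45609) (iv D31260) (iv F132114)
theorem F216126 : act 5 n48345 = n45575 := d19_2 (iv F189732) D48345 (iv D45575)
theorem F216127 : act 7 n48345 = n45572 := d21_2 (iv F189733) D48345 (iv D45572)
def n48346 : Q := act 4 n45570
theorem D48346 : act 4 n45570 = n48346 := rfl
theorem F216128 : act 7 n48346 = n45573 := d32_2 (iv F189733) D48346 (iv D45573)
def n48347 : Q := act 9 n45570
theorem D48347 : act 9 n45570 = n48347 := rfl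
theorem F216129 : act 3 n48347 = n45571 := d29_1 D48347 (iv D45571) D45570
theorem F216130 : act 5 n48347 = n45577 := d38_1 D48347 (iv D45577) (iv F189732)
theorem F216131 : act 7 n48347 = n45574 := d43_1 D48347 (iv D45574) (iv F189733)
def n48348 : Q := act 1 n45572
theorem D48348 : act 1 n45572 = n48348 := rfl
theorem F216132 : act 3 n48348 = n45612 := d10_2 (iv F189738) D48348 (iv D45612)
theorem F216133 : act 5 n48348 = n45578 := d12_2 (iv F189739) D48348 (iv D45578)
def n48349 : Q := act 4 n45572
theorem D48349 : act 4 n45572 = n48349 := rfl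
theorem F216134 : act 2 n48349 = n45573 := d18_1 D48349 (iv D45573) D45572
def n48350 : Q := act 9 n45572
theorem D48350 : act 9 n45572 = n48350 := rfl
theorem F216135 : act 2 n48350 = n45574 := d23_1 D48350 (iv D45574) D45572
theorem F216136 : act 3 n48350 = n45614 := d29_1 D48350 (iv D45614) (iv F189738)
theorem F216137 : act 5 n48350 = n45580 := d38_1 D48350 (iv D45580) (iv F189739)
def n48351 : Q := act 5 n45573
theorem D48351 : act 5 n45573 = n48351 := rfl
theorem F216138 : act 1 n48351 = n45726 := d12_1 D48351 (iv F214415) F214414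
theorem F216139 : act 4 n48351 = n45581 := d30_1 D48351 (iv D45581) (iv D31239) (iv F132117) D45573
def n48352 : Q := act 9 n45573
theorem D48352 : act 9 n45573 = n48352 := rfl
theorem F216140 : act 4 n48352 = n45574 := d34_1 D48352 (iv D45574) D45573
def n48353 : Q := act 8 n45574
theorem D48353 : act 8 n45574 = n48353 := rfl
theorem F216141 : act 3 n48353 = n45817 := d28_1 D48353 (iv D45817) F132678 (iv F132120) (iv F189740)
theorem F216142 : act 5 n48353 = n45583 := d37_1 D48353 (iv D45583) (iv F189741)
def n48354 : Q := act 1 n45575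
theorem D48354 : act 1 n45575 = n48354 := rfl
theorem F216143 : act 3 n48354 = n45617 := d10_2 (iv F189742) D48354 (iv D45617)
theorem F216144 : act 6 n48354 = n48354 := d13_2 F189743 D48354 (iv D48354)
theorem F216145 : act 7 n48354 = n45578 := d14_2 (iv F189744) D48354 (iv D45578)
def n48355 : Q := act 4 n45575
theorem D48355 : act 4 n45575 = n48355 := rfl
theorem F216146 : act 2 n48355 = n45576 := d18_1 D48355 (iv D45576) D45575
theorem F216147 : act 3 n48355 = n48355 := d24_1 D48355 (iv D48355) F189742 F132208 (iv F189742)
theorem F216148 : act 6 n48355 = n48355 := d31_2 F189743 D48355 (iv D48355)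
theorem F216149 : act 7 n48355 = n45579 := d32_2 (iv F189744) D48355 (iv D45579)
def n48356 : Q := act 9 n45575
theorem D48356 : act 9 n45575 = n48356 := rfl
theorem F216150 : act 2 n48356 = n45577 := d23_1 D48356 (iv D45577) D45575
theorem F216151 : act 3 n48356 = n45618 := d29_1 D48356 (iv D45618) (iv F189742)
theorem F216152 : act 6 n48356 = n48356 := d41_1 D48356 (iv D48356) F189743
theorem F216153 : act 7 n48356 = n45580 := d43_1 D48356 (iv D45580) (iv F189744)
def n48357 : Q := act 5 n45576
theorem D48357 : act 5 n45576 = n48357 := rfl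
theorem F216154 : act 1 n48357 = n45723 := d12_1 D48357 F190260 (iv F203498)
theorem F216155 : act 3 n48357 = n45593 := d25_1 D48357 (iv D45593) (iv F189745)
theorem F216156 : act 7 n48357 = n45581 := d36_2 (iv F189747) D48357 (iv D45581)
def n48358 : Q := act 9 n45576
theorem D48358 : act 9 n45576 = n48358 := rfl
theorem F216157 : act 1 n48358 = n45730 := d16_1 D48358 (iv D45730) (iv F203498)
theorem F216158 : act 3 n48358 = n45594 := d29_1 D48358 (iv D45594) (iv F189745)
theorem F216159 : act 4 n48358 = n45577 := d34_1 D48358 (iv D45577) D45576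
theorem F216160 : act 6 n48358 = n48358 := d41_1 D48358 (iv D48358) F189746
theorem F216161 : act 7 n48358 = n45582 := d43_1 D48358 (iv D45582) (iv F189747)
def n48359 : Q := act 8 n45577
theorem D48359 : act 8 n45577 = n48359 := rfl
theorem F216162 : act 3 n48359 = n45823 := d28_1 D48359 (iv D45823) F132686 (iv F132127) (iv F189748)
theorem F216163 : act 6 n48359 = n48359 := d40_1 D48359 (iv D48359) F189749
theorem F216164 : act 7 n48359 = n45583 := d42_1 D48359 (iv D45583) (iv F189750)
def n48360 : Q := act 4 n45578
theorem D48360 : act 4 n45578 = n48360 := rfl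
theorem F216165 : act 1 n48360 = n45579 := d11_1 D48360 (iv D45579) D45578
theorem F216166 : act 2 n48360 = n45731 := d18_1 D48360 (iv F214433) F214431
theorem F216167 : act 3 n48360 = n48360 := d24_1 D48360 (iv D48360) F189751 F132218 (iv F189751)
theorem F216168 : act 6 n48360 = n45585 := d31_2 (iv F189752) D48360 (iv D45585)
def n48361 : Q := act 9 n45578
theorem D48361 : act 9 n45578 = n48361 := rfl
theorem F216169 : act 1 n48361 = n45580 := d16_1 D48361 (iv D45580) D45578
theorem F216170 : act 3 n48361 = n45621 := d29_1 D48361 (iv D45621) (iv F189751)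
theorem F216171 : act 6 n48361 = n45586 := d41_1 D48361 (iv D45586) (iv F189752)
def n48362 : Q := act 5 n45579
theorem D48362 : act 5 n45579 = n48362 := rfl
theorem F216172 : act 2 n48362 = n45581 := d19_1 D48362 (iv D45581) (iv F189753)
theorem F216173 : act 3 n48362 = n48362 := d25_1 D48362 (iv D48362) F189754
def n48363 : Q := act 9 n45579
theorem D48363 : act 9 n45579 = n48363 := rfl
theorem F216174 : act 2 n48363 = n45582 := d23_1 D48363 (iv D45582) (iv F189753)
theorem F216175 : act 3 n48363 = n48363 := d29_1 D48363 (iv D48363) F189754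
theorem F216176 : act 4 n48363 = n45580 := d34_1 D48363 (iv D45580) D45579
theorem F216177 : act 6 n48363 = n45588 := d41_1 D48363 (iv D45588) (iv F189755)
def n48364 : Q := act 8 n45580
theorem D48364 : act 8 n45580 = n48364 := rfl
theorem F216178 : act 2 n48364 = n45583 := d22_1 D48364 (iv D45583) (iv F189756)
theorem F216179 : act 6 n48364 = n45589 := d40_1 D48364 (iv D45589) (iv F189758)
def n48365 : Q := act 9 n45581
theorem D48365 : act 9 n45581 = n48365 := rfl
theorem F216180 : act 1 n48365 = n45727 := d16_1 D48365 (iv D45727) (iv F203627)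
theorem F216181 : act 3 n48365 = n45597 := d29_1 D48365 (iv D45597) (iv F189759)
theorem F216182 : act 5 n48365 = n45582 := d38_1 D48365 (iv D45582) D45581
def n48366 : Q := act 8 n45582
theorem D48366 : act 8 n45582 = n48366 := rfl
theorem F216183 : act 1 n48366 = n45736 := d15_1 D48366 (iv D45736) (iv F203629)
theorem F216184 : act 4 n48366 = n45583 := d33_1 D48366 (iv D45583) (iv F189761)
theorem F216185 : act 6 n48366 = n45592 := d40_1 D48366 (iv D45592) (iv F189762)
def n48367 : Q := act 9 n45585
theorem D48367 : act 9 n45585 = n48367 := rfl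
theorem F216186 : act 1 n48367 = n45588 := d16_1 D48367 (iv D45588) (iv F189767)
theorem F216187 : act 2 n48367 = n45739 := d23_1 D48367 (iv D45739) (iv F203860)
theorem F216188 : act 3 n48367 = n48367 := d29_1 D48367 (iv D48367) F189768
theorem F216189 : act 4 n48367 = n45586 := d34_1 D48367 (iv D45586) D45585
theorem F216190 : act 7 n48367 = n48367 := d43_1 D48367 (iv D48367) F189769
def n48368 : Q := act 8 n45586
theorem D48368 : act 8 n45586 = n48368 := rfl
theorem F216191 : act 1 n48368 = n45589 := d15_1 D48368 (iv D45589) (iv F189770)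
theorem F216192 : act 7 n48368 = n48368 := d42_1 D48368 (iv D48368) F189772
def n48369 : Q := act 8 n45588
theorem D48369 : act 8 n45588 = n48369 := rfl
theorem F216193 : act 2 n48369 = n45592 := d22_1 D48369 (iv D45592) (iv F189776)
theorem F216194 : act 4 n48369 = n45589 := d33_1 D48369 (iv D45589) (iv F189778)
theorem F216195 : act 7 n48369 = n48369 := d42_1 D48369 (iv D48369) F189779
def n48370 : Q := act 6 n45593
theorem D48370 : act 6 n45593 = n48370 := rfl
theorem F216196 : act 1 n48370 = n45722 := d13_1 D48370 F190258 (iv F203499)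
theorem F216197 : act 2 n48370 = n48370 := d20_1 D48370 (iv D48370) F189788
theorem F216198 : act 5 n48370 = n48370 := d35_1 D48370 (iv D48370) (iv D45593) F132150 D45593
theorem F216199 : act 8 n48370 = n45664 := d40_2 (iv F203500) D48370 (iv D45664)
def n48371 : Q := act 9 n45593
theorem D48371 : act 9 n45593 = n48371 := rfl
theorem F216200 : act 1 n48371 = n45724 := d16_1 D48371 (iv D45724) (iv F203499)
theorem F216201 : act 2 n48371 = n48371 := d23_1 D48371 (iv D48371) F189788
theorem F216202 : act 5 n48371 = n45594 := d38_1 D48371 (iv D45594) D45593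
theorem F216203 : act 7 n48371 = n45597 := d43_1 D48371 (iv D45597) (iv F189789)
def n48372 : Q := act 2 n45607
theorem D48372 : act 2 n45607 = n48372 := rfl
theorem F216204 : act 5 n48372 = n48372 := d19_2 F189838 D48372 (iv D48372)
theorem F216205 : act 6 n48372 = n45609 := d20_2 (iv F189839) D48372 (iv D45609)
theorem F216206 : act 8 n48372 = n46106 := d22_2 (iv F189840) D48372 (iv D46106)
def n48373 : Q := act 9 n45607
theorem D48373 : act 9 n45607 = n48373 := rfl
theorem F216207 : act 1 n48373 = n45628 := d16_1 D48373 (iv D45628) (iv F189837)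
theorem F216208 : act 3 n48373 = n45608 := d29_1 D48373 (iv D45608) D45607
theorem F216209 : act 5 n48373 = n48373 := d38_1 D48373 (iv D48373) F189838
theorem F216210 : act 6 n48373 = n45611 := d41_1 D48373 (iv D45611) (iv F189839)
def n48374 : Q := act 1 n45609
theorem D48374 : act 1 n45609 = n48374 := rfl
theorem F216211 : act 2 n48374 = n45629 := d9_2 D45609 D48374 (iv D45629) (iv D31275) (iv F132192)
theorem F216212 : act 5 n48374 = n45617 := d12_2 (iv F189845) D48374 (iv D45617)
theorem F216213 : act 7 n48374 = n45612 := d14_2 (iv F189846) D48374 (iv D45612)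
theorem F216214 : act 8 n48374 = n46109 := d15_2 (iv F189847) D48374 (iv D46109)
def n48375 : Q := act 4 n45609
theorem D48375 : act 4 n45609 = n48375 := rfl
theorem F216215 : act 2 n48375 = n45610 := d18_1 D48375 (iv D45610) D45609
theorem F216216 : act 5 n48375 = n48375 := d30_2 (iv F189845) D48375 (iv D48375) F189845 F132208
theorem F216217 : act 7 n48375 = n45613 := d32_2 (iv F189846) D48375 (iv D45613)
theorem F216218 : act 8 n48375 = n46110 := d33_2 (iv F189847) D48375 (iv D46110)
def n48376 : Q := act 9 n45609
theorem D48376 : act 9 n45609 = n48376 := rfl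
theorem F216219 : act 2 n48376 = n45611 := d23_1 D48376 (iv D45611) D45609
theorem F216220 : act 5 n48376 = n45618 := d38_1 D48376 (iv D45618) (iv F189845)
theorem F216221 : act 7 n48376 = n45614 := d43_1 D48376 (iv D45614) (iv F189846)
def n48377 : Q := act 9 n45610
theorem D48377 : act 9 n45610 = n48377 := rfl
theorem F216222 : act 1 n48377 = n45632 := d16_1 D48377 (iv D45632) (iv F189848)
theorem F216223 : act 4 n48377 = n45611 := d34_1 D48377 (iv D45611) D45610
theorem F216224 : act 5 n48377 = n48377 := d38_1 D48377 (iv D48377) F189849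
theorem F216225 : act 7 n48377 = n45615 := d43_1 D48377 (iv D45615) (iv F189850)
def n48378 : Q := act 0 n45612
theorem D48378 : act 0 n45612 = n48378 := rfl
theorem F216226 : act 1 n48378 = n46548 := d0_2 D45612 D48378 (iv F209050) F209051 F203831
theorem F216227 : act 2 n48378 = n45634 := d1_2 (iv F189856) D48378 (iv D45634)
theorem F216228 : act 5 n48378 = n45620 := d4_2 (iv F189857) D48378 (iv D45620)
theorem F216229 : act 6 n48378 = n45780 := d5_2 F212545 D48378 (iv F212542)
theorem F216230 : act 8 n48378 = n45779 := d7_2 (iv F189858) D48378 F204074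
theorem F216231 : act 4 n45783 = n48378 := d33_3 F216230 F190478 D45783
def n48379 : Q := act 4 n45612
theorem D48379 : act 4 n45612 = n48379 := rfl
theorem F216232 : act 0 n48379 = n45783 := d3_1 D48379 F216231 (iv D48378)
theorem F216233 : act 1 n48379 = n45613 := d11_1 D48379 (iv D45613) D45612
theorem F216234 : act 2 n48379 = n45635 := d18_1 D48379 (iv D45635) (iv F189856)
theorem F216235 : act 5 n48379 = n48379 := d30_2 (iv F189857) D48379 (iv D48379) F189857 F132218
theorem F216236 : act 6 n48379 = n45708 := d31_2 F212545 D48379 F212548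
theorem F216237 : act 8 n48379 = n45707 := d33_2 (iv F189858) D48379 F204290
def n48380 : Q := act 9 n45612
theorem D48380 : act 9 n45612 = n48380 := rfl
theorem F216238 : act 1 n48380 = n45614 := d16_1 D48380 (iv D45614) D45612
theorem F216239 : act 2 n48380 = n45636 := d23_1 D48380 (iv D45636) (iv F189856)
theorem F216240 : act 5 n48380 = n45621 := d38_1 D48380 (iv D45621) (iv F189857)
def n48381 : Q := act 3 n45613
theorem D48381 : act 3 n45613 = n48381 := rfl
theorem F216241 : act 5 n48381 = n48381 := d25_2 F189860 D48381 (iv D48381)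
def n48382 : Q := act 9 n45613
theorem D48382 : act 9 n45613 = n48382 := rfl
theorem F216242 : act 2 n48382 = n45615 := d23_1 D48382 (iv D45615) (iv F189859)
theorem F216243 : act 4 n48382 = n45614 := d34_1 D48382 (iv D45614) D45613
theorem F216244 : act 5 n48382 = n48382 := d38_1 D48382 (iv D48382) F189860
def n48383 : Q := act 0 n45617
theorem D48383 : act 0 n45617 = n48383 := rfl
theorem F216245 : act 1 n48383 = n46550 := d0_2 D45617 D48383 (iv F209055) F209056 F203832
theorem F216246 : act 2 n48383 = n45641 := d1_2 (iv F189871) D48383 (iv D45641)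
theorem F216247 : act 4 n48383 = n48383 := d3_2 F189872 D48383 (iv D48383)
theorem F216248 : act 6 n48383 = n48383 := d5_2 F189873 D48383 (iv D48383)
theorem F216249 : act 7 n48383 = n45620 := d6_2 (iv F189874) D48383 (iv D45620)
theorem F216250 : act 8 n48383 = n46121 := d7_2 (iv F189875) D48383 (iv D46121)
def n48384 : Q := act 9 n45617
theorem D48384 : act 9 n45617 = n48384 := rfl
theorem F216251 : act 1 n48384 = n45618 := d16_1 D48384 (iv D45618) D45617
theorem F216252 : act 2 n48384 = n45642 := d23_1 D48384 (iv D45642) (iv F189871)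
theorem F216253 : act 4 n48384 = n48384 := d34_1 D48384 (iv D48384) F189872
theorem F216254 : act 6 n48384 = n48384 := d41_1 D48384 (iv D48384) F189873
theorem F216255 : act 7 n48384 = n45621 := d43_1 D48384 (iv D45621) (iv F189874)
def n48385 : Q := act 9 n45620
theorem D48385 : act 9 n45620 = n48385 := rfl
theorem F216256 : act 0 n48385 = n45621 := d8_1 D48385 (iv D45621) D45620
theorem F216257 : act 1 n48385 = n46551 := d16_1 D48385 (iv D46551) F206805
theorem F216258 : act 2 n48385 = n45644 := d23_1 D48385 (iv D45644) (iv F189886)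
theorem F216259 : act 4 n48385 = n48385 := d34_1 D48385 (iv D48385) F189887
theorem F216260 : act 6 n48385 = n45623 := d41_1 D48385 (iv D45623) (iv F189888)
def n48386 : Q := act 9 n45629
theorem D48386 : act 9 n45629 = n48386 := rfl
theorem F216261 : act 1 n48386 = n45631 := d16_1 D48386 (iv D45631) D45629
theorem F216262 : act 5 n48386 = n45642 := d38_1 D48386 (iv D45642) (iv F189921)
theorem F216263 : act 7 n48386 = n45636 := d43_1 D48386 (iv D45636) (iv F189922)
def n48387 : Q := act 9 n45634
theorem D48387 : act 9 n45634 = n48387 := rfl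
theorem F216264 : act 0 n48387 = n45636 := d8_1 D48387 (iv D45636) D45634
theorem F216265 : act 1 n48387 = n48387 := d16_1 D48387 (iv D48387) F189942
theorem F216266 : act 4 n48387 = n46268 := d34_1 D48387 (iv D46268) (iv F204082)
theorem F216267 : act 5 n48387 = n45644 := d38_1 D48387 (iv D45644) (iv F189943)
theorem F216268 : act 6 n48387 = n46263 := d41_1 D48387 (iv D46263) (iv F204083)
def n48388 : Q := act 9 n45635
theorem D48388 : act 9 n45635 = n48388 := rfl
theorem F216269 : act 0 n48388 = n46268 := d8_1 D48388 (iv D46268) (iv F204294)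
theorem F216270 : act 1 n48388 = n45638 := d16_1 D48388 (iv D45638) (iv F189945)
theorem F216271 : act 4 n48388 = n45636 := d34_1 D48388 (iv D45636) D45635
theorem F216272 : act 5 n48388 = n48388 := d38_1 D48388 (iv D48388) F189946
theorem F216273 : act 6 n48388 = n46205 := d41_1 D48388 (iv D46205) (iv F204295)
def n48389 : Q := act 8 n45636
theorem D48389 : act 8 n45636 = n48389 := rfl
theorem F216274 : act 1 n48389 = n45639 := d15_1 D48389 (iv D45639) (iv F189948)
theorem F216275 : act 5 n48389 = n45645 := d37_1 D48389 (iv D45645) (iv F189949)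
theorem F216276 : act 9 n48389 = n46147 := d44_2 D45636 D48389 (iv D46147) (iv D31624) (iv F132262)
def n48390 : Q := act 9 n45641
theorem D48390 : act 9 n45641 = n48390 := rfl
theorem F216277 : act 0 n48390 = n45642 := d8_1 D48390 (iv D45642) D45641
theorem F216278 : act 1 n48390 = n48390 := d16_1 D48390 (iv D48390) F189964
theorem F216279 : act 4 n48390 = n48390 := d34_1 D48390 (iv D48390) F189965
theorem F216280 : act 6 n48390 = n48390 := d41_1 D48390 (iv D48390) F189966
theorem F216281 : act 7 n48390 = n45644 := d43_1 D48390 (iv D45644) (iv F189967)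
def n48391 : Q := act 8 n45642
theorem D48391 : act 8 n45642 = n48391 := rfl
theorem F216282 : act 1 n48391 = n45643 := d15_1 D48391 (iv D45643) (iv F189969)
theorem F216283 : act 4 n48391 = n48391 := d33_1 D48391 (iv D48391) F189970
theorem F216284 : act 6 n48391 = n48391 := d40_1 D48391 (iv D48391) F189971
theorem F216285 : act 7 n48391 = n45645 := d42_1 D48391 (iv D45645) (iv F189972)
theorem F216286 : act 9 n48391 = n46154 := d44_2 D45642 D48391 (iv D46154) (iv D31630) (iv F132280)
theorem F216287 : act 3 n46428 = n48391 := d29_3 F216286 F206385 D46428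
def n48392 : Q := act 8 n45644
theorem D48392 : act 8 n45644 = n48392 := rfl
theorem F216288 : act 0 n48392 = n45645 := d7_1 D48392 (iv D45645) (iv F189979)
theorem F216289 : act 1 n48392 = n48392 := d15_1 D48392 (iv D48392) F189980
theorem F216290 : act 4 n48392 = n48392 := d33_1 D48392 (iv D48392) F189981
theorem F216291 : act 6 n48392 = n45647 := d40_1 D48392 (iv D45647) (iv F189982)
theorem F216292 : act 9 n48392 = n46156 := d44_2 D45644 D48392 (iv D46156) (iv D31632) (iv F132295)
def n48393 : Q := act 3 n45645
theorem D48393 : act 3 n45645 = n48393 := rfl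
theorem F216293 : act 1 n48393 = n45646 := d10_1 D48393 (iv D45646) (iv F189983)
theorem F216294 : act 6 n48393 = n45648 := d26_2 (iv F189985) D48393 (iv D45648)
theorem F216295 : act 7 n48393 = n46428 := d27_2 F216285 D48393 F216287
theorem F216296 : act 9 n48393 = n46157 := d29_2 (iv F189986) D48393 (iv D46157)
theorem F216297 : act 4 n46424 = n48393 := d34_3 F216296 F206383 D46424
def n48394 : Q := act 9 n45657
theorem D48394 : act 9 n45657 = n48394 := rfl
theorem F216298 : act 1 n48394 = n45710 := d16_1 D48394 (iv D45710) (iv F190028)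
theorem F216299 : act 5 n48394 = n45660 := d38_1 D48394 (iv D45660) (iv F190029)
def n48395 : Q := act 9 n45658
theorem D48395 : act 9 n45658 = n48395 := rfl
theorem F216300 : act 0 n48395 = n46542 := d8_1 D48395 (iv D46542) (iv F206724)
theorem F216301 : act 1 n48395 = n45712 := d16_1 D48395 (iv D45712) (iv F190030)
theorem F216302 : act 2 n48395 = n46555 := d23_1 D48395 (iv D46555) (iv F206714)
theorem F216303 : act 4 n48395 = n46539 := d34_1 D48395 (iv D46539) F198937
theorem F216304 : act 6 n48395 = n48395 := d41_1 D48395 (iv D48395) F190032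
theorem F216305 : act 7 n48395 = n45660 := d43_1 D48395 (iv D45660) (iv F190033)
theorem F216306 : act 8 n48395 = n46545 := d44_1 D48395 (iv D46545) (iv D34647) (iv F198905) D45658
def n48396 : Q := act 3 n45706
theorem D48396 : act 3 n45706 = n48396 := rfl
theorem F216307 : act 0 n48396 = n45781 := d2_1 D48396 (iv D45781) (iv F190194)
theorem F216308 : act 5 n48396 = n46544 := d25_2 (iv F190197) D48396 (iv D46544)
def n48397 : Q := act 9 n45706
theorem D48397 : act 9 n45706 = n48397 := rfl
theorem F216309 : act 0 n48397 = n45782 := d8_1 D48397 (iv D45782) (iv F190194)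
theorem F216310 : act 2 n48397 = n46202 := d23_1 D48397 (iv D46202) (iv F190195)
theorem F216311 : act 4 n48397 = n45710 := d34_1 D48397 (iv D45710) (iv F190196)
theorem F216312 : act 5 n48397 = n46545 := d38_1 D48397 (iv D46545) (iv F190197)
def n48398 : Q := act 3 n45708
theorem D48398 : act 3 n45708 = n48398 := rfl
theorem F216313 : act 0 n48398 = n45784 := d2_1 D48398 (iv D45784) (iv F190202)
theorem F216314 : act 5 n48398 = n45711 := d25_2 (iv F190204) D48398 (iv D45711)
theorem F216315 : act 7 n48398 = n45709 := d27_2 (iv F190205) D48398 (iv D45709)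
theorem F216316 : act 8 n48398 = n45723 := d28_2 D45708 D48398 (iv D45723) (iv D31334) (iv F132431)
def n48399 : Q := act 9 n45708
theorem D48399 : act 9 n45708 = n48399 := rfl
theorem F216317 : act 0 n48399 = n45785 := d8_1 D48399 (iv D45785) (iv F190202)
theorem F216318 : act 2 n48399 = n46205 := d23_1 D48399 (iv D46205) (iv F190203)
theorem F216319 : act 5 n48399 = n45712 := d38_1 D48399 (iv D45712) (iv F190204)
theorem F216320 : act 7 n48399 = n45710 := d43_1 D48399 (iv D45710) (iv F190205)
def n48400 : Q := act 4 n45709
theorem D48400 : act 4 n45709 = n48400 := rfl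
theorem F216321 : act 0 n48400 = n45787 := d3_1 D48400 (iv D45787) (iv F190206)
theorem F216322 : act 8 n48400 = n45726 := d33_2 (iv F190208) D48400 (iv D45726)
def n48401 : Q := act 9 n45709
theorem D48401 : act 9 n45709 = n48401 := rfl
theorem F216323 : act 0 n48401 = n45788 := d8_1 D48401 (iv D45788) (iv F190206)
theorem F216324 : act 3 n48401 = n45710 := d29_1 D48401 (iv D45710) D45709
theorem F216325 : act 5 n48401 = n45715 := d38_1 D48401 (iv D45715) (iv F190207)
def n48402 : Q := act 9 n45711
theorem D48402 : act 9 n45711 = n48402 := rfl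
theorem F216326 : act 0 n48402 = n45791 := d8_1 D48402 (iv D45791) (iv F190212)
theorem F216327 : act 3 n48402 = n45712 := d29_1 D48402 (iv D45712) D45711
theorem F216328 : act 6 n48402 = n48402 := d41_1 D48402 (iv D48402) F190213
theorem F216329 : act 7 n48402 = n45715 := d43_1 D48402 (iv D45715) (iv F190214)
def n48403 : Q := act 8 n45715
theorem D48403 : act 8 n45715 = n48403 := rfl
theorem F216330 : act 0 n48403 = n45797 := d7_1 D48403 (iv D45797) (iv F190229)
theorem F216331 : act 6 n48403 = n45721 := d40_1 D48403 (iv D45721) (iv F190231)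
theorem F216332 : act 9 n48403 = n45736 := d44_2 D45715 D48403 (iv D45736) (iv D31341) (iv F132443)
def n48404 : Q := act 3 n45722
theorem D48404 : act 3 n45722 = n48404 := rfl
theorem F216333 : act 0 n48404 = n45807 := d2_1 D48404 (iv D45807) (iv F190255)
theorem F216334 : act 5 n48404 = n48404 := d25_2 F190257 D48404 (iv D48404)
theorem F216335 : act 6 n48404 = n45723 := d26_2 (iv F190258) D48404 (iv D45723)
def n48405 : Q := act 9 n45722
theorem D48405 : act 9 n45722 = n48405 := rfl
theorem F216336 : act 0 n48405 = n45808 := d8_1 D48405 (iv D45808) (iv F190255)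
theorem F216337 : act 2 n48405 = n45761 := d23_1 D48405 (iv D45761) (iv F190256)
theorem F216338 : act 5 n48405 = n48405 := d38_1 D48405 (iv D48405) F190257
theorem F216339 : act 6 n48405 = n45724 := d41_1 D48405 (iv D45724) (iv F190258)
def n48406 : Q := act 2 n45723
theorem D48406 : act 2 n45723 = n48406 := rfl
theorem F216340 : act 0 n48406 = n45809 := d1_1 D48406 (iv D45809) (iv F190259)
theorem F216341 : act 3 n48406 = n45762 := d17_2 D45723 D48406 (iv D45762) (iv D31361) (iv F132463)
theorem F216342 : act 5 n48406 = n45728 := d19_2 (iv F190260) D48406 (iv D45728)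
theorem F216343 : act 7 n48406 = n45725 := d21_2 (iv F190261) D48406 (iv D45725)
def n48407 : Q := act 4 n45723
theorem D48407 : act 4 n45723 = n48407 := rfl
theorem F216344 : act 0 n48407 = n45810 := d3_1 D48407 (iv D45810) (iv F190259)
theorem F216345 : act 7 n48407 = n45726 := d32_2 (iv F190261) D48407 (iv D45726)
def n48408 : Q := act 9 n45723
theorem D48408 : act 9 n45723 = n48408 := rfl
theorem F216346 : act 0 n48408 = n45811 := d8_1 D48408 (iv D45811) (iv F190259)
theorem F216347 : act 3 n48408 = n45724 := d29_1 D48408 (iv D45724) D45723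
theorem F216348 : act 5 n48408 = n45730 := d38_1 D48408 (iv D45730) (iv F190260)
theorem F216349 : act 7 n48408 = n45727 := d43_1 D48408 (iv D45727) (iv F190261)
def n48409 : Q := act 1 n45725
theorem D48409 : act 1 n45725 = n48409 := rfl
theorem F216350 : act 3 n48409 = n45765 := d10_2 (iv F190267) D48409 (iv D45765)
theorem F216351 : act 5 n48409 = n45731 := d12_2 (iv F190268) D48409 (iv D45731)
def n48410 : Q := act 4 n45725
theorem D48410 : act 4 n45725 = n48410 := rfl
theorem F216352 : act 0 n48410 = n45813 := d3_1 D48410 (iv D45813) (iv F190266)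
theorem F216353 : act 2 n48410 = n45726 := d18_1 D48410 (iv D45726) D45725
def n48411 : Q := act 9 n45725
theorem D48411 : act 9 n45725 = n48411 := rfl
theorem F216354 : act 0 n48411 = n45814 := d8_1 D48411 (iv D45814) (iv F190266)
theorem F216355 : act 2 n48411 = n45727 := d23_1 D48411 (iv D45727) D45725
theorem F216356 : act 3 n48411 = n45767 := d29_1 D48411 (iv D45767) (iv F190267)
theorem F216357 : act 5 n48411 = n45733 := d38_1 D48411 (iv D45733) (iv F190268)
def n48412 : Q := act 9 n45726
theorem D48412 : act 9 n45726 = n48412 := rfl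
theorem F216358 : act 0 n48412 = n45816 := d8_1 D48412 (iv D45816) (iv F190269)
theorem F216359 : act 4 n48412 = n45727 := d34_1 D48412 (iv D45727) D45726
def n48413 : Q := act 8 n45727
theorem D48413 : act 8 n45727 = n48413 := rfl
theorem F216360 : act 0 n48413 = n45817 := d7_1 D48413 (iv D45817) (iv F190270)
theorem F216361 : act 5 n48413 = n45736 := d37_1 D48413 (iv D45736) (iv F190272)
def n48414 : Q := act 1 n45728
theorem D48414 : act 1 n45728 = n48414 := rfl
theorem F216362 : act 3 n48414 = n45770 := d10_2 (iv F190274) D48414 (iv D45770)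
theorem F216363 : act 6 n48414 = n48414 := d13_2 F190275 D48414 (iv D48414)
theorem F216364 : act 7 n48414 = n45731 := d14_2 (iv F190276) D48414 (iv D45731)
def n48415 : Q := act 9 n45728
theorem D48415 : act 9 n45728 = n48415 := rfl
theorem F216365 : act 0 n48415 = n45820 := d8_1 D48415 (iv D45820) (iv F190273)
theorem F216366 : act 2 n48415 = n45730 := d23_1 D48415 (iv D45730) D45728
theorem F216367 : act 3 n48415 = n45771 := d29_1 D48415 (iv D45771) (iv F190274)
theorem F216368 : act 6 n48415 = n48415 := d41_1 D48415 (iv D48415) F190275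
theorem F216369 : act 7 n48415 = n45733 := d43_1 D48415 (iv D45733) (iv F190276)
def n48416 : Q := act 8 n45730
theorem D48416 : act 8 n45730 = n48416 := rfl
theorem F216370 : act 0 n48416 = n45823 := d7_1 D48416 (iv D45823) (iv F190281)
theorem F216371 : act 6 n48416 = n48416 := d40_1 D48416 (iv D48416) F190283
theorem F216372 : act 7 n48416 = n45736 := d42_1 D48416 (iv D45736) (iv F190284)
def n48417 : Q := act 0 n45731
theorem D48417 : act 0 n45731 = n48417 := rfl
theorem F216373 : act 1 n48417 = n45824 := d0_2 D45731 D48417 (iv D45824) (iv D31400) (iv F132479)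
theorem F216374 : act 3 n48417 = n45773 := d2_2 (iv F190285) D48417 (iv D45773)
theorem F216375 : act 6 n48417 = n45737 := d5_2 (iv F190286) D48417 (iv D45737)
def n48418 : Q := act 9 n45731
theorem D48418 : act 9 n45731 = n48418 := rfl
theorem F216376 : act 1 n48418 = n45733 := d16_1 D48418 (iv D45733) D45731
theorem F216377 : act 3 n48418 = n45774 := d29_1 D48418 (iv D45774) (iv F190285)
theorem F216378 : act 6 n48418 = n45739 := d41_1 D48418 (iv D45739) (iv F190286)
def n48419 : Q := act 8 n45733
theorem D48419 : act 8 n45733 = n48419 := rfl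
theorem F216379 : act 0 n48419 = n45829 := d7_1 D48419 (iv D45829) (iv F190291)
theorem F216380 : act 2 n48419 = n45736 := d22_1 D48419 (iv D45736) (iv F190292)
theorem F216381 : act 6 n48419 = n45742 := d40_1 D48419 (iv D45742) (iv F190294)
def n48420 : Q := act 9 n45737
theorem D48420 : act 9 n45737 = n48420 := rfl
theorem F216382 : act 0 n48420 = n45739 := d8_1 D48420 (iv D45739) D45737
theorem F216383 : act 1 n48420 = n45834 := d16_1 D48420 (iv D45834) (iv F190303)
theorem F216384 : act 3 n48420 = n45776 := d29_1 D48420 (iv D45776) (iv F190304)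
theorem F216385 : act 7 n48420 = n48420 := d43_1 D48420 (iv D48420) F190305
def n48421 : Q := act 8 n45739
theorem D48421 : act 8 n45739 = n48421 := rfl
theorem F216386 : act 1 n48421 = n45742 := d15_1 D48421 (iv D45742) (iv F190309)
theorem F216387 : act 7 n48421 = n48421 := d42_1 D48421 (iv D48421) F190311
def n48422 : Q := act 2 n45760
theorem D48422 : act 2 n45760 = n48422 := rfl
theorem F216388 : act 0 n48422 = n45862 := d1_1 D48422 (iv D45862) (iv F190393)
theorem F216389 : act 5 n48422 = n48422 := d19_2 F190395 D48422 (iv D48422)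
theorem F216390 : act 6 n48422 = n45762 := d20_2 (iv F190396) D48422 (iv D45762)
theorem F216391 : act 8 n48422 = n46236 := d22_2 (iv F190397) D48422 (iv D46236)
def n48423 : Q := act 9 n45760
theorem D48423 : act 9 n45760 = n48423 := rfl
theorem F216392 : act 0 n48423 = n45864 := d8_1 D48423 (iv D45864) (iv F190393)
theorem F216393 : act 1 n48423 = n48423 := d16_1 D48423 (iv D48423) F190394
theorem F216394 : act 3 n48423 = n45761 := d29_1 D48423 (iv D45761) D45760
theorem F216395 : act 5 n48423 = n48423 := d38_1 D48423 (iv D48423) F190395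
theorem F216396 : act 6 n48423 = n45764 := d41_1 D48423 (iv D45764) (iv F190396)
def n48424 : Q := act 1 n45762
theorem D48424 : act 1 n45762 = n48424 := rfl
theorem F216397 : act 2 n48424 = n48424 := d9_2 D45762 D48424 (iv D48424) (iv D45762) F132562
theorem F216398 : act 5 n48424 = n45770 := d12_2 (iv F190403) D48424 (iv D45770)
theorem F216399 : act 7 n48424 = n45765 := d14_2 (iv F190404) D48424 (iv D45765)
theorem F216400 : act 8 n48424 = n46239 := d15_2 (iv F190405) D48424 (iv D46239)
def n48425 : Q := act 4 n45762
theorem D48425 : act 4 n45762 = n48425 := rfl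
theorem F216401 : act 0 n48425 = n45866 := d3_1 D48425 (iv D45866) (iv F190402)
theorem F216402 : act 2 n48425 = n45763 := d18_1 D48425 (iv D45763) D45762
theorem F216403 : act 5 n48425 = n46336 := d30_2 (iv F190403) D48425 (iv F204884) F135802 (iv F132582)
theorem F216404 : act 7 n48425 = n45766 := d32_2 (iv F190404) D48425 (iv D45766)
theorem F216405 : act 8 n48425 = n46240 := d33_2 (iv F190405) D48425 (iv D46240)
def n48426 : Q := act 9 n45762
theorem D48426 : act 9 n45762 = n48426 := rfl
theorem F216406 : act 0 n48426 = n45867 := d8_1 D48426 (iv D45867) (iv F190402)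
theorem F216407 : act 2 n48426 = n45764 := d23_1 D48426 (iv D45764) D45762
theorem F216408 : act 5 n48426 = n45771 := d38_1 D48426 (iv D45771) (iv F190403)
theorem F216409 : act 7 n48426 = n45767 := d43_1 D48426 (iv D45767) (iv F190404)
def n48427 : Q := act 9 n45763
theorem D48427 : act 9 n45763 = n48427 := rfl
theorem F216410 : act 0 n48427 = n45868 := d8_1 D48427 (iv D45868) (iv F190406)
theorem F216411 : act 1 n48427 = n48427 := d16_1 D48427 (iv D48427) F190407
theorem F216412 : act 4 n48427 = n45764 := d34_1 D48427 (iv D45764) D45763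
theorem F216413 : act 5 n48427 = n45912 := d38_1 D48427 F190894 F204785
theorem F216414 : act 7 n48427 = n45768 := d43_1 D48427 (iv D45768) (iv F190409)
theorem F216415 : act 8 n48427 = n45900 := d44_1 D48427 (iv D45900) F132873 (iv F204636) (iv F190410)
def n48428 : Q := act 0 n45765
theorem D48428 : act 0 n45765 = n48428 := rfl
theorem F216416 : act 1 n48428 = n45870 := d0_2 D45765 D48428 (iv D45870) (iv D31434) (iv F132570)
theorem F216417 : act 2 n48428 = n48428 := d1_2 F190416 D48428 (iv D48428)
theorem F216418 : act 5 n48428 = n45773 := d4_2 (iv F190417) D48428 (iv D45773)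
theorem F216419 : act 8 n48428 = n46244 := d7_2 (iv F190418) D48428 (iv D46244)
def n48429 : Q := act 4 n45765
theorem D48429 : act 4 n45765 = n48429 := rfl
theorem F216420 : act 1 n48429 = n45766 := d11_1 D48429 (iv D45766) D45765
theorem F216421 : act 2 n48429 = n48429 := d18_1 D48429 (iv D48429) F190416
theorem F216422 : act 5 n48429 = n46457 := d30_2 (iv F190417) D48429 (iv D46457) F135815 (iv F132593)
theorem F216423 : act 8 n48429 = n46245 := d33_2 (iv F190418) D48429 (iv D46245)
def n48430 : Q := act 9 n45765
theorem D48430 : act 9 n45765 = n48430 := rfl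
theorem F216424 : act 1 n48430 = n45767 := d16_1 D48430 (iv D45767) D45765
theorem F216425 : act 2 n48430 = n48430 := d23_1 D48430 (iv D48430) F190416
theorem F216426 : act 5 n48430 = n45774 := d38_1 D48430 (iv D45774) (iv F190417)
def n48431 : Q := act 3 n45766
theorem D48431 : act 3 n45766 = n48431 := rfl
theorem F216427 : act 0 n48431 = n45873 := d2_1 D48431 (iv D45873) (iv F190419)
theorem F216428 : act 5 n48431 = n46459 := d25_2 (iv F190421) D48431 (iv D46459)
def n48432 : Q := act 9 n45766
theorem D48432 : act 9 n45766 = n48432 := rfl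
theorem F216429 : act 0 n48432 = n45874 := d8_1 D48432 (iv D45874) (iv F190419)
theorem F216430 : act 2 n48432 = n45768 := d23_1 D48432 (iv D45768) (iv F190420)
theorem F216431 : act 4 n48432 = n45767 := d34_1 D48432 (iv D45767) D45766
theorem F216432 : act 5 n48432 = n46460 := d38_1 D48432 (iv D46460) (iv F190421)
def n48433 : Q := act 0 n45770
theorem D48433 : act 0 n45770 = n48433 := rfl
theorem F216433 : act 1 n48433 = n45877 := d0_2 D45770 D48433 (iv D45877) (iv D31439) (iv F132581)
theorem F216434 : act 2 n48433 = n48433 := d1_2 F190434 D48433 (iv D48433)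
theorem F216435 : act 4 n48433 = n46462 := d3_2 (iv F190435) D48433 (iv D46462)
theorem F216436 : act 6 n48433 = n48433 := d5_2 F190436 D48433 (iv D48433)
theorem F216437 : act 7 n48433 = n45773 := d6_2 (iv F190437) D48433 (iv D45773)
theorem F216438 : act 8 n48433 = n46251 := d7_2 (iv F190438) D48433 (iv D46251)
def n48434 : Q := act 9 n45770
theorem D48434 : act 9 n45770 = n48434 := rfl
theorem F216439 : act 1 n48434 = n45771 := d16_1 D48434 (iv D45771) D45770
theorem F216440 : act 2 n48434 = n48434 := d23_1 D48434 (iv D48434) F190434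
theorem F216441 : act 4 n48434 = n46463 := d34_1 D48434 (iv D46463) (iv F190435)
theorem F216442 : act 6 n48434 = n48434 := d41_1 D48434 (iv D48434) F190436
theorem F216443 : act 7 n48434 = n45774 := d43_1 D48434 (iv D45774) (iv F190437)
def n48435 : Q := act 9 n45773
theorem D48435 : act 9 n45773 = n48435 := rfl
theorem F216444 : act 0 n48435 = n45774 := d8_1 D48435 (iv D45774) D45773
theorem F216445 : act 1 n48435 = n45880 := d16_1 D48435 (iv D45880) (iv F190450)
theorem F216446 : act 2 n48435 = n48435 := d23_1 D48435 (iv D48435) F190451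
theorem F216447 : act 4 n48435 = n46465 := d34_1 D48435 (iv D46465) (iv F190452)
theorem F216448 : act 6 n48435 = n45776 := d41_1 D48435 (iv D45776) (iv F190453)
def n48436 : Q := act 9 n45780
theorem D48436 : act 9 n45780 = n48436 := rfl
theorem F216449 : act 1 n48436 = n46549 := d16_1 D48436 (iv D46549) F206821
theorem F216450 : act 2 n48436 = n46263 := d23_1 D48436 (iv D46263) (iv F190479)
theorem F216451 : act 4 n48436 = n45785 := d34_1 D48436 (iv D45785) (iv F190480)
theorem F216452 : act 5 n48436 = n46534 := d38_1 D48436 (iv D46534) F203212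
theorem F216453 : act 7 n48436 = n45782 := d43_1 D48436 (iv D45782) (iv F190482)
def n48437 : Q := act 2 n45781
theorem D48437 : act 2 n45781 = n48437 := rfl
theorem F216454 : act 3 n48437 = n46264 := d17_2 D45781 D48437 (iv D46264) (iv D31710) (iv F132622)
theorem F216455 : act 5 n48437 = n46546 := d19_2 (iv F190483) D48437 (iv D46546)
def n48438 : Q := act 4 n45781
theorem D48438 : act 4 n45781 = n48438 := rfl
theorem F216456 : act 3 n48438 = n45787 := d24_1 D48438 (iv D45787) (iv D31378) (iv F132623) D45781
def n48439 : Q := act 9 n45781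
theorem D48439 : act 9 n45781 = n48439 := rfl
theorem F216457 : act 3 n48439 = n45782 := d29_1 D48439 (iv D45782) D45781
theorem F216458 : act 5 n48439 = n46547 := d38_1 D48439 (iv D46547) (iv F190483)
def n48440 : Q := act 3 n45783
theorem D48440 : act 3 n45783 = n48440 := rfl
theorem F216459 : act 5 n48440 = n48440 := d25_2 F190488 D48440 (iv D48440)
theorem F216460 : act 6 n48440 = n45784 := d26_2 (iv F190489) D48440 (iv D45784)
theorem F216461 : act 8 n48440 = n45807 := d28_2 D45783 D48440 (iv D45807) (iv D31391) (iv F132626)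
def n48441 : Q := act 9 n45783
theorem D48441 : act 9 n45783 = n48441 := rfl
theorem F216462 : act 2 n48441 = n46268 := d23_1 D48441 (iv D46268) (iv F190487)
theorem F216463 : act 5 n48441 = n48441 := d38_1 D48441 (iv D48441) F190488
theorem F216464 : act 6 n48441 = n45785 := d41_1 D48441 (iv D45785) (iv F190489)
def n48442 : Q := act 2 n45784
theorem D48442 : act 2 n45784 = n48442 := rfl
theorem F216465 : act 3 n48442 = n46269 := d17_2 D45784 D48442 (iv D46269) (iv D31713) (iv F132628)
theorem F216466 : act 5 n48442 = n45789 := d19_2 (iv F190490) D48442 (iv D45789)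
theorem F216467 : act 7 n48442 = n45786 := d21_2 (iv F190491) D48442 (iv D45786)
theorem F216468 : act 8 n48442 = n45809 := d22_2 (iv F190492) D48442 (iv D45809)
def n48443 : Q := act 4 n45784
theorem D48443 : act 4 n45784 = n48443 := rfl
theorem F216469 : act 7 n48443 = n45787 := d32_2 (iv F190491) D48443 (iv D45787)
theorem F216470 : act 8 n48443 = n45810 := d33_2 (iv F190492) D48443 (iv D45810)
def n48444 : Q := act 9 n45784
theorem D48444 : act 9 n45784 = n48444 := rfl
theorem F216471 : act 3 n48444 = n45785 := d29_1 D48444 (iv D45785) D45784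
theorem F216472 : act 5 n48444 = n45791 := d38_1 D48444 (iv D45791) (iv F190490)
theorem F216473 : act 7 n48444 = n45788 := d43_1 D48444 (iv D45788) (iv F190491)
def n48445 : Q := act 1 n45786
theorem D48445 : act 1 n45786 = n48445 := rfl
theorem F216474 : act 3 n48445 = n46272 := d10_2 (iv F190496) D48445 (iv D46272)
theorem F216475 : act 5 n48445 = n45792 := d12_2 (iv F190497) D48445 (iv D45792)
theorem F216476 : act 8 n48445 = n45812 := d15_2 (iv F190498) D48445 (iv D45812)
def n48446 : Q := act 4 n45786
theorem D48446 : act 4 n45786 = n48446 := rfl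
theorem F216477 : act 2 n48446 = n45787 := d18_1 D48446 (iv D45787) D45786
theorem F216478 : act 8 n48446 = n45813 := d33_2 (iv F190498) D48446 (iv D45813)
def n48447 : Q := act 9 n45786
theorem D48447 : act 9 n45786 = n48447 := rfl
theorem F216479 : act 2 n48447 = n45788 := d23_1 D48447 (iv D45788) D45786
theorem F216480 : act 3 n48447 = n46274 := d29_1 D48447 (iv D46274) (iv F190496)
theorem F216481 : act 5 n48447 = n45794 := d38_1 D48447 (iv D45794) (iv F190497)
def n48448 : Q := act 5 n45787
theorem D48448 : act 5 n45787 = n48448 := rfl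
theorem F216482 : act 4 n48448 = n45795 := d30_1 D48448 (iv D45795) (iv D31383) (iv F132631) D45787
theorem F216483 : act 8 n48448 = n45815 := d37_2 (iv F190499) D48448 (iv D45815)
def n48449 : Q := act 9 n45787
theorem D48449 : act 9 n45787 = n48449 := rfl
theorem F216484 : act 4 n48449 = n45788 := d34_1 D48449 (iv D45788) D45787
def n48450 : Q := act 8 n45788
theorem D48450 : act 8 n45788 = n48450 := rfl
theorem F216485 : act 5 n48450 = n45797 := d37_1 D48450 (iv D45797) (iv F190501)
theorem F216486 : act 9 n48450 = n45817 := d44_2 D45788 D48450 (iv D45817) (iv D31396) (iv F132632)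
def n48451 : Q := act 1 n45789
theorem D48451 : act 1 n45789 = n48451 := rfl
theorem F216487 : act 3 n48451 = n46277 := d10_2 (iv F190502) D48451 (iv D46277)
theorem F216488 : act 6 n48451 = n48451 := d13_2 F190503 D48451 (iv D48451)
theorem F216489 : act 7 n48451 = n45792 := d14_2 (iv F190504) D48451 (iv D45792)
theorem F216490 : act 8 n48451 = n45818 := d15_2 (iv F190505) D48451 (iv D45818)
def n48452 : Q := act 4 n45789
theorem D48452 : act 4 n45789 = n48452 := rfl
theorem F216491 : act 2 n48452 = n45790 := d18_1 D48452 (iv D45790) D45789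
theorem F216492 : act 3 n48452 = n48452 := d24_1 D48452 (iv D48452) F190502 F133908 (iv F190502)
theorem F216493 : act 6 n48452 = n48452 := d31_2 F190503 D48452 (iv D48452)
theorem F216494 : act 7 n48452 = n45793 := d32_2 (iv F190504) D48452 (iv D45793)
theorem F216495 : act 8 n48452 = n45819 := d33_2 (iv F190505) D48452 (iv D45819)
def n48453 : Q := act 9 n45789
theorem D48453 : act 9 n45789 = n48453 := rfl
theorem F216496 : act 2 n48453 = n45791 := d23_1 D48453 (iv D45791) D45789
theorem F216497 : act 3 n48453 = n46278 := d29_1 D48453 (iv D46278) (iv F190502)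
theorem F216498 : act 6 n48453 = n48453 := d41_1 D48453 (iv D48453) F190503
theorem F216499 : act 7 n48453 = n45794 := d43_1 D48453 (iv D45794) (iv F190504)
def n48454 : Q := act 9 n45790
theorem D48454 : act 9 n45790 = n48454 := rfl
theorem F216500 : act 1 n48454 = n46547 := d16_1 D48454 (iv D46547) (iv F206826)
theorem F216501 : act 3 n48454 = n46533 := d29_1 D48454 (iv D46533) F203173
theorem F216502 : act 4 n48454 = n45791 := d34_1 D48454 (iv D45791) D45790
theorem F216503 : act 6 n48454 = n48454 := d41_1 D48454 (iv D48454) F190507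
theorem F216504 : act 7 n48454 = n45796 := d43_1 D48454 (iv D45796) (iv F190508)
def n48455 : Q := act 8 n45791
theorem D48455 : act 8 n45791 = n48455 := rfl
theorem F216505 : act 6 n48455 = n48455 := d40_1 D48455 (iv D48455) F190511
theorem F216506 : act 7 n48455 = n45797 := d42_1 D48455 (iv D45797) (iv F190512)
theorem F216507 : act 9 n48455 = n45823 := d44_2 D45791 D48455 (iv D45823) (iv D31399) (iv F132637)
def n48456 : Q := act 0 n45792
theorem D48456 : act 0 n45792 = n48456 := rfl
theorem F216508 : act 3 n48456 = n46280 := d2_2 (iv F190513) D48456 (iv D46280)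
theorem F216509 : act 6 n48456 = n45798 := d5_2 (iv F190514) D48456 (iv D45798)
theorem F216510 : act 8 n48456 = n45824 := d7_2 (iv F190515) D48456 (iv D45824)
def n48457 : Q := act 4 n45792
theorem D48457 : act 4 n45792 = n48457 := rfl
theorem F216511 : act 1 n48457 = n45793 := d11_1 D48457 (iv D45793) D45792
theorem F216512 : act 3 n48457 = n48457 := d24_1 D48457 (iv D48457) F190513 F133918 (iv F190513)
theorem F216513 : act 6 n48457 = n45799 := d31_2 (iv F190514) D48457 (iv D45799)
theorem F216514 : act 8 n48457 = n45825 := d33_2 (iv F190515) D48457 (iv D45825)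
def n48458 : Q := act 9 n45792
theorem D48458 : act 9 n45792 = n48458 := rfl
theorem F216515 : act 1 n48458 = n45794 := d16_1 D48458 (iv D45794) D45792
theorem F216516 : act 3 n48458 = n46281 := d29_1 D48458 (iv D46281) (iv F190513)
theorem F216517 : act 6 n48458 = n45800 := d41_1 D48458 (iv D45800) (iv F190514)
def n48459 : Q := act 5 n45793
theorem D48459 : act 5 n45793 = n48459 := rfl
theorem F216518 : act 2 n48459 = n45795 := d19_1 D48459 (iv D45795) (iv F190516)
theorem F216519 : act 3 n48459 = n48459 := d25_1 D48459 (iv D48459) F190517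
theorem F216520 : act 8 n48459 = n45827 := d37_2 (iv F190519) D48459 (iv D45827)
def n48460 : Q := act 9 n45793
theorem D48460 : act 9 n45793 = n48460 := rfl
theorem F216521 : act 2 n48460 = n45796 := d23_1 D48460 (iv D45796) (iv F190516)
theorem F216522 : act 3 n48460 = n48460 := d29_1 D48460 (iv D48460) F190517
theorem F216523 : act 4 n48460 = n45794 := d34_1 D48460 (iv D45794) D45793
theorem F216524 : act 6 n48460 = n45802 := d41_1 D48460 (iv D45802) (iv F190518)
def n48461 : Q := act 8 n45794
theorem D48461 : act 8 n45794 = n48461 := rfl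
theorem F216525 : act 2 n48461 = n45797 := d22_1 D48461 (iv D45797) (iv F190520)
theorem F216526 : act 6 n48461 = n45803 := d40_1 D48461 (iv D45803) (iv F190522)
theorem F216527 : act 9 n48461 = n45829 := d44_2 D45794 D48461 (iv D45829) (iv D31402) (iv F132644)
def n48462 : Q := act 6 n45795
theorem D48462 : act 6 n45795 = n48462 := rfl
theorem F216528 : act 3 n48462 = n46548 := d26_1 D48462 (iv D46548) (iv F190523)
theorem F216529 : act 5 n48462 = n45804 := d35_1 D48462 (iv D45804) (iv D31388) (iv F132646) D45795
theorem F216530 : act 8 n48462 = n45830 := d40_2 (iv F190524) D48462 (iv D45830)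
def n48463 : Q := act 9 n45795
theorem D48463 : act 9 n45795 = n48463 := rfl
theorem F216531 : act 3 n48463 = n46549 := d29_1 D48463 (iv D46549) (iv F190523)
theorem F216532 : act 5 n48463 = n45796 := d38_1 D48463 (iv D45796) D45795
def n48464 : Q := act 8 n45796
theorem D48464 : act 8 n45796 = n48464 := rfl
theorem F216533 : act 4 n48464 = n45797 := d33_1 D48464 (iv D45797) (iv F190526)
theorem F216534 : act 6 n48464 = n45806 := d40_1 D48464 (iv D45806) (iv F190527)
theorem F216535 : act 9 n48464 = n45832 := d44_2 D45796 D48464 (iv D45832) (iv D31404) (iv F132647)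
def n48465 : Q := act 9 n45798
theorem D48465 : act 9 n45798 = n48465 := rfl
theorem F216536 : act 0 n48465 = n45800 := d8_1 D48465 (iv D45800) D45798
theorem F216537 : act 3 n48465 = n46283 := d29_1 D48465 (iv D46283) (iv F190530)
theorem F216538 : act 7 n48465 = n48465 := d43_1 D48465 (iv D48465) F190531
def n48466 : Q := act 9 n45799
theorem D48466 : act 9 n45799 = n48466 := rfl
theorem F216539 : act 1 n48466 = n45802 := d16_1 D48466 (iv D45802) (iv F190533)
theorem F216540 : act 3 n48466 = n48466 := d29_1 D48466 (iv D48466) F190534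
theorem F216541 : act 4 n48466 = n45800 := d34_1 D48466 (iv D45800) D45799
theorem F216542 : act 7 n48466 = n48466 := d43_1 D48466 (iv D48466) F190535
def n48467 : Q := act 8 n45800
theorem D48467 : act 8 n45800 = n48467 := rfl
theorem F216543 : act 1 n48467 = n45803 := d15_1 D48467 (iv D45803) (iv F190537)
theorem F216544 : act 7 n48467 = n48467 := d42_1 D48467 (iv D48467) F190539
theorem F216545 : act 9 n48467 = n45837 := d44_2 D45800 D48467 (iv D45837) (iv D31408) (iv F132652)
def n48468 : Q := act 6 n45801
theorem D48468 : act 6 n45801 = n48468 := rfl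
theorem F216546 : act 2 n48468 = n45804 := d20_1 D48468 (iv D45804) (iv F190540)
theorem F216547 : act 3 n48468 = n48468 := d26_1 D48468 (iv D48468) F190541
theorem F216548 : act 8 n48468 = n45838 := d40_2 (iv F190543) D48468 (iv D45838)
def n48469 : Q := act 9 n45801
theorem D48469 : act 9 n45801 = n48469 := rfl
theorem F216549 : act 2 n48469 = n45805 := d23_1 D48469 (iv D45805) (iv F190540)
theorem F216550 : act 3 n48469 = n48469 := d29_1 D48469 (iv D48469) F190541
theorem F216551 : act 5 n48469 = n45802 := d38_1 D48469 (iv D45802) D45801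
theorem F216552 : act 7 n48469 = n48469 := d43_1 D48469 (iv D48469) F190542
def n48470 : Q := act 8 n45802
theorem D48470 : act 8 n45802 = n48470 := rfl
theorem F216553 : act 2 n48470 = n45806 := d22_1 D48470 (iv D45806) (iv F190544)
theorem F216554 : act 4 n48470 = n45803 := d33_1 D48470 (iv D45803) (iv F190546)
theorem F216555 : act 7 n48470 = n48470 := d42_1 D48470 (iv D48470) F190547
theorem F216556 : act 9 n48470 = n45840 := d44_2 D45802 D48470 (iv D45840) (iv D31410) (iv F132656)
def n48471 : Q := act 7 n45804
theorem D48471 : act 7 n45804 = n48471 := rfl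
theorem F216557 : act 3 n48471 = n46550 := d27_1 D48471 (iv D46550) (iv F190551)
theorem F216558 : act 6 n48471 = n48471 := d39_1 D48471 (iv D48471) (iv D45804) F132661 D45804
theorem F216559 : act 8 n48471 = n45842 := d42_2 (iv F190552) D48471 (iv D45842)
def n48472 : Q := act 9 n45804
theorem D48472 : act 9 n45804 = n48472 := rfl
theorem F216560 : act 3 n48472 = n46551 := d29_1 D48472 (iv D46551) (iv F190551)
theorem F216561 : act 6 n48472 = n45805 := d41_1 D48472 (iv D45805) D45804
def n48473 : Q := act 8 n45805
theorem D48473 : act 8 n45805 = n48473 := rfl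
theorem F216562 : act 5 n48473 = n45806 := d37_1 D48473 (iv D45806) (iv F190554)
theorem F216563 : act 7 n48473 = n48473 := d42_1 D48473 (iv D48473) F190555
theorem F216564 : act 9 n48473 = n45844 := d44_2 D45805 D48473 (iv D45844) (iv D31413) (iv F132662)
def n48474 : Q := act 2 n45807
theorem D48474 : act 2 n45807 = n48474 := rfl
theorem F216565 : act 3 n48474 = n45862 := d17_2 D45807 D48474 (iv D45862) (iv D31429) (iv F132668)
theorem F216566 : act 5 n48474 = n48474 := d19_2 F190559 D48474 (iv D48474)
theorem F216567 : act 6 n48474 = n45809 := d20_2 (iv F190560) D48474 (iv D45809)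
def n48475 : Q := act 4 n45807
theorem D48475 : act 4 n45807 = n48475 := rfl
theorem F216568 : act 6 n48475 = n45810 := d31_2 (iv F190560) D48475 (iv D45810)
def n48476 : Q := act 9 n45807
theorem D48476 : act 9 n45807 = n48476 := rfl
theorem F216569 : act 3 n48476 = n45808 := d29_1 D48476 (iv D45808) D45807
theorem F216570 : act 5 n48476 = n48476 := d38_1 D48476 (iv D48476) F190559
theorem F216571 : act 6 n48476 = n45811 := d41_1 D48476 (iv D45811) (iv F190560)
def n48477 : Q := act 1 n45809
theorem D48477 : act 1 n45809 = n48477 := rfl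
theorem F216572 : act 3 n48477 = n45865 := d10_2 (iv F190564) D48477 (iv D45865)
theorem F216573 : act 5 n48477 = n45818 := d12_2 (iv F190565) D48477 (iv D45818)
theorem F216574 : act 7 n48477 = n45812 := d14_2 (iv F190566) D48477 (iv D45812)
def n48478 : Q := act 4 n45809
theorem D48478 : act 4 n45809 = n48478 := rfl
theorem F216575 : act 2 n48478 = n45810 := d18_1 D48478 (iv D45810) D45809
theorem F216576 : act 7 n48478 = n45813 := d32_2 (iv F190566) D48478 (iv D45813)
def n48479 : Q := act 9 n45809
theorem D48479 : act 9 n45809 = n48479 := rfl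
theorem F216577 : act 2 n48479 = n45811 := d23_1 D48479 (iv D45811) D45809
theorem F216578 : act 3 n48479 = n45867 := d29_1 D48479 (iv D45867) (iv F190564)
theorem F216579 : act 5 n48479 = n45820 := d38_1 D48479 (iv D45820) (iv F190565)
theorem F216580 : act 7 n48479 = n45814 := d43_1 D48479 (iv D45814) (iv F190566)
def n48480 : Q := act 5 n45810
theorem D48480 : act 5 n45810 = n48480 := rfl
theorem F216581 : act 4 n48480 = n45821 := d30_1 D48480 (iv D45821) (iv D31398) (iv F132671) D45810
theorem F216582 : act 7 n48480 = n45815 := d36_2 (iv F190567) D48480 (iv D45815)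
def n48481 : Q := act 9 n45810
theorem D48481 : act 9 n45810 = n48481 := rfl
theorem F216583 : act 4 n48481 = n45811 := d34_1 D48481 (iv D45811) D45810
theorem F216584 : act 7 n48481 = n45816 := d43_1 D48481 (iv D45816) (iv F190567)
def n48482 : Q := act 8 n45811
theorem D48482 : act 8 n45811 = n48482 := rfl
theorem F216585 : act 5 n48482 = n45823 := d37_1 D48482 (iv D45823) (iv F190569)
theorem F216586 : act 7 n48482 = n45817 := d42_1 D48482 (iv D45817) (iv F190570)
def n48483 : Q := act 0 n45812
theorem D48483 : act 0 n45812 = n48483 := rfl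
theorem F216587 : act 3 n48483 = n45870 := d2_2 (iv F190571) D48483 (iv D45870)
theorem F216588 : act 5 n48483 = n45824 := d4_2 (iv F190572) D48483 (iv D45824)
def n48484 : Q := act 4 n45812
theorem D48484 : act 4 n45812 = n48484 := rfl
theorem F216589 : act 1 n48484 = n45813 := d11_1 D48484 (iv D45813) D45812
def n48485 : Q := act 9 n45812
theorem D48485 : act 9 n45812 = n48485 := rfl
theorem F216590 : act 1 n48485 = n45814 := d16_1 D48485 (iv D45814) D45812
theorem F216591 : act 3 n48485 = n45872 := d29_1 D48485 (iv D45872) (iv F190571)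
theorem F216592 : act 5 n48485 = n45826 := d38_1 D48485 (iv D45826) (iv F190572)
def n48486 : Q := act 3 n45813
theorem D48486 : act 3 n45813 = n48486 := rfl
theorem F216593 : act 4 n48486 = n45873 := d24_2 D45813 D48486 (iv D45873) (iv D31435) (iv F132676)
def n48487 : Q := act 5 n45813
theorem D48487 : act 5 n45813 = n48487 := rfl
theorem F216594 : act 2 n48487 = n45815 := d19_1 D48487 (iv D45815) (iv F190573)
theorem F216595 : act 4 n48487 = n45827 := d30_1 D48487 (iv D45827) (iv D31401) (iv F132677) D45813
def n48488 : Q := act 9 n45813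
theorem D48488 : act 9 n45813 = n48488 := rfl
theorem F216596 : act 2 n48488 = n45816 := d23_1 D48488 (iv D45816) (iv F190573)
theorem F216597 : act 4 n48488 = n45814 := d34_1 D48488 (iv D45814) D45813
def n48489 : Q := act 8 n45814
theorem D48489 : act 8 n45814 = n48489 := rfl
theorem F216598 : act 2 n48489 = n45817 := d22_1 D48489 (iv D45817) (iv F190574)
theorem F216599 : act 5 n48489 = n45829 := d37_1 D48489 (iv D45829) (iv F190576)
def n48490 : Q := act 6 n45815
theorem D48490 : act 6 n45815 = n48490 := rfl
theorem F216600 : act 4 n48490 = n45830 := d31_1 D48490 (iv D45830) (iv F190577)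
def n48491 : Q := act 9 n45815
theorem D48491 : act 9 n45815 = n48491 := rfl
theorem F216601 : act 4 n48491 = n45831 := d34_1 D48491 (iv D45831) (iv F190577)
theorem F216602 : act 5 n48491 = n45816 := d38_1 D48491 (iv D45816) D45815
def n48492 : Q := act 8 n45816
theorem D48492 : act 8 n45816 = n48492 := rfl
theorem F216603 : act 4 n48492 = n45817 := d33_1 D48492 (iv D45817) (iv F190578)
def n48493 : Q := act 0 n45818
theorem D48493 : act 0 n45818 = n48493 := rfl
theorem F216604 : act 3 n48493 = n45877 := d2_2 (iv F190580) D48493 (iv D45877)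
theorem F216605 : act 6 n48493 = n48493 := d5_2 F190581 D48493 (iv D48493)
theorem F216606 : act 7 n48493 = n45824 := d6_2 (iv F190582) D48493 (iv D45824)
def n48494 : Q := act 4 n45818
theorem D48494 : act 4 n45818 = n48494 := rfl
theorem F216607 : act 1 n48494 = n45819 := d11_1 D48494 (iv D45819) D45818
theorem F216608 : act 3 n48494 = n46484 := d24_1 D48494 (iv D46484) F135922 (iv F132804) (iv F190580)
theorem F216609 : act 6 n48494 = n48494 := d31_2 F190581 D48494 (iv D48494)
theorem F216610 : act 7 n48494 = n45825 := d32_2 (iv F190582) D48494 (iv D45825)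
def n48495 : Q := act 9 n45818
theorem D48495 : act 9 n45818 = n48495 := rfl
theorem F216611 : act 1 n48495 = n45820 := d16_1 D48495 (iv D45820) D45818
theorem F216612 : act 3 n48495 = n45878 := d29_1 D48495 (iv D45878) (iv F190580)
theorem F216613 : act 6 n48495 = n48495 := d41_1 D48495 (iv D48495) F190581
theorem F216614 : act 7 n48495 = n45826 := d43_1 D48495 (iv D45826) (iv F190582)
def n48496 : Q := act 5 n45819
theorem D48496 : act 5 n45819 = n48496 := rfl
theorem F216615 : act 2 n48496 = n45821 := d19_1 D48496 (iv D45821) (iv F190583)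
theorem F216616 : act 3 n48496 = n46486 := d25_1 D48496 (iv D46486) (iv F190584)
theorem F216617 : act 7 n48496 = n45827 := d36_2 (iv F190586) D48496 (iv D45827)
def n48497 : Q := act 9 n45819
theorem D48497 : act 9 n45819 = n48497 := rfl
theorem F216618 : act 2 n48497 = n45822 := d23_1 D48497 (iv D45822) (iv F190583)
theorem F216619 : act 3 n48497 = n46487 := d29_1 D48497 (iv D46487) (iv F190584)
theorem F216620 : act 4 n48497 = n45820 := d34_1 D48497 (iv D45820) D45819
theorem F216621 : act 6 n48497 = n48497 := d41_1 D48497 (iv D48497) F190585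
theorem F216622 : act 7 n48497 = n45828 := d43_1 D48497 (iv D45828) (iv F190586)
def n48498 : Q := act 8 n45820
theorem D48498 : act 8 n45820 = n48498 := rfl
theorem F216623 : act 2 n48498 = n45823 := d22_1 D48498 (iv D45823) (iv F190587)
theorem F216624 : act 6 n48498 = n48498 := d40_1 D48498 (iv D48498) F190589
theorem F216625 : act 7 n48498 = n45829 := d42_1 D48498 (iv D45829) (iv F190590)
def n48499 : Q := act 6 n45821
theorem D48499 : act 6 n45821 = n48499 := rfl
theorem F216626 : act 3 n48499 = n45846 := d26_1 D48499 (iv D45846) (iv F190591)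
theorem F216627 : act 5 n48499 = n48499 := d35_1 D48499 (iv D48499) (iv D45821) F132684 D45821
def n48500 : Q := act 9 n45821
theorem D48500 : act 9 n45821 = n48500 := rfl
theorem F216628 : act 3 n48500 = n45847 := d29_1 D48500 (iv D45847) (iv F190591)
theorem F216629 : act 5 n48500 = n45822 := d38_1 D48500 (iv D45822) D45821
theorem F216630 : act 7 n48500 = n45831 := d43_1 D48500 (iv D45831) (iv F190592)
def n48501 : Q := act 8 n45822
theorem D48501 : act 8 n45822 = n48501 := rfl
theorem F216631 : act 4 n48501 = n45823 := d33_1 D48501 (iv D45823) (iv F190594)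
theorem F216632 : act 6 n48501 = n48501 := d40_1 D48501 (iv D48501) F190595
theorem F216633 : act 7 n48501 = n45832 := d42_1 D48501 (iv D45832) (iv F190596)
def n48502 : Q := act 4 n45824
theorem D48502 : act 4 n45824 = n48502 := rfl
theorem F216634 : act 0 n48502 = n45825 := d3_1 D48502 (iv D45825) D45824
theorem F216635 : act 3 n48502 = n46491 := d24_1 D48502 (iv D46491) F135949 (iv F132818) (iv F190599)
theorem F216636 : act 6 n48502 = n45833 := d31_2 (iv F190600) D48502 (iv D45833)
def n48503 : Q := act 9 n45824
theorem D48503 : act 9 n45824 = n48503 := rfl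
theorem F216637 : act 0 n48503 = n45826 := d8_1 D48503 (iv D45826) D45824
theorem F216638 : act 3 n48503 = n45880 := d29_1 D48503 (iv D45880) (iv F190599)
theorem F216639 : act 6 n48503 = n45834 := d41_1 D48503 (iv D45834) (iv F190600)
def n48504 : Q := act 5 n45825
theorem D48504 : act 5 n45825 = n48504 := rfl
theorem F216640 : act 1 n48504 = n45827 := d12_1 D48504 (iv D45827) (iv F190601)
theorem F216641 : act 3 n48504 = n46493 := d25_1 D48504 (iv D46493) (iv F190602)
def n48505 : Q := act 9 n45825
theorem D48505 : act 9 n45825 = n48505 := rfl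
theorem F216642 : act 1 n48505 = n45828 := d16_1 D48505 (iv D45828) (iv F190601)
theorem F216643 : act 3 n48505 = n46494 := d29_1 D48505 (iv D46494) (iv F190602)
theorem F216644 : act 4 n48505 = n45826 := d34_1 D48505 (iv D45826) D45825
theorem F216645 : act 6 n48505 = n45836 := d41_1 D48505 (iv D45836) (iv F190603)
def n48506 : Q := act 8 n45826
theorem D48506 : act 8 n45826 = n48506 := rfl
theorem F216646 : act 1 n48506 = n45829 := d15_1 D48506 (iv D45829) (iv F190604)
theorem F216647 : act 6 n48506 = n45837 := d40_1 D48506 (iv D45837) (iv F190606)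
def n48507 : Q := act 6 n45827
theorem D48507 : act 6 n45827 = n48507 := rfl
theorem F216648 : act 2 n48507 = n45830 := d20_1 D48507 (iv D45830) (iv F190607)
theorem F216649 : act 3 n48507 = n46496 := d26_1 D48507 (iv D46496) (iv F190608)
theorem F216650 : act 5 n48507 = n45838 := d35_1 D48507 (iv D45838) (iv D31409) (iv F132693) D45827
def n48508 : Q := act 9 n45827
theorem D48508 : act 9 n45827 = n48508 := rfl
theorem F216651 : act 2 n48508 = n45831 := d23_1 D48508 (iv D45831) (iv F190607)
theorem F216652 : act 3 n48508 = n46497 := d29_1 D48508 (iv D46497) (iv F190608)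
theorem F216653 : act 5 n48508 = n45828 := d38_1 D48508 (iv D45828) D45827
def n48509 : Q := act 8 n45828
theorem D48509 : act 8 n45828 = n48509 := rfl
theorem F216654 : act 2 n48509 = n45832 := d22_1 D48509 (iv D45832) (iv F190609)
theorem F216655 : act 4 n48509 = n45829 := d33_1 D48509 (iv D45829) (iv F190611)
theorem F216656 : act 6 n48509 = n45840 := d40_1 D48509 (iv D45840) (iv F190612)
def n48510 : Q := act 3 n45829
theorem D48510 : act 3 n45829 = n48510 := rfl
theorem F216657 : act 6 n48510 = n45841 := d26_2 (iv F190614) D48510 (iv D45841)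
theorem F216658 : act 8 n48510 = n45882 := d28_2 D45829 D48510 (iv D45882) (iv D31444) (iv F132695)
def n48511 : Q := act 7 n45830
theorem D48511 : act 7 n45830 = n48511 := rfl
theorem F216659 : act 3 n48511 = n45849 := d27_1 D48511 (iv D45849) (iv F190615)
theorem F216660 : act 5 n48511 = n45842 := d36_1 D48511 (iv D45842) (iv F190616)
def n48512 : Q := act 9 n45830
theorem D48512 : act 9 n45830 = n48512 := rfl
theorem F216661 : act 3 n48512 = n45850 := d29_1 D48512 (iv D45850) (iv F190615)
theorem F216662 : act 5 n48512 = n45843 := d38_1 D48512 (iv D45843) (iv F190616)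
theorem F216663 : act 6 n48512 = n45831 := d41_1 D48512 (iv D45831) D45830
def n48513 : Q := act 8 n45831
theorem D48513 : act 8 n45831 = n48513 := rfl
theorem F216664 : act 5 n48513 = n45832 := d37_1 D48513 (iv D45832) (iv F190618)
def n48514 : Q := act 9 n45833
theorem D48514 : act 9 n45833 = n48514 := rfl
theorem F216665 : act 0 n48514 = n45836 := d8_1 D48514 (iv D45836) (iv F190621)
theorem F216666 : act 3 n48514 = n46504 := d29_1 D48514 (iv D46504) (iv F190622)
theorem F216667 : act 4 n48514 = n45834 := d34_1 D48514 (iv D45834) D45833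
theorem F216668 : act 7 n48514 = n48514 := d43_1 D48514 (iv D48514) F190623
def n48515 : Q := act 8 n45834
theorem D48515 : act 8 n45834 = n48515 := rfl
theorem F216669 : act 0 n48515 = n45837 := d7_1 D48515 (iv D45837) (iv F190624)
theorem F216670 : act 7 n48515 = n48515 := d42_1 D48515 (iv D48515) F190626
def n48516 : Q := act 6 n45835
theorem D48516 : act 6 n45835 = n48516 := rfl
theorem F216671 : act 1 n48516 = n45838 := d13_1 D48516 (iv D45838) (iv F190627)
theorem F216672 : act 3 n48516 = n46506 := d26_1 D48516 (iv D46506) (iv F190628)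
def n48517 : Q := act 9 n45835
theorem D48517 : act 9 n45835 = n48517 := rfl
theorem F216673 : act 1 n48517 = n45839 := d16_1 D48517 (iv D45839) (iv F190627)
theorem F216674 : act 3 n48517 = n46507 := d29_1 D48517 (iv D46507) (iv F190628)
theorem F216675 : act 5 n48517 = n45836 := d38_1 D48517 (iv D45836) D45835
theorem F216676 : act 7 n48517 = n48517 := d43_1 D48517 (iv D48517) F190629
def n48518 : Q := act 8 n45836
theorem D48518 : act 8 n45836 = n48518 := rfl
theorem F216677 : act 1 n48518 = n45840 := d15_1 D48518 (iv D45840) (iv F190630)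
theorem F216678 : act 4 n48518 = n45837 := d33_1 D48518 (iv D45837) (iv F190632)
theorem F216679 : act 7 n48518 = n48518 := d42_1 D48518 (iv D48518) F190633
def n48519 : Q := act 3 n45837
theorem D48519 : act 3 n45837 = n48519 := rfl
theorem F216680 : act 1 n48519 = n45841 := d10_1 D48519 (iv D45841) (iv F190634)
theorem F216681 : act 7 n48519 = n48519 := d27_2 F190635 D48519 (iv D48519)
theorem F216682 : act 8 n48519 = n45884 := d28_2 D45837 D48519 (iv D45884) (iv D31446) (iv F132708)
def n48520 : Q := act 7 n45838
theorem D48520 : act 7 n45838 = n48520 := rfl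
theorem F216683 : act 2 n48520 = n45842 := d21_1 D48520 (iv D45842) (iv F190636)
theorem F216684 : act 3 n48520 = n46510 := d27_1 D48520 (iv D46510) (iv F190637)
theorem F216685 : act 6 n48520 = n48520 := d39_1 D48520 (iv D48520) (iv D45838) F132712 D45838
def n48521 : Q := act 9 n45838
theorem D48521 : act 9 n45838 = n48521 := rfl
theorem F216686 : act 2 n48521 = n45843 := d23_1 D48521 (iv D45843) (iv F190636)
theorem F216687 : act 3 n48521 = n46511 := d29_1 D48521 (iv D46511) (iv F190637)
theorem F216688 : act 6 n48521 = n45839 := d41_1 D48521 (iv D45839) D45838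
def n48522 : Q := act 8 n45839
theorem D48522 : act 8 n45839 = n48522 := rfl
theorem F216689 : act 2 n48522 = n45844 := d22_1 D48522 (iv D45844) (iv F190638)
theorem F216690 : act 5 n48522 = n45840 := d37_1 D48522 (iv D45840) (iv F190640)
theorem F216691 : act 7 n48522 = n48522 := d42_1 D48522 (iv D48522) F190641
def n48523 : Q := act 3 n45840
theorem D48523 : act 3 n45840 = n48523 := rfl
theorem F216692 : act 7 n48523 = n48523 := d27_2 F190644 D48523 (iv D48523)
theorem F216693 : act 8 n48523 = n46513 := d28_2 D45840 D48523 (iv D46513) (iv D32232) (iv F132714)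
def n48524 : Q := act 4 n45841
theorem D48524 : act 4 n45841 = n48524 := rfl
theorem F216694 : act 7 n48524 = n48524 := d32_2 F190645 D48524 (iv D48524)
theorem F216695 : act 8 n48524 = n45885 := d33_2 (iv F190646) D48524 (iv D45885)
def n48525 : Q := act 9 n45842
theorem D48525 : act 9 n45842 = n48525 := rfl
theorem F216696 : act 3 n48525 = n45853 := d29_1 D48525 (iv D45853) (iv F190647)
theorem F216697 : act 6 n48525 = n48525 := d41_1 D48525 (iv D48525) F190648
theorem F216698 : act 7 n48525 = n45843 := d43_1 D48525 (iv D45843) D45842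
def n48526 : Q := act 8 n45843
theorem D48526 : act 8 n45843 = n48526 := rfl
theorem F216699 : act 6 n48526 = n45844 := d40_1 D48526 (iv D45844) (iv F190650)
def n48527 : Q := act 7 n45846
theorem D48527 : act 7 n45846 = n48527 := rfl
theorem F216700 : act 2 n48527 = n46517 := d21_1 D48527 (iv D46517) (iv F190655)
theorem F216701 : act 5 n48527 = n48527 := d36_1 D48527 (iv D48527) F190656
theorem F216702 : act 6 n48527 = n45849 := d39_1 D48527 (iv D45849) (iv D31418) (iv F132726) D45846
theorem F216703 : act 8 n48527 = n46553 := d42_2 (iv F190657) D48527 (iv D46553)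
def n48528 : Q := act 9 n45846
theorem D48528 : act 9 n45846 = n48528 := rfl
theorem F216704 : act 2 n48528 = n46518 := d23_1 D48528 (iv D46518) (iv F190655)
theorem F216705 : act 5 n48528 = n48528 := d38_1 D48528 (iv D48528) F190656
theorem F216706 : act 6 n48528 = n45847 := d41_1 D48528 (iv D45847) D45846
def n48529 : Q := act 9 n45849
theorem D48529 : act 9 n45849 = n48529 := rfl
theorem F216707 : act 2 n48529 = n46519 := d23_1 D48529 (iv D46519) (iv F190666)
theorem F216708 : act 5 n48529 = n45853 := d38_1 D48529 (iv D45853) (iv F190667)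
theorem F216709 : act 7 n48529 = n45850 := d43_1 D48529 (iv D45850) D45849
def n48530 : Q := act 9 n45862
theorem D48530 : act 9 n45862 = n48530 := rfl
theorem F216710 : act 2 n48530 = n45864 := d23_1 D48530 (iv D45864) D45862
theorem F216711 : act 5 n48530 = n48530 := d38_1 D48530 (iv D48530) F190706
theorem F216712 : act 6 n48530 = n45867 := d41_1 D48530 (iv D45867) (iv F190707)
def n48531 : Q := act 9 n45865
theorem D48531 : act 9 n45865 = n48531 := rfl
theorem F216713 : act 1 n48531 = n45867 := d16_1 D48531 (iv D45867) D45865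
theorem F216714 : act 2 n48531 = n45876 := d23_1 D48531 F204600 (iv F190716)
theorem F216715 : act 4 n48531 = n45875 := d34_1 D48531 F190751 (iv F204588)
theorem F216716 : act 5 n48531 = n45878 := d38_1 D48531 (iv D45878) (iv F190717)
theorem F216717 : act 7 n48531 = n45872 := d43_1 D48531 (iv D45872) (iv F190718)
theorem F216718 : act 8 n48531 = n45874 := d44_1 D48531 (iv D45874) F132794 F204589 (iv F190719)
def n48532 : Q := act 3 n45866
theorem D48532 : act 3 n45866 = n48532 := rfl
theorem F216719 : act 1 n48532 = n46331 := d10_1 D48532 (iv D46331) (iv F204693)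
theorem F216720 : act 5 n48532 = n46337 := d25_2 F204762 D48532 (iv D46337)
theorem F216721 : act 7 n48532 = n45873 := d27_2 (iv F190722) D48532 (iv D45873)
def n48533 : Q := act 9 n45866
theorem D48533 : act 9 n45866 = n48533 := rfl
theorem F216722 : act 1 n48533 = n45875 := d16_1 D48533 F190751 (iv F204693)
theorem F216723 : act 2 n48533 = n45868 := d23_1 D48533 (iv D45868) (iv F190720)
theorem F216724 : act 4 n48533 = n45867 := d34_1 D48533 (iv D45867) D45866
theorem F216725 : act 5 n48533 = n45881 := d38_1 D48533 F190779 F204762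
theorem F216726 : act 7 n48533 = n45874 := d43_1 D48533 (iv D45874) (iv F190722)
theorem F216727 : act 8 n48533 = n45872 := d44_1 D48533 (iv D45872) F132791 (iv F204627) (iv F190723)
def n48534 : Q := act 8 n45867
theorem D48534 : act 8 n45867 = n48534 := rfl
theorem F216728 : act 1 n48534 = n45874 := d15_1 D48534 (iv F216718) F216713
theorem F216729 : act 2 n48534 = n45869 := d22_1 D48534 (iv D45869) (iv F190724)
theorem F216730 : act 4 n48534 = n45872 := d33_1 D48534 (iv F216727) F216724
theorem F216731 : act 5 n48534 = n45879 := d37_1 D48534 (iv D45879) (iv F190725)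
theorem F216732 : act 7 n48534 = n45875 := d42_1 D48534 (iv D45875) (iv F190726)
theorem F216733 : act 9 n48534 = n45871 := d44_2 D45867 D48534 F204699 (iv D31750) (iv F132780)
def n48535 : Q := act 9 n45870
theorem D48535 : act 9 n45870 = n48535 := rfl
theorem F216734 : act 0 n48535 = n45872 := d8_1 D48535 (iv D45872) D45870
theorem F216735 : act 2 n48535 = n45900 := d23_1 D48535 (iv D45900) (iv F190735)
theorem F216736 : act 5 n48535 = n45880 := d38_1 D48535 (iv D45880) (iv F190736)
def n48536 : Q := act 3 n45871
theorem D48536 : act 3 n45871 = n48536 := rfl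
theorem F216737 : act 1 n48536 = n45873 := d10_1 D48536 (iv D45873) (iv F190738)
theorem F216738 : act 5 n48536 = n46335 := d25_2 F204770 D48536 (iv D46335)
theorem F216739 : act 7 n48536 = n46331 := d27_2 (iv F204698) D48536 (iv D46331)
def n48537 : Q := act 8 n45873
theorem D48537 : act 8 n45873 = n48537 := rfl
theorem F216740 : act 3 n48537 = n46328 := d28_1 D48537 (iv D46328) (iv D31756) (iv F132794) D45873
theorem F216741 : act 5 n48537 = n46520 := d37_1 D48537 (iv D46520) (iv F190745)
def n48538 : Q := act 9 n45873
theorem D48538 : act 9 n45873 = n48538 := rfl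
theorem F216742 : act 3 n48538 = n45874 := d29_1 D48538 (iv D45874) D45873
theorem F216743 : act 5 n48538 = n46521 := d38_1 D48538 (iv D46521) (iv F190745)
def n48539 : Q := act 3 n45875
theorem D48539 : act 3 n45875 = n48539 := rfl
theorem F216744 : act 5 n48539 = n45882 := d25_2 (iv F190750) D48539 (iv D45882)
theorem F216745 : act 9 n48539 = n46331 := d29_2 (iv F190751) D48539 (iv D46331)
def n48540 : Q := act 9 n45877
theorem D48540 : act 9 n45877 = n48540 := rfl
theorem F216746 : act 0 n48540 = n45878 := d8_1 D48540 (iv D45878) D45877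
theorem F216747 : act 2 n48540 = n45909 := d23_1 D48540 (iv D45909) (iv F190756)
theorem F216748 : act 4 n48540 = n46461 := d34_1 D48540 F207324 (iv F190757)
theorem F216749 : act 6 n48540 = n48540 := d41_1 D48540 (iv D48540) F190758
theorem F216750 : act 7 n48540 = n45880 := d43_1 D48540 (iv D45880) (iv F190759)
theorem F216751 : act 8 n48540 = n46460 := d44_1 D48540 (iv D46460) F135821 F204687 (iv F190760)
def n48541 : Q := act 3 n45879
theorem D48541 : act 3 n45879 = n48541 := rfl
theorem F216752 : act 1 n48541 = n46521 := d10_1 D48541 F207570 (iv F206662)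
theorem F216753 : act 6 n48541 = n48541 := d26_2 F190768 D48541 (iv D48541)
theorem F216754 : act 7 n48541 = n45882 := d27_2 (iv F190769) D48541 (iv D45882)
theorem F216755 : act 9 n48541 = n46335 := d29_2 (iv F190770) D48541 (iv D46335)
def n48542 : Q := act 8 n45880
theorem D48542 : act 8 n45880 = n48542 := rfl
theorem F216756 : act 0 n48542 = n45881 := d7_1 D48542 (iv D45881) (iv F190771)
theorem F216757 : act 2 n48542 = n45912 := d22_1 D48542 (iv D45912) (iv F190772)
theorem F216758 : act 4 n48542 = n46455 := d33_1 D48542 F207298 (iv F190773)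
theorem F216759 : act 6 n48542 = n45883 := d40_1 D48542 (iv D45883) (iv F190774)
theorem F216760 : act 7 n48542 = n46460 := d42_1 D48542 (iv F216751) F216750
theorem F216761 : act 9 n48542 = n46336 := d44_2 D45880 D48542 (iv D46336) (iv D31763) (iv F132820)
def n48543 : Q := act 3 n45881
theorem D48543 : act 3 n45881 = n48543 := rfl
theorem F216762 : act 1 n48543 = n45882 := d10_1 D48543 (iv D45882) (iv F190775)
theorem F216763 : act 6 n48543 = n45884 := d26_2 (iv F190778) D48543 (iv D45884)
theorem F216764 : act 7 n48543 = n46521 := d27_2 F206663 D48543 F207570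
theorem F216765 : act 9 n48543 = n46337 := d29_2 (iv F190779) D48543 (iv D46337)
def n48544 : Q := act 4 n45882
theorem D48544 : act 4 n45882 = n48544 := rfl
theorem F216766 : act 3 n48544 = n46522 := d24_1 D48544 (iv D46522) (iv D32274) (iv F132826) D45882
theorem F216767 : act 6 n48544 = n45885 := d31_2 (iv F190780) D48544 (iv D45885)
theorem F216768 : act 9 n48544 = n46338 := d34_2 (iv F190781) D48544 (iv D46338)
def n48545 : Q := act 8 n46034
theorem D48545 : act 8 n46034 = n48545 := rfl
theorem F216769 : act 0 n48545 = n46147 := d7_1 D48545 (iv D46147) (iv F204084)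
theorem F216770 : act 1 n48545 = n48545 := d15_1 D48545 (iv D48545) F191407
theorem F216771 : act 4 n48545 = n46038 := d33_1 D48545 (iv D46038) (iv F191409)
theorem F216772 : act 5 n48545 = n46156 := d37_1 D48545 (iv D46156) (iv F204085)
theorem F216773 : act 6 n48545 = n46035 := d40_1 D48545 (iv D46035) D46034
def n48546 : Q := act 9 n46035
theorem D48546 : act 9 n46035 = n48546 := rfl
theorem F216774 : act 1 n48546 = n48546 := d16_1 D48546 (iv D48546) F191411
theorem F216775 : act 4 n48546 = n46040 := d34_1 D48546 (iv D46040) (iv F191412)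
theorem F216776 : act 5 n48546 = n46556 := d38_1 D48546 (iv D46556) (iv F191413)
theorem F216777 : act 7 n48546 = n46037 := d43_1 D48546 (iv D46037) (iv F191414)
theorem F216778 : act 8 n48546 = n46263 := d44_1 D48546 (iv D46263) (iv D31709) (iv F133267) D46035
def n48547 : Q := act 9 n46036
theorem D48547 : act 9 n46036 = n48547 := rfl
theorem F216779 : act 1 n48547 = n48547 := d16_1 D48547 (iv D48547) F191415
theorem F216780 : act 3 n48547 = n46037 := d29_1 D48547 (iv D46037) D46036
theorem F216781 : act 5 n48547 = n46557 := d38_1 D48547 (iv D46557) (iv F191416)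
def n48548 : Q := act 9 n46038
theorem D48548 : act 9 n46038 = n48548 := rfl
theorem F216782 : act 1 n48548 = n48548 := d16_1 D48548 (iv D48548) F191422
theorem F216783 : act 5 n48548 = n48548 := d38_1 D48548 (iv D48548) F191423
theorem F216784 : act 6 n48548 = n46040 := d41_1 D48548 (iv D46040) (iv F191424)
theorem F216785 : act 8 n48548 = n46268 := d44_1 D48548 (iv D46268) (iv D31712) (iv F133274) D46038
def n48549 : Q := act 8 n46153
theorem D48549 : act 8 n46153 = n48549 := rfl
theorem F216786 : act 0 n48549 = n46154 := d7_1 D48549 (iv D46154) (iv F191828)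
theorem F216787 : act 1 n48549 = n48549 := d15_1 D48549 (iv D48549) F191829
theorem F216788 : act 4 n48549 = n48549 := d33_1 D48549 (iv D48549) F191831
theorem F216789 : act 6 n48549 = n48549 := d40_1 D48549 (iv D48549) F191832
theorem F216790 : act 7 n48549 = n46156 := d42_1 D48549 (iv D46156) (iv F191833)
theorem F216791 : act 3 n46426 = n48549 := d27_3 F216790 (iv F212150) (iv F212153)
def n48550 : Q := act 2 n46201
theorem D48550 : act 2 n46201 = n48550 := rfl
theorem F216792 : act 0 n48550 = n46264 := d1_1 D48550 (iv D46264) (iv F192033)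
theorem F216793 : act 5 n48550 = n46558 := d19_2 (iv F192034) D48550 (iv D46558)
theorem F216794 : act 8 n48550 = n48550 := d22_2 F192035 D48550 (iv D48550)
def n48551 : Q := act 9 n46201
theorem D48551 : act 9 n46201 = n48551 := rfl
theorem F216795 : act 0 n48551 = n46266 := d8_1 D48551 (iv D46266) (iv F192033)
theorem F216796 : act 3 n48551 = n46202 := d29_1 D48551 (iv D46202) D46201
theorem F216797 : act 5 n48551 = n46559 := d38_1 D48551 (iv D46559) (iv F192034)
def n48552 : Q := act 8 n46247
theorem D48552 : act 8 n46247 = n48552 := rfl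
theorem F216798 : act 0 n48552 = n46328 := d7_1 D48552 (iv D46328) (iv F192205)
theorem F216799 : act 2 n48552 = n48552 := d22_1 D48552 (iv D48552) F192206
theorem F216800 : act 5 n48552 = n46523 := d37_1 D48552 (iv D46523) (iv F192207)
def n48553 : Q := act 2 n46262
theorem D48553 : act 2 n46262 = n48553 := rfl
theorem F216801 : act 5 n48553 = n46560 := d19_2 (iv F192263) D48553 (iv D46560)
theorem F216802 : act 7 n48553 = n46264 := d21_2 (iv F192264) D48553 (iv D46264)
theorem F216803 : act 8 n48553 = n48553 := d22_2 F192265 D48553 (iv D48553)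
def n48554 : Q := act 4 n46262
theorem D48554 : act 4 n46262 = n48554 := rfl
theorem F216804 : act 1 n48554 = n48554 := d11_1 D48554 (iv D48554) F192262
theorem F216805 : act 3 n48554 = n46270 := d24_1 D48554 (iv D46270) (iv D31713) (iv F133881) D46262
theorem F216806 : act 5 n48554 = n48554 := d30_2 (iv F192263) D48554 (iv D48554) F192263 F146684
theorem F216807 : act 7 n48554 = n46265 := d32_2 (iv F192264) D48554 (iv D46265)
theorem F216808 : act 8 n48554 = n48554 := d33_2 F192265 D48554 (iv D48554)
def n48555 : Q := act 9 n46262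
theorem D48555 : act 9 n46262 = n48555 := rfl
theorem F216809 : act 1 n48555 = n48555 := d16_1 D48555 (iv D48555) F192262
theorem F216810 : act 3 n48555 = n46263 := d29_1 D48555 (iv D46263) D46262
theorem F216811 : act 5 n48555 = n46561 := d38_1 D48555 (iv D46561) (iv F192263)
theorem F216812 : act 7 n48555 = n46266 := d43_1 D48555 (iv D46266) (iv F192264)
def n48556 : Q := act 1 n46264
theorem D48556 : act 1 n46264 = n48556 := rfl
theorem F216813 : act 2 n48556 = n48556 := d9_2 D46264 D48556 (iv D48556) (iv D46264) F133884
theorem F216814 : act 5 n48556 = n46562 := d12_2 (iv F192270) D48556 (iv D46562)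
theorem F216815 : act 8 n48556 = n48556 := d15_2 F192271 D48556 (iv D48556)
def n48557 : Q := act 4 n46264
theorem D48557 : act 4 n46264 = n48557 := rfl
theorem F216816 : act 2 n48557 = n46265 := d18_1 D48557 (iv D46265) D46264
theorem F216817 : act 5 n48557 = n48557 := d30_2 (iv F192270) D48557 (iv D48557) F192270 F146690
theorem F216818 : act 8 n48557 = n48557 := d33_2 F192271 D48557 (iv D48557)
def n48558 : Q := act 9 n46264
theorem D48558 : act 9 n46264 = n48558 := rfl
theorem F216819 : act 2 n48558 = n46266 := d23_1 D48558 (iv D46266) D46264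
theorem F216820 : act 5 n48558 = n46563 := d38_1 D48558 (iv D46563) (iv F192270)
def n48559 : Q := act 9 n46265
theorem D48559 : act 9 n46265 = n48559 := rfl
theorem F216821 : act 1 n48559 = n48559 := d16_1 D48559 (iv D48559) F192272
theorem F216822 : act 3 n48559 = n46275 := d29_1 D48559 (iv D46275) (iv F192273)
theorem F216823 : act 4 n48559 = n46266 := d34_1 D48559 (iv D46266) D46265
theorem F216824 : act 5 n48559 = n48559 := d38_1 D48559 (iv D48559) F192274
def n48560 : Q := act 8 n46266
theorem D48560 : act 8 n46266 = n48560 := rfl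
theorem F216825 : act 1 n48560 = n48560 := d15_1 D48560 (iv D48560) F192276
theorem F216826 : act 5 n48560 = n46564 := d37_1 D48560 (iv D46564) (iv F192278)
theorem F216827 : act 9 n48560 = n48560 := d44_2 D46266 D48560 (iv D48560) (iv D46266) F133886
def n48561 : Q := act 2 n46267
theorem D48561 : act 2 n46267 = n48561 := rfl
theorem F216828 : act 5 n48561 = n48561 := d19_2 F192280 D48561 (iv D48561)
theorem F216829 : act 6 n48561 = n46269 := d20_2 (iv F192281) D48561 (iv D46269)
theorem F216830 : act 8 n48561 = n46286 := d22_2 (iv F192282) D48561 (iv D46286)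
def n48562 : Q := act 9 n46267
theorem D48562 : act 9 n46267 = n48562 := rfl
theorem F216831 : act 1 n48562 = n48562 := d16_1 D48562 (iv D48562) F192279
theorem F216832 : act 3 n48562 = n46268 := d29_1 D48562 (iv D46268) D46267
theorem F216833 : act 5 n48562 = n48562 := d38_1 D48562 (iv D48562) F192280
theorem F216834 : act 6 n48562 = n46271 := d41_1 D48562 (iv D46271) (iv F192281)
def n48563 : Q := act 1 n46269
theorem D48563 : act 1 n46269 = n48563 := rfl
theorem F216835 : act 2 n48563 = n48563 := d9_2 D46269 D48563 (iv D48563) (iv D46269) F133893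
theorem F216836 : act 5 n48563 = n46277 := d12_2 (iv F192286) D48563 (iv D46277)
theorem F216837 : act 7 n48563 = n46272 := d14_2 (iv F192287) D48563 (iv D46272)
theorem F216838 : act 8 n48563 = n46289 := d15_2 (iv F192288) D48563 (iv D46289)
def n48564 : Q := act 4 n46269
theorem D48564 : act 4 n46269 = n48564 := rfl
theorem F216839 : act 2 n48564 = n46270 := d18_1 D48564 (iv D46270) D46269
theorem F216840 : act 5 n48564 = n48564 := d30_2 (iv F192286) D48564 (iv D48564) F192286 F133908
theorem F216841 : act 7 n48564 = n46273 := d32_2 (iv F192287) D48564 (iv D46273)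
theorem F216842 : act 8 n48564 = n46290 := d33_2 (iv F192288) D48564 (iv D46290)
def n48565 : Q := act 9 n46269
theorem D48565 : act 9 n46269 = n48565 := rfl
theorem F216843 : act 2 n48565 = n46271 := d23_1 D48565 (iv D46271) D46269
theorem F216844 : act 5 n48565 = n46278 := d38_1 D48565 (iv D46278) (iv F192286)
theorem F216845 : act 7 n48565 = n46274 := d43_1 D48565 (iv D46274) (iv F192287)
def n48566 : Q := act 9 n46270
theorem D48566 : act 9 n46270 = n48566 := rfl
theorem F216846 : act 1 n48566 = n48566 := d16_1 D48566 (iv D48566) F192289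
theorem F216847 : act 4 n48566 = n46271 := d34_1 D48566 (iv D46271) D46270
theorem F216848 : act 5 n48566 = n48566 := d38_1 D48566 (iv D48566) F192290
theorem F216849 : act 7 n48566 = n46275 := d43_1 D48566 (iv D46275) (iv F192291)
def n48567 : Q := act 0 n46272
theorem D48567 : act 0 n46272 = n48567 := rfl
theorem F216850 : act 2 n48567 = n48567 := d1_2 F192297 D48567 (iv D48567)
theorem F216851 : act 5 n48567 = n46280 := d4_2 (iv F192298) D48567 (iv D46280)
theorem F216852 : act 8 n48567 = n46294 := d7_2 (iv F192299) D48567 (iv D46294)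
def n48568 : Q := act 4 n46272
theorem D48568 : act 4 n46272 = n48568 := rfl
theorem F216853 : act 1 n48568 = n46273 := d11_1 D48568 (iv D46273) D46272
theorem F216854 : act 2 n48568 = n48568 := d18_1 D48568 (iv D48568) F192297
theorem F216855 : act 5 n48568 = n48568 := d30_2 (iv F192298) D48568 (iv D48568) F192298 F133918
theorem F216856 : act 8 n48568 = n46295 := d33_2 (iv F192299) D48568 (iv D46295)
def n48569 : Q := act 9 n46272
theorem D48569 : act 9 n46272 = n48569 := rfl
theorem F216857 : act 1 n48569 = n46274 := d16_1 D48569 (iv D46274) D46272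
theorem F216858 : act 2 n48569 = n48569 := d23_1 D48569 (iv D48569) F192297
theorem F216859 : act 5 n48569 = n46281 := d38_1 D48569 (iv D46281) (iv F192298)
def n48570 : Q := act 3 n46273
theorem D48570 : act 3 n46273 = n48570 := rfl
theorem F216860 : act 5 n48570 = n48570 := d25_2 F192301 D48570 (iv D48570)
def n48571 : Q := act 9 n46273
theorem D48571 : act 9 n46273 = n48571 := rfl
theorem F216861 : act 2 n48571 = n46275 := d23_1 D48571 (iv D46275) (iv F192300)
theorem F216862 : act 4 n48571 = n46274 := d34_1 D48571 (iv D46274) D46273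
theorem F216863 : act 5 n48571 = n48571 := d38_1 D48571 (iv D48571) F192301
def n48572 : Q := act 0 n46277
theorem D48572 : act 0 n46277 = n48572 := rfl
theorem F216864 : act 2 n48572 = n48572 := d1_2 F192311 D48572 (iv D48572)
theorem F216865 : act 4 n48572 = n48572 := d3_2 F192312 D48572 (iv D48572)
theorem F216866 : act 6 n48572 = n48572 := d5_2 F192313 D48572 (iv D48572)
theorem F216867 : act 7 n48572 = n46280 := d6_2 (iv F192314) D48572 (iv D46280)
theorem F216868 : act 8 n48572 = n46301 := d7_2 (iv F192315) D48572 (iv D46301)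
def n48573 : Q := act 9 n46277
theorem D48573 : act 9 n46277 = n48573 := rfl
theorem F216869 : act 1 n48573 = n46278 := d16_1 D48573 (iv D46278) D46277
theorem F216870 : act 2 n48573 = n48573 := d23_1 D48573 (iv D48573) F192311
theorem F216871 : act 4 n48573 = n48573 := d34_1 D48573 (iv D48573) F192312
theorem F216872 : act 6 n48573 = n48573 := d41_1 D48573 (iv D48573) F192313
theorem F216873 : act 7 n48573 = n46281 := d43_1 D48573 (iv D46281) (iv F192314)
theorem F216874 : act 8 n48573 = n46526 := d44_1 D48573 (iv D46526) (iv D32353) F204700 (iv F192315)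
def n48574 : Q := act 9 n46280
theorem D48574 : act 9 n46280 = n48574 := rfl
theorem F216875 : act 0 n48574 = n46281 := d8_1 D48574 (iv D46281) D46280
theorem F216876 : act 2 n48574 = n48574 := d23_1 D48574 (iv D48574) F192325
theorem F216877 : act 4 n48574 = n48574 := d34_1 D48574 (iv D48574) F192326
theorem F216878 : act 6 n48574 = n46283 := d41_1 D48574 (iv D46283) (iv F192327)
def n48575 : Q := act 8 n46297
theorem D48575 : act 8 n46297 = n48575 := rfl
theorem F216879 : act 2 n48575 = n48575 := d22_1 D48575 (iv D48575) F192387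
theorem F216880 : act 4 n48575 = n46328 := d33_1 D48575 (iv D46328) (iv F192388)
theorem F216881 : act 5 n48575 = n48575 := d37_1 D48575 (iv D48575) F192389
def n48576 : Q := act 9 n46328
theorem D48576 : act 9 n46328 = n48576 := rfl
theorem F216882 : act 2 n48576 = n48576 := d23_1 D48576 (iv D48576) F192493
theorem F216883 : act 5 n48576 = n46526 := d38_1 D48576 (iv D46526) (iv F192494)
def n48577 : Q := act 4 n46331
theorem D48577 : act 4 n46331 = n48577 := rfl
def n48578 : Q := act 4 n46335
theorem D48578 : act 4 n46335 = n48578 := rfl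
theorem F216884 : act 1 n48578 = n46476 := d11_1 D48578 F207395 F206673
theorem F216885 : act 3 n48578 = n46474 := d24_1 D48578 (iv D46474) F135899 F204836 D46335
theorem F216886 : act 6 n48578 = n48578 := d31_2 F192515 D48578 (iv D48578)
theorem F216887 : act 7 n48578 = n46338 := d32_2 (iv F192516) D48578 (iv D46338)
def n48579 : Q := act 5 n46338
theorem D48579 : act 5 n46338 = n48579 := rfl
theorem F216888 : act 3 n48579 = n46527 := d25_1 D48579 (iv D46527) (iv F192523)
def n48580 : Q := act 3 n46342
theorem D48580 : act 3 n46342 = n48580 := rfl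
theorem F216889 : act 0 n48580 = n46357 := d2_1 D48580 (iv D46357) (iv F206844)
theorem F216890 : act 2 n48580 = n48580 := d17_1 D48580 (iv D48580) F206845 F134463 (iv F206845)
theorem F216891 : act 5 n48580 = n48580 := d25_2 F206846 D48580 (iv D48580)
theorem F216892 : act 7 n48580 = n46380 := d27_2 (iv F206847) D48580 (iv D46380)
theorem F216893 : act 9 n48580 = n48580 := d29_2 F206848 D48580 (iv D48580)
def n48581 : Q := act 9 n46343
theorem D48581 : act 9 n46343 = n48581 := rfl
theorem F216894 : act 1 n48581 = n46346 := d16_1 D48581 (iv D46346) (iv F206849)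
theorem F216895 : act 2 n48581 = n48581 := d23_1 D48581 (iv D48581) F206850
theorem F216896 : act 4 n48581 = n46344 := d34_1 D48581 (iv D46344) D46343
theorem F216897 : act 7 n48581 = n46397 := d43_1 D48581 (iv D46397) (iv F206851)
def n48582 : Q := act 9 n46345
theorem D48582 : act 9 n46345 = n48582 := rfl
theorem F216898 : act 2 n48582 = n46347 := d23_1 D48582 (iv D46347) (iv F206857)
theorem F216899 : act 4 n48582 = n48582 := d34_1 D48582 (iv D48582) F206858
theorem F216900 : act 5 n48582 = n46346 := d38_1 D48582 (iv D46346) D46345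
theorem F216901 : act 7 n48582 = n46400 := d43_1 D48582 (iv D46400) (iv F206859)
def n48583 : Q := act 8 n46350
theorem D48583 : act 8 n46350 = n48583 := rfl
theorem F216902 : act 1 n48583 = n46364 := d15_1 D48583 (iv D46364) (iv F206878)
theorem F216903 : act 4 n48583 = n46351 := d33_1 D48583 (iv D46351) (iv F206880)
theorem F216904 : act 6 n48583 = n48583 := d40_1 D48583 (iv D48583) F206881
theorem F216905 : act 9 n48583 = n48583 := d44_2 D46350 D48583 (iv D48583) (iv D46350) F134636
def n48584 : Q := act 8 n46353
theorem D48584 : act 8 n46353 = n48584 := rfl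
theorem F216906 : act 1 n48584 = n46354 := d15_1 D48584 (iv D46354) (iv F206892)
theorem F216907 : act 2 n48584 = n46368 := d22_1 D48584 (iv D46368) (iv F206893)
theorem F216908 : act 6 n48584 = n46356 := d40_1 D48584 (iv D46356) (iv F206894)
theorem F216909 : act 9 n48584 = n48584 := d44_2 D46353 D48584 (iv D48584) (iv D46353) F134650
def n48585 : Q := act 8 n46355
theorem D48585 : act 8 n46355 = n48585 := rfl
theorem F216910 : act 0 n48585 = n46356 := d7_1 D48585 (iv D46356) (iv F206898)
theorem F216911 : act 2 n48585 = n46370 := d22_1 D48585 (iv D46370) (iv F206899)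
theorem F216912 : act 5 n48585 = n48585 := d37_1 D48585 (iv D48585) F206900
theorem F216913 : act 7 n48585 = n46421 := d42_1 D48585 (iv D46421) (iv F206901)
theorem F216914 : act 9 n48585 = n48585 := d44_2 D46355 D48585 (iv D48585) (iv D46355) F134660
def n48586 : Q := act 3 n46356
theorem D48586 : act 3 n46356 = n48586 := rfl
theorem F216915 : act 1 n48586 = n46357 := d10_1 D48586 (iv D46357) (iv F206902)
theorem F216916 : act 5 n48586 = n48586 := d25_2 F206904 D48586 (iv D48586)
theorem F216917 : act 7 n48586 = n46422 := d27_2 (iv F206905) D48586 (iv D46422)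
theorem F216918 : act 9 n48586 = n48586 := d29_2 F206906 D48586 (iv D48586)
def n48587 : Q := act 4 n46357
theorem D48587 : act 4 n46357 = n48587 := rfl
theorem F216919 : act 2 n48587 = n48587 := d18_1 D48587 (iv D48587) F206907
theorem F216920 : act 7 n48587 = n46423 := d32_2 (iv F206909) D48587 (iv D46423)
theorem F216921 : act 9 n48587 = n48587 := d34_2 F206910 D48587 (iv D48587)
def n48588 : Q := act 8 n46358
theorem D48588 : act 8 n46358 = n48588 := rfl
theorem F216922 : act 0 n48588 = n48588 := d7_1 D48588 (iv D48588) F206911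
theorem F216923 : act 2 n48588 = n46360 := d22_1 D48588 (iv D46360) (iv F206912)
theorem F216924 : act 5 n48588 = n46366 := d37_1 D48588 (iv D46366) (iv F206914)
theorem F216925 : act 7 n48588 = n46363 := d42_1 D48588 (iv D46363) (iv F206915)
theorem F216926 : act 9 n48588 = n48588 := d44_2 D46358 D48588 (iv D48588) (iv D46358) F134685
def n48589 : Q := act 8 n46361
theorem D48589 : act 8 n46361 = n48589 := rfl
theorem F216927 : act 1 n48589 = n46363 := d15_1 D48589 (iv D46363) (iv F206925)
theorem F216928 : act 5 n48589 = n46368 := d37_1 D48589 (iv D46368) (iv F206927)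
theorem F216929 : act 6 n48589 = n48589 := d40_1 D48589 (iv D48589) F206928
theorem F216930 : act 9 n48589 = n48589 := d44_2 D46361 D48589 (iv D48589) (iv D46361) F134697
def n48590 : Q := act 8 n46362
theorem D48590 : act 8 n46362 = n48590 := rfl
theorem F216931 : act 0 n48590 = n48590 := d7_1 D48590 (iv D48590) F206929
theorem F216932 : act 2 n48590 = n46364 := d22_1 D48590 (iv D46364) (iv F206930)
theorem F216933 : act 3 n48590 = n48590 := d28_1 D48590 (iv D48590) (iv F210108) F210113 F210108
theorem F216934 : act 4 n48590 = n46363 := d33_1 D48590 (iv D46363) (iv F206931)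
theorem F216935 : act 6 n48590 = n48590 := d40_1 D48590 (iv D48590) F206932
theorem F216936 : act 9 n48590 = n48590 := d44_2 D46362 D48590 (iv D48590) (iv D46362) F134701
def n48591 : Q := act 3 n46363
theorem D48591 : act 3 n46363 = n48591 := rfl
theorem F216937 : act 0 n48591 = n48591 := d2_1 D48591 (iv D48591) F206933
theorem F216938 : act 2 n48591 = n48591 := d17_1 D48591 (iv D48591) F206934 F134712 (iv F206934)
theorem F216939 : act 4 n48591 = n48591 := d24_2 F216934 D48591 (iv D48591) (iv F216934) F216933
theorem F216940 : act 5 n48591 = n46369 := d25_2 (iv F206935) D48591 (iv D46369)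
theorem F216941 : act 6 n48591 = n48591 := d26_2 F206936 D48591 (iv D48591)
theorem F216942 : act 8 n48591 = n48591 := d28_2 D46363 D48591 (iv D48591) (iv D46363) F134704
theorem F216943 : act 9 n48591 = n48591 := d29_2 F206937 D48591 (iv D48591)
def n48592 : Q := act 3 n46364
theorem D48592 : act 3 n46364 = n48592 := rfl
theorem F216944 : act 0 n48592 = n48592 := d2_1 D48592 (iv D48592) F206938
theorem F216945 : act 2 n48592 = n48592 := d17_1 D48592 (iv D48592) (iv F216932) F216933 F216932
theorem F216946 : act 4 n48592 = n48592 := d24_2 (iv F206939) D48592 (iv D48592) F206939 F134712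
theorem F216947 : act 5 n48592 = n46372 := d25_2 F215453 D48592 F215456
theorem F216948 : act 6 n48592 = n48592 := d26_2 F206940 D48592 (iv D48592)
theorem F216949 : act 7 n48592 = n46441 := d27_2 F216047 D48592 (iv F216045)
theorem F216950 : act 8 n48592 = n48592 := d28_2 D46364 D48592 (iv D48592) (iv D46364) F134708
theorem F216951 : act 9 n48592 = n48592 := d29_2 F206941 D48592 (iv D48592)
def n48593 : Q := act 8 n46365
theorem D48593 : act 8 n46365 = n48593 := rfl
theorem F216952 : act 1 n48593 = n46366 := d15_1 D48593 (iv D46366) (iv F206942)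
theorem F216953 : act 6 n48593 = n46433 := d40_1 D48593 (iv D46433) (iv F206944)
theorem F216954 : act 7 n48593 = n46368 := d42_1 D48593 (iv D46368) (iv F206945)
theorem F216955 : act 9 n48593 = n48593 := d44_2 D46365 D48593 (iv D48593) (iv D46365) F134719
def n48594 : Q := act 3 n46366
theorem D48594 : act 3 n46366 = n48594 := rfl
theorem F216956 : act 0 n48594 = n48594 := d2_1 D48594 (iv D48594) F206946
theorem F216957 : act 2 n48594 = n48594 := d17_1 D48594 (iv D48594) F206947 F134726 (iv F206947)
theorem F216958 : act 6 n48594 = n46434 := d26_2 (iv F206948) D48594 (iv D46434)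
theorem F216959 : act 7 n48594 = n46369 := d27_2 (iv F206949) D48594 (iv D46369)
theorem F216960 : act 8 n48594 = n48594 := d28_2 D46366 D48594 (iv D48594) (iv D46366) F134722
theorem F216961 : act 9 n48594 = n48594 := d29_2 F206950 D48594 (iv D48594)
def n48595 : Q := act 8 n46367
theorem D48595 : act 8 n46367 = n48595 := rfl
theorem F216962 : act 0 n48595 = n46368 := d7_1 D48595 (iv D46368) (iv F206951)
theorem F216963 : act 1 n48595 = n48595 := d15_1 D48595 (iv D48595) F206952
theorem F216964 : act 6 n48595 = n46370 := d40_1 D48595 (iv D46370) (iv F206954)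
theorem F216965 : act 9 n48595 = n48595 := d44_2 D46367 D48595 (iv D48595) (iv D46367) F134733
def n48596 : Q := act 3 n46368
theorem D48596 : act 3 n46368 = n48596 := rfl
theorem F216966 : act 1 n48596 = n46369 := d10_1 D48596 (iv D46369) (iv F206955)
theorem F216967 : act 6 n48596 = n46371 := d26_2 (iv F206956) D48596 (iv D46371)
theorem F216968 : act 8 n48596 = n48596 := d28_2 D46368 D48596 (iv D48596) (iv D46368) F134735
theorem F216969 : act 9 n48596 = n48596 := d29_2 F206957 D48596 (iv D48596)
def n48597 : Q := act 4 n46369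
theorem D48597 : act 4 n46369 = n48597 := rfl
theorem F216970 : act 0 n48597 = n48597 := d3_1 D48597 (iv D48597) F206958
theorem F216971 : act 2 n48597 = n48597 := d18_1 D48597 (iv D48597) F206959
theorem F216972 : act 5 n48597 = n48597 := d30_2 F216940 D48597 (iv D48597) (iv F216940) F216939
theorem F216973 : act 6 n48597 = n46372 := d31_2 (iv F206960) D48597 (iv D46372)
theorem F216974 : act 8 n48597 = n48597 := d33_2 F206961 D48597 (iv D48597)
theorem F216975 : act 9 n48597 = n48597 := d34_2 F206962 D48597 (iv D48597)
def n48598 : Q := act 3 n46370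
theorem D48598 : act 3 n46370 = n48598 := rfl
theorem F216976 : act 0 n48598 = n46371 := d2_1 D48598 (iv D46371) (iv F206963)
theorem F216977 : act 1 n48598 = n48598 := d10_1 D48598 (iv D48598) F206964
theorem F216978 : act 5 n48598 = n48598 := d25_2 F206965 D48598 (iv D48598)
theorem F216979 : act 7 n48598 = n46438 := d27_2 (iv F206966) D48598 (iv D46438)
theorem F216980 : act 8 n48598 = n48598 := d28_2 D46370 D48598 (iv D48598) (iv D46370) F134743
theorem F216981 : act 9 n48598 = n48598 := d29_2 F206967 D48598 (iv D48598)
def n48599 : Q := act 2 n46371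
theorem D48599 : act 2 n46371 = n48599 := rfl
theorem F216982 : act 1 n48599 = n48599 := d9_1 D48599 (iv D48599) F206968 F134751 (iv F206968)
theorem F216983 : act 5 n48599 = n48599 := d19_2 F206969 D48599 (iv D48599)
theorem F216984 : act 7 n48599 = n46439 := d21_2 (iv F206970) D48599 (iv D46439)
theorem F216985 : act 8 n48599 = n48599 := d22_2 F206971 D48599 (iv D48599)
theorem F216986 : act 9 n48599 = n48599 := d23_2 F206972 D48599 (iv D48599)
def n48600 : Q := act 4 n46371
theorem D48600 : act 4 n46371 = n48600 := rfl
theorem F216987 : act 1 n48600 = n46372 := d11_1 D48600 (iv D46372) (iv F206968)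
theorem F216988 : act 7 n48600 = n46440 := d32_2 (iv F206970) D48600 (iv D46440)
theorem F216989 : act 8 n48600 = n48600 := d33_2 F206971 D48600 (iv D48600)
theorem F216990 : act 9 n48600 = n48600 := d34_2 F206972 D48600 (iv D48600)
def n48601 : Q := act 3 n46373
theorem D48601 : act 3 n46373 = n48601 := rfl
theorem F216991 : act 0 n48601 = n46402 := d2_1 D48601 (iv D46402) (iv F206978)
theorem F216992 : act 2 n48601 = n48601 := d17_1 D48601 (iv D48601) F206979 F134983 (iv F206979)
theorem F216993 : act 5 n48601 = n48601 := d25_2 F206980 D48601 (iv D48601)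
theorem F216994 : act 8 n48601 = n46380 := d28_2 D46373 D48601 (iv D46380) (iv D32004) (iv F134974)
def n48602 : Q := act 8 n46374
theorem D48602 : act 8 n46374 = n48602 := rfl
theorem F216995 : act 0 n48602 = n46415 := d7_1 D48602 (iv D46415) (iv F206981)
theorem F216996 : act 1 n48602 = n48602 := d15_1 D48602 (iv D48602) F206982
theorem F216997 : act 4 n48602 = n46375 := d33_1 D48602 (iv D46375) (iv F206984)
theorem F216998 : act 6 n48602 = n48602 := d40_1 D48602 (iv D48602) F206985
theorem F216999 : act 9 n48602 = n48602 := d44_2 D46374 D48602 (iv D48602) (iv D46374) F135052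
def n48603 : Q := act 3 n46377
theorem D48603 : act 3 n46377 = n48603 := rfl
theorem F217000 : act 0 n48603 = n46420 := d2_1 D48603 (iv D46420) (iv F206997)
theorem F217001 : act 2 n48603 = n48603 := d17_1 D48603 (iv D48603) F206998 F135073 (iv F206998)
theorem F217002 : act 6 n48603 = n46380 := d26_2 (iv F206999) D48603 (iv D46380)
theorem F217003 : act 9 n48603 = n48603 := d29_2 F207000 D48603 (iv D48603)
def n48604 : Q := act 8 n46378
theorem D48604 : act 8 n46378 = n48604 := rfl
theorem F217004 : act 0 n48604 = n46379 := d7_1 D48604 (iv D46379) (iv F207001)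
theorem F217005 : act 1 n48604 = n46421 := d15_1 D48604 (iv D46421) (iv F207002)
theorem F217006 : act 2 n48604 = n48604 := d22_1 D48604 (iv D48604) F207003
theorem F217007 : act 5 n48604 = n48604 := d37_1 D48604 (iv D48604) F207004
theorem F217008 : act 9 n48604 = n48604 := d44_2 D46378 D48604 (iv D48604) (iv D46378) F135079
def n48605 : Q := act 3 n46379
theorem D48605 : act 3 n46379 = n48605 := rfl
theorem F217009 : act 1 n48605 = n46380 := d10_1 D48605 (iv D46380) (iv F207005)
theorem F217010 : act 5 n48605 = n48605 := d25_2 F207007 D48605 (iv D48605)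
theorem F217011 : act 9 n48605 = n48605 := d29_2 F207008 D48605 (iv D48605)
def n48606 : Q := act 4 n46380
theorem D48606 : act 4 n46380 = n48606 := rfl
theorem F217012 : act 0 n48606 = n46423 := d3_1 D48606 (iv D46423) (iv F207009)
theorem F217013 : act 2 n48606 = n48606 := d18_1 D48606 (iv D48606) F207010
theorem F217014 : act 9 n48606 = n48606 := d34_2 F207012 D48606 (iv D48606)
def n48607 : Q := act 5 n46387
theorem D48607 : act 5 n46387 = n48607 := rfl
theorem F217015 : act 1 n48607 = n46389 := d12_1 D48607 (iv D46389) (iv F207035)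
theorem F217016 : act 2 n48607 = n48607 := d19_1 D48607 (iv D48607) F207036
def n48608 : Q := act 9 n46387
theorem D48608 : act 9 n46387 = n48608 := rfl
theorem F217017 : act 1 n48608 = n46390 := d16_1 D48608 (iv D46390) (iv F207035)
theorem F217018 : act 2 n48608 = n48608 := d23_1 D48608 (iv D48608) F207036
theorem F217019 : act 4 n48608 = n46388 := d34_1 D48608 (iv D46388) D46387
theorem F217020 : act 6 n48608 = n46397 := d41_1 D48608 (iv D46397) (iv F207037)
def n48609 : Q := act 6 n46389
theorem D48609 : act 6 n46389 = n48609 := rfl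
theorem F217021 : act 2 n48609 = n46391 := d20_1 D48609 (iv D46391) (iv F207042)
theorem F217022 : act 5 n48609 = n46399 := d35_1 D48609 (iv D46399) (iv D32038) (iv F135182) D46389
def n48610 : Q := act 9 n46389
theorem D48610 : act 9 n46389 = n48610 := rfl
theorem F217023 : act 2 n48610 = n46392 := d23_1 D48610 (iv D46392) (iv F207042)
theorem F217024 : act 5 n48610 = n46390 := d38_1 D48610 (iv D46390) D46389
def n48611 : Q := act 9 n46391
theorem D48611 : act 9 n46391 = n48611 := rfl
theorem F217025 : act 1 n48611 = n48611 := d16_1 D48611 (iv D48611) F207046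
theorem F217026 : act 3 n48611 = n46408 := d29_1 D48611 (iv D46408) (iv F207047)
theorem F217027 : act 5 n48611 = n46404 := d38_1 D48611 (iv D46404) (iv F207048)
theorem F217028 : act 6 n48611 = n46392 := d41_1 D48611 (iv D46392) D46391
def n48612 : Q := act 8 n46392
theorem D48612 : act 8 n46392 = n48612 := rfl
theorem F217029 : act 1 n48612 = n48612 := d15_1 D48612 (iv D48612) F207049
theorem F217030 : act 4 n48612 = n46519 := d33_1 D48612 (iv F209670) F209667
theorem F217031 : act 5 n48612 = n46393 := d37_1 D48612 (iv D46393) (iv F207051)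
theorem F217032 : act 7 n48612 = n46408 := d42_1 D48612 (iv F208831) F208830
theorem F217033 : act 9 n48612 = n46407 := d44_2 D46392 D48612 F207099 (iv F206740) F206543
def n48613 : Q := act 5 n46394
theorem D48613 : act 5 n46394 = n48613 := rfl
theorem F217034 : act 0 n48613 = n46396 := d4_1 D48613 (iv D46396) (iv F207057)
theorem F217035 : act 2 n48613 = n48613 := d19_1 D48613 (iv D48613) F207058
theorem F217036 : act 4 n48613 = n48613 := d30_1 D48613 (iv D48613) (iv D46394) F135197 D46394
def n48614 : Q := act 9 n46394
theorem D48614 : act 9 n46394 = n48614 := rfl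
theorem F217037 : act 0 n48614 = n46397 := d8_1 D48614 (iv D46397) (iv F207057)
theorem F217038 : act 2 n48614 = n48614 := d23_1 D48614 (iv D48614) F207058
theorem F217039 : act 4 n48614 = n46395 := d34_1 D48614 (iv D46395) D46394
def n48615 : Q := act 8 n46395
theorem D48615 : act 8 n46395 = n48615 := rfl
theorem F217040 : act 0 n48615 = n46398 := d7_1 D48615 (iv D46398) (iv F207059)
theorem F217041 : act 2 n48615 = n48615 := d22_1 D48615 (iv D48615) F207060
theorem F217042 : act 5 n48615 = n48615 := d37_1 D48615 (iv D48615) F207062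
def n48616 : Q := act 9 n46396
theorem D48616 : act 9 n46396 = n48616 := rfl
theorem F217043 : act 1 n48616 = n46400 := d16_1 D48616 (iv D46400) (iv F207063)
theorem F217044 : act 2 n48616 = n48616 := d23_1 D48616 (iv D48616) F207064
theorem F217045 : act 4 n48616 = n48616 := d34_1 D48616 (iv D48616) F207065
theorem F217046 : act 5 n48616 = n46397 := d38_1 D48616 (iv D46397) D46396
def n48617 : Q := act 8 n46397
theorem D48617 : act 8 n46397 = n48617 := rfl
theorem F217047 : act 1 n48617 = n46401 := d15_1 D48617 (iv D46401) (iv F207066)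
theorem F217048 : act 2 n48617 = n48617 := d22_1 D48617 (iv D48617) F207067
theorem F217049 : act 4 n48617 = n46398 := d33_1 D48617 (iv D46398) (iv F207068)
def n48618 : Q := act 3 n46398
theorem D48618 : act 3 n46398 = n48618 := rfl
theorem F217050 : act 1 n48618 = n46402 := d10_1 D48618 (iv D46402) (iv F207069)
theorem F217051 : act 5 n48618 = n48618 := d25_2 F207071 D48618 (iv D48618)
theorem F217052 : act 8 n48618 = n46422 := d28_2 D46398 D48618 (iv D46422) (iv D32075) (iv F135202)
def n48619 : Q := act 9 n46399
theorem D48619 : act 9 n46399 = n48619 := rfl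
theorem F217053 : act 2 n48619 = n46404 := d23_1 D48619 (iv D46404) (iv F207072)
theorem F217054 : act 4 n48619 = n48619 := d34_1 D48619 (iv D48619) F207073
theorem F217055 : act 6 n48619 = n46400 := d41_1 D48619 (iv D46400) D46399
def n48620 : Q := act 8 n46400
theorem D48620 : act 8 n46400 = n48620 := rfl
theorem F217056 : act 2 n48620 = n46405 := d22_1 D48620 (iv D46405) (iv F207074)
theorem F217057 : act 4 n48620 = n48620 := d33_1 D48620 (iv D48620) F207075
theorem F217058 : act 5 n48620 = n46401 := d37_1 D48620 (iv D46401) (iv F207076)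
def n48621 : Q := act 3 n46401
theorem D48621 : act 3 n46401 = n48621 := rfl
def n48622 : Q := act 4 n46402
theorem D48622 : act 4 n46402 = n48622 := rfl
theorem F217059 : act 2 n48622 = n48622 := d18_1 D48622 (iv D48622) F207079
theorem F217060 : act 8 n48622 = n46423 := d33_2 (iv F207081) D48622 (iv D46423)
def n48623 : Q := act 3 n46410
theorem D48623 : act 3 n46410 = n48623 := rfl
theorem F217061 : act 1 n48623 = n46412 := d10_1 D48623 (iv D46412) (iv F207109)
theorem F217062 : act 6 n48623 = n48623 := d26_2 F207111 D48623 (iv D48623)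
def n48624 : Q := act 9 n46410
theorem D48624 : act 9 n46410 = n48624 := rfl
theorem F217063 : act 1 n48624 = n46413 := d16_1 D48624 (iv D46413) (iv F207109)
theorem F217064 : act 2 n48624 = n46428 := d23_1 D48624 (iv D46428) (iv F207110)
theorem F217065 : act 4 n48624 = n46411 := d34_1 D48624 (iv D46411) D46410
theorem F217066 : act 6 n48624 = n48624 := d41_1 D48624 (iv D48624) F207111
def n48625 : Q := act 8 n46411
theorem D48625 : act 8 n46411 = n48625 := rfl
theorem F217067 : act 1 n48625 = n46414 := d15_1 D48625 (iv D46414) (iv F207113)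
theorem F217068 : act 2 n48625 = n46429 := d22_1 D48625 (iv D46429) (iv F207114)
theorem F217069 : act 5 n48625 = n46419 := d37_1 D48625 (iv D46419) (iv F207115)
theorem F217070 : act 6 n48625 = n48625 := d40_1 D48625 (iv D48625) F207116
theorem F217071 : act 9 n48625 = n48625 := d44_2 D46411 D48625 (iv D48625) (iv D46411) F135294
def n48626 : Q := act 8 n46412
theorem D48626 : act 8 n46412 = n48626 := rfl
theorem F217072 : act 2 n48626 = n46520 := d22_1 D48626 (iv D46520) (iv F207117)
theorem F217073 : act 3 n48626 = n48626 := d28_1 D48626 (iv D48626) (iv D46412) F135297 D46412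
theorem F217074 : act 6 n48626 = n48626 := d40_1 D48626 (iv D48626) F207118
def n48627 : Q := act 9 n46412
theorem D48627 : act 9 n46412 = n48627 := rfl
theorem F217075 : act 2 n48627 = n46521 := d23_1 D48627 (iv D46521) (iv F207117)
theorem F217076 : act 3 n48627 = n46413 := d29_1 D48627 (iv D46413) D46412
theorem F217077 : act 6 n48627 = n48627 := d41_1 D48627 (iv D48627) F207118
def n48628 : Q := act 8 n46413
theorem D48628 : act 8 n46413 = n48628 := rfl
theorem F217078 : act 2 n48628 = n46415 := d22_1 D48628 (iv D46415) (iv F207119)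
theorem F217079 : act 4 n48628 = n46414 := d33_1 D48628 (iv D46414) (iv F207120)
theorem F217080 : act 6 n48628 = n48628 := d40_1 D48628 (iv D48628) F207121
theorem F217081 : act 9 n48628 = n48628 := d44_2 D46413 D48628 (iv D48628) (iv D46413) F135297
def n48629 : Q := act 8 n46416
theorem D48629 : act 8 n46416 = n48629 := rfl
theorem F217082 : act 1 n48629 = n46417 := d15_1 D48629 (iv D46417) (iv F207130)
theorem F217083 : act 2 n48629 = n46433 := d22_1 D48629 (iv D46433) (iv F207131)
theorem F217084 : act 7 n48629 = n46419 := d42_1 D48629 (iv D46419) (iv F207132)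
theorem F217085 : act 9 n48629 = n48629 := d44_2 D46416 D48629 (iv D48629) (iv D46416) F135312
def n48630 : Q := act 8 n46418
theorem D48630 : act 8 n46418 = n48630 := rfl
theorem F217086 : act 0 n48630 = n46419 := d7_1 D48630 (iv D46419) (iv F207136)
theorem F217087 : act 2 n48630 = n46435 := d22_1 D48630 (iv D46435) (iv F207137)
theorem F217088 : act 6 n48630 = n46421 := d40_1 D48630 (iv D46421) (iv F207138)
theorem F217089 : act 9 n48630 = n48630 := d44_2 D46418 D48630 (iv D48630) (iv D46418) F135321
def n48631 : Q := act 3 n46419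
theorem D48631 : act 3 n46419 = n48631 := rfl
theorem F217090 : act 1 n48631 = n46420 := d10_1 D48631 (iv D46420) (iv F207139)
theorem F217091 : act 6 n48631 = n46422 := d26_2 (iv F207141) D48631 (iv D46422)
theorem F217092 : act 9 n48631 = n48631 := d29_2 F207142 D48631 (iv D48631)
def n48632 : Q := act 4 n46420
theorem D48632 : act 4 n46420 = n48632 := rfl
theorem F217093 : act 2 n48632 = n48632 := d18_1 D48632 (iv D48632) F207143
theorem F217094 : act 6 n48632 = n46423 := d31_2 (iv F207144) D48632 (iv D46423)
theorem F217095 : act 9 n48632 = n48632 := d34_2 F207145 D48632 (iv D48632)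
def n48633 : Q := act 3 n46421
theorem D48633 : act 3 n46421 = n48633 := rfl
theorem F217096 : act 0 n48633 = n46422 := d2_1 D48633 (iv D46422) (iv F207146)
theorem F217097 : act 5 n48633 = n48633 := d25_2 F207148 D48633 (iv D48633)
theorem F217098 : act 9 n48633 = n48633 := d29_2 F207149 D48633 (iv D48633)
def n48634 : Q := act 2 n46422
theorem D48634 : act 2 n46422 = n48634 := rfl
theorem F217099 : act 1 n48634 = n48634 := d9_1 D48634 (iv D48634) F207150 F135335 (iv F207150)
theorem F217100 : act 3 n48634 = n46439 := d17_2 D46422 D48634 (iv D46439) (iv D32099) (iv F135332)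
theorem F217101 : act 5 n48634 = n48634 := d19_2 F207151 D48634 (iv D48634)
theorem F217102 : act 9 n48634 = n48634 := d23_2 F207152 D48634 (iv D48634)
def n48635 : Q := act 4 n46422
theorem D48635 : act 4 n46422 = n48635 := rfl
theorem F217103 : act 1 n48635 = n46423 := d11_1 D48635 (iv D46423) (iv F207150)
theorem F217104 : act 9 n48635 = n48635 := d34_2 F207152 D48635 (iv D48635)
def n48636 : Q := act 5 n46423
theorem D48636 : act 5 n46423 = n48636 := rfl
theorem F217105 : act 2 n48636 = n48636 := d19_1 D48636 (iv D48636) F207153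
theorem F217106 : act 4 n48636 = n48636 := d30_1 D48636 (iv D48636) (iv D46423) F135336 D46423
theorem F217107 : act 9 n48636 = n48636 := d38_2 F207154 D48636 (iv D48636)
def n48637 : Q := act 8 n46424
theorem D48637 : act 8 n46424 = n48637 := rfl
theorem F217108 : act 1 n48637 = n46425 := d15_1 D48637 (iv D46425) (iv F207155)
theorem F217109 : act 5 n48637 = n46433 := d37_1 D48637 (iv D46433) (iv F207157)
theorem F217110 : act 7 n48637 = n46429 := d42_1 D48637 (iv D46429) (iv F207158)
theorem F217111 : act 9 n48637 = n48637 := d44_2 D46424 D48637 (iv D48637) (iv D46424) F135355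
def n48638 : Q := act 3 n46425
theorem D48638 : act 3 n46425 = n48638 := rfl
theorem F217112 : act 0 n48638 = n48638 := d2_1 D48638 (iv D48638) F207159
theorem F217113 : act 2 n48638 = n48638 := d17_1 D48638 (iv D48638) F207160 F135370 (iv F207160)
theorem F217114 : act 5 n48638 = n46434 := d25_2 (iv F207161) D48638 (iv D46434)
theorem F217115 : act 7 n48638 = n46431 := d27_2 (iv F207162) D48638 (iv D46431)
theorem F217116 : act 8 n48638 = n48638 := d28_2 D46425 D48638 (iv D48638) (iv D46425) F135362
theorem F217117 : act 9 n48638 = n48638 := d29_2 F207163 D48638 (iv D48638)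
def n48639 : Q := act 9 n46426
theorem D48639 : act 9 n46426 = n48639 := rfl
theorem F217118 : act 0 n48639 = n46428 := d8_1 D48639 (iv D46428) (iv F207164)
theorem F217119 : act 1 n48639 = n48639 := d16_1 D48639 (iv D48639) F207165
theorem F217120 : act 4 n48639 = n46427 := d34_1 D48639 (iv D46427) D46426
theorem F217121 : act 6 n48639 = n48639 := d41_1 D48639 (iv D48639) F207166
def n48640 : Q := act 8 n46427
theorem D48640 : act 8 n46427 = n48640 := rfl
theorem F217122 : act 0 n48640 = n46429 := d7_1 D48640 (iv D46429) (iv F207168)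
theorem F217123 : act 1 n48640 = n48640 := d15_1 D48640 (iv D48640) F207169
theorem F217124 : act 5 n48640 = n46435 := d37_1 D48640 (iv D46435) (iv F207171)
theorem F217125 : act 6 n48640 = n48640 := d40_1 D48640 (iv D48640) F207172
theorem F217126 : act 9 n48640 = n48640 := d44_2 D46427 D48640 (iv D48640) (iv D46427) F135378
def n48641 : Q := act 8 n46428
theorem D48641 : act 8 n46428 = n48641 := rfl
theorem F217127 : act 1 n48641 = n46430 := d15_1 D48641 (iv D46430) (iv F207173)
theorem F217128 : act 4 n48641 = n46429 := d33_1 D48641 (iv D46429) (iv F207174)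
theorem F217129 : act 6 n48641 = n48641 := d40_1 D48641 (iv D48641) F207175
theorem F217130 : act 9 n48641 = n48641 := d44_2 D46428 D48641 (iv D48641) (iv D46428) F135381
def n48642 : Q := act 3 n46429
theorem D48642 : act 3 n46429 = n48642 := rfl
theorem F217131 : act 1 n48642 = n46431 := d10_1 D48642 (iv D46431) (iv F207176)
theorem F217132 : act 5 n48642 = n46436 := d25_2 (iv F207177) D48642 (iv D46436)
theorem F217133 : act 6 n48642 = n48642 := d26_2 F207178 D48642 (iv D48642)
theorem F217134 : act 8 n48642 = n48642 := d28_2 D46429 D48642 (iv D48642) (iv D46429) F135383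
theorem F217135 : act 9 n48642 = n48642 := d29_2 F207179 D48642 (iv D48642)
def n48643 : Q := act 4 n46431
theorem D48643 : act 4 n46431 = n48643 := rfl
theorem F217136 : act 0 n48643 = n48643 := d3_1 D48643 (iv D48643) F207185
theorem F217137 : act 2 n48643 = n48643 := d18_1 D48643 (iv D48643) F207186
theorem F217138 : act 6 n48643 = n48643 := d31_2 F207188 D48643 (iv D48643)
theorem F217139 : act 8 n48643 = n48643 := d33_2 F207189 D48643 (iv D48643)
theorem F217140 : act 9 n48643 = n48643 := d34_2 F207190 D48643 (iv D48643)
def n48644 : Q := act 8 n46432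
theorem D48644 : act 8 n46432 = n48644 := rfl
theorem F217141 : act 0 n48644 = n46433 := d7_1 D48644 (iv D46433) (iv F207191)
theorem F217142 : act 1 n48644 = n48644 := d15_1 D48644 (iv D48644) F207192
theorem F217143 : act 7 n48644 = n46435 := d42_1 D48644 (iv D46435) (iv F207194)
theorem F217144 : act 9 n48644 = n48644 := d44_2 D46432 D48644 (iv D48644) (iv D46432) F135406
def n48645 : Q := act 3 n46433
theorem D48645 : act 3 n46433 = n48645 := rfl
theorem F217145 : act 1 n48645 = n46434 := d10_1 D48645 (iv D46434) (iv F207195)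
theorem F217146 : act 7 n48645 = n46436 := d27_2 (iv F207196) D48645 (iv D46436)
theorem F217147 : act 8 n48645 = n48645 := d28_2 D46433 D48645 (iv D48645) (iv D46433) F135408
theorem F217148 : act 9 n48645 = n48645 := d29_2 F207197 D48645 (iv D48645)
def n48646 : Q := act 4 n46434
theorem D48646 : act 4 n46434 = n48646 := rfl
theorem F217149 : act 0 n48646 = n48646 := d3_1 D48646 (iv D48646) F207198
theorem F217150 : act 2 n48646 = n48646 := d18_1 D48646 (iv D48646) F207199
theorem F217151 : act 7 n48646 = n46437 := d32_2 (iv F207200) D48646 (iv D46437)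
theorem F217152 : act 8 n48646 = n48646 := d33_2 F207201 D48646 (iv D48646)
theorem F217153 : act 9 n48646 = n48646 := d34_2 F207202 D48646 (iv D48646)
def n48647 : Q := act 3 n46435
theorem D48647 : act 3 n46435 = n48647 := rfl
theorem F217154 : act 0 n48647 = n46436 := d2_1 D48647 (iv D46436) (iv F207203)
theorem F217155 : act 1 n48647 = n48647 := d10_1 D48647 (iv D48647) F207204
theorem F217156 : act 6 n48647 = n46438 := d26_2 (iv F207205) D48647 (iv D46438)
theorem F217157 : act 8 n48647 = n48647 := d28_2 D46435 D48647 (iv D48647) (iv D46435) F135416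
theorem F217158 : act 9 n48647 = n48647 := d29_2 F207206 D48647 (iv D48647)
def n48648 : Q := act 2 n46436
theorem D48648 : act 2 n46436 = n48648 := rfl
theorem F217159 : act 1 n48648 = n48648 := d9_1 D48648 (iv D48648) F207207 F135422 (iv F207207)
theorem F217160 : act 6 n48648 = n46439 := d20_2 (iv F207208) D48648 (iv D46439)
theorem F217161 : act 8 n48648 = n48648 := d22_2 F207209 D48648 (iv D48648)
theorem F217162 : act 9 n48648 = n48648 := d23_2 F207210 D48648 (iv D48648)
def n48649 : Q := act 4 n46436
theorem D48649 : act 4 n46436 = n48649 := rfl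
theorem F217163 : act 1 n48649 = n46437 := d11_1 D48649 (iv D46437) (iv F207207)
theorem F217164 : act 6 n48649 = n46440 := d31_2 (iv F207208) D48649 (iv D46440)
theorem F217165 : act 8 n48649 = n48649 := d33_2 F207209 D48649 (iv D48649)
theorem F217166 : act 9 n48649 = n48649 := d34_2 F207210 D48649 (iv D48649)
def n48650 : Q := act 5 n46437
theorem D48650 : act 5 n46437 = n48650 := rfl
theorem F217167 : act 0 n48650 = n48650 := d4_1 D48650 (iv D48650) F207211
theorem F217168 : act 2 n48650 = n48650 := d19_1 D48650 (iv D48650) F207212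
theorem F217169 : act 8 n48650 = n48650 := d37_2 F207214 D48650 (iv D48650)
theorem F217170 : act 9 n48650 = n48650 := d38_2 F207215 D48650 (iv D48650)
def n48651 : Q := act 2 n46438
theorem D48651 : act 2 n46438 = n48651 := rfl
theorem F217171 : act 0 n48651 = n46439 := d1_1 D48651 (iv D46439) (iv F207216)
theorem F217172 : act 5 n48651 = n48651 := d19_2 F207218 D48651 (iv D48651)
theorem F217173 : act 8 n48651 = n48651 := d22_2 F207219 D48651 (iv D48651)
theorem F217174 : act 9 n48651 = n48651 := d23_2 F207220 D48651 (iv D48651)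
def n48652 : Q := act 4 n46438
theorem D48652 : act 4 n46438 = n48652 := rfl
theorem F217175 : act 0 n48652 = n46440 := d3_1 D48652 (iv D46440) (iv F207216)
theorem F217176 : act 1 n48652 = n48652 := d11_1 D48652 (iv D48652) F207217
theorem F217177 : act 8 n48652 = n48652 := d33_2 F207219 D48652 (iv D48652)
theorem F217178 : act 9 n48652 = n48652 := d34_2 F207220 D48652 (iv D48652)
def n48653 : Q := act 4 n46439
theorem D48653 : act 4 n46439 = n48653 := rfl
theorem F217179 : act 1 n48653 = n48653 := d11_1 D48653 (iv D48653) F207221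
theorem F217180 : act 2 n48653 = n46440 := d18_1 D48653 (iv D46440) D46439
theorem F217181 : act 8 n48653 = n48653 := d33_2 F207223 D48653 (iv D48653)
theorem F217182 : act 9 n48653 = n48653 := d34_2 F207224 D48653 (iv D48653)
def n48654 : Q := act 5 n46440
theorem D48654 : act 5 n46440 = n48654 := rfl
theorem F217183 : act 1 n48654 = n46441 := d12_1 D48654 (iv D46441) (iv F207225)
theorem F217184 : act 4 n48654 = n48654 := d30_1 D48654 (iv D48654) (iv D46440) F135431 D46440
theorem F217185 : act 8 n48654 = n48654 := d37_2 F207226 D48654 (iv D48654)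
theorem F217186 : act 9 n48654 = n48654 := d38_2 F207227 D48654 (iv D48654)
def n48655 : Q := act 6 n46441
theorem D48655 : act 6 n46441 = n48655 := rfl
theorem F217187 : act 0 n48655 = n48655 := d5_1 D48655 (iv D48655) F207228
theorem F217188 : act 2 n48655 = n48655 := d20_1 D48655 (iv D48655) F207229
theorem F217189 : act 4 n48655 = n48655 := d31_1 D48655 (iv D48655) F207230
theorem F217190 : act 7 n48655 = n48655 := d39_2 F216949 D48655 (iv D48655) (iv F216949) F216948
theorem F217191 : act 8 n48655 = n48655 := d40_2 F207231 D48655 (iv D48655)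
theorem F217192 : act 9 n48655 = n48655 := d41_2 F207232 D48655 (iv D48655)
def n48656 : Q := act 0 n46442
theorem D48656 : act 0 n46442 = n48656 := rfl
theorem F217193 : act 1 n48656 = n46473 := d0_2 D46442 D48656 (iv D46473) (iv D32204) (iv F135648)
theorem F217194 : act 3 n48656 = n46456 := d2_2 (iv F207233) D48656 (iv D46456)
theorem F217195 : act 5 n48656 = n46448 := d4_2 (iv F207234) D48656 (iv D46448)
theorem F217196 : act 6 n48656 = n48656 := d5_2 F207235 D48656 (iv D48656)
theorem F217197 : act 7 n48656 = n46524 := d6_2 F207961 D48656 (iv F207955)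
theorem F217198 : act 8 n48656 = n48656 := d7_2 F207236 D48656 (iv D48656)
def n48657 : Q := act 9 n46442
theorem D48657 : act 9 n46442 = n48657 := rfl
theorem F217199 : act 1 n48657 = n46443 := d16_1 D48657 (iv D46443) D46442
theorem F217200 : act 3 n48657 = n46458 := d29_1 D48657 (iv D46458) (iv F207233)
theorem F217201 : act 5 n48657 = n46449 := d38_1 D48657 (iv D46449) (iv F207234)
theorem F217202 : act 6 n48657 = n48657 := d41_1 D48657 (iv D48657) F207235
def n48658 : Q := act 8 n46443
theorem D48658 : act 8 n46443 = n48658 := rfl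
theorem F217203 : act 0 n48658 = n46479 := d7_1 D48658 (iv D46479) (iv F207237)
theorem F217204 : act 2 n48658 = n46444 := d22_1 D48658 (iv D46444) (iv F207238)
theorem F217205 : act 5 n48658 = n46450 := d37_1 D48658 (iv D46450) (iv F207240)
theorem F217206 : act 6 n48658 = n48658 := d40_1 D48658 (iv D48658) F207241
theorem F217207 : act 9 n48658 = n48658 := d44_2 D46443 D48658 (iv D48658) (iv D46443) F135652
def n48659 : Q := act 0 n46445
theorem D48659 : act 0 n46445 = n48659 := rfl
theorem F217208 : act 1 n48659 = n46483 := d0_2 D46445 D48659 (iv D46483) (iv D32210) (iv F135660)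
theorem F217209 : act 3 n48659 = n46462 := d2_2 (iv F207247) D48659 (iv D46462)
theorem F217210 : act 5 n48659 = n46524 := d4_2 F207959 D48659 (iv F207955)
theorem F217211 : act 6 n48659 = n48659 := d5_2 F207248 D48659 (iv D48659)
theorem F217212 : act 7 n48659 = n46448 := d6_2 (iv F207249) D48659 (iv D46448)
theorem F217213 : act 8 n48659 = n48659 := d7_2 F207250 D48659 (iv D48659)
def n48660 : Q := act 9 n46445
theorem D48660 : act 9 n46445 = n48660 := rfl
theorem F217214 : act 1 n48660 = n46446 := d16_1 D48660 (iv D46446) D46445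
theorem F217215 : act 3 n48660 = n46463 := d29_1 D48660 (iv D46463) (iv F207247)
theorem F217216 : act 6 n48660 = n48660 := d41_1 D48660 (iv D48660) F207248
theorem F217217 : act 7 n48660 = n46449 := d43_1 D48660 (iv D46449) (iv F207249)
def n48661 : Q := act 8 n46446
theorem D48661 : act 8 n46446 = n48661 := rfl
theorem F217218 : act 0 n48661 = n46488 := d7_1 D48661 (iv D46488) (iv F207251)
theorem F217219 : act 2 n48661 = n46447 := d22_1 D48661 (iv D46447) (iv F207252)
theorem F217220 : act 6 n48661 = n48661 := d40_1 D48661 (iv D48661) F207254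
theorem F217221 : act 7 n48661 = n46450 := d42_1 D48661 (iv D46450) (iv F207255)
theorem F217222 : act 9 n48661 = n48661 := d44_2 D46446 D48661 (iv D48661) (iv D46446) F135664
def n48662 : Q := act 9 n46448
theorem D48662 : act 9 n46448 = n48662 := rfl
theorem F217223 : act 0 n48662 = n46449 := d8_1 D48662 (iv D46449) D46448
theorem F217224 : act 1 n48662 = n46492 := d16_1 D48662 (iv D46492) (iv F207261)
theorem F217225 : act 3 n48662 = n46465 := d29_1 D48662 (iv D46465) (iv F207262)
theorem F217226 : act 6 n48662 = n46451 := d41_1 D48662 (iv D46451) (iv F207263)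
def n48663 : Q := act 8 n46449
theorem D48663 : act 8 n46449 = n48663 := rfl
theorem F217227 : act 1 n48663 = n46450 := d15_1 D48663 (iv D46450) (iv F207265)
theorem F217228 : act 6 n48663 = n46452 := d40_1 D48663 (iv D46452) (iv F207267)
theorem F217229 : act 9 n48663 = n48663 := d44_2 D46449 D48663 (iv D48663) (iv D46449) F135676
def n48664 : Q := act 3 n46450
theorem D48664 : act 3 n46450 = n48664 := rfl
theorem F217230 : act 0 n48664 = n46499 := d2_1 D48664 (iv D46499) (iv F207268)
theorem F217231 : act 2 n48664 = n48664 := d17_1 D48664 (iv D48664) F207269 F135693 (iv F207269)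
theorem F217232 : act 6 n48664 = n46453 := d26_2 (iv F207270) D48664 (iv D46453)
theorem F217233 : act 8 n48664 = n46467 := d28_2 D46450 D48664 (iv D46467) (iv D32195) (iv F135683)
theorem F217234 : act 9 n48664 = n48664 := d29_2 F207271 D48664 (iv D48664)
def n48665 : Q := act 8 n46451
theorem D48665 : act 8 n46451 = n48665 := rfl
theorem F217235 : act 0 n48665 = n46452 := d7_1 D48665 (iv D46452) (iv F207272)
theorem F217236 : act 1 n48665 = n46505 := d15_1 D48665 (iv D46505) (iv F207273)
theorem F217237 : act 5 n48665 = n48665 := d37_1 D48665 (iv D48665) F207275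
theorem F217238 : act 7 n48665 = n48665 := d42_1 D48665 (iv D48665) F207276
theorem F217239 : act 9 n48665 = n48665 := d44_2 D46451 D48665 (iv D48665) (iv D46451) F135700
def n48666 : Q := act 3 n46452
theorem D48666 : act 3 n46452 = n48666 := rfl
theorem F217240 : act 1 n48666 = n46453 := d10_1 D48666 (iv D46453) (iv F207277)
theorem F217241 : act 5 n48666 = n48666 := d25_2 F207278 D48666 (iv D48666)
theorem F217242 : act 7 n48666 = n48666 := d27_2 F207279 D48666 (iv D48666)
theorem F217243 : act 8 n48666 = n46469 := d28_2 D46452 D48666 (iv D46469) (iv D32197) (iv F135705)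
theorem F217244 : act 9 n48666 = n48666 := d29_2 F207280 D48666 (iv D48666)
def n48667 : Q := act 4 n46453
theorem D48667 : act 4 n46453 = n48667 := rfl
theorem F217245 : act 0 n48667 = n46514 := d3_1 D48667 (iv D46514) (iv F207281)
theorem F217246 : act 2 n48667 = n48667 := d18_1 D48667 (iv D48667) F207282
theorem F217247 : act 7 n48667 = n48667 := d32_2 F207284 D48667 (iv D48667)
theorem F217248 : act 8 n48667 = n46470 := d33_2 (iv F207285) D48667 (iv D46470)
theorem F217249 : act 9 n48667 = n48667 := d34_2 F207286 D48667 (iv D48667)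
def n48668 : Q := act 9 n46454
theorem D48668 : act 9 n46454 = n48668 := rfl
theorem F217250 : act 0 n48668 = n46466 := d8_1 D48668 F207348 (iv F207287)
theorem F217251 : act 1 n48668 = n46455 := d16_1 D48668 (iv D46455) D46454
theorem F217252 : act 2 n48668 = n48668 := d23_1 D48668 (iv D48668) F207288
theorem F217253 : act 5 n48668 = n46463 := d38_1 D48668 (iv D46463) (iv F207289)
theorem F217254 : act 6 n48668 = n46468 := d41_1 D48668 F207358 (iv F207290)
theorem F217255 : act 7 n48668 = n46458 := d43_1 D48668 (iv D46458) (iv F207291)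
theorem F217256 : act 8 n48668 = n46465 := d44_1 D48668 (iv D46465) F135853 (iv F204882) (iv F207292)
def n48669 : Q := act 9 n46456
theorem D48669 : act 9 n46456 = n48669 := rfl
theorem F217257 : act 0 n48669 = n46458 := d8_1 D48669 (iv D46458) D46456
theorem F217258 : act 1 n48669 = n46464 := d16_1 D48669 F207340 (iv F207299)
theorem F217259 : act 2 n48669 = n48669 := d23_1 D48669 (iv D48669) F207300
theorem F217260 : act 5 n48669 = n46465 := d38_1 D48669 (iv D46465) (iv F207301)
theorem F217261 : act 6 n48669 = n48669 := d41_1 D48669 (iv D48669) F207302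
theorem F217262 : act 7 n48669 = n46466 := d43_1 D48669 F207348 (iv F207303)
theorem F217263 : act 8 n48669 = n46463 := d44_1 D48669 (iv D46463) F135839 (iv F204875) (iv F207304)
def n48670 : Q := act 3 n46457
theorem D48670 : act 3 n46457 = n48670 := rfl
theorem F217264 : act 1 n48670 = n46459 := d10_1 D48670 (iv D46459) (iv F207305)
theorem F217265 : act 6 n48670 = n48670 := d26_2 F207307 D48670 (iv D48670)
def n48671 : Q := act 9 n46457
theorem D48671 : act 9 n46457 = n48671 := rfl
theorem F217266 : act 1 n48671 = n46460 := d16_1 D48671 (iv D46460) (iv F207305)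
theorem F217267 : act 2 n48671 = n48671 := d23_1 D48671 (iv D48671) F207306
theorem F217268 : act 4 n48671 = n46458 := d34_1 D48671 (iv D46458) D46457
theorem F217269 : act 6 n48671 = n48671 := d41_1 D48671 (iv D48671) F207307
def n48672 : Q := act 8 n46458
theorem D48672 : act 8 n46458 = n48672 := rfl
theorem F217270 : act 0 n48672 = n46463 := d7_1 D48672 (iv F217263) F217257
theorem F217271 : act 1 n48672 = n46461 := d15_1 D48672 (iv D46461) (iv F207309)
theorem F217272 : act 2 n48672 = n48672 := d22_1 D48672 (iv D48672) F207310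
theorem F217273 : act 5 n48672 = n46466 := d37_1 D48672 (iv D46466) (iv F207311)
theorem F217274 : act 6 n48672 = n48672 := d40_1 D48672 (iv D48672) F207312
theorem F217275 : act 7 n48672 = n46465 := d42_1 D48672 (iv F217256) F217255
theorem F217276 : act 9 n48672 = n46462 := d44_2 D46458 D48672 F207330 (iv D32321) (iv F135817)
def n48673 : Q := act 8 n46459
theorem D48673 : act 8 n46459 = n48673 := rfl
theorem F217277 : act 0 n48673 = n46520 := d7_1 D48673 (iv D46520) (iv F207313)
theorem F217278 : act 3 n48673 = n46523 := d28_1 D48673 (iv D46523) (iv D32322) (iv F135821) D46459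
theorem F217279 : act 6 n48673 = n48673 := d40_1 D48673 (iv D48673) F207314
def n48674 : Q := act 9 n46459
theorem D48674 : act 9 n46459 = n48674 := rfl
theorem F217280 : act 0 n48674 = n46521 := d8_1 D48674 (iv D46521) (iv F207313)
theorem F217281 : act 3 n48674 = n46460 := d29_1 D48674 (iv D46460) D46459
theorem F217282 : act 6 n48674 = n48674 := d41_1 D48674 (iv D48674) F207314
def n48675 : Q := act 3 n46461
theorem D48675 : act 3 n46461 = n48675 := rfl
theorem F217283 : act 0 n48675 = n46485 := d2_1 D48675 F207431 (iv F207319)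
theorem F217284 : act 2 n48675 = n48675 := d17_1 D48675 (iv D48675) F207320 F135832 (iv F207320)
theorem F217285 : act 5 n48675 = n46467 := d25_2 (iv F207321) D48675 (iv D46467)
theorem F217286 : act 6 n48675 = n48675 := d26_2 F207322 D48675 (iv D48675)
theorem F217287 : act 7 n48675 = n46492 := d27_2 (iv F207323) D48675 F207461
theorem F217288 : act 9 n48675 = n46483 := d29_2 (iv F207324) D48675 F207419
def n48676 : Q := act 3 n46464
theorem D48676 : act 3 n46464 = n48676 := rfl
theorem F217289 : act 0 n48676 = n46475 := d2_1 D48676 F207391 (iv F207335)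
theorem F217290 : act 2 n48676 = n48676 := d17_1 D48676 (iv D48676) F207336 F135846 (iv F207336)
theorem F217291 : act 5 n48676 = n46492 := d25_2 (iv F207337) D48676 F207461
theorem F217292 : act 6 n48676 = n48676 := d26_2 F207338 D48676 (iv D48676)
theorem F217293 : act 7 n48676 = n46467 := d27_2 (iv F207339) D48676 (iv D46467)
theorem F217294 : act 9 n48676 = n46473 := d29_2 (iv F207340) D48676 F207379
def n48677 : Q := act 3 n46466
theorem D48677 : act 3 n46466 = n48677 := rfl
theorem F217295 : act 1 n48677 = n46467 := d10_1 D48677 (iv D46467) (iv F207345)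
theorem F217296 : act 6 n48677 = n46469 := d26_2 (iv F207347) D48677 (iv D46469)
theorem F217297 : act 9 n48677 = n46524 := d29_2 (iv F207348) D48677 (iv D46524)
def n48678 : Q := act 4 n46467
theorem D48678 : act 4 n46467 = n48678 := rfl
theorem F217298 : act 0 n48678 = n46522 := d3_1 D48678 (iv D46522) (iv F207349)
theorem F217299 : act 2 n48678 = n48678 := d18_1 D48678 (iv D48678) F207350
theorem F217300 : act 6 n48678 = n46470 := d31_2 (iv F207351) D48678 (iv D46470)
theorem F217301 : act 9 n48678 = n46525 := d34_2 (iv F207352) D48678 (iv D46525)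
def n48679 : Q := act 8 n46471
theorem D48679 : act 8 n46471 = n48679 := rfl
theorem F217302 : act 1 n48679 = n46499 := d15_1 D48679 F207485 (iv F207367)
theorem F217303 : act 2 n48679 = n46472 := d22_1 D48679 (iv D46472) (iv F207368)
theorem F217304 : act 3 n48679 = n46495 := d28_1 D48679 (iv D46495) F135958 (iv F204892) (iv F207369)
theorem F217305 : act 5 n48679 = n46488 := d37_1 D48679 (iv D46488) (iv F207370)
theorem F217306 : act 6 n48679 = n46509 := d40_1 D48679 F207529 (iv F207371)
theorem F217307 : act 7 n48679 = n46479 := d42_1 D48679 (iv D46479) (iv F207372)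
theorem F217308 : act 9 n48679 = n48679 := d44_2 D46471 D48679 (iv D48679) (iv D46471) F135890
def n48680 : Q := act 4 n46473
theorem D48680 : act 4 n46473 = n48680 := rfl
theorem F217309 : act 0 n48680 = n46474 := d3_1 D48680 (iv D46474) D46473
theorem F217310 : act 2 n48680 = n48680 := d18_1 D48680 (iv D48680) F207378
theorem F217311 : act 6 n48680 = n48680 := d31_2 F207381 D48680 (iv D48680)
theorem F217312 : act 7 n48680 = n46525 := d32_2 (iv F207382) D48680 (iv D46525)
theorem F217313 : act 8 n48680 = n48680 := d33_2 F207383 D48680 (iv D48680)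
def n48681 : Q := act 5 n46474
theorem D48681 : act 5 n46474 = n48681 := rfl
theorem F217314 : act 1 n48681 = n46477 := d12_1 D48681 (iv D46477) (iv F207384)
theorem F217315 : act 2 n48681 = n48681 := d19_1 D48681 (iv D48681) F207385
theorem F217316 : act 4 n48681 = n46493 := d30_1 D48681 (iv D46493) (iv D32217) (iv F135900) D46474
theorem F217317 : act 7 n48681 = n46527 := d36_2 (iv F207387) D48681 (iv D46527)
theorem F217318 : act 8 n48681 = n48681 := d37_2 F207388 D48681 (iv D48681)
def n48682 : Q := act 9 n46474
theorem D48682 : act 9 n46474 = n48682 := rfl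
theorem F217319 : act 1 n48682 = n46478 := d16_1 D48682 (iv D46478) (iv F207384)
theorem F217320 : act 2 n48682 = n48682 := d23_1 D48682 (iv D48682) F207385
theorem F217321 : act 4 n48682 = n46475 := d34_1 D48682 (iv D46475) D46474
theorem F217322 : act 6 n48682 = n48682 := d41_1 D48682 (iv D48682) F207386
theorem F217323 : act 7 n48682 = n46522 := d43_1 D48682 F207574 (iv F207387)
def n48683 : Q := act 8 n46475
theorem D48683 : act 8 n46475 = n48683 := rfl
theorem F217324 : act 1 n48683 = n46479 := d15_1 D48683 (iv D46479) (iv F207389)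
theorem F217325 : act 2 n48683 = n48683 := d22_1 D48683 (iv D48683) F207390
theorem F217326 : act 3 n48683 = n46488 := d28_1 D48683 (iv D46488) F135931 (iv F204897) (iv F207391)
theorem F217327 : act 5 n48683 = n46495 := d37_1 D48683 (iv D46495) (iv F207392)
theorem F217328 : act 6 n48683 = n48683 := d40_1 D48683 (iv D48683) F207393
theorem F217329 : act 7 n48683 = n46499 := d42_1 D48683 F207485 (iv F207394)
theorem F217330 : act 9 n48683 = n48683 := d44_2 D46475 D48683 (iv D48683) (iv D46475) F135902
def n48684 : Q := act 5 n46476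
theorem D48684 : act 5 n46476 = n48684 := rfl
theorem F217331 : act 3 n48684 = n46477 := d25_1 D48684 (iv D46477) D46476
def n48685 : Q := act 8 n46476
theorem D48685 : act 8 n46476 = n48685 := rfl
theorem F217332 : act 3 n48685 = n48685 := d28_1 D48685 (iv D48685) (iv D46476) F135905 D46476
theorem F217333 : act 4 n48685 = n46520 := d33_1 D48685 (iv D46520) (iv F207395)
theorem F217334 : act 6 n48685 = n48685 := d40_1 D48685 (iv D48685) F207396
def n48686 : Q := act 9 n46476
theorem D48686 : act 9 n46476 = n48686 := rfl
theorem F217335 : act 3 n48686 = n46478 := d29_1 D48686 (iv D46478) D46476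
theorem F217336 : act 4 n48686 = n46521 := d34_1 D48686 (iv D46521) (iv F207395)
theorem F217337 : act 6 n48686 = n48686 := d41_1 D48686 (iv D48686) F207396
def n48687 : Q := act 6 n46477
theorem D48687 : act 6 n46477 = n48687 := rfl
theorem F217338 : act 2 n48687 = n46480 := d20_1 D48687 (iv D46480) (iv F207397)
theorem F217339 : act 4 n48687 = n46496 := d31_1 D48687 (iv D46496) (iv F207398)
theorem F217340 : act 5 n48687 = n48687 := d35_1 D48687 (iv D48687) (iv D46477) F135904 D46477
theorem F217341 : act 8 n48687 = n48687 := d40_2 F207399 D48687 (iv D48687)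
def n48688 : Q := act 9 n46477
theorem D48688 : act 9 n46477 = n48688 := rfl
theorem F217342 : act 2 n48688 = n46481 := d23_1 D48688 (iv D46481) (iv F207397)
theorem F217343 : act 4 n48688 = n46497 := d34_1 D48688 (iv D46497) (iv F207398)
theorem F217344 : act 5 n48688 = n46478 := d38_1 D48688 (iv D46478) D46477
def n48689 : Q := act 8 n46478
theorem D48689 : act 8 n46478 = n48689 := rfl
theorem F217345 : act 2 n48689 = n46482 := d22_1 D48689 (iv D46482) (iv F207400)
theorem F217346 : act 4 n48689 = n46479 := d33_1 D48689 (iv D46479) (iv F207401)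
theorem F217347 : act 6 n48689 = n48689 := d40_1 D48689 (iv D48689) F207402
theorem F217348 : act 9 n48689 = n48689 := d44_2 D46478 D48689 (iv D48689) (iv D46478) F135905
def n48690 : Q := act 3 n46479
theorem D48690 : act 3 n46479 = n48690 := rfl
theorem F217349 : act 1 n48690 = n46488 := d10_1 D48690 (iv F217326) F217324
theorem F217350 : act 2 n48690 = n48690 := d17_1 D48690 (iv D48690) F207403 F135917 (iv F207403)
theorem F217351 : act 5 n48690 = n46499 := d25_2 (iv F207404) D48690 (iv D46499)
theorem F217352 : act 6 n48690 = n48690 := d26_2 F207405 D48690 (iv D48690)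
theorem F217353 : act 7 n48690 = n46495 := d27_2 F217307 D48690 (iv F217304)
theorem F217354 : act 8 n48690 = n46485 := d28_2 D46479 D48690 F207431 (iv D32267) (iv F135907)
theorem F217355 : act 9 n48690 = n48690 := d29_2 F207406 D48690 (iv D48690)
def n48691 : Q := act 9 n46480
theorem D48691 : act 9 n46480 = n48691 := rfl
theorem F217356 : act 1 n48691 = n48691 := d16_1 D48691 (iv D48691) F207407
theorem F217357 : act 4 n48691 = n46501 := d34_1 D48691 (iv D46501) (iv F207408)
theorem F217358 : act 5 n48691 = n48691 := d38_1 D48691 (iv D48691) F207409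
theorem F217359 : act 6 n48691 = n46481 := d41_1 D48691 (iv D46481) D46480
def n48692 : Q := act 8 n46481
theorem D48692 : act 8 n46481 = n48692 := rfl
theorem F217360 : act 1 n48692 = n48692 := d15_1 D48692 (iv D48692) F207411
theorem F217361 : act 4 n48692 = n46502 := d33_1 D48692 (iv D46502) (iv F207412)
theorem F217362 : act 5 n48692 = n46482 := d37_1 D48692 (iv D46482) (iv F207413)
theorem F217363 : act 9 n48692 = n48692 := d44_2 D46481 D48692 (iv D48692) (iv D46481) F135912
def n48693 : Q := act 3 n46482
theorem D48693 : act 3 n46482 = n48693 := rfl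
theorem F217364 : act 1 n48693 = n48693 := d10_1 D48693 (iv D48693) F207414
theorem F217365 : act 4 n48693 = n48693 := d24_2 (iv F207415) D48693 (iv D48693) F207415 F135917
theorem F217366 : act 6 n48693 = n48693 := d26_2 F207416 D48693 (iv D48693)
theorem F217367 : act 7 n48693 = n46516 := d27_2 F209696 D48693 (iv F209693)
theorem F217368 : act 8 n48693 = n46515 := d28_2 D46482 D48693 F207550 (iv F206700) F206631
theorem F217369 : act 9 n48693 = n48693 := d29_2 F207417 D48693 (iv D48693)
def n48694 : Q := act 4 n46483
theorem D48694 : act 4 n46483 = n48694 := rfl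
theorem F217370 : act 0 n48694 = n46484 := d3_1 D48694 (iv D46484) D46483
theorem F217371 : act 2 n48694 = n48694 := d18_1 D48694 (iv D48694) F207418
theorem F217372 : act 6 n48694 = n48694 := d31_2 F207421 D48694 (iv D48694)
theorem F217373 : act 7 n48694 = n46491 := d32_2 (iv F207422) D48694 (iv D46491)
theorem F217374 : act 8 n48694 = n48694 := d33_2 F207423 D48694 (iv D48694)
def n48695 : Q := act 5 n46484
theorem D48695 : act 5 n46484 = n48695 := rfl
theorem F217375 : act 1 n48695 = n46486 := d12_1 D48695 (iv D46486) (iv F207424)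
theorem F217376 : act 2 n48695 = n48695 := d19_1 D48695 (iv D48695) F207425
theorem F217377 : act 4 n48695 = n46527 := d30_1 D48695 (iv D46527) (iv D32363) (iv F204772) D46484
theorem F217378 : act 7 n48695 = n46493 := d36_2 (iv F207427) D48695 (iv D46493)
theorem F217379 : act 8 n48695 = n48695 := d37_2 F207428 D48695 (iv D48695)
def n48696 : Q := act 9 n46484
theorem D48696 : act 9 n46484 = n48696 := rfl
theorem F217380 : act 1 n48696 = n46487 := d16_1 D48696 (iv D46487) (iv F207424)
theorem F217381 : act 2 n48696 = n48696 := d23_1 D48696 (iv D48696) F207425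
theorem F217382 : act 4 n48696 = n46485 := d34_1 D48696 (iv D46485) D46484
theorem F217383 : act 6 n48696 = n48696 := d41_1 D48696 (iv D48696) F207426
theorem F217384 : act 7 n48696 = n46494 := d43_1 D48696 (iv D46494) (iv F207427)
def n48697 : Q := act 9 n46486
theorem D48697 : act 9 n46486 = n48697 := rfl
theorem F217385 : act 2 n48697 = n46489 := d23_1 D48697 (iv D46489) (iv F207435)
theorem F217386 : act 5 n48697 = n46487 := d38_1 D48697 (iv D46487) D46486
theorem F217387 : act 7 n48697 = n46497 := d43_1 D48697 (iv D46497) (iv F207436)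
def n48698 : Q := act 8 n46487
theorem D48698 : act 8 n46487 = n48698 := rfl
theorem F217388 : act 2 n48698 = n46490 := d22_1 D48698 (iv D46490) (iv F207438)
theorem F217389 : act 4 n48698 = n46488 := d33_1 D48698 (iv D46488) (iv F207439)
theorem F217390 : act 6 n48698 = n48698 := d40_1 D48698 (iv D48698) F207440
theorem F217391 : act 7 n48698 = n46498 := d42_1 D48698 (iv D46498) (iv F207441)
theorem F217392 : act 9 n48698 = n48698 := d44_2 D46487 D48698 (iv D48698) (iv D46487) F135929
def n48699 : Q := act 8 n46489
theorem D48699 : act 8 n46489 = n48699 := rfl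
theorem F217393 : act 1 n48699 = n48699 := d15_1 D48699 (iv D48699) F207446
theorem F217394 : act 5 n48699 = n46490 := d37_1 D48699 (iv D46490) (iv F207448)
theorem F217395 : act 7 n48699 = n46502 := d42_1 D48699 (iv D46502) (iv F207449)
theorem F217396 : act 9 n48699 = n48699 := d44_2 D46489 D48699 (iv D48699) (iv D46489) F135937
def n48700 : Q := act 5 n46491
theorem D48700 : act 5 n46491 = n48700 := rfl
theorem F217397 : act 0 n48700 = n46493 := d4_1 D48700 (iv D46493) (iv F207455)
theorem F217398 : act 2 n48700 = n48700 := d19_1 D48700 (iv D48700) F207456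
theorem F217399 : act 8 n48700 = n48700 := d37_2 F207458 D48700 (iv D48700)
def n48701 : Q := act 9 n46491
theorem D48701 : act 9 n46491 = n48701 := rfl
theorem F217400 : act 0 n48701 = n46494 := d8_1 D48701 (iv D46494) (iv F207455)
theorem F217401 : act 2 n48701 = n48701 := d23_1 D48701 (iv D48701) F207456
theorem F217402 : act 4 n48701 = n46492 := d34_1 D48701 (iv D46492) D46491
theorem F217403 : act 6 n48701 = n46504 := d41_1 D48701 (iv D46504) (iv F207457)
def n48702 : Q := act 8 n46492
theorem D48702 : act 8 n46492 = n48702 := rfl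
theorem F217404 : act 0 n48702 = n46495 := d7_1 D48702 (iv D46495) (iv F207459)
theorem F217405 : act 2 n48702 = n48702 := d22_1 D48702 (iv D48702) F207460
theorem F217406 : act 6 n48702 = n46505 := d40_1 D48702 (iv D46505) (iv F207462)
theorem F217407 : act 9 n48702 = n48702 := d44_2 D46492 D48702 (iv D48702) (iv D46492) F135951
def n48703 : Q := act 6 n46493
theorem D48703 : act 6 n46493 = n48703 := rfl
theorem F217408 : act 1 n48703 = n46496 := d13_1 D48703 (iv D46496) (iv F207463)
theorem F217409 : act 2 n48703 = n48703 := d20_1 D48703 (iv D48703) F207464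
theorem F217410 : act 5 n48703 = n46506 := d35_1 D48703 (iv D46506) (iv D32227) (iv F135954) D46493
theorem F217411 : act 8 n48703 = n48703 := d40_2 F207465 D48703 (iv D48703)
def n48704 : Q := act 9 n46493
theorem D48704 : act 9 n46493 = n48704 := rfl
theorem F217412 : act 1 n48704 = n46497 := d16_1 D48704 (iv D46497) (iv F207463)
theorem F217413 : act 2 n48704 = n48704 := d23_1 D48704 (iv D48704) F207464
theorem F217414 : act 5 n48704 = n46494 := d38_1 D48704 (iv D46494) D46493
def n48705 : Q := act 8 n46494
theorem D48705 : act 8 n46494 = n48705 := rfl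
theorem F217415 : act 1 n48705 = n46498 := d15_1 D48705 (iv D46498) (iv F207466)
theorem F217416 : act 2 n48705 = n48705 := d22_1 D48705 (iv D48705) F207467
theorem F217417 : act 4 n48705 = n46495 := d33_1 D48705 (iv D46495) (iv F207468)
theorem F217418 : act 6 n48705 = n46508 := d40_1 D48705 (iv D46508) (iv F207469)
theorem F217419 : act 9 n48705 = n48705 := d44_2 D46494 D48705 (iv D48705) (iv D46494) F135955
def n48706 : Q := act 7 n46496
theorem D48706 : act 7 n46496 = n48706 := rfl
theorem F217420 : act 2 n48706 = n46500 := d21_1 D48706 (iv D46500) (iv F207474)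
theorem F217421 : act 5 n48706 = n46510 := d36_1 D48706 (iv D46510) (iv F207475)
theorem F217422 : act 8 n48706 = n48706 := d42_2 F207476 D48706 (iv D48706)
def n48707 : Q := act 9 n46496
theorem D48707 : act 9 n46496 = n48707 := rfl
theorem F217423 : act 2 n48707 = n46501 := d23_1 D48707 (iv D46501) (iv F207474)
theorem F217424 : act 5 n48707 = n46511 := d38_1 D48707 (iv D46511) (iv F207475)
theorem F217425 : act 6 n48707 = n46497 := d41_1 D48707 (iv D46497) D46496
def n48708 : Q := act 8 n46497
theorem D48708 : act 8 n46497 = n48708 := rfl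
theorem F217426 : act 2 n48708 = n46502 := d22_1 D48708 (iv D46502) (iv F207477)
theorem F217427 : act 5 n48708 = n46498 := d37_1 D48708 (iv D46498) (iv F207478)
theorem F217428 : act 9 n48708 = n48708 := d44_2 D46497 D48708 (iv D48708) (iv D46497) F135961
def n48709 : Q := act 3 n46498
theorem D48709 : act 3 n46498 = n48709 := rfl
theorem F217429 : act 6 n48709 = n46513 := d26_2 (iv F207481) D48709 (iv D46513)
theorem F217430 : act 9 n48709 = n48709 := d29_2 F207482 D48709 (iv D48709)
def n48710 : Q := act 4 n46499
theorem D48710 : act 4 n46499 = n48710 := rfl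
theorem F217431 : act 2 n48710 = n48710 := d18_1 D48710 (iv D48710) F207483
theorem F217432 : act 6 n48710 = n46514 := d31_2 (iv F207484) D48710 (iv D46514)
theorem F217433 : act 8 n48710 = n46522 := d33_2 (iv F207485) D48710 (iv D46522)
theorem F217434 : act 9 n48710 = n48710 := d34_2 F207486 D48710 (iv D48710)
def n48711 : Q := act 9 n46500
theorem D48711 : act 9 n46500 = n48711 := rfl
theorem F217435 : act 1 n48711 = n48711 := d16_1 D48711 (iv D48711) F207487
theorem F217436 : act 3 n48711 = n46519 := d29_1 D48711 (iv D46519) (iv F207488)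
theorem F217437 : act 5 n48711 = n46515 := d38_1 D48711 (iv D46515) (iv F207489)
theorem F217438 : act 7 n48711 = n46501 := d43_1 D48711 (iv D46501) D46500
def n48712 : Q := act 8 n46501
theorem D48712 : act 8 n46501 = n48712 := rfl
theorem F217439 : act 1 n48712 = n48712 := d15_1 D48712 (iv D48712) F207491
theorem F217440 : act 5 n48712 = n46516 := d37_1 D48712 (iv D46516) (iv F207493)
theorem F217441 : act 6 n48712 = n46502 := d40_1 D48712 (iv D46502) (iv F207494)
theorem F217442 : act 9 n48712 = n48712 := d44_2 D46501 D48712 (iv D48712) (iv D46501) F135971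
def n48713 : Q := act 6 n46503
theorem D48713 : act 6 n46503 = n48713 := rfl
theorem F217443 : act 0 n48713 = n46506 := d5_1 D48713 (iv D46506) (iv F207498)
theorem F217444 : act 1 n48713 = n46560 := d13_1 D48713 (iv F209266) F209261
theorem F217445 : act 2 n48713 = n48713 := d20_1 D48713 (iv D48713) F207499
theorem F217446 : act 4 n48713 = n48713 := d31_1 D48713 (iv D48713) F207500
theorem F217447 : act 8 n48713 = n48713 := d40_2 F207502 D48713 (iv D48713)
theorem F217448 : act 7 n46562 = n48713 := d14_0 F217444 F207726 D46562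
def n48714 : Q := act 9 n46503
theorem D48714 : act 9 n46503 = n48714 := rfl
theorem F217449 : act 0 n48714 = n46507 := d8_1 D48714 (iv D46507) (iv F207498)
theorem F217450 : act 2 n48714 = n48714 := d23_1 D48714 (iv D48714) F207499
theorem F217451 : act 4 n48714 = n48714 := d34_1 D48714 (iv D48714) F207500
theorem F217452 : act 5 n48714 = n46504 := d38_1 D48714 (iv D46504) D46503
theorem F217453 : act 7 n48714 = n48714 := d43_1 D48714 (iv D48714) F207501
def n48715 : Q := act 8 n46504
theorem D48715 : act 8 n46504 = n48715 := rfl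
theorem F217454 : act 0 n48715 = n46508 := d7_1 D48715 (iv D46508) (iv F207503)
theorem F217455 : act 2 n48715 = n48715 := d22_1 D48715 (iv D48715) F207504
theorem F217456 : act 4 n48715 = n46505 := d33_1 D48715 (iv D46505) (iv F207505)
theorem F217457 : act 7 n48715 = n48715 := d42_1 D48715 (iv D48715) F207506
theorem F217458 : act 9 n48715 = n48715 := d44_2 D46504 D48715 (iv D48715) (iv D46504) F135982
def n48716 : Q := act 7 n46506
theorem D48716 : act 7 n46506 = n48716 := rfl
theorem F217459 : act 0 n48716 = n46562 := d6_1 D48716 F217448 F217443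
theorem F217460 : act 1 n48716 = n46510 := d14_1 D48716 (iv D46510) (iv F207512)
theorem F217461 : act 2 n48716 = n48716 := d21_1 D48716 (iv D48716) F207513
theorem F217462 : act 4 n48716 = n48716 := d32_1 D48716 (iv D48716) F207514
theorem F217463 : act 6 n48716 = n48716 := d39_1 D48716 (iv D48716) (iv D46506) F135991 D46506
theorem F217464 : act 8 n48716 = n48716 := d42_2 F207515 D48716 (iv D48716)
def n48717 : Q := act 9 n46506
theorem D48717 : act 9 n46506 = n48717 := rfl
theorem F217465 : act 1 n48717 = n46511 := d16_1 D48717 (iv D46511) (iv F207512)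
theorem F217466 : act 2 n48717 = n48717 := d23_1 D48717 (iv D48717) F207513
theorem F217467 : act 4 n48717 = n48717 := d34_1 D48717 (iv D48717) F207514
theorem F217468 : act 6 n48717 = n46507 := d41_1 D48717 (iv D46507) D46506
def n48718 : Q := act 8 n46507
theorem D48718 : act 8 n46507 = n48718 := rfl
theorem F217469 : act 1 n48718 = n46512 := d15_1 D48718 (iv D46512) (iv F207516)
theorem F217470 : act 2 n48718 = n48718 := d22_1 D48718 (iv D48718) F207517
theorem F217471 : act 4 n48718 = n48718 := d33_1 D48718 (iv D48718) F207518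
theorem F217472 : act 5 n48718 = n46508 := d37_1 D48718 (iv D46508) (iv F207519)
theorem F217473 : act 7 n48718 = n48718 := d42_1 D48718 (iv D48718) F207520
theorem F217474 : act 9 n48718 = n48718 := d44_2 D46507 D48718 (iv D48718) (iv D46507) F135992
def n48719 : Q := act 3 n46508
theorem D48719 : act 3 n46508 = n48719 := rfl
theorem F217475 : act 1 n48719 = n46513 := d10_1 D48719 (iv D46513) (iv F207521)
theorem F217476 : act 7 n48719 = n48719 := d27_2 F207524 D48719 (iv D48719)
theorem F217477 : act 9 n48719 = n48719 := d29_2 F207525 D48719 (iv D48719)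
def n48720 : Q := act 9 n46510
theorem D48720 : act 9 n46510 = n48720 := rfl
theorem F217478 : act 2 n48720 = n46515 := d23_1 D48720 (iv D46515) (iv F207531)
theorem F217479 : act 4 n48720 = n48720 := d34_1 D48720 (iv D48720) F207532
theorem F217480 : act 6 n48720 = n48720 := d41_1 D48720 (iv D48720) F207533
theorem F217481 : act 7 n48720 = n46511 := d43_1 D48720 (iv D46511) D46510
def n48721 : Q := act 8 n46511
theorem D48721 : act 8 n46511 = n48721 := rfl
theorem F217482 : act 2 n48721 = n46516 := d22_1 D48721 (iv D46516) (iv F207535)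
theorem F217483 : act 4 n48721 = n48721 := d33_1 D48721 (iv D48721) F207536
theorem F217484 : act 6 n48721 = n46512 := d40_1 D48721 (iv D46512) (iv F207537)
theorem F217485 : act 9 n48721 = n48721 := d44_2 D46511 D48721 (iv D48721) (iv D46511) F136004
def n48722 : Q := act 3 n46512
theorem D48722 : act 3 n46512 = n48722 := rfl
theorem F217486 : act 5 n48722 = n46513 := d25_2 (iv F207540) D48722 (iv D46513)
theorem F217487 : act 7 n48722 = n48722 := d27_2 F207541 D48722 (iv D48722)
theorem F217488 : act 9 n48722 = n48722 := d29_2 F207542 D48722 (iv D48722)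
def n48723 : Q := act 4 n46513
theorem D48723 : act 4 n46513 = n48723 := rfl
theorem F217489 : act 3 n48723 = n46514 := d24_1 D48723 (iv D46514) (iv D32233) (iv F136010) D46513
theorem F217490 : act 7 n48723 = n48723 := d32_2 F207543 D48723 (iv D48723)
theorem F217491 : act 9 n48723 = n48723 := d34_2 F207544 D48723 (iv D48723)
def n48724 : Q := act 9 n46517
theorem D48724 : act 9 n46517 = n48724 := rfl
theorem F217492 : act 1 n48724 = n48724 := d16_1 D48724 (iv D48724) F207558
theorem F217493 : act 5 n48724 = n48724 := d38_1 D48724 (iv D48724) F207559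
theorem F217494 : act 6 n48724 = n46519 := d41_1 D48724 (iv D46519) (iv F207560)
theorem F217495 : act 7 n48724 = n46518 := d43_1 D48724 (iv D46518) D46517
def n48725 : Q := act 9 n46520
theorem D48725 : act 9 n46520 = n48725 := rfl
theorem F217496 : act 3 n48725 = n46526 := d29_1 D48725 (iv D46526) (iv F207568)
theorem F217497 : act 6 n48725 = n48725 := d41_1 D48725 (iv D48725) F207569
def n48726 : Q := act 8 n46521
theorem D48726 : act 8 n46521 = n48726 := rfl
theorem F217498 : act 6 n48726 = n48726 := d40_1 D48726 (iv D48726) F207571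
def n48727 : Q := act 5 n46522
theorem D48727 : act 5 n46522 = n48727 := rfl
theorem F217499 : act 2 n48727 = n48727 := d19_1 D48727 (iv D48727) F207572
theorem F217500 : act 9 n48727 = n46527 := d38_2 (iv F207574) D48727 (iv D46527)
def n48728 : Q := act 9 n46523
theorem D48728 : act 9 n46523 = n48728 := rfl
theorem F217501 : act 0 n48728 = n46526 := d8_1 D48728 (iv D46526) (iv F207575)
theorem F217502 : act 2 n48728 = n48728 := d23_1 D48728 (iv D48728) F207576
theorem F217503 : act 4 n48728 = n48728 := d34_1 D48728 (iv D48728) F207577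
theorem F217504 : act 6 n48728 = n48728 := d41_1 D48728 (iv D48728) F207578
def n48729 : Q := act 5 n46525
theorem D48729 : act 5 n46525 = n48729 := rfl
theorem F217505 : act 0 n48729 = n46527 := d4_1 D48729 (iv D46527) (iv F207582)
theorem F217506 : act 2 n48729 = n48729 := d19_1 D48729 (iv D48729) F207583
theorem F217507 : act 8 n48729 = n48729 := d37_2 F207585 D48729 (iv D48729)
def n48730 : Q := act 9 n46541
theorem D48730 : act 9 n46541 = n48730 := rfl
theorem F217508 : act 3 n48730 = n46542 := d29_1 D48730 (iv D46542) D46541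
theorem F217509 : act 6 n48730 = n48730 := d41_1 D48730 (iv D48730) F207662
def n48731 : Q := act 2 n46544
theorem D48731 : act 2 n46544 = n48731 := rfl
theorem F217510 : act 0 n48731 = n46546 := d1_1 D48731 (iv D46546) (iv F207675)
theorem F217511 : act 3 n48731 = n46558 := d17_2 D46544 D48731 (iv D46558) (iv D34888) (iv F145671)
theorem F217512 : act 6 n48731 = n48731 := d20_2 F207676 D48731 (iv D48731)
def n48732 : Q := act 9 n46544
theorem D48732 : act 9 n46544 = n48732 := rfl
theorem F217513 : act 0 n48732 = n46547 := d8_1 D48732 (iv D46547) (iv F207675)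
theorem F217514 : act 3 n48732 = n46545 := d29_1 D48732 (iv D46545) D46544
theorem F217515 : act 6 n48732 = n48732 := d41_1 D48732 (iv D48732) F207676
def n48733 : Q := act 1 n46546
theorem D48733 : act 1 n46546 = n48733 := rfl
theorem F217516 : act 3 n48733 = n46562 := d10_2 (iv F207681) D48733 (iv D46562)
theorem F217517 : act 6 n48733 = n48733 := d13_2 F207682 D48733 (iv D48733)
def n48734 : Q := act 9 n46546
theorem D48734 : act 9 n46546 = n48734 := rfl
theorem F217518 : act 2 n48734 = n46547 := d23_1 D48734 (iv D46547) D46546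
theorem F217519 : act 3 n48734 = n46563 := d29_1 D48734 (iv D46563) (iv F207681)
theorem F217520 : act 6 n48734 = n48734 := d41_1 D48734 (iv D48734) F207682
def n48735 : Q := act 8 n46547
theorem D48735 : act 8 n46547 = n48735 := rfl
theorem F217521 : act 6 n48735 = n48735 := d40_1 D48735 (iv D48735) F207684
def n48736 : Q := act 7 n46548
theorem D48736 : act 7 n46548 = n48736 := rfl
theorem F217522 : act 2 n48736 = n48736 := d21_1 D48736 (iv D48736) F207685
theorem F217523 : act 5 n48736 = n46550 := d36_1 D48736 (iv D46550) (iv F207686)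
theorem F217524 : act 8 n48736 = n46552 := d42_2 (iv F207687) D48736 (iv D46552)
def n48737 : Q := act 9 n46548
theorem D48737 : act 9 n46548 = n48737 := rfl
theorem F217525 : act 2 n48737 = n48737 := d23_1 D48737 (iv D48737) F207685
theorem F217526 : act 5 n48737 = n46551 := d38_1 D48737 (iv D46551) (iv F207686)
theorem F217527 : act 6 n48737 = n46549 := d41_1 D48737 (iv D46549) D46548
def n48738 : Q := act 9 n46550
theorem D48738 : act 9 n46550 = n48738 := rfl
theorem F217528 : act 2 n48738 = n48738 := d23_1 D48738 (iv D48738) F207690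
theorem F217529 : act 4 n48738 = n48738 := d34_1 D48738 (iv D48738) F207691
theorem F217530 : act 6 n48738 = n48738 := d41_1 D48738 (iv D48738) F207692
theorem F217531 : act 7 n48738 = n46551 := d43_1 D48738 (iv D46551) D46550
def n48739 : Q := act 9 n46554
theorem D48739 : act 9 n46554 = n48739 := rfl
theorem F217532 : act 0 n48739 = n46557 := d8_1 D48739 (iv D46557) (iv F207703)
theorem F217533 : act 3 n48739 = n46555 := d29_1 D48739 (iv D46555) D46554
theorem F217534 : act 6 n48739 = n48739 := d41_1 D48739 (iv D48739) F207704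
def n48740 : Q := act 8 n46557
theorem D48740 : act 8 n46557 = n48740 := rfl
theorem F217535 : act 1 n48740 = n48740 := d15_1 D48740 (iv D48740) F207714
theorem F217536 : act 3 n48740 = n46564 := d28_1 D48740 (iv D46564) F146694 (iv F146345) (iv F207715)
theorem F217537 : act 6 n48740 = n48740 := d40_1 D48740 (iv D48740) F207716
theorem F217538 : act 9 n48740 = n48740 := d44_2 D46557 D48740 (iv D48740) (iv D46557) F146341
def n48741 : Q := act 9 n46558
theorem D48741 : act 9 n46558 = n48741 := rfl
theorem F217539 : act 0 n48741 = n46563 := d8_1 D48741 (iv D46563) (iv F207717)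
theorem F217540 : act 2 n48741 = n46559 := d23_1 D48741 (iv D46559) D46558
theorem F217541 : act 4 n48741 = n48741 := d34_1 D48741 (iv D48741) F207718
theorem F217542 : act 6 n48741 = n48741 := d41_1 D48741 (iv D48741) F207719
def n48742 : Q := act 8 n46559
theorem D48742 : act 8 n46559 = n48742 := rfl
theorem F217543 : act 0 n48742 = n46564 := d7_1 D48742 (iv D46564) (iv F207721)
theorem F217544 : act 4 n48742 = n48742 := d33_1 D48742 (iv D48742) F207723
theorem F217545 : act 6 n48742 = n48742 := d40_1 D48742 (iv D48742) F207724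
theorem F217546 : act 9 n48742 = n48742 := d44_2 D46559 D48742 (iv D48742) (iv D46559) F146662
def n48743 : Q := act 9 n46560
theorem D48743 : act 9 n46560 = n48743 := rfl
theorem F217547 : act 2 n48743 = n46561 := d23_1 D48743 (iv D46561) D46560
theorem F217548 : act 4 n48743 = n48743 := d34_1 D48743 (iv D48743) F207725
theorem F217549 : act 7 n48743 = n46563 := d43_1 D48743 (iv D46563) (iv F207726)
def n48744 : Q := act 8 n46561
theorem D48744 : act 8 n46561 = n48744 := rfl
theorem F217550 : act 1 n48744 = n48744 := d15_1 D48744 (iv D48744) F207728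
theorem F217551 : act 4 n48744 = n48744 := d33_1 D48744 (iv D48744) F207730
theorem F217552 : act 7 n48744 = n46564 := d42_1 D48744 (iv D46564) (iv F207731)
theorem F217553 : act 9 n48744 = n48744 := d44_2 D46561 D48744 (iv D48744) (iv D46561) F146686
def n48745 : Q := act 9 n46562
theorem D48745 : act 9 n46562 = n48745 := rfl
theorem F217554 : act 1 n48745 = n46563 := d16_1 D48745 (iv D46563) D46562
theorem F217555 : act 2 n48745 = n48745 := d23_1 D48745 (iv D48745) F207732
theorem F217556 : act 4 n48745 = n48745 := d34_1 D48745 (iv D48745) F207733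
theorem F217557 : act 6 n48745 = n48745 := d41_1 D48745 (iv D48745) F207734
def n48746 : Q := act 8 n46563
theorem D48746 : act 8 n46563 = n48746 := rfl
theorem F217558 : act 2 n48746 = n46564 := d22_1 D48746 (iv D46564) (iv F207736)
theorem F217559 : act 4 n48746 = n48746 := d33_1 D48746 (iv D48746) F207737
theorem F217560 : act 6 n48746 = n48746 := d40_1 D48746 (iv D48746) F207738
theorem F217561 : act 9 n48746 = n48746 := d44_2 D46563 D48746 (iv D48746) (iv D46563) F146692
def n48747 : Q := act 6 n46568
theorem D48747 : act 6 n46568 = n48747 := rfl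
theorem F217562 : act 0 n48747 = n46989 := d5_1 D48747 F210235 (iv F207755)
theorem F217563 : act 1 n48747 = n48747 := d13_1 D48747 (iv D48747) F207756
theorem F217564 : act 2 n48747 = n46662 := d20_1 D48747 (iv D46662) (iv F207757)
theorem F217565 : act 3 n48747 = n48747 := d26_1 D48747 (iv D48747) F207758
theorem F217566 : act 4 n48747 = n47047 := d31_1 D48747 F210545 (iv F207759)
theorem F217567 : act 5 n48747 = n48747 := d35_1 D48747 (iv D48747) (iv D46568) F173542 D46568
theorem F217568 : act 8 n48747 = n48747 := d40_2 F207761 D48747 (iv D48747)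
theorem F217569 : act 7 n47151 = n48747 := d32_0 F217566 F210546 (iv F211082)
def n48748 : Q := act 9 n46568
theorem D48748 : act 9 n46568 = n48748 := rfl
theorem F217570 : act 0 n48748 = n48126 := d8_1 D48748 (iv D48126) (iv F207755)
theorem F217571 : act 1 n48748 = n48748 := d16_1 D48748 (iv D48748) F207756
theorem F217572 : act 2 n48748 = n46663 := d23_1 D48748 (iv D46663) (iv F207757)
theorem F217573 : act 3 n48748 = n48748 := d29_1 D48748 (iv D48748) F207758
theorem F217574 : act 4 n48748 = n48101 := d34_1 D48748 (iv D48101) (iv F207759)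
theorem F217575 : act 5 n48748 = n46569 := d38_1 D48748 (iv D46569) D46568
theorem F217576 : act 7 n48748 = n46578 := d43_1 D48748 (iv D46578) (iv F207760)
def n48749 : Q := act 8 n46569
theorem D48749 : act 8 n46569 = n48749 := rfl
theorem F217577 : act 0 n48749 = n48583 := d7_1 D48749 (iv D48583) (iv F207762)
theorem F217578 : act 1 n48749 = n48749 := d15_1 D48749 (iv D48749) F207763
theorem F217579 : act 2 n48749 = n46664 := d22_1 D48749 (iv D46664) (iv F207764)
theorem F217580 : act 4 n48749 = n46570 := d33_1 D48749 (iv D46570) (iv F207766)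
theorem F217581 : act 6 n48749 = n48749 := d40_1 D48749 (iv D48749) F207767
theorem F217582 : act 7 n48749 = n46579 := d42_1 D48749 (iv D46579) (iv F207768)
theorem F217583 : act 9 n48749 = n48749 := d44_2 D46569 D48749 (iv D48749) (iv D46569) F173544
def n48750 : Q := act 6 n46571
theorem D48750 : act 6 n46571 = n48750 := rfl
theorem F217584 : act 0 n48750 = n46577 := d5_1 D48750 (iv D46577) (iv F207777)
theorem F217585 : act 1 n48750 = n47146 := d13_1 D48750 F211059 (iv F207778)
theorem F217586 : act 2 n48750 = n46725 := d20_1 D48750 (iv D46725) (iv F207779)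
theorem F217587 : act 3 n48750 = n48750 := d26_1 D48750 (iv D48750) F207780
theorem F217588 : act 4 n48750 = n47245 := d31_1 D48750 F211468 (iv F207781)
theorem F217589 : act 5 n48750 = n46584 := d35_1 D48750 (iv D46584) (iv D41629) (iv F173677) D46571
theorem F217590 : act 7 n48750 = n47148 := d39_2 (iv F207782) D48750 F211068 (iv F210236) F210235
theorem F217591 : act 8 n48750 = n48750 := d40_2 F207783 D48750 (iv D48750)
def n48751 : Q := act 9 n46571
theorem D48751 : act 9 n46571 = n48751 := rfl
theorem F217592 : act 0 n48751 = n46578 := d8_1 D48751 (iv D46578) (iv F207777)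
theorem F217593 : act 1 n48751 = n47862 := d16_1 D48751 F214319 (iv F207778)
theorem F217594 : act 2 n48751 = n46726 := d23_1 D48751 (iv D46726) (iv F207779)
theorem F217595 : act 3 n48751 = n48751 := d29_1 D48751 (iv D48751) F207780
theorem F217596 : act 4 n48751 = n47861 := d34_1 D48751 F214313 (iv F207781)
theorem F217597 : act 5 n48751 = n46572 := d38_1 D48751 (iv D46572) D46571
theorem F217598 : act 7 n48751 = n48126 := d43_1 D48751 (iv D48126) (iv F207782)
theorem F217599 : act 8 n48320 = n48751 := d33_0 F217596 F214312 D48320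
def n48752 : Q := act 8 n46572
theorem D48752 : act 8 n46572 = n48752 := rfl
theorem F217600 : act 0 n48752 = n46579 := d7_1 D48752 (iv D46579) (iv F207784)
theorem F217601 : act 1 n48752 = n48321 := d15_1 D48752 F216048 (iv F207785)
theorem F217602 : act 2 n48752 = n46727 := d22_1 D48752 (iv D46727) (iv F207786)
theorem F217603 : act 4 n48752 = n46573 := d33_1 D48752 (iv D46573) (iv F207788)
theorem F217604 : act 5 n48752 = n48320 := d37_1 D48752 F217599 F217597
theorem F217605 : act 6 n48752 = n46586 := d40_1 D48752 (iv D46586) (iv F207789)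
theorem F217606 : act 7 n48752 = n48583 := d42_1 D48752 (iv D48583) (iv F207790)
theorem F217607 : act 9 n48752 = n48752 := d44_2 D46572 D48752 (iv D48752) (iv D46572) F173678
theorem F217608 : act 3 n48654 = n48752 := d25_3 F217604 F216042 D48654
def n48753 : Q := act 6 n46574
theorem D48753 : act 6 n46574 = n48753 := rfl
theorem F217609 : act 0 n48753 = n47245 := d5_1 D48753 F211468 (iv F207799)
theorem F217610 : act 1 n48753 = n48753 := d13_1 D48753 (iv D48753) F207800
theorem F217611 : act 2 n48753 = n46756 := d20_1 D48753 (iv D46756) (iv F207801)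
theorem F217612 : act 3 n48753 = n48100 := d26_1 D48753 F215349 (iv F207802)
theorem F217613 : act 4 n48753 = n46577 := d31_1 D48753 (iv D46577) (iv F207803)
theorem F217614 : act 5 n48753 = n48217 := d35_1 D48753 F215730 F189018 (iv F205129) D46574
theorem F217615 : act 7 n48753 = n47248 := d39_2 (iv F207804) D48753 F211485 (iv F210546) F210545
theorem F217616 : act 8 n48753 = n48753 := d40_2 F207805 D48753 (iv D48753)
def n48754 : Q := act 9 n46574
theorem D48754 : act 9 n46574 = n48754 := rfl
theorem F217617 : act 0 n48754 = n47861 := d8_1 D48754 F214313 (iv F207799)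
theorem F217618 : act 1 n48754 = n48754 := d16_1 D48754 (iv D48754) F207800
theorem F217619 : act 2 n48754 = n46757 := d23_1 D48754 (iv D46757) (iv F207801)
theorem F217620 : act 3 n48754 = n47860 := d29_1 D48754 F214308 (iv F207802)
theorem F217621 : act 4 n48754 = n46578 := d34_1 D48754 (iv D46578) (iv F207803)
theorem F217622 : act 5 n48754 = n46575 := d38_1 D48754 (iv D46575) D46574
theorem F217623 : act 7 n48754 = n48101 := d43_1 D48754 (iv D48101) (iv F207804)
theorem F217624 : act 8 n48318 = n48754 := d28_0 F217620 (iv D47860) F186038 D45467 D48318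
def n48755 : Q := act 8 n46575
theorem D48755 : act 8 n46575 = n48755 := rfl
theorem F217625 : act 0 n48755 = n47392 := d7_1 D48755 F212077 (iv F207806)
theorem F217626 : act 1 n48755 = n48755 := d15_1 D48755 (iv D48755) F207807
theorem F217627 : act 2 n48755 = n46758 := d22_1 D48755 (iv D46758) (iv F207808)
theorem F217628 : act 3 n48755 = n47391 := d28_1 D48755 (iv D47391) (iv F209031) F209036 (iv F207809)
theorem F217629 : act 4 n48755 = n46576 := d33_1 D48755 (iv D46576) (iv F207810)
theorem F217630 : act 5 n48755 = n48318 := d37_1 D48755 F217624 F217622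
theorem F217631 : act 6 n48755 = n48223 := d40_1 D48755 (iv D48223) (iv F207811)
theorem F217632 : act 7 n48755 = n48102 := d42_1 D48755 (iv D48102) (iv F207812)
theorem F217633 : act 9 n48755 = n48755 := d44_2 D46575 D48755 (iv D48755) (iv D46575) F173759
def n48756 : Q := act 7 n46577
theorem D48756 : act 7 n46577 = n48756 := rfl
theorem F217634 : act 0 n48756 = n47148 := d6_1 D48756 (iv F217590) F217584
theorem F217635 : act 1 n48756 = n48756 := d14_1 D48756 (iv D48756) F207821
theorem F217636 : act 2 n48756 = n46759 := d21_1 D48756 (iv D46759) (iv F207822)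
theorem F217637 : act 3 n48756 = n48756 := d27_1 D48756 (iv D48756) F207823
theorem F217638 : act 4 n48756 = n47248 := d32_1 D48756 (iv F217615) F217613
theorem F217639 : act 5 n48756 = n46594 := d36_1 D48756 (iv D46594) (iv F207824)
theorem F217640 : act 6 n48756 = n47151 := d39_1 D48756 F217569 (iv D48747) F207760 D46577
theorem F217641 : act 8 n48756 = n48756 := d42_2 F207825 D48756 (iv D48756)
def n48757 : Q := act 9 n46577
theorem D48757 : act 9 n46577 = n48757 := rfl
theorem F217642 : act 1 n48757 = n48757 := d16_1 D48757 (iv D48757) F207821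
theorem F217643 : act 2 n48757 = n46760 := d23_1 D48757 (iv D46760) (iv F207822)
theorem F217644 : act 3 n48757 = n48757 := d29_1 D48757 (iv D48757) F207823
theorem F217645 : act 5 n48757 = n46595 := d38_1 D48757 (iv D46595) (iv F207824)
theorem F217646 : act 6 n48757 = n46578 := d41_1 D48757 (iv D46578) D46577
def n48758 : Q := act 8 n46578
theorem D48758 : act 8 n46578 = n48758 := rfl
theorem F217647 : act 0 n48758 = n48320 := d7_1 D48758 F217599 F217592
theorem F217648 : act 1 n48758 = n48758 := d15_1 D48758 (iv D48758) F207826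
theorem F217649 : act 2 n48758 = n46761 := d22_1 D48758 (iv D46761) (iv F207827)
theorem F217650 : act 4 n48758 = n48318 := d33_1 D48758 F217624 F217621
theorem F217651 : act 5 n48758 = n46579 := d37_1 D48758 (iv D46579) (iv F207829)
theorem F217652 : act 9 n48758 = n48758 := d44_2 D46578 D48758 (iv D48758) (iv D46578) F173767
theorem F217653 : act 3 n48652 = n48758 := d24_5 F217650 (iv D48318) F189347 D46438 D48652
def n48759 : Q := act 3 n46579
theorem D48759 : act 3 n46579 = n48759 := rfl
theorem F217654 : act 0 n48759 = n48654 := d2_1 D48759 F217608 F217600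
theorem F217655 : act 1 n48759 = n48759 := d10_1 D48759 (iv D48759) F207830
theorem F217656 : act 4 n48759 = n48759 := d24_2 (iv F207832) D48759 (iv D48759) F207832 F173775
theorem F217657 : act 5 n48759 = n48652 := d25_2 F217651 D48759 F217653
theorem F217658 : act 6 n48759 = n46597 := d26_2 (iv F207833) D48759 (iv D46597)
theorem F217659 : act 8 n48759 = n48759 := d28_2 D46579 D48759 (iv D48759) (iv D46579) F173770
theorem F217660 : act 9 n48759 = n48759 := d29_2 F207834 D48759 (iv D48759)
def n48760 : Q := act 8 n46580
theorem D48760 : act 8 n46580 = n48760 := rfl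
theorem F217661 : act 0 n48760 = n48760 := d7_1 D48760 (iv D48760) F207835
theorem F217662 : act 1 n48760 = n46845 := d15_1 D48760 (iv D46845) (iv F207836)
theorem F217663 : act 2 n48760 = n46582 := d22_1 D48760 (iv D46582) (iv F207837)
theorem F217664 : act 4 n48760 = n47394 := d33_1 D48760 (iv D47394) (iv F207839)
theorem F217665 : act 5 n48760 = n47913 := d37_1 D48760 F214570 (iv F207840)
theorem F217666 : act 6 n48760 = n48588 := d40_1 D48760 (iv D48588) (iv F207841)
theorem F217667 : act 7 n48760 = n48760 := d42_1 D48760 (iv D48760) F207842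
theorem F217668 : act 9 n48760 = n48760 := d44_2 D46580 D48760 (iv D48760) (iv D46580) F173896
def n48761 : Q := act 8 n46581
theorem D48761 : act 8 n46581 = n48761 := rfl
theorem F217669 : act 0 n48761 = n48761 := d7_1 D48761 (iv D48761) F207843
theorem F217670 : act 1 n48761 = n46586 := d15_1 D48761 (iv D46586) (iv F207844)
theorem F217671 : act 2 n48761 = n47394 := d22_1 D48761 (iv D47394) (iv F207845)
theorem F217672 : act 4 n48761 = n46582 := d33_1 D48761 (iv D46582) (iv F207847)
theorem F217673 : act 5 n48761 = n46971 := d37_1 D48761 F210103 (iv F207848)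
theorem F217674 : act 6 n48761 = n48321 := d40_1 D48761 F216048 (iv F207849)
theorem F217675 : act 7 n48761 = n48761 := d42_1 D48761 (iv D48761) F207850
theorem F217676 : act 9 n48761 = n48761 := d44_2 D46581 D48761 (iv D48761) (iv D46581) F173901
theorem F217677 : act 3 n48655 = n48761 := d26_3 F217674 F216045 D48655
def n48762 : Q := act 7 n46584
theorem D48762 : act 7 n46584 = n48762 := rfl
theorem F217678 : act 0 n48762 = n46594 := d6_1 D48762 (iv D46594) (iv F207867)
theorem F217679 : act 1 n48762 = n47143 := d14_1 D48762 F211040 (iv F207868)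
theorem F217680 : act 2 n48762 = n46874 := d21_1 D48762 (iv D46874) (iv F207869)
theorem F217681 : act 3 n48762 = n48762 := d27_1 D48762 (iv D48762) F207870
theorem F217682 : act 4 n48762 = n47749 := d32_1 D48762 F213791 (iv F207871)
theorem F217683 : act 5 n48762 = n47148 := d36_1 D48762 (iv F217590) F217589
theorem F217684 : act 6 n48762 = n48762 := d39_1 D48762 (iv D48762) (iv D46584) F173962 D46584
theorem F217685 : act 8 n48762 = n48762 := d42_2 F207872 D48762 (iv D48762)
def n48763 : Q := act 9 n46584
theorem D48763 : act 9 n46584 = n48763 := rfl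
theorem F217686 : act 0 n48763 = n46595 := d8_1 D48763 (iv D46595) (iv F207867)
theorem F217687 : act 1 n48763 = n47687 := d16_1 D48763 F213425 (iv F207868)
theorem F217688 : act 2 n48763 = n46875 := d23_1 D48763 (iv D46875) (iv F207869)
theorem F217689 : act 3 n48763 = n48763 := d29_1 D48763 (iv D48763) F207870
theorem F217690 : act 4 n48763 = n47686 := d34_1 D48763 F213421 (iv F207871)
theorem F217691 : act 6 n48763 = n46585 := d41_1 D48763 (iv D46585) D46584
def n48764 : Q := act 8 n46585
theorem D48764 : act 8 n46585 = n48764 := rfl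
theorem F217692 : act 0 n48764 = n46596 := d7_1 D48764 (iv D46596) (iv F207873)
theorem F217693 : act 1 n48764 = n46971 := d15_1 D48764 F210103 (iv F207874)
theorem F217694 : act 2 n48764 = n46876 := d22_1 D48764 (iv D46876) (iv F207875)
theorem F217695 : act 4 n48764 = n46970 := d33_1 D48764 F210099 (iv F207877)
theorem F217696 : act 5 n48764 = n46586 := d37_1 D48764 (iv D46586) (iv F207878)
theorem F217697 : act 7 n48764 = n48764 := d42_1 D48764 (iv D48764) F207879
theorem F217698 : act 9 n48764 = n48764 := d44_2 D46585 D48764 (iv D48764) (iv D46585) F173963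
def n48765 : Q := act 3 n46586
theorem D48765 : act 3 n46586 = n48765 := rfl
theorem F217699 : act 0 n48765 = n46597 := d2_1 D48765 (iv D46597) (iv F207880)
theorem F217700 : act 1 n48765 = n48655 := d10_1 D48765 F217677 F217670
theorem F217701 : act 2 n48765 = n47409 := d17_1 D48765 (iv D47409) F178816 (iv F203053) (iv F207881)
theorem F217702 : act 4 n48765 = n48765 := d24_2 (iv F207882) D48765 (iv D48765) F207882 F173971
theorem F217703 : act 6 n48765 = n48654 := d26_2 F217605 D48765 F217608
theorem F217704 : act 7 n48765 = n48765 := d27_2 F207883 D48765 (iv D48765)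
theorem F217705 : act 8 n48765 = n48765 := d28_2 D46586 D48765 (iv D48765) (iv D46586) F173966
theorem F217706 : act 9 n48765 = n48765 := d29_2 F207884 D48765 (iv D48765)
def n48766 : Q := act 6 n46588
theorem D48766 : act 6 n46588 = n48766 := rfl
theorem F217707 : act 0 n48766 = n47747 := d5_1 D48766 F213782 (iv F207894)
theorem F217708 : act 1 n48766 = n48766 := d13_1 D48766 (iv D48766) F207895
theorem F217709 : act 2 n48766 = n46928 := d20_1 D48766 (iv D46928) (iv F207896)
theorem F217710 : act 3 n48766 = n47746 := d26_1 D48766 F213778 (iv F207897)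
theorem F217711 : act 4 n48766 = n48217 := d31_1 D48766 F215730 (iv F207898)
theorem F217712 : act 5 n48766 = n46591 := d35_1 D48766 (iv D46591) (iv D41657) (iv F174082) D46588
theorem F217713 : act 8 n48766 = n48766 := d40_2 F207900 D48766 (iv D48766)
def n48767 : Q := act 9 n46588
theorem D48767 : act 9 n46588 = n48767 := rfl
theorem F217714 : act 0 n48767 = n48283 := d8_1 D48767 (iv D48283) (iv F207894)
theorem F217715 : act 1 n48767 = n48767 := d16_1 D48767 (iv D48767) F207895
theorem F217716 : act 2 n48767 = n46929 := d23_1 D48767 (iv D46929) (iv F207896)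
theorem F217717 : act 3 n48767 = n48427 := d29_1 D48767 (iv D48427) (iv F207897)
theorem F217718 : act 4 n48767 = n48219 := d34_1 D48767 (iv D48219) (iv F207898)
theorem F217719 : act 5 n48767 = n46589 := d38_1 D48767 (iv D46589) D46588
theorem F217720 : act 7 n48767 = n48221 := d43_1 D48767 (iv D48221) (iv F207899)
def n48768 : Q := act 8 n46589
theorem D48768 : act 8 n46589 = n48768 := rfl
theorem F217721 : act 0 n48768 = n48074 := d7_1 D48768 F215244 (iv F207901)
theorem F217722 : act 1 n48768 = n48768 := d15_1 D48768 (iv D48768) F207902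
theorem F217723 : act 2 n48768 = n46930 := d22_1 D48768 (iv D46930) (iv F207903)
theorem F217724 : act 3 n48768 = n48073 := d28_1 D48768 (iv D48073) F187563 D45912 (iv F207904)
theorem F217725 : act 4 n48768 = n46590 := d33_1 D48768 (iv D46590) (iv F207905)
theorem F217726 : act 6 n48768 = n46593 := d40_1 D48768 (iv D46593) (iv F207906)
theorem F217727 : act 7 n48768 = n48602 := d42_1 D48768 (iv D48602) (iv F207907)
theorem F217728 : act 9 n48768 = n48768 := d44_2 D46589 D48768 (iv D48768) (iv D46589) F174083
def n48769 : Q := act 7 n46591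
theorem D48769 : act 7 n46591 = n48769 := rfl
theorem F217729 : act 0 n48769 = n47749 := d6_1 D48769 F213791 (iv F207916)
theorem F217730 : act 1 n48769 = n48769 := d14_1 D48769 (iv D48769) F207917
theorem F217731 : act 2 n48769 = n46931 := d21_1 D48769 (iv D46931) (iv F207918)
theorem F217732 : act 3 n48769 = n47748 := d27_1 D48769 F213788 (iv F207919)
theorem F217733 : act 4 n48769 = n46594 := d32_1 D48769 (iv D46594) (iv F207920)
theorem F217734 : act 6 n48769 = n48769 := d39_1 D48769 (iv D48769) (iv D46591) F174091 D46591
theorem F217735 : act 8 n48769 = n48769 := d42_2 F207921 D48769 (iv D48769)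
def n48770 : Q := act 9 n46591
theorem D48770 : act 9 n46591 = n48770 := rfl
theorem F217736 : act 0 n48770 = n47686 := d8_1 D48770 F213421 (iv F207916)
theorem F217737 : act 1 n48770 = n48770 := d16_1 D48770 (iv D48770) F207917
theorem F217738 : act 2 n48770 = n46932 := d23_1 D48770 (iv D46932) (iv F207918)
theorem F217739 : act 3 n48770 = n47685 := d29_1 D48770 F213418 (iv F207919)
theorem F217740 : act 4 n48770 = n46595 := d34_1 D48770 (iv D46595) (iv F207920)
theorem F217741 : act 6 n48770 = n46592 := d41_1 D48770 (iv D46592) D46591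
def n48771 : Q := act 8 n46592
theorem D48771 : act 8 n46592 = n48771 := rfl
theorem F217742 : act 0 n48771 = n46970 := d7_1 D48771 F210099 (iv F207922)
theorem F217743 : act 1 n48771 = n48771 := d15_1 D48771 (iv D48771) F207923
theorem F217744 : act 2 n48771 = n46933 := d22_1 D48771 (iv D46933) (iv F207924)
theorem F217745 : act 3 n48771 = n46969 := d28_1 D48771 (iv D46969) F176814 D43121 (iv F207925)
theorem F217746 : act 4 n48771 = n46596 := d33_1 D48771 (iv D46596) (iv F207926)
theorem F217747 : act 5 n48771 = n46593 := d37_1 D48771 (iv D46593) (iv F207927)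
theorem F217748 : act 7 n48771 = n48771 := d42_1 D48771 (iv D48771) F207928
theorem F217749 : act 9 n48771 = n48771 := d44_2 D46592 D48771 (iv D48771) (iv D46592) F174092
def n48772 : Q := act 9 n46594
theorem D48772 : act 9 n46594 = n48772 := rfl
theorem F217750 : act 1 n48772 = n48772 := d16_1 D48772 (iv D48772) F207936
theorem F217751 : act 2 n48772 = n46935 := d23_1 D48772 (iv D46935) (iv F207937)
theorem F217752 : act 3 n48772 = n48772 := d29_1 D48772 (iv D48772) F207938
theorem F217753 : act 6 n48772 = n48772 := d41_1 D48772 (iv D48772) F207939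
theorem F217754 : act 7 n48772 = n46595 := d43_1 D48772 (iv D46595) D46594
def n48773 : Q := act 8 n46595
theorem D48773 : act 8 n46595 = n48773 := rfl
theorem F217755 : act 1 n48773 = n48773 := d15_1 D48773 (iv D48773) F207941
theorem F217756 : act 2 n48773 = n46936 := d22_1 D48773 (iv D46936) (iv F207942)
theorem F217757 : act 6 n48773 = n46596 := d40_1 D48773 (iv D46596) (iv F207944)
theorem F217758 : act 9 n48773 = n48773 := d44_2 D46595 D48773 (iv D48773) (iv D46595) F174106
def n48774 : Q := act 3 n46596
theorem D48774 : act 3 n46596 = n48774 := rfl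
theorem F217759 : act 1 n48774 = n48774 := d10_1 D48774 (iv D48774) F207945
theorem F217760 : act 5 n48774 = n46597 := d25_2 (iv F207947) D48774 (iv D46597)
theorem F217761 : act 7 n48774 = n48774 := d27_2 F207948 D48774 (iv D48774)
theorem F217762 : act 8 n48774 = n48774 := d28_2 D46596 D48774 (iv D48774) (iv D46596) F174109
theorem F217763 : act 9 n48774 = n48774 := d29_2 F207949 D48774 (iv D48774)
def n48775 : Q := act 2 n46597
theorem D48775 : act 2 n46597 = n48775 := rfl
theorem F217764 : act 0 n48775 = n47409 := d1_1 D48775 (iv F217701) F217699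
theorem F217765 : act 3 n48775 = n46845 := d17_2 D46597 D48775 F209492 F203040 (iv F174113)
theorem F217766 : act 4 n48775 = n48775 := d18_2 F207951 D48775 (iv D48775)
theorem F217767 : act 7 n48775 = n48775 := d21_2 F207952 D48775 (iv D48775)
theorem F217768 : act 8 n48775 = n48775 := d22_2 F207953 D48775 (iv D48775)
theorem F217769 : act 9 n48775 = n48775 := d23_2 F207954 D48775 (iv D48775)
def n48776 : Q := act 9 n46598
theorem D48776 : act 9 n46598 = n48776 := rfl
theorem F217770 : act 0 n48776 = n48677 := d8_1 D48776 F217297 (iv F207955)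
theorem F217771 : act 1 n48776 = n46599 := d16_1 D48776 (iv D46599) D46598
theorem F217772 : act 2 n48776 = n46610 := d23_1 D48776 (iv D46610) (iv F207956)
theorem F217773 : act 3 n48776 = n48668 := d29_1 D48776 (iv D48668) (iv F207957)
theorem F217774 : act 4 n48776 = n46949 := d34_1 D48776 (iv D46949) (iv F207958)
theorem F217775 : act 5 n48776 = n48660 := d38_1 D48776 (iv D48660) (iv F207959)
theorem F217776 : act 6 n48776 = n46601 := d41_1 D48776 (iv D46601) (iv F207960)
theorem F217777 : act 7 n48776 = n48657 := d43_1 D48776 (iv D48657) (iv F207961)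
def n48777 : Q := act 8 n46599
theorem D48777 : act 8 n46599 = n48777 := rfl
theorem F217778 : act 0 n48777 = n48679 := d7_1 D48777 (iv D48679) (iv F207963)
theorem F217779 : act 2 n48777 = n46600 := d22_1 D48777 (iv D46600) (iv F207964)
theorem F217780 : act 3 n48777 = n48702 := d28_1 D48777 (iv D48702) F207461 (iv F207298) (iv F207965)
theorem F217781 : act 4 n48777 = n46950 := d33_1 D48777 (iv D46950) (iv F207966)
theorem F217782 : act 5 n48777 = n48661 := d37_1 D48777 (iv D48661) (iv F207967)
theorem F217783 : act 6 n48777 = n46602 := d40_1 D48777 (iv D46602) (iv F207968)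
theorem F217784 : act 7 n48777 = n48658 := d42_1 D48777 (iv D48658) (iv F207969)
theorem F217785 : act 9 n48777 = n48777 := d44_2 D46599 D48777 (iv D48777) (iv D46599) F174145
def n48778 : Q := act 8 n46601
theorem D48778 : act 8 n46601 = n48778 := rfl
theorem F217786 : act 0 n48778 = n48666 := d7_1 D48778 F217243 (iv F207978)
theorem F217787 : act 1 n48778 = n46602 := d15_1 D48778 (iv D46602) (iv F207979)
theorem F217788 : act 2 n48778 = n46613 := d22_1 D48778 (iv D46613) (iv F207980)
theorem F217789 : act 3 n48778 = n48665 := d28_1 D48778 (iv D48665) F207274 D46468 (iv F207981)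
theorem F217790 : act 4 n48778 = n46952 := d33_1 D48778 (iv D46952) (iv F207982)
theorem F217791 : act 5 n48778 = n48778 := d37_1 D48778 (iv D48778) F207983
theorem F217792 : act 7 n48778 = n48778 := d42_1 D48778 (iv D48778) F207984
theorem F217793 : act 9 n48778 = n48778 := d44_2 D46601 D48778 (iv D48778) (iv D46601) F174154
def n48779 : Q := act 0 n46603
theorem D48779 : act 0 n46603 = n48779 := rfl
theorem F217794 : act 1 n48779 = n48779 := d0_2 D46603 D48779 (iv D48779) (iv D46603) F174179
theorem F217795 : act 2 n48779 = n48659 := d1_2 (iv F207992) D48779 (iv D48659)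
theorem F217796 : act 3 n48779 = n48779 := d2_2 F207993 D48779 (iv D48779)
theorem F217797 : act 4 n48779 = n47905 := d3_2 (iv F207994) D48779 (iv D47905)
theorem F217798 : act 5 n48779 = n46609 := d4_2 (iv F207995) D48779 (iv D46609)
theorem F217799 : act 6 n48779 = n48779 := d5_2 F207996 D48779 (iv D48779)
theorem F217800 : act 7 n48779 = n47863 := d6_2 (iv F207997) D48779 (iv D47863)
theorem F217801 : act 8 n48779 = n48779 := d7_2 F207998 D48779 (iv D48779)
def n48780 : Q := act 9 n46603
theorem D48780 : act 9 n46603 = n48780 := rfl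
theorem F217802 : act 1 n48780 = n46604 := d16_1 D48780 (iv D46604) D46603
theorem F217803 : act 2 n48780 = n48660 := d23_1 D48780 (iv D48660) (iv F207992)
theorem F217804 : act 3 n48780 = n48780 := d29_1 D48780 (iv D48780) F207993
theorem F217805 : act 4 n48780 = n47906 := d34_1 D48780 (iv D47906) (iv F207994)
theorem F217806 : act 5 n48780 = n46610 := d38_1 D48780 (iv D46610) (iv F207995)
theorem F217807 : act 6 n48780 = n48780 := d41_1 D48780 (iv D48780) F207996
theorem F217808 : act 7 n48780 = n47864 := d43_1 D48780 (iv D47864) (iv F207997)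
def n48781 : Q := act 8 n46604
theorem D48781 : act 8 n46604 = n48781 := rfl
theorem F217809 : act 0 n48781 = n48781 := d7_1 D48781 (iv D48781) F207999
theorem F217810 : act 2 n48781 = n46605 := d22_1 D48781 (iv D46605) (iv F208000)
theorem F217811 : act 4 n48781 = n47907 := d33_1 D48781 (iv D47907) (iv F208002)
theorem F217812 : act 5 n48781 = n46611 := d37_1 D48781 (iv D46611) (iv F208003)
theorem F217813 : act 6 n48781 = n48781 := d40_1 D48781 (iv D48781) F208004
theorem F217814 : act 7 n48781 = n47865 := d42_1 D48781 (iv D47865) (iv F208005)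
theorem F217815 : act 9 n48781 = n48781 := d44_2 D46604 D48781 (iv D48781) (iv D46604) F174183
theorem F217816 : act 3 n48643 = n48781 := d24_5 F217811 F214540 F207182 D46431 D48643
def n48782 : Q := act 0 n46606
theorem D48782 : act 0 n46606 = n48782 := rfl
theorem F217817 : act 1 n48782 = n48782 := d0_2 D46606 D48782 (iv D48782) (iv D46606) F174192
theorem F217818 : act 2 n48782 = n48656 := d1_2 (iv F208014) D48782 (iv D48656)
theorem F217819 : act 3 n48782 = n48782 := d2_2 F208015 D48782 (iv D48782)
theorem F217820 : act 4 n48782 = n46963 := d3_2 (iv F208016) D48782 (iv D46963)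
theorem F217821 : act 5 n48782 = n47863 := d4_2 (iv F208017) D48782 (iv D47863)
theorem F217822 : act 6 n48782 = n48782 := d5_2 F208018 D48782 (iv D48782)
theorem F217823 : act 7 n48782 = n46609 := d6_2 (iv F208019) D48782 (iv D46609)
theorem F217824 : act 8 n48782 = n48782 := d7_2 F208020 D48782 (iv D48782)
def n48783 : Q := act 9 n46606
theorem D48783 : act 9 n46606 = n48783 := rfl
theorem F217825 : act 1 n48783 = n46607 := d16_1 D48783 (iv D46607) D46606
theorem F217826 : act 2 n48783 = n48657 := d23_1 D48783 (iv D48657) (iv F208014)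
theorem F217827 : act 3 n48783 = n48783 := d29_1 D48783 (iv D48783) F208015
theorem F217828 : act 4 n48783 = n46964 := d34_1 D48783 (iv D46964) (iv F208016)
theorem F217829 : act 5 n48783 = n47864 := d38_1 D48783 (iv D47864) (iv F208017)
theorem F217830 : act 6 n48783 = n48783 := d41_1 D48783 (iv D48783) F208018
theorem F217831 : act 7 n48783 = n46610 := d43_1 D48783 (iv D46610) (iv F208019)
def n48784 : Q := act 8 n46607
theorem D48784 : act 8 n46607 = n48784 := rfl
theorem F217832 : act 0 n48784 = n48784 := d7_1 D48784 (iv D48784) F208021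
theorem F217833 : act 2 n48784 = n46608 := d22_1 D48784 (iv D46608) (iv F208022)
theorem F217834 : act 4 n48784 = n46965 := d33_1 D48784 (iv D46965) (iv F208024)
theorem F217835 : act 5 n48784 = n47865 := d37_1 D48784 (iv D47865) (iv F208025)
theorem F217836 : act 6 n48784 = n48784 := d40_1 D48784 (iv D48784) F208026
theorem F217837 : act 7 n48784 = n46611 := d42_1 D48784 (iv D46611) (iv F208027)
theorem F217838 : act 9 n48784 = n48784 := d44_2 D46607 D48784 (iv D48784) (iv D46607) F174197
def n48785 : Q := act 9 n46609
theorem D48785 : act 9 n46609 = n48785 := rfl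
theorem F217839 : act 0 n48785 = n46610 := d8_1 D48785 (iv D46610) D46609
theorem F217840 : act 1 n48785 = n48785 := d16_1 D48785 (iv D48785) F208036
theorem F217841 : act 2 n48785 = n48677 := d23_1 D48785 F217297 (iv F208037)
theorem F217842 : act 3 n48785 = n48785 := d29_1 D48785 (iv D48785) F208038
theorem F217843 : act 4 n48785 = n46966 := d34_1 D48785 (iv D46966) (iv F208039)
theorem F217844 : act 6 n48785 = n46612 := d41_1 D48785 (iv D46612) (iv F208040)
def n48786 : Q := act 8 n46610
theorem D48786 : act 8 n46610 = n48786 := rfl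
theorem F217845 : act 1 n48786 = n46611 := d15_1 D48786 (iv D46611) (iv F208042)
theorem F217846 : act 4 n48786 = n46967 := d33_1 D48786 (iv D46967) (iv F208044)
theorem F217847 : act 6 n48786 = n46613 := d40_1 D48786 (iv D46613) (iv F208045)
theorem F217848 : act 9 n48786 = n48786 := d44_2 D46610 D48786 (iv D48786) (iv D46610) F174206
def n48787 : Q := act 3 n46611
theorem D48787 : act 3 n46611 = n48787 := rfl
theorem F217849 : act 0 n48787 = n48787 := d2_1 D48787 (iv D48787) F208046
theorem F217850 : act 2 n48787 = n48787 := d17_1 D48787 (iv D48787) F208047 F174213 (iv F208047)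
theorem F217851 : act 5 n48787 = n48643 := d25_2 F217812 D48787 F217816
theorem F217852 : act 6 n48787 = n46614 := d26_2 (iv F208049) D48787 (iv D46614)
theorem F217853 : act 8 n48787 = n48787 := d28_2 D46611 D48787 (iv D48787) (iv D46611) F174209
theorem F217854 : act 9 n48787 = n48787 := d29_2 F208050 D48787 (iv D48787)
theorem F217855 : act 4 n48650 = n48787 := d30_5 F217851 (iv D48643) F207187 D46437 D48650
def n48788 : Q := act 8 n46612
theorem D48788 : act 8 n46612 = n48788 := rfl
theorem F217856 : act 0 n48788 = n46613 := d7_1 D48788 (iv D46613) (iv F208051)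
theorem F217857 : act 1 n48788 = n48788 := d15_1 D48788 (iv D48788) F208052
theorem F217858 : act 2 n48788 = n48666 := d22_1 D48788 F217243 (iv F208053)
theorem F217859 : act 4 n48788 = n46969 := d33_1 D48788 (iv D46969) (iv F208055)
theorem F217860 : act 5 n48788 = n48788 := d37_1 D48788 (iv D48788) F208056
theorem F217861 : act 7 n48788 = n48788 := d42_1 D48788 (iv D48788) F208057
theorem F217862 : act 9 n48788 = n48788 := d44_2 D46612 D48788 (iv D48788) (iv D46612) F174222
def n48789 : Q := act 3 n46613
theorem D48789 : act 3 n46613 = n48789 := rfl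
theorem F217863 : act 1 n48789 = n46614 := d10_1 D48789 (iv D46614) (iv F208058)
theorem F217864 : act 5 n48789 = n48789 := d25_2 F208060 D48789 (iv D48789)
theorem F217865 : act 7 n48789 = n48789 := d27_2 F208061 D48789 (iv D48789)
theorem F217866 : act 8 n48789 = n48789 := d28_2 D46613 D48789 (iv D48789) (iv D46613) F174224
theorem F217867 : act 9 n48789 = n48789 := d29_2 F208062 D48789 (iv D48789)
def n48790 : Q := act 4 n46614
theorem D48790 : act 4 n46614 = n48790 := rfl
theorem F217868 : act 0 n48790 = n48790 := d3_1 D48790 (iv D48790) F208063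
theorem F217869 : act 2 n48790 = n48790 := d18_1 D48790 (iv D48790) F208064
theorem F217870 : act 3 n48790 = n46971 := d24_1 D48790 (iv D46971) (iv D42310) (iv F174230) D46614
theorem F217871 : act 6 n48790 = n48650 := d31_2 F217852 D48790 F217855
theorem F217872 : act 7 n48790 = n48790 := d32_2 F208066 D48790 (iv D48790)
theorem F217873 : act 8 n48790 = n48790 := d33_2 F208067 D48790 (iv D48790)
theorem F217874 : act 9 n48790 = n48790 := d34_2 F208068 D48790 (iv D48790)
theorem F217875 : act 5 n48655 = n48790 := d35_5 F217871 (iv D48650) F207213 D46441 D48655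
def n48791 : Q := act 3 n46625
theorem D48791 : act 3 n46625 = n48791 := rfl
theorem F217876 : act 0 n48791 = n47762 := d2_1 D48791 (iv D47762) (iv F208159)
theorem F217877 : act 1 n48791 = n47018 := d10_1 D48791 (iv D47018) (iv F208160)
theorem F217878 : act 2 n48791 = n48120 := d17_1 D48791 F215405 F188222 (iv F206299) (iv F208161)
theorem F217879 : act 5 n48791 = n47751 := d25_2 (iv F208163) D48791 (iv D47751)
theorem F217880 : act 6 n48791 = n48117 := d26_2 (iv F208164) D48791 F215397
theorem F217881 : act 7 n48791 = n46669 := d27_2 (iv F208165) D48791 (iv D46669)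
theorem F217882 : act 8 n48791 = n46629 := d28_2 D46625 D48791 (iv D46629) (iv D41895) D41893
def n48792 : Q := act 9 n46625
theorem D48792 : act 9 n46625 = n48792 := rfl
theorem F217883 : act 0 n48792 = n47763 := d8_1 D48792 (iv D47763) (iv F208159)
theorem F217884 : act 1 n48792 = n47019 := d16_1 D48792 (iv D47019) (iv F208160)
theorem F217885 : act 2 n48792 = n47759 := d23_1 D48792 (iv D47759) (iv F208161)
theorem F217886 : act 4 n48792 = n48792 := d34_1 D48792 (iv D48792) F208162
theorem F217887 : act 5 n48792 = n47752 := d38_1 D48792 (iv D47752) (iv F208163)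
theorem F217888 : act 6 n48792 = n48582 := d41_1 D48792 (iv D48582) (iv F208164)
theorem F217889 : act 7 n48792 = n46670 := d43_1 D48792 (iv D46670) (iv F208165)
theorem F217890 : act 8 n48792 = n46653 := d44_1 D48792 (iv D46653) (iv D41939) (iv F175122) D46625
def n48793 : Q := act 8 n46627
theorem D48793 : act 8 n46627 = n48793 := rfl
theorem F217891 : act 0 n48793 = n48123 := d7_1 D48793 F215414 (iv F208175)
theorem F217892 : act 1 n48793 = n47022 := d15_1 D48793 (iv D47022) (iv F208176)
theorem F217893 : act 2 n48793 = n46637 := d22_1 D48793 (iv D46637) (iv F208177)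
theorem F217894 : act 3 n48793 = n48236 := d28_1 D48793 F215792 F189150 (iv F207026) (iv F208178)
theorem F217895 : act 4 n48793 = n46631 := d33_1 D48793 (iv D46631) (iv F208179)
theorem F217896 : act 5 n48793 = n47775 := d37_1 D48793 F213933 (iv F208180)
theorem F217897 : act 6 n48793 = n46673 := d40_1 D48793 (iv D46673) (iv F208181)
theorem F217898 : act 7 n48793 = n46628 := d42_1 D48793 (iv D46628) D46627
theorem F217899 : act 9 n48793 = n47789 := d44_2 (iv F208182) D48793 (iv D47789) (iv D44444) (iv F205515)
def n48794 : Q := act 3 n46628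
theorem D48794 : act 3 n46628 = n48794 := rfl
theorem F217900 : act 0 n48794 = n48120 := d2_1 D48794 F215405 (iv F208183)
theorem F217901 : act 1 n48794 = n47023 := d10_1 D48794 (iv D47023) (iv F208184)
theorem F217902 : act 2 n48794 = n47762 := d17_1 D48794 (iv D47762) F184974 (iv F206132) (iv F208185)
theorem F217903 : act 5 n48794 = n47764 := d25_2 (iv F208187) D48794 F213879
theorem F217904 : act 6 n48794 = n46629 := d26_2 (iv F208188) D48794 (iv D46629)
theorem F217905 : act 7 n48794 = n48236 := d27_2 F217898 D48794 (iv F217894)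
theorem F217906 : act 8 n48794 = n48117 := d28_2 D46628 D48794 F215397 F208158 F208153
def n48795 : Q := act 9 n46628
theorem D48795 : act 9 n46628 = n48795 := rfl
theorem F217907 : act 0 n48795 = n48124 := d8_1 D48795 (iv D48124) (iv F208183)
theorem F217908 : act 1 n48795 = n47024 := d16_1 D48795 (iv D47024) (iv F208184)
theorem F217909 : act 2 n48795 = n46638 := d23_1 D48795 (iv D46638) (iv F208185)
theorem F217910 : act 4 n48795 = n46633 := d34_1 D48795 (iv D46633) (iv F208186)
theorem F217911 : act 5 n48795 = n47776 := d38_1 D48795 (iv D47776) (iv F208187)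
theorem F217912 : act 6 n48795 = n46630 := d41_1 D48795 (iv D46630) (iv F208188)
theorem F217913 : act 7 n48795 = n47789 := d43_1 D48795 (iv F217899) F217898
theorem F217914 : act 8 n48795 = n46655 := d44_1 D48795 (iv D46655) (iv D41942) (iv F175126) D46628
def n48796 : Q := act 2 n46629
theorem D48796 : act 2 n46629 = n48796 := rfl
theorem F217915 : act 0 n48796 = n48117 := d1_1 D48796 F215396 (iv F208189)
theorem F217916 : act 3 n48796 = n46639 := d17_2 D46629 D48796 (iv D46639) (iv D41905) (iv F175128)
theorem F217917 : act 5 n48796 = n46654 := d19_2 (iv F208191) D48796 F208366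
theorem F217918 : act 6 n48796 = n47762 := d20_2 F217904 D48796 (iv F217902)
theorem F217919 : act 7 n48796 = n46676 := d21_2 (iv F208192) D48796 (iv D46676)
theorem F217920 : act 8 n48796 = n48120 := d22_2 F217882 D48796 (iv F217878)
theorem F217921 : act 1 n47090 = n48796 := d13_3 F217918 F213869 (iv F210754)
def n48797 : Q := act 4 n46629
theorem D48797 : act 4 n46629 = n48797 := rfl
theorem F217922 : act 0 n48797 = n47100 := d3_1 D48797 F210792 (iv F208189)
theorem F217923 : act 1 n48797 = n47026 := d11_1 D48797 (iv D47026) (iv F208190)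
theorem F217924 : act 3 n48797 = n46634 := d24_1 D48797 (iv D46634) (iv D41898) (iv F175129) D46629
theorem F217925 : act 5 n48797 = n47066 := d30_2 (iv F208191) D48797 (iv D47066) F177312 (iv F201909)
theorem F217926 : act 7 n48797 = n46677 := d32_2 (iv F208192) D48797 (iv D46677)
def n48798 : Q := act 9 n46629
theorem D48798 : act 9 n46629 = n48798 := rfl
theorem F217927 : act 0 n48798 = n48121 := d8_1 D48798 (iv D48121) (iv F208189)
theorem F217928 : act 1 n48798 = n47027 := d16_1 D48798 (iv D47027) (iv F208190)
theorem F217929 : act 3 n48798 = n46630 := d29_1 D48798 (iv D46630) D46629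
theorem F217930 : act 5 n48798 = n47753 := d38_1 D48798 (iv D47753) (iv F208191)
theorem F217931 : act 7 n48798 = n46678 := d43_1 D48798 (iv D46678) (iv F208192)
def n48799 : Q := act 3 n46631
theorem D48799 : act 3 n46631 = n48799 := rfl
theorem F217932 : act 0 n48799 = n47108 := d2_1 D48799 F210822 (iv F208200)
theorem F217933 : act 1 n48799 = n47028 := d10_1 D48799 (iv D47028) (iv F208201)
theorem F217934 : act 2 n48799 = n48799 := d17_1 D48799 (iv D48799) F208202 F175184 (iv F208202)
theorem F217935 : act 5 n48799 = n48799 := d25_2 F208203 D48799 (iv D48799)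
theorem F217936 : act 6 n48799 = n46679 := d26_2 (iv F208204) D48799 (iv D46679)
theorem F217937 : act 7 n48799 = n46632 := d27_2 (iv F208205) D48799 (iv D46632)
theorem F217938 : act 8 n48799 = n48799 := d28_2 D46631 D48799 (iv D48799) (iv D46631) F175134
theorem F217939 : act 9 n48799 = n48601 := d29_2 (iv F208206) D48799 (iv D48601)
theorem F217940 : act 4 n47188 = n48799 := d46_2 F188568 (iv F211255) (iv D48799) F208202 F175183 F122195 (iv D28779) F85433 (iv F122178) (iv F205787) F89578 (iv F128234) (iv F203310) F205968 F121875 (iv D20748) F62671 F47629 F33571 F23733 F194522 (iv D3907) F13180 (iv D2709) F9389 F6696 (iv F8540) (iv F11963) D3518 F16826 F12070 (iv F200784) (iv F12652) F12651 D2603 F12680 F9016 F6560 (iv F9183) F9182 F201548 (iv F201559) D2642 D3810 D5504 F25514 F202420 F31031 D9821 F205472 F59710 (iv F59938) F59937 (iv F60567) (iv F86409) D29124 F123658 (iv F177370) F205823 (iv F188712) (iv F215559) (iv D48157)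
def n48800 : Q := act 4 n46632
theorem D48800 : act 4 n46632 = n48800 := rfl
theorem F217941 : act 0 n48800 = n47105 := d3_1 D48800 F210811 (iv F208207)
theorem F217942 : act 1 n48800 = n47013 := d11_1 D48800 F210371 (iv F208208)
theorem F217943 : act 2 n48800 = n48800 := d18_1 D48800 (iv D48800) F208209
theorem F217944 : act 6 n48800 = n46634 := d31_2 (iv F208211) D48800 (iv D46634)
theorem F217945 : act 7 n48800 = n47188 := d32_2 F217937 D48800 F217940
theorem F217946 : act 8 n48800 = n48800 := d33_2 F208212 D48800 (iv D48800)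
theorem F217947 : act 5 n48081 = n48800 := d36_3 F217945 F211255 (iv F215281)
def n48801 : Q := act 9 n46632
theorem D48801 : act 9 n46632 = n48801 := rfl
theorem F217948 : act 0 n48801 = n47109 := d8_1 D48801 (iv D47109) (iv F208207)
theorem F217949 : act 1 n48801 = n47030 := d16_1 D48801 (iv D47030) (iv F208208)
theorem F217950 : act 2 n48801 = n48801 := d23_1 D48801 (iv D48801) F208209
theorem F217951 : act 3 n48801 = n46633 := d29_1 D48801 (iv D46633) D46632
theorem F217952 : act 5 n48801 = n48801 := d38_1 D48801 (iv D48801) F208210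
theorem F217953 : act 6 n48801 = n46635 := d41_1 D48801 (iv D46635) (iv F208211)
theorem F217954 : act 7 n48801 = n48601 := d43_1 D48801 (iv F217939) F217937
theorem F217955 : act 8 n48580 = n48801 := d42_0 F217954 F216994 (iv F216892)
def n48802 : Q := act 9 n46634
theorem D48802 : act 9 n46634 = n48802 := rfl
theorem F217956 : act 0 n48802 = n47106 := d8_1 D48802 (iv D47106) (iv F208220)
theorem F217957 : act 1 n48802 = n47032 := d16_1 D48802 (iv D47032) (iv F208221)
theorem F217958 : act 2 n48802 = n48802 := d23_1 D48802 (iv D48802) F208222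
theorem F217959 : act 4 n48802 = n46635 := d34_1 D48802 (iv D46635) D46634
theorem F217960 : act 5 n48802 = n47071 := d38_1 D48802 (iv D47071) (iv F208223)
theorem F217961 : act 7 n48802 = n46683 := d43_1 D48802 (iv D46683) (iv F208224)
def n48803 : Q := act 8 n46635
theorem D48803 : act 8 n46635 = n48803 := rfl
theorem F217962 : act 0 n48803 = n47110 := d7_1 D48803 (iv D47110) (iv F208226)
theorem F217963 : act 1 n48803 = n47033 := d15_1 D48803 (iv D47033) (iv F208227)
theorem F217964 : act 2 n48803 = n48803 := d22_1 D48803 (iv D48803) F208228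
theorem F217965 : act 3 n48803 = n46661 := d28_1 D48803 (iv D46661) F175371 (iv F175151) (iv F208229)
theorem F217966 : act 5 n48803 = n46636 := d37_1 D48803 (iv D46636) (iv F208230)
theorem F217967 : act 6 n48803 = n48580 := d40_1 D48803 F217955 F217953
theorem F217968 : act 7 n48803 = n46684 := d42_1 D48803 (iv D46684) (iv F208231)
theorem F217969 : act 9 n48803 = n48803 := d44_2 D46635 D48803 (iv D48803) (iv D46635) F175146
def n48804 : Q := act 9 n46639
theorem D48804 : act 9 n46639 = n48804 := rfl
theorem F217970 : act 0 n48804 = n48582 := d8_1 D48804 (iv D48582) (iv F208256)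
theorem F217971 : act 1 n48804 = n47091 := d16_1 D48804 (iv D47091) (iv F208257)
theorem F217972 : act 2 n48804 = n46640 := d23_1 D48804 (iv D46640) D46639
theorem F217973 : act 4 n48804 = n48804 := d34_1 D48804 (iv D48804) F208258
theorem F217974 : act 5 n48804 = n46655 := d38_1 D48804 (iv D46655) (iv F208259)
theorem F217975 : act 6 n48804 = n47763 := d41_1 D48804 (iv D47763) (iv F208260)
theorem F217976 : act 7 n48804 = n46694 := d43_1 D48804 (iv D46694) (iv F208261)
theorem F217977 : act 8 n48804 = n47776 := d44_1 D48804 (iv D47776) F208174 F208172 (iv F208262)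
def n48805 : Q := act 3 n46642
theorem D48805 : act 3 n46642 = n48805 := rfl
theorem F217978 : act 0 n48805 = n47053 := d2_1 D48805 (iv D47053) (iv F208280)
theorem F217979 : act 1 n48805 = n46645 := d10_1 D48805 (iv D46645) (iv F208281)
theorem F217980 : act 4 n48805 = n48111 := d24_2 (iv F208283) D48805 F215382 F188278 F206288
theorem F217981 : act 5 n48805 = n47754 := d25_2 (iv F208284) D48805 (iv D47754)
theorem F217982 : act 6 n48805 = n48115 := d26_2 (iv F208285) D48805 F215391
theorem F217983 : act 7 n48805 = n46707 := d27_2 (iv F208286) D48805 (iv D46707)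
theorem F217984 : act 8 n48805 = n47766 := d28_2 D46642 D48805 F213890 F206184 (iv F197113)
theorem F217985 : act 2 n48104 = n48805 := d22_3 F217984 F213889 (iv F215366)
def n48806 : Q := act 9 n46642
theorem D48806 : act 9 n46642 = n48806 := rfl
theorem F217986 : act 0 n48806 = n47054 := d8_1 D48806 (iv D47054) (iv F208280)
theorem F217987 : act 1 n48806 = n46646 := d16_1 D48806 (iv D46646) (iv F208281)
theorem F217988 : act 2 n48806 = n48806 := d23_1 D48806 (iv D48806) F208282
theorem F217989 : act 4 n48806 = n46643 := d34_1 D48806 (iv D46643) (iv F208283)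
theorem F217990 : act 5 n48806 = n47755 := d38_1 D48806 (iv D47755) (iv F208284)
theorem F217991 : act 6 n48806 = n48581 := d41_1 D48806 (iv D48581) (iv F208285)
theorem F217992 : act 7 n48806 = n46708 := d43_1 D48806 (iv D46708) (iv F208286)
theorem F217993 : act 8 n48806 = n47772 := d44_1 D48806 (iv D47772) F201814 (iv F197114) D46642
def n48807 : Q := act 8 n46644
theorem D48807 : act 8 n46644 = n48807 := rfl
theorem F217994 : act 0 n48807 = n47035 := d7_1 D48807 (iv D47035) (iv F208295)
theorem F217995 : act 1 n48807 = n46649 := d15_1 D48807 (iv D46649) (iv F208296)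
theorem F217996 : act 2 n48807 = n48589 := d22_1 D48807 (iv D48589) (iv F208297)
theorem F217997 : act 3 n48807 = n46664 := d28_1 D48807 (iv D46664) F175379 (iv F201345) (iv F208298)
theorem F217998 : act 4 n48807 = n47008 := d33_1 D48807 (iv D47008) (iv F208299)
theorem F217999 : act 5 n48807 = n48584 := d37_1 D48807 (iv D48584) (iv F208300)
theorem F218000 : act 6 n48807 = n48807 := d40_1 D48807 (iv D48807) F208301
theorem F218001 : act 7 n48807 = n46713 := d42_1 D48807 (iv D46713) (iv F208302)
theorem F218002 : act 9 n48807 = n48807 := d44_2 D46644 D48807 (iv D48807) (iv D46644) F175252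
def n48808 : Q := act 9 n46645
theorem D48808 : act 9 n46645 = n48808 := rfl
theorem F218003 : act 0 n48808 = n46658 := d8_1 D48808 (iv D46658) (iv F208303)
theorem F218004 : act 2 n48808 = n47761 := d23_1 D48808 (iv D47761) (iv F208304)
theorem F218005 : act 3 n48808 = n46646 := d29_1 D48808 (iv D46646) D46645
theorem F218006 : act 4 n48808 = n48112 := d34_1 D48808 (iv D48112) (iv F208305)
theorem F218007 : act 5 n48808 = n47757 := d38_1 D48808 (iv D47757) (iv F208306)
theorem F218008 : act 6 n48808 = n48118 := d41_1 D48808 (iv D48118) (iv F208307)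
theorem F218009 : act 7 n48808 = n46721 := d43_1 D48808 (iv D46721) (iv F208308)
def n48809 : Q := act 6 n46647
theorem D48809 : act 6 n46647 = n48809 := rfl
theorem F218010 : act 0 n48809 = n46662 := d5_1 D48809 (iv D46662) (iv F208317)
theorem F218011 : act 1 n48809 = n46983 := d13_1 D48809 F210193 (iv F208318)
theorem F218012 : act 2 n48809 = n46989 := d20_1 D48809 F210235 (iv F208319)
theorem F218013 : act 3 n48809 = n46995 := d26_1 D48809 F210275 (iv F208320)
theorem F218014 : act 4 n48809 = n47042 := d31_1 D48809 F210517 (iv F208321)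
theorem F218015 : act 5 n48809 = n48809 := d35_1 D48809 (iv D48809) (iv D46647) F175290 D46647
theorem F218016 : act 8 n48809 = n48809 := d40_2 F208323 D48809 (iv D48809)
theorem F218017 : act 7 n47138 = n48809 := d32_0 F218014 F210518 (iv F211009)
def n48810 : Q := act 9 n46647
theorem D48810 : act 9 n46647 = n48810 := rfl
theorem F218018 : act 0 n48810 = n46663 := d8_1 D48810 (iv D46663) (iv F208317)
theorem F218019 : act 1 n48810 = n47007 := d16_1 D48810 (iv D47007) (iv F208318)
theorem F218020 : act 2 n48810 = n48126 := d23_1 D48810 (iv D48126) (iv F208319)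
theorem F218021 : act 3 n48810 = n46996 := d29_1 D48810 (iv D46996) (iv F208320)
theorem F218022 : act 4 n48810 = n48125 := d34_1 D48810 (iv D48125) (iv F208321)
theorem F218023 : act 5 n48810 = n46648 := d38_1 D48810 (iv D46648) D46647
theorem F218024 : act 7 n48810 = n46726 := d43_1 D48810 (iv D46726) (iv F208322)
def n48811 : Q := act 8 n46648
theorem D48811 : act 8 n46648 = n48811 := rfl
theorem F218025 : act 0 n48811 = n46664 := d7_1 D48811 (iv D46664) (iv F208324)
theorem F218026 : act 1 n48811 = n47008 := d15_1 D48811 (iv D47008) (iv F208325)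
theorem F218027 : act 2 n48811 = n48583 := d22_1 D48811 (iv D48583) (iv F208326)
theorem F218028 : act 3 n48811 = n47035 := d28_1 D48811 (iv D47035) F202065 (iv F177035) (iv F208327)
theorem F218029 : act 4 n48811 = n46649 := d33_1 D48811 (iv D46649) (iv F208328)
theorem F218030 : act 6 n48811 = n48811 := d40_1 D48811 (iv D48811) F208329
theorem F218031 : act 7 n48811 = n46727 := d42_1 D48811 (iv D46727) (iv F208330)
theorem F218032 : act 9 n48811 = n48811 := d44_2 D46648 D48811 (iv D48811) (iv D46648) F175292
def n48812 : Q := act 8 n46650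
theorem D48812 : act 8 n46650 = n48812 := rfl
theorem F218033 : act 0 n48812 = n47775 := d7_1 D48812 F213933 (iv F208338)
theorem F218034 : act 1 n48812 = n47083 := d15_1 D48812 (iv D47083) (iv F208339)
theorem F218035 : act 2 n48812 = n47750 := d22_1 D48812 F213799 (iv F208340)
theorem F218036 : act 3 n48812 = n47782 := d28_1 D48812 F213971 F185528 (iv F205515) (iv F208341)
theorem F218037 : act 4 n48812 = n48812 := d33_1 D48812 (iv D48812) F208342
theorem F218038 : act 5 n48812 = n48123 := d37_1 D48812 F215414 (iv F208343)
theorem F218039 : act 6 n48812 = n46733 := d40_1 D48812 (iv D46733) (iv F208344)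
theorem F218040 : act 7 n48812 = n46651 := d42_1 D48812 (iv D46651) D46650
theorem F218041 : act 9 n48812 = n48620 := d44_2 (iv F208345) D48812 (iv D48620) (iv D46400) (iv F207026)
def n48813 : Q := act 3 n46651
theorem D48813 : act 3 n46651 = n48813 := rfl
theorem F218042 : act 0 n48813 = n47764 := d2_1 D48813 F213879 (iv F208346)
theorem F218043 : act 1 n48813 = n47084 := d10_1 D48813 (iv D47084) (iv F208347)
theorem F218044 : act 2 n48813 = n47751 := d17_1 D48813 (iv D47751) F197069 D44271 (iv F208348)
theorem F218045 : act 5 n48813 = n48120 := d25_2 (iv F208350) D48813 F215405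
theorem F218046 : act 6 n48813 = n46652 := d26_2 (iv F208351) D48813 (iv D46652)
theorem F218047 : act 7 n48813 = n47782 := d27_2 F218040 D48813 (iv F218036)
theorem F218048 : act 8 n48813 = n46654 := d28_2 D46651 D48813 (iv D46654) (iv D41942) (iv F175328)
theorem F218049 : act 4 n48092 = n48813 := d33_3 F218048 F208367 (iv F215319)
def n48814 : Q := act 9 n46651
theorem D48814 : act 9 n46651 = n48814 := rfl
theorem F218050 : act 0 n48814 = n47776 := d8_1 D48814 (iv D47776) (iv F208346)
theorem F218051 : act 1 n48814 = n47085 := d16_1 D48814 (iv D47085) (iv F208347)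
theorem F218052 : act 2 n48814 = n47760 := d23_1 D48814 (iv D47760) (iv F208348)
theorem F218053 : act 4 n48814 = n48814 := d34_1 D48814 (iv D48814) F208349
theorem F218054 : act 5 n48814 = n48124 := d38_1 D48814 (iv D48124) (iv F208350)
theorem F218055 : act 6 n48814 = n46653 := d41_1 D48814 (iv D46653) (iv F208351)
theorem F218056 : act 7 n48814 = n48620 := d43_1 D48814 (iv F218041) F218040
theorem F218057 : act 8 n48814 = n48582 := d44_1 D48814 (iv D48582) F208158 F208156 D46651
def n48815 : Q := act 4 n46652
theorem D48815 : act 4 n46652 = n48815 := rfl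
theorem F218058 : act 0 n48815 = n47767 := d3_1 D48815 (iv D47767) (iv F208352)
theorem F218059 : act 1 n48815 = n47087 := d11_1 D48815 (iv D47087) (iv F208353)
theorem F218060 : act 2 n48815 = n47756 := d18_1 D48815 (iv D47756) (iv F208354)
theorem F218061 : act 3 n48815 = n48815 := d24_1 D48815 (iv D48815) (iv D46652) F175331 D46652
theorem F218062 : act 5 n48815 = n48109 := d30_2 (iv F208355) D48815 (iv D48109) F188173 (iv F201791)
theorem F218063 : act 6 n48815 = n48092 := d31_2 F218046 D48815 F218049
theorem F218064 : act 7 n48815 = n46736 := d32_2 (iv F208356) D48815 (iv D46736)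
theorem F218065 : act 8 n48815 = n46657 := d33_2 (iv F208357) D48815 (iv D46657)
def n48816 : Q := act 9 n46652
theorem D48816 : act 9 n46652 = n48816 := rfl
theorem F218066 : act 0 n48816 = n47768 := d8_1 D48816 (iv D47768) (iv F208352)
theorem F218067 : act 1 n48816 = n47088 := d16_1 D48816 (iv D47088) (iv F208353)
theorem F218068 : act 2 n48816 = n47757 := d23_1 D48816 (iv D47757) (iv F208354)
theorem F218069 : act 3 n48816 = n46653 := d29_1 D48816 (iv D46653) D46652
theorem F218070 : act 5 n48816 = n47761 := d38_1 D48816 (iv D47761) (iv F208355)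
theorem F218071 : act 7 n48816 = n46737 := d43_1 D48816 (iv D46737) (iv F208356)
def n48817 : Q := act 9 n46654
theorem D48817 : act 9 n46654 = n48817 := rfl
theorem F218072 : act 0 n48817 = n48118 := d8_1 D48817 (iv D48118) (iv F208364)
theorem F218073 : act 1 n48817 = n47096 := d16_1 D48817 (iv D47096) (iv F208365)
theorem F218074 : act 2 n48817 = n47753 := d23_1 D48817 (iv D47753) (iv F208366)
theorem F218075 : act 3 n48817 = n46655 := d29_1 D48817 (iv D46655) D46654
theorem F218076 : act 4 n48817 = n48098 := d34_1 D48817 (iv D48098) (iv F208367)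
theorem F218077 : act 6 n48817 = n46658 := d41_1 D48817 (iv D46658) (iv F208368)
theorem F218078 : act 7 n48817 = n47787 := d43_1 D48817 (iv D47787) (iv F208369)
def n48818 : Q := act 9 n46656
theorem D48818 : act 9 n46656 = n48818 := rfl
theorem F218079 : act 0 n48818 = n47761 := d8_1 D48818 (iv D47761) (iv F208376)
theorem F218080 : act 1 n48818 = n48086 := d16_1 D48818 (iv D48086) F208382
theorem F218081 : act 2 n48818 = n46658 := d23_1 D48818 (iv D46658) D46656
theorem F218082 : act 3 n48818 = n46665 := d29_1 D48818 (iv D46665) (iv F208377)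
theorem F218083 : act 4 n48818 = n48097 := d34_1 D48818 (iv D48097) F208383
theorem F218084 : act 5 n48818 = n47768 := d38_1 D48818 (iv D47768) (iv F208378)
theorem F218085 : act 6 n48818 = n47753 := d41_1 D48818 (iv D47753) (iv F208379)
theorem F218086 : act 7 n48818 = n46749 := d43_1 D48818 (iv D46749) (iv F208380)
def n48819 : Q := act 5 n46657
theorem D48819 : act 5 n46657 = n48819 := rfl
theorem F218087 : act 0 n48819 = n48108 := d4_1 D48819 F215378 (iv F208384)
theorem F218088 : act 1 n48819 = n47100 := d12_1 D48819 (iv D47100) (iv F208385)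
theorem F218089 : act 2 n48819 = n48094 := d19_1 D48819 F215324 (iv F208386)
theorem F218090 : act 3 n48819 = n46659 := d25_1 D48819 (iv D46659) (iv F208387)
theorem F218091 : act 4 n48819 = n47769 := d30_1 D48819 (iv D47769) (iv D44287) (iv F175347) D46657
theorem F218092 : act 7 n48819 = n46750 := d36_2 (iv F208389) D48819 (iv D46750)
theorem F218093 : act 8 n48819 = n48109 := d37_2 F218065 D48819 (iv F218062)
def n48820 : Q := act 9 n46657
theorem D48820 : act 9 n46657 = n48820 := rfl
theorem F218094 : act 0 n48820 = n48112 := d8_1 D48820 (iv D48112) (iv F208384)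
theorem F218095 : act 1 n48820 = n47101 := d16_1 D48820 (iv D47101) (iv F208385)
theorem F218096 : act 2 n48820 = n48097 := d23_1 D48820 (iv D48097) (iv F208386)
theorem F218097 : act 3 n48820 = n46660 := d29_1 D48820 (iv D46660) (iv F208387)
theorem F218098 : act 4 n48820 = n46658 := d34_1 D48820 (iv D46658) D46657
theorem F218099 : act 6 n48820 = n48098 := d41_1 D48820 (iv D48098) (iv F208388)
theorem F218100 : act 7 n48820 = n46751 := d43_1 D48820 (iv D46751) (iv F208389)
def n48821 : Q := act 8 n46658
theorem D48821 : act 8 n46658 = n48821 := rfl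
theorem F218101 : act 1 n48821 = n47102 := d15_1 D48821 (iv D47102) (iv F208390)
theorem F218102 : act 5 n48821 = n47771 := d37_1 D48821 (iv D47771) (iv F208392)
theorem F218103 : act 7 n48821 = n46752 := d42_1 D48821 (iv D46752) (iv F208393)
def n48822 : Q := act 6 n46659
theorem D48822 : act 6 n46659 = n48822 := rfl
theorem F218104 : act 0 n48822 = n47042 := d5_1 D48822 F210517 (iv F208394)
theorem F218105 : act 1 n48822 = n47105 := d13_1 D48822 (iv D47105) (iv F208395)
theorem F218106 : act 2 n48822 = n47047 := d20_1 D48822 F210545 (iv F208396)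
theorem F218107 : act 4 n48822 = n46662 := d31_1 D48822 (iv D46662) (iv F208397)
theorem F218108 : act 5 n48822 = n47076 := d35_1 D48822 F210691 F177384 (iv F205324) D46659
theorem F218109 : act 8 n48822 = n48822 := d40_2 F208399 D48822 (iv D48822)
theorem F218110 : act 7 n47234 = n48822 := d36_0 F218108 F210692 (iv F211410)
def n48823 : Q := act 9 n46659
theorem D48823 : act 9 n46659 = n48823 := rfl
theorem F218111 : act 0 n48823 = n48125 := d8_1 D48823 (iv D48125) (iv F208394)
theorem F218112 : act 1 n48823 = n47106 := d16_1 D48823 (iv D47106) (iv F208395)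
theorem F218113 : act 2 n48823 = n48101 := d23_1 D48823 (iv D48101) (iv F208396)
theorem F218114 : act 4 n48823 = n46663 := d34_1 D48823 (iv D46663) (iv F208397)
theorem F218115 : act 5 n48823 = n46660 := d38_1 D48823 (iv D46660) D46659
theorem F218116 : act 7 n48823 = n46757 := d43_1 D48823 (iv D46757) (iv F208398)
def n48824 : Q := act 8 n46660
theorem D48824 : act 8 n46660 = n48824 := rfl
theorem F218117 : act 0 n48824 = n48129 := d7_1 D48824 (iv D48129) (iv F208400)
theorem F218118 : act 1 n48824 = n47107 := d15_1 D48824 (iv D47107) (iv F208401)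
theorem F218119 : act 2 n48824 = n48102 := d22_1 D48824 (iv D48102) (iv F208402)
theorem F218120 : act 4 n48824 = n46661 := d33_1 D48824 (iv D46661) (iv F208403)
theorem F218121 : act 6 n48824 = n48103 := d40_1 D48824 (iv D48103) (iv F208404)
theorem F218122 : act 7 n48824 = n46758 := d42_1 D48824 (iv D46758) (iv F208405)
theorem F218123 : act 9 n48824 = n48824 := d44_2 D46660 D48824 (iv D48824) (iv D46660) F175369
def n48825 : Q := act 7 n46662
theorem D48825 : act 7 n46662 = n48825 := rfl
theorem F218124 : act 0 n48825 = n47138 := d6_1 D48825 F218017 F218010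
theorem F218125 : act 1 n48825 = n47108 := d14_1 D48825 (iv D47108) (iv F208413)
theorem F218126 : act 2 n48825 = n47151 := d21_1 D48825 F217569 F217564
theorem F218127 : act 3 n48825 = n47773 := d27_1 D48825 (iv D47773) (iv F208414)
theorem F218128 : act 4 n48825 = n47234 := d32_1 D48825 F218110 F218107
theorem F218129 : act 5 n48825 = n48825 := d36_1 D48825 (iv D48825) F208415
theorem F218130 : act 6 n48825 = n46759 := d39_1 D48825 (iv D46759) (iv D42080) (iv F175376) D46662
theorem F218131 : act 8 n48825 = n48825 := d42_2 F208416 D48825 (iv D48825)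
theorem F218132 : act 9 n48618 = n48825 := d29_0 F218127 (iv F213922) D48618
def n48826 : Q := act 9 n46662
theorem D48826 : act 9 n46662 = n48826 := rfl
theorem F218133 : act 1 n48826 = n47109 := d16_1 D48826 (iv D47109) (iv F208413)
theorem F218134 : act 3 n48826 = n47774 := d29_1 D48826 (iv D47774) (iv F208414)
theorem F218135 : act 5 n48826 = n48826 := d38_1 D48826 (iv D48826) F208415
theorem F218136 : act 6 n48826 = n46663 := d41_1 D48826 (iv D46663) D46662
theorem F218137 : act 7 n48826 = n48618 := d43_1 D48826 F218132 (iv D48825)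
theorem F218138 : act 8 n48586 = n48826 := d42_0 F218137 F217052 (iv F216917)
def n48827 : Q := act 8 n46663
theorem D48827 : act 8 n46663 = n48827 := rfl
theorem F218139 : act 1 n48827 = n47110 := d15_1 D48827 (iv D47110) (iv F208417)
theorem F218140 : act 3 n48827 = n48584 := d28_1 D48827 (iv D48584) (iv F208290) F208294 (iv F208418)
theorem F218141 : act 5 n48827 = n46664 := d37_1 D48827 (iv D46664) (iv F208419)
theorem F218142 : act 6 n48827 = n48586 := d40_1 D48827 F218138 F218136
theorem F218143 : act 7 n48827 = n46761 := d42_1 D48827 (iv D46761) (iv F208420)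
theorem F218144 : act 9 n48827 = n48827 := d44_2 D46663 D48827 (iv D48827) (iv D46663) F175377
def n48828 : Q := act 7 n46666
theorem D48828 : act 7 n46666 = n48828 := rfl
theorem F218145 : act 0 n48828 = n46738 := d6_1 D48828 F208883 (iv F208434)
theorem F218146 : act 1 n48828 = n47192 := d14_1 D48828 (iv D47192) (iv F208435)
theorem F218147 : act 2 n48828 = n46728 := d21_1 D48828 F208821 (iv F208436)
theorem F218148 : act 3 n48828 = n46671 := d27_1 D48828 (iv D46671) (iv F208437)
theorem F218149 : act 4 n48828 = n46855 := d32_1 D48828 F209546 F208440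
theorem F218150 : act 5 n48828 = n46667 := d36_1 D48828 (iv D46667) D46666
theorem F218151 : act 6 n48828 = n46716 := d39_1 D48828 (iv D46716) F175743 (iv F197890) (iv F208438)
theorem F218152 : act 9 n48828 = n46731 := d43_2 (iv F208439) D48828 (iv D46731)
theorem F218153 : act 8 n48609 = n48828 := d40_0 F218151 (iv F208754) D48609
def n48829 : Q := act 8 n46666
theorem D48829 : act 8 n46666 = n48829 := rfl
theorem F218154 : act 0 n48829 = n47814 := d7_1 D48829 (iv D47814) (iv F208434)
theorem F218155 : act 1 n48829 = n47193 := d15_1 D48829 (iv D47193) (iv F208435)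
theorem F218156 : act 2 n48829 = n47802 := d22_1 D48829 (iv D47802) (iv F208436)
theorem F218157 : act 4 n48829 = n47931 := d33_1 D48829 (iv D47931) F208440
theorem F218158 : act 5 n48829 = n46668 := d37_1 D48829 (iv D46668) D46666
theorem F218159 : act 6 n48829 = n47779 := d40_1 D48829 (iv D47779) (iv F208438)
theorem F218160 : act 7 n48829 = n48609 := d42_1 D48829 F218153 (iv D48828)
def n48830 : Q := act 3 n46668
theorem D48830 : act 3 n46668 = n48830 := rfl
theorem F218161 : act 0 n48830 = n48239 := d2_1 D48830 F215797 (iv F208449)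
theorem F218162 : act 1 n48830 = n47195 := d10_1 D48830 (iv D47195) (iv F208450)
theorem F218163 : act 2 n48830 = n48273 := d17_1 D48830 F215870 F189181 (iv F207083) (iv F208451)
theorem F218164 : act 6 n48830 = n46669 := d26_2 (iv F208453) D48830 (iv D46669)
theorem F218165 : act 7 n48830 = n48269 := d27_2 (iv F208454) D48830 F215863
theorem F218166 : act 8 n48830 = n46674 := d28_2 D46668 D48830 (iv D46674) (iv D41997) (iv F175553)
def n48831 : Q := act 9 n46668
theorem D48831 : act 9 n46668 = n48831 := rfl
theorem F218167 : act 0 n48831 = n47851 := d8_1 D48831 F214264 (iv F208449)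
theorem F218168 : act 1 n48831 = n47196 := d16_1 D48831 (iv D47196) (iv F208450)
theorem F218169 : act 2 n48831 = n47807 := d23_1 D48831 F214098 (iv F208451)
theorem F218170 : act 4 n48831 = n48831 := d34_1 D48831 (iv D48831) F208452
theorem F218171 : act 6 n48831 = n46670 := d41_1 D48831 (iv D46670) (iv F208453)
theorem F218172 : act 7 n48831 = n48619 := d43_1 D48831 (iv D48619) (iv F208454)
theorem F218173 : act 8 n48831 = n46735 := d44_1 D48831 (iv D46735) (iv D42062) (iv F175555) D46668
def n48832 : Q := act 2 n46669
theorem D48832 : act 2 n46669 = n48832 := rfl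
theorem F218174 : act 0 n48832 = n48236 := d1_1 D48832 F215791 (iv F208455)
theorem F218175 : act 3 n48832 = n48123 := d17_2 D46669 D48832 F215411 (iv F208081) F208080
theorem F218176 : act 5 n48832 = n47782 := d19_2 (iv F208457) D48832 (iv D47782)
theorem F218177 : act 6 n48832 = n48273 := d20_2 F218164 D48832 (iv F218163)
theorem F218178 : act 7 n48832 = n48120 := d21_2 F217881 D48832 (iv F217878)
theorem F218179 : act 8 n48832 = n46676 := d22_2 (iv F208458) D48832 (iv D46676)
theorem F218180 : act 9 n48621 = n48832 := d29_0 F218175 (iv F215415) D48621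
def n48833 : Q := act 4 n46669
theorem D48833 : act 4 n46669 = n48833 := rfl
theorem F218181 : act 0 n48833 = n47325 := d3_1 D48833 F211810 (iv F208455)
theorem F218182 : act 1 n48833 = n47198 := d11_1 D48833 (iv D47198) (iv F208456)
theorem F218183 : act 3 n48833 = n48833 := d24_1 D48833 (iv D48833) (iv D46669) F175557 D46669
theorem F218184 : act 5 n48833 = n47275 := d30_2 (iv F208457) D48833 (iv D47275) F178200 (iv F202115)
theorem F218185 : act 8 n48833 = n46677 := d33_2 (iv F208458) D48833 (iv D46677)
def n48834 : Q := act 9 n46669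
theorem D48834 : act 9 n46669 = n48834 := rfl
theorem F218186 : act 0 n48834 = n47853 := d8_1 D48834 F214272 (iv F208455)
theorem F218187 : act 1 n48834 = n47199 := d16_1 D48834 (iv D47199) (iv F208456)
theorem F218188 : act 2 n48834 = n48621 := d23_1 D48834 F218180 (iv D48832)
theorem F218189 : act 3 n48834 = n46670 := d29_1 D48834 (iv D46670) D46669
theorem F218190 : act 5 n48834 = n47783 := d38_1 D48834 (iv D47783) (iv F208457)
def n48835 : Q := act 6 n46671
theorem D48835 : act 6 n46671 = n48835 := rfl
theorem F218191 : act 0 n48835 = n46731 := d5_1 D48835 F208846 (iv F208465)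
theorem F218192 : act 1 n48835 = n47200 := d13_1 D48835 (iv D47200) (iv F208466)
theorem F218193 : act 2 n48835 = n46685 := d20_1 D48835 (iv D46685) (iv F208467)
theorem F218194 : act 3 n48835 = n46716 := d26_1 D48835 (iv F218151) F218148
theorem F218195 : act 4 n48835 = n46777 := d31_1 D48835 (iv D46777) (iv F208468)
theorem F218196 : act 5 n48835 = n46715 := d35_1 D48835 F208746 (iv F208180) F208181 (iv F208469)
theorem F218197 : act 7 n48835 = n46714 := d39_2 D46671 D48835 F208738 (iv D44417) (iv F175562)
theorem F218198 : act 9 n48835 = n46738 := d41_2 (iv F208470) D48835 (iv D46738)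
theorem F218199 : act 8 n47842 = n48835 := d42_0 F218197 F208739 (iv F214226)
def n48836 : Q := act 8 n46671
theorem D48836 : act 8 n46671 = n48836 := rfl
theorem F218200 : act 0 n48836 = n48276 := d7_1 D48836 F215877 (iv F208465)
theorem F218201 : act 1 n48836 = n47201 := d15_1 D48836 (iv D47201) (iv F208466)
theorem F218202 : act 2 n48836 = n46686 := d22_1 D48836 (iv D46686) (iv F208467)
theorem F218203 : act 4 n48836 = n46778 := d33_1 D48836 (iv D46778) (iv F208468)
theorem F218204 : act 5 n48836 = n46673 := d37_1 D48836 (iv D46673) (iv F208469)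
theorem F218205 : act 6 n48836 = n47842 := d40_1 D48836 F218199 (iv D48835)
theorem F218206 : act 7 n48836 = n46672 := d42_1 D48836 (iv D46672) D46671
def n48837 : Q := act 3 n46672
theorem D48837 : act 3 n46672 = n48837 := rfl
theorem F218207 : act 0 n48837 = n48261 := d2_1 D48837 F215846 (iv F208471)
theorem F218208 : act 1 n48837 = n47202 := d10_1 D48837 (iv D47202) (iv F208472)
theorem F218209 : act 5 n48837 = n46674 := d25_2 (iv F208475) D48837 (iv D46674)
theorem F218210 : act 6 n48837 = n47784 := d26_2 (iv F208476) D48837 (iv D47784)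
def n48838 : Q := act 9 n46672
theorem D48838 : act 9 n46672 = n48838 := rfl
theorem F218211 : act 0 n48838 = n48277 := d8_1 D48838 (iv D48277) (iv F208471)
theorem F218212 : act 1 n48838 = n47203 := d16_1 D48838 (iv D47203) (iv F208472)
theorem F218213 : act 2 n48838 = n46688 := d23_1 D48838 (iv D46688) (iv F208473)
theorem F218214 : act 4 n48838 = n46780 := d34_1 D48838 (iv D46780) (iv F208474)
theorem F218215 : act 5 n48838 = n46675 := d38_1 D48838 (iv D46675) (iv F208475)
theorem F218216 : act 6 n48838 = n47785 := d41_1 D48838 (iv D47785) (iv F208476)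
theorem F218217 : act 8 n48838 = n46741 := d44_1 D48838 (iv D46741) (iv D42066) (iv F175563) D46672
def n48839 : Q := act 3 n46673
theorem D48839 : act 3 n46673 = n48839 := rfl
theorem F218218 : act 0 n48839 = n48273 := d2_1 D48839 F215870 (iv F208477)
theorem F218219 : act 1 n48839 = n47204 := d10_1 D48839 (iv D47204) (iv F208478)
theorem F218220 : act 2 n48839 = n48239 := d17_1 D48839 F215797 F208572 (iv D46689) (iv F208479)
theorem F218221 : act 6 n48839 = n48236 := d26_2 F217897 D48839 (iv F217894)
theorem F218222 : act 7 n48839 = n46674 := d27_2 (iv F208481) D48839 (iv D46674)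
theorem F218223 : act 8 n48839 = n48269 := d28_2 D46673 D48839 F215863 F208448 F208444
def n48840 : Q := act 9 n46673
theorem D48840 : act 9 n46673 = n48840 := rfl
theorem F218224 : act 0 n48840 = n48278 := d8_1 D48840 (iv D48278) (iv F208477)
theorem F218225 : act 1 n48840 = n47205 := d16_1 D48840 (iv D47205) (iv F208478)
theorem F218226 : act 2 n48840 = n46690 := d23_1 D48840 (iv D46690) (iv F208479)
theorem F218227 : act 4 n48840 = n46680 := d34_1 D48840 (iv D46680) (iv F208480)
theorem F218228 : act 6 n48840 = n47789 := d41_1 D48840 (iv F217899) F217897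
theorem F218229 : act 7 n48840 = n46675 := d43_1 D48840 (iv D46675) (iv F208481)
theorem F218230 : act 8 n48840 = n46743 := d44_1 D48840 (iv D46743) (iv D42067) (iv F175567) D46673
def n48841 : Q := act 2 n46674
theorem D48841 : act 2 n46674 = n48841 := rfl
theorem F218231 : act 0 n48841 = n48269 := d1_1 D48841 F215862 (iv F208482)
theorem F218232 : act 3 n48841 = n46691 := d17_2 D46674 D48841 (iv D46691) (iv D42011) (iv F175569)
theorem F218233 : act 6 n48841 = n46676 := d20_2 (iv F208484) D48841 (iv D46676)
theorem F218234 : act 7 n48841 = n48239 := d21_2 F218222 D48841 (iv F218220)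
theorem F218235 : act 8 n48841 = n48273 := d22_2 F218166 D48841 (iv F218163)
def n48842 : Q := act 4 n46674
theorem D48842 : act 4 n46674 = n48842 := rfl
theorem F218236 : act 0 n48842 = n47349 := d3_1 D48842 F211881 (iv F208482)
theorem F218237 : act 1 n48842 = n47207 := d11_1 D48842 (iv D47207) (iv F208483)
theorem F218238 : act 3 n48842 = n46681 := d24_1 D48842 (iv D46681) (iv D42001) (iv F175570) D46674
theorem F218239 : act 6 n48842 = n46677 := d31_2 (iv F208484) D48842 (iv D46677)
def n48843 : Q := act 9 n46674
theorem D48843 : act 9 n46674 = n48843 := rfl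
theorem F218240 : act 0 n48843 = n48274 := d8_1 D48843 (iv D48274) (iv F208482)
theorem F218241 : act 1 n48843 = n47208 := d16_1 D48843 (iv D47208) (iv F208483)
theorem F218242 : act 3 n48843 = n46675 := d29_1 D48843 (iv D46675) D46674
theorem F218243 : act 6 n48843 = n46678 := d41_1 D48843 (iv D46678) (iv F208484)
def n48844 : Q := act 1 n46676
theorem D48844 : act 1 n46676 = n48844 := rfl
theorem F218244 : act 2 n48844 = n47209 := d9_2 D46676 D48844 (iv D47209) (iv D42581) (iv F175572)
theorem F218245 : act 3 n48844 = n46693 := d10_2 (iv F208492) D48844 (iv D46693)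
theorem F218246 : act 5 n48844 = n47092 := d12_2 (iv F208493) D48844 F210759
theorem F218247 : act 7 n48844 = n47090 := d14_2 F217919 D48844 F217921
def n48845 : Q := act 4 n46676
theorem D48845 : act 4 n46676 = n48845 := rfl
theorem F218248 : act 0 n48845 = n47346 := d3_1 D48845 F211874 (iv F208491)
theorem F218249 : act 2 n48845 = n46677 := d18_1 D48845 (iv D46677) D46676
theorem F218250 : act 3 n48845 = n48845 := d24_1 D48845 (iv D48845) F208492 F175632 (iv F208492)
theorem F218251 : act 5 n48845 = n47287 := d30_2 (iv F208493) D48845 (iv D47287) F178227 (iv F202762)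
def n48846 : Q := act 9 n46676
theorem D48846 : act 9 n46676 = n48846 := rfl
theorem F218252 : act 0 n48846 = n48270 := d8_1 D48846 (iv D48270) (iv F208491)
theorem F218253 : act 2 n48846 = n46678 := d23_1 D48846 (iv D46678) D46676
theorem F218254 : act 3 n48846 = n46694 := d29_1 D48846 (iv D46694) (iv F208492)
theorem F218255 : act 5 n48846 = n47787 := d38_1 D48846 (iv D47787) (iv F208493)
def n48847 : Q := act 9 n46677
theorem D48847 : act 9 n46677 = n48847 := rfl
theorem F218256 : act 0 n48847 = n47350 := d8_1 D48847 (iv D47350) (iv F208494)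
theorem F218257 : act 1 n48847 = n47213 := d16_1 D48847 (iv D47213) (iv F208495)
theorem F218258 : act 3 n48847 = n46683 := d29_1 D48847 (iv D46683) (iv F208496)
theorem F218259 : act 4 n48847 = n46678 := d34_1 D48847 (iv D46678) D46677
theorem F218260 : act 5 n48847 = n47289 := d38_1 D48847 (iv D47289) (iv F208497)
def n48848 : Q := act 8 n46678
theorem D48848 : act 8 n46678 = n48848 := rfl
theorem F218261 : act 0 n48848 = n48275 := d7_1 D48848 (iv D48275) (iv F208498)
theorem F218262 : act 1 n48848 = n47214 := d15_1 D48848 (iv D47214) (iv F208499)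
theorem F218263 : act 3 n48848 = n46752 := d28_1 D48848 (iv D46752) F175853 (iv F175578) (iv F208500)
theorem F218264 : act 5 n48848 = n47788 := d37_1 D48848 (iv D47788) (iv F208501)
def n48849 : Q := act 4 n46679
theorem D48849 : act 4 n46679 = n48849 := rfl
theorem F218265 : act 0 n48849 = n47358 := d3_1 D48849 F211914 (iv F208502)
theorem F218266 : act 1 n48849 = n47186 := d11_1 D48849 F211246 (iv F208503)
theorem F218267 : act 2 n48849 = n48849 := d18_1 D48849 (iv D48849) F208504
theorem F218268 : act 6 n48849 = n47188 := d31_2 F217936 D48849 F217940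
theorem F218269 : act 7 n48849 = n46681 := d32_2 (iv F208506) D48849 (iv D46681)
theorem F218270 : act 8 n48849 = n48849 := d33_2 F208507 D48849 (iv D48849)
def n48850 : Q := act 9 n46679
theorem D48850 : act 9 n46679 = n48850 := rfl
theorem F218271 : act 0 n48850 = n47362 := d8_1 D48850 (iv D47362) (iv F208502)
theorem F218272 : act 1 n48850 = n47215 := d16_1 D48850 (iv D47215) (iv F208503)
theorem F218273 : act 2 n48850 = n48850 := d23_1 D48850 (iv D48850) F208504
theorem F218274 : act 3 n48850 = n46680 := d29_1 D48850 (iv D46680) D46679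
theorem F218275 : act 5 n48850 = n46792 := d38_1 D48850 (iv D46792) (iv F208505)
theorem F218276 : act 6 n48850 = n48601 := d41_1 D48850 (iv F217939) F217936
theorem F218277 : act 7 n48850 = n46682 := d43_1 D48850 (iv D46682) (iv F208506)
theorem F218278 : act 8 n48603 = n48850 := d40_0 F218276 F216994 (iv F217002)
def n48851 : Q := act 5 n46681
theorem D48851 : act 5 n46681 = n48851 := rfl
theorem F218279 : act 0 n48851 = n47355 := d4_1 D48851 F211904 (iv F208515)
theorem F218280 : act 1 n48851 = n47216 := d12_1 D48851 (iv D47216) (iv F208516)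
theorem F218281 : act 2 n48851 = n48851 := d19_1 D48851 (iv D48851) F208517
theorem F218282 : act 4 n48851 = n46793 := d30_1 D48851 (iv D46793) (iv D42156) (iv F175585) D46681
theorem F218283 : act 6 n48851 = n47293 := d35_2 (iv F208518) D48851 (iv D47293) F178244 (iv F202865)
theorem F218284 : act 8 n48851 = n48851 := d37_2 F208519 D48851 (iv D48851)
def n48852 : Q := act 9 n46681
theorem D48852 : act 9 n46681 = n48852 := rfl
theorem F218285 : act 0 n48852 = n47359 := d8_1 D48852 (iv D47359) (iv F208515)
theorem F218286 : act 1 n48852 = n47217 := d16_1 D48852 (iv D47217) (iv F208516)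
theorem F218287 : act 2 n48852 = n48852 := d23_1 D48852 (iv D48852) F208517
theorem F218288 : act 4 n48852 = n46682 := d34_1 D48852 (iv D46682) D46681
theorem F218289 : act 6 n48852 = n46683 := d41_1 D48852 (iv D46683) (iv F208518)
def n48853 : Q := act 8 n46682
theorem D48853 : act 8 n46682 = n48853 := rfl
theorem F218290 : act 0 n48853 = n47363 := d7_1 D48853 (iv D47363) (iv F208520)
theorem F218291 : act 1 n48853 = n47218 := d15_1 D48853 (iv D47218) (iv F208521)
theorem F218292 : act 2 n48853 = n48853 := d22_1 D48853 (iv D48853) F208522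
theorem F218293 : act 3 n48853 = n46755 := d28_1 D48853 (iv D46755) F175867 (iv F175592) (iv F208523)
theorem F218294 : act 5 n48853 = n46795 := d37_1 D48853 (iv D46795) (iv F208524)
theorem F218295 : act 6 n48853 = n46684 := d40_1 D48853 (iv D46684) (iv F208525)
theorem F218296 : act 7 n48853 = n48603 := d42_1 D48853 F218278 F218277
theorem F218297 : act 9 n48853 = n48853 := d44_2 D46682 D48853 (iv D48853) (iv D46682) F175587
def n48854 : Q := act 8 n46683
theorem D48854 : act 8 n46683 = n48854 := rfl
theorem F218298 : act 0 n48854 = n47360 := d7_1 D48854 (iv D47360) (iv F208526)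
theorem F218299 : act 1 n48854 = n47221 := d15_1 D48854 (iv D47221) (iv F208527)
theorem F218300 : act 2 n48854 = n48854 := d22_1 D48854 (iv D48854) F208528
theorem F218301 : act 4 n48854 = n46684 := d33_1 D48854 (iv D46684) (iv F208529)
theorem F218302 : act 5 n48854 = n47296 := d37_1 D48854 (iv D47296) (iv F208530)
theorem F218303 : act 9 n48854 = n48854 := d44_2 D46683 D48854 (iv D48854) (iv D46683) F175595
def n48855 : Q := act 9 n46686
theorem D48855 : act 9 n46686 = n48855 := rfl
theorem F218304 : act 0 n48855 = n48612 := d8_1 D48855 F217033 (iv F208545)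
theorem F218305 : act 1 n48855 = n46696 := d16_1 D48855 (iv D46696) (iv F208546)
theorem F218306 : act 3 n48855 = n47841 := d29_1 D48855 (iv D47841) (iv F208547)
theorem F218307 : act 4 n48855 = n46799 := d34_1 D48855 (iv D46799) (iv F208548)
theorem F218308 : act 5 n48855 = n46690 := d38_1 D48855 (iv D46690) (iv F208549)
theorem F218309 : act 6 n48855 = n47843 := d41_1 D48855 (iv D47843) (iv F208550)
theorem F218310 : act 7 n48855 = n46688 := d43_1 D48855 (iv D46688) (iv F208551)
theorem F218311 : act 8 n48855 = n46762 := d44_1 D48855 (iv D46762) (iv D42084) (iv F175617) D46686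
def n48856 : Q := act 2 n46687
theorem D48856 : act 2 n46687 = n48856 := rfl
theorem F218312 : act 0 n48856 = n48609 := d1_1 D48856 F217021 (iv F208552)
theorem F218313 : act 1 n48856 = n47328 := d9_1 D48856 F211816 F178427 (iv F205488) (iv F208553)
theorem F218314 : act 4 n48856 = n46901 := d18_2 F208558 D48856 F209787
theorem F218315 : act 5 n48856 = n46691 := d19_2 (iv F208554) D48856 (iv D46691)
theorem F218316 : act 6 n48856 = n46739 := d20_2 (iv F208555) D48856 F208886
theorem F218317 : act 7 n48856 = n47814 := d21_2 (iv F208556) D48856 F214125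
theorem F218318 : act 8 n48856 = n46738 := d22_2 (iv F208557) D48856 F208879
def n48857 : Q := act 9 n46687
theorem D48857 : act 9 n46687 = n48857 := rfl
theorem F218319 : act 0 n48857 = n48611 := d8_1 D48857 (iv D48611) (iv F208552)
theorem F218320 : act 1 n48857 = n46697 := d16_1 D48857 (iv D46697) (iv F208553)
theorem F218321 : act 3 n48857 = n46688 := d29_1 D48857 (iv D46688) D46687
theorem F218322 : act 4 n48857 = n46937 := d34_1 D48857 (iv D46937) F208558
theorem F218323 : act 5 n48857 = n46692 := d38_1 D48857 (iv D46692) (iv F208554)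
theorem F218324 : act 6 n48857 = n46762 := d41_1 D48857 (iv D46762) (iv F208555)
theorem F218325 : act 7 n48857 = n47841 := d43_1 D48857 (iv D47841) (iv F208556)
theorem F218326 : act 8 n48857 = n47843 := d44_1 D48857 (iv D47843) F208544 F208543 (iv F208557)
def n48858 : Q := act 1 n46691
theorem D48858 : act 1 n46691 = n48858 := rfl
theorem F218327 : act 2 n48858 = n46698 := d9_2 D46691 D48858 (iv D46698) (iv D42022) (iv F175625)
theorem F218328 : act 4 n48858 = n48858 := d11_2 F208582 D48858 (iv D48858)
theorem F218329 : act 5 n48858 = n47328 := d12_2 F218315 D48858 (iv F218313)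
theorem F218330 : act 6 n48858 = n46693 := d13_2 (iv F208583) D48858 (iv D46693)
theorem F218331 : act 7 n48858 = n48107 := d14_2 (iv F208584) D48858 F215372
theorem F218332 : act 8 n48858 = n47089 := d15_2 (iv F208585) D48858 F210747
def n48859 : Q := act 9 n46691
theorem D48859 : act 9 n46691 = n48859 := rfl
theorem F218333 : act 0 n48859 = n48619 := d8_1 D48859 (iv D48619) (iv F208581)
theorem F218334 : act 2 n48859 = n46692 := d23_1 D48859 (iv D46692) D46691
theorem F218335 : act 4 n48859 = n48859 := d34_1 D48859 (iv D48859) F208582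
theorem F218336 : act 6 n48859 = n46694 := d41_1 D48859 (iv D46694) (iv F208583)
theorem F218337 : act 7 n48859 = n47851 := d43_1 D48859 F214264 (iv F208584)
theorem F218338 : act 8 n48859 = n47849 := d44_1 D48859 (iv D47849) (iv F208747) F208748 (iv F208585)
def n48860 : Q := act 0 n46693
theorem D48860 : act 0 n46693 = n48860 := rfl
theorem F218339 : act 1 n48860 = n48613 := d0_2 D46693 D48860 F217034 F207063 (iv F206817)
theorem F218340 : act 2 n48860 = n46700 := d1_2 (iv F208593) D48860 (iv D46700)
theorem F218341 : act 4 n48860 = n48860 := d3_2 F208594 D48860 (iv D48860)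
theorem F218342 : act 5 n48860 = n47062 := d4_2 (iv F208595) D48860 F210620
theorem F218343 : act 7 n48860 = n47061 := d6_2 (iv F208596) D48860 F210615
theorem F218344 : act 8 n48860 = n47060 := d7_2 (iv F208597) D48860 F210611
def n48861 : Q := act 9 n46693
theorem D48861 : act 9 n46693 = n48861 := rfl
theorem F218345 : act 1 n48861 = n46694 := d16_1 D48861 (iv D46694) D46693
theorem F218346 : act 2 n48861 = n46701 := d23_1 D48861 (iv D46701) (iv F208593)
theorem F218347 : act 4 n48861 = n48861 := d34_1 D48861 (iv D48861) F208594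
theorem F218348 : act 5 n48861 = n47093 := d38_1 D48861 (iv D47093) (iv F208595)
theorem F218349 : act 7 n48861 = n47091 := d43_1 D48861 (iv D47091) (iv F208596)
def n48862 : Q := act 8 n46694
theorem D48862 : act 8 n46694 = n48862 := rfl
theorem F218350 : act 0 n48862 = n48620 := d7_1 D48862 (iv D48620) (iv F208598)
theorem F218351 : act 2 n48862 = n46695 := d22_1 D48862 (iv D46695) (iv F208599)
theorem F218352 : act 4 n48862 = n48862 := d33_1 D48862 (iv D48862) F208600
theorem F218353 : act 5 n48862 = n47789 := d37_1 D48862 (iv D47789) (iv F208601)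
theorem F218354 : act 6 n48862 = n47849 := d40_1 D48862 (iv F218338) F218336
theorem F218355 : act 7 n48862 = n47776 := d42_1 D48862 (iv F217977) F217976
theorem F218356 : act 9 n48862 = n47775 := d44_2 D46694 D48862 F213933 (iv F208131) F208130
theorem F218357 : act 3 n48237 = n48862 := d29_3 F218356 F213929 D48237
def n48863 : Q := act 0 n46698
theorem D48863 : act 0 n46698 = n48863 := rfl
theorem F218358 : act 1 n48863 = n48863 := d0_2 D46698 D48863 (iv D48863) (iv D46698) F175670
theorem F218359 : act 3 n48863 = n47248 := d2_2 (iv F208626) D48863 (iv D47248)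
theorem F218360 : act 4 n48863 = n48863 := d3_2 F208627 D48863 (iv D48863)
theorem F218361 : act 5 n48863 = n47297 := d4_2 (iv F208628) D48863 F211689
theorem F218362 : act 6 n48863 = n46700 := d5_2 (iv F208629) D48863 (iv D46700)
theorem F218363 : act 7 n48863 = n48100 := d6_2 (iv F208630) D48863 F215345
theorem F218364 : act 8 n48863 = n47073 := d7_2 (iv F208631) D48863 F210672
def n48864 : Q := act 9 n46698
theorem D48864 : act 9 n46698 = n48864 := rfl
theorem F218365 : act 1 n48864 = n46699 := d16_1 D48864 (iv D46699) D46698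
theorem F218366 : act 3 n48864 = n47249 := d29_1 D48864 (iv D47249) (iv F208626)
theorem F218367 : act 4 n48864 = n48864 := d34_1 D48864 (iv D48864) F208627
theorem F218368 : act 5 n48864 = n47364 := d38_1 D48864 (iv D47364) (iv F208628)
theorem F218369 : act 6 n48864 = n46701 := d41_1 D48864 (iv D46701) (iv F208629)
theorem F218370 : act 7 n48864 = n47859 := d43_1 D48864 F214302 (iv F208630)
theorem F218371 : act 8 n48864 = n47857 := d44_1 D48864 (iv D47857) F210485 F210484 (iv F208631)
def n48865 : Q := act 9 n46700
theorem D48865 : act 9 n46700 = n48865 := rfl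
theorem F218372 : act 0 n48865 = n46701 := d8_1 D48865 (iv D46701) D46700
theorem F218373 : act 1 n48865 = n48865 := d16_1 D48865 (iv D48865) F208640
theorem F218374 : act 3 n48865 = n47251 := d29_1 D48865 (iv D47251) (iv F208641)
theorem F218375 : act 4 n48865 = n48865 := d34_1 D48865 (iv D48865) F208642
theorem F218376 : act 5 n48865 = n47075 := d38_1 D48865 (iv D47075) (iv F208643)
theorem F218377 : act 7 n48865 = n47074 := d43_1 D48865 (iv D47074) (iv F208644)
def n48866 : Q := act 8 n46701
theorem D48866 : act 8 n46701 = n48866 := rfl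
theorem F218378 : act 1 n48866 = n46702 := d15_1 D48866 (iv D46702) (iv F208646)
theorem F218379 : act 4 n48866 = n48866 := d33_1 D48866 (iv D48866) F208648
theorem F218380 : act 5 n48866 = n47040 := d37_1 D48866 F210510 (iv F208649)
theorem F218381 : act 6 n48866 = n47857 := d40_1 D48866 (iv F218371) F218369
theorem F218382 : act 7 n48866 = n47038 := d42_1 D48866 F210497 (iv F208650)
theorem F218383 : act 9 n48866 = n47037 := d44_2 D46701 D48866 (iv D47037) F177173 (iv F205829)
theorem F218384 : act 3 n48134 = n48866 := d29_3 F218383 (iv F210491) D48134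
def n48867 : Q := act 7 n46703
theorem D48867 : act 7 n46703 = n48867 := rfl
theorem F218385 : act 0 n48867 = n47256 := d6_1 D48867 (iv D47256) (iv F208659)
theorem F218386 : act 1 n48867 = n46715 := d14_1 D48867 (iv D46715) (iv F208660)
theorem F218387 : act 2 n48867 = n47036 := d21_1 D48867 F210483 (iv F208661)
theorem F218388 : act 3 n48867 = n46705 := d27_1 D48867 (iv D46705) (iv F208662)
theorem F218389 : act 4 n48867 = n48867 := d32_1 D48867 (iv D48867) F208663
theorem F218390 : act 5 n48867 = n47200 := d36_1 D48867 F211299 (iv F208664)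
theorem F218391 : act 6 n48867 = n47020 := d39_1 D48867 (iv D47020) F177126 (iv F197094) D46703
theorem F218392 : act 8 n48867 = n47848 := d42_2 (iv F208665) D48867 F214253
theorem F218393 : act 9 n48867 = n47089 := d43_2 (iv F208666) D48867 F210752
def n48868 : Q := act 7 n46704
theorem D48868 : act 7 n46704 = n48868 := rfl
theorem F218394 : act 0 n48868 = n47260 := d6_1 D48868 (iv D47260) (iv F208667)
theorem F218395 : act 1 n48868 = n46716 := d14_1 D48868 (iv D46716) (iv F208668)
theorem F218396 : act 2 n48868 = n48868 := d21_1 D48868 (iv D48868) F208669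
theorem F218397 : act 3 n48868 = n47200 := d27_1 D48868 F211299 (iv F208670)
theorem F218398 : act 4 n48868 = n46831 := d32_1 D48868 (iv D46831) (iv F208671)
theorem F218399 : act 5 n48868 = n46705 := d36_1 D48868 (iv D46705) D46704
theorem F218400 : act 6 n48868 = n47192 := d39_1 D48868 (iv D47192) F177971 (iv F197908) (iv F208672)
theorem F218401 : act 9 n48868 = n47313 := d43_2 (iv F208673) D48868 F211773
theorem F218402 : act 8 n48607 = n48868 := d37_0 F218399 (iv F208680) D48607
def n48869 : Q := act 8 n46704
theorem D48869 : act 8 n46704 = n48869 := rfl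
theorem F218403 : act 0 n48869 = n47261 := d7_1 D48869 (iv D47261) (iv F208667)
theorem F218404 : act 1 n48869 = n46717 := d15_1 D48869 (iv D46717) (iv F208668)
theorem F218405 : act 2 n48869 = n48869 := d22_1 D48869 (iv D48869) F208669
theorem F218406 : act 4 n48869 = n46832 := d33_1 D48869 (iv D46832) (iv F208671)
theorem F218407 : act 5 n48869 = n46706 := d37_1 D48869 (iv D46706) D46704
theorem F218408 : act 6 n48869 = n47790 := d40_1 D48869 (iv D47790) (iv F208672)
theorem F218409 : act 7 n48869 = n48607 := d42_1 D48869 F218402 (iv D48868)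
def n48870 : Q := act 3 n46706
theorem D48870 : act 3 n46706 = n48870 := rfl
theorem F218410 : act 0 n48870 = n47263 := d2_1 D48870 (iv D47263) (iv F208681)
theorem F218411 : act 1 n48870 = n46718 := d10_1 D48870 (iv D46718) (iv F208682)
theorem F218412 : act 4 n48870 = n48252 := d24_2 (iv F208684) D48870 F215824 F189238 F206373
theorem F218413 : act 6 n48870 = n46707 := d26_2 (iv F208685) D48870 (iv D46707)
theorem F218414 : act 7 n48870 = n48256 := d27_2 (iv F208686) D48870 F215833
theorem F218415 : act 8 n48870 = n47822 := d28_2 D46706 D48870 F214156 (iv F208665) F208662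
theorem F218416 : act 2 n48231 = n48870 := d22_3 F218415 F214155 (iv F215781)
def n48871 : Q := act 9 n46706
theorem D48871 : act 9 n46706 = n48871 := rfl
theorem F218417 : act 0 n48871 = n47264 := d8_1 D48871 (iv D47264) (iv F208681)
theorem F218418 : act 1 n48871 = n46719 := d16_1 D48871 (iv D46719) (iv F208682)
theorem F218419 : act 2 n48871 = n48871 := d23_1 D48871 (iv D48871) F208683
theorem F218420 : act 4 n48871 = n46709 := d34_1 D48871 (iv D46709) (iv F208684)
theorem F218421 : act 6 n48871 = n46708 := d41_1 D48871 (iv D46708) (iv F208685)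
theorem F218422 : act 7 n48871 = n48608 := d43_1 D48871 (iv D48608) (iv F208686)
theorem F218423 : act 8 n48871 = n47839 := d44_1 D48871 (iv D47839) F185917 (iv F206831) D46706
def n48872 : Q := act 4 n46707
theorem D48872 : act 4 n46707 = n48872 := rfl
theorem F218424 : act 0 n48872 = n47212 := d3_1 D48872 F211331 (iv F208687)
theorem F218425 : act 1 n48872 = n46720 := d11_1 D48872 (iv D46720) (iv F208688)
theorem F218426 : act 2 n48872 = n48234 := d18_1 D48872 (iv D48234) F208691
theorem F218427 : act 3 n48872 = n46710 := d24_1 D48872 (iv D46710) (iv D42032) (iv F175701) D46707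
theorem F218428 : act 5 n48872 = n47174 := d30_2 (iv F208689) D48872 (iv D47174) F177898 (iv F202120)
theorem F218429 : act 6 n48872 = n48252 := d31_2 F218413 D48872 (iv F218412)
theorem F218430 : act 7 n48872 = n48111 := d32_2 F217983 D48872 (iv F217980)
theorem F218431 : act 8 n48872 = n47828 := d33_2 (iv F208690) D48872 (iv D47828)
def n48873 : Q := act 9 n46707
theorem D48873 : act 9 n46707 = n48873 := rfl
theorem F218432 : act 0 n48873 = n47266 := d8_1 D48873 (iv D47266) (iv F208687)
theorem F218433 : act 1 n48873 = n46721 := d16_1 D48873 (iv D46721) (iv F208688)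
theorem F218434 : act 2 n48873 = n48235 := d23_1 D48873 (iv D48235) F208691
theorem F218435 : act 3 n48873 = n46708 := d29_1 D48873 (iv D46708) D46707
theorem F218436 : act 5 n48873 = n47793 := d38_1 D48873 (iv D47793) (iv F208689)
def n48874 : Q := act 9 n46710
theorem D48874 : act 9 n46710 = n48874 := rfl
theorem F218437 : act 0 n48874 = n47220 := d8_1 D48874 (iv D47220) (iv F208706)
theorem F218438 : act 1 n48874 = n46723 := d16_1 D48874 (iv D46723) (iv F208707)
theorem F218439 : act 2 n48874 = n48134 := d23_1 D48874 (iv D48134) (iv F208708)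
theorem F218440 : act 4 n48874 = n46711 := d34_1 D48874 (iv D46711) D46710
theorem F218441 : act 5 n48874 = n47179 := d38_1 D48874 (iv D47179) (iv F208709)
theorem F218442 : act 6 n48874 = n48292 := d41_1 D48874 (iv D48292) (iv F208710)
theorem F218443 : act 7 n48874 = n48128 := d43_1 D48874 (iv D48128) (iv F208711)
def n48875 : Q := act 8 n46711
theorem D48875 : act 8 n46711 = n48875 := rfl
theorem F218444 : act 0 n48875 = n47223 := d7_1 D48875 (iv D47223) (iv F208713)
theorem F218445 : act 1 n48875 = n46724 := d15_1 D48875 (iv D46724) (iv F208714)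
theorem F218446 : act 2 n48875 = n48593 := d22_1 D48875 (iv D48593) (iv F208715)
theorem F218447 : act 3 n48875 = n46761 := d28_1 D48875 (iv D46761) F175883 (iv F202158) (iv F208716)
theorem F218448 : act 5 n48875 = n46713 := d37_1 D48875 (iv D46713) (iv F208717)
theorem F218449 : act 6 n48875 = n48629 := d40_1 D48875 (iv D48629) (iv F208718)
theorem F218450 : act 7 n48875 = n48584 := d42_1 D48875 (iv D48584) (iv F208719)
theorem F218451 : act 9 n48875 = n48875 := d44_2 D46711 D48875 (iv D48875) (iv D46711) F175716
def n48876 : Q := act 8 n46712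
theorem D48876 : act 8 n46712 = n48876 := rfl
theorem F218452 : act 0 n48876 = n47133 := d7_1 D48876 (iv D47133) (iv F208720)
theorem F218453 : act 1 n48876 = n48588 := d15_1 D48876 (iv D48588) (iv F208721)
theorem F218454 : act 2 n48876 = n46713 := d22_1 D48876 (iv D46713) (iv F208722)
theorem F218455 : act 4 n48876 = n47122 := d33_1 D48876 (iv D47122) (iv F208724)
theorem F218456 : act 5 n48876 = n48593 := d37_1 D48876 (iv D48593) (iv F208725)
theorem F218457 : act 6 n48876 = n46845 := d40_1 D48876 (iv D46845) (iv F208726)
theorem F218458 : act 7 n48876 = n48589 := d42_1 D48876 (iv D48589) (iv F208727)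
theorem F218459 : act 9 n48876 = n48876 := d44_2 D46712 D48876 (iv D48876) (iv D46712) F175724
def n48877 : Q := act 3 n46717
theorem D48877 : act 3 n46717 = n48877 := rfl
theorem F218460 : act 0 n48877 = n46740 := d2_1 D48877 (iv D46740) (iv F208755)
theorem F218461 : act 2 n48877 = n47808 := d17_1 D48877 (iv D47808) F202507 (iv F206538) (iv F208756)
theorem F218462 : act 5 n48877 = n46718 := d25_2 (iv F208758) D48877 (iv D46718)
theorem F218463 : act 6 n48877 = n47794 := d26_2 (iv F208759) D48877 (iv D47794)
theorem F218464 : act 7 n48877 = n48258 := d27_2 (iv F208760) D48877 F215839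
theorem F218465 : act 8 n48877 = n47817 := d28_2 D46717 D48877 F214138 (iv F208739) F208737
def n48878 : Q := act 9 n46717
theorem D48878 : act 9 n46717 = n48878 := rfl
theorem F218466 : act 0 n48878 = n46741 := d8_1 D48878 (iv D46741) (iv F208755)
theorem F218467 : act 2 n48878 = n46729 := d23_1 D48878 (iv D46729) (iv F208756)
theorem F218468 : act 4 n48878 = n46858 := d34_1 D48878 (iv D46858) (iv F208757)
theorem F218469 : act 5 n48878 = n46719 := d38_1 D48878 (iv D46719) (iv F208758)
theorem F218470 : act 6 n48878 = n47795 := d41_1 D48878 (iv D47795) (iv F208759)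
theorem F218471 : act 7 n48878 = n48610 := d43_1 D48878 (iv D48610) (iv F208760)
theorem F218472 : act 8 n48878 = n48277 := d44_1 D48878 (iv D48277) F189173 (iv F206818) D46717
def n48879 : Q := act 9 n46718
theorem D48879 : act 9 n46718 = n48879 := rfl
theorem F218473 : act 0 n48879 = n46746 := d8_1 D48879 (iv D46746) (iv F208761)
theorem F218474 : act 2 n48879 = n47810 := d23_1 D48879 (iv D47810) (iv F208762)
theorem F218475 : act 3 n48879 = n46719 := d29_1 D48879 (iv D46719) D46718
theorem F218476 : act 4 n48879 = n48253 := d34_1 D48879 (iv D48253) (iv F208763)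
theorem F218477 : act 6 n48879 = n46721 := d41_1 D48879 (iv D46721) (iv F208764)
theorem F218478 : act 7 n48879 = n48259 := d43_1 D48879 (iv D48259) (iv F208765)
def n48880 : Q := act 5 n46720
theorem D48880 : act 5 n46720 = n48880 := rfl
theorem F218479 : act 0 n48880 = n46750 := d4_1 D48880 (iv D46750) (iv F208773)
theorem F218480 : act 1 n48880 = n47174 := d12_1 D48880 (iv F218428) F218425
theorem F218481 : act 2 n48880 = n47811 := d19_1 D48880 (iv D47811) (iv F208774)
theorem F218482 : act 3 n48880 = n46722 := d25_1 D48880 (iv D46722) (iv F208775)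
theorem F218483 : act 4 n48880 = n47159 := d30_1 D48880 F211126 (iv D44490) (iv F175752) D46720
theorem F218484 : act 7 n48880 = n48108 := d36_2 (iv F208777) D48880 F215378
theorem F218485 : act 8 n48880 = n47830 := d37_2 (iv F208778) D48880 (iv D47830)
def n48881 : Q := act 9 n46720
theorem D48881 : act 9 n46720 = n48881 := rfl
theorem F218486 : act 0 n48881 = n46751 := d8_1 D48881 (iv D46751) (iv F208773)
theorem F218487 : act 2 n48881 = n47812 := d23_1 D48881 (iv D47812) (iv F208774)
theorem F218488 : act 3 n48881 = n46723 := d29_1 D48881 (iv D46723) (iv F208775)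
theorem F218489 : act 4 n48881 = n46721 := d34_1 D48881 (iv D46721) D46720
theorem F218490 : act 6 n48881 = n48253 := d41_1 D48881 (iv D48253) (iv F208776)
theorem F218491 : act 7 n48881 = n48112 := d43_1 D48881 (iv D48112) (iv F208777)
def n48882 : Q := act 8 n46721
theorem D48882 : act 8 n46721 = n48882 := rfl
theorem F218492 : act 0 n48882 = n46752 := d7_1 D48882 (iv D46752) (iv F208779)
theorem F218493 : act 2 n48882 = n47813 := d22_1 D48882 (iv D47813) (iv F208780)
theorem F218494 : act 3 n48882 = n48275 := d28_1 D48882 (iv D48275) F189156 (iv F202774) (iv F208781)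
theorem F218495 : act 5 n48882 = n47799 := d37_1 D48882 (iv D47799) (iv F208782)
theorem F218496 : act 9 n48882 = n47832 := d44_2 D46721 D48882 (iv D47832) (iv D44533) (iv F206562)
def n48883 : Q := act 6 n46722
theorem D48883 : act 6 n46722 = n48883 := rfl
theorem F218497 : act 0 n48883 = n46756 := d5_1 D48883 (iv D46756) (iv F208783)
theorem F218498 : act 1 n48883 = n47177 := d13_1 D48883 F211204 (iv F208784)
theorem F218499 : act 2 n48883 = n47245 := d20_1 D48883 F211468 (iv F208785)
theorem F218500 : act 4 n48883 = n46725 := d31_1 D48883 (iv D46725) (iv F208786)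
theorem F218501 : act 5 n48883 = n48279 := d35_1 D48883 F215887 F189210 (iv F205155) D46722
theorem F218502 : act 7 n48883 = n47231 := d39_2 (iv F208787) D48883 F211401 (iv F210518) F210517
theorem F218503 : act 8 n48883 = n48883 := d40_2 F208788 D48883 (iv D48883)
def n48884 : Q := act 9 n46722
theorem D48884 : act 9 n46722 = n48884 := rfl
theorem F218504 : act 0 n48884 = n46757 := d8_1 D48884 (iv D46757) (iv F208783)
theorem F218505 : act 1 n48884 = n47179 := d16_1 D48884 (iv D47179) (iv F208784)
theorem F218506 : act 2 n48884 = n47861 := d23_1 D48884 F214313 (iv F208785)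
theorem F218507 : act 4 n48884 = n46726 := d34_1 D48884 (iv D46726) (iv F208786)
theorem F218508 : act 5 n48884 = n46723 := d38_1 D48884 (iv D46723) D46722
theorem F218509 : act 7 n48884 = n48125 := d43_1 D48884 (iv D48125) (iv F208787)
theorem F218510 : act 8 n48319 = n48884 := d22_0 F218506 F214312 D48319
def n48885 : Q := act 8 n46723
theorem D48885 : act 8 n46723 = n48885 := rfl
theorem F218511 : act 0 n48885 = n46758 := d7_1 D48885 (iv D46758) (iv F208789)
theorem F218512 : act 2 n48885 = n47392 := d22_1 D48885 F212077 (iv F208790)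
theorem F218513 : act 4 n48885 = n46724 := d33_1 D48885 (iv D46724) (iv F208791)
theorem F218514 : act 5 n48885 = n48319 := d37_1 D48885 F218510 F218508
theorem F218515 : act 6 n48885 = n48293 := d40_1 D48885 (iv D48293) (iv F208792)
theorem F218516 : act 7 n48885 = n48129 := d42_1 D48885 (iv D48129) (iv F208793)
theorem F218517 : act 9 n48885 = n48885 := d44_2 D46723 D48885 (iv D48885) (iv D46723) F175770
def n48886 : Q := act 7 n46725
theorem D48886 : act 7 n46725 = n48886 := rfl
theorem F218518 : act 0 n48886 = n46759 := d6_1 D48886 (iv D46759) (iv F208801)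
theorem F218519 : act 1 n48886 = n47136 := d14_1 D48886 F211002 (iv F208802)
theorem F218520 : act 2 n48886 = n47148 := d21_1 D48886 (iv F217590) F217586
theorem F218521 : act 3 n48886 = n47161 := d27_1 D48886 F211137 (iv F208803)
theorem F218522 : act 4 n48886 = n47231 := d32_1 D48886 (iv F218502) F218500
theorem F218523 : act 5 n48886 = n46874 := d36_1 D48886 (iv D46874) (iv F208804)
theorem F218524 : act 6 n48886 = n47138 := d39_1 D48886 F218017 (iv D48809) F208322 D46725
theorem F218525 : act 8 n48886 = n48886 := d42_2 F208805 D48886 (iv D48886)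
def n48887 : Q := act 9 n46725
theorem D48887 : act 9 n46725 = n48887 := rfl
theorem F218526 : act 0 n48887 = n46760 := d8_1 D48887 (iv D46760) (iv F208801)
theorem F218527 : act 1 n48887 = n47178 := d16_1 D48887 (iv D47178) (iv F208802)
theorem F218528 : act 3 n48887 = n47162 := d29_1 D48887 (iv D47162) (iv F208803)
theorem F218529 : act 5 n48887 = n46875 := d38_1 D48887 (iv D46875) (iv F208804)
theorem F218530 : act 6 n48887 = n46726 := d41_1 D48887 (iv D46726) D46725
def n48888 : Q := act 8 n46726
theorem D48888 : act 8 n46726 = n48888 := rfl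
theorem F218531 : act 0 n48888 = n46761 := d7_1 D48888 (iv D46761) (iv F208806)
theorem F218532 : act 1 n48888 = n47180 := d15_1 D48888 (iv D47180) (iv F208807)
theorem F218533 : act 2 n48888 = n48320 := d22_1 D48888 F217599 F217594
theorem F218534 : act 3 n48888 = n47223 := d28_1 D48888 (iv D47223) F202943 (iv F177864) (iv F208808)
theorem F218535 : act 4 n48888 = n48319 := d33_1 D48888 F218510 F218507
theorem F218536 : act 5 n48888 = n46727 := d37_1 D48888 (iv D46727) (iv F208809)
theorem F218537 : act 9 n48888 = n48888 := d44_2 D46726 D48888 (iv D48888) (iv D46726) F175776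
def n48889 : Q := act 8 n46731
theorem D48889 : act 8 n46731 = n48889 := rfl
theorem F218538 : act 0 n48889 = n47842 := d7_1 D48889 F218199 F218191
theorem F218539 : act 1 n48889 = n47314 := d15_1 D48889 (iv D47314) (iv F208841)
theorem F218540 : act 2 n48889 = n47803 := d22_1 D48889 F214071 (iv F208842)
theorem F218541 : act 4 n48889 = n48527 := d33_1 D48889 F216703 (iv F208844)
theorem F218542 : act 5 n48889 = n46733 := d37_1 D48889 (iv D46733) (iv F208845)
theorem F218543 : act 6 n48889 = n48276 := d40_1 D48889 F215877 (iv F208846)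
theorem F218544 : act 7 n48889 = n46732 := d42_1 D48889 (iv D46732) D46731
def n48890 : Q := act 3 n46732
theorem D48890 : act 3 n46732 = n48890 := rfl
theorem F218545 : act 0 n48890 = n47817 := d2_1 D48890 F214138 (iv F208847)
theorem F218546 : act 1 n48890 = n47315 := d10_1 D48890 (iv D47315) (iv F208848)
theorem F218547 : act 2 n48890 = n47794 := d17_1 D48890 (iv D47794) F185730 D44504 (iv F208849)
theorem F218548 : act 5 n48890 = n46734 := d25_2 (iv F208851) D48890 (iv D46734)
theorem F218549 : act 6 n48890 = n47808 := d26_2 (iv F208852) D48890 (iv D47808)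
theorem F218550 : act 8 n48890 = n46740 := d28_2 D46732 D48890 (iv D46740) (iv D42066) (iv F175815)
def n48891 : Q := act 9 n46732
theorem D48891 : act 9 n46732 = n48891 := rfl
theorem F218551 : act 0 n48891 = n47846 := d8_1 D48891 (iv D47846) (iv F208847)
theorem F218552 : act 1 n48891 = n47316 := d16_1 D48891 (iv D47316) (iv F208848)
theorem F218553 : act 2 n48891 = n47805 := d23_1 D48891 (iv D47805) (iv F208849)
theorem F218554 : act 4 n48891 = n48528 := d34_1 D48891 (iv D48528) (iv F208850)
theorem F218555 : act 5 n48891 = n46735 := d38_1 D48891 (iv D46735) (iv F208851)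
theorem F218556 : act 6 n48891 = n47809 := d41_1 D48891 (iv D47809) (iv F208852)
def n48892 : Q := act 3 n46733
theorem D48892 : act 3 n46733 = n48892 := rfl
theorem F218557 : act 0 n48892 = n47820 := d2_1 D48892 F214145 (iv F208853)
theorem F218558 : act 1 n48892 = n47317 := d10_1 D48892 (iv D47317) (iv F208854)
theorem F218559 : act 2 n48892 = n47780 := d17_1 D48892 (iv D47780) F197892 D44506 (iv F208855)
theorem F218560 : act 6 n48892 = n47782 := d26_2 F218039 D48892 (iv F218036)
theorem F218561 : act 7 n48892 = n46734 := d27_2 (iv F208857) D48892 (iv D46734)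
theorem F218562 : act 8 n48892 = n46742 := d28_2 D46733 D48892 (iv D46742) (iv D42067) (iv F175818)
theorem F218563 : act 4 n48200 = n48892 := d33_3 F218562 F208901 (iv F215682)
def n48893 : Q := act 9 n46733
theorem D48893 : act 9 n46733 = n48893 := rfl
theorem F218564 : act 0 n48893 = n47849 := d8_1 D48893 (iv D47849) (iv F208853)
theorem F218565 : act 1 n48893 = n47318 := d16_1 D48893 (iv D47318) (iv F208854)
theorem F218566 : act 2 n48893 = n47806 := d23_1 D48893 (iv D47806) (iv F208855)
theorem F218567 : act 4 n48893 = n48893 := d34_1 D48893 (iv D48893) F208856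
theorem F218568 : act 6 n48893 = n48620 := d41_1 D48893 (iv F218041) F218039
theorem F218569 : act 7 n48893 = n46735 := d43_1 D48893 (iv D46735) (iv F208857)
theorem F218570 : act 8 n48893 = n48619 := d44_1 D48893 (iv D48619) F208448 F208447 D46733
def n48894 : Q := act 4 n46734
theorem D48894 : act 4 n46734 = n48894 := rfl
theorem F218571 : act 0 n48894 = n47823 := d3_1 D48894 (iv D47823) (iv F208858)
theorem F218572 : act 1 n48894 = n47320 := d11_1 D48894 (iv D47320) (iv F208859)
theorem F218573 : act 2 n48894 = n47796 := d18_1 D48894 (iv D47796) (iv F208860)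
theorem F218574 : act 3 n48894 = n48894 := d24_1 D48894 (iv D48894) (iv D46734) F175821 D46734
theorem F218575 : act 6 n48894 = n46736 := d31_2 (iv F208861) D48894 (iv D46736)
theorem F218576 : act 7 n48894 = n48200 := d32_2 F218561 D48894 F218563
theorem F218577 : act 8 n48894 = n46745 := d33_2 (iv F208862) D48894 (iv D46745)
def n48895 : Q := act 9 n46734
theorem D48895 : act 9 n46734 = n48895 := rfl
theorem F218578 : act 0 n48895 = n47824 := d8_1 D48895 (iv D47824) (iv F208858)
theorem F218579 : act 1 n48895 = n47321 := d16_1 D48895 (iv D47321) (iv F208859)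
theorem F218580 : act 2 n48895 = n47797 := d23_1 D48895 (iv D47797) (iv F208860)
theorem F218581 : act 3 n48895 = n46735 := d29_1 D48895 (iv D46735) D46734
theorem F218582 : act 6 n48895 = n46737 := d41_1 D48895 (iv D46737) (iv F208861)
def n48896 : Q := act 5 n46736
theorem D48896 : act 5 n46736 = n48896 := rfl
theorem F218583 : act 0 n48896 = n47830 := d4_1 D48896 (iv D47830) (iv F208868)
theorem F218584 : act 1 n48896 = n47325 := d12_1 D48896 (iv D47325) (iv F208869)
theorem F218585 : act 2 n48896 = n47159 := d19_1 D48896 F211126 (iv F208870)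
theorem F218586 : act 3 n48896 = n48896 := d25_1 D48896 (iv D48896) F208871
theorem F218587 : act 4 n48896 = n47811 := d30_1 D48896 (iv D47811) (iv D44520) (iv F175824) D46736
theorem F218588 : act 7 n48896 = n48109 := d36_2 F218064 D48896 (iv F218062)
theorem F218589 : act 8 n48896 = n46750 := d37_2 (iv F208872) D48896 (iv D46750)
def n48897 : Q := act 9 n46736
theorem D48897 : act 9 n46736 = n48897 := rfl
theorem F218590 : act 0 n48897 = n47831 := d8_1 D48897 (iv D47831) (iv F208868)
theorem F218591 : act 1 n48897 = n47326 := d16_1 D48897 (iv D47326) (iv F208869)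
theorem F218592 : act 2 n48897 = n47798 := d23_1 D48897 (iv D47798) (iv F208870)
theorem F218593 : act 3 n48897 = n48897 := d29_1 D48897 (iv D48897) F208871
theorem F218594 : act 4 n48897 = n46737 := d34_1 D48897 (iv D46737) D46736
def n48898 : Q := act 8 n46737
theorem D48898 : act 8 n46737 = n48898 := rfl
theorem F218595 : act 0 n48898 = n47832 := d7_1 D48898 (iv D47832) (iv F208873)
theorem F218596 : act 1 n48898 = n47327 := d15_1 D48898 (iv D47327) (iv F208874)
theorem F218597 : act 2 n48898 = n47799 := d22_1 D48898 (iv D47799) (iv F208875)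
theorem F218598 : act 5 n48898 = n47813 := d37_1 D48898 (iv D47813) (iv F208877)
theorem F218599 : act 9 n48898 = n46752 := d44_2 D46737 D48898 (iv D46752) (iv D42072) (iv F175825)
def n48899 : Q := act 3 n46739
theorem D48899 : act 3 n46739 = n48899 := rfl
theorem F218600 : act 0 n48899 = n48258 := d2_1 D48899 F215839 (iv F208884)
theorem F218601 : act 1 n48899 = n47329 := d10_1 D48899 (iv D47329) (iv F208885)
theorem F218602 : act 2 n48899 = n47784 := d17_1 D48899 (iv D47784) F185514 (iv F205282) (iv F208886)
theorem F218603 : act 5 n48899 = n46742 := d25_2 (iv F208888) D48899 (iv D46742)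
theorem F218604 : act 7 n48899 = n46740 := d27_2 (iv F208889) D48899 (iv D46740)
def n48900 : Q := act 9 n46739
theorem D48900 : act 9 n46739 = n48900 := rfl
theorem F218605 : act 0 n48900 = n48610 := d8_1 D48900 (iv D48610) (iv F208884)
theorem F218606 : act 1 n48900 = n47330 := d16_1 D48900 (iv D47330) (iv F208885)
theorem F218607 : act 2 n48900 = n46762 := d23_1 D48900 (iv D46762) (iv F208886)
theorem F218608 : act 4 n48900 = n46903 := d34_1 D48900 (iv D46903) (iv F208887)
theorem F218609 : act 5 n48900 = n46743 := d38_1 D48900 (iv D46743) (iv F208888)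
theorem F218610 : act 7 n48900 = n46741 := d43_1 D48900 (iv D46741) (iv F208889)
def n48901 : Q := act 2 n46740
theorem D48901 : act 2 n46740 = n48901 := rfl
theorem F218611 : act 0 n48901 = n47808 := d1_1 D48901 (iv F218461) F218460
theorem F218612 : act 3 n48901 = n46763 := d17_2 D46740 D48901 (iv D46763) (iv D42085) (iv F175834)
theorem F218613 : act 5 n48901 = n46744 := d19_2 (iv F208891) D48901 (iv D46744)
theorem F218614 : act 6 n48901 = n47817 := d20_2 (iv F208892) D48901 (iv D47817)
theorem F218615 : act 7 n48901 = n47784 := d21_2 F218604 D48901 (iv F218602)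
theorem F218616 : act 8 n48901 = n47794 := d22_2 F218550 D48901 (iv F218547)
theorem F218617 : act 1 n48168 = n48901 := d14_3 F218615 F213977 (iv F215590)
def n48902 : Q := act 4 n46740
theorem D48902 : act 4 n46740 = n48902 := rfl
theorem F218618 : act 1 n48902 = n47332 := d11_1 D48902 (iv D47332) (iv F208890)
theorem F218619 : act 3 n48902 = n46905 := d24_1 D48902 (iv D46905) (iv D42253) (iv F175835) D46740
theorem F218620 : act 6 n48902 = n47818 := d31_2 (iv F208892) D48902 (iv D47818)
def n48903 : Q := act 9 n46740
theorem D48903 : act 9 n46740 = n48903 := rfl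
theorem F218621 : act 1 n48903 = n47333 := d16_1 D48903 (iv D47333) (iv F208890)
theorem F218622 : act 3 n48903 = n46741 := d29_1 D48903 (iv D46741) D46740
theorem F218623 : act 5 n48903 = n46746 := d38_1 D48903 (iv D46746) (iv F208891)
theorem F218624 : act 6 n48903 = n47819 := d41_1 D48903 (iv D47819) (iv F208892)
def n48904 : Q := act 9 n46742
theorem D48904 : act 9 n46742 = n48904 := rfl
theorem F218625 : act 0 n48904 = n48259 := d8_1 D48904 (iv D48259) (iv F208898)
theorem F218626 : act 1 n48904 = n47336 := d16_1 D48904 (iv D47336) (iv F208899)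
theorem F218627 : act 2 n48904 = n47786 := d23_1 D48904 (iv D47786) (iv F208900)
theorem F218628 : act 3 n48904 = n46743 := d29_1 D48904 (iv D46743) D46742
theorem F218629 : act 4 n48904 = n48212 := d34_1 D48904 (iv D48212) (iv F208901)
theorem F218630 : act 6 n48904 = n47787 := d41_1 D48904 (iv D47787) (iv F208902)
theorem F218631 : act 7 n48904 = n46746 := d43_1 D48904 (iv D46746) (iv F208903)
def n48905 : Q := act 9 n46744
theorem D48905 : act 9 n46744 = n48905 := rfl
theorem F218632 : act 0 n48905 = n47810 := d8_1 D48905 (iv D47810) (iv F208910)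
theorem F218633 : act 1 n48905 = n48173 := d16_1 D48905 (iv D48173) F208915
theorem F218634 : act 2 n48905 = n46746 := d23_1 D48905 (iv D46746) D46744
theorem F218635 : act 3 n48905 = n46765 := d29_1 D48905 (iv D46765) (iv F208911)
theorem F218636 : act 4 n48905 = n48211 := d34_1 D48905 (iv D48211) F208916
theorem F218637 : act 6 n48905 = n46749 := d41_1 D48905 (iv D46749) (iv F208912)
theorem F218638 : act 7 n48905 = n47786 := d43_1 D48905 (iv D47786) (iv F208913)
def n48906 : Q := act 5 n46745
theorem D48906 : act 5 n46745 = n48906 := rfl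
theorem F218639 : act 0 n48906 = n48243 := d4_1 D48906 F215806 (iv F208917)
theorem F218640 : act 1 n48906 = n47340 := d12_1 D48906 (iv D47340) (iv F208918)
theorem F218641 : act 2 n48906 = n48206 := d19_1 D48906 F215698 (iv F208919)
theorem F218642 : act 3 n48906 = n46753 := d25_1 D48906 (iv D46753) (iv F208920)
theorem F218643 : act 7 n48906 = n48208 := d36_2 (iv F208922) D48906 F215707
def n48907 : Q := act 9 n46745
theorem D48907 : act 9 n46745 = n48907 := rfl
theorem F218644 : act 0 n48907 = n48253 := d8_1 D48907 (iv D48253) (iv F208917)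
theorem F218645 : act 1 n48907 = n47341 := d16_1 D48907 (iv D47341) (iv F208918)
theorem F218646 : act 2 n48907 = n48211 := d23_1 D48907 (iv D48211) (iv F208919)
theorem F218647 : act 3 n48907 = n46754 := d29_1 D48907 (iv D46754) (iv F208920)
theorem F218648 : act 4 n48907 = n46746 := d34_1 D48907 (iv D46746) D46745
theorem F218649 : act 6 n48907 = n46751 := d41_1 D48907 (iv D46751) (iv F208921)
theorem F218650 : act 7 n48907 = n48212 := d43_1 D48907 (iv D48212) (iv F208922)
def n48908 : Q := act 8 n46746
theorem D48908 : act 8 n46746 = n48908 := rfl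
theorem F218651 : act 1 n48908 = n47342 := d15_1 D48908 (iv D47342) (iv F208923)
theorem F218652 : act 6 n48908 = n46752 := d40_1 D48908 (iv D46752) (iv F208925)
def n48909 : Q := act 9 n46747
theorem D48909 : act 9 n46747 = n48909 := rfl
theorem F218653 : act 0 n48909 = n48166 := d8_1 D48909 (iv D48166) (iv F208926)
theorem F218654 : act 1 n48909 = n46749 := d16_1 D48909 (iv D46749) D46747
theorem F218655 : act 2 n48909 = n47345 := d23_1 D48909 (iv D47345) (iv F208927)
theorem F218656 : act 3 n48909 = n46766 := d29_1 D48909 (iv D46766) (iv F208928)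
theorem F218657 : act 4 n48909 = n48141 := d34_1 D48909 (iv D48141) F208933
theorem F218658 : act 5 n48909 = n47829 := d38_1 D48909 (iv D47829) (iv F208929)
theorem F218659 : act 6 n48909 = n48173 := d41_1 D48909 (iv D48173) (iv F208930)
theorem F218660 : act 7 n48909 = n48086 := d43_1 D48909 (iv D48086) (iv F208931)
def n48910 : Q := act 5 n46748
theorem D48910 : act 5 n46748 = n48910 := rfl
theorem F218661 : act 0 n48910 = n47811 := d4_1 D48910 (iv D47811) (iv F208934)
theorem F218662 : act 1 n48910 = n47166 := d12_1 D48910 F211161 (iv F208935)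
theorem F218663 : act 2 n48910 = n46750 := d19_1 D48910 (iv D46750) (iv F208936)
theorem F218664 : act 3 n48910 = n47155 := d25_1 D48910 F211105 (iv F208937)
theorem F218665 : act 4 n48910 = n47830 := d30_1 D48910 (iv D47830) (iv D44532) (iv F175849) D46748
theorem F218666 : act 7 n48910 = n48094 := d36_2 (iv F208939) D48910 F215324
theorem F218667 : act 8 n48910 = n47159 := d37_2 (iv F208940) D48910 F211126
def n48911 : Q := act 9 n46748
theorem D48911 : act 9 n46748 = n48911 := rfl
theorem F218668 : act 0 n48911 = n47812 := d8_1 D48911 (iv D47812) (iv F208934)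
theorem F218669 : act 1 n48911 = n48141 := d16_1 D48911 (iv D48141) (iv F208935)
theorem F218670 : act 2 n48911 = n46751 := d23_1 D48911 (iv D46751) (iv F208936)
theorem F218671 : act 3 n48911 = n48096 := d29_1 D48911 (iv D48096) (iv F208937)
theorem F218672 : act 4 n48911 = n46749 := d34_1 D48911 (iv D46749) D46748
theorem F218673 : act 6 n48911 = n48211 := d41_1 D48911 (iv D48211) (iv F208938)
theorem F218674 : act 7 n48911 = n48097 := d43_1 D48911 (iv D48097) (iv F208939)
def n48912 : Q := act 8 n46749
theorem D48912 : act 8 n46749 = n48912 := rfl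
theorem F218675 : act 0 n48912 = n47813 := d7_1 D48912 (iv D47813) (iv F208941)
theorem F218676 : act 2 n48912 = n46752 := d22_1 D48912 (iv D46752) (iv F208942)
theorem F218677 : act 3 n48912 = n48240 := d28_1 D48912 (iv D48240) F189108 (iv F206525) (iv F208943)
theorem F218678 : act 5 n48912 = n47832 := d37_1 D48912 (iv D47832) (iv F208944)
theorem F218679 : act 9 n48912 = n47799 := d44_2 D46749 D48912 (iv D47799) (iv D44491) (iv F205564)
def n48913 : Q := act 6 n46750
theorem D48913 : act 6 n46750 = n48913 := rfl
theorem F218680 : act 1 n48913 = n47349 := d13_1 D48913 (iv D47349) (iv F208945)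
theorem F218681 : act 3 n48913 = n46756 := d26_1 D48913 (iv D46756) (iv F208946)
theorem F218682 : act 4 n48913 = n47833 := d31_1 D48913 (iv D47833) (iv F208947)
def n48914 : Q := act 9 n46750
theorem D48914 : act 9 n46750 = n48914 := rfl
theorem F218683 : act 1 n48914 = n47350 := d16_1 D48914 (iv D47350) (iv F208945)
theorem F218684 : act 3 n48914 = n46757 := d29_1 D48914 (iv D46757) (iv F208946)
theorem F218685 : act 4 n48914 = n47834 := d34_1 D48914 (iv D47834) (iv F208947)
theorem F218686 : act 5 n48914 = n46751 := d38_1 D48914 (iv D46751) D46750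
def n48915 : Q := act 8 n46751
theorem D48915 : act 8 n46751 = n48915 := rfl
theorem F218687 : act 1 n48915 = n47351 := d15_1 D48915 (iv D47351) (iv F208948)
theorem F218688 : act 4 n48915 = n46752 := d33_1 D48915 (iv D46752) (iv F208950)
def n48916 : Q := act 6 n46753
theorem D48916 : act 6 n46753 = n48916 := rfl
theorem F218689 : act 0 n48916 = n48279 := d5_1 D48916 F215887 (iv F208953)
theorem F218690 : act 1 n48916 = n47355 := d13_1 D48916 (iv D47355) (iv F208954)
theorem F218691 : act 2 n48916 = n48217 := d20_1 D48916 F215730 (iv F208955)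
theorem F218692 : act 4 n48916 = n46928 := d31_1 D48916 (iv D46928) (iv F208956)
theorem F218693 : act 5 n48916 = n46756 := d35_1 D48916 (iv D46756) (iv D42077) (iv F175864) D46753
theorem F218694 : act 8 n48916 = n48916 := d40_2 F208958 D48916 (iv D48916)
def n48917 : Q := act 9 n46753
theorem D48917 : act 9 n46753 = n48917 := rfl
theorem F218695 : act 0 n48917 = n48282 := d8_1 D48917 (iv D48282) (iv F208953)
theorem F218696 : act 1 n48917 = n47356 := d16_1 D48917 (iv D47356) (iv F208954)
theorem F218697 : act 2 n48917 = n48219 := d23_1 D48917 (iv D48219) (iv F208955)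
theorem F218698 : act 4 n48917 = n46929 := d34_1 D48917 (iv D46929) (iv F208956)
theorem F218699 : act 5 n48917 = n46754 := d38_1 D48917 (iv D46754) D46753
theorem F218700 : act 7 n48917 = n48220 := d43_1 D48917 (iv D48220) (iv F208957)
def n48918 : Q := act 8 n46754
theorem D48918 : act 8 n46754 = n48918 := rfl
theorem F218701 : act 0 n48918 = n48293 := d7_1 D48918 (iv D48293) (iv F208959)
theorem F218702 : act 1 n48918 = n47357 := d15_1 D48918 (iv D47357) (iv F208960)
theorem F218703 : act 2 n48918 = n48223 := d22_1 D48918 (iv D48223) (iv F208961)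
theorem F218704 : act 4 n48918 = n46755 := d33_1 D48918 (iv D46755) (iv F208962)
theorem F218705 : act 6 n48918 = n46758 := d40_1 D48918 (iv D46758) (iv F208963)
theorem F218706 : act 7 n48918 = n48224 := d42_1 D48918 (iv D48224) (iv F208964)
theorem F218707 : act 9 n48918 = n48918 := d44_2 D46754 D48918 (iv D48918) (iv D46754) F175865
def n48919 : Q := act 7 n46756
theorem D48919 : act 7 n46756 = n48919 := rfl
theorem F218708 : act 0 n48919 = n47231 := d6_1 D48919 (iv F218502) F218497
theorem F218709 : act 1 n48919 = n47358 := d14_1 D48919 (iv D47358) (iv F208972)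
theorem F218710 : act 2 n48919 = n47248 := d21_1 D48919 (iv F217615) F217611
theorem F218711 : act 4 n48919 = n46759 := d32_1 D48919 (iv D46759) (iv F208973)
theorem F218712 : act 6 n48919 = n47234 := d39_1 D48919 F218110 (iv D48822) F208398 D46756
theorem F218713 : act 8 n48919 = n48919 := d42_2 F208974 D48919 (iv D48919)
def n48920 : Q := act 9 n46756
theorem D48920 : act 9 n46756 = n48920 := rfl
theorem F218714 : act 1 n48920 = n47359 := d16_1 D48920 (iv D47359) (iv F208972)
theorem F218715 : act 4 n48920 = n46760 := d34_1 D48920 (iv D46760) (iv F208973)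
theorem F218716 : act 6 n48920 = n46757 := d41_1 D48920 (iv D46757) D46756
def n48921 : Q := act 8 n46757
theorem D48921 : act 8 n46757 = n48921 := rfl
theorem F218717 : act 0 n48921 = n48319 := d7_1 D48921 F218510 F218504
theorem F218718 : act 1 n48921 = n47360 := d15_1 D48921 (iv D47360) (iv F208975)
theorem F218719 : act 2 n48921 = n48318 := d22_1 D48921 F217624 F217619
theorem F218720 : act 4 n48921 = n46761 := d33_1 D48921 (iv D46761) (iv F208976)
theorem F218721 : act 5 n48921 = n46758 := d37_1 D48921 (iv D46758) (iv F208977)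
theorem F218722 : act 9 n48921 = n48921 := d44_2 D46757 D48921 (iv D48921) (iv D46757) F175872
def n48922 : Q := act 3 n46758
theorem D48922 : act 3 n46758 = n48922 := rfl
theorem F218723 : act 1 n48922 = n47361 := d10_1 D48922 (iv D47361) (iv F208978)
theorem F218724 : act 9 n48922 = n48922 := d29_2 F208980 D48922 (iv D48922)
def n48923 : Q := act 9 n46759
theorem D48923 : act 9 n46759 = n48923 := rfl
theorem F218725 : act 1 n48923 = n47362 := d16_1 D48923 (iv D47362) (iv F208981)
theorem F218726 : act 3 n48923 = n47840 := d29_1 D48923 (iv D47840) (iv F208982)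
theorem F218727 : act 5 n48923 = n46935 := d38_1 D48923 (iv D46935) (iv F208983)
theorem F218728 : act 6 n48923 = n48618 := d41_1 D48923 F218132 F218130
theorem F218729 : act 7 n48923 = n46760 := d43_1 D48923 (iv D46760) D46759
theorem F218730 : act 8 n48631 = n48923 := d40_0 F218728 F217052 (iv F217091)
def n48924 : Q := act 8 n46760
theorem D48924 : act 8 n46760 = n48924 := rfl
theorem F218731 : act 1 n48924 = n47363 := d15_1 D48924 (iv D47363) (iv F208985)
theorem F218732 : act 3 n48924 = n48629 := d28_1 D48924 (iv D48629) (iv F208701) F208705 (iv F208986)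
theorem F218733 : act 5 n48924 = n46936 := d37_1 D48924 (iv D46936) (iv F208987)
theorem F218734 : act 6 n48924 = n46761 := d40_1 D48924 (iv D46761) (iv F208988)
theorem F218735 : act 7 n48924 = n48631 := d42_1 D48924 F218730 F218729
theorem F218736 : act 9 n48924 = n48924 := d44_2 D46760 D48924 (iv D48924) (iv D46760) F175881
def n48925 : Q := act 9 n46763
theorem D48925 : act 9 n46763 = n48925 := rfl
theorem F218737 : act 0 n48925 = n47809 := d8_1 D48925 (iv D47809) (iv F208998)
theorem F218738 : act 1 n48925 = n48169 := d16_1 D48925 (iv D48169) (iv F208999)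
theorem F218739 : act 2 n48925 = n46764 := d23_1 D48925 (iv D46764) D46763
theorem F218740 : act 4 n48925 = n47878 := d34_1 D48925 (iv D47878) (iv F209000)
theorem F218741 : act 5 n48925 = n46765 := d38_1 D48925 (iv D46765) (iv F209001)
theorem F218742 : act 6 n48925 = n47846 := d41_1 D48925 (iv D47846) (iv F209002)
theorem F218743 : act 7 n48925 = n47785 := d43_1 D48925 (iv D47785) (iv F209003)
theorem F218744 : act 8 n48925 = n47816 := d44_1 D48925 (iv D47816) (iv D44523) (iv F185512) (iv F209004)
def n48926 : Q := act 7 n46768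
theorem D48926 : act 7 n46768 = n48926 := rfl
theorem F218745 : act 0 n48926 = n46886 := d6_1 D48926 F209721 (iv F209037)
theorem F218746 : act 1 n48926 = n47437 := d14_1 D48926 (iv D47437) (iv F209038)
theorem F218747 : act 2 n48926 = n48926 := d21_1 D48926 (iv D48926) F209039
theorem F218748 : act 3 n48926 = n46855 := d27_1 D48926 F209546 (iv F209040)
theorem F218749 : act 4 n48926 = n46769 := d32_1 D48926 (iv D46769) D46768
theorem F218750 : act 5 n48926 = n48926 := d36_1 D48926 (iv D48926) F209041
theorem F218751 : act 6 n48926 = n46847 := d39_1 D48926 (iv D46847) F176436 (iv F198715) (iv F209042)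
theorem F218752 : act 9 n48926 = n46884 := d43_2 (iv F209043) D48926 (iv D46884)
def n48927 : Q := act 8 n46768
theorem D48927 : act 8 n46768 = n48927 := rfl
theorem F218753 : act 0 n48927 = n47974 := d7_1 D48927 (iv D47974) (iv F209037)
theorem F218754 : act 1 n48927 = n47438 := d15_1 D48927 (iv D47438) (iv F209038)
theorem F218755 : act 2 n48927 = n48927 := d22_1 D48927 (iv D48927) F209039
theorem F218756 : act 4 n48927 = n46770 := d33_1 D48927 (iv D46770) D46768
theorem F218757 : act 5 n48927 = n48927 := d37_1 D48927 (iv D48927) F209041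
theorem F218758 : act 6 n48927 = n47869 := d40_1 D48927 (iv D47869) (iv F209042)
def n48928 : Q := act 6 n46769
theorem D48928 : act 6 n46769 = n48928 := rfl
theorem F218759 : act 0 n48928 = n46884 := d5_1 D48928 F209710 (iv F209044)
theorem F218760 : act 1 n48928 = n47439 := d13_1 D48928 (iv D47439) (iv F209045)
theorem F218761 : act 2 n48928 = n48928 := d20_1 D48928 (iv D48928) F209046
theorem F218762 : act 3 n48928 = n46777 := d26_1 D48928 (iv D46777) (iv F209047)
theorem F218763 : act 4 n48928 = n46847 := d31_1 D48928 (iv F218751) F218749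
theorem F218764 : act 5 n48928 = n48928 := d35_1 D48928 (iv D48928) F209048 F176135 (iv F209048)
theorem F218765 : act 7 n48928 = n46846 := d39_2 D46769 D48928 F209501 (iv D44717) (iv F176129)
theorem F218766 : act 9 n48928 = n46886 := d41_2 (iv F209049) D48928 (iv D46886)
def n48929 : Q := act 8 n46769
theorem D48929 : act 8 n46769 = n48929 := rfl
theorem F218767 : act 0 n48929 = n48736 := d7_1 D48929 F217524 (iv F209044)
theorem F218768 : act 1 n48929 = n47440 := d15_1 D48929 (iv D47440) (iv F209045)
theorem F218769 : act 2 n48929 = n48929 := d22_1 D48929 (iv D48929) F209046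
theorem F218770 : act 5 n48929 = n46771 := d37_1 D48929 (iv D46771) (iv F209048)
theorem F218771 : act 7 n48929 = n46770 := d42_1 D48929 (iv D46770) D46769
def n48930 : Q := act 3 n46770
theorem D48930 : act 3 n46770 = n48930 := rfl
theorem F218772 : act 0 n48930 = n48462 := d2_1 D48930 F216528 (iv F209050)
theorem F218773 : act 1 n48930 = n47441 := d10_1 D48930 (iv D47441) (iv F209051)
theorem F218774 : act 5 n48930 = n46772 := d25_2 (iv F209053) D48930 (iv D46772)
theorem F218775 : act 6 n48930 = n47871 := d26_2 (iv F209054) D48930 (iv D47871)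
theorem F218776 : act 8 n48930 = n46779 := d28_2 D46770 D48930 (iv D46779) (iv D42147) (iv F176128)
def n48931 : Q := act 9 n46770
theorem D48931 : act 9 n46770 = n48931 := rfl
theorem F218777 : act 0 n48931 = n48737 := d8_1 D48931 (iv D48737) (iv F209050)
theorem F218778 : act 1 n48931 = n47442 := d16_1 D48931 (iv D47442) (iv F209051)
theorem F218779 : act 2 n48931 = n48931 := d23_1 D48931 (iv D48931) F209052
theorem F218780 : act 5 n48931 = n46773 := d38_1 D48931 (iv D46773) (iv F209053)
theorem F218781 : act 6 n48931 = n47872 := d41_1 D48931 (iv D47872) (iv F209054)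
theorem F218782 : act 8 n48931 = n46889 := d44_1 D48931 (iv D46889) (iv D42244) (iv F176130) D46770
def n48932 : Q := act 3 n46771
theorem D48932 : act 3 n46771 = n48932 := rfl
theorem F218783 : act 0 n48932 = n48471 := d2_1 D48932 F216557 (iv F209055)
theorem F218784 : act 1 n48932 = n47443 := d10_1 D48932 (iv D47443) (iv F209056)
theorem F218785 : act 6 n48932 = n48932 := d26_2 F209059 D48932 (iv D48932)
theorem F218786 : act 7 n48932 = n46772 := d27_2 (iv F209060) D48932 (iv D46772)
theorem F218787 : act 8 n48932 = n46781 := d28_2 D46771 D48932 (iv D46781) (iv D42148) (iv F176133)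
def n48933 : Q := act 9 n46771
theorem D48933 : act 9 n46771 = n48933 := rfl
theorem F218788 : act 0 n48933 = n48738 := d8_1 D48933 (iv D48738) (iv F209055)
theorem F218789 : act 1 n48933 = n47444 := d16_1 D48933 (iv D47444) (iv F209056)
theorem F218790 : act 2 n48933 = n48933 := d23_1 D48933 (iv D48933) F209057
theorem F218791 : act 4 n48933 = n48933 := d34_1 D48933 (iv D48933) F209058
theorem F218792 : act 6 n48933 = n48933 := d41_1 D48933 (iv D48933) F209059
theorem F218793 : act 7 n48933 = n46773 := d43_1 D48933 (iv D46773) (iv F209060)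
theorem F218794 : act 8 n48933 = n46891 := d44_1 D48933 (iv D46891) (iv D42245) (iv F176136) D46771
def n48934 : Q := act 2 n46772
theorem D48934 : act 2 n46772 = n48934 := rfl
theorem F218795 : act 0 n48934 = n48468 := d1_1 D48934 F216546 (iv F209061)
theorem F218796 : act 1 n48934 = n47941 := d9_1 D48934 F214693 F203012 (iv F203821) (iv F209062)
theorem F218797 : act 3 n48934 = n48934 := d17_2 D46772 D48934 (iv D48934) (iv D46772) F176138
theorem F218798 : act 6 n48934 = n46774 := d20_2 (iv F209063) D48934 (iv D46774)
theorem F218799 : act 8 n48934 = n46783 := d22_2 (iv F209064) D48934 (iv D46783)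
theorem F218800 : act 4 n47940 = n48934 := d31_3 F218798 (iv F209077) (iv F214691)
def n48935 : Q := act 4 n46772
theorem D48935 : act 4 n46772 = n48935 := rfl
theorem F218801 : act 0 n48935 = n47590 := d3_1 D48935 F213033 (iv F209061)
theorem F218802 : act 1 n48935 = n47445 := d11_1 D48935 (iv D47445) (iv F209062)
theorem F218803 : act 2 n48935 = n47940 := d18_1 D48935 F218800 (iv D48934)
theorem F218804 : act 3 n48935 = n48935 := d24_1 D48935 (iv D48935) (iv D46772) F176139 D46772
theorem F218805 : act 6 n48935 = n46775 := d31_2 (iv F209063) D48935 (iv D46775)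
theorem F218806 : act 8 n48935 = n46784 := d33_2 (iv F209064) D48935 (iv D46784)
def n48936 : Q := act 9 n46772
theorem D48936 : act 9 n46772 = n48936 := rfl
theorem F218807 : act 0 n48936 = n48472 := d8_1 D48936 (iv D48472) (iv F209061)
theorem F218808 : act 1 n48936 = n47446 := d16_1 D48936 (iv D47446) (iv F209062)
theorem F218809 : act 3 n48936 = n46773 := d29_1 D48936 (iv D46773) D46772
theorem F218810 : act 6 n48936 = n46776 := d41_1 D48936 (iv D46776) (iv F209063)
def n48937 : Q := act 9 n46774
theorem D48937 : act 9 n46774 = n48937 := rfl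
theorem F218811 : act 0 n48937 = n48469 := d8_1 D48937 (iv D48469) (iv F209071)
theorem F218812 : act 1 n48937 = n47947 := d16_1 D48937 (iv D47947) (iv F209072)
theorem F218813 : act 2 n48937 = n46776 := d23_1 D48937 (iv D46776) D46774
theorem F218814 : act 3 n48937 = n48937 := d29_1 D48937 (iv D48937) F209073
theorem F218815 : act 4 n48937 = n47946 := d34_1 D48937 (iv D47946) F209077
theorem F218816 : act 5 n48937 = n47666 := d38_1 D48937 F213309 (iv F209074)
theorem F218817 : act 7 n48937 = n48937 := d43_1 D48937 (iv D48937) F209075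
def n48938 : Q := act 9 n46775
theorem D48938 : act 9 n46775 = n48938 := rfl
theorem F218818 : act 0 n48938 = n47591 := d8_1 D48938 (iv D47591) (iv F209078)
theorem F218819 : act 1 n48938 = n47447 := d16_1 D48938 (iv D47447) (iv F209079)
theorem F218820 : act 2 n48938 = n47946 := d23_1 D48938 (iv D47946) (iv F209080)
theorem F218821 : act 3 n48938 = n48938 := d29_1 D48938 (iv D48938) F209081
theorem F218822 : act 4 n48938 = n46776 := d34_1 D48938 (iv D46776) D46775
theorem F218823 : act 5 n48938 = n47527 := d38_1 D48938 (iv D47527) (iv F209082)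
theorem F218824 : act 7 n48938 = n48938 := d43_1 D48938 (iv D48938) F209083
def n48939 : Q := act 8 n46776
theorem D48939 : act 8 n46776 = n48939 := rfl
theorem F218825 : act 0 n48939 = n48473 := d7_1 D48939 (iv D48473) (iv F209085)
theorem F218826 : act 1 n48939 = n47448 := d15_1 D48939 (iv D47448) (iv F209086)
theorem F218827 : act 3 n48939 = n46900 := d28_1 D48939 (iv D46900) F176601 (iv F176150) (iv F209087)
theorem F218828 : act 5 n48939 = n47876 := d37_1 D48939 (iv D47876) (iv F209088)
theorem F218829 : act 7 n48939 = n48939 := d42_1 D48939 (iv D48939) F209089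
theorem F218830 : act 9 n48939 = n46790 := d44_2 D46776 D48939 (iv D46790) (iv D42153) (iv F176144)
def n48940 : Q := act 8 n46777
theorem D48940 : act 8 n46777 = n48940 := rfl
theorem F218831 : act 0 n48940 = n48527 := d7_1 D48940 F216703 (iv F209090)
theorem F218832 : act 1 n48940 = n47449 := d15_1 D48940 (iv D47449) (iv F209091)
theorem F218833 : act 2 n48940 = n46797 := d22_1 D48940 (iv D46797) (iv F209092)
theorem F218834 : act 4 n48940 = n47842 := d33_1 D48940 F218199 F218195
theorem F218835 : act 5 n48940 = n48940 := d37_1 D48940 (iv D48940) F209093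
theorem F218836 : act 6 n48940 = n46778 := d40_1 D48940 (iv D46778) D46777
theorem F218837 : act 7 n48940 = n47845 := d42_1 D48940 F214241 (iv F209094)
def n48941 : Q := act 3 n46778
theorem D48941 : act 3 n46778 = n48941 := rfl
theorem F218838 : act 0 n48941 = n48511 := d2_1 D48941 F216659 (iv F209096)
theorem F218839 : act 1 n48941 = n47450 := d10_1 D48941 (iv D47450) (iv F209097)
theorem F218840 : act 5 n48941 = n46781 := d25_2 (iv F209099) D48941 (iv D46781)
theorem F218841 : act 7 n48941 = n46779 := d27_2 (iv F209100) D48941 (iv D46779)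
def n48942 : Q := act 9 n46778
theorem D48942 : act 9 n46778 = n48942 := rfl
theorem F218842 : act 0 n48942 = n48529 := d8_1 D48942 (iv D48529) (iv F209096)
theorem F218843 : act 1 n48942 = n47451 := d16_1 D48942 (iv D47451) (iv F209097)
theorem F218844 : act 2 n48942 = n46799 := d23_1 D48942 (iv D46799) (iv F209098)
theorem F218845 : act 5 n48942 = n46782 := d38_1 D48942 (iv D46782) (iv F209099)
theorem F218846 : act 7 n48942 = n46780 := d43_1 D48942 (iv D46780) (iv F209100)
theorem F218847 : act 8 n48942 = n46903 := d44_1 D48942 (iv D46903) (iv D42252) (iv F176154) D46778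
def n48943 : Q := act 2 n46779
theorem D48943 : act 2 n46779 = n48943 := rfl
theorem F218848 : act 0 n48943 = n48507 := d1_1 D48943 F216648 (iv F209101)
theorem F218849 : act 3 n48943 = n46800 := d17_2 D46779 D48943 (iv D46800) (iv D42166) (iv F176156)
theorem F218850 : act 5 n48943 = n46783 := d19_2 (iv F209103) D48943 (iv D46783)
theorem F218851 : act 6 n48943 = n47879 := d20_2 (iv F209104) D48943 (iv D47879)
def n48944 : Q := act 4 n46779
theorem D48944 : act 4 n46779 = n48944 := rfl
theorem F218852 : act 0 n48944 = n48490 := d3_1 D48944 F216600 (iv F209101)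
theorem F218853 : act 1 n48944 = n47453 := d11_1 D48944 (iv D47453) (iv F209102)
theorem F218854 : act 6 n48944 = n47880 := d31_2 (iv F209104) D48944 (iv D47880)
def n48945 : Q := act 9 n46779
theorem D48945 : act 9 n46779 = n48945 := rfl
theorem F218855 : act 0 n48945 = n48512 := d8_1 D48945 (iv D48512) (iv F209101)
theorem F218856 : act 1 n48945 = n47454 := d16_1 D48945 (iv D47454) (iv F209102)
theorem F218857 : act 3 n48945 = n46780 := d29_1 D48945 (iv D46780) D46779
theorem F218858 : act 5 n48945 = n46785 := d38_1 D48945 (iv D46785) (iv F209103)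
theorem F218859 : act 6 n48945 = n47881 := d41_1 D48945 (iv D47881) (iv F209104)
def n48946 : Q := act 2 n46781
theorem D48946 : act 2 n46781 = n48946 := rfl
theorem F218860 : act 0 n48946 = n48520 := d1_1 D48946 F216683 (iv F209111)
theorem F218861 : act 1 n48946 = n48731 := d9_1 D48946 (iv D48731) F212406 (iv D47455) (iv F209112)
theorem F218862 : act 3 n48946 = n46803 := d17_2 D46781 D48946 (iv D46803) (iv D42168) (iv F176160)
theorem F218863 : act 6 n48946 = n48946 := d20_2 F209113 D48946 (iv D48946)
theorem F218864 : act 7 n48946 = n46783 := d21_2 (iv F209114) D48946 (iv D46783)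
def n48947 : Q := act 4 n46781
theorem D48947 : act 4 n46781 = n48947 := rfl
theorem F218865 : act 0 n48947 = n47627 := d3_1 D48947 F213147 (iv F209111)
theorem F218866 : act 1 n48947 = n47456 := d11_1 D48947 (iv D47456) (iv F209112)
theorem F218867 : act 3 n48947 = n46791 := d24_1 D48947 (iv D46791) (iv D42154) (iv F176161) D46781
theorem F218868 : act 6 n48947 = n48947 := d31_2 F209113 D48947 (iv D48947)
theorem F218869 : act 7 n48947 = n46784 := d32_2 (iv F209114) D48947 (iv D46784)
def n48948 : Q := act 9 n46781
theorem D48948 : act 9 n46781 = n48948 := rfl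
theorem F218870 : act 0 n48948 = n48525 := d8_1 D48948 (iv D48525) (iv F209111)
theorem F218871 : act 1 n48948 = n47457 := d16_1 D48948 (iv D47457) (iv F209112)
theorem F218872 : act 3 n48948 = n46782 := d29_1 D48948 (iv D46782) D46781
theorem F218873 : act 6 n48948 = n48948 := d41_1 D48948 (iv D48948) F209113
theorem F218874 : act 7 n48948 = n46785 := d43_1 D48948 (iv D46785) (iv F209114)
def n48949 : Q := act 1 n46783
theorem D48949 : act 1 n46783 = n48949 := rfl
theorem F218875 : act 2 n48949 = n47458 := d9_2 D46783 D48949 (iv D47458) (iv D42890) (iv F176164)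
theorem F218876 : act 3 n48949 = n46805 := d10_2 (iv F209123) D48949 (iv D46805)
theorem F218877 : act 6 n48949 = n46786 := d13_2 (iv F209124) D48949 (iv D46786)
theorem F218878 : act 7 n48949 = n48731 := d14_2 F218864 D48949 (iv F218861)
theorem F218879 : act 8 n48949 = n47941 := d15_2 F218799 D48949 (iv F218796)
theorem F218880 : act 0 n47983 = n48949 := d7_3 F218879 F214692 (iv F214892)
theorem F218881 : act 4 n47927 = n48949 := d33_3 F218879 (iv D47941) (iv F214645)
def n48950 : Q := act 4 n46783
theorem D48950 : act 4 n46783 = n48950 := rfl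
theorem F218882 : act 0 n48950 = n47623 := d3_1 D48950 F213131 (iv F209122)
theorem F218883 : act 1 n48950 = n47927 := d11_1 D48950 F218881 (iv D48949)
theorem F218884 : act 2 n48950 = n46784 := d18_1 D48950 (iv D46784) D46783
theorem F218885 : act 3 n48950 = n48950 := d24_1 D48950 (iv D48950) F209123 F176254 (iv F209123)
theorem F218886 : act 6 n48950 = n46787 := d31_2 (iv F209124) D48950 (iv D46787)
theorem F218887 : act 8 n48950 = n47940 := d33_2 F218799 D48950 F218800
def n48951 : Q := act 9 n46783
theorem D48951 : act 9 n46783 = n48951 := rfl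
theorem F218888 : act 0 n48951 = n48521 := d8_1 D48951 (iv D48521) (iv F209122)
theorem F218889 : act 2 n48951 = n46785 := d23_1 D48951 (iv D46785) D46783
theorem F218890 : act 3 n48951 = n46806 := d29_1 D48951 (iv D46806) (iv F209123)
theorem F218891 : act 6 n48951 = n46788 := d41_1 D48951 (iv D46788) (iv F209124)
def n48952 : Q := act 5 n46784
theorem D48952 : act 5 n46784 = n48952 := rfl
theorem F218892 : act 0 n48952 = n47616 := d4_1 D48952 F213106 (iv F209125)
theorem F218893 : act 1 n48952 = n47461 := d12_1 D48952 (iv D47461) (iv F209126)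
theorem F218894 : act 3 n48952 = n46793 := d25_1 D48952 (iv D46793) (iv F209127)
theorem F218895 : act 6 n48952 = n47541 := d35_2 (iv F209128) D48952 (iv D47541) F179575 (iv F203721)
def n48953 : Q := act 9 n46784
theorem D48953 : act 9 n46784 = n48953 := rfl
theorem F218896 : act 0 n48953 = n47628 := d8_1 D48953 (iv D47628) (iv F209125)
theorem F218897 : act 1 n48953 = n47462 := d16_1 D48953 (iv D47462) (iv F209126)
theorem F218898 : act 3 n48953 = n46794 := d29_1 D48953 (iv D46794) (iv F209127)
theorem F218899 : act 4 n48953 = n46785 := d34_1 D48953 (iv D46785) D46784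
theorem F218900 : act 6 n48953 = n46789 := d41_1 D48953 (iv D46789) (iv F209128)
def n48954 : Q := act 8 n46785
theorem D48954 : act 8 n46785 = n48954 := rfl
theorem F218901 : act 0 n48954 = n48526 := d7_1 D48954 (iv D48526) (iv F209129)
theorem F218902 : act 1 n48954 = n47463 := d15_1 D48954 (iv D47463) (iv F209130)
theorem F218903 : act 3 n48954 = n46915 := d28_1 D48954 (iv D46915) F176633 (iv F176170) (iv F209131)
theorem F218904 : act 6 n48954 = n46790 := d40_1 D48954 (iv D46790) (iv F209132)
def n48955 : Q := act 9 n46786
theorem D48955 : act 9 n46786 = n48955 := rfl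
theorem F218905 : act 0 n48955 = n47990 := d8_1 D48955 (iv D47990) F209138
theorem F218906 : act 1 n48955 = n46788 := d16_1 D48955 (iv D46788) D46786
theorem F218907 : act 2 n48955 = n47464 := d23_1 D48955 (iv D47464) (iv F209133)
theorem F218908 : act 3 n48955 = n46809 := d29_1 D48955 (iv D46809) (iv F209134)
theorem F218909 : act 4 n48955 = n47929 := d34_1 D48955 (iv D47929) F209139
theorem F218910 : act 5 n48955 = n47888 := d38_1 D48955 (iv D47888) (iv F209135)
theorem F218911 : act 7 n48955 = n48955 := d43_1 D48955 (iv D48955) F209136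
def n48956 : Q := act 9 n46787
theorem D48956 : act 9 n46787 = n48956 := rfl
theorem F218912 : act 0 n48956 = n47624 := d8_1 D48956 (iv D47624) (iv F209140)
theorem F218913 : act 1 n48956 = n47929 := d16_1 D48956 (iv D47929) (iv F209141)
theorem F218914 : act 2 n48956 = n46789 := d23_1 D48956 (iv D46789) (iv F209142)
theorem F218915 : act 3 n48956 = n48956 := d29_1 D48956 (iv D48956) F209143
theorem F218916 : act 4 n48956 = n46788 := d34_1 D48956 (iv D46788) D46787
theorem F218917 : act 5 n48956 = n47545 := d38_1 D48956 (iv D47545) (iv F209144)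
theorem F218918 : act 7 n48956 = n48956 := d43_1 D48956 (iv D48956) F209145
def n48957 : Q := act 8 n46788
theorem D48957 : act 8 n46788 = n48957 := rfl
theorem F218919 : act 0 n48957 = n48522 := d7_1 D48957 (iv D48522) (iv F209147)
theorem F218920 : act 2 n48957 = n46790 := d22_1 D48957 (iv D46790) (iv F209148)
theorem F218921 : act 5 n48957 = n47889 := d37_1 D48957 (iv D47889) (iv F209150)
theorem F218922 : act 7 n48957 = n48957 := d42_1 D48957 (iv D48957) F209151
def n48958 : Q := act 8 n46789
theorem D48958 : act 8 n46789 = n48958 := rfl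
theorem F218923 : act 0 n48958 = n47629 := d7_1 D48958 (iv D47629) (iv F209152)
theorem F218924 : act 1 n48958 = n47469 := d15_1 D48958 (iv D47469) (iv F209153)
theorem F218925 : act 4 n48958 = n46790 := d33_1 D48958 (iv D46790) (iv F209155)
theorem F218926 : act 5 n48958 = n47547 := d37_1 D48958 (iv D47547) (iv F209156)
theorem F218927 : act 7 n48958 = n48958 := d42_1 D48958 (iv D48958) F209157
def n48959 : Q := act 5 n46791
theorem D48959 : act 5 n46791 = n48959 := rfl
theorem F218928 : act 0 n48959 = n47634 := d4_1 D48959 F213169 (iv F209163)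
theorem F218929 : act 1 n48959 = n47470 := d12_1 D48959 (iv D47470) (iv F209164)
theorem F218930 : act 2 n48959 = n48959 := d19_1 D48959 (iv D48959) F209165
theorem F218931 : act 7 n48959 = n46793 := d36_2 (iv F209167) D48959 (iv D46793)
theorem F218932 : act 8 n48959 = n48959 := d37_2 F209168 D48959 (iv D48959)
def n48960 : Q := act 9 n46791
theorem D48960 : act 9 n46791 = n48960 := rfl
theorem F218933 : act 0 n48960 = n47638 := d8_1 D48960 (iv D47638) (iv F209163)
theorem F218934 : act 1 n48960 = n47471 := d16_1 D48960 (iv D47471) (iv F209164)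
theorem F218935 : act 2 n48960 = n48960 := d23_1 D48960 (iv D48960) F209165
theorem F218936 : act 4 n48960 = n46792 := d34_1 D48960 (iv D46792) D46791
theorem F218937 : act 6 n48960 = n48960 := d41_1 D48960 (iv D48960) F209166
theorem F218938 : act 7 n48960 = n46794 := d43_1 D48960 (iv D46794) (iv F209167)
def n48961 : Q := act 8 n46792
theorem D48961 : act 8 n46792 = n48961 := rfl
theorem F218939 : act 0 n48961 = n47642 := d7_1 D48961 (iv D47642) (iv F209169)
theorem F218940 : act 1 n48961 = n47472 := d15_1 D48961 (iv D47472) (iv F209170)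
theorem F218941 : act 2 n48961 = n48961 := d22_1 D48961 (iv D48961) F209171
theorem F218942 : act 3 n48961 = n46927 := d28_1 D48961 (iv D46927) F176661 (iv F176190) (iv F209172)
theorem F218943 : act 5 n48961 = n48603 := d37_1 D48961 F218278 F218275
theorem F218944 : act 6 n48961 = n48961 := d40_1 D48961 (iv D48961) F209173
theorem F218945 : act 7 n48961 = n46795 := d42_1 D48961 (iv D46795) (iv F209174)
theorem F218946 : act 9 n48961 = n48961 := d44_2 D46792 D48961 (iv D48961) (iv D46792) F176185
def n48962 : Q := act 9 n46793
theorem D48962 : act 9 n46793 = n48962 := rfl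
theorem F218947 : act 0 n48962 = n47635 := d8_1 D48962 (iv D47635) (iv F209175)
theorem F218948 : act 1 n48962 = n47474 := d16_1 D48962 (iv D47474) (iv F209176)
theorem F218949 : act 2 n48962 = n48962 := d23_1 D48962 (iv D48962) F209177
theorem F218950 : act 5 n48962 = n46794 := d38_1 D48962 (iv D46794) D46793
theorem F218951 : act 6 n48962 = n47551 := d41_1 D48962 (iv D47551) (iv F209178)
def n48963 : Q := act 8 n46794
theorem D48963 : act 8 n46794 = n48963 := rfl
theorem F218952 : act 0 n48963 = n47639 := d7_1 D48963 (iv D47639) (iv F209180)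
theorem F218953 : act 1 n48963 = n47475 := d15_1 D48963 (iv D47475) (iv F209181)
theorem F218954 : act 2 n48963 = n48963 := d22_1 D48963 (iv D48963) F209182
theorem F218955 : act 4 n48963 = n46795 := d33_1 D48963 (iv D46795) (iv F209183)
theorem F218956 : act 6 n48963 = n46796 := d40_1 D48963 (iv D46796) (iv F209184)
theorem F218957 : act 9 n48963 = n48963 := d44_2 D46794 D48963 (iv D48963) (iv D46794) F176194
def n48964 : Q := act 3 n46796
theorem D48964 : act 3 n46796 = n48964 := rfl
theorem F218958 : act 0 n48964 = n47640 := d2_1 D48964 (iv D47640) (iv F209191)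
theorem F218959 : act 1 n48964 = n47479 := d10_1 D48964 (iv D47479) (iv F209192)
theorem F218960 : act 4 n48964 = n46934 := d24_2 (iv F209194) D48964 (iv D46934) F176680 (iv F176210)
theorem F218961 : act 5 n48964 = n47553 := d25_2 (iv F209195) D48964 (iv D47553)
theorem F218962 : act 7 n48964 = n48964 := d27_2 F209196 D48964 (iv D48964)
theorem F218963 : act 9 n48964 = n48964 := d29_2 F209197 D48964 (iv D48964)
def n48965 : Q := act 9 n46797
theorem D48965 : act 9 n46797 = n48965 := rfl
theorem F218964 : act 0 n48965 = n48724 := d8_1 D48965 (iv D48724) (iv F209198)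
theorem F218965 : act 1 n48965 = n46811 := d16_1 D48965 (iv D46811) (iv F209199)
theorem F218966 : act 3 n48965 = n48042 := d29_1 D48965 (iv D48042) F209204
theorem F218967 : act 4 n48965 = n47843 := d34_1 D48965 (iv D47843) (iv F209200)
theorem F218968 : act 5 n48965 = n48965 := d38_1 D48965 (iv D48965) F209201
theorem F218969 : act 6 n48965 = n46799 := d41_1 D48965 (iv D46799) (iv F209202)
theorem F218970 : act 7 n48965 = n47847 := d43_1 D48965 (iv D47847) (iv F209203)
theorem F218971 : act 8 n48965 = n46937 := d44_1 D48965 (iv D46937) (iv D42278) (iv F176232) D46797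
def n48966 : Q := act 2 n46798
theorem D48966 : act 2 n46798 = n48966 := rfl
theorem F218972 : act 0 n48966 = n48706 := d1_1 D48966 F217420 (iv F209205)
theorem F218973 : act 1 n48966 = n48550 := d9_1 D48966 (iv D48550) F209295 (iv D46812) (iv F209206)
theorem F218974 : act 4 n48966 = n48037 := d18_2 (iv F209207) D48966 (iv D48037)
theorem F218975 : act 5 n48966 = n46803 := d19_2 (iv F209208) D48966 (iv D46803)
theorem F218976 : act 6 n48966 = n48040 := d20_2 (iv F209209) D48966 F215096
theorem F218977 : act 7 n48966 = n46800 := d21_2 (iv F209210) D48966 (iv D46800)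
theorem F218978 : act 8 n48966 = n48966 := d22_2 F209211 D48966 (iv D48966)
def n48967 : Q := act 9 n46798
theorem D48967 : act 9 n46798 = n48967 := rfl
theorem F218979 : act 0 n48967 = n48711 := d8_1 D48967 (iv D48711) (iv F209205)
theorem F218980 : act 1 n48967 = n46813 := d16_1 D48967 (iv D46813) (iv F209206)
theorem F218981 : act 3 n48967 = n46799 := d29_1 D48967 (iv D46799) D46798
theorem F218982 : act 4 n48967 = n48038 := d34_1 D48967 (iv D48038) (iv F209207)
theorem F218983 : act 5 n48967 = n46804 := d38_1 D48967 (iv D46804) (iv F209208)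
theorem F218984 : act 6 n48967 = n48042 := d41_1 D48967 (iv D48042) (iv F209209)
theorem F218985 : act 7 n48967 = n46802 := d43_1 D48967 (iv D46802) (iv F209210)
def n48968 : Q := act 1 n46800
theorem D48968 : act 1 n46800 = n48968 := rfl
theorem F218986 : act 2 n48968 = n46814 := d9_2 D46800 D48968 (iv D46814) (iv D42178) (iv F176236)
theorem F218987 : act 5 n48968 = n46805 := d12_2 (iv F209218) D48968 (iv D46805)
theorem F218988 : act 6 n48968 = n47890 := d13_2 (iv F209219) D48968 (iv D47890)
theorem F218989 : act 7 n48968 = n48550 := d14_2 F218977 D48968 (iv F218973)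
theorem F218990 : act 8 n48968 = n48968 := d15_2 F209220 D48968 (iv D48968)
theorem F218991 : act 0 n48553 = n48968 := d6_3 F218989 F216792 (iv F216802)
def n48969 : Q := act 4 n46800
theorem D48969 : act 4 n46800 = n48969 := rfl
theorem F218992 : act 0 n48969 = n48687 := d3_1 D48969 F217339 (iv F209217)
theorem F218993 : act 2 n48969 = n46801 := d18_1 D48969 (iv D46801) D46800
theorem F218994 : act 5 n48969 = n48969 := d30_2 (iv F209218) D48969 (iv D48969) F209218 F176254
theorem F218995 : act 6 n48969 = n46938 := d31_2 (iv F209219) D48969 F209941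
theorem F218996 : act 7 n48969 = n48037 := d32_2 F218977 D48969 (iv F218974)
theorem F218997 : act 8 n48969 = n48969 := d33_2 F209220 D48969 (iv D48969)
def n48970 : Q := act 9 n46800
theorem D48970 : act 9 n46800 = n48970 := rfl
theorem F218998 : act 0 n48970 = n48707 := d8_1 D48970 (iv D48707) (iv F209217)
theorem F218999 : act 2 n48970 = n46802 := d23_1 D48970 (iv D46802) D46800
theorem F219000 : act 5 n48970 = n46806 := d38_1 D48970 (iv D46806) (iv F209218)
theorem F219001 : act 6 n48970 = n47891 := d41_1 D48970 (iv D47891) (iv F209219)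
def n48971 : Q := act 9 n46801
theorem D48971 : act 9 n46801 = n48971 := rfl
theorem F219002 : act 0 n48971 = n48691 := d8_1 D48971 (iv D48691) (iv F209221)
theorem F219003 : act 1 n48971 = n46817 := d16_1 D48971 (iv D46817) (iv F209222)
theorem F219004 : act 3 n48971 = n46937 := d29_1 D48971 (iv D46937) (iv F209223)
theorem F219005 : act 4 n48971 = n46802 := d34_1 D48971 (iv D46802) D46801
theorem F219006 : act 5 n48971 = n48971 := d38_1 D48971 (iv D48971) F209224
theorem F219007 : act 6 n48971 = n46939 := d41_1 D48971 (iv D46939) (iv F209225)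
theorem F219008 : act 7 n48971 = n48038 := d43_1 D48971 (iv D48038) (iv F209226)
def n48972 : Q := act 8 n46802
theorem D48972 : act 8 n46802 = n48972 := rfl
theorem F219009 : act 0 n48972 = n48712 := d7_1 D48972 (iv D48712) (iv F209228)
theorem F219010 : act 1 n48972 = n46818 := d15_1 D48972 (iv D46818) (iv F209229)
theorem F219011 : act 3 n48972 = n46944 := d28_1 D48972 (iv D46944) F176716 (iv F176243) (iv F209230)
theorem F219012 : act 5 n48972 = n46807 := d37_1 D48972 (iv D46807) (iv F209231)
theorem F219013 : act 6 n48972 = n47892 := d40_1 D48972 (iv D47892) (iv F209232)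
theorem F219014 : act 9 n48972 = n48972 := d44_2 D46802 D48972 (iv D48972) (iv D46802) F176239
def n48973 : Q := act 9 n46803
theorem D48973 : act 9 n46803 = n48973 := rfl
theorem F219015 : act 0 n48973 = n48720 := d8_1 D48973 (iv D48720) (iv F209233)
theorem F219016 : act 1 n48973 = n48741 := d16_1 D48973 (iv D48741) (iv F209234)
theorem F219017 : act 2 n48973 = n46804 := d23_1 D48973 (iv D46804) D46803
theorem F219018 : act 4 n48973 = n48973 := d34_1 D48973 (iv D48973) F209235
theorem F219019 : act 6 n48973 = n48973 := d41_1 D48973 (iv D48973) F209236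
theorem F219020 : act 7 n48973 = n46806 := d43_1 D48973 (iv D46806) (iv F209237)
def n48974 : Q := act 8 n46804
theorem D48974 : act 8 n46804 = n48974 := rfl
theorem F219021 : act 0 n48974 = n48693 := d7_1 D48974 F217368 (iv F209239)
theorem F219022 : act 1 n48974 = n46820 := d15_1 D48974 (iv D46820) (iv F209240)
theorem F219023 : act 3 n48974 = n46947 := d28_1 D48974 (iv D46947) F176723 (iv F176253) (iv F209241)
theorem F219024 : act 4 n48974 = n48974 := d33_1 D48974 (iv D48974) F209242
theorem F219025 : act 6 n48974 = n48974 := d40_1 D48974 (iv D48974) F209243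
theorem F219026 : act 7 n48974 = n46807 := d42_1 D48974 (iv D46807) (iv F209244)
theorem F219027 : act 9 n48974 = n48974 := d44_2 D46804 D48974 (iv D48974) (iv D46804) F176248
def n48975 : Q := act 9 n46805
theorem D48975 : act 9 n46805 = n48975 := rfl
theorem F219028 : act 0 n48975 = n48743 := d8_1 D48975 (iv D48743) F209250
theorem F219029 : act 1 n48975 = n46806 := d16_1 D48975 (iv D46806) D46805
theorem F219030 : act 2 n48975 = n46821 := d23_1 D48975 (iv D46821) (iv F209245)
theorem F219031 : act 4 n48975 = n48975 := d34_1 D48975 (iv D48975) F209246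
theorem F219032 : act 6 n48975 = n46809 := d41_1 D48975 (iv D46809) (iv F209247)
theorem F219033 : act 7 n48975 = n48741 := d43_1 D48975 (iv D48741) (iv F209248)
def n48976 : Q := act 8 n46806
theorem D48976 : act 8 n46806 = n48976 := rfl
theorem F219034 : act 0 n48976 = n48721 := d7_1 D48976 (iv D48721) (iv F209251)
theorem F219035 : act 2 n48976 = n46807 := d22_1 D48976 (iv D46807) (iv F209252)
theorem F219036 : act 4 n48976 = n48976 := d33_1 D48976 (iv D48976) F209253
theorem F219037 : act 6 n48976 = n46810 := d40_1 D48976 (iv D46810) (iv F209254)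
theorem F219038 : act 9 n48976 = n48976 := d44_2 D46806 D48976 (iv D48976) (iv D46806) F176256
def n48977 : Q := act 9 n46808
theorem D48977 : act 9 n46808 = n48977 := rfl
theorem F219039 : act 0 n48977 = n46809 := d8_1 D48977 (iv D46809) D46808
theorem F219040 : act 1 n48977 = n48714 := d16_1 D48977 (iv D48714) (iv F209261)
theorem F219041 : act 2 n48977 = n46823 := d23_1 D48977 (iv D46823) (iv F209262)
theorem F219042 : act 3 n48977 = n47990 := d29_1 D48977 (iv D47990) (iv F209263)
theorem F219043 : act 4 n48977 = n48977 := d34_1 D48977 (iv D48977) F209264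
theorem F219044 : act 5 n48977 = n47899 := d38_1 D48977 (iv D47899) (iv F209265)
theorem F219045 : act 6 n48977 = n48743 := d41_1 D48977 (iv D48743) (iv F209266)
theorem F219046 : act 7 n48977 = n48977 := d43_1 D48977 (iv D48977) F209267
def n48978 : Q := act 8 n46809
theorem D48978 : act 8 n46809 = n48978 := rfl
theorem F219047 : act 1 n48978 = n46810 := d15_1 D48978 (iv D46810) (iv F209269)
theorem F219048 : act 2 n48978 = n46824 := d22_1 D48978 (iv D46824) (iv F209270)
theorem F219049 : act 4 n48978 = n48978 := d33_1 D48978 (iv D48978) F209271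
theorem F219050 : act 5 n48978 = n47900 := d37_1 D48978 (iv D47900) (iv F209272)
theorem F219051 : act 7 n48978 = n48978 := d42_1 D48978 (iv D48978) F209273
theorem F219052 : act 9 n48978 = n48978 := d44_2 D46809 D48978 (iv D48978) (iv D46809) F176265
def n48979 : Q := act 3 n46810
theorem D48979 : act 3 n46810 = n48979 := rfl
theorem F219053 : act 0 n48979 = n48722 := d2_1 D48979 (iv D48722) (iv F209274)
theorem F219054 : act 2 n48979 = n46953 := d17_1 D48979 (iv D46953) F176742 (iv F176271) (iv F209275)
theorem F219055 : act 5 n48979 = n47901 := d25_2 (iv F209277) D48979 (iv D47901)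
theorem F219056 : act 7 n48979 = n48979 := d27_2 F209278 D48979 (iv D48979)
theorem F219057 : act 9 n48979 = n48979 := d29_2 F209279 D48979 (iv D48979)
def n48980 : Q := act 9 n46812
theorem D48980 : act 9 n46812 = n48980 := rfl
theorem F219058 : act 0 n48980 = n48980 := d8_1 D48980 (iv D48980) F209288
theorem F219059 : act 1 n48980 = n48551 := d16_1 D48980 (iv D48551) F209295
theorem F219060 : act 2 n48980 = n46813 := d23_1 D48980 (iv D46813) D46812
theorem F219061 : act 3 n48980 = n47494 := d29_1 D48980 (iv D47494) (iv F209289)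
theorem F219062 : act 4 n48980 = n47681 := d34_1 D48980 F213399 (iv F209290)
theorem F219063 : act 5 n48980 = n46819 := d38_1 D48980 (iv D46819) (iv F209291)
theorem F219064 : act 6 n48980 = n48062 := d41_1 D48980 (iv D48062) (iv F209292)
theorem F219065 : act 7 n48980 = n46816 := d43_1 D48980 (iv D46816) (iv F209293)
def n48981 : Q := act 8 n46813
theorem D48981 : act 8 n46813 = n48981 := rfl
theorem F219066 : act 0 n48981 = n48981 := d7_1 D48981 (iv D48981) F209296
theorem F219067 : act 3 n48981 = n46956 := d28_1 D48981 (iv D46956) F176765 (iv F176289) (iv F209297)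
theorem F219068 : act 4 n48981 = n48060 := d33_1 D48981 (iv D48060) (iv F209298)
theorem F219069 : act 5 n48981 = n46820 := d37_1 D48981 (iv D46820) (iv F209299)
theorem F219070 : act 6 n48981 = n48064 := d40_1 D48981 (iv D48064) (iv F209300)
theorem F219071 : act 7 n48981 = n46818 := d42_1 D48981 (iv D46818) (iv F209301)
theorem F219072 : act 9 n48981 = n48981 := d44_2 D46813 D48981 (iv D48981) (iv D46813) F176284
def n48982 : Q := act 4 n46814
theorem D48982 : act 4 n46814 = n48982 := rfl
theorem F219073 : act 0 n48982 = n48554 := d3_1 D48982 (iv D48554) F209307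
theorem F219074 : act 1 n48982 = n46815 := d11_1 D48982 (iv D46815) D46814
theorem F219075 : act 3 n48982 = n47667 := d24_1 D48982 F213310 F204147 (iv F203876) (iv F209302)
theorem F219076 : act 5 n48982 = n48982 := d30_2 (iv F209303) D48982 (iv D48982) F209303 F176315
theorem F219077 : act 6 n48982 = n46954 := d31_2 (iv F209304) D48982 F210017
theorem F219078 : act 7 n48982 = n47739 := d32_2 (iv F209305) D48982 F213740
theorem F219079 : act 8 n48982 = n48982 := d33_2 F209306 D48982 (iv D48982)
def n48983 : Q := act 9 n46814
theorem D48983 : act 9 n46814 = n48983 := rfl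
theorem F219080 : act 0 n48983 = n48555 := d8_1 D48983 (iv D48555) F209307
theorem F219081 : act 1 n48983 = n46816 := d16_1 D48983 (iv D46816) D46814
theorem F219082 : act 3 n48983 = n47497 := d29_1 D48983 (iv D47497) (iv F209302)
theorem F219083 : act 5 n48983 = n46821 := d38_1 D48983 (iv D46821) (iv F209303)
theorem F219084 : act 6 n48983 = n47903 := d41_1 D48983 (iv D47903) (iv F209304)
theorem F219085 : act 7 n48983 = n48551 := d43_1 D48983 (iv D48551) (iv F209305)
def n48984 : Q := act 9 n46815
theorem D48984 : act 9 n46815 = n48984 := rfl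
theorem F219086 : act 0 n48984 = n48984 := d8_1 D48984 (iv D48984) F209308
theorem F219087 : act 2 n48984 = n46817 := d23_1 D48984 (iv D46817) (iv F209309)
theorem F219088 : act 3 n48984 = n47668 := d29_1 D48984 (iv D47668) (iv F209310)
theorem F219089 : act 4 n48984 = n46816 := d34_1 D48984 (iv D46816) D46815
theorem F219090 : act 5 n48984 = n48984 := d38_1 D48984 (iv D48984) F209311
theorem F219091 : act 6 n48984 = n46955 := d41_1 D48984 (iv D46955) (iv F209312)
theorem F219092 : act 7 n48984 = n47681 := d43_1 D48984 F213399 (iv F209313)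
def n48985 : Q := act 8 n46816
theorem D48985 : act 8 n46816 = n48985 := rfl
theorem F219093 : act 0 n48985 = n48985 := d7_1 D48985 (iv D48985) F209315
theorem F219094 : act 2 n48985 = n46818 := d22_1 D48985 (iv D46818) (iv F209316)
theorem F219095 : act 5 n48985 = n46822 := d37_1 D48985 (iv D46822) (iv F209318)
theorem F219096 : act 6 n48985 = n47904 := d40_1 D48985 (iv D47904) (iv F209319)
theorem F219097 : act 9 n48985 = n48985 := d44_2 D46816 D48985 (iv D48985) (iv D46816) F176294
def n48986 : Q := act 8 n46817
theorem D48986 : act 8 n46817 = n48986 := rfl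
theorem F219098 : act 0 n48986 = n48986 := d7_1 D48986 (iv D48986) F209320
theorem F219099 : act 3 n48986 = n48064 := d28_1 D48986 (iv D48064) (iv F209282) F209287 (iv F209321)
theorem F219100 : act 4 n48986 = n46818 := d33_1 D48986 (iv D46818) (iv F209322)
theorem F219101 : act 5 n48986 = n48986 := d37_1 D48986 (iv D48986) F209323
theorem F219102 : act 6 n48986 = n46956 := d40_1 D48986 (iv D46956) (iv F209324)
theorem F219103 : act 7 n48986 = n48060 := d42_1 D48986 (iv D48060) (iv F209325)
theorem F219104 : act 9 n48986 = n48986 := d44_2 D46817 D48986 (iv D48986) (iv D46817) F176298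
def n48987 : Q := act 8 n46819
theorem D48987 : act 8 n46819 = n48987 := rfl
theorem F219105 : act 0 n48987 = n48987 := d7_1 D48987 (iv D48987) F209331
theorem F219106 : act 1 n48987 = n48742 := d15_1 D48987 (iv D48742) (iv F209332)
theorem F219107 : act 2 n48987 = n46820 := d22_1 D48987 (iv D46820) (iv F209333)
theorem F219108 : act 4 n48987 = n48987 := d33_1 D48987 (iv D48987) F209335
theorem F219109 : act 6 n48987 = n48987 := d40_1 D48987 (iv D48987) F209336
theorem F219110 : act 7 n48987 = n46822 := d42_1 D48987 (iv D46822) (iv F209337)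
theorem F219111 : act 9 n48987 = n48987 := d44_2 D46819 D48987 (iv D48987) (iv D46819) F176308
def n48988 : Q := act 8 n46821
theorem D48988 : act 8 n46821 = n48988 := rfl
theorem F219112 : act 0 n48988 = n48744 := d7_1 D48988 (iv D48744) (iv F209344)
theorem F219113 : act 1 n48988 = n46822 := d15_1 D48988 (iv D46822) (iv F209345)
theorem F219114 : act 4 n48988 = n48988 := d33_1 D48988 (iv D48988) F209347
theorem F219115 : act 6 n48988 = n46824 := d40_1 D48988 (iv D46824) (iv F209348)
theorem F219116 : act 7 n48988 = n48742 := d42_1 D48988 (iv D48742) (iv F209349)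
theorem F219117 : act 9 n48988 = n48988 := d44_2 D46821 D48988 (iv D48988) (iv D46821) F176317
def n48989 : Q := act 3 n46822
theorem D48989 : act 3 n46822 = n48989 := rfl
theorem F219118 : act 0 n48989 = n48989 := d2_1 D48989 (iv D48989) F209350
theorem F219119 : act 2 n48989 = n46968 := d17_1 D48989 (iv D46968) F176809 (iv F176324) (iv F209351)
theorem F219120 : act 6 n48989 = n46825 := d26_2 (iv F209353) D48989 (iv D46825)
theorem F219121 : act 8 n48989 = n47499 := d28_2 D46822 D48989 (iv D47499) (iv D42940) (iv F176320)
theorem F219122 : act 9 n48989 = n48989 := d29_2 F209354 D48989 (iv D48989)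
def n48990 : Q := act 8 n46823
theorem D48990 : act 8 n46823 = n48990 := rfl
theorem F219123 : act 0 n48990 = n46824 := d7_1 D48990 (iv D46824) (iv F209355)
theorem F219124 : act 1 n48990 = n48990 := d15_1 D48990 (iv D48990) F209356
theorem F219125 : act 3 n48990 = n47406 := d28_1 D48990 (iv D47406) (iv F212119) F212124 (iv F209357)
theorem F219126 : act 4 n48990 = n48990 := d33_1 D48990 (iv D48990) F209358
theorem F219127 : act 5 n48990 = n47911 := d37_1 D48990 (iv D47911) (iv F209359)
theorem F219128 : act 6 n48990 = n48744 := d40_1 D48990 (iv D48744) (iv F209360)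
theorem F219129 : act 7 n48990 = n48990 := d42_1 D48990 (iv D48990) F209361
theorem F219130 : act 9 n48990 = n48990 := d44_2 D46823 D48990 (iv D48990) (iv D46823) F176333
def n48991 : Q := act 3 n46824
theorem D48991 : act 3 n46824 = n48991 := rfl
theorem F219131 : act 0 n48991 = n47406 := d2_1 D48991 (iv F219125) F219123
theorem F219132 : act 1 n48991 = n46825 := d10_1 D48991 (iv D46825) (iv F209362)
theorem F219133 : act 5 n48991 = n47912 := d25_2 (iv F209364) D48991 (iv D47912)
theorem F219134 : act 7 n48991 = n48991 := d27_2 F209365 D48991 (iv D48991)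
theorem F219135 : act 8 n48991 = n47397 := d28_2 D46824 D48991 F212106 (iv D42942) (iv F176335)
theorem F219136 : act 9 n48991 = n48991 := d29_2 F209366 D48991 (iv D48991)
theorem F219137 : act 2 n47434 = n48991 := d22_3 F219135 F212105 D47434
theorem F219138 : act 4 n47398 = n48991 := d33_3 F219135 F212107 D47398
def n48992 : Q := act 4 n46825
theorem D48992 : act 4 n46825 = n48992 := rfl
theorem F219139 : act 0 n48992 = n48992 := d3_1 D48992 (iv D48992) F209367
theorem F219140 : act 1 n48992 = n47398 := d11_1 D48992 F219138 F219132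
theorem F219141 : act 2 n48992 = n46971 := d18_1 D48992 (iv D46971) (iv F209368)
theorem F219142 : act 3 n48992 = n48992 := d24_1 D48992 (iv D48992) (iv D46825) F176341 D46825
theorem F219143 : act 5 n48992 = n47394 := d30_2 (iv F209369) D48992 (iv F217664) F217665 (iv D47913)
theorem F219144 : act 7 n48992 = n48992 := d32_2 F209370 D48992 (iv D48992)
theorem F219145 : act 8 n48992 = n47393 := d33_2 (iv F209371) D48992 F212084
theorem F219146 : act 9 n48992 = n48992 := d34_2 F209372 D48992 (iv D48992)
def n48993 : Q := act 7 n46826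
theorem D48993 : act 7 n46826 = n48993 := rfl
theorem F219147 : act 0 n48993 = n47501 := d6_1 D48993 (iv D47501) (iv F209373)
theorem F219148 : act 1 n48993 = n46847 := d14_1 D48993 (iv D46847) (iv F209374)
theorem F219149 : act 2 n48993 = n47688 := d21_1 D48993 F213430 (iv F209375)
theorem F219150 : act 3 n48993 = n46831 := d27_1 D48993 (iv D46831) (iv F209376)
theorem F219151 : act 4 n48993 = n47439 := d32_1 D48993 F212335 F209379
theorem F219152 : act 5 n48993 = n46827 := d36_1 D48993 (iv D46827) D46826
theorem F219153 : act 6 n48993 = n47437 := d39_1 D48993 (iv D47437) F179161 (iv F198760) (iv F209377)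
theorem F219154 : act 9 n48993 = n47567 := d43_2 (iv F209378) D48993 F212947
def n48994 : Q := act 8 n46826
theorem D48994 : act 8 n46826 = n48994 := rfl
theorem F219155 : act 0 n48994 = n47502 := d7_1 D48994 (iv D47502) (iv F209373)
theorem F219156 : act 1 n48994 = n46848 := d15_1 D48994 (iv D46848) (iv F209374)
theorem F219157 : act 2 n48994 = n48545 := d22_1 D48994 (iv D48545) (iv F209375)
theorem F219158 : act 4 n48994 = n48332 := d33_1 D48994 (iv D48332) F209379
theorem F219159 : act 5 n48994 = n46828 := d37_1 D48994 (iv D46828) D46826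
theorem F219160 : act 6 n48994 = n47914 := d40_1 D48994 (iv D47914) (iv F209377)
def n48995 : Q := act 8 n46827
theorem D48995 : act 8 n46827 = n48995 := rfl
theorem F219161 : act 0 n48995 = n47503 := d7_1 D48995 (iv D47503) (iv F209380)
theorem F219162 : act 1 n48995 = n46849 := d15_1 D48995 (iv D46849) (iv F209381)
theorem F219163 : act 2 n48995 = n48549 := d22_1 D48995 (iv D48549) (iv F209382)
theorem F219164 : act 4 n48995 = n48995 := d33_1 D48995 (iv D48995) F209384
theorem F219165 : act 6 n48995 = n48995 := d40_1 D48995 (iv D48995) F209385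
theorem F219166 : act 7 n48995 = n46828 := d42_1 D48995 (iv D46828) D46827
def n48996 : Q := act 3 n46828
theorem D48996 : act 3 n46828 = n48996 := rfl
theorem F219167 : act 0 n48996 = n47504 := d2_1 D48996 (iv D47504) (iv F209387)
theorem F219168 : act 1 n48996 = n46850 := d10_1 D48996 (iv D46850) (iv F209388)
theorem F219169 : act 2 n48996 = n47467 := d17_1 D48996 F212457 (iv F212149) F212150 (iv F209389)
theorem F219170 : act 6 n48996 = n46829 := d26_2 (iv F209391) D48996 (iv D46829)
theorem F219171 : act 8 n48996 = n46834 := d28_2 D46828 D48996 (iv D46834) (iv D42194) (iv F176353)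
theorem F219172 : act 4 n47513 = n48996 := d31_3 F219170 (iv F209398) (iv F212691)
def n48997 : Q := act 9 n46828
theorem D48997 : act 9 n46828 = n48997 := rfl
theorem F219173 : act 0 n48997 = n47505 := d8_1 D48997 (iv D47505) (iv F209387)
theorem F219174 : act 1 n48997 = n46851 := d16_1 D48997 (iv D46851) (iv F209388)
theorem F219175 : act 2 n48997 = n48392 := d23_1 D48997 F216292 (iv F209389)
theorem F219176 : act 4 n48997 = n48997 := d34_1 D48997 (iv D48997) F209390
theorem F219177 : act 6 n48997 = n46830 := d41_1 D48997 (iv D46830) (iv F209391)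
theorem F219178 : act 8 n48997 = n48385 := d44_1 D48997 (iv D48385) F189889 (iv F203468) D46828
def n48998 : Q := act 9 n46829
theorem D48998 : act 9 n46829 = n48998 := rfl
theorem F219179 : act 0 n48998 = n47506 := d8_1 D48998 (iv D47506) (iv F209392)
theorem F219180 : act 1 n48998 = n46854 := d16_1 D48998 (iv D46854) (iv F209393)
theorem F219181 : act 2 n48998 = n47468 := d23_1 D48998 (iv D47468) (iv F209394)
theorem F219182 : act 3 n48998 = n46830 := d29_1 D48998 (iv D46830) D46829
theorem F219183 : act 4 n48998 = n47515 := d34_1 D48998 (iv D47515) F209398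
theorem F219184 : act 5 n48998 = n47465 := d38_1 D48998 (iv D47465) (iv F209395)
theorem F219185 : act 7 n48998 = n48998 := d43_1 D48998 (iv D48998) F209396
def n48999 : Q := act 6 n46831
theorem D48999 : act 6 n46831 = n48999 := rfl
theorem F219186 : act 0 n48999 = n47507 := d5_1 D48999 (iv D47507) (iv F209406)
theorem F219187 : act 1 n48999 = n46855 := d13_1 D48999 (iv D46855) (iv F209407)
theorem F219188 : act 2 n48999 = n48999 := d20_1 D48999 (iv D48999) F209408
theorem F219189 : act 3 n48999 = n47437 := d26_1 D48999 (iv F219153) F219150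
theorem F219190 : act 4 n48999 = n47192 := d31_1 D48999 (iv F218400) F218398
theorem F219191 : act 5 n48999 = n48999 := d35_1 D48999 (iv D48999) F209409 F176368 (iv F209409)
theorem F219192 : act 7 n48999 = n47191 := d39_2 D46831 D48999 F211270 (iv D44792) (iv F176363)
theorem F219193 : act 9 n48999 = n47311 := d41_2 (iv F209410) D48999 F211762
def n49000 : Q := act 8 n46831
theorem D49000 : act 8 n46831 = n49000 := rfl
theorem F219194 : act 0 n49000 = n47508 := d7_1 D49000 (iv D47508) (iv F209406)
theorem F219195 : act 1 n49000 = n46856 := d15_1 D49000 (iv D46856) (iv F209407)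
theorem F219196 : act 2 n49000 = n49000 := d22_1 D49000 (iv D49000) F209408
theorem F219197 : act 4 n49000 = n48607 := d33_1 D49000 F218402 F218398
theorem F219198 : act 5 n49000 = n46833 := d37_1 D49000 (iv D46833) (iv F209409)
theorem F219199 : act 7 n49000 = n46832 := d42_1 D49000 (iv D46832) D46831
def n49001 : Q := act 3 n46832
theorem D49001 : act 3 n46832 = n49001 := rfl
theorem F219200 : act 0 n49001 = n47509 := d2_1 D49001 (iv D47509) (iv F209411)
theorem F219201 : act 1 n49001 = n46857 := d10_1 D49001 (iv D46857) (iv F209412)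
theorem F219202 : act 5 n49001 = n46834 := d25_2 (iv F209414) D49001 (iv D46834)
theorem F219203 : act 6 n49001 = n47917 := d26_2 (iv F209415) D49001 (iv D47917)
def n49002 : Q := act 9 n46832
theorem D49002 : act 9 n46832 = n49002 := rfl
theorem F219204 : act 0 n49002 = n47510 := d8_1 D49002 (iv D47510) (iv F209411)
theorem F219205 : act 1 n49002 = n46858 := d16_1 D49002 (iv D46858) (iv F209412)
theorem F219206 : act 2 n49002 = n49002 := d23_1 D49002 (iv D49002) F209413
theorem F219207 : act 5 n49002 = n46835 := d38_1 D49002 (iv D46835) (iv F209414)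
theorem F219208 : act 6 n49002 = n47918 := d41_1 D49002 (iv D47918) (iv F209415)
theorem F219209 : act 8 n49002 = n48035 := d44_1 D49002 (iv D48035) F187374 F206425 D46832
def n49003 : Q := act 3 n46833
theorem D49003 : act 3 n46833 = n49003 := rfl
theorem F219210 : act 0 n49003 = n47511 := d2_1 D49003 (iv D47511) (iv F209416)
theorem F219211 : act 1 n49003 = n46859 := d10_1 D49003 (iv D46859) (iv F209417)
theorem F219212 : act 4 n49003 = n48623 := d24_2 (iv F209419) D49003 (iv D48623) (iv D46410) (iv F206376)
theorem F219213 : act 6 n49003 = n49003 := d26_2 F209420 D49003 (iv D49003)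
theorem F219214 : act 7 n49003 = n46834 := d27_2 (iv F209421) D49003 (iv D46834)
def n49004 : Q := act 9 n46833
theorem D49004 : act 9 n46833 = n49004 := rfl
theorem F219215 : act 0 n49004 = n47512 := d8_1 D49004 (iv D47512) (iv F209416)
theorem F219216 : act 1 n49004 = n46860 := d16_1 D49004 (iv D46860) (iv F209417)
theorem F219217 : act 2 n49004 = n49004 := d23_1 D49004 (iv D49004) F209418
theorem F219218 : act 4 n49004 = n46839 := d34_1 D49004 (iv D46839) (iv F209419)
theorem F219219 : act 6 n49004 = n49004 := d41_1 D49004 (iv D49004) F209420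
theorem F219220 : act 7 n49004 = n46835 := d43_1 D49004 (iv D46835) (iv F209421)
theorem F219221 : act 8 n49004 = n48036 := d44_1 D49004 (iv D48036) F187387 (iv F206798) D46833
def n49005 : Q := act 2 n46834
theorem D49005 : act 2 n46834 = n49005 := rfl
theorem F219222 : act 0 n49005 = n47513 := d1_1 D49005 (iv D47513) (iv F209422)
theorem F219223 : act 1 n49005 = n47525 := d9_1 D49005 F212748 (iv F209577) (iv D46861) (iv F209423)
theorem F219224 : act 3 n49005 = n49005 := d17_2 D46834 D49005 (iv D49005) (iv D46834) F176371
theorem F219225 : act 6 n49005 = n46836 := d20_2 (iv F209424) D49005 (iv D46836)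
theorem F219226 : act 8 n49005 = n47467 := d22_2 F219171 D49005 (iv F219169)
theorem F219227 : act 4 n47504 = n49005 := d33_3 F219226 F212458 (iv F212656)
def n49006 : Q := act 4 n46834
theorem D49006 : act 4 n46834 = n49006 := rfl
theorem F219228 : act 0 n49006 = n47467 := d3_1 D49006 F212458 (iv F209422)
theorem F219229 : act 1 n49006 = n46862 := d11_1 D49006 (iv D46862) (iv F209423)
theorem F219230 : act 2 n49006 = n47504 := d18_1 D49006 F219227 (iv D49005)
theorem F219231 : act 3 n49006 = n46840 := d24_1 D49006 (iv D46840) (iv D42198) (iv F176372) D46834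
theorem F219232 : act 6 n49006 = n46837 := d31_2 (iv F209424) D49006 (iv D46837)
theorem F219233 : act 7 n49006 = n48623 := d32_2 F219214 D49006 (iv F219212)
theorem F219234 : act 8 n49006 = n47513 := d33_2 F219171 D49006 F219172
def n49007 : Q := act 9 n46834
theorem D49007 : act 9 n46834 = n49007 := rfl
theorem F219235 : act 0 n49007 = n47514 := d8_1 D49007 (iv D47514) (iv F209422)
theorem F219236 : act 1 n49007 = n46863 := d16_1 D49007 (iv D46863) (iv F209423)
theorem F219237 : act 3 n49007 = n46835 := d29_1 D49007 (iv D46835) D46834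
theorem F219238 : act 6 n49007 = n46838 := d41_1 D49007 (iv D46838) (iv F209424)
def n49008 : Q := act 9 n46836
theorem D49008 : act 9 n46836 = n49008 := rfl
theorem F219239 : act 0 n49008 = n47515 := d8_1 D49008 (iv D47515) (iv F209431)
theorem F219240 : act 1 n49008 = n47527 := d16_1 D49008 (iv D47527) (iv F209432)
theorem F219241 : act 2 n49008 = n46838 := d23_1 D49008 (iv D46838) D46836
theorem F219242 : act 3 n49008 = n49008 := d29_1 D49008 (iv D49008) F209433
theorem F219243 : act 4 n49008 = n47506 := d34_1 D49008 (iv D47506) F209437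
theorem F219244 : act 5 n49008 = n47447 := d38_1 D49008 (iv D47447) (iv F209434)
theorem F219245 : act 7 n49008 = n49008 := d43_1 D49008 (iv D49008) F209435
def n49009 : Q := act 9 n46837
theorem D49009 : act 9 n46837 = n49009 := rfl
theorem F219246 : act 0 n49009 = n47468 := d8_1 D49009 (iv D47468) (iv F209438)
theorem F219247 : act 1 n49009 = n46866 := d16_1 D49009 (iv D46866) (iv F209439)
theorem F219248 : act 2 n49009 = n47506 := d23_1 D49009 (iv D47506) (iv F209440)
theorem F219249 : act 3 n49009 = n46843 := d29_1 D49009 (iv D46843) (iv F209441)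
theorem F219250 : act 4 n49009 = n46838 := d34_1 D49009 (iv D46838) D46837
theorem F219251 : act 5 n49009 = n47427 := d38_1 D49009 (iv D47427) (iv F209442)
theorem F219252 : act 7 n49009 = n49009 := d43_1 D49009 (iv D49009) F209443
def n49010 : Q := act 8 n46838
theorem D49010 : act 8 n46838 = n49010 := rfl
theorem F219253 : act 0 n49010 = n47516 := d7_1 D49010 (iv D47516) (iv F209445)
theorem F219254 : act 1 n49010 = n46867 := d15_1 D49010 (iv D46867) (iv F209446)
theorem F219255 : act 3 n49010 = n48032 := d28_1 D49010 (iv D48032) F187351 (iv F203038) (iv F209447)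
theorem F219256 : act 5 n49010 = n47922 := d37_1 D49010 (iv D47922) (iv F209448)
theorem F219257 : act 7 n49010 = n49010 := d42_1 D49010 (iv D49010) F209449
def n49011 : Q := act 5 n46840
theorem D49011 : act 5 n46840 = n49011 := rfl
theorem F219258 : act 0 n49011 = n47473 := d4_1 D49011 F212478 (iv F209458)
theorem F219259 : act 1 n49011 = n46868 := d12_1 D49011 (iv D46868) (iv F209459)
theorem F219260 : act 2 n49011 = n48302 := d19_1 D49011 F215968 (iv F209460)
theorem F219261 : act 4 n49011 = n48281 := d30_1 D49011 F215893 F189238 (iv F206379) D46840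
theorem F219262 : act 6 n49011 = n47431 := d35_2 (iv F209461) D49011 (iv D47431) F179079 (iv F203041)
theorem F219263 : act 7 n49011 = n48286 := d36_2 (iv F209462) D49011 F215913
theorem F219264 : act 8 n49011 = n49011 := d37_2 F209463 D49011 (iv D49011)
def n49012 : Q := act 9 n46840
theorem D49012 : act 9 n46840 = n49012 := rfl
theorem F219265 : act 0 n49012 = n47477 := d8_1 D49012 (iv D47477) (iv F209458)
theorem F219266 : act 1 n49012 = n46869 := d16_1 D49012 (iv D46869) (iv F209459)
theorem F219267 : act 2 n49012 = n48393 := d23_1 D49012 F216296 (iv F209460)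
theorem F219268 : act 4 n49012 = n46841 := d34_1 D49012 (iv D46841) D46840
theorem F219269 : act 6 n49012 = n46843 := d41_1 D49012 (iv D46843) (iv F209461)
theorem F219270 : act 7 n49012 = n48624 := d43_1 D49012 (iv D48624) (iv F209462)
def n49013 : Q := act 8 n46841
theorem D49013 : act 8 n46841 = n49013 := rfl
theorem F219271 : act 0 n49013 = n47481 := d7_1 D49013 (iv D47481) (iv F209464)
theorem F219272 : act 1 n49013 = n46870 := d15_1 D49013 (iv D46870) (iv F209465)
theorem F219273 : act 2 n49013 = n48637 := d22_1 D49013 (iv D48637) (iv F209466)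
theorem F219274 : act 3 n49013 = n46936 := d28_1 D49013 (iv D46936) F176688 (iv F203036) (iv F209467)
theorem F219275 : act 5 n49013 = n48629 := d37_1 D49013 (iv D48629) (iv F209468)
theorem F219276 : act 6 n49013 = n46844 := d40_1 D49013 (iv D46844) (iv F209469)
theorem F219277 : act 7 n49013 = n48625 := d42_1 D49013 (iv D48625) (iv F209470)
theorem F219278 : act 9 n49013 = n49013 := d44_2 D46841 D49013 (iv D49013) (iv D46841) F176392
def n49014 : Q := act 8 n46842
theorem D49014 : act 8 n46842 = n49014 := rfl
theorem F219279 : act 0 n49014 = n47408 := d7_1 D49014 (iv D47408) (iv F209471)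
theorem F219280 : act 1 n49014 = n47913 := d15_1 D49014 F214570 (iv F209472)
theorem F219281 : act 2 n49014 = n46844 := d22_1 D49014 (iv D46844) (iv F209473)
theorem F219282 : act 4 n49014 = n47912 := d33_1 D49014 F214564 (iv F209475)
theorem F219283 : act 5 n49014 = n46845 := d37_1 D49014 (iv D46845) (iv F209476)
theorem F219284 : act 6 n49014 = n48637 := d40_1 D49014 (iv D48637) (iv F209477)
theorem F219285 : act 7 n49014 = n49014 := d42_1 D49014 (iv D49014) F209478
theorem F219286 : act 9 n49014 = n49014 := d44_2 D46842 D49014 (iv D49014) (iv D46842) F176401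
def n49015 : Q := act 8 n46843
theorem D49015 : act 8 n46843 = n49015 := rfl
theorem F219287 : act 0 n49015 = n47478 := d7_1 D49015 (iv D47478) (iv F209479)
theorem F219288 : act 1 n49015 = n46873 := d15_1 D49015 (iv D46873) (iv F209480)
theorem F219289 : act 2 n49015 = n47912 := d22_1 D49015 F214564 (iv F209481)
theorem F219290 : act 4 n49015 = n46844 := d33_1 D49015 (iv D46844) (iv F209482)
theorem F219291 : act 5 n49015 = n47434 := d37_1 D49015 (iv D47434) (iv F209483)
theorem F219292 : act 7 n49015 = n49015 := d42_1 D49015 (iv D49015) F209484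
theorem F219293 : act 9 n49015 = n49015 := d44_2 D46843 D49015 (iv D49015) (iv D46843) F176405
def n49016 : Q := act 8 n46846
theorem D49016 : act 8 n46846 = n49016 := rfl
theorem F219294 : act 0 n49016 = n46885 := d7_1 D49016 (iv D46885) (iv F209496)
theorem F219295 : act 1 n49016 = n48332 := d15_1 D49016 (iv D48332) (iv F209497)
theorem F219296 : act 2 n49016 = n49016 := d22_1 D49016 (iv D49016) F209498
theorem F219297 : act 4 n49016 = n46848 := d33_1 D49016 (iv D46848) D46846
theorem F219298 : act 5 n49016 = n49016 := d37_1 D49016 (iv D49016) F209500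
theorem F219299 : act 6 n49016 = n47870 := d40_1 D49016 (iv D47870) (iv F209501)
def n49017 : Q := act 8 n46847
theorem D49017 : act 8 n46847 = n49017 := rfl
theorem F219300 : act 0 n49017 = n46887 := d7_1 D49017 (iv D46887) (iv F209503)
theorem F219301 : act 2 n49017 = n49017 := d22_1 D49017 (iv D49017) F209504
theorem F219302 : act 5 n49017 = n46849 := d37_1 D49017 (iv D46849) (iv F209506)
theorem F219303 : act 7 n49017 = n46848 := d42_1 D49017 (iv D46848) D46847
def n49018 : Q := act 3 n46848
theorem D49018 : act 3 n46848 = n49018 := rfl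
theorem F219304 : act 0 n49018 = n46888 := d2_1 D49018 (iv D46888) (iv F209508)
theorem F219305 : act 5 n49018 = n46850 := d25_2 (iv F209510) D49018 (iv D46850)
theorem F219306 : act 6 n49018 = n47923 := d26_2 (iv F209511) D49018 (iv D47923)
theorem F219307 : act 8 n49018 = n46857 := d28_2 D46848 D49018 (iv D46857) (iv D42214) (iv F176435)
def n49019 : Q := act 9 n46848
theorem D49019 : act 9 n46848 = n49019 := rfl
theorem F219308 : act 0 n49019 = n46889 := d8_1 D49019 (iv D46889) (iv F209508)
theorem F219309 : act 2 n49019 = n49019 := d23_1 D49019 (iv D49019) F209509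
theorem F219310 : act 5 n49019 = n46851 := d38_1 D49019 (iv D46851) (iv F209510)
theorem F219311 : act 6 n49019 = n47924 := d41_1 D49019 (iv D47924) (iv F209511)
theorem F219312 : act 8 n49019 = n48737 := d44_1 D49019 (iv D48737) F207687 (iv F206424) D46848
def n49020 : Q := act 3 n46849
theorem D49020 : act 3 n46849 = n49020 := rfl
theorem F219313 : act 0 n49020 = n46890 := d2_1 D49020 (iv D46890) (iv F209512)
theorem F219314 : act 6 n49020 = n49020 := d26_2 F209515 D49020 (iv D49020)
theorem F219315 : act 7 n49020 = n46850 := d27_2 (iv F209516) D49020 (iv D46850)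
theorem F219316 : act 8 n49020 = n46859 := d28_2 D46849 D49020 (iv D46859) (iv D42215) (iv F176439)
theorem F219317 : act 2 n48685 = n49020 := d22_3 F219316 F209562 D48685
theorem F219318 : act 4 n48626 = n49020 := d33_3 F219316 F209563 D48626
def n49021 : Q := act 9 n46849
theorem D49021 : act 9 n46849 = n49021 := rfl
theorem F219319 : act 0 n49021 = n46891 := d8_1 D49021 (iv D46891) (iv F209512)
theorem F219320 : act 2 n49021 = n49021 := d23_1 D49021 (iv D49021) F209513
theorem F219321 : act 4 n49021 = n49021 := d34_1 D49021 (iv D49021) F209514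
theorem F219322 : act 6 n49021 = n49021 := d41_1 D49021 (iv D49021) F209515
theorem F219323 : act 7 n49021 = n46851 := d43_1 D49021 (iv D46851) (iv F209516)
theorem F219324 : act 8 n49021 = n48738 := d44_1 D49021 (iv D48738) F207693 (iv F206799) D46849
def n49022 : Q := act 2 n46850
theorem D49022 : act 2 n46850 = n49022 := rfl
theorem F219325 : act 0 n49022 = n46892 := d1_1 D49022 (iv D46892) (iv F209517)
theorem F219326 : act 1 n49022 = n47539 := d9_1 D49022 F212809 (iv F212456) (iv F219169) F219168
theorem F219327 : act 3 n49022 = n49022 := d17_2 D46850 D49022 (iv D49022) (iv D46850) F176443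
theorem F219328 : act 6 n49022 = n46852 := d20_2 (iv F209518) D49022 (iv D46852)
theorem F219329 : act 7 n49022 = n48685 := d21_2 F219315 D49022 F219317
theorem F219330 : act 8 n49022 = n46861 := d22_2 (iv F209519) D49022 (iv D46861)
theorem F219331 : act 4 n47538 = n49022 := d33_3 F219330 (iv F209576) (iv F212807)
def n49023 : Q := act 4 n46850
theorem D49023 : act 4 n46850 = n49023 := rfl
theorem F219332 : act 0 n49023 = n46893 := d3_1 D49023 (iv D46893) (iv F209517)
theorem F219333 : act 1 n49023 = n47513 := d11_1 D49023 F219172 F219168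
theorem F219334 : act 2 n49023 = n47538 := d18_1 D49023 F219331 (iv D49022)
theorem F219335 : act 3 n49023 = n49023 := d24_1 D49023 (iv D49023) (iv D46850) F176444 D46850
theorem F219336 : act 6 n49023 = n46853 := d31_2 (iv F209518) D49023 (iv D46853)
theorem F219337 : act 7 n49023 = n48626 := d32_2 F219315 D49023 F219318
theorem F219338 : act 8 n49023 = n46862 := d33_2 (iv F209519) D49023 (iv D46862)
def n49024 : Q := act 9 n46850
theorem D49024 : act 9 n46850 = n49024 := rfl
theorem F219339 : act 0 n49024 = n46894 := d8_1 D49024 (iv D46894) (iv F209517)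
theorem F219340 : act 3 n49024 = n46851 := d29_1 D49024 (iv D46851) D46850
theorem F219341 : act 6 n49024 = n46854 := d41_1 D49024 (iv D46854) (iv F209518)
def n49025 : Q := act 9 n46852
theorem D49025 : act 9 n46852 = n49025 := rfl
theorem F219342 : act 0 n49025 = n46897 := d8_1 D49025 (iv D46897) (iv F209525)
theorem F219343 : act 1 n49025 = n47545 := d16_1 D49025 (iv D47545) (iv F209526)
theorem F219344 : act 2 n49025 = n46854 := d23_1 D49025 (iv D46854) D46852
theorem F219345 : act 3 n49025 = n49025 := d29_1 D49025 (iv D49025) F209527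
theorem F219346 : act 4 n49025 = n47544 := d34_1 D49025 (iv D47544) F209531
theorem F219347 : act 5 n49025 = n47929 := d38_1 D49025 (iv D47929) (iv F209528)
theorem F219348 : act 7 n49025 = n49025 := d43_1 D49025 (iv D49025) F209529
def n49026 : Q := act 9 n46853
theorem D49026 : act 9 n46853 = n49026 := rfl
theorem F219349 : act 0 n49026 = n46899 := d8_1 D49026 (iv D46899) (iv F209532)
theorem F219350 : act 1 n49026 = n47515 := d16_1 D49026 (iv D47515) (iv F209533)
theorem F219351 : act 2 n49026 = n47544 := d23_1 D49026 (iv D47544) (iv F209534)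
theorem F219352 : act 3 n49026 = n49026 := d29_1 D49026 (iv D49026) F209535
theorem F219353 : act 4 n49026 = n46854 := d34_1 D49026 (iv D46854) D46853
theorem F219354 : act 5 n49026 = n48367 := d38_1 D49026 (iv D48367) (iv F209536)
theorem F219355 : act 7 n49026 = n49026 := d43_1 D49026 (iv D49026) F209537
def n49027 : Q := act 8 n46854
theorem D49027 : act 8 n46854 = n49027 := rfl
theorem F219356 : act 0 n49027 = n46900 := d7_1 D49027 (iv D46900) (iv F209539)
theorem F219357 : act 3 n49027 = n48473 := d28_1 D49027 (iv D48473) F190553 F206781 (iv F209540)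
theorem F219358 : act 5 n49027 = n47930 := d37_1 D49027 (iv D47930) (iv F209541)
theorem F219359 : act 7 n49027 = n49027 := d42_1 D49027 (iv D49027) F209542
theorem F219360 : act 9 n49027 = n46867 := d44_2 D46854 D49027 (iv D46867) (iv D42220) (iv F176449)
def n49028 : Q := act 8 n46855
theorem D49028 : act 8 n46855 = n49028 := rfl
theorem F219361 : act 0 n49028 = n46901 := d7_1 D49028 (iv D46901) (iv F209543)
theorem F219362 : act 2 n49028 = n46877 := d22_1 D49028 (iv D46877) (iv F209544)
theorem F219363 : act 4 n49028 = n48609 := d33_1 D49028 F218153 F218149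
theorem F219364 : act 5 n49028 = n49028 := d37_1 D49028 (iv D49028) F209545
theorem F219365 : act 6 n49028 = n46856 := d40_1 D49028 (iv D46856) D46855
theorem F219366 : act 7 n49028 = n47931 := d42_1 D49028 (iv D47931) (iv F209546)
def n49029 : Q := act 3 n46856
theorem D49029 : act 3 n46856 = n49029 := rfl
theorem F219367 : act 0 n49029 = n46902 := d2_1 D49029 (iv D46902) (iv F209548)
theorem F219368 : act 2 n49029 = n48684 := d17_1 D49029 F217331 F207397 F206548 (iv F209549)
theorem F219369 : act 5 n49029 = n46859 := d25_2 (iv F209551) D49029 (iv D46859)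
theorem F219370 : act 7 n49029 = n46857 := d27_2 (iv F209552) D49029 (iv D46857)
def n49030 : Q := act 9 n46856
theorem D49030 : act 9 n46856 = n49030 := rfl
theorem F219371 : act 0 n49030 = n46903 := d8_1 D49030 (iv D46903) (iv F209548)
theorem F219372 : act 2 n49030 = n46878 := d23_1 D49030 (iv D46878) (iv F209549)
theorem F219373 : act 4 n49030 = n48610 := d34_1 D49030 (iv D48610) (iv F209550)
theorem F219374 : act 5 n49030 = n46860 := d38_1 D49030 (iv D46860) (iv F209551)
theorem F219375 : act 7 n49030 = n46858 := d43_1 D49030 (iv D46858) (iv F209552)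
theorem F219376 : act 8 n49030 = n48529 := d44_1 D49030 (iv D48529) F190668 (iv F206739) D46856
def n49031 : Q := act 2 n46857
theorem D49031 : act 2 n46857 = n49031 := rfl
theorem F219377 : act 0 n49031 = n46904 := d1_1 D49031 (iv D46904) (iv F209553)
theorem F219378 : act 3 n49031 = n46879 := d17_2 D46857 D49031 (iv D46879) (iv D42233) (iv F176459)
theorem F219379 : act 5 n49031 = n46861 := d19_2 (iv F209554) D49031 (iv D46861)
theorem F219380 : act 6 n49031 = n47934 := d20_2 (iv F209555) D49031 (iv D47934)
theorem F219381 : act 7 n49031 = n48684 := d21_2 F219370 D49031 (iv F219368)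
theorem F219382 : act 1 n48579 = n49031 := d12_3 F219379 F209577 D48579
def n49032 : Q := act 4 n46857
theorem D49032 : act 4 n46857 = n49032 := rfl
theorem F219383 : act 0 n49032 = n46905 := d3_1 D49032 (iv D46905) (iv F209553)
theorem F219384 : act 6 n49032 = n47935 := d31_2 (iv F209555) D49032 (iv D47935)
def n49033 : Q := act 9 n46857
theorem D49033 : act 9 n46857 = n49033 := rfl
theorem F219385 : act 0 n49033 = n46906 := d8_1 D49033 (iv D46906) (iv F209553)
theorem F219386 : act 3 n49033 = n46858 := d29_1 D49033 (iv D46858) D46857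
theorem F219387 : act 5 n49033 = n46863 := d38_1 D49033 (iv D46863) (iv F209554)
theorem F219388 : act 6 n49033 = n47936 := d41_1 D49033 (iv D47936) (iv F209555)
def n49034 : Q := act 9 n46859
theorem D49034 : act 9 n46859 = n49034 := rfl
theorem F219389 : act 0 n49034 = n46909 := d8_1 D49034 (iv D46909) (iv F209561)
theorem F219390 : act 2 n49034 = n48686 := d23_1 D49034 (iv D48686) (iv F209562)
theorem F219391 : act 3 n49034 = n46860 := d29_1 D49034 (iv D46860) D46859
theorem F219392 : act 4 n49034 = n48627 := d34_1 D49034 (iv D48627) (iv F209563)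
theorem F219393 : act 6 n49034 = n49034 := d41_1 D49034 (iv D49034) F209564
theorem F219394 : act 7 n49034 = n46863 := d43_1 D49034 (iv D46863) (iv F209565)
def n49035 : Q := act 9 n46861
theorem D49035 : act 9 n46861 = n49035 := rfl
theorem F219395 : act 0 n49035 = n46912 := d8_1 D49035 (iv D46912) (iv F209572)
theorem F219396 : act 1 n49035 = n48544 := d16_1 D49035 F216768 (iv F209577)
theorem F219397 : act 2 n49035 = n46863 := d23_1 D49035 (iv D46863) D46861
theorem F219398 : act 3 n49035 = n46881 := d29_1 D49035 (iv D46881) (iv F209573)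
theorem F219399 : act 4 n49035 = n48543 := d34_1 D49035 F216765 F209576
theorem F219400 : act 6 n49035 = n46864 := d41_1 D49035 (iv D46864) (iv F209574)
theorem F219401 : act 7 n49035 = n48686 := d43_1 D49035 (iv D48686) (iv F209575)
def n49036 : Q := act 5 n46862
theorem D49036 : act 5 n46862 = n49036 := rfl
theorem F219402 : act 0 n49036 = n46913 := d4_1 D49036 (iv D46913) (iv F209578)
theorem F219403 : act 2 n49036 = n48532 := d19_1 D49036 F216720 (iv F209579)
theorem F219404 : act 3 n49036 = n46868 := d25_1 D49036 (iv D46868) (iv F209580)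
theorem F219405 : act 7 n49036 = n48288 := d36_2 (iv F209582) D49036 F215919
def n49037 : Q := act 9 n46862
theorem D49037 : act 9 n46862 = n49037 := rfl
theorem F219406 : act 0 n49037 = n46914 := d8_1 D49037 (iv D46914) (iv F209578)
theorem F219407 : act 2 n49037 = n48543 := d23_1 D49037 F216765 (iv F209579)
theorem F219408 : act 3 n49037 = n46869 := d29_1 D49037 (iv D46869) (iv F209580)
theorem F219409 : act 4 n49037 = n46863 := d34_1 D49037 (iv D46863) D46862
theorem F219410 : act 6 n49037 = n46866 := d41_1 D49037 (iv D46866) (iv F209581)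
theorem F219411 : act 7 n49037 = n48627 := d43_1 D49037 (iv D48627) (iv F209582)
def n49038 : Q := act 8 n46863
theorem D49038 : act 8 n46863 = n49038 := rfl
theorem F219412 : act 0 n49038 = n46915 := d7_1 D49038 (iv D46915) (iv F209583)
theorem F219413 : act 3 n49038 = n48526 := d28_1 D49038 (iv D48526) F190649 (iv F203698) (iv F209584)
theorem F219414 : act 6 n49038 = n46867 := d40_1 D49038 (iv D46867) (iv F209585)
def n49039 : Q := act 8 n46864
theorem D49039 : act 8 n46864 = n49039 := rfl
theorem F219415 : act 0 n49039 = n46921 := d7_1 D49039 (iv D46921) (iv F209586)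
theorem F219416 : act 1 n49039 = n48524 := d15_1 D49039 F216695 (iv F209587)
theorem F219417 : act 2 n49039 = n46867 := d22_1 D49039 (iv D46867) (iv F209588)
theorem F219418 : act 4 n49039 = n48519 := d33_1 D49039 F216682 (iv F209590)
theorem F219419 : act 5 n49039 = n47948 := d37_1 D49039 (iv D47948) (iv F209591)
theorem F219420 : act 7 n49039 = n49039 := d42_1 D49039 (iv D49039) F209592
def n49040 : Q := act 6 n46865
theorem D49040 : act 6 n46865 = n49040 := rfl
theorem F219421 : act 0 n49040 = n46922 := d5_1 D49040 (iv D46922) (iv F209593)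
theorem F219422 : act 1 n49040 = n47425 := d13_1 D49040 F212270 (iv F209594)
theorem F219423 : act 2 n49040 = n47744 := d20_1 D49040 F213767 (iv F209595)
theorem F219424 : act 3 n49040 = n46871 := d26_1 D49040 (iv D46871) (iv F209596)
theorem F219425 : act 4 n49040 = n47414 := d31_1 D49040 F212210 (iv F209597)
theorem F219426 : act 8 n49040 = n48360 := d40_2 (iv F209599) D49040 F216168
def n49041 : Q := act 9 n46865
theorem D49041 : act 9 n46865 = n49041 := rfl
theorem F219427 : act 0 n49041 = n46923 := d8_1 D49041 (iv D46923) (iv F209593)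
theorem F219428 : act 1 n49041 = n47427 := d16_1 D49041 (iv D47427) (iv F209594)
theorem F219429 : act 2 n49041 = n47665 := d23_1 D49041 F213304 (iv F209595)
theorem F219430 : act 3 n49041 = n46872 := d29_1 D49041 (iv D46872) (iv F209596)
theorem F219431 : act 4 n49041 = n47417 := d34_1 D49041 (iv D47417) (iv F209597)
theorem F219432 : act 5 n49041 = n46866 := d38_1 D49041 (iv D46866) D46865
theorem F219433 : act 7 n49041 = n49041 := d43_1 D49041 (iv D49041) F209598
def n49042 : Q := act 8 n46866
theorem D49042 : act 8 n46866 = n49042 := rfl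
theorem F219434 : act 0 n49042 = n46924 := d7_1 D49042 (iv D46924) (iv F209600)
theorem F219435 : act 2 n49042 = n48519 := d22_1 D49042 F216682 (iv F209601)
theorem F219436 : act 4 n49042 = n46867 := d33_1 D49042 (iv D46867) (iv F209603)
theorem F219437 : act 7 n49042 = n49042 := d42_1 D49042 (iv D49042) F209604
def n49043 : Q := act 6 n46868
theorem D49043 : act 6 n46868 = n49043 := rfl
theorem F219438 : act 0 n49043 = n46928 := d5_1 D49043 (iv D46928) (iv F209609)
theorem F219439 : act 1 n49043 = n47431 := d13_1 D49043 (iv F219262) F219259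
theorem F219440 : act 2 n49043 = n47747 := d20_1 D49043 F213782 (iv F209610)
theorem F219441 : act 4 n49043 = n48279 := d31_1 D49043 F215887 (iv F209611)
theorem F219442 : act 5 n49043 = n46871 := d35_1 D49043 (iv D46871) (iv D42225) (iv F176493) D46868
theorem F219443 : act 8 n49043 = n49043 := d40_2 F209613 D49043 (iv D49043)
def n49044 : Q := act 9 n46868
theorem D49044 : act 9 n46868 = n49044 := rfl
theorem F219444 : act 0 n49044 = n46929 := d8_1 D49044 (iv D46929) (iv F209609)
theorem F219445 : act 2 n49044 = n48283 := d23_1 D49044 (iv D48283) (iv F209610)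
theorem F219446 : act 4 n49044 = n48282 := d34_1 D49044 (iv D48282) (iv F209611)
theorem F219447 : act 5 n49044 = n46869 := d38_1 D49044 (iv D46869) D46868
theorem F219448 : act 7 n49044 = n48289 := d43_1 D49044 (iv D48289) (iv F209612)
def n49045 : Q := act 8 n46869
theorem D49045 : act 8 n46869 = n49045 := rfl
theorem F219449 : act 0 n49045 = n46930 := d7_1 D49045 (iv D46930) (iv F209614)
theorem F219450 : act 2 n49045 = n48074 := d22_1 D49045 F215244 (iv F209615)
theorem F219451 : act 4 n49045 = n46870 := d33_1 D49045 (iv D46870) (iv F209616)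
theorem F219452 : act 6 n49045 = n46873 := d40_1 D49045 (iv D46873) (iv F209617)
theorem F219453 : act 7 n49045 = n48628 := d42_1 D49045 (iv D48628) (iv F209618)
theorem F219454 : act 9 n49045 = n49045 := d44_2 D46869 D49045 (iv D49045) (iv D46869) F176494
def n49046 : Q := act 7 n46871
theorem D49046 : act 7 n46871 = n49046 := rfl
theorem F219455 : act 0 n49046 = n46931 := d6_1 D49046 (iv D46931) (iv F209626)
theorem F219456 : act 1 n49046 = n47429 := d14_1 D49046 F212290 (iv F209627)
theorem F219457 : act 2 n49046 = n47749 := d21_1 D49046 F213791 (iv F209628)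
theorem F219458 : act 4 n49046 = n46874 := d32_1 D49046 (iv D46874) (iv F209629)
theorem F219459 : act 6 n49046 = n49046 := d39_1 D49046 (iv D49046) (iv D46871) F176500 D46871
theorem F219460 : act 8 n49046 = n49046 := d42_2 F209630 D49046 (iv D49046)
def n49047 : Q := act 9 n46871
theorem D49047 : act 9 n46871 = n49047 := rfl
theorem F219461 : act 0 n49047 = n46932 := d8_1 D49047 (iv D46932) (iv F209626)
theorem F219462 : act 1 n49047 = n47432 := d16_1 D49047 (iv D47432) (iv F209627)
theorem F219463 : act 2 n49047 = n47686 := d23_1 D49047 F213421 (iv F209628)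
theorem F219464 : act 4 n49047 = n46875 := d34_1 D49047 (iv D46875) (iv F209629)
theorem F219465 : act 6 n49047 = n46872 := d41_1 D49047 (iv D46872) D46871
def n49048 : Q := act 8 n46872
theorem D49048 : act 8 n46872 = n49048 := rfl
theorem F219466 : act 0 n49048 = n46933 := d7_1 D49048 (iv D46933) (iv F209631)
theorem F219467 : act 1 n49048 = n47434 := d15_1 D49048 (iv D47434) (iv F209632)
theorem F219468 : act 2 n49048 = n46970 := d22_1 D49048 F210099 (iv F209633)
theorem F219469 : act 4 n49048 = n46876 := d33_1 D49048 (iv D46876) (iv F209634)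
theorem F219470 : act 5 n49048 = n46873 := d37_1 D49048 (iv D46873) (iv F209635)
theorem F219471 : act 7 n49048 = n49048 := d42_1 D49048 (iv D49048) F209636
theorem F219472 : act 9 n49048 = n49048 := d44_2 D46872 D49048 (iv D49048) (iv D46872) F176501
def n49049 : Q := act 3 n46873
theorem D49049 : act 3 n46873 = n49049 := rfl
theorem F219473 : act 0 n49049 = n46934 := d2_1 D49049 (iv D46934) (iv F209637)
theorem F219474 : act 2 n49049 = n48058 := d17_1 D49049 (iv D48058) F187479 D44963 (iv F209638)
theorem F219475 : act 4 n49049 = n47640 := d24_2 (iv F209639) D49049 (iv D47640) F179875 (iv F203709)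
theorem F219476 : act 7 n49049 = n49049 := d27_2 F209640 D49049 (iv D49049)
theorem F219477 : act 9 n49049 = n49049 := d29_2 F209641 D49049 (iv D49049)
def n49050 : Q := act 9 n46874
theorem D49050 : act 9 n46874 = n49050 := rfl
theorem F219478 : act 0 n49050 = n46935 := d8_1 D49050 (iv D46935) (iv F209642)
theorem F219479 : act 1 n49050 = n47430 := d16_1 D49050 (iv D47430) (iv F209643)
theorem F219480 : act 3 n49050 = n47418 := d29_1 D49050 (iv D47418) (iv F209644)
theorem F219481 : act 6 n49050 = n49050 := d41_1 D49050 (iv D49050) F209645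
theorem F219482 : act 7 n49050 = n46875 := d43_1 D49050 (iv D46875) D46874
def n49051 : Q := act 8 n46875
theorem D49051 : act 8 n46875 = n49051 := rfl
theorem F219483 : act 0 n49051 = n46936 := d7_1 D49051 (iv D46936) (iv F209647)
theorem F219484 : act 1 n49051 = n47433 := d15_1 D49051 (iv D47433) (iv F209648)
theorem F219485 : act 3 n49051 = n47481 := d28_1 D49051 (iv D47481) F203836 (iv F178983) (iv F209649)
theorem F219486 : act 6 n49051 = n46876 := d40_1 D49051 (iv D46876) (iv F209650)
theorem F219487 : act 9 n49051 = n49051 := d44_2 D46875 D49051 (iv D49051) (iv D46875) F176511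
def n49052 : Q := act 9 n46877
theorem D49052 : act 9 n46877 = n49052 := rfl
theorem F219488 : act 0 n49052 = n46937 := d8_1 D49052 (iv D46937) (iv F209657)
theorem F219489 : act 1 n49052 = n49052 := d16_1 D49052 (iv D49052) F209658
theorem F219490 : act 3 n49052 = n48691 := d29_1 D49052 (iv D48691) F209663
theorem F219491 : act 4 n49052 = n48611 := d34_1 D49052 (iv D48611) (iv F209659)
theorem F219492 : act 5 n49052 = n49052 := d38_1 D49052 (iv D49052) F209660
theorem F219493 : act 6 n49052 = n46878 := d41_1 D49052 (iv D46878) (iv F209661)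
theorem F219494 : act 7 n49052 = n47954 := d43_1 D49052 (iv D47954) (iv F209662)
theorem F219495 : act 8 n49052 = n48724 := d44_1 D49052 (iv D48724) F207561 (iv F206741) D46877
def n49053 : Q := act 9 n46879
theorem D49053 : act 9 n46879 = n49053 := rfl
theorem F219496 : act 0 n49053 = n46942 := d8_1 D49053 (iv D46942) (iv F209671)
theorem F219497 : act 1 n49053 = n48727 := d16_1 D49053 F217500 F209677
theorem F219498 : act 2 n49053 = n46880 := d23_1 D49053 (iv D46880) D46879
theorem F219499 : act 4 n49053 = n48697 := d34_1 D49053 (iv D48697) (iv F209672)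
theorem F219500 : act 5 n49053 = n46881 := d38_1 D49053 (iv D46881) (iv F209673)
theorem F219501 : act 6 n49053 = n47960 := d41_1 D49053 (iv D47960) (iv F209674)
theorem F219502 : act 7 n49053 = n48688 := d43_1 D49053 (iv D48688) (iv F209675)
def n49054 : Q := act 8 n46880
theorem D49054 : act 8 n46880 = n49054 := rfl
theorem F219503 : act 0 n49054 = n46944 := d7_1 D49054 (iv D46944) (iv F209678)
theorem F219504 : act 1 n49054 = n49054 := d15_1 D49054 (iv D49054) F209679
theorem F219505 : act 3 n49054 = n48712 := d28_1 D49054 (iv D48712) F207492 (iv F206702) (iv F209680)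
theorem F219506 : act 4 n49054 = n48699 := d33_1 D49054 (iv D48699) (iv F209681)
theorem F219507 : act 5 n49054 = n46882 := d37_1 D49054 (iv D46882) (iv F209682)
theorem F219508 : act 6 n49054 = n47962 := d40_1 D49054 (iv D47962) (iv F209683)
theorem F219509 : act 7 n49054 = n48692 := d42_1 D49054 (iv D48692) (iv F209684)
theorem F219510 : act 9 n49054 = n49054 := d44_2 D46880 D49054 (iv D49054) (iv D46880) F176533
def n49055 : Q := act 8 n46881
theorem D49055 : act 8 n46881 = n49055 := rfl
theorem F219511 : act 0 n49055 = n46950 := d7_1 D49055 (iv D46950) (iv F209685)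
theorem F219512 : act 1 n49055 = n48710 := d15_1 D49055 F217433 (iv F209686)
theorem F219513 : act 2 n49055 = n46882 := d22_1 D49055 (iv D46882) (iv F209687)
theorem F219514 : act 4 n49055 = n48679 := d33_1 D49055 (iv D48679) (iv F209688)
theorem F219515 : act 6 n49055 = n46883 := d40_1 D49055 (iv D46883) (iv F209689)
theorem F219516 : act 7 n49055 = n48689 := d42_1 D49055 (iv D48689) (iv F209690)
theorem F219517 : act 9 n49055 = n49055 := d44_2 D46881 D49055 (iv D49055) (iv D46881) F176550
def n49056 : Q := act 3 n46883
theorem D49056 : act 3 n46883 = n49056 := rfl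
theorem F219518 : act 0 n49056 = n46953 := d2_1 D49056 (iv D46953) (iv F209698)
theorem F219519 : act 1 n49056 = n48723 := d10_1 D49056 F217489 (iv F209699)
theorem F219520 : act 2 n49056 = n48722 := d17_1 D49056 (iv D48722) F207538 (iv F206707) (iv F209700)
theorem F219521 : act 4 n49056 = n48719 := d24_2 (iv F209701) D49056 (iv D48719) F207523 D46509
theorem F219522 : act 5 n49056 = n47971 := d25_2 (iv F209702) D49056 (iv D47971)
theorem F219523 : act 7 n49056 = n49056 := d27_2 F209703 D49056 (iv D49056)
theorem F219524 : act 9 n49056 = n49056 := d29_2 F209704 D49056 (iv D49056)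
def n49057 : Q := act 8 n46884
theorem D49057 : act 8 n46884 = n49057 := rfl
theorem F219525 : act 1 n49057 = n47568 := d15_1 D49057 (iv D47568) (iv F209705)
theorem F219526 : act 2 n49057 = n49057 := d22_1 D49057 (iv D49057) F209706
theorem F219527 : act 4 n49057 = n46887 := d33_1 D49057 (iv D46887) (iv F209708)
theorem F219528 : act 5 n49057 = n49057 := d37_1 D49057 (iv D49057) F209709
theorem F219529 : act 6 n49057 = n48736 := d40_1 D49057 F217524 (iv F209710)
theorem F219530 : act 7 n49057 = n46885 := d42_1 D49057 (iv D46885) D46884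
def n49058 : Q := act 3 n46885
theorem D49058 : act 3 n46885 = n49058 := rfl
theorem F219531 : act 1 n49058 = n47569 := d10_1 D49058 (iv D47569) (iv F209711)
theorem F219532 : act 5 n49058 = n49058 := d25_2 F209714 D49058 (iv D49058)
theorem F219533 : act 6 n49058 = n47972 := d26_2 (iv F209715) D49058 (iv D47972)
theorem F219534 : act 8 n49058 = n48499 := d28_2 D46885 D49058 F216626 F190657 F206558
def n49059 : Q := act 9 n46885
theorem D49059 : act 9 n46885 = n49059 := rfl
theorem F219535 : act 1 n49059 = n47570 := d16_1 D49059 (iv D47570) (iv F209711)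
theorem F219536 : act 2 n49059 = n49059 := d23_1 D49059 (iv D49059) F209712
theorem F219537 : act 4 n49059 = n46889 := d34_1 D49059 (iv D46889) (iv F209713)
theorem F219538 : act 5 n49059 = n49059 := d38_1 D49059 (iv D49059) F209714
theorem F219539 : act 6 n49059 = n47973 := d41_1 D49059 (iv D47973) (iv F209715)
def n49060 : Q := act 8 n46886
theorem D49060 : act 8 n46886 = n49060 := rfl
theorem F219540 : act 1 n49060 = n47571 := d15_1 D49060 (iv D47571) (iv F209716)
theorem F219541 : act 2 n49060 = n49060 := d22_1 D49060 (iv D49060) F209717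
theorem F219542 : act 4 n49060 = n48736 := d33_1 D49060 F217524 (iv F209719)
theorem F219543 : act 5 n49060 = n49060 := d37_1 D49060 (iv D49060) F209720
theorem F219544 : act 6 n49060 = n46887 := d40_1 D49060 (iv D46887) D46886
theorem F219545 : act 7 n49060 = n47974 := d42_1 D49060 (iv D47974) (iv F209721)
def n49061 : Q := act 3 n46887
theorem D49061 : act 3 n46887 = n49061 := rfl
theorem F219546 : act 1 n49061 = n47572 := d10_1 D49061 (iv D47572) (iv F209722)
theorem F219547 : act 5 n49061 = n46890 := d25_2 (iv F209724) D49061 (iv D46890)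
theorem F219548 : act 7 n49061 = n46888 := d27_2 (iv F209725) D49061 (iv D46888)
theorem F219549 : act 8 n49061 = n46902 := d28_2 D46887 D49061 (iv D46902) (iv D42252) (iv F176574)
def n49062 : Q := act 9 n46887
theorem D49062 : act 9 n46887 = n49062 := rfl
theorem F219550 : act 1 n49062 = n47573 := d16_1 D49062 (iv D47573) (iv F209722)
theorem F219551 : act 2 n49062 = n49062 := d23_1 D49062 (iv D49062) F209723
theorem F219552 : act 5 n49062 = n46891 := d38_1 D49062 (iv D46891) (iv F209724)
theorem F219553 : act 7 n49062 = n46889 := d43_1 D49062 (iv D46889) (iv F209725)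
def n49063 : Q := act 2 n46888
theorem D49063 : act 2 n46888 = n49063 := rfl
theorem F219554 : act 3 n49063 = n49063 := d17_2 D46888 D49063 (iv D49063) (iv D46888) F176577
theorem F219555 : act 5 n49063 = n46892 := d19_2 (iv F209727) D49063 (iv D46892)
theorem F219556 : act 6 n49063 = n47977 := d20_2 (iv F209728) D49063 (iv D47977)
theorem F219557 : act 8 n49063 = n46904 := d22_2 (iv F209729) D49063 (iv D46904)
def n49064 : Q := act 4 n46888
theorem D49064 : act 4 n46888 = n49064 := rfl
theorem F219558 : act 1 n49064 = n47575 := d11_1 D49064 (iv D47575) (iv F209726)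
theorem F219559 : act 6 n49064 = n47978 := d31_2 (iv F209728) D49064 (iv D47978)
theorem F219560 : act 8 n49064 = n46905 := d33_2 (iv F209729) D49064 (iv D46905)
def n49065 : Q := act 9 n46888
theorem D49065 : act 9 n46888 = n49065 := rfl
theorem F219561 : act 1 n49065 = n47576 := d16_1 D49065 (iv D47576) (iv F209726)
theorem F219562 : act 3 n49065 = n46889 := d29_1 D49065 (iv D46889) D46888
theorem F219563 : act 5 n49065 = n46894 := d38_1 D49065 (iv D46894) (iv F209727)
theorem F219564 : act 6 n49065 = n47979 := d41_1 D49065 (iv D47979) (iv F209728)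
def n49066 : Q := act 2 n46890
theorem D49066 : act 2 n46890 = n49066 := rfl
theorem F219565 : act 0 n49066 = n48685 := d1_1 D49066 F219317 F219313
theorem F219566 : act 3 n49066 = n49066 := d17_2 D46890 D49066 (iv D49066) (iv D46890) F176581
theorem F219567 : act 6 n49066 = n49066 := d20_2 F209735 D49066 (iv D49066)
theorem F219568 : act 7 n49066 = n46892 := d21_2 (iv F209736) D49066 (iv D46892)
theorem F219569 : act 8 n49066 = n46907 := d22_2 (iv F209737) D49066 (iv D46907)
theorem F219570 : act 4 n48673 = n49066 := d33_3 F219569 (iv F209811) D48673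
def n49067 : Q := act 4 n46890
theorem D49067 : act 4 n46890 = n49067 := rfl
theorem F219571 : act 0 n49067 = n48626 := d3_1 D49067 F219318 F219313
theorem F219572 : act 1 n49067 = n47578 := d11_1 D49067 (iv D47578) (iv F209734)
theorem F219573 : act 2 n49067 = n48673 := d18_1 D49067 F219570 (iv D49066)
theorem F219574 : act 3 n49067 = n49067 := d24_1 D49067 (iv D49067) (iv D46890) F176582 D46890
theorem F219575 : act 6 n49067 = n49067 := d31_2 F209735 D49067 (iv D49067)
theorem F219576 : act 7 n49067 = n46893 := d32_2 (iv F209736) D49067 (iv D46893)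
theorem F219577 : act 8 n49067 = n46908 := d33_2 (iv F209737) D49067 (iv D46908)
def n49068 : Q := act 9 n46890
theorem D49068 : act 9 n46890 = n49068 := rfl
theorem F219578 : act 1 n49068 = n47579 := d16_1 D49068 (iv D47579) (iv F209734)
theorem F219579 : act 3 n49068 = n46891 := d29_1 D49068 (iv D46891) D46890
theorem F219580 : act 6 n49068 = n49068 := d41_1 D49068 (iv D49068) F209735
theorem F219581 : act 7 n49068 = n46894 := d43_1 D49068 (iv D46894) (iv F209736)
def n49069 : Q := act 1 n46892
theorem D49069 : act 1 n46892 = n49069 := rfl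
theorem F219582 : act 0 n49069 = n47611 := d0_1 D49069 F213091 (iv F212808) (iv F219326) F219325
theorem F219583 : act 2 n49069 = n47580 := d9_2 D46892 D49069 (iv D47580) (iv D43034) (iv F176585)
theorem F219584 : act 3 n49069 = n49069 := d10_2 F209743 D49069 (iv D49069)
theorem F219585 : act 6 n49069 = n46895 := d13_2 (iv F209744) D49069 (iv D46895)
theorem F219586 : act 8 n49069 = n46910 := d15_2 (iv F209745) D49069 (iv D46910)
theorem F219587 : act 4 n47610 = n49069 := d31_3 F219585 (iv F209759) (iv F213090)
def n49070 : Q := act 4 n46892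
theorem D49070 : act 4 n46892 = n49070 := rfl
theorem F219588 : act 0 n49070 = n47538 := d3_1 D49070 F219331 F219325
theorem F219589 : act 1 n49070 = n47610 := d11_1 D49070 F219587 (iv D49069)
theorem F219590 : act 2 n49070 = n46893 := d18_1 D49070 (iv D46893) D46892
theorem F219591 : act 6 n49070 = n46896 := d31_2 (iv F209744) D49070 (iv D46896)
theorem F219592 : act 7 n49070 = n48673 := d32_2 F219568 D49070 F219570
theorem F219593 : act 8 n49070 = n46911 := d33_2 (iv F209745) D49070 (iv D46911)
theorem F219594 : act 3 n47564 = n49070 := d28_5 F219593 F209827 (iv D46336) (iv F204539) (iv F212928)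
def n49071 : Q := act 9 n46892
theorem D49071 : act 9 n46892 = n49071 := rfl
theorem F219595 : act 2 n49071 = n46894 := d23_1 D49071 (iv D46894) D46892
theorem F219596 : act 3 n49071 = n49071 := d29_1 D49071 (iv D49071) F209743
theorem F219597 : act 6 n49071 = n46897 := d41_1 D49071 (iv D46897) (iv F209744)
def n49072 : Q := act 5 n46893
theorem D49072 : act 5 n46893 = n49072 := rfl
theorem F219598 : act 1 n49072 = n47583 := d12_1 D49072 (iv D47583) (iv F209746)
theorem F219599 : act 3 n49072 = n49072 := d25_1 D49072 (iv D49072) F209747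
theorem F219600 : act 8 n49072 = n46913 := d37_2 (iv F209749) D49072 (iv D46913)
def n49073 : Q := act 9 n46893
theorem D49073 : act 9 n46893 = n49073 := rfl
theorem F219601 : act 1 n49073 = n47584 := d16_1 D49073 (iv D47584) (iv F209746)
theorem F219602 : act 3 n49073 = n49073 := d29_1 D49073 (iv D49073) F209747
theorem F219603 : act 4 n49073 = n46894 := d34_1 D49073 (iv D46894) D46893
theorem F219604 : act 6 n49073 = n46899 := d41_1 D49073 (iv D46899) (iv F209748)
def n49074 : Q := act 8 n46894
theorem D49074 : act 8 n46894 = n49074 := rfl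
theorem F219605 : act 1 n49074 = n47585 := d15_1 D49074 (iv D47585) (iv F209750)
theorem F219606 : act 6 n49074 = n46900 := d40_1 D49074 (iv D46900) (iv F209752)
theorem F219607 : act 9 n49074 = n46915 := d44_2 D46894 D49074 (iv D46915) (iv D42259) (iv F176587)
def n49075 : Q := act 9 n46895
theorem D49075 : act 9 n46895 = n49075 := rfl
theorem F219608 : act 0 n49075 = n47621 := d8_1 D49075 (iv D47621) (iv F209753)
theorem F219609 : act 1 n49075 = n46897 := d16_1 D49075 (iv D46897) D46895
theorem F219610 : act 2 n49075 = n47586 := d23_1 D49075 (iv D47586) (iv F209754)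
theorem F219611 : act 3 n49075 = n49075 := d29_1 D49075 (iv D49075) F209755
theorem F219612 : act 4 n49075 = n47619 := d34_1 D49075 (iv D47619) F209759
theorem F219613 : act 5 n49075 = n47989 := d38_1 D49075 (iv D47989) (iv F209756)
theorem F219614 : act 7 n49075 = n49075 := d43_1 D49075 (iv D49075) F209757
def n49076 : Q := act 9 n46896
theorem D49076 : act 9 n46896 = n49076 := rfl
theorem F219615 : act 0 n49076 = n47544 := d8_1 D49076 (iv D47544) (iv F209760)
theorem F219616 : act 1 n49076 = n47619 := d16_1 D49076 (iv D47619) (iv F209761)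
theorem F219617 : act 2 n49076 = n46899 := d23_1 D49076 (iv D46899) (iv F209762)
theorem F219618 : act 3 n49076 = n47566 := d29_1 D49076 (iv D47566) (iv F209765)
theorem F219619 : act 4 n49076 = n46897 := d34_1 D49076 (iv D46897) D46896
theorem F219620 : act 5 n49076 = n48420 := d38_1 D49076 (iv D48420) F209766
theorem F219621 : act 7 n49076 = n49076 := d43_1 D49076 (iv D49076) F209763
def n49077 : Q := act 8 n46897
theorem D49077 : act 8 n46897 = n49077 := rfl
theorem F219622 : act 2 n49077 = n46900 := d22_1 D49077 (iv D46900) (iv F209767)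
theorem F219623 : act 5 n49077 = n47991 := d37_1 D49077 (iv D47991) (iv F209769)
theorem F219624 : act 7 n49077 = n49077 := d42_1 D49077 (iv D49077) F209770
theorem F219625 : act 9 n49077 = n46921 := d44_2 D46897 D49077 (iv D46921) (iv D42262) (iv F176595)
def n49078 : Q := act 6 n46898
theorem D49078 : act 6 n46898 = n49078 := rfl
theorem F219626 : act 0 n49078 = n48360 := d5_1 D49078 F216168 (iv F209771)
theorem F219627 : act 1 n49078 = n47590 := d13_1 D49078 (iv D47590) (iv F209772)
theorem F219628 : act 2 n49078 = n48417 := d20_1 D49078 F216375 (iv F209773)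
theorem F219629 : act 3 n49078 = n49078 := d26_1 D49078 (iv D49078) F209774
theorem F219630 : act 4 n49078 = n47992 := d31_1 D49078 (iv D47992) (iv F209775)
theorem F219631 : act 8 n49078 = n46922 := d40_2 (iv F209777) D49078 (iv D46922)
def n49079 : Q := act 9 n46898
theorem D49079 : act 9 n46898 = n49079 := rfl
theorem F219632 : act 0 n49079 = n48367 := d8_1 D49079 (iv D48367) (iv F209771)
theorem F219633 : act 1 n49079 = n47591 := d16_1 D49079 (iv D47591) (iv F209772)
theorem F219634 : act 2 n49079 = n48420 := d23_1 D49079 (iv D48420) (iv F209773)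
theorem F219635 : act 3 n49079 = n49079 := d29_1 D49079 (iv D49079) F209774
theorem F219636 : act 4 n49079 = n47993 := d34_1 D49079 (iv D47993) (iv F209775)
theorem F219637 : act 5 n49079 = n46899 := d38_1 D49079 (iv D46899) D46898
theorem F219638 : act 7 n49079 = n49079 := d43_1 D49079 (iv D49079) F209776
def n49080 : Q := act 8 n46899
theorem D49080 : act 8 n46899 = n49080 := rfl
theorem F219639 : act 1 n49080 = n47592 := d15_1 D49080 (iv D47592) (iv F209778)
theorem F219640 : act 4 n49080 = n46900 := d33_1 D49080 (iv D46900) (iv F209780)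
theorem F219641 : act 7 n49080 = n49080 := d42_1 D49080 (iv D49080) F209781
theorem F219642 : act 9 n49080 = n46924 := d44_2 D46899 D49080 (iv D46924) (iv D42264) (iv F176599)
def n49081 : Q := act 3 n46901
theorem D49081 : act 3 n46901 = n49081 := rfl
theorem F219643 : act 1 n49081 = n47593 := d10_1 D49081 (iv D47593) (iv F209786)
theorem F219644 : act 5 n49081 = n49081 := d25_2 F209788 D49081 (iv D49081)
theorem F219645 : act 6 n49081 = n46902 := d26_2 (iv F209789) D49081 (iv D46902)
theorem F219646 : act 7 n49081 = n47995 := d27_2 (iv F209790) D49081 (iv D47995)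
def n49082 : Q := act 9 n46901
theorem D49082 : act 9 n46901 = n49082 := rfl
theorem F219647 : act 1 n49082 = n47594 := d16_1 D49082 (iv D47594) (iv F209786)
theorem F219648 : act 2 n49082 = n46937 := d23_1 D49082 (iv D46937) (iv F209787)
theorem F219649 : act 5 n49082 = n49082 := d38_1 D49082 (iv D49082) F209788
theorem F219650 : act 6 n49082 = n46903 := d41_1 D49082 (iv D46903) (iv F209789)
theorem F219651 : act 7 n49082 = n47996 := d43_1 D49082 (iv D47996) (iv F209790)
def n49083 : Q := act 2 n46902
theorem D49083 : act 2 n46902 = n49083 := rfl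
theorem F219652 : act 0 n49083 = n48684 := d1_1 D49083 (iv F219368) F219367
theorem F219653 : act 3 n49083 = n46938 := d17_2 D46902 D49083 (iv D46938) (iv D42279) (iv F176609)
theorem F219654 : act 5 n49083 = n46907 := d19_2 (iv F209792) D49083 (iv D46907)
theorem F219655 : act 7 n49083 = n46904 := d21_2 (iv F209793) D49083 (iv D46904)
def n49084 : Q := act 4 n46902
theorem D49084 : act 4 n46902 = n49084 := rfl
theorem F219656 : act 1 n49084 = n47596 := d11_1 D49084 (iv D47596) (iv F209791)
theorem F219657 : act 7 n49084 = n46905 := d32_2 (iv F209793) D49084 (iv D46905)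
def n49085 : Q := act 9 n46902
theorem D49085 : act 9 n46902 = n49085 := rfl
theorem F219658 : act 1 n49085 = n47597 := d16_1 D49085 (iv D47597) (iv F209791)
theorem F219659 : act 3 n49085 = n46903 := d29_1 D49085 (iv D46903) D46902
theorem F219660 : act 5 n49085 = n46909 := d38_1 D49085 (iv D46909) (iv F209792)
theorem F219661 : act 7 n49085 = n46906 := d43_1 D49085 (iv D46906) (iv F209793)
def n49086 : Q := act 1 n46904
theorem D49086 : act 1 n46904 = n49086 := rfl
theorem F219662 : act 2 n49086 = n47598 := d9_2 D46904 D49086 (iv D47598) (iv D43046) (iv F176612)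
theorem F219663 : act 3 n49086 = n46940 := d10_2 (iv F209798) D49086 (iv D46940)
theorem F219664 : act 5 n49086 = n46910 := d12_2 (iv F209799) D49086 (iv D46910)
theorem F219665 : act 6 n49086 = n48000 := d13_2 (iv F209800) D49086 (iv D48000)
def n49087 : Q := act 4 n46904
theorem D49087 : act 4 n46904 = n49087 := rfl
theorem F219666 : act 2 n49087 = n46905 := d18_1 D49087 (iv D46905) D46904
theorem F219667 : act 6 n49087 = n48001 := d31_2 (iv F209800) D49087 (iv D48001)
def n49088 : Q := act 9 n46904
theorem D49088 : act 9 n46904 = n49088 := rfl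
theorem F219668 : act 2 n49088 = n46906 := d23_1 D49088 (iv D46906) D46904
theorem F219669 : act 3 n49088 = n46942 := d29_1 D49088 (iv D46942) (iv F209798)
theorem F219670 : act 5 n49088 = n46912 := d38_1 D49088 (iv D46912) (iv F209799)
theorem F219671 : act 6 n49088 = n48002 := d41_1 D49088 (iv D48002) (iv F209800)
def n49089 : Q := act 5 n46905
theorem D49089 : act 5 n46905 = n49089 := rfl
theorem F219672 : act 1 n49089 = n47601 := d12_1 D49089 (iv D47601) (iv F209801)
theorem F219673 : act 4 n49089 = n46913 := d30_1 D49089 (iv D46913) (iv D42258) (iv F176613) D46905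
def n49090 : Q := act 9 n46905
theorem D49090 : act 9 n46905 = n49090 := rfl
theorem F219674 : act 1 n49090 = n47602 := d16_1 D49090 (iv D47602) (iv F209801)
theorem F219675 : act 4 n49090 = n46906 := d34_1 D49090 (iv D46906) D46905
theorem F219676 : act 6 n49090 = n48004 := d41_1 D49090 (iv D48004) (iv F209802)
def n49091 : Q := act 8 n46906
theorem D49091 : act 8 n46906 = n49091 := rfl
theorem F219677 : act 1 n49091 = n47603 := d15_1 D49091 (iv D47603) (iv F209803)
theorem F219678 : act 5 n49091 = n46915 := d37_1 D49091 (iv D46915) (iv F209805)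
theorem F219679 : act 6 n49091 = n48005 := d40_1 D49091 (iv D48005) (iv F209806)
def n49092 : Q := act 1 n46907
theorem D49092 : act 1 n46907 = n49092 := rfl
theorem F219680 : act 2 n49092 = n47604 := d9_2 D46907 D49092 (iv D47604) (iv D43049) (iv F176619)
theorem F219681 : act 3 n49092 = n46945 := d10_2 (iv F209808) D49092 (iv D46945)
theorem F219682 : act 4 n49092 = n48670 := d11_2 F209811 D49092 F217264
theorem F219683 : act 6 n49092 = n49092 := d13_2 F209809 D49092 (iv D49092)
theorem F219684 : act 7 n49092 = n46910 := d14_2 (iv F209810) D49092 (iv D46910)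
def n49093 : Q := act 9 n46907
theorem D49093 : act 9 n46907 = n49093 := rfl
theorem F219685 : act 0 n49093 = n48686 := d8_1 D49093 (iv D48686) (iv F209807)
theorem F219686 : act 2 n49093 = n46909 := d23_1 D49093 (iv D46909) D46907
theorem F219687 : act 3 n49093 = n46946 := d29_1 D49093 (iv D46946) (iv F209808)
theorem F219688 : act 4 n49093 = n48674 := d34_1 D49093 (iv D48674) F209811
theorem F219689 : act 6 n49093 = n49093 := d41_1 D49093 (iv D49093) F209809
theorem F219690 : act 7 n49093 = n46912 := d43_1 D49093 (iv D46912) (iv F209810)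
def n49094 : Q := act 5 n46908
theorem D49094 : act 5 n46908 = n49094 := rfl
theorem F219691 : act 0 n49094 = n48288 := d4_1 D49094 F215919 (iv F209812)
theorem F219692 : act 1 n49094 = n47607 := d12_1 D49094 (iv D47607) (iv F209813)
theorem F219693 : act 2 n49094 = n48431 := d19_1 D49094 F216428 (iv F209814)
theorem F219694 : act 3 n49094 = n46925 := d25_1 D49094 (iv D46925) (iv F209815)
theorem F219695 : act 7 n49094 = n46913 := d36_2 (iv F209817) D49094 (iv D46913)
def n49095 : Q := act 9 n46908
theorem D49095 : act 9 n46908 = n49095 := rfl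
theorem F219696 : act 0 n49095 = n48627 := d8_1 D49095 (iv D48627) (iv F209812)
theorem F219697 : act 1 n49095 = n47608 := d16_1 D49095 (iv D47608) (iv F209813)
theorem F219698 : act 2 n49095 = n48674 := d23_1 D49095 (iv D48674) (iv F209814)
theorem F219699 : act 3 n49095 = n46926 := d29_1 D49095 (iv D46926) (iv F209815)
theorem F219700 : act 4 n49095 = n46909 := d34_1 D49095 (iv D46909) D46908
theorem F219701 : act 6 n49095 = n49095 := d41_1 D49095 (iv D49095) F209816
theorem F219702 : act 7 n49095 = n46914 := d43_1 D49095 (iv D46914) (iv F209817)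
def n49096 : Q := act 8 n46909
theorem D49096 : act 8 n46909 = n49096 := rfl
theorem F219703 : act 1 n49096 = n47609 := d15_1 D49096 (iv D47609) (iv F209818)
theorem F219704 : act 6 n49096 = n49096 := d40_1 D49096 (iv D49096) F209820
theorem F219705 : act 7 n49096 = n46915 := d42_1 D49096 (iv D46915) (iv F209821)
def n49097 : Q := act 0 n46910
theorem D49097 : act 0 n46910 = n49097 := rfl
theorem F219706 : act 1 n49097 = n47581 := d0_2 D46910 D49097 F212994 (iv F209577) F209572
theorem F219707 : act 2 n49097 = n47610 := d1_2 (iv F209822) D49097 (iv D47610)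
theorem F219708 : act 3 n49097 = n46948 := d2_2 (iv F209823) D49097 (iv D46948)
theorem F219709 : act 6 n49097 = n46916 := d5_2 (iv F209824) D49097 (iv D46916)
theorem F219710 : act 8 n49097 = n47611 := d7_2 F219586 D49097 (iv F219582)
theorem F219711 : act 4 n47580 = n49097 := d33_3 F219710 (iv D47611) (iv F212993)
def n49098 : Q := act 4 n46910
theorem D49098 : act 4 n46910 = n49098 := rfl
theorem F219712 : act 0 n49098 = n47580 := d3_1 D49098 F219711 (iv D49097)
theorem F219713 : act 1 n49098 = n46911 := d11_1 D49098 (iv D46911) D46910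
theorem F219714 : act 2 n49098 = n47611 := d18_1 D49098 (iv D47611) (iv F209822)
theorem F219715 : act 3 n49098 = n47719 := d24_1 D49098 F213613 (iv F207957) F207958 (iv F209823)
theorem F219716 : act 6 n49098 = n46917 := d31_2 (iv F209824) D49098 (iv D46917)
theorem F219717 : act 7 n49098 = n48670 := d32_2 F219684 D49098 (iv F219682)
theorem F219718 : act 8 n49098 = n47610 := d33_2 F219586 D49098 F219587
def n49099 : Q := act 9 n46910
theorem D49099 : act 9 n46910 = n49099 := rfl
theorem F219719 : act 1 n49099 = n46912 := d16_1 D49099 (iv D46912) D46910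
theorem F219720 : act 2 n49099 = n47612 := d23_1 D49099 (iv D47612) (iv F209822)
theorem F219721 : act 3 n49099 = n46949 := d29_1 D49099 (iv D46949) (iv F209823)
theorem F219722 : act 6 n49099 = n46918 := d41_1 D49099 (iv D46918) (iv F209824)
def n49100 : Q := act 5 n46911
theorem D49100 : act 5 n46911 = n49100 := rfl
theorem F219723 : act 0 n49100 = n48532 := d4_1 D49100 F216720 (iv F209825)
theorem F219724 : act 2 n49100 = n46913 := d19_1 D49100 (iv D46913) (iv F209826)
theorem F219725 : act 3 n49100 = n48425 := d25_1 D49100 F216403 (iv F209827)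
theorem F219726 : act 7 n49100 = n48431 := d36_2 (iv F209829) D49100 F216428
def n49101 : Q := act 9 n46911
theorem D49101 : act 9 n46911 = n49101 := rfl
theorem F219727 : act 0 n49101 = n48543 := d8_1 D49101 F216765 (iv F209825)
theorem F219728 : act 2 n49101 = n46914 := d23_1 D49101 (iv D46914) (iv F209826)
theorem F219729 : act 3 n49101 = n48542 := d29_1 D49101 F216761 (iv F209827)
theorem F219730 : act 4 n49101 = n46912 := d34_1 D49101 (iv D46912) D46911
theorem F219731 : act 6 n49101 = n46920 := d41_1 D49101 (iv D46920) (iv F209828)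
theorem F219732 : act 7 n49101 = n48674 := d43_1 D49101 (iv D48674) (iv F209829)
def n49102 : Q := act 8 n46912
theorem D49102 : act 8 n46912 = n49102 := rfl
theorem F219733 : act 2 n49102 = n46915 := d22_1 D49102 (iv D46915) (iv F209830)
theorem F219734 : act 6 n49102 = n46921 := d40_1 D49102 (iv D46921) (iv F209832)
def n49103 : Q := act 6 n46913
theorem D49103 : act 6 n46913 = n49103 := rfl
theorem F219735 : act 1 n49103 = n47616 := d13_1 D49103 (iv D47616) (iv F209833)
theorem F219736 : act 3 n49103 = n46928 := d26_1 D49103 (iv D46928) (iv F209834)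
theorem F219737 : act 5 n49103 = n46922 := d35_1 D49103 (iv D46922) (iv D42263) (iv F176631) D46913
def n49104 : Q := act 9 n46913
theorem D49104 : act 9 n46913 = n49104 := rfl
theorem F219738 : act 1 n49104 = n47617 := d16_1 D49104 (iv D47617) (iv F209833)
theorem F219739 : act 3 n49104 = n46929 := d29_1 D49104 (iv D46929) (iv F209834)
theorem F219740 : act 5 n49104 = n46914 := d38_1 D49104 (iv D46914) D46913
def n49105 : Q := act 8 n46914
theorem D49105 : act 8 n46914 = n49105 := rfl
theorem F219741 : act 1 n49105 = n47618 := d15_1 D49105 (iv D47618) (iv F209835)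
theorem F219742 : act 4 n49105 = n46915 := d33_1 D49105 (iv D46915) (iv F209837)
theorem F219743 : act 6 n49105 = n46924 := d40_1 D49105 (iv D46924) (iv F209838)
def n49106 : Q := act 9 n46916
theorem D49106 : act 9 n46916 = n49106 := rfl
theorem F219744 : act 0 n49106 = n46918 := d8_1 D49106 (iv D46918) D46916
theorem F219745 : act 1 n49106 = n47588 := d16_1 D49106 (iv D47588) (iv F209841)
theorem F219746 : act 2 n49106 = n47619 := d23_1 D49106 (iv D47619) (iv F209842)
theorem F219747 : act 3 n49106 = n46951 := d29_1 D49106 (iv D46951) (iv F209843)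
theorem F219748 : act 4 n49106 = n47586 := d34_1 D49106 (iv D47586) F209847
theorem F219749 : act 5 n49106 = n48022 := d38_1 D49106 (iv D48022) (iv F209844)
theorem F219750 : act 7 n49106 = n49106 := d43_1 D49106 (iv D49106) F209845
def n49107 : Q := act 9 n46917
theorem D49107 : act 9 n46917 = n49107 := rfl
theorem F219751 : act 0 n49107 = n47586 := d8_1 D49107 (iv D47586) (iv F209848)
theorem F219752 : act 1 n49107 = n46920 := d16_1 D49107 (iv D46920) (iv F209849)
theorem F219753 : act 2 n49107 = n47621 := d23_1 D49107 (iv D47621) (iv F209850)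
theorem F219754 : act 3 n49107 = n47721 := d29_1 D49107 (iv D47721) (iv F209851)
theorem F219755 : act 4 n49107 = n46918 := d34_1 D49107 (iv D46918) D46917
theorem F219756 : act 5 n49107 = n48465 := d38_1 D49107 (iv D48465) F209854
theorem F219757 : act 7 n49107 = n49107 := d43_1 D49107 (iv D49107) F209852
def n49108 : Q := act 8 n46918
theorem D49108 : act 8 n46918 = n49108 := rfl
theorem F219758 : act 1 n49108 = n46921 := d15_1 D49108 (iv D46921) (iv F209855)
theorem F219759 : act 2 n49108 = n47622 := d22_1 D49108 (iv D47622) (iv F209856)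
theorem F219760 : act 5 n49108 = n48025 := d37_1 D49108 (iv D48025) (iv F209858)
theorem F219761 : act 7 n49108 = n49108 := d42_1 D49108 (iv D49108) F209859
def n49109 : Q := act 6 n46919
theorem D49109 : act 6 n46919 = n49109 := rfl
theorem F219762 : act 0 n49109 = n47744 := d5_1 D49109 F213767 (iv F209860)
theorem F219763 : act 1 n49109 = n48456 := d13_1 D49109 F216509 (iv F209861)
theorem F219764 : act 2 n49109 = n46922 := d20_1 D49109 (iv D46922) (iv F209862)
theorem F219765 : act 3 n49109 = n47743 := d26_1 D49109 F213765 (iv F209863)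
theorem F219766 : act 4 n49109 = n48026 := d31_1 D49109 (iv D48026) (iv F209864)
theorem F219767 : act 8 n49109 = n48417 := d40_2 (iv F209866) D49109 F216375
def n49110 : Q := act 9 n46919
theorem D49110 : act 9 n46919 = n49110 := rfl
theorem F219768 : act 0 n49110 = n47665 := d8_1 D49110 F213304 (iv F209860)
theorem F219769 : act 1 n49110 = n48465 := d16_1 D49110 (iv D48465) (iv F209861)
theorem F219770 : act 2 n49110 = n46923 := d23_1 D49110 (iv D46923) (iv F209862)
theorem F219771 : act 3 n49110 = n47664 := d29_1 D49110 F213300 (iv F209863)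
theorem F219772 : act 4 n49110 = n48027 := d34_1 D49110 (iv D48027) (iv F209864)
theorem F219773 : act 5 n49110 = n46920 := d38_1 D49110 (iv D46920) D46919
theorem F219774 : act 7 n49110 = n49110 := d43_1 D49110 (iv D49110) F209865
def n49111 : Q := act 8 n46920
theorem D49111 : act 8 n46920 = n49111 := rfl
theorem F219775 : act 0 n49111 = n48519 := d7_1 D49111 F216682 (iv F209867)
theorem F219776 : act 2 n49111 = n46924 := d22_1 D49111 (iv D46924) (iv F209868)
theorem F219777 : act 3 n49111 = n48515 := d28_1 D49111 (iv D48515) F190625 D45883 (iv F209869)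
theorem F219778 : act 4 n49111 = n46921 := d33_1 D49111 (iv D46921) (iv F209870)
theorem F219779 : act 7 n49111 = n49111 := d42_1 D49111 (iv D49111) F209871
def n49112 : Q := act 3 n46921
theorem D49112 : act 3 n46921 = n49112 := rfl
theorem F219780 : act 5 n49112 = n48029 := d25_2 (iv F209873) D49112 (iv D48029)
theorem F219781 : act 7 n49112 = n49112 := d27_2 F209874 D49112 (iv D49112)
theorem F219782 : act 8 n49112 = n46953 := d28_2 D46921 D49112 (iv D46953) (iv D42291) (iv F176642)
def n49113 : Q := act 7 n46922
theorem D49113 : act 7 n46922 = n49113 := rfl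
theorem F219783 : act 1 n49113 = n47627 := d14_1 D49113 (iv D47627) (iv F209875)
theorem F219784 : act 3 n49113 = n46931 := d27_1 D49113 (iv D46931) (iv F209876)
theorem F219785 : act 4 n49113 = n48030 := d32_1 D49113 (iv D48030) (iv F209877)
theorem F219786 : act 6 n49113 = n49113 := d39_1 D49113 (iv D49113) (iv D46922) F176648 D46922
def n49114 : Q := act 9 n46922
theorem D49114 : act 9 n46922 = n49114 := rfl
theorem F219787 : act 1 n49114 = n47628 := d16_1 D49114 (iv D47628) (iv F209875)
theorem F219788 : act 3 n49114 = n46932 := d29_1 D49114 (iv D46932) (iv F209876)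
theorem F219789 : act 4 n49114 = n48031 := d34_1 D49114 (iv D48031) (iv F209877)
theorem F219790 : act 6 n49114 = n46923 := d41_1 D49114 (iv D46923) D46922
def n49115 : Q := act 8 n46923
theorem D49115 : act 8 n46923 = n49115 := rfl
theorem F219791 : act 1 n49115 = n47629 := d15_1 D49115 (iv D47629) (iv F209878)
theorem F219792 : act 4 n49115 = n48032 := d33_1 D49115 (iv D48032) (iv F209880)
theorem F219793 : act 5 n49115 = n46924 := d37_1 D49115 (iv D46924) (iv F209881)
theorem F219794 : act 7 n49115 = n49115 := d42_1 D49115 (iv D49115) F209882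
def n49116 : Q := act 3 n46924
theorem D49116 : act 3 n46924 = n49116 := rfl
theorem F219795 : act 1 n49116 = n47630 := d10_1 D49116 (iv D47630) (iv F209883)
theorem F219796 : act 7 n49116 = n49116 := d27_2 F209885 D49116 (iv D49116)
theorem F219797 : act 8 n49116 = n46934 := d28_2 D46924 D49116 (iv D46934) (iv D42273) (iv F176650)
def n49117 : Q := act 6 n46925
theorem D49117 : act 6 n46925 = n49117 := rfl
theorem F219798 : act 0 n49117 = n47369 := d5_1 D49117 F211960 (iv F209886)
theorem F219799 : act 1 n49117 = n47631 := d13_1 D49117 (iv D47631) (iv F209887)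
theorem F219800 : act 2 n49117 = n47301 := d20_1 D49117 F211712 (iv F209888)
theorem F219801 : act 4 n49117 = n47300 := d31_1 D49117 F211706 (iv F209889)
theorem F219802 : act 5 n49117 = n49117 := d35_1 D49117 (iv D49117) (iv D46925) F176657 D46925
theorem F219803 : act 8 n49117 = n49117 := d40_2 F209891 D49117 (iv D49117)
def n49118 : Q := act 9 n46925
theorem D49118 : act 9 n46925 = n49118 := rfl
theorem F219804 : act 0 n49118 = n48289 := d8_1 D49118 (iv D48289) (iv F209886)
theorem F219805 : act 1 n49118 = n47632 := d16_1 D49118 (iv D47632) (iv F209887)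
theorem F219806 : act 2 n49118 = n48221 := d23_1 D49118 (iv D48221) (iv F209888)
theorem F219807 : act 4 n49118 = n48220 := d34_1 D49118 (iv D48220) (iv F209889)
theorem F219808 : act 5 n49118 = n46926 := d38_1 D49118 (iv D46926) D46925
theorem F219809 : act 7 n49118 = n46929 := d43_1 D49118 (iv D46929) (iv F209890)
def n49119 : Q := act 8 n46926
theorem D49119 : act 8 n46926 = n49119 := rfl
theorem F219810 : act 0 n49119 = n48628 := d7_1 D49119 (iv D48628) (iv F209892)
theorem F219811 : act 1 n49119 = n47633 := d15_1 D49119 (iv D47633) (iv F209893)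
theorem F219812 : act 2 n49119 = n48602 := d22_1 D49119 (iv D48602) (iv F209894)
theorem F219813 : act 4 n49119 = n46927 := d33_1 D49119 (iv D46927) (iv F209895)
theorem F219814 : act 6 n49119 = n49119 := d40_1 D49119 (iv D49119) F209896
theorem F219815 : act 7 n49119 = n46930 := d42_1 D49119 (iv D46930) (iv F209897)
theorem F219816 : act 9 n49119 = n49119 := d44_2 D46926 D49119 (iv D49119) (iv D46926) F176659
def n49120 : Q := act 7 n46928
theorem D49120 : act 7 n46928 = n49120 := rfl
theorem F219817 : act 1 n49120 = n47634 := d14_1 D49120 (iv D47634) (iv F209905)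
theorem F219818 : act 5 n49120 = n46931 := d36_1 D49120 (iv D46931) (iv F209906)
theorem F219819 : act 8 n49120 = n49120 := d42_2 F209907 D49120 (iv D49120)
def n49121 : Q := act 9 n46928
theorem D49121 : act 9 n46928 = n49121 := rfl
theorem F219820 : act 1 n49121 = n47635 := d16_1 D49121 (iv D47635) (iv F209905)
theorem F219821 : act 5 n49121 = n46932 := d38_1 D49121 (iv D46932) (iv F209906)
theorem F219822 : act 6 n49121 = n46929 := d41_1 D49121 (iv D46929) D46928
def n49122 : Q := act 8 n46929
theorem D49122 : act 8 n46929 = n49122 := rfl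
theorem F219823 : act 1 n49122 = n47636 := d15_1 D49122 (iv D47636) (iv F209908)
theorem F219824 : act 5 n49122 = n46930 := d37_1 D49122 (iv D46930) (iv F209909)
theorem F219825 : act 9 n49122 = n49122 := d44_2 D46929 D49122 (iv D49122) (iv D46929) F176665
def n49123 : Q := act 3 n46930
theorem D49123 : act 3 n46930 = n49123 := rfl
theorem F219826 : act 1 n49123 = n47637 := d10_1 D49123 (iv D47637) (iv F209910)
theorem F219827 : act 6 n49123 = n46934 := d26_2 (iv F209912) D49123 (iv D46934)
theorem F219828 : act 9 n49123 = n49123 := d29_2 F209913 D49123 (iv D49123)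
def n49124 : Q := act 9 n46931
theorem D49124 : act 9 n46931 = n49124 := rfl
theorem F219829 : act 1 n49124 = n47638 := d16_1 D49124 (iv D47638) (iv F209914)
theorem F219830 : act 4 n49124 = n46935 := d34_1 D49124 (iv D46935) (iv F209915)
theorem F219831 : act 6 n49124 = n49124 := d41_1 D49124 (iv D49124) F209916
theorem F219832 : act 7 n49124 = n46932 := d43_1 D49124 (iv D46932) D46931
def n49125 : Q := act 8 n46932
theorem D49125 : act 8 n46932 = n49125 := rfl
theorem F219833 : act 1 n49125 = n47639 := d15_1 D49125 (iv D47639) (iv F209918)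
theorem F219834 : act 4 n49125 = n46936 := d33_1 D49125 (iv D46936) (iv F209919)
theorem F219835 : act 6 n49125 = n46933 := d40_1 D49125 (iv D46933) (iv F209920)
theorem F219836 : act 9 n49125 = n49125 := d44_2 D46932 D49125 (iv D49125) (iv D46932) F176674
def n49126 : Q := act 3 n46933
theorem D49126 : act 3 n46933 = n49126 := rfl
theorem F219837 : act 1 n49126 = n47640 := d10_1 D49126 (iv D47640) (iv F209921)
theorem F219838 : act 5 n49126 = n46934 := d25_2 (iv F209923) D49126 (iv D46934)
theorem F219839 : act 7 n49126 = n49126 := d27_2 F209924 D49126 (iv D49126)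
theorem F219840 : act 9 n49126 = n49126 := d29_2 F209925 D49126 (iv D49126)
def n49127 : Q := act 2 n46934
theorem D49127 : act 2 n46934 = n49127 := rfl
theorem F219841 : act 0 n49127 = n48058 := d1_1 D49127 (iv F219474) F219473
theorem F219842 : act 3 n49127 = n48057 := d17_2 D46934 D49127 F215159 (iv F207932) F207931
theorem F219843 : act 7 n49127 = n49127 := d21_2 F209927 D49127 (iv D49127)
theorem F219844 : act 9 n49127 = n49127 := d23_2 F209928 D49127 (iv D49127)
def n49128 : Q := act 8 n46935
theorem D49128 : act 8 n46935 = n49128 := rfl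
theorem F219845 : act 1 n49128 = n47642 := d15_1 D49128 (iv D47642) (iv F209929)
theorem F219846 : act 3 n49128 = n48625 := d28_1 D49128 (iv D48625) (iv F209453) F209457 (iv F209930)
theorem F219847 : act 5 n49128 = n48631 := d37_1 D49128 F218730 F218727
theorem F219848 : act 6 n49128 = n49128 := d40_1 D49128 (iv D49128) F209931
theorem F219849 : act 7 n49128 = n46936 := d42_1 D49128 (iv D46936) (iv F209932)
theorem F219850 : act 9 n49128 = n49128 := d44_2 D46935 D49128 (iv D49128) (iv D46935) F176686
def n49129 : Q := act 1 n46938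
theorem D49129 : act 1 n46938 = n49129 := rfl
theorem F219851 : act 2 n49129 = n46954 := d9_2 D46938 D49129 (iv D46954) (iv D42294) (iv F176702)
theorem F219852 : act 4 n49129 = n47890 := d11_2 (iv F209941) D49129 (iv D47890)
theorem F219853 : act 5 n49129 = n46945 := d12_2 (iv F209942) D49129 (iv D46945)
theorem F219854 : act 7 n49129 = n46940 := d14_2 (iv F209943) D49129 (iv D46940)
theorem F219855 : act 8 n49129 = n49129 := d15_2 F209944 D49129 (iv D49129)
def n49130 : Q := act 9 n46938
theorem D49130 : act 9 n46938 = n49130 := rfl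
theorem F219856 : act 0 n49130 = n48688 := d8_1 D49130 (iv D48688) (iv F209940)
theorem F219857 : act 2 n49130 = n46939 := d23_1 D49130 (iv D46939) D46938
theorem F219858 : act 4 n49130 = n47891 := d34_1 D49130 (iv D47891) (iv F209941)
theorem F219859 : act 5 n49130 = n46946 := d38_1 D49130 (iv D46946) (iv F209942)
theorem F219860 : act 7 n49130 = n46942 := d43_1 D49130 (iv D46942) (iv F209943)
def n49131 : Q := act 8 n46939
theorem D49131 : act 8 n46939 = n49131 := rfl
theorem F219861 : act 0 n49131 = n48692 := d7_1 D49131 (iv D48692) (iv F209945)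
theorem F219862 : act 1 n49131 = n46956 := d15_1 D49131 (iv D46956) (iv F209946)
theorem F219863 : act 4 n49131 = n47892 := d33_1 D49131 (iv D47892) (iv F209948)
theorem F219864 : act 5 n49131 = n46947 := d37_1 D49131 (iv D46947) (iv F209949)
theorem F219865 : act 7 n49131 = n46944 := d42_1 D49131 (iv D46944) (iv F209950)
theorem F219866 : act 9 n49131 = n49131 := d44_2 D46939 D49131 (iv D49131) (iv D46939) F176705
def n49132 : Q := act 0 n46940
theorem D49132 : act 0 n46940 = n49132 := rfl
theorem F219867 : act 1 n49132 = n48729 := d0_2 D46940 D49132 F217505 F209677 F209671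
theorem F219868 : act 2 n49132 = n46957 := d1_2 (iv F209951) D49132 (iv D46957)
theorem F219869 : act 5 n49132 = n46948 := d4_2 (iv F209952) D49132 (iv D46948)
theorem F219870 : act 6 n49132 = n48044 := d5_2 (iv F209953) D49132 (iv D48044)
theorem F219871 : act 8 n49132 = n49132 := d7_2 F209954 D49132 (iv D49132)
def n49133 : Q := act 4 n46940
theorem D49133 : act 4 n46940 = n49133 := rfl
theorem F219872 : act 1 n49133 = n46941 := d11_1 D49133 (iv D46941) D46940
theorem F219873 : act 2 n49133 = n46958 := d18_1 D49133 (iv D46958) (iv F209951)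
theorem F219874 : act 5 n49133 = n47893 := d30_2 (iv F209952) D49133 F214473 (iv F207959) F207958
theorem F219875 : act 6 n49133 = n48045 := d31_2 (iv F209953) D49133 (iv D48045)
theorem F219876 : act 7 n49133 = n47890 := d32_2 F219854 D49133 (iv F219852)
theorem F219877 : act 8 n49133 = n49133 := d33_2 F209954 D49133 (iv D49133)
def n49134 : Q := act 9 n46940
theorem D49134 : act 9 n46940 = n49134 := rfl
theorem F219878 : act 1 n49134 = n46942 := d16_1 D49134 (iv D46942) D46940
theorem F219879 : act 2 n49134 = n46959 := d23_1 D49134 (iv D46959) (iv F209951)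
theorem F219880 : act 5 n49134 = n46949 := d38_1 D49134 (iv D46949) (iv F209952)
theorem F219881 : act 6 n49134 = n48046 := d41_1 D49134 (iv D48046) (iv F209953)
def n49135 : Q := act 3 n46941
theorem D49135 : act 3 n46941 = n49135 := rfl
theorem F219882 : act 0 n49135 = n48496 := d2_1 D49135 F216616 (iv F209955)
theorem F219883 : act 2 n49135 = n47877 := d17_1 D49135 (iv D47877) F186684 (iv F205288) (iv F209956)
theorem F219884 : act 5 n49135 = n47882 := d25_2 (iv F209957) D49135 F214421
theorem F219885 : act 6 n49135 = n48047 := d26_2 (iv F209958) D49135 (iv D48047)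
theorem F219886 : act 7 n49135 = n47879 := d27_2 (iv F209959) D49135 F214411
def n49136 : Q := act 9 n46941
theorem D49136 : act 9 n46941 = n49136 := rfl
theorem F219887 : act 0 n49136 = n48697 := d8_1 D49136 (iv D48697) (iv F209955)
theorem F219888 : act 2 n49136 = n46943 := d23_1 D49136 (iv D46943) (iv F209956)
theorem F219889 : act 4 n49136 = n46942 := d34_1 D49136 (iv D46942) D46941
theorem F219890 : act 5 n49136 = n47894 := d38_1 D49136 (iv D47894) (iv F209957)
theorem F219891 : act 6 n49136 = n48048 := d41_1 D49136 (iv D48048) (iv F209958)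
theorem F219892 : act 7 n49136 = n47891 := d43_1 D49136 (iv D47891) (iv F209959)
def n49137 : Q := act 8 n46942
theorem D49137 : act 8 n46942 = n49137 := rfl
theorem F219893 : act 2 n49137 = n46944 := d22_1 D49137 (iv D46944) (iv F209961)
theorem F219894 : act 5 n49137 = n46950 := d37_1 D49137 (iv D46950) (iv F209962)
theorem F219895 : act 6 n49137 = n48049 := d40_1 D49137 (iv D48049) (iv F209963)
theorem F219896 : act 9 n49137 = n49137 := d44_2 D46942 D49137 (iv D49137) (iv D46942) F176711
def n49138 : Q := act 8 n46943
theorem D49138 : act 8 n46943 = n49138 := rfl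
theorem F219897 : act 0 n49138 = n48699 := d7_1 D49138 (iv D48699) (iv F209964)
theorem F219898 : act 1 n49138 = n46962 := d15_1 D49138 (iv D46962) (iv F209965)
theorem F219899 : act 3 n49138 = n48043 := d28_1 D49138 (iv D48043) F187431 (iv F186779) (iv F209966)
theorem F219900 : act 4 n49138 = n46944 := d33_1 D49138 (iv D46944) (iv F209967)
theorem F219901 : act 5 n49138 = n47895 := d37_1 D49138 (iv D47895) (iv F209968)
theorem F219902 : act 6 n49138 = n48050 := d40_1 D49138 (iv D48050) (iv F209969)
theorem F219903 : act 7 n49138 = n47892 := d42_1 D49138 (iv D47892) (iv F209970)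
theorem F219904 : act 9 n49138 = n49138 := d44_2 D46943 D49138 (iv D49138) (iv D46943) F176714
def n49139 : Q := act 0 n46945
theorem D49139 : act 0 n46945 = n49139 := rfl
theorem F219905 : act 1 n49139 = n48680 := d0_2 D46945 D49139 F217309 F207384 (iv F206644)
theorem F219906 : act 2 n49139 = n46963 := d1_2 (iv F209975) D49139 (iv D46963)
theorem F219907 : act 4 n49139 = n48656 := d3_2 (iv F209976) D49139 (iv D48656)
theorem F219908 : act 6 n49139 = n49139 := d5_2 F209977 D49139 (iv D49139)
theorem F219909 : act 7 n49139 = n46948 := d6_2 (iv F209978) D49139 (iv D46948)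
theorem F219910 : act 8 n49139 = n49139 := d7_2 F209979 D49139 (iv D49139)
def n49140 : Q := act 9 n46945
theorem D49140 : act 9 n46945 = n49140 := rfl
theorem F219911 : act 1 n49140 = n46946 := d16_1 D49140 (iv D46946) D46945
theorem F219912 : act 2 n49140 = n46964 := d23_1 D49140 (iv D46964) (iv F209975)
theorem F219913 : act 4 n49140 = n48657 := d34_1 D49140 (iv D48657) (iv F209976)
theorem F219914 : act 6 n49140 = n49140 := d41_1 D49140 (iv D49140) F209977
theorem F219915 : act 7 n49140 = n46949 := d43_1 D49140 (iv D46949) (iv F209978)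
def n49141 : Q := act 8 n46946
theorem D49141 : act 8 n46946 = n49141 := rfl
theorem F219916 : act 0 n49141 = n48689 := d7_1 D49141 (iv D48689) (iv F209980)
theorem F219917 : act 2 n49141 = n46947 := d22_1 D49141 (iv D46947) (iv F209981)
theorem F219918 : act 4 n49141 = n48658 := d33_1 D49141 (iv D48658) (iv F209982)
theorem F219919 : act 6 n49141 = n49141 := d40_1 D49141 (iv D49141) F209983
theorem F219920 : act 7 n49141 = n46950 := d42_1 D49141 (iv D46950) (iv F209984)
theorem F219921 : act 9 n49141 = n49141 := d44_2 D46946 D49141 (iv D49141) (iv D46946) F176721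
def n49142 : Q := act 9 n46948
theorem D49142 : act 9 n46948 = n49142 := rfl
theorem F219922 : act 0 n49142 = n46949 := d8_1 D49142 (iv D46949) D46948
theorem F219923 : act 1 n49142 = n48678 := d16_1 D49142 F217301 (iv F209991)
theorem F219924 : act 2 n49142 = n46966 := d23_1 D49142 (iv D46966) (iv F209992)
theorem F219925 : act 4 n49142 = n48677 := d34_1 D49142 F217297 (iv F209993)
theorem F219926 : act 6 n49142 = n46951 := d41_1 D49142 (iv D46951) (iv F209994)
def n49143 : Q := act 8 n46949
theorem D49143 : act 8 n46949 = n49143 := rfl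
theorem F219927 : act 1 n49143 = n46950 := d15_1 D49143 (iv D46950) (iv F209996)
theorem F219928 : act 2 n49143 = n46967 := d22_1 D49143 (iv D46967) (iv F209997)
theorem F219929 : act 6 n49143 = n46952 := d40_1 D49143 (iv D46952) (iv F209998)
theorem F219930 : act 9 n49143 = n49143 := d44_2 D46949 D49143 (iv D49143) (iv D46949) F176728
def n49144 : Q := act 3 n46950
theorem D49144 : act 3 n46950 = n49144 := rfl
theorem F219931 : act 6 n49144 = n46953 := d26_2 (iv F210000) D49144 (iv D46953)
theorem F219932 : act 9 n49144 = n49144 := d29_2 F210001 D49144 (iv D49144)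
def n49145 : Q := act 8 n46951
theorem D49145 : act 8 n46951 = n49145 := rfl
theorem F219933 : act 0 n49145 = n46952 := d7_1 D49145 (iv D46952) (iv F210002)
theorem F219934 : act 1 n49145 = n48667 := d15_1 D49145 F217248 (iv F210003)
theorem F219935 : act 2 n49145 = n46969 := d22_1 D49145 (iv D46969) (iv F210004)
theorem F219936 : act 4 n49145 = n48666 := d33_1 D49145 F217243 (iv F210005)
theorem F219937 : act 5 n49145 = n48057 := d37_1 D49145 (iv D48057) (iv F210006)
theorem F219938 : act 7 n49145 = n49145 := d42_1 D49145 (iv D49145) F210007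
theorem F219939 : act 9 n49145 = n49145 := d44_2 D46951 D49145 (iv D49145) (iv D46951) F176737
def n49146 : Q := act 3 n46952
theorem D49146 : act 3 n46952 = n49146 := rfl
theorem F219940 : act 1 n49146 = n46953 := d10_1 D49146 (iv D46953) (iv F210008)
theorem F219941 : act 5 n49146 = n48058 := d25_2 (iv F210010) D49146 (iv D48058)
theorem F219942 : act 7 n49146 = n49146 := d27_2 F210011 D49146 (iv D49146)
theorem F219943 : act 9 n49146 = n49146 := d29_2 F210012 D49146 (iv D49146)
def n49147 : Q := act 4 n46953
theorem D49147 : act 4 n46953 = n49147 := rfl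
theorem F219944 : act 0 n49147 = n48719 := d3_1 D49147 (iv F219521) F219518
theorem F219945 : act 3 n49147 = n48715 := d24_1 D49147 F217456 (iv F207987) F207988 D46953
theorem F219946 : act 7 n49147 = n49147 := d32_2 F210014 D49147 (iv D49147)
theorem F219947 : act 9 n49147 = n49147 := d34_2 F210015 D49147 (iv D49147)
def n49148 : Q := act 0 n46954
theorem D49148 : act 0 n46954 = n49148 := rfl
theorem F219948 : act 1 n49148 = n49148 := d0_2 D46954 D49148 (iv D49148) (iv D46954) F176756
theorem F219949 : act 3 n49148 = n47671 := d2_2 (iv F210016) D49148 (iv D47671)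
theorem F219950 : act 4 n49148 = n47902 := d3_2 (iv F210017) D49148 (iv D47902)
theorem F219951 : act 5 n49148 = n46963 := d4_2 (iv F210018) D49148 (iv D46963)
theorem F219952 : act 6 n49148 = n48554 := d5_2 F219077 D49148 (iv F219073)
theorem F219953 : act 7 n49148 = n46957 := d6_2 (iv F210019) D49148 (iv D46957)
theorem F219954 : act 8 n49148 = n49148 := d7_2 F210020 D49148 (iv D49148)
def n49149 : Q := act 9 n46954
theorem D49149 : act 9 n46954 = n49149 := rfl
theorem F219955 : act 1 n49149 = n46955 := d16_1 D49149 (iv D46955) D46954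
theorem F219956 : act 3 n49149 = n47673 := d29_1 D49149 (iv D47673) (iv F210016)
theorem F219957 : act 4 n49149 = n47903 := d34_1 D49149 (iv D47903) (iv F210017)
theorem F219958 : act 5 n49149 = n46964 := d38_1 D49149 (iv D46964) (iv F210018)
theorem F219959 : act 7 n49149 = n46959 := d43_1 D49149 (iv D46959) (iv F210019)
def n49150 : Q := act 8 n46955
theorem D49150 : act 8 n46955 = n49150 := rfl
theorem F219960 : act 0 n49150 = n49150 := d7_1 D49150 (iv D49150) F210021
theorem F219961 : act 2 n49150 = n46956 := d22_1 D49150 (iv D46956) (iv F210022)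
theorem F219962 : act 4 n49150 = n47904 := d33_1 D49150 (iv D47904) (iv F210024)
theorem F219963 : act 5 n49150 = n46965 := d37_1 D49150 (iv D46965) (iv F210025)
theorem F219964 : act 7 n49150 = n46961 := d42_1 D49150 (iv D46961) (iv F210026)
theorem F219965 : act 9 n49150 = n49150 := d44_2 D46955 D49150 (iv D49150) (iv D46955) F176760
def n49151 : Q := act 4 n46957
theorem D49151 : act 4 n46957 = n49151 := rfl
theorem F219966 : act 0 n49151 = n46958 := d3_1 D49151 (iv D46958) D46957
theorem F219967 : act 1 n49151 = n49151 := d11_1 D49151 (iv D49151) F210032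
theorem F219968 : act 3 n49151 = n47704 := d24_1 D49151 F213533 F213360 (iv D47674) (iv F210033)
theorem F219969 : act 5 n49151 = n47905 := d30_2 (iv F210034) D49151 (iv F217797) F217798 F208039
theorem F219970 : act 6 n49151 = n47705 := d31_2 (iv F210035) D49151 F213539
theorem F219971 : act 7 n49151 = n47902 := d32_2 F219953 D49151 (iv F219950)
theorem F219972 : act 8 n49151 = n49151 := d33_2 F210036 D49151 (iv D49151)
def n49152 : Q := act 9 n46957
theorem D49152 : act 9 n46957 = n49152 := rfl
theorem F219973 : act 0 n49152 = n46959 := d8_1 D49152 (iv D46959) D46957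
theorem F219974 : act 1 n49152 = n49152 := d16_1 D49152 (iv D49152) F210032
theorem F219975 : act 3 n49152 = n47675 := d29_1 D49152 (iv D47675) (iv F210033)
theorem F219976 : act 5 n49152 = n46966 := d38_1 D49152 (iv D46966) (iv F210034)
theorem F219977 : act 6 n49152 = n48065 := d41_1 D49152 (iv D48065) (iv F210035)
def n49153 : Q := act 9 n46958
theorem D49153 : act 9 n46958 = n49153 := rfl
theorem F219978 : act 1 n49153 = n46960 := d16_1 D49153 (iv D46960) (iv F210037)
theorem F219979 : act 3 n49153 = n48386 := d29_1 D49153 (iv D48386) F210042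
theorem F219980 : act 4 n49153 = n46959 := d34_1 D49153 (iv D46959) D46958
theorem F219981 : act 5 n49153 = n47906 := d38_1 D49153 (iv D47906) (iv F210038)
theorem F219982 : act 6 n49153 = n48066 := d41_1 D49153 (iv D48066) (iv F210039)
theorem F219983 : act 7 n49153 = n47903 := d43_1 D49153 (iv D47903) (iv F210040)
def n49154 : Q := act 8 n46959
theorem D49154 : act 8 n46959 = n49154 := rfl
theorem F219984 : act 1 n49154 = n46961 := d15_1 D49154 (iv D46961) (iv F210043)
theorem F219985 : act 5 n49154 = n46967 := d37_1 D49154 (iv D46967) (iv F210045)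
theorem F219986 : act 6 n49154 = n48067 := d40_1 D49154 (iv D48067) (iv F210046)
theorem F219987 : act 9 n49154 = n49154 := d44_2 D46959 D49154 (iv D49154) (iv D46959) F176771
def n49155 : Q := act 8 n46960
theorem D49155 : act 8 n46960 = n49155 := rfl
theorem F219988 : act 0 n49155 = n49155 := d7_1 D49155 (iv D49155) F210047
theorem F219989 : act 2 n49155 = n46962 := d22_1 D49155 (iv D46962) (iv F210048)
theorem F219990 : act 3 n49155 = n48312 := d28_1 D49155 (iv D48312) (iv F216006) F216011 (iv F210049)
theorem F219991 : act 4 n49155 = n46961 := d33_1 D49155 (iv D46961) (iv F210050)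
theorem F219992 : act 5 n49155 = n47907 := d37_1 D49155 (iv D47907) (iv F210051)
theorem F219993 : act 6 n49155 = n48069 := d40_1 D49155 (iv D48069) (iv F210052)
theorem F219994 : act 7 n49155 = n47904 := d42_1 D49155 (iv D47904) (iv F210053)
theorem F219995 : act 9 n49155 = n49155 := d44_2 D46960 D49155 (iv D49155) (iv D46960) F176775
def n49156 : Q := act 3 n46961
theorem D49156 : act 3 n46961 = n49156 := rfl
theorem F219996 : act 0 n49156 = n49156 := d2_1 D49156 (iv D49156) F210054
theorem F219997 : act 4 n49156 = n48300 := d24_2 F219991 D49156 F215958 (iv F216014) (iv F219990)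
theorem F219998 : act 5 n49156 = n46968 := d25_2 (iv F210056) D49156 (iv D46968)
theorem F219999 : act 6 n49156 = n48070 := d26_2 (iv F210057) D49156 (iv D48070)
theorem F220000 : act 8 n49156 = n47680 := d28_2 D46961 D49156 (iv D47680) (iv D43113) (iv F176778)
theorem F220001 : act 9 n49156 = n49156 := d29_2 F210058 D49156 (iv D49156)
def n49157 : Q := act 9 n46963
theorem D49157 : act 9 n46963 = n49157 := rfl
theorem F220002 : act 0 n49157 = n46964 := d8_1 D49157 (iv D46964) D46963
theorem F220003 : act 1 n49157 = n49157 := d16_1 D49157 (iv D49157) F210066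
theorem F220004 : act 3 n49157 = n47682 := d29_1 D49157 (iv D47682) (iv F210067)
theorem F220005 : act 6 n49157 = n49157 := d41_1 D49157 (iv D49157) F210068
theorem F220006 : act 7 n49157 = n46966 := d43_1 D49157 (iv D46966) (iv F210069)
def n49158 : Q := act 8 n46964
theorem D49158 : act 8 n46964 = n49158 := rfl
theorem F220007 : act 1 n49158 = n46965 := d15_1 D49158 (iv D46965) (iv F210071)
theorem F220008 : act 6 n49158 = n49158 := d40_1 D49158 (iv D49158) F210073
theorem F220009 : act 7 n49158 = n46967 := d42_1 D49158 (iv D46967) (iv F210074)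
theorem F220010 : act 9 n49158 = n49158 := d44_2 D46964 D49158 (iv D49158) (iv D46964) F176791
def n49159 : Q := act 3 n46965
theorem D49159 : act 3 n46965 = n49159 := rfl
theorem F220011 : act 0 n49159 = n49159 := d2_1 D49159 (iv D49159) F210075
theorem F220012 : act 6 n49159 = n49159 := d26_2 F210077 D49159 (iv D49159)
theorem F220013 : act 7 n49159 = n46968 := d27_2 (iv F210078) D49159 (iv D46968)
theorem F220014 : act 8 n49159 = n47684 := d28_2 D46965 D49159 (iv D47684) (iv D43117) (iv F176794)
theorem F220015 : act 9 n49159 = n49159 := d29_2 F210079 D49159 (iv D49159)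
def n49160 : Q := act 8 n46966
theorem D49160 : act 8 n46966 = n49160 := rfl
theorem F220016 : act 0 n49160 = n46967 := d7_1 D49160 (iv D46967) (iv F210080)
theorem F220017 : act 1 n49160 = n49160 := d15_1 D49160 (iv D49160) F210081
theorem F220018 : act 6 n49160 = n46969 := d40_1 D49160 (iv D46969) (iv F210083)
theorem F220019 : act 9 n49160 = n49160 := d44_2 D46966 D49160 (iv D49160) (iv D46966) F176804
def n49161 : Q := act 3 n46967
theorem D49161 : act 3 n46967 = n49161 := rfl
theorem F220020 : act 1 n49161 = n46968 := d10_1 D49161 (iv D46968) (iv F210084)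
theorem F220021 : act 6 n49161 = n46970 := d26_2 (iv F210085) D49161 (iv D46970)
theorem F220022 : act 8 n49161 = n47686 := d28_2 D46967 D49161 (iv D47686) (iv D43119) (iv F176806)
theorem F220023 : act 9 n49161 = n49161 := d29_2 F210086 D49161 (iv D49161)
def n49162 : Q := act 4 n46968
theorem D49162 : act 4 n46968 = n49162 := rfl
theorem F220024 : act 0 n49162 = n49162 := d3_1 D49162 (iv D49162) F210087
theorem F220025 : act 3 n49162 = n48650 := d24_1 D49162 F217855 (iv D48787) F208048 D46968
theorem F220026 : act 5 n49162 = n48317 := d30_2 F219998 D49162 (iv D48317) (iv F215959) (iv F219997)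
theorem F220027 : act 6 n49162 = n46971 := d31_2 (iv F210088) D49162 (iv D46971)
theorem F220028 : act 8 n49162 = n47687 := d33_2 (iv F210089) D49162 (iv D47687)
theorem F220029 : act 9 n49162 = n49162 := d34_2 F210090 D49162 (iv D49162)
def n49163 : Q := act 9 n46973
theorem D49163 : act 9 n46973 = n49163 := rfl
theorem F220030 : act 0 n49163 = n46980 := d8_1 D49163 (iv D46980) (iv F210114)
theorem F220031 : act 1 n49163 = n46988 := d16_1 D49163 (iv D46988) (iv F210115)
theorem F220032 : act 2 n49163 = n47007 := d23_1 D49163 (iv D47007) (iv F210116)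
theorem F220033 : act 3 n49163 = n46974 := d29_1 D49163 (iv D46974) D46973
theorem F220034 : act 4 n49163 = n47041 := d34_1 D49163 (iv D47041) (iv F210117)
theorem F220035 : act 5 n49163 = n46975 := d38_1 D49163 (iv D46975) (iv F210118)
theorem F220036 : act 6 n49163 = n46984 := d41_1 D49163 (iv D46984) (iv F210119)
theorem F220037 : act 7 n49163 = n47121 := d43_1 D49163 (iv D47121) (iv F210120)
def n49164 : Q := act 8 n46975
theorem D49164 : act 8 n46975 = n49164 := rfl
theorem F220038 : act 0 n49164 = n46982 := d7_1 D49164 (iv D46982) (iv F210130)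
theorem F220039 : act 1 n49164 = n48590 := d15_1 D49164 (iv D48590) (iv F210131)
theorem F220040 : act 2 n49164 = n47008 := d22_1 D49164 (iv D47008) (iv F210132)
theorem F220041 : act 3 n49164 = n49164 := d28_1 D49164 (iv D49164) F210133 F176862 (iv F210133)
theorem F220042 : act 4 n49164 = n48589 := d33_1 D49164 (iv D48589) (iv F210134)
theorem F220043 : act 6 n49164 = n49164 := d40_1 D49164 (iv D49164) F210135
theorem F220044 : act 7 n49164 = n47122 := d42_1 D49164 (iv D47122) (iv F210136)
theorem F220045 : act 9 n49164 = n49164 := d44_2 D46975 D49164 (iv D49164) (iv D46975) F176856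
def n49165 : Q := act 9 n46976
theorem D49165 : act 9 n46976 = n49165 := rfl
theorem F220046 : act 0 n49165 = n46984 := d8_1 D49165 (iv D46984) (iv F210137)
theorem F220047 : act 1 n49165 = n49165 := d16_1 D49165 (iv D49165) F210138
theorem F220048 : act 2 n49165 = n47030 := d23_1 D49165 (iv D47030) (iv F210139)
theorem F220049 : act 3 n49165 = n46977 := d29_1 D49165 (iv D46977) D46976
theorem F220050 : act 4 n49165 = n47014 := d34_1 D49165 (iv D47014) (iv F210140)
theorem F220051 : act 5 n49165 = n49165 := d38_1 D49165 (iv D49165) F210141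
theorem F220052 : act 6 n49165 = n46980 := d41_1 D49165 (iv D46980) (iv F210142)
theorem F220053 : act 7 n49165 = n47125 := d43_1 D49165 (iv D47125) (iv F210143)
def n49166 : Q := act 9 n46979
theorem D49166 : act 9 n46979 = n49166 := rfl
theorem F220054 : act 0 n49166 = n47041 := d8_1 D49166 (iv D47041) (iv F210162)
theorem F220055 : act 1 n49166 = n49166 := d16_1 D49166 (iv D49166) F210163
theorem F220056 : act 2 n49166 = n47032 := d23_1 D49166 (iv D47032) (iv F210164)
theorem F220057 : act 3 n49166 = n47012 := d29_1 D49166 (iv D47012) (iv F210165)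
theorem F220058 : act 4 n49166 = n46980 := d34_1 D49166 (iv D46980) D46979
theorem F220059 : act 5 n49166 = n48135 := d38_1 D49166 (iv D48135) (iv F210166)
theorem F220060 : act 6 n49166 = n47014 := d41_1 D49166 (iv D47014) (iv F210167)
theorem F220061 : act 7 n49166 = n47130 := d43_1 D49166 (iv D47130) (iv F210168)
def n49167 : Q := act 8 n46980
theorem D49167 : act 8 n46980 = n49167 := rfl
theorem F220062 : act 1 n49167 = n49167 := d15_1 D49167 (iv D49167) F210170
theorem F220063 : act 2 n49167 = n47033 := d22_1 D49167 (iv D47033) (iv F210171)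
theorem F220064 : act 3 n49167 = n49167 := d28_1 D49167 (iv D49167) F210172 F176924 (iv F210172)
theorem F220065 : act 5 n49167 = n46982 := d37_1 D49167 (iv D46982) (iv F210173)
theorem F220066 : act 7 n49167 = n47131 := d42_1 D49167 (iv D47131) (iv F210174)
theorem F220067 : act 9 n49167 = n49167 := d44_2 D46980 D49167 (iv D49167) (iv D46980) F176919
def n49168 : Q := act 8 n46981
theorem D49168 : act 8 n46981 = n49168 := rfl
theorem F220068 : act 0 n49168 = n48589 := d7_1 D49168 (iv D48589) (iv F210175)
theorem F220069 : act 1 n49168 = n49168 := d15_1 D49168 (iv D49168) F210176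
theorem F220070 : act 2 n49168 = n47035 := d22_1 D49168 (iv D47035) (iv F210177)
theorem F220071 : act 4 n49168 = n46982 := d33_1 D49168 (iv D46982) (iv F210179)
theorem F220072 : act 5 n49168 = n48595 := d37_1 D49168 (iv D48595) (iv F210180)
theorem F220073 : act 6 n49168 = n49168 := d40_1 D49168 (iv D49168) F210181
theorem F220074 : act 7 n49168 = n47133 := d42_1 D49168 (iv D47133) (iv F210182)
theorem F220075 : act 9 n49168 = n49168 := d44_2 D46981 D49168 (iv D49168) (iv D46981) F176930
def n49169 : Q := act 9 n46983
theorem D49169 : act 9 n46983 = n49169 := rfl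
theorem F220076 : act 0 n49169 = n47030 := d8_1 D49169 (iv D47030) (iv F210189)
theorem F220077 : act 2 n49169 = n46984 := d23_1 D49169 (iv D46984) D46983
theorem F220078 : act 3 n49169 = n47005 := d29_1 D49169 (iv D47005) (iv F210190)
theorem F220079 : act 4 n49169 = n47043 := d34_1 D49169 (iv D47043) (iv F210191)
theorem F220080 : act 5 n49169 = n49169 := d38_1 D49169 (iv D49169) F210192
theorem F220081 : act 6 n49169 = n47007 := d41_1 D49169 (iv D47007) (iv F210193)
theorem F220082 : act 7 n49169 = n47139 := d43_1 D49169 (iv D47139) (iv F210194)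
def n49170 : Q := act 8 n46984
theorem D49170 : act 8 n46984 = n49170 := rfl
theorem F220083 : act 1 n49170 = n46991 := d15_1 D49170 (iv D46991) (iv F210196)
theorem F220084 : act 3 n49170 = n49170 := d28_1 D49170 (iv D49170) F210197 F176958 (iv F210197)
theorem F220085 : act 4 n49170 = n47044 := d33_1 D49170 (iv D47044) (iv F210198)
theorem F220086 : act 5 n49170 = n49170 := d37_1 D49170 (iv D49170) F210199
theorem F220087 : act 7 n49170 = n47140 := d42_1 D49170 (iv D47140) (iv F210200)
theorem F220088 : act 9 n49170 = n49170 := d44_2 D46984 D49170 (iv D49170) (iv D46984) F176953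
def n49171 : Q := act 9 n46986
theorem D49171 : act 9 n46986 = n49171 := rfl
theorem F220089 : act 0 n49171 = n49171 := d8_1 D49171 (iv D49171) F210210
theorem F220090 : act 1 n49171 = n47121 := d16_1 D49171 (iv D47121) (iv F210211)
theorem F220091 : act 2 n49171 = n47862 := d23_1 D49171 F214319 (iv F210217)
theorem F220092 : act 3 n49171 = n46987 := d29_1 D49171 (iv D46987) D46986
theorem F220093 : act 4 n49171 = n47045 := d34_1 D49171 (iv D47045) (iv F210212)
theorem F220094 : act 5 n49171 = n47118 := d38_1 D49171 (iv D47118) (iv F210213)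
theorem F220095 : act 6 n49171 = n47147 := d41_1 D49171 (iv D47147) (iv F210214)
theorem F220096 : act 7 n49171 = n46988 := d43_1 D49171 (iv D46988) (iv F210215)
theorem F220097 : act 8 n48197 = n49171 := d33_0 F220093 (iv F210534) D48197
def n49172 : Q := act 8 n46988
theorem D49172 : act 8 n46988 = n49172 := rfl
theorem F220098 : act 0 n49172 = n49172 := d7_1 D49172 (iv D49172) F210226
theorem F220099 : act 2 n49172 = n48133 := d22_1 D49172 (iv D48133) (iv F210227)
theorem F220100 : act 3 n49172 = n49172 := d28_1 D49172 (iv D49172) F210228 F176993 (iv F210228)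
theorem F220101 : act 4 n49172 = n47046 := d33_1 D49172 (iv D47046) (iv F210229)
theorem F220102 : act 5 n49172 = n48590 := d37_1 D49172 (iv D48590) (iv F210230)
theorem F220103 : act 6 n49172 = n46991 := d40_1 D49172 (iv D46991) (iv F210231)
theorem F220104 : act 7 n49172 = n48197 := d42_1 D49172 F220097 F220096
theorem F220105 : act 9 n49172 = n49172 := d44_2 D46988 D49172 (iv D49172) (iv D46988) F176988
def n49173 : Q := act 9 n46989
theorem D49173 : act 9 n46989 = n49173 := rfl
theorem F220106 : act 1 n49173 = n46990 := d16_1 D49173 (iv D46990) D46989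
theorem F220107 : act 3 n49173 = n49173 := d29_1 D49173 (iv D49173) F210232
theorem F220108 : act 4 n49173 = n47048 := d34_1 D49173 (iv D47048) (iv F210233)
theorem F220109 : act 5 n49173 = n49173 := d38_1 D49173 (iv D49173) F210234
theorem F220110 : act 6 n49173 = n48126 := d41_1 D49173 (iv D48126) (iv F210235)
theorem F220111 : act 7 n49173 = n47152 := d43_1 D49173 (iv D47152) (iv F210236)
def n49174 : Q := act 8 n46990
theorem D49174 : act 8 n46990 = n49174 := rfl
theorem F220112 : act 0 n49174 = n49174 := d7_1 D49174 (iv D49174) F210238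
theorem F220113 : act 2 n49174 = n46991 := d22_1 D49174 (iv D46991) (iv F210239)
theorem F220114 : act 4 n49174 = n47049 := d33_1 D49174 (iv D47049) (iv F210241)
theorem F220115 : act 5 n49174 = n49174 := d37_1 D49174 (iv D49174) F210242
theorem F220116 : act 6 n49174 = n48133 := d40_1 D49174 (iv D48133) (iv F210243)
theorem F220117 : act 7 n49174 = n47153 := d42_1 D49174 (iv D47153) (iv F210244)
theorem F220118 : act 9 n49174 = n49174 := d44_2 D46990 D49174 (iv D49174) (iv D46990) F176999
theorem F220119 : act 3 n48597 = n49174 := d26_3 F220116 (iv F215456) (iv F216973)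
def n49175 : Q := act 7 n46992
theorem D49175 : act 7 n46992 = n49175 := rfl
theorem F220120 : act 0 n49175 = n47081 := d6_1 D49175 (iv D47081) (iv F210251)
theorem F220121 : act 1 n49175 = n47000 := d14_1 D49175 (iv D47000) (iv F210252)
theorem F220122 : act 2 n49175 = n49175 := d21_1 D49175 (iv D49175) F210253
theorem F220123 : act 3 n49175 = n47060 := d27_1 D49175 (iv D47060) (iv F210254)
theorem F220124 : act 4 n49175 = n46994 := d32_1 D49175 (iv D46994) (iv F210255)
theorem F220125 : act 5 n49175 = n47056 := d36_1 D49175 (iv D47056) (iv F210256)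
theorem F220126 : act 6 n49175 = n47157 := d39_1 D49175 (iv D47157) (iv D42539) (iv F177015) D46992
theorem F220127 : act 9 n49175 = n47051 := d43_2 (iv F210257) D49175 (iv D47051)
def n49176 : Q := act 8 n46992
theorem D49176 : act 8 n46992 = n49176 := rfl
theorem F220128 : act 0 n49176 = n47082 := d7_1 D49176 (iv D47082) (iv F210251)
theorem F220129 : act 1 n49176 = n47001 := d15_1 D49176 (iv D47001) (iv F210252)
theorem F220130 : act 2 n49176 = n49176 := d22_1 D49176 (iv D49176) F210253
theorem F220131 : act 4 n49176 = n46995 := d33_1 D49176 (iv D46995) (iv F210255)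
theorem F220132 : act 5 n49176 = n47057 := d37_1 D49176 (iv D47057) (iv F210256)
theorem F220133 : act 6 n49176 = n46993 := d40_1 D49176 (iv D46993) D46992
def n49177 : Q := act 3 n46993
theorem D49177 : act 3 n46993 = n49177 := rfl
theorem F220134 : act 0 n49177 = n47769 := d2_1 D49177 F213902 (iv F210258)
theorem F220135 : act 1 n49177 = n47002 := d10_1 D49177 (iv D47002) (iv F210259)
theorem F220136 : act 4 n49177 = n48108 := d24_2 (iv F210261) D49177 F215377 (iv F208321) F208320
theorem F220137 : act 5 n49177 = n47756 := d25_2 (iv F210262) D49177 F213834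
theorem F220138 : act 7 n49177 = n47159 := d27_2 (iv F210263) D49177 (iv D47159)
theorem F220139 : act 8 n49177 = n48094 := d28_2 D46993 D49177 (iv D48094) (iv D45071) (iv F197841)
theorem F220140 : act 2 n48109 = n49177 := d22_3 F220139 (iv F218089) F218093
def n49178 : Q := act 9 n46993
theorem D49178 : act 9 n46993 = n49178 := rfl
theorem F220141 : act 0 n49178 = n47772 := d8_1 D49178 (iv D47772) (iv F210258)
theorem F220142 : act 1 n49178 = n47003 := d16_1 D49178 (iv D47003) (iv F210259)
theorem F220143 : act 2 n49178 = n49178 := d23_1 D49178 (iv D49178) F210260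
theorem F220144 : act 4 n49178 = n46996 := d34_1 D49178 (iv D46996) (iv F210261)
theorem F220145 : act 5 n49178 = n47758 := d38_1 D49178 (iv D47758) (iv F210262)
theorem F220146 : act 7 n49178 = n47160 := d43_1 D49178 (iv D47160) (iv F210263)
theorem F220147 : act 8 n49178 = n47054 := d44_1 D49178 (iv D47054) (iv D42404) (iv F177016) D46993
def n49179 : Q := act 8 n46994
theorem D49179 : act 8 n46994 = n49179 := rfl
theorem F220148 : act 0 n49179 = n47773 := d7_1 D49179 F213921 (iv F210264)
theorem F220149 : act 1 n49179 = n47004 := d15_1 D49179 (iv D47004) (iv F210265)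
theorem F220150 : act 2 n49179 = n49179 := d22_1 D49179 (iv D49179) F210266
theorem F220151 : act 5 n49179 = n49179 := d37_1 D49179 (iv D49179) F210268
theorem F220152 : act 6 n49179 = n47161 := d40_1 D49179 (iv D47161) (iv F210269)
theorem F220153 : act 7 n49179 = n46995 := d42_1 D49179 (iv D46995) D46994
theorem F220154 : act 9 n49179 = n48615 := d44_2 (iv F210270) D49179 (iv D48615) (iv D46395) F206365
theorem F220155 : act 3 n47138 = n49179 := d27_3 F220153 (iv F218013) (iv F218017)
def n49180 : Q := act 9 n46995
theorem D49180 : act 9 n46995 = n49180 := rfl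
theorem F220156 : act 0 n49180 = n47774 := d8_1 D49180 (iv D47774) (iv F210271)
theorem F220157 : act 1 n49180 = n47005 := d16_1 D49180 (iv D47005) (iv F210272)
theorem F220158 : act 2 n49180 = n49180 := d23_1 D49180 (iv D49180) F210273
theorem F220159 : act 5 n49180 = n49180 := d38_1 D49180 (iv D49180) F210274
theorem F220160 : act 6 n49180 = n46996 := d41_1 D49180 (iv D46996) (iv F210275)
theorem F220161 : act 7 n49180 = n48615 := d43_1 D49180 (iv F220154) F220153
theorem F220162 : act 8 n49180 = n47055 := d44_1 D49180 (iv D47055) (iv D42406) (iv F177021) D46995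
def n49181 : Q := act 7 n46997
theorem D49181 : act 7 n46997 = n49181 := rfl
theorem F220163 : act 0 n49181 = n47016 := d6_1 D49181 (iv D47016) (iv F210282)
theorem F220164 : act 1 n49181 = n47060 := d14_1 D49181 (iv D47060) (iv F210283)
theorem F220165 : act 2 n49181 = n49181 := d21_1 D49181 (iv D49181) F210284
theorem F220166 : act 3 n49181 = n47000 := d27_1 D49181 (iv D47000) (iv F210285)
theorem F220167 : act 4 n49181 = n49181 := d32_1 D49181 (iv D49181) F210286
theorem F220168 : act 5 n49181 = n47051 := d36_1 D49181 (iv D47051) (iv F210287)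
theorem F220169 : act 6 n49181 = n47164 := d39_1 D49181 (iv D47164) (iv D42548) (iv F177040) D46997
theorem F220170 : act 9 n49181 = n47056 := d43_2 (iv F210288) D49181 (iv D47056)
theorem F220171 : act 8 n48613 = n49181 := d37_0 F220168 (iv F210571) D48613
def n49182 : Q := act 8 n46997
theorem D49182 : act 8 n46997 = n49182 := rfl
theorem F220172 : act 0 n49182 = n47017 := d7_1 D49182 (iv D47017) (iv F210282)
theorem F220173 : act 1 n49182 = n47061 := d15_1 D49182 (iv D47061) (iv F210283)
theorem F220174 : act 2 n49182 = n49182 := d22_1 D49182 (iv D49182) F210284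
theorem F220175 : act 4 n49182 = n49182 := d33_1 D49182 (iv D49182) F210286
theorem F220176 : act 5 n49182 = n47052 := d37_1 D49182 (iv D47052) (iv F210287)
theorem F220177 : act 6 n49182 = n46998 := d40_1 D49182 (iv D46998) D46997
theorem F220178 : act 7 n49182 = n48613 := d42_1 D49182 F220171 (iv D49181)
def n49183 : Q := act 3 n46998
theorem D49183 : act 3 n46998 = n49183 := rfl
theorem F220179 : act 0 n49183 = n47018 := d2_1 D49183 (iv D47018) (iv F210289)
theorem F220180 : act 1 n49183 = n48094 := d10_1 D49183 (iv D48094) (iv F210290)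
theorem F220181 : act 5 n49183 = n48075 := d25_2 (iv F210293) D49183 (iv D48075)
theorem F220182 : act 7 n49183 = n47166 := d27_2 (iv F210294) D49183 (iv D47166)
theorem F220183 : act 8 n49183 = n47002 := d28_2 D46998 D49183 (iv D47002) (iv D42354) D42352
def n49184 : Q := act 9 n46998
theorem D49184 : act 9 n46998 = n49184 := rfl
theorem F220184 : act 0 n49184 = n47019 := d8_1 D49184 (iv D47019) (iv F210289)
theorem F220185 : act 1 n49184 = n48095 := d16_1 D49184 (iv D48095) (iv F210290)
theorem F220186 : act 2 n49184 = n49184 := d23_1 D49184 (iv D49184) F210291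
theorem F220187 : act 4 n49184 = n49184 := d34_1 D49184 (iv D49184) F210292
theorem F220188 : act 5 n49184 = n48076 := d38_1 D49184 (iv D48076) (iv F210293)
theorem F220189 : act 7 n49184 = n47167 := d43_1 D49184 (iv D47167) (iv F210294)
theorem F220190 : act 8 n49184 = n47059 := d44_1 D49184 (iv D47059) (iv D42413) (iv F177041) D46998
def n49185 : Q := act 7 n46999
theorem D49185 : act 7 n46999 = n49185 := rfl
theorem F220191 : act 0 n49185 = n47020 := d6_1 D49185 (iv D47020) (iv F210295)
theorem F220192 : act 1 n49185 = n47056 := d14_1 D49185 (iv D47056) (iv F210296)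
theorem F220193 : act 2 n49185 = n47009 := d21_1 D49185 (iv D47009) (iv F210297)
theorem F220194 : act 3 n49185 = n47051 := d27_1 D49185 (iv D47051) (iv F210298)
theorem F220195 : act 4 n49185 = n49185 := d32_1 D49185 (iv D49185) F210299
theorem F220196 : act 5 n49185 = n47000 := d36_1 D49185 (iv D47000) D46999
theorem F220197 : act 6 n49185 = n47256 := d39_1 D49185 (iv D47256) (iv D42620) (iv F177250) (iv F210300)
theorem F220198 : act 9 n49185 = n47060 := d43_2 (iv F210301) D49185 (iv D47060)
def n49186 : Q := act 8 n46999
theorem D49186 : act 8 n46999 = n49186 := rfl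
theorem F220199 : act 0 n49186 = n47021 := d7_1 D49186 (iv D47021) (iv F210295)
theorem F220200 : act 1 n49186 = n47057 := d15_1 D49186 (iv D47057) (iv F210296)
theorem F220201 : act 2 n49186 = n47010 := d22_1 D49186 (iv D47010) (iv F210297)
theorem F220202 : act 4 n49186 = n49186 := d33_1 D49186 (iv D49186) F210299
theorem F220203 : act 5 n49186 = n47001 := d37_1 D49186 (iv D47001) D46999
theorem F220204 : act 6 n49186 = n47050 := d40_1 D49186 (iv D47050) (iv F210300)
def n49187 : Q := act 8 n47000
theorem D49187 : act 8 n47000 = n49187 := rfl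
theorem F220205 : act 0 n49187 = n47022 := d7_1 D49187 (iv D47022) (iv F210302)
theorem F220206 : act 2 n49187 = n47011 := d22_1 D49187 (iv D47011) (iv F210303)
theorem F220207 : act 4 n49187 = n47004 := d33_1 D49187 (iv D47004) (iv F210304)
theorem F220208 : act 6 n49187 = n47170 := d40_1 D49187 (iv D47170) (iv F210305)
theorem F220209 : act 7 n49187 = n47001 := d42_1 D49187 (iv D47001) D47000
theorem F220210 : act 3 n47210 = n49187 := d24_5 F220207 (iv F210325) F177772 (iv F178002) D47210
def n49188 : Q := act 3 n47001
theorem D49188 : act 3 n47001 = n49188 := rfl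
theorem F220211 : act 0 n49188 = n47023 := d2_1 D49188 (iv D47023) (iv F210307)
theorem F220212 : act 2 n49188 = n47026 := d17_1 D49188 F210433 (iv F210164) F210165 (iv F210308)
theorem F220213 : act 4 n49188 = n47025 := d24_2 (iv F210309) D49188 F210430 (iv F210191) F210190
theorem F220214 : act 6 n49188 = n47002 := d26_2 (iv F210310) D49188 (iv D47002)
theorem F220215 : act 7 n49188 = n47210 := d27_2 F220209 D49188 F220210
def n49189 : Q := act 9 n47001
theorem D49189 : act 9 n47001 = n49189 := rfl
theorem F220216 : act 0 n49189 = n47024 := d8_1 D49189 (iv D47024) (iv F210307)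
theorem F220217 : act 2 n49189 = n47012 := d23_1 D49189 (iv D47012) (iv F210308)
theorem F220218 : act 4 n49189 = n47005 := d34_1 D49189 (iv D47005) (iv F210309)
theorem F220219 : act 6 n49189 = n47003 := d41_1 D49189 (iv D47003) (iv F210310)
theorem F220220 : act 8 n49189 = n47064 := d44_1 D49189 (iv D47064) (iv D42416) (iv F177045) D47001
def n49190 : Q := act 2 n47002
theorem D49190 : act 2 n47002 = n49190 := rfl
theorem F220221 : act 0 n49190 = n47025 := d1_1 D49190 (iv D47025) (iv F210311)
theorem F220222 : act 3 n49190 = n47013 := d17_2 D47002 D49190 (iv D47013) (iv D42364) (iv F177047)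
theorem F220223 : act 5 n49190 = n48079 := d19_2 (iv F210312) D49190 (iv D48079)
theorem F220224 : act 6 n49190 = n47026 := d20_2 F220214 D49190 (iv F220212)
theorem F220225 : act 7 n49190 = n47173 := d21_2 (iv F210313) D49190 (iv D47173)
theorem F220226 : act 4 n47023 = n49190 := d31_3 F220224 (iv D47026) (iv F210425)
def n49191 : Q := act 4 n47002
theorem D49191 : act 4 n47002 = n49191 := rfl
theorem F220227 : act 0 n49191 = n47026 := d3_1 D49191 (iv D47026) (iv F210311)
theorem F220228 : act 1 n49191 = n48108 := d11_1 D49191 (iv F220136) F220135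
theorem F220229 : act 2 n49191 = n47023 := d18_1 D49191 F220226 (iv D49190)
theorem F220230 : act 3 n49191 = n47006 := d24_1 D49191 (iv D47006) (iv D42357) (iv F177048) D47002
theorem F220231 : act 5 n49191 = n48111 := d30_2 (iv F210312) D49191 (iv F217980) F217981 F213821
theorem F220232 : act 6 n49191 = n47025 := d31_2 F220214 D49191 (iv F220213)
theorem F220233 : act 7 n49191 = n47174 := d32_2 (iv F210313) D49191 (iv D47174)
def n49192 : Q := act 9 n47002
theorem D49192 : act 9 n47002 = n49192 := rfl
theorem F220234 : act 0 n49192 = n47027 := d8_1 D49192 (iv D47027) (iv F210311)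
theorem F220235 : act 3 n49192 = n47003 := d29_1 D49192 (iv D47003) D47002
theorem F220236 : act 5 n49192 = n48080 := d38_1 D49192 (iv D48080) (iv F210312)
theorem F220237 : act 7 n49192 = n47175 := d43_1 D49192 (iv D47175) (iv F210313)
def n49193 : Q := act 9 n47004
theorem D49193 : act 9 n47004 = n49193 := rfl
theorem F220238 : act 0 n49193 = n47029 := d8_1 D49193 (iv D47029) (iv F210320)
theorem F220239 : act 1 n49193 = n48615 := d16_1 D49193 (iv F220154) F220149
theorem F220240 : act 2 n49193 = n47015 := d23_1 D49193 (iv D47015) (iv F210321)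
theorem F220241 : act 3 n49193 = n47139 := d29_1 D49193 (iv D47139) F210325
theorem F220242 : act 5 n49193 = n49193 := d38_1 D49193 (iv D49193) F210322
theorem F220243 : act 6 n49193 = n47176 := d41_1 D49193 (iv D47176) (iv F210323)
theorem F220244 : act 7 n49193 = n47005 := d43_1 D49193 (iv D47005) (iv F210324)
theorem F220245 : act 8 n49193 = n47068 := d44_1 D49193 (iv D47068) (iv D42419) (iv F177056) D47004
def n49194 : Q := act 9 n47006
theorem D49194 : act 9 n47006 = n49194 := rfl
theorem F220246 : act 0 n49194 = n47032 := d8_1 D49194 (iv D47032) (iv F210331)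
theorem F220247 : act 1 n49194 = n48125 := d16_1 D49194 (iv D48125) (iv F210332)
theorem F220248 : act 2 n49194 = n47041 := d23_1 D49194 (iv D47041) (iv F210333)
theorem F220249 : act 4 n49194 = n47007 := d34_1 D49194 (iv D47007) D47006
theorem F220250 : act 5 n49194 = n48128 := d38_1 D49194 (iv D48128) (iv F210334)
theorem F220251 : act 6 n49194 = n47043 := d41_1 D49194 (iv D47043) (iv F210335)
theorem F220252 : act 7 n49194 = n47179 := d43_1 D49194 (iv D47179) (iv F210336)
def n49195 : Q := act 8 n47007
theorem D49195 : act 8 n47007 = n49195 := rfl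
theorem F220253 : act 0 n49195 = n47033 := d7_1 D49195 (iv D47033) (iv F210338)
theorem F220254 : act 3 n49195 = n47072 := d28_1 D49195 (iv D47072) F177339 (iv F177069) (iv F210339)
theorem F220255 : act 5 n49195 = n47008 := d37_1 D49195 (iv D47008) (iv F210340)
theorem F220256 : act 7 n49195 = n47180 := d42_1 D49195 (iv D47180) (iv F210341)
theorem F220257 : act 9 n49195 = n49195 := d44_2 D47007 D49195 (iv D49195) (iv D47007) F177064
def n49196 : Q := act 6 n47009
theorem D49196 : act 6 n47009 = n49196 := rfl
theorem F220258 : act 0 n49196 = n47036 := d5_1 D49196 (iv D47036) (iv F210347)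
theorem F220259 : act 1 n49196 = n49196 := d13_1 D49196 (iv D49196) F210348
theorem F220260 : act 2 n49196 = n47256 := d20_1 D49196 (iv F220197) F220193
theorem F220261 : act 3 n49196 = n49196 := d26_1 D49196 (iv D49196) F210349
theorem F220262 : act 4 n49196 = n49196 := d31_1 D49196 (iv D49196) F210350
theorem F220263 : act 5 n49196 = n47181 := d35_1 D49196 (iv D47181) F177937 (iv F177089) (iv F210351)
theorem F220264 : act 7 n49196 = n47254 := d39_2 D47009 D49196 (iv D47254) F197118 (iv F177083)
theorem F220265 : act 9 n49196 = n47073 := d41_2 (iv F210352) D49196 (iv D47073)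
theorem F220266 : act 8 n47856 = n49196 := d42_0 F220264 F211515 (iv F214288)
def n49197 : Q := act 8 n47009
theorem D49197 : act 8 n47009 = n49197 := rfl
theorem F220267 : act 0 n49197 = n47037 := d7_1 D49197 (iv D47037) (iv F210347)
theorem F220268 : act 1 n49197 = n49197 := d15_1 D49197 (iv D49197) F210348
theorem F220269 : act 4 n49197 = n49197 := d33_1 D49197 (iv D49197) F210350
theorem F220270 : act 5 n49197 = n47011 := d37_1 D49197 (iv D47011) (iv F210351)
theorem F220271 : act 6 n49197 = n47856 := d40_1 D49197 F220266 (iv D49196)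
theorem F220272 : act 7 n49197 = n47010 := d42_1 D49197 (iv D47010) D47009
theorem F220273 : act 3 n49197 = n47129 := d45_2 (iv F210352) D49197 (iv D47129) (iv D42514) (iv D29177) F86570 F86571 F60646 D13826 F60751 F42813 F42814 F30199 F22485 F16330 F11618 (iv F15950) (iv D3330) (iv D2308) (iv D1604) D1605 F8083 (iv F11333) (iv F15931) (iv F22472) F22473 (iv F24466) D7626 (iv F201050) (iv D10080) (iv F42754) F42753 (iv D9537) (iv D6586) (iv D4559) (iv F21340) (iv F30088) D9510 D13794 D20047 F86536 F86535 F199558 F123359 F86228 F86227 (iv F86328) F86329 (iv F123511) F123510 F123509 (iv F122177) (iv F205787) (iv D20762) (iv D14273) F44061 (iv F42222) (iv D9414) F29795 (iv F29789) F29790 (iv F42209) F42210 D9427 (iv F59411) F59412 F41822 F41821 F29826 F21136 F15176 D4568 (iv F30159) (iv F42681) (iv F60681) (iv F86622) (iv F123953) (iv F177775) (iv F211012) (iv F220241) (iv D49193) (iv D47004) F177053 F177054 (iv F210304) (iv F220166) F220164 F210612 F177360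
def n49198 : Q := act 9 n47010
theorem D49198 : act 9 n47010 = n49198 := rfl
theorem F220274 : act 0 n49198 = n47038 := d8_1 D49198 (iv D47038) (iv F210353)
theorem F220275 : act 1 n49198 = n49198 := d16_1 D49198 (iv D49198) F210354
theorem F220276 : act 3 n49198 = n48135 := d29_1 D49198 (iv D48135) F210358
theorem F220277 : act 4 n49198 = n49198 := d34_1 D49198 (iv D49198) F210355
theorem F220278 : act 5 n49198 = n47012 := d38_1 D49198 (iv D47012) (iv F210356)
theorem F220279 : act 6 n49198 = n47778 := d41_1 D49198 (iv D47778) (iv F210357)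
theorem F220280 : act 8 n49198 = n47074 := d44_1 D49198 (iv D47074) (iv D42428) (iv F177084) D47010
def n49199 : Q := act 9 n47011
theorem D49199 : act 9 n47011 = n49199 := rfl
theorem F220281 : act 0 n49199 = n47040 := d8_1 D49199 (iv D47040) (iv F210359)
theorem F220282 : act 1 n49199 = n49199 := d16_1 D49199 (iv D49199) F210360
theorem F220283 : act 3 n49199 = n47130 := d29_1 D49199 (iv D47130) F210364
theorem F220284 : act 4 n49199 = n47015 := d34_1 D49199 (iv D47015) (iv F210361)
theorem F220285 : act 6 n49199 = n47185 := d41_1 D49199 (iv D47185) (iv F210362)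
theorem F220286 : act 7 n49199 = n47012 := d43_1 D49199 (iv D47012) (iv F210363)
theorem F220287 : act 8 n49199 = n47075 := d44_1 D49199 (iv D47075) (iv D42429) (iv F177090) D47011
def n49200 : Q := act 9 n47013
theorem D49200 : act 9 n47013 = n49200 := rfl
theorem F220288 : act 0 n49200 = n47043 := d8_1 D49200 (iv D47043) (iv F210370)
theorem F220289 : act 2 n49200 = n47014 := d23_1 D49200 (iv D47014) D47013
theorem F220290 : act 4 n49200 = n47030 := d34_1 D49200 (iv D47030) (iv F210371)
theorem F220291 : act 5 n49200 = n48082 := d38_1 D49200 (iv D48082) (iv F210372)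
theorem F220292 : act 6 n49200 = n47032 := d41_1 D49200 (iv D47032) (iv F210373)
theorem F220293 : act 7 n49200 = n47189 := d43_1 D49200 (iv D47189) (iv F210374)
def n49201 : Q := act 8 n47014
theorem D49201 : act 8 n47014 = n49201 := rfl
theorem F220294 : act 0 n49201 = n47044 := d7_1 D49201 (iv D47044) (iv F210376)
theorem F220295 : act 1 n49201 = n49201 := d15_1 D49201 (iv D49201) F210377
theorem F220296 : act 3 n49201 = n47080 := d28_1 D49201 (iv D47080) F177389 (iv F177105) (iv F210378)
theorem F220297 : act 5 n49201 = n48083 := d37_1 D49201 (iv D48083) (iv F210379)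
theorem F220298 : act 7 n49201 = n47190 := d42_1 D49201 (iv D47190) (iv F210380)
theorem F220299 : act 9 n49201 = n49201 := d44_2 D47014 D49201 (iv D49201) (iv D47014) F177099
def n49202 : Q := act 3 n47017
theorem D49202 : act 3 n47017 = n49202 := rfl
theorem F220300 : act 1 n49202 = n48117 := d10_1 D49202 F215397 (iv F210396)
theorem F220301 : act 5 n49202 = n48115 := d25_2 (iv F210399) D49202 F215391
theorem F220302 : act 6 n49202 = n47018 := d26_2 (iv F210400) D49202 (iv D47018)
theorem F220303 : act 7 n49202 = n48266 := d27_2 (iv F210401) D49202 F215857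
theorem F220304 : act 8 n49202 = n47023 := d28_2 D47017 D49202 (iv D47023) (iv D42372) (iv F177117)
def n49203 : Q := act 9 n47017
theorem D49203 : act 9 n47017 = n49203 := rfl
theorem F220305 : act 1 n49203 = n48582 := d16_1 D49203 (iv D48582) (iv F210396)
theorem F220306 : act 2 n49203 = n49203 := d23_1 D49203 (iv D49203) F210397
theorem F220307 : act 4 n49203 = n49203 := d34_1 D49203 (iv D49203) F210398
theorem F220308 : act 5 n49203 = n48581 := d38_1 D49203 (iv D48581) (iv F210399)
theorem F220309 : act 6 n49203 = n47019 := d41_1 D49203 (iv D47019) (iv F210400)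
theorem F220310 : act 7 n49203 = n48616 := d43_1 D49203 (iv D48616) (iv F210401)
theorem F220311 : act 8 n49203 = n47085 := d44_1 D49203 (iv D47085) (iv D42437) (iv F177119) D47017
def n49204 : Q := act 2 n47018
theorem D49204 : act 2 n47018 = n49204 := rfl
theorem F220312 : act 3 n49204 = n49204 := d17_2 D47018 D49204 (iv D49204) (iv D47018) F177120
theorem F220313 : act 5 n49204 = n48084 := d19_2 (iv F210402) D49204 (iv D48084)
theorem F220314 : act 7 n49204 = n47197 := d21_2 (iv F210403) D49204 (iv D47197)
theorem F220315 : act 8 n49204 = n47025 := d22_2 (iv F210404) D49204 (iv D47025)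
def n49205 : Q := act 4 n47018
theorem D49205 : act 4 n47018 = n49205 := rfl
theorem F220316 : act 3 n49205 = n49205 := d24_1 D49205 (iv D49205) (iv D47018) F177121 D47018
theorem F220317 : act 7 n49205 = n47198 := d32_2 (iv F210403) D49205 (iv D47198)
theorem F220318 : act 8 n49205 = n47026 := d33_2 (iv F210404) D49205 (iv D47026)
def n49206 : Q := act 9 n47018
theorem D49206 : act 9 n47018 = n49206 := rfl
theorem F220319 : act 3 n49206 = n47019 := d29_1 D49206 (iv D47019) D47018
theorem F220320 : act 5 n49206 = n48085 := d38_1 D49206 (iv D48085) (iv F210402)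
theorem F220321 : act 7 n49206 = n47199 := d43_1 D49206 (iv D47199) (iv F210403)
def n49207 : Q := act 8 n47020
theorem D49207 : act 8 n47020 = n49207 := rfl
theorem F220322 : act 1 n49207 = n47775 := d15_1 D49207 F213933 (iv F210410)
theorem F220323 : act 2 n49207 = n47037 := d22_1 D49207 (iv D47037) (iv F210411)
theorem F220324 : act 3 n49207 = n48234 := d28_1 D49207 F215788 F189146 (iv F207015) (iv F210412)
theorem F220325 : act 4 n49207 = n49207 := d33_1 D49207 (iv D49207) F210413
theorem F220326 : act 5 n49207 = n47022 := d37_1 D49207 (iv D47022) (iv F210414)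
theorem F220327 : act 6 n49207 = n47848 := d40_1 D49207 (iv F218392) F218391
theorem F220328 : act 7 n49207 = n47021 := d42_1 D49207 (iv D47021) D47020
def n49208 : Q := act 3 n47021
theorem D49208 : act 3 n47021 = n49208 := rfl
theorem F220329 : act 1 n49208 = n47764 := d10_1 D49208 F213879 (iv F210416)
theorem F220330 : act 2 n49208 = n48111 := d17_1 D49208 F215382 F188277 (iv F206185) (iv F210417)
theorem F220331 : act 5 n49208 = n47023 := d25_2 (iv F210419) D49208 (iv D47023)
theorem F220332 : act 6 n49208 = n47766 := d26_2 (iv F210420) D49208 F213890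
theorem F220333 : act 7 n49208 = n48234 := d27_2 F220328 D49208 (iv F220324)
theorem F220334 : act 8 n49208 = n48115 := d28_2 D47021 D49208 F215391 F208279 F208274
theorem F220335 : act 4 n48104 = n49208 := d33_3 F220334 (iv D48115) (iv F215366)
def n49209 : Q := act 9 n47021
theorem D49209 : act 9 n47021 = n49209 := rfl
theorem F220336 : act 1 n49209 = n47776 := d16_1 D49209 (iv D47776) (iv F210416)
theorem F220337 : act 2 n49209 = n47038 := d23_1 D49209 (iv D47038) (iv F210417)
theorem F220338 : act 4 n49209 = n49209 := d34_1 D49209 (iv D49209) F210418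
theorem F220339 : act 5 n49209 = n47024 := d38_1 D49209 (iv D47024) (iv F210419)
theorem F220340 : act 6 n49209 = n47777 := d41_1 D49209 (iv D47777) (iv F210420)
theorem F220341 : act 8 n49209 = n47091 := d44_1 D49209 (iv D47091) (iv D42441) (iv F177127) D47021
def n49210 : Q := act 3 n47022
theorem D49210 : act 3 n47022 = n49210 := rfl
theorem F220342 : act 0 n49210 = n47210 := d2_1 D49210 F220210 F220205
theorem F220343 : act 1 n49210 = n48236 := d10_1 D49210 (iv F217894) F217892
theorem F220344 : act 2 n49210 = n47174 := d17_1 D49210 F211193 F210505 (iv D47039) (iv F210421)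
theorem F220345 : act 4 n49210 = n47173 := d24_2 (iv F210422) D49210 F211190 F210444 (iv D47028)
theorem F220346 : act 5 n49210 = n48234 := d25_2 F220326 D49210 (iv F220324)
theorem F220347 : act 6 n49210 = n47204 := d26_2 (iv F210423) D49210 (iv D47204)
theorem F220348 : act 7 n49210 = n47023 := d27_2 (iv F210424) D49210 (iv D47023)
theorem F220349 : act 8 n49210 = n48266 := d28_2 D47022 D49210 F215857 F210395 F210390
def n49211 : Q := act 9 n47022
theorem D49211 : act 9 n47022 = n49211 := rfl
theorem F220350 : act 1 n49211 = n47789 := d16_1 D49211 (iv F217899) F217892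
theorem F220351 : act 2 n49211 = n47040 := d23_1 D49211 (iv D47040) (iv F210421)
theorem F220352 : act 4 n49211 = n47029 := d34_1 D49211 (iv D47029) (iv F210422)
theorem F220353 : act 6 n49211 = n47205 := d41_1 D49211 (iv D47205) (iv F210423)
theorem F220354 : act 7 n49211 = n47024 := d43_1 D49211 (iv D47024) (iv F210424)
theorem F220355 : act 8 n49211 = n47093 := d44_1 D49211 (iv D47093) (iv D42442) (iv F177131) D47022
def n49212 : Q := act 9 n47023
theorem D49212 : act 9 n47023 = n49212 := rfl
theorem F220356 : act 3 n49212 = n47024 := d29_1 D49212 (iv D47024) D47023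
theorem F220357 : act 6 n49212 = n47027 := d41_1 D49212 (iv D47027) (iv F210425)
def n49213 : Q := act 1 n47025
theorem D49213 : act 1 n47025 = n49213 := rfl
theorem F220358 : act 2 n49213 = n47090 := d9_2 D47025 D49213 F217921 (iv D48796) F208190
theorem F220359 : act 3 n49213 = n47042 := d10_2 (iv F210430) D49213 (iv D47042)
theorem F220360 : act 5 n49213 = n47094 := d12_2 (iv F210431) D49213 F210769
theorem F220361 : act 6 n49213 = n48108 := d13_2 F220232 D49213 (iv F220228)
theorem F220362 : act 7 n49213 = n47209 := d14_2 (iv F210432) D49213 (iv D47209)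
def n49214 : Q := act 9 n47025
theorem D49214 : act 9 n47025 = n49214 := rfl
theorem F220363 : act 2 n49214 = n47027 := d23_1 D49214 (iv D47027) D47025
theorem F220364 : act 3 n49214 = n47043 := d29_1 D49214 (iv D47043) (iv F210430)
theorem F220365 : act 5 n49214 = n48088 := d38_1 D49214 (iv D48088) (iv F210431)
theorem F220366 : act 7 n49214 = n47211 := d43_1 D49214 (iv D47211) (iv F210432)
def n49215 : Q := act 5 n47026
theorem D49215 : act 5 n47026 = n49215 := rfl
theorem F220367 : act 0 n49215 = n48111 := d4_1 D49215 (iv F220231) F220227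
theorem F220368 : act 1 n49215 = n47066 := d12_1 D49215 (iv F217925) F217923
theorem F220369 : act 3 n49215 = n47031 := d25_1 D49215 (iv D47031) (iv F210433)
theorem F220370 : act 4 n49215 = n47053 := d30_1 D49215 F210579 (iv D45009) (iv F177135) D47026
theorem F220371 : act 7 n49215 = n47212 := d36_2 (iv F210434) D49215 (iv D47212)
theorem F220372 : act 6 n48114 = n49215 := d26_0 F220369 (iv F210460) (iv F215388)
def n49216 : Q := act 9 n47026
theorem D49216 : act 9 n47026 = n49216 := rfl
theorem F220373 : act 3 n49216 = n47032 := d29_1 D49216 (iv D47032) (iv F210433)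
theorem F220374 : act 4 n49216 = n47027 := d34_1 D49216 (iv D47027) D47026
theorem F220375 : act 7 n49216 = n47213 := d43_1 D49216 (iv D47213) (iv F210434)
def n49217 : Q := act 8 n47027
theorem D49217 : act 8 n47027 = n49217 := rfl
theorem F220376 : act 3 n49217 = n47102 := d28_1 D49217 (iv D47102) F177436 (iv F177141) (iv F210435)
theorem F220377 : act 5 n49217 = n48090 := d37_1 D49217 (iv D48090) (iv F210436)
theorem F220378 : act 7 n49217 = n47214 := d42_1 D49217 (iv D47214) (iv F210437)
def n49218 : Q := act 9 n47028
theorem D49218 : act 9 n47028 = n49218 := rfl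
theorem F220379 : act 0 n49218 = n47139 := d8_1 D49218 (iv D47139) (iv F210438)
theorem F220380 : act 1 n49218 = n48601 := d16_1 D49218 (iv F217939) F217933
theorem F220381 : act 2 n49218 = n47125 := d23_1 D49218 (iv D47125) (iv F210439)
theorem F220382 : act 3 n49218 = n47029 := d29_1 D49218 (iv D47029) D47028
theorem F220383 : act 4 n49218 = n47189 := d34_1 D49218 (iv D47189) F210444
theorem F220384 : act 5 n49218 = n49218 := d38_1 D49218 (iv D49218) F210440
theorem F220385 : act 6 n49218 = n47215 := d41_1 D49218 (iv D47215) (iv F210441)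
theorem F220386 : act 7 n49218 = n47030 := d43_1 D49218 (iv D47030) (iv F210442)
theorem F220387 : act 8 n48605 = n49218 := d28_0 F220382 F210450 (iv F206487) D46379 D48605
def n49219 : Q := act 8 n47030
theorem D49219 : act 8 n47030 = n49219 := rfl
theorem F220388 : act 1 n49219 = n48580 := d15_1 D49219 F217955 F217949
theorem F220389 : act 3 n49219 = n47104 := d28_1 D49219 (iv D47104) F177452 (iv F177152) (iv F210451)
theorem F220390 : act 5 n49219 = n49219 := d37_1 D49219 (iv D49219) F210452
theorem F220391 : act 6 n49219 = n47033 := d40_1 D49219 (iv D47033) (iv F210453)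
theorem F220392 : act 7 n49219 = n48605 := d42_1 D49219 F220387 F220386
theorem F220393 : act 9 n49219 = n49219 := d44_2 D47030 D49219 (iv D49219) (iv D47030) F177148
def n49220 : Q := act 9 n47031
theorem D49220 : act 9 n47031 = n49220 := rfl
theorem F220394 : act 0 n49220 = n48128 := d8_1 D49220 (iv D48128) (iv F210454)
theorem F220395 : act 1 n49220 = n47071 := d16_1 D49220 (iv D47071) (iv F210455)
theorem F220396 : act 2 n49220 = n48135 := d23_1 D49220 (iv D48135) (iv F210456)
theorem F220397 : act 4 n49220 = n47034 := d34_1 D49220 (iv D47034) (iv F210457)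
theorem F220398 : act 5 n49220 = n47032 := d38_1 D49220 (iv D47032) D47031
theorem F220399 : act 6 n49220 = n48130 := d41_1 D49220 (iv D48130) F210460
theorem F220400 : act 7 n49220 = n47220 := d43_1 D49220 (iv D47220) (iv F210458)
def n49221 : Q := act 8 n47032
theorem D49221 : act 8 n47032 = n49221 := rfl
theorem F220401 : act 4 n49221 = n47033 := d33_1 D49221 (iv D47033) (iv F210461)
theorem F220402 : act 7 n49221 = n47221 := d42_1 D49221 (iv D47221) (iv F210462)
theorem F220403 : act 9 n49221 = n49221 := d44_2 D47032 D49221 (iv D49221) (iv D47032) F177154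
def n49222 : Q := act 8 n47034
theorem D49222 : act 8 n47034 = n49222 := rfl
theorem F220404 : act 0 n49222 = n48584 := d7_1 D49222 (iv D48584) (iv F210467)
theorem F220405 : act 1 n49222 = n47072 := d15_1 D49222 (iv D47072) (iv F210468)
theorem F220406 : act 2 n49222 = n48595 := d22_1 D49222 (iv D48595) (iv F210469)
theorem F220407 : act 5 n49222 = n47035 := d37_1 D49222 (iv D47035) (iv F210471)
theorem F220408 : act 6 n49222 = n48585 := d40_1 D49222 (iv D48585) (iv F210472)
theorem F220409 : act 7 n49222 = n47223 := d42_1 D49222 (iv D47223) (iv F210473)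
theorem F220410 : act 9 n49222 = n49222 := d44_2 D47034 D49222 (iv D49222) (iv D47034) F177160
def n49223 : Q := act 9 n47039
theorem D49223 : act 9 n47039 = n49223 := rfl
theorem F220411 : act 0 n49223 = n47130 := d8_1 D49223 (iv D47130) (iv F210498)
theorem F220412 : act 1 n49223 = n47045 := d16_1 D49223 (iv D47045) (iv F210499)
theorem F220413 : act 2 n49223 = n47179 := d23_1 D49223 (iv D47179) F210505
theorem F220414 : act 3 n49223 = n47040 := d29_1 D49223 (iv D47040) D47039
theorem F220415 : act 4 n49223 = n47121 := d34_1 D49223 (iv D47121) (iv F210500)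
theorem F220416 : act 5 n49223 = n48134 := d38_1 D49223 (iv D48134) (iv F210501)
theorem F220417 : act 6 n49223 = n47230 := d41_1 D49223 (iv D47230) (iv F210502)
theorem F220418 : act 7 n49223 = n47041 := d43_1 D49223 (iv D47041) (iv F210503)
theorem F220419 : act 8 n48196 = n49223 := d28_0 F220414 F210510 F205830 D45288 D48196
def n49224 : Q := act 8 n47041
theorem D49224 : act 8 n47041 = n49224 := rfl
theorem F220420 : act 1 n49224 = n47046 := d15_1 D49224 (iv D47046) (iv F210511)
theorem F220421 : act 3 n49224 = n47112 := d28_1 D49224 (iv D47112) F177509 (iv F177188) (iv F210512)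
theorem F220422 : act 5 n49224 = n48136 := d37_1 D49224 (iv D48136) (iv F210513)
theorem F220423 : act 6 n49224 = n47044 := d40_1 D49224 (iv D47044) (iv F210514)
theorem F220424 : act 7 n49224 = n48196 := d42_1 D49224 F220419 F220418
theorem F220425 : act 9 n49224 = n49224 := d44_2 D47041 D49224 (iv D49224) (iv D47041) F177184
def n49225 : Q := act 9 n47042
theorem D49225 : act 9 n47042 = n49225 := rfl
theorem F220426 : act 1 n49225 = n47043 := d16_1 D49225 (iv D47043) D47042
theorem F220427 : act 2 n49225 = n47048 := d23_1 D49225 (iv D47048) (iv F210515)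
theorem F220428 : act 5 n49225 = n47111 := d38_1 D49225 (iv D47111) (iv F210516)
theorem F220429 : act 6 n49225 = n48125 := d41_1 D49225 (iv D48125) (iv F210517)
theorem F220430 : act 7 n49225 = n47235 := d43_1 D49225 (iv D47235) (iv F210518)
def n49226 : Q := act 8 n47043
theorem D49226 : act 8 n47043 = n49226 := rfl
theorem F220431 : act 2 n49226 = n47044 := d22_1 D49226 (iv D47044) (iv F210520)
theorem F220432 : act 5 n49226 = n48091 := d37_1 D49226 (iv D48091) (iv F210521)
theorem F220433 : act 7 n49226 = n47236 := d42_1 D49226 (iv D47236) (iv F210522)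
theorem F220434 : act 9 n49226 = n49226 := d44_2 D47043 D49226 (iv D49226) (iv D47043) F177191
def n49227 : Q := act 9 n47047
theorem D49227 : act 9 n47047 = n49227 := rfl
theorem F220435 : act 0 n49227 = n47048 := d8_1 D49227 (iv D47048) D47047
theorem F220436 : act 1 n49227 = n49227 := d16_1 D49227 (iv D49227) F210542
theorem F220437 : act 3 n49227 = n47074 := d29_1 D49227 (iv D47074) (iv F210543)
theorem F220438 : act 5 n49227 = n47077 := d38_1 D49227 (iv D47077) (iv F210544)
theorem F220439 : act 6 n49227 = n48101 := d41_1 D49227 (iv D48101) (iv F210545)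
theorem F220440 : act 7 n49227 = n47251 := d43_1 D49227 (iv D47251) (iv F210546)
def n49228 : Q := act 8 n47048
theorem D49228 : act 8 n47048 = n49228 := rfl
theorem F220441 : act 1 n49228 = n47049 := d15_1 D49228 (iv D47049) (iv F210548)
theorem F220442 : act 3 n49228 = n48136 := d28_1 D49228 (iv D48136) (iv F210493) F210497 (iv F210549)
theorem F220443 : act 5 n49228 = n47112 := d37_1 D49228 (iv D47112) (iv F210550)
theorem F220444 : act 6 n49228 = n48127 := d40_1 D49228 (iv D48127) (iv F210551)
theorem F220445 : act 7 n49228 = n47252 := d42_1 D49228 (iv D47252) (iv F210552)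
theorem F220446 : act 9 n49228 = n49228 := d44_2 D47048 D49228 (iv D49228) (iv D47048) F177237
def n49229 : Q := act 3 n47050
theorem D49229 : act 3 n47050 = n49229 := rfl
theorem F220447 : act 0 n49229 = n47766 := d2_1 D49229 F213890 (iv F210560)
theorem F220448 : act 1 n49229 = n47058 := d10_1 D49229 (iv D47058) (iv F210561)
theorem F220449 : act 2 n49229 = n48114 := d17_1 D49229 F215388 F188288 (iv F185123) (iv F210562)
theorem F220450 : act 5 n49229 = n48077 := d25_2 (iv F210564) D49229 (iv D48077)
theorem F220451 : act 7 n49229 = n47258 := d27_2 (iv F210565) D49229 (iv D47258)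
theorem F220452 : act 8 n49229 = n47053 := d28_2 D47050 D49229 (iv D47053) (iv D42404) D42402
def n49230 : Q := act 9 n47050
theorem D49230 : act 9 n47050 = n49230 := rfl
theorem F220453 : act 0 n49230 = n47777 := d8_1 D49230 (iv D47777) (iv F210560)
theorem F220454 : act 1 n49230 = n47059 := d16_1 D49230 (iv D47059) (iv F210561)
theorem F220455 : act 2 n49230 = n47778 := d23_1 D49230 (iv D47778) (iv F210562)
theorem F220456 : act 4 n49230 = n49230 := d34_1 D49230 (iv D49230) F210563
theorem F220457 : act 5 n49230 = n48078 := d38_1 D49230 (iv D48078) (iv F210564)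
theorem F220458 : act 7 n49230 = n47259 := d43_1 D49230 (iv D47259) (iv F210565)
theorem F220459 : act 8 n49230 = n48095 := d44_1 D49230 (iv D48095) (iv D45071) (iv F197110) D47050
def n49231 : Q := act 3 n47052
theorem D49231 : act 3 n47052 = n49231 := rfl
theorem F220460 : act 0 n49231 = n48115 := d2_1 D49231 F215391 (iv F210572)
theorem F220461 : act 1 n49231 = n47063 := d10_1 D49231 (iv D47063) (iv F210573)
theorem F220462 : act 4 n49231 = n48114 := d24_2 (iv F210575) D49231 F215388 F188289 F206360
theorem F220463 : act 6 n49231 = n47053 := d26_2 (iv F210576) D49231 (iv D47053)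
theorem F220464 : act 7 n49231 = n48264 := d27_2 (iv F210577) D49231 F215853
def n49232 : Q := act 9 n47052
theorem D49232 : act 9 n47052 = n49232 := rfl
theorem F220465 : act 0 n49232 = n48581 := d8_1 D49232 (iv D48581) (iv F210572)
theorem F220466 : act 1 n49232 = n47064 := d16_1 D49232 (iv D47064) (iv F210573)
theorem F220467 : act 2 n49232 = n49232 := d23_1 D49232 (iv D49232) F210574
theorem F220468 : act 4 n49232 = n47055 := d34_1 D49232 (iv D47055) (iv F210575)
theorem F220469 : act 6 n49232 = n47054 := d41_1 D49232 (iv D47054) (iv F210576)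
theorem F220470 : act 7 n49232 = n48614 := d43_1 D49232 (iv D48614) (iv F210577)
def n49233 : Q := act 2 n47053
theorem D49233 : act 2 n47053 = n49233 := rfl
theorem F220471 : act 0 n49233 = n48104 := d1_1 D49233 F217985 F217978
theorem F220472 : act 3 n49233 = n49233 := d17_2 D47053 D49233 (iv D49233) (iv D47053) F177255
theorem F220473 : act 5 n49233 = n48087 := d19_2 (iv F210579) D49233 F215300
theorem F220474 : act 7 n49233 = n47265 := d21_2 (iv F210580) D49233 (iv D47265)
theorem F220475 : act 8 n49233 = n48114 := d22_2 F220452 D49233 (iv F220449)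
def n49234 : Q := act 9 n47053
theorem D49234 : act 9 n47053 = n49234 := rfl
theorem F220476 : act 1 n49234 = n47067 := d16_1 D49234 (iv D47067) (iv F210578)
theorem F220477 : act 3 n49234 = n47054 := d29_1 D49234 (iv D47054) D47053
theorem F220478 : act 5 n49234 = n48089 := d38_1 D49234 (iv D48089) (iv F210579)
theorem F220479 : act 7 n49234 = n47266 := d43_1 D49234 (iv D47266) (iv F210580)
def n49235 : Q := act 8 n47056
theorem D49235 : act 8 n47056 = n49235 := rfl
theorem F220480 : act 0 n49235 = n47083 := d7_1 D49235 (iv D47083) (iv F210593)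
theorem F220481 : act 2 n49235 = n49235 := d22_1 D49235 (iv D49235) F210594
theorem F220482 : act 4 n49235 = n49235 := d33_1 D49235 (iv D49235) F210596
theorem F220483 : act 6 n49235 = n47271 := d40_1 D49235 (iv D47271) (iv F210597)
theorem F220484 : act 7 n49235 = n47057 := d42_1 D49235 (iv D47057) D47056
def n49236 : Q := act 3 n47057
theorem D49236 : act 3 n47057 = n49236 := rfl
theorem F220485 : act 0 n49236 = n47084 := d2_1 D49236 (iv D47084) (iv F210598)
theorem F220486 : act 6 n49236 = n47058 := d26_2 (iv F210601) D49236 (iv D47058)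
theorem F220487 : act 8 n49236 = n47063 := d28_2 D47057 D49236 (iv D47063) (iv D42416) (iv F177292)
def n49237 : Q := act 9 n47057
theorem D49237 : act 9 n47057 = n49237 := rfl
theorem F220488 : act 0 n49237 = n47085 := d8_1 D49237 (iv D47085) (iv F210598)
theorem F220489 : act 2 n49237 = n49237 := d23_1 D49237 (iv D49237) F210599
theorem F220490 : act 4 n49237 = n49237 := d34_1 D49237 (iv D49237) F210600
theorem F220491 : act 6 n49237 = n47059 := d41_1 D49237 (iv D47059) (iv F210601)
def n49238 : Q := act 2 n47058
theorem D49238 : act 2 n47058 = n49238 := rfl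
theorem F220492 : act 0 n49238 = n47086 := d1_1 D49238 (iv D47086) (iv F210602)
theorem F220493 : act 3 n49238 = n49238 := d17_2 D47058 D49238 (iv D49238) (iv D47058) F177295
theorem F220494 : act 5 n49238 = n48092 := d19_2 (iv F210603) D49238 (iv D48092)
theorem F220495 : act 7 n49238 = n47274 := d21_2 (iv F210604) D49238 (iv D47274)
theorem F220496 : act 8 n49238 = n47065 := d22_2 (iv F210605) D49238 (iv D47065)
def n49239 : Q := act 4 n47058
theorem D49239 : act 4 n47058 = n49239 := rfl
theorem F220497 : act 0 n49239 = n47087 := d3_1 D49239 (iv D47087) (iv F210602)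
theorem F220498 : act 3 n49239 = n49239 := d24_1 D49239 (iv D49239) (iv D47058) F177296 D47058
theorem F220499 : act 7 n49239 = n47275 := d32_2 (iv F210604) D49239 (iv D47275)
theorem F220500 : act 8 n49239 = n47066 := d33_2 (iv F210605) D49239 (iv D47066)
def n49240 : Q := act 9 n47058
theorem D49240 : act 9 n47058 = n49240 := rfl
theorem F220501 : act 0 n49240 = n47088 := d8_1 D49240 (iv D47088) (iv F210602)
theorem F220502 : act 3 n49240 = n47059 := d29_1 D49240 (iv D47059) D47058
theorem F220503 : act 5 n49240 = n48093 := d38_1 D49240 (iv D48093) (iv F210603)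
theorem F220504 : act 7 n49240 = n47276 := d43_1 D49240 (iv D47276) (iv F210604)
def n49241 : Q := act 6 n47060
theorem D49241 : act 6 n47060 = n49241 := rfl
theorem F220505 : act 0 n49241 = n47089 := d5_1 D49241 (iv D47089) (iv F210611)
theorem F220506 : act 1 n49241 = n47164 := d13_1 D49241 (iv F220169) F220164
theorem F220507 : act 2 n49241 = n47073 := d20_1 D49241 (iv D47073) (iv F210612)
theorem F220508 : act 3 n49241 = n47157 := d26_1 D49241 (iv F220126) F220123
theorem F220509 : act 4 n49241 = n49241 := d31_1 D49241 (iv D49241) F210613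
theorem F220510 : act 5 n49241 = n47277 := d35_1 D49241 (iv D47277) F178209 (iv F177306) (iv F210614)
theorem F220511 : act 7 n49241 = n47154 := d39_2 D47060 D49241 (iv D47154) F197914 (iv F177302)
theorem F220512 : act 9 n49241 = n47256 := d41_2 F220198 D49241 (iv F220197)
def n49242 : Q := act 3 n47061
theorem D49242 : act 3 n47061 = n49242 := rfl
theorem F220513 : act 0 n49242 = n47090 := d2_1 D49242 (iv D47090) (iv F210615)
theorem F220514 : act 5 n49242 = n47063 := d25_2 (iv F210618) D49242 (iv D47063)
theorem F220515 : act 6 n49242 = n48094 := d26_2 (iv F210619) D49242 (iv D48094)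
def n49243 : Q := act 9 n47061
theorem D49243 : act 9 n47061 = n49243 := rfl
theorem F220516 : act 0 n49243 = n47091 := d8_1 D49243 (iv D47091) (iv F210615)
theorem F220517 : act 2 n49243 = n47074 := d23_1 D49243 (iv D47074) (iv F210616)
theorem F220518 : act 4 n49243 = n49243 := d34_1 D49243 (iv D49243) F210617
theorem F220519 : act 5 n49243 = n47064 := d38_1 D49243 (iv D47064) (iv F210618)
theorem F220520 : act 6 n49243 = n48095 := d41_1 D49243 (iv D48095) (iv F210619)
def n49244 : Q := act 3 n47062
theorem D49244 : act 3 n47062 = n49244 := rfl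
theorem F220521 : act 0 n49244 = n47092 := d2_1 D49244 (iv D47092) (iv F210620)
theorem F220522 : act 1 n49244 = n48264 := d10_1 D49244 F215853 (iv F210621)
theorem F220523 : act 2 n49244 = n48179 := d17_1 D49244 F215617 F188712 (iv F205823) (iv F210622)
theorem F220524 : act 4 n49244 = n48214 := d24_2 (iv F210623) D49244 F215723 F189062 (iv F206391)
theorem F220525 : act 6 n49244 = n47281 := d26_2 (iv F210624) D49244 (iv D47281)
theorem F220526 : act 7 n49244 = n47063 := d27_2 (iv F210625) D49244 (iv D47063)
def n49245 : Q := act 9 n47062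
theorem D49245 : act 9 n47062 = n49245 := rfl
theorem F220527 : act 0 n49245 = n47093 := d8_1 D49245 (iv D47093) (iv F210620)
theorem F220528 : act 1 n49245 = n48614 := d16_1 D49245 (iv D48614) (iv F210621)
theorem F220529 : act 2 n49245 = n47075 := d23_1 D49245 (iv D47075) (iv F210622)
theorem F220530 : act 4 n49245 = n47068 := d34_1 D49245 (iv D47068) (iv F210623)
theorem F220531 : act 6 n49245 = n47282 := d41_1 D49245 (iv D47282) (iv F210624)
theorem F220532 : act 7 n49245 = n47064 := d43_1 D49245 (iv D47064) (iv F210625)
def n49246 : Q := act 2 n47063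
theorem D49246 : act 2 n47063 = n49246 := rfl
theorem F220533 : act 0 n49246 = n47094 := d1_1 D49246 (iv D47094) (iv F210626)
theorem F220534 : act 3 n49246 = n47076 := d17_2 D47063 D49246 (iv D47076) (iv D42430) (iv F177308)
theorem F220535 : act 6 n49246 = n47065 := d20_2 (iv F210627) D49246 (iv D47065)
theorem F220536 : act 7 n49246 = n48179 := d21_2 F220526 D49246 (iv F220523)
def n49247 : Q := act 4 n47063
theorem D49247 : act 4 n47063 = n49247 := rfl
theorem F220537 : act 0 n49247 = n47095 := d3_1 D49247 (iv D47095) (iv F210626)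
theorem F220538 : act 1 n49247 = n48114 := d11_1 D49247 (iv F220462) F220461
theorem F220539 : act 3 n49247 = n47069 := d24_1 D49247 (iv D47069) (iv D42420) (iv F177309) D47063
theorem F220540 : act 6 n49247 = n47066 := d31_2 (iv F210627) D49247 (iv D47066)
theorem F220541 : act 7 n49247 = n48214 := d32_2 F220526 D49247 (iv F220524)
def n49248 : Q := act 9 n47063
theorem D49248 : act 9 n47063 = n49248 := rfl
theorem F220542 : act 0 n49248 = n47096 := d8_1 D49248 (iv D47096) (iv F210626)
theorem F220543 : act 3 n49248 = n47064 := d29_1 D49248 (iv D47064) D47063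
theorem F220544 : act 6 n49248 = n47067 := d41_1 D49248 (iv D47067) (iv F210627)
def n49249 : Q := act 1 n47065
theorem D49249 : act 1 n47065 = n49249 := rfl
theorem F220545 : act 3 n49249 = n47078 := d10_2 (iv F210633) D49249 (iv D47078)
theorem F220546 : act 5 n49249 = n47095 := d12_2 (iv F210634) D49249 F210773
theorem F220547 : act 7 n49249 = n47286 := d14_2 (iv F210635) D49249 (iv D47286)
def n49250 : Q := act 4 n47065
theorem D49250 : act 4 n47065 = n49250 := rfl
theorem F220548 : act 0 n49250 = n47098 := d3_1 D49250 (iv D47098) (iv F210632)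
theorem F220549 : act 2 n49250 = n47066 := d18_1 D49250 (iv D47066) D47065
theorem F220550 : act 3 n49250 = n49250 := d24_1 D49250 (iv D49250) F210633 F177383 (iv F210633)
theorem F220551 : act 7 n49250 = n47287 := d32_2 (iv F210635) D49250 (iv D47287)
def n49251 : Q := act 9 n47065
theorem D49251 : act 9 n47065 = n49251 := rfl
theorem F220552 : act 0 n49251 = n47099 := d8_1 D49251 (iv D47099) (iv F210632)
theorem F220553 : act 2 n49251 = n47067 := d23_1 D49251 (iv D47067) D47065
theorem F220554 : act 3 n49251 = n47079 := d29_1 D49251 (iv D47079) (iv F210633)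
theorem F220555 : act 5 n49251 = n48098 := d38_1 D49251 (iv D48098) (iv F210634)
theorem F220556 : act 7 n49251 = n47288 := d43_1 D49251 (iv D47288) (iv F210635)
def n49252 : Q := act 9 n47066
theorem D49252 : act 9 n47066 = n49252 := rfl
theorem F220557 : act 0 n49252 = n47101 := d8_1 D49252 (iv D47101) (iv F210636)
theorem F220558 : act 3 n49252 = n47071 := d29_1 D49252 (iv D47071) (iv F210637)
theorem F220559 : act 4 n49252 = n47067 := d34_1 D49252 (iv D47067) D47066
theorem F220560 : act 7 n49252 = n47289 := d43_1 D49252 (iv D47289) (iv F210638)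
def n49253 : Q := act 8 n47067
theorem D49253 : act 8 n47067 = n49253 := rfl
theorem F220561 : act 0 n49253 = n47102 := d7_1 D49253 (iv D47102) (iv F210639)
theorem F220562 : act 5 n49253 = n48099 := d37_1 D49253 (iv D48099) (iv F210641)
theorem F220563 : act 7 n49253 = n47290 := d42_1 D49253 (iv D47290) (iv F210642)
def n49254 : Q := act 5 n47069
theorem D49254 : act 5 n47069 = n49254 := rfl
theorem F220564 : act 0 n49254 = n47078 := d4_1 D49254 F210702 (iv F210650)
theorem F220565 : act 1 n49254 = n47113 := d12_1 D49254 F210851 (iv F210651)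
theorem F220566 : act 2 n49254 = n49254 := d19_1 D49254 (iv D49254) F210652
theorem F220567 : act 4 n49254 = n49254 := d30_1 D49254 (iv D49254) (iv D47069) F177326 D47069
theorem F220568 : act 6 n49254 = n48081 := d35_2 (iv F210653) D49254 F217947 F217944 F208223
theorem F220569 : act 7 n49254 = n47308 := d36_2 (iv F210654) D49254 F211746
theorem F220570 : act 8 n49254 = n49254 := d37_2 F210655 D49254 (iv D49254)
def n49255 : Q := act 9 n47069
theorem D49255 : act 9 n47069 = n49255 := rfl
theorem F220571 : act 0 n49255 = n47103 := d8_1 D49255 (iv D47103) (iv F210650)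
theorem F220572 : act 1 n49255 = n48130 := d16_1 D49255 (iv D48130) (iv F210651)
theorem F220573 : act 2 n49255 = n49255 := d23_1 D49255 (iv D49255) F210652
theorem F220574 : act 4 n49255 = n47070 := d34_1 D49255 (iv D47070) D47069
theorem F220575 : act 6 n49255 = n47071 := d41_1 D49255 (iv D47071) (iv F210653)
theorem F220576 : act 7 n49255 = n48225 := d43_1 D49255 (iv D48225) (iv F210654)
def n49256 : Q := act 8 n47070
theorem D49256 : act 8 n47070 = n49256 := rfl
theorem F220577 : act 0 n49256 = n47104 := d7_1 D49256 (iv D47104) (iv F210656)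
theorem F220578 : act 1 n49256 = n48585 := d15_1 D49256 (iv D48585) (iv F210657)
theorem F220579 : act 2 n49256 = n49256 := d22_1 D49256 (iv D49256) F210658
theorem F220580 : act 5 n49256 = n49256 := d37_1 D49256 (iv D49256) F210660
theorem F220581 : act 6 n49256 = n47072 := d40_1 D49256 (iv D47072) (iv F210661)
theorem F220582 : act 7 n49256 = n48604 := d42_1 D49256 (iv D48604) (iv F210662)
theorem F220583 : act 9 n49256 = n49256 := d44_2 D47070 D49256 (iv D49256) (iv D47070) F177328
def n49257 : Q := act 8 n47071
theorem D49257 : act 8 n47071 = n49257 := rfl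
theorem F220584 : act 0 n49257 = n47107 := d7_1 D49257 (iv D47107) (iv F210663)
theorem F220585 : act 2 n49257 = n49257 := d22_1 D49257 (iv D49257) F210664
theorem F220586 : act 4 n49257 = n47072 := d33_1 D49257 (iv D47072) (iv F210665)
theorem F220587 : act 7 n49257 = n47296 := d42_1 D49257 (iv D47296) (iv F210666)
theorem F220588 : act 9 n49257 = n49257 := d44_2 D47071 D49257 (iv D49257) (iv D47071) F177336
def n49258 : Q := act 1 n47076
theorem D49258 : act 1 n47076 = n49258 := rfl
theorem F220589 : act 0 n49258 = n48081 := d0_1 D49258 (iv D48081) F187725 (iv F206138) (iv F210689)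
theorem F220590 : act 2 n49258 = n49258 := d9_2 D47076 D49258 (iv D49258) (iv D47076) F177374
theorem F220591 : act 4 n49258 = n49258 := d11_2 F210690 D49258 (iv D49258)
theorem F220592 : act 5 n49258 = n47105 := d12_2 F218108 D49258 (iv F218105)
theorem F220593 : act 6 n49258 = n47078 := d13_2 (iv F210691) D49258 (iv D47078)
theorem F220594 : act 7 n49258 = n48157 := d14_2 (iv F210692) D49258 F215559
theorem F220595 : act 8 n49258 = n49258 := d15_2 F210693 D49258 (iv D49258)
def n49259 : Q := act 9 n47076
theorem D49259 : act 9 n47076 = n49259 := rfl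
theorem F220596 : act 0 n49259 = n47111 := d8_1 D49259 (iv D47111) (iv F210689)
theorem F220597 : act 2 n49259 = n47077 := d23_1 D49259 (iv D47077) D47076
theorem F220598 : act 4 n49259 = n49259 := d34_1 D49259 (iv D49259) F210690
theorem F220599 : act 6 n49259 = n47079 := d41_1 D49259 (iv D47079) (iv F210691)
theorem F220600 : act 7 n49259 = n48191 := d43_1 D49259 (iv D48191) (iv F210692)
def n49260 : Q := act 8 n47077
theorem D49260 : act 8 n47077 = n49260 := rfl
theorem F220601 : act 0 n49260 = n47112 := d7_1 D49260 (iv D47112) (iv F210694)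
theorem F220602 : act 1 n49260 = n49260 := d15_1 D49260 (iv D49260) F210695
theorem F220603 : act 4 n49260 = n49260 := d33_1 D49260 (iv D49260) F210697
theorem F220604 : act 6 n49260 = n47080 := d40_1 D49260 (iv D47080) (iv F210698)
theorem F220605 : act 7 n49260 = n48195 := d42_1 D49260 (iv D48195) (iv F210699)
theorem F220606 : act 9 n49260 = n49260 := d44_2 D47077 D49260 (iv D49260) (iv D47077) F177377
def n49261 : Q := act 9 n47078
theorem D49261 : act 9 n47078 = n49261 := rfl
theorem F220607 : act 1 n49261 = n47079 := d16_1 D49261 (iv D47079) D47078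
theorem F220608 : act 2 n49261 = n49261 := d23_1 D49261 (iv D49261) F210700
theorem F220609 : act 4 n49261 = n49261 := d34_1 D49261 (iv D49261) F210701
theorem F220610 : act 5 n49261 = n47103 := d38_1 D49261 (iv D47103) (iv F210702)
theorem F220611 : act 7 n49261 = n47309 := d43_1 D49261 (iv D47309) (iv F210703)
def n49262 : Q := act 8 n47079
theorem D49262 : act 8 n47079 = n49262 := rfl
theorem F220612 : act 0 n49262 = n47115 := d7_1 D49262 (iv D47115) (iv F210705)
theorem F220613 : act 2 n49262 = n47080 := d22_1 D49262 (iv D47080) (iv F210706)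
theorem F220614 : act 4 n49262 = n49262 := d33_1 D49262 (iv D49262) F210707
theorem F220615 : act 5 n49262 = n48103 := d37_1 D49262 (iv D48103) (iv F210708)
theorem F220616 : act 7 n49262 = n47310 := d42_1 D49262 (iv D47310) (iv F210709)
theorem F220617 : act 9 n49262 = n49262 := d44_2 D47079 D49262 (iv D49262) (iv D47079) F177386
def n49263 : Q := act 8 n47081
theorem D49263 : act 8 n47081 = n49263 := rfl
theorem F220618 : act 1 n49263 = n48123 := d15_1 D49263 F215414 (iv F210716)
theorem F220619 : act 2 n49263 = n49263 := d22_1 D49263 (iv D49263) F210717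
theorem F220620 : act 4 n49263 = n47773 := d33_1 D49263 F213921 (iv F210719)
theorem F220621 : act 5 n49263 = n47083 := d37_1 D49263 (iv D47083) (iv F210720)
theorem F220622 : act 6 n49263 = n47838 := d40_1 D49263 F214209 (iv F210721)
theorem F220623 : act 7 n49263 = n47082 := d42_1 D49263 (iv D47082) D47081
theorem F220624 : act 9 n49263 = n48617 := d44_2 (iv F210722) D49263 (iv D48617) (iv D46397) (iv F207015)
def n49264 : Q := act 3 n47082
theorem D49264 : act 3 n47082 = n49264 := rfl
theorem F220625 : act 1 n49264 = n48120 := d10_1 D49264 F215405 (iv F210723)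
theorem F220626 : act 5 n49264 = n47084 := d25_2 (iv F210726) D49264 (iv D47084)
theorem F220627 : act 6 n49264 = n47769 := d26_2 (iv F210727) D49264 F213902
theorem F220628 : act 8 n49264 = n47090 := d28_2 D47082 D49264 (iv D47090) (iv D42441) (iv F177400)
def n49265 : Q := act 9 n47082
theorem D49265 : act 9 n47082 = n49265 := rfl
theorem F220629 : act 1 n49265 = n48124 := d16_1 D49265 (iv D48124) (iv F210723)
theorem F220630 : act 2 n49265 = n49265 := d23_1 D49265 (iv D49265) F210724
theorem F220631 : act 4 n49265 = n47774 := d34_1 D49265 (iv D47774) (iv F210725)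
theorem F220632 : act 5 n49265 = n47085 := d38_1 D49265 (iv D47085) (iv F210726)
theorem F220633 : act 6 n49265 = n47772 := d41_1 D49265 (iv D47772) (iv F210727)
theorem F220634 : act 7 n49265 = n48617 := d43_1 D49265 (iv F220624) F220623
theorem F220635 : act 8 n49265 = n48581 := d44_1 D49265 (iv D48581) F208279 F208277 D47082
def n49266 : Q := act 3 n47083
theorem D49266 : act 3 n47083 = n49266 := rfl
theorem F220636 : act 1 n49266 = n47782 := d10_1 D49266 (iv F218036) F218034
theorem F220637 : act 6 n49266 = n47317 := d26_2 (iv F210730) D49266 (iv D47317)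
theorem F220638 : act 7 n49266 = n47084 := d27_2 (iv F210731) D49266 (iv D47084)
theorem F220639 : act 8 n49266 = n47092 := d28_2 D47083 D49266 (iv D47092) (iv D42442) (iv F177403)
theorem F220640 : act 2 n49266 = n48164 := d46_4 D49263 F220621 F210729 D49266 (iv D48164) (iv F211864) F211868 (iv F211191) (iv F220345) (iv D49210) F210421 F177178 F123543 (iv D29099) (iv F123537) F123536 F123535 (iv F205802) F206511 F206514 (iv F213799) F213796 F206874 F134598 (iv F188233) (iv F213917) (iv F220148) (iv D49179) F210268 (iv F220124) F220123 F210612 F177359 F177358 (iv F205829) F205827 F123728 F86478 (iv F123688) F205399 F94173 (iv F94291) F94290 D32015 D46383 F207022 (iv F206511) F174842 F206214 (iv F206134) F175205 F122197 F122196 (iv F123526) (iv F177106) (iv D42366) F123458 (iv F177088) F177087 (iv F210303) (iv F220121) F220120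
theorem F220641 : act 4 n48202 = n49266 := d33_3 F220639 F210761 (iv F215687)
def n49267 : Q := act 9 n47083
theorem D49267 : act 9 n47083 = n49267 := rfl
theorem F220642 : act 1 n49267 = n48620 := d16_1 D49267 (iv F218041) F218034
theorem F220643 : act 2 n49267 = n49267 := d23_1 D49267 (iv D49267) F210728
theorem F220644 : act 4 n49267 = n49267 := d34_1 D49267 (iv D49267) F210729
theorem F220645 : act 5 n49267 = n48617 := d38_1 D49267 (iv F220624) F220621
theorem F220646 : act 6 n49267 = n47318 := d41_1 D49267 (iv D47318) (iv F210730)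
theorem F220647 : act 7 n49267 = n47085 := d43_1 D49267 (iv D47085) (iv F210731)
theorem F220648 : act 8 n49267 = n48616 := d44_1 D49267 (iv D48616) F210395 F210394 D47083
def n49268 : Q := act 2 n47084
theorem D49268 : act 2 n47084 = n49268 := rfl
theorem F220649 : act 1 n49268 = n48084 := d9_1 D49268 (iv D48084) (iv F213802) (iv F218044) F218043
theorem F220650 : act 3 n49268 = n49268 := d17_2 D47084 D49268 (iv D49268) (iv D47084) F177406
theorem F220651 : act 6 n49268 = n47086 := d20_2 (iv F210732) D49268 (iv D47086)
theorem F220652 : act 7 n49268 = n48164 := d21_2 F220638 D49268 (iv F220640)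
theorem F220653 : act 8 n49268 = n47094 := d22_2 (iv F210733) D49268 (iv D47094)
def n49269 : Q := act 4 n47084
theorem D49269 : act 4 n47084 = n49269 := rfl
theorem F220654 : act 1 n49269 = n48092 := d11_1 D49269 F218049 F218043
theorem F220655 : act 3 n49269 = n49269 := d24_1 D49269 (iv D49269) (iv D47084) F177407 D47084
theorem F220656 : act 6 n49269 = n47087 := d31_2 (iv F210732) D49269 (iv D47087)
theorem F220657 : act 7 n49269 = n48202 := d32_2 F220638 D49269 F220641
theorem F220658 : act 8 n49269 = n47095 := d33_2 (iv F210733) D49269 (iv D47095)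
def n49270 : Q := act 9 n47084
theorem D49270 : act 9 n47084 = n49270 := rfl
theorem F220659 : act 3 n49270 = n47085 := d29_1 D49270 (iv D47085) D47084
theorem F220660 : act 6 n49270 = n47088 := d41_1 D49270 (iv D47088) (iv F210732)
def n49271 : Q := act 1 n47086
theorem D49271 : act 1 n47086 = n49271 := rfl
theorem F220661 : act 2 n49271 = n47754 := d9_2 D47086 D49271 F213820 (iv F208354) F208353
theorem F220662 : act 3 n49271 = n49271 := d10_2 F210737 D49271 (iv D49271)
theorem F220663 : act 5 n49271 = n48104 := d12_2 (iv F210738) D49271 (iv D48104)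
theorem F220664 : act 6 n49271 = n48084 := d13_2 F220651 D49271 (iv F220649)
theorem F220665 : act 7 n49271 = n47322 := d14_2 (iv F210739) D49271 (iv D47322)
theorem F220666 : act 8 n49271 = n47097 := d15_2 (iv F210740) D49271 (iv D47097)
theorem F220667 : act 0 n48087 = n49271 := d6_3 F220665 (iv F211800) (iv F215302)
theorem F220668 : act 4 n48079 = n49271 := d32_3 F220665 F211801 (iv F215275)
def n49272 : Q := act 4 n47086
theorem D49272 : act 4 n47086 = n49272 := rfl
theorem F220669 : act 1 n49272 = n48079 := d11_1 D49272 F220668 (iv D49271)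
theorem F220670 : act 2 n49272 = n47087 := d18_1 D49272 (iv D47087) D47086
theorem F220671 : act 7 n49272 = n47323 := d32_2 (iv F210739) D49272 (iv D47323)
theorem F220672 : act 8 n49272 = n47098 := d33_2 (iv F210740) D49272 (iv D47098)
theorem F220673 : act 3 n48081 = n49272 := d27_3 F220671 (iv F211805) (iv F215281)
def n49273 : Q := act 9 n47086
theorem D49273 : act 9 n47086 = n49273 := rfl
theorem F220674 : act 2 n49273 = n47088 := d23_1 D49273 (iv D47088) D47086
theorem F220675 : act 3 n49273 = n49273 := d29_1 D49273 (iv D49273) F210737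
theorem F220676 : act 5 n49273 = n48105 := d38_1 D49273 (iv D48105) (iv F210738)
theorem F220677 : act 7 n49273 = n47324 := d43_1 D49273 (iv D47324) (iv F210739)
def n49274 : Q := act 5 n47087
theorem D49274 : act 5 n47087 = n49274 := rfl
theorem F220678 : act 1 n49274 = n48109 := d12_1 D49274 (iv F218062) F218059
theorem F220679 : act 3 n49274 = n49274 := d25_1 D49274 (iv D49274) F210741
theorem F220680 : act 4 n49274 = n47762 := d30_1 D49274 F213870 F201802 (iv F177409) D47087
theorem F220681 : act 7 n49274 = n47325 := d36_2 (iv F210742) D49274 (iv D47325)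
theorem F220682 : act 8 n49274 = n47100 := d37_2 (iv F210743) D49274 (iv D47100)
def n49275 : Q := act 9 n47087
theorem D49275 : act 9 n47087 = n49275 := rfl
theorem F220683 : act 3 n49275 = n49275 := d29_1 D49275 (iv D49275) F210741
theorem F220684 : act 4 n49275 = n47088 := d34_1 D49275 (iv D47088) D47087
theorem F220685 : act 7 n49275 = n47326 := d43_1 D49275 (iv D47326) (iv F210742)
def n49276 : Q := act 8 n47088
theorem D49276 : act 8 n47088 = n49276 := rfl
theorem F220686 : act 5 n49276 = n48106 := d37_1 D49276 (iv D48106) (iv F210745)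
theorem F220687 : act 7 n49276 = n47327 := d42_1 D49276 (iv D47327) (iv F210746)
theorem F220688 : act 9 n49276 = n47102 := d44_2 D47088 D49276 (iv D47102) (iv D42447) (iv F177411)
def n49277 : Q := act 4 n47090
theorem D49277 : act 4 n47090 = n49277 := rfl
theorem F220689 : act 3 n49277 = n49277 := d24_1 D49277 (iv D49277) (iv D47090) F177420 D47090
theorem F220690 : act 6 n49277 = n48109 := d31_2 (iv F210754) D49277 (iv D48109)
def n49278 : Q := act 9 n47090
theorem D49278 : act 9 n47090 = n49278 := rfl
theorem F220691 : act 3 n49278 = n47091 := d29_1 D49278 (iv D47091) D47090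
theorem F220692 : act 5 n49278 = n47096 := d38_1 D49278 (iv D47096) (iv F210753)
theorem F220693 : act 6 n49278 = n48110 := d41_1 D49278 (iv D48110) (iv F210754)
def n49279 : Q := act 9 n47092
theorem D49279 : act 9 n47092 = n49279 := rfl
theorem F220694 : act 1 n49279 = n47787 := d16_1 D49279 (iv D47787) (iv F210759)
theorem F220695 : act 2 n49279 = n48181 := d23_1 D49279 (iv D48181) (iv F210760)
theorem F220696 : act 3 n49279 = n47093 := d29_1 D49279 (iv D47093) D47092
theorem F220697 : act 4 n49279 = n48215 := d34_1 D49279 (iv D48215) (iv F210761)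
theorem F220698 : act 6 n49279 = n47336 := d41_1 D49279 (iv D47336) (iv F210762)
theorem F220699 : act 7 n49279 = n47096 := d43_1 D49279 (iv D47096) (iv F210763)
def n49280 : Q := act 4 n47094
theorem D49280 : act 4 n47094 = n49280 := rfl
theorem F220700 : act 1 n49280 = n48087 := d11_1 D49280 (iv D48087) (iv F210769)
theorem F220701 : act 2 n49280 = n47095 := d18_1 D49280 (iv D47095) D47094
theorem F220702 : act 3 n49280 = n49280 := d24_1 D49280 (iv D49280) F210770 F177505 (iv F210770)
theorem F220703 : act 6 n49280 = n47098 := d31_2 (iv F210771) D49280 (iv D47098)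
theorem F220704 : act 7 n49280 = n48180 := d32_2 (iv F210772) D49280 (iv D48180)
def n49281 : Q := act 9 n47094
theorem D49281 : act 9 n47094 = n49281 := rfl
theorem F220705 : act 1 n49281 = n48088 := d16_1 D49281 (iv D48088) (iv F210769)
theorem F220706 : act 2 n49281 = n47096 := d23_1 D49281 (iv D47096) D47094
theorem F220707 : act 3 n49281 = n47111 := d29_1 D49281 (iv D47111) (iv F210770)
theorem F220708 : act 6 n49281 = n47099 := d41_1 D49281 (iv D47099) (iv F210771)
theorem F220709 : act 7 n49281 = n48181 := d43_1 D49281 (iv D48181) (iv F210772)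
def n49282 : Q := act 9 n47095
theorem D49282 : act 9 n47095 = n49282 := rfl
theorem F220710 : act 1 n49282 = n48098 := d16_1 D49282 (iv D48098) (iv F210773)
theorem F220711 : act 3 n49282 = n47103 := d29_1 D49282 (iv D47103) (iv F210774)
theorem F220712 : act 4 n49282 = n47096 := d34_1 D49282 (iv D47096) D47095
theorem F220713 : act 6 n49282 = n47101 := d41_1 D49282 (iv D47101) (iv F210775)
theorem F220714 : act 7 n49282 = n48215 := d43_1 D49282 (iv D48215) (iv F210776)
def n49283 : Q := act 8 n47096
theorem D49283 : act 8 n47096 = n49283 := rfl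
theorem F220715 : act 6 n49283 = n47102 := d40_1 D49283 (iv D47102) (iv F210778)
def n49284 : Q := act 0 n47097
theorem D49284 : act 0 n47097 = n49284 := rfl
theorem F220716 : act 2 n49284 = n48077 := d1_2 (iv F210779) D49284 F215260
theorem F220717 : act 3 n49284 = n47113 := d2_2 (iv F210780) D49284 (iv D47113)
theorem F220718 : act 5 n49284 = n48114 := d4_2 (iv F210781) D49284 (iv D48114)
theorem F220719 : act 6 n49284 = n48079 := d5_2 (iv F210782) D49284 F215273
theorem F220720 : act 7 n49284 = n47343 := d6_2 (iv F210783) D49284 (iv D47343)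
theorem F220721 : act 8 n49284 = n48087 := d7_2 F220666 D49284 F220667
theorem F220722 : act 4 n48084 = n49284 := d33_3 F220721 (iv D48087) (iv F215295)
def n49285 : Q := act 4 n47097
theorem D49285 : act 4 n47097 = n49285 := rfl
theorem F220723 : act 0 n49285 = n48084 := d3_1 D49285 F220722 (iv D49284)
theorem F220724 : act 1 n49285 = n47098 := d11_1 D49285 (iv D47098) D47097
theorem F220725 : act 2 n49285 = n48075 := d18_1 D49285 F215249 (iv F210779)
theorem F220726 : act 3 n49285 = n49285 := d24_1 D49285 (iv D49285) F210780 F177513 (iv F210780)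
theorem F220727 : act 6 n49285 = n48087 := d31_2 (iv F210782) D49285 (iv D48087)
theorem F220728 : act 7 n49285 = n47344 := d32_2 (iv F210783) D49285 (iv D47344)
theorem F220729 : act 8 n49285 = n48079 := d33_2 F220666 D49285 F220668
def n49286 : Q := act 9 n47097
theorem D49286 : act 9 n47097 = n49286 := rfl
theorem F220730 : act 1 n49286 = n47099 := d16_1 D49286 (iv D47099) D47097
theorem F220731 : act 2 n49286 = n48086 := d23_1 D49286 (iv D48086) (iv F210779)
theorem F220732 : act 3 n49286 = n47114 := d29_1 D49286 (iv D47114) (iv F210780)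
theorem F220733 : act 5 n49286 = n48116 := d38_1 D49286 (iv D48116) (iv F210781)
theorem F220734 : act 6 n49286 = n48088 := d41_1 D49286 (iv D48088) (iv F210782)
theorem F220735 : act 7 n49286 = n47345 := d43_1 D49286 (iv D47345) (iv F210783)
def n49287 : Q := act 5 n47098
theorem D49287 : act 5 n47098 = n49287 := rfl
theorem F220736 : act 2 n49287 = n47100 := d19_1 D49287 (iv D47100) (iv F210784)
theorem F220737 : act 3 n49287 = n49287 := d25_1 D49287 (iv D49287) F210785
theorem F220738 : act 4 n49287 = n48117 := d30_1 D49287 (iv D48117) (iv D45118) (iv F177432) D47098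
theorem F220739 : act 7 n49287 = n47346 := d36_2 (iv F210786) D49287 (iv D47346)
def n49288 : Q := act 9 n47098
theorem D49288 : act 9 n47098 = n49288 := rfl
theorem F220740 : act 2 n49288 = n47101 := d23_1 D49288 (iv D47101) (iv F210784)
theorem F220741 : act 3 n49288 = n49288 := d29_1 D49288 (iv D49288) F210785
theorem F220742 : act 4 n49288 = n47099 := d34_1 D49288 (iv D47099) D47098
theorem F220743 : act 7 n49288 = n47347 := d43_1 D49288 (iv D47347) (iv F210786)
def n49289 : Q := act 8 n47099
theorem D49289 : act 8 n47099 = n49289 := rfl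
theorem F220744 : act 2 n49289 = n47102 := d22_1 D49289 (iv D47102) (iv F210787)
theorem F220745 : act 5 n49289 = n48119 := d37_1 D49289 (iv D48119) (iv F210789)
theorem F220746 : act 7 n49289 = n47348 := d42_1 D49289 (iv D47348) (iv F210790)
def n49290 : Q := act 6 n47100
theorem D49290 : act 6 n47100 = n49290 := rfl
theorem F220747 : act 3 n49290 = n47105 := d26_1 D49290 (iv D47105) (iv F210791)
theorem F220748 : act 4 n49290 = n48120 := d31_1 D49290 (iv D48120) (iv F210792)
def n49291 : Q := act 9 n47100
theorem D49291 : act 9 n47100 = n49291 := rfl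
theorem F220749 : act 3 n49291 = n47106 := d29_1 D49291 (iv D47106) (iv F210791)
theorem F220750 : act 4 n49291 = n48121 := d34_1 D49291 (iv D48121) (iv F210792)
theorem F220751 : act 5 n49291 = n47101 := d38_1 D49291 (iv D47101) D47100
theorem F220752 : act 7 n49291 = n47350 := d43_1 D49291 (iv D47350) (iv F210793)
def n49292 : Q := act 8 n47101
theorem D49292 : act 8 n47101 = n49292 := rfl
theorem F220753 : act 4 n49292 = n47102 := d33_1 D49292 (iv D47102) (iv F210795)
theorem F220754 : act 7 n49292 = n47351 := d42_1 D49292 (iv D47351) (iv F210796)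
def n49293 : Q := act 8 n47103
theorem D49293 : act 8 n47103 = n49293 := rfl
theorem F220755 : act 1 n49293 = n48103 := d15_1 D49293 (iv D48103) (iv F210799)
theorem F220756 : act 2 n49293 = n49293 := d22_1 D49293 (iv D49293) F210800
theorem F220757 : act 4 n49293 = n47104 := d33_1 D49293 (iv D47104) (iv F210801)
theorem F220758 : act 6 n49293 = n47107 := d40_1 D49293 (iv D47107) (iv F210802)
theorem F220759 : act 7 n49293 = n48226 := d42_1 D49293 (iv D48226) (iv F210803)
theorem F220760 : act 9 n49293 = n49293 := d44_2 D47103 D49293 (iv D49293) (iv D47103) F177450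
def n49294 : Q := act 7 n47105
theorem D49294 : act 7 n47105 = n49294 := rfl
theorem F220761 : act 0 n49294 = n47188 := d6_1 D49294 (iv F217945) F217941
theorem F220762 : act 1 n49294 = n47234 := d14_1 D49294 F218110 F218105
theorem F220763 : act 2 n49294 = n49294 := d21_1 D49294 (iv D49294) F210810
theorem F220764 : act 4 n49294 = n47108 := d32_1 D49294 (iv D47108) (iv F210811)
theorem F220765 : act 5 n49294 = n48157 := d36_1 D49294 (iv F220594) F220592
theorem F220766 : act 6 n49294 = n47358 := d39_1 D49294 (iv D47358) (iv D42701) (iv F177457) D47105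
theorem F220767 : act 8 n49294 = n49294 := d42_2 F210812 D49294 (iv D49294)
theorem F220768 : act 9 n48622 = n49294 := d34_0 F220764 (iv F210826) D48622
def n49295 : Q := act 9 n47105
theorem D49295 : act 9 n47105 = n49295 := rfl
theorem F220769 : act 2 n49295 = n49295 := d23_1 D49295 (iv D49295) F210810
theorem F220770 : act 4 n49295 = n47109 := d34_1 D49295 (iv D47109) (iv F210811)
theorem F220771 : act 6 n49295 = n47106 := d41_1 D49295 (iv D47106) D47105
theorem F220772 : act 7 n49295 = n48622 := d43_1 D49295 F220768 (iv D49294)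
theorem F220773 : act 8 n48587 = n49295 := d42_0 F220772 F217060 (iv F216920)
def n49296 : Q := act 8 n47106
theorem D49296 : act 8 n47106 = n49296 := rfl
theorem F220774 : act 2 n49296 = n49296 := d22_1 D49296 (iv D49296) F210813
theorem F220775 : act 4 n49296 = n47110 := d33_1 D49296 (iv D47110) (iv F210814)
theorem F220776 : act 5 n49296 = n47107 := d37_1 D49296 (iv D47107) (iv F210815)
theorem F220777 : act 6 n49296 = n48587 := d40_1 D49296 F220773 F220771
theorem F220778 : act 7 n49296 = n47360 := d42_1 D49296 (iv D47360) (iv F210816)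
theorem F220779 : act 9 n49296 = n49296 := d44_2 D47106 D49296 (iv D49296) (iv D47106) F177458
def n49297 : Q := act 3 n47107
theorem D49297 : act 3 n47107 = n49297 := rfl
theorem F220780 : act 7 n49297 = n47361 := d27_2 (iv F210819) D49297 (iv D47361)
theorem F220781 : act 9 n49297 = n49297 := d29_2 F210820 D49297 (iv D49297)
def n49298 : Q := act 8 n47111
theorem D49298 : act 8 n47111 = n49298 := rfl
theorem F220782 : act 1 n49298 = n48091 := d15_1 D49298 (iv D48091) (iv F210839)
theorem F220783 : act 2 n49298 = n47112 := d22_1 D49298 (iv D47112) (iv F210840)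
theorem F220784 : act 4 n49298 = n49298 := d33_1 D49298 (iv D49298) F210841
theorem F220785 : act 6 n49298 = n47115 := d40_1 D49298 (iv D47115) (iv F210842)
theorem F220786 : act 7 n49298 = n48192 := d42_1 D49298 (iv D48192) (iv F210843)
theorem F220787 : act 9 n49298 = n49298 := d44_2 D47111 D49298 (iv D49298) (iv D47111) F177507
def n49299 : Q := act 9 n47113
theorem D49299 : act 9 n47113 = n49299 := rfl
theorem F220788 : act 0 n49299 = n47114 := d8_1 D49299 (iv D47114) D47113
theorem F220789 : act 2 n49299 = n47116 := d23_1 D49299 (iv D47116) (iv F210849)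
theorem F220790 : act 4 n49299 = n49299 := d34_1 D49299 (iv D49299) F210850
theorem F220791 : act 5 n49299 = n48130 := d38_1 D49299 (iv D48130) (iv F210851)
theorem F220792 : act 6 n49299 = n48082 := d41_1 D49299 (iv D48082) (iv F210852)
theorem F220793 : act 7 n49299 = n47378 := d43_1 D49299 (iv D47378) (iv F210853)
def n49300 : Q := act 8 n47114
theorem D49300 : act 8 n47114 = n49300 := rfl
theorem F220794 : act 1 n49300 = n47115 := d15_1 D49300 (iv D47115) (iv F210855)
theorem F220795 : act 2 n49300 = n47117 := d22_1 D49300 (iv D47117) (iv F210856)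
theorem F220796 : act 4 n49300 = n49300 := d33_1 D49300 (iv D49300) F210857
theorem F220797 : act 5 n49300 = n48131 := d37_1 D49300 (iv D48131) (iv F210858)
theorem F220798 : act 6 n49300 = n48091 := d40_1 D49300 (iv D48091) (iv F210859)
theorem F220799 : act 7 n49300 = n47379 := d42_1 D49300 (iv D47379) (iv F210860)
theorem F220800 : act 9 n49300 = n49300 := d44_2 D47114 D49300 (iv D49300) (iv D47114) F177516
def n49301 : Q := act 3 n47115
theorem D49301 : act 3 n47115 = n49301 := rfl
theorem F220801 : act 5 n49301 = n48132 := d25_2 (iv F210863) D49301 (iv D48132)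
theorem F220802 : act 7 n49301 = n47380 := d27_2 (iv F210864) D49301 (iv D47380)
theorem F220803 : act 9 n49301 = n49301 := d29_2 F210865 D49301 (iv D49301)
def n49302 : Q := act 8 n47116
theorem D49302 : act 8 n47116 = n49302 := rfl
theorem F220804 : act 0 n49302 = n47117 := d7_1 D49302 (iv D47117) (iv F210866)
theorem F220805 : act 1 n49302 = n49302 := d15_1 D49302 (iv D49302) F210867
theorem F220806 : act 3 n49302 = n48102 := d28_1 D49302 (iv D48102) F188125 (iv F187724) (iv F210868)
theorem F220807 : act 4 n49302 = n49302 := d33_1 D49302 (iv D49302) F210869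
theorem F220808 : act 5 n49302 = n48137 := d37_1 D49302 (iv D48137) (iv F210870)
theorem F220809 : act 6 n49302 = n48083 := d40_1 D49302 (iv D48083) (iv F210871)
theorem F220810 : act 7 n49302 = n47391 := d42_1 D49302 (iv D47391) (iv F210872)
theorem F220811 : act 9 n49302 = n49302 := d44_2 D47116 D49302 (iv D49302) (iv D47116) F177577
def n49303 : Q := act 8 n47118
theorem D49303 : act 8 n47118 = n49303 := rfl
theorem F220812 : act 0 n49303 = n49303 := d7_1 D49303 (iv D49303) F210880
theorem F220813 : act 1 n49303 = n47122 := d15_1 D49303 (iv D47122) (iv F210881)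
theorem F220814 : act 2 n49303 = n48321 := d22_1 D49303 F216048 (iv F210882)
theorem F220815 : act 3 n49303 = n49303 := d28_1 D49303 (iv D49303) F210883 F177612 (iv F210883)
theorem F220816 : act 4 n49303 = n48588 := d33_1 D49303 (iv D48588) (iv F210884)
theorem F220817 : act 5 n49303 = n48197 := d37_1 D49303 F220097 F220094
theorem F220818 : act 6 n49303 = n47394 := d40_1 D49303 (iv D47394) (iv F210885)
theorem F220819 : act 7 n49303 = n48590 := d42_1 D49303 (iv D48590) (iv F210886)
theorem F220820 : act 9 n49303 = n49303 := d44_2 D47118 D49303 (iv D49303) (iv D47118) F177606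
def n49304 : Q := act 9 n47119
theorem D49304 : act 9 n47119 = n49304 := rfl
theorem F220821 : act 0 n49304 = n47128 := d8_1 D49304 (iv D47128) (iv F210887)
theorem F220822 : act 1 n49304 = n47147 := d16_1 D49304 (iv D47147) (iv F210888)
theorem F220823 : act 2 n49304 = n47178 := d23_1 D49304 (iv D47178) (iv F210889)
theorem F220824 : act 3 n49304 = n47120 := d29_1 D49304 (iv D47120) D47119
theorem F220825 : act 4 n49304 = n47230 := d34_1 D49304 (iv D47230) (iv F210890)
theorem F220826 : act 5 n49304 = n47396 := d38_1 D49304 (iv D47396) (iv F210891)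
theorem F220827 : act 6 n49304 = n47121 := d41_1 D49304 (iv D47121) (iv F210892)
theorem F220828 : act 7 n49304 = n47137 := d43_1 D49304 (iv D47137) (iv F210893)
def n49305 : Q := act 8 n47121
theorem D49305 : act 8 n47121 = n49305 := rfl
theorem F220829 : act 0 n49305 = n47131 := d7_1 D49305 (iv D47131) (iv F210903)
theorem F220830 : act 1 n49305 = n48197 := d15_1 D49305 F220097 F220090
theorem F220831 : act 2 n49305 = n47180 := d22_1 D49305 (iv D47180) (iv F210904)
theorem F220832 : act 3 n49305 = n49305 := d28_1 D49305 (iv D49305) F210905 F177642 (iv F210905)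
theorem F220833 : act 4 n49305 = n48196 := d33_1 D49305 F220419 F220415
theorem F220834 : act 5 n49305 = n47122 := d37_1 D49305 (iv D47122) (iv F210906)
theorem F220835 : act 9 n49305 = n49305 := d44_2 D47121 D49305 (iv D49305) (iv D47121) F177638
def n49306 : Q := act 9 n47123
theorem D49306 : act 9 n47123 = n49306 := rfl
theorem F220836 : act 0 n49306 = n47137 := d8_1 D49306 (iv D47137) (iv F210912)
theorem F220837 : act 1 n49306 = n49306 := d16_1 D49306 (iv D49306) F210913
theorem F220838 : act 2 n49306 = n47215 := d23_1 D49306 (iv D47215) (iv F210914)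
theorem F220839 : act 3 n49306 = n47124 := d29_1 D49306 (iv D47124) D47123
theorem F220840 : act 4 n49306 = n47187 := d34_1 D49306 (iv D47187) (iv F210915)
theorem F220841 : act 5 n49306 = n47400 := d38_1 D49306 (iv D47400) (iv F210916)
theorem F220842 : act 6 n49306 = n47125 := d41_1 D49306 (iv D47125) (iv F210917)
theorem F220843 : act 7 n49306 = n47128 := d43_1 D49306 (iv D47128) (iv F210918)
def n49307 : Q := act 8 n47125
theorem D49307 : act 8 n47125 = n49307 := rfl
theorem F220844 : act 0 n49307 = n47140 := d7_1 D49307 (iv D47140) (iv F210928)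
theorem F220845 : act 1 n49307 = n49307 := d15_1 D49307 (iv D49307) F210929
theorem F220846 : act 2 n49307 = n48605 := d22_1 D49307 F220387 F220381
theorem F220847 : act 3 n49307 = n49307 := d28_1 D49307 (iv D49307) F210930 F177676 (iv F210930)
theorem F220848 : act 4 n49307 = n47190 := d33_1 D49307 (iv D47190) (iv F210931)
theorem F220849 : act 5 n49307 = n49307 := d37_1 D49307 (iv D49307) F210932
theorem F220850 : act 9 n49307 = n49307 := d44_2 D47125 D49307 (iv D49307) (iv D47125) F177671
def n49308 : Q := act 5 n47127
theorem D49308 : act 5 n47127 = n49308 := rfl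
theorem F220851 : act 0 n49308 = n47225 := d4_1 D49308 F211375 (iv F210942)
theorem F220852 : act 1 n49308 = n49308 := d12_1 D49308 (iv D49308) F210943
theorem F220853 : act 2 n49308 = n47216 := d19_1 D49308 (iv D47216) (iv F210944)
theorem F220854 : act 3 n49308 = n47182 := d25_1 D49308 F211226 (iv F210945)
theorem F220855 : act 4 n49308 = n47401 := d30_1 D49308 (iv D47401) (iv D42789) (iv F177723) D47127
theorem F220856 : act 6 n49308 = n48301 := d35_2 (iv F210946) D49308 F215963 F210960 (iv D47129)
theorem F220857 : act 7 n49308 = n47183 := d36_2 (iv F210947) D49308 F211231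
theorem F220858 : act 8 n49308 = n49308 := d37_2 F210948 D49308 (iv D49308)
def n49309 : Q := act 9 n47127
theorem D49309 : act 9 n47127 = n49309 := rfl
theorem F220859 : act 0 n49309 = n47230 := d8_1 D49309 (iv D47230) (iv F210942)
theorem F220860 : act 1 n49309 = n49309 := d16_1 D49309 (iv D49309) F210943
theorem F220861 : act 2 n49309 = n47217 := d23_1 D49309 (iv D47217) (iv F210944)
theorem F220862 : act 3 n49309 = n47185 := d29_1 D49309 (iv D47185) (iv F210945)
theorem F220863 : act 4 n49309 = n47128 := d34_1 D49309 (iv D47128) D47127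
theorem F220864 : act 6 n49309 = n47130 := d41_1 D49309 (iv D47130) (iv F210946)
theorem F220865 : act 7 n49309 = n47187 := d43_1 D49309 (iv D47187) (iv F210947)
def n49310 : Q := act 8 n47128
theorem D49310 : act 8 n47128 = n49310 := rfl
theorem F220866 : act 1 n49310 = n49310 := d15_1 D49310 (iv D49310) F210949
theorem F220867 : act 2 n49310 = n47218 := d22_1 D49310 (iv D47218) (iv F210950)
theorem F220868 : act 3 n49310 = n49310 := d28_1 D49310 (iv D49310) F210951 F177730 (iv F210951)
theorem F220869 : act 5 n49310 = n47403 := d37_1 D49310 (iv D47403) (iv F210952)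
theorem F220870 : act 6 n49310 = n47131 := d40_1 D49310 (iv D47131) (iv F210953)
theorem F220871 : act 9 n49310 = n49310 := d44_2 D47128 D49310 (iv D49310) (iv D47128) F177725
def n49311 : Q := act 9 n47129
theorem D49311 : act 9 n47129 = n49311 := rfl
theorem F220872 : act 0 n49311 = n48134 := d8_1 D49311 (iv D48134) (iv F210954)
theorem F220873 : act 1 n49311 = n49311 := d16_1 D49311 (iv D49311) F210955
theorem F220874 : act 2 n49311 = n47220 := d23_1 D49311 (iv D47220) (iv F210956)
theorem F220875 : act 4 n49311 = n47132 := d34_1 D49311 (iv D47132) (iv F210957)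
theorem F220876 : act 5 n49311 = n47130 := d38_1 D49311 (iv D47130) D47129
theorem F220877 : act 6 n49311 = n48313 := d41_1 D49311 (iv D48313) F210960
theorem F220878 : act 7 n49311 = n48135 := d43_1 D49311 (iv D48135) (iv F210958)
def n49312 : Q := act 8 n47130
theorem D49312 : act 8 n47130 = n49312 := rfl
theorem F220879 : act 0 n49312 = n48196 := d7_1 D49312 F220419 F220411
theorem F220880 : act 1 n49312 = n49312 := d15_1 D49312 (iv D49312) F210961
theorem F220881 : act 2 n49312 = n47221 := d22_1 D49312 (iv D47221) (iv F210962)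
theorem F220882 : act 3 n49312 = n48195 := d28_1 D49312 (iv D48195) (iv F210685) (iv F220287) F220283
theorem F220883 : act 4 n49312 = n47131 := d33_1 D49312 (iv D47131) (iv F210963)
theorem F220884 : act 9 n49312 = n49312 := d44_2 D47130 D49312 (iv D49312) (iv D47130) F177733
def n49313 : Q := act 8 n47132
theorem D49313 : act 8 n47132 = n49313 := rfl
theorem F220885 : act 0 n49313 = n48593 := d7_1 D49313 (iv D48593) (iv F210969)
theorem F220886 : act 1 n49313 = n49313 := d15_1 D49313 (iv D49313) F210970
theorem F220887 : act 2 n49313 = n47223 := d22_1 D49313 (iv D47223) (iv F210971)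
theorem F220888 : act 5 n49313 = n47133 := d37_1 D49313 (iv D47133) (iv F210973)
theorem F220889 : act 6 n49313 = n48644 := d40_1 D49313 (iv D48644) (iv F210974)
theorem F220890 : act 7 n49313 = n48595 := d42_1 D49313 (iv D48595) (iv F210975)
theorem F220891 : act 9 n49313 = n49313 := d44_2 D47132 D49313 (iv D49313) (iv D47132) F177741
theorem F220892 : act 3 n48653 = n49313 := d17_0 F220887 (iv F218534) F218533 F216042 (iv F217180)
def n49314 : Q := act 3 n47133
theorem D49314 : act 3 n47133 = n49314 := rfl
theorem F220893 : act 1 n49314 = n49314 := d10_1 D49314 (iv D49314) F210976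
theorem F220894 : act 2 n49314 = n48654 := d17_1 D49314 F217608 F217602 F208812 (iv F210977)
theorem F220895 : act 4 n49314 = n49314 := d24_2 (iv F210978) D49314 (iv D49314) F210978 F177749
theorem F220896 : act 5 n49314 = n48653 := d25_2 F220888 D49314 F220892
theorem F220897 : act 6 n49314 = n47409 := d26_2 (iv F210979) D49314 (iv D47409)
theorem F220898 : act 8 n49314 = n49314 := d28_2 D47133 D49314 (iv D49314) (iv D47133) F177744
theorem F220899 : act 9 n49314 = n49314 := d29_2 F210980 D49314 (iv D49314)
def n49315 : Q := act 9 n47134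
theorem D49315 : act 9 n47134 = n49315 := rfl
theorem F220900 : act 0 n49315 = n47400 := d8_1 D49315 (iv D47400) (iv F210981)
theorem F220901 : act 1 n49315 = n47145 := d16_1 D49315 (iv D47145) (iv F210982)
theorem F220902 : act 2 n49315 = n47430 := d23_1 D49315 (iv D47430) (iv F210983)
theorem F220903 : act 3 n49315 = n47135 := d29_1 D49315 (iv D47135) D47134
theorem F220904 : act 4 n49315 = n48739 := d34_1 D49315 (iv D48739) (iv F210984)
theorem F220905 : act 5 n49315 = n47137 := d38_1 D49315 (iv D47137) (iv F210985)
theorem F220906 : act 6 n49315 = n49315 := d41_1 D49315 (iv D49315) F210986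
theorem F220907 : act 7 n49315 = n47396 := d43_1 D49315 (iv D47396) (iv F210987)
def n49316 : Q := act 9 n47136
theorem D49316 : act 9 n47136 = n49316 := rfl
theorem F220908 : act 0 n49316 = n47215 := d8_1 D49316 (iv D47215) (iv F210997)
theorem F220909 : act 2 n49316 = n47137 := d23_1 D49316 (iv D47137) D47136
theorem F220910 : act 3 n49316 = n47176 := d29_1 D49316 (iv D47176) (iv F210998)
theorem F220911 : act 4 n49316 = n47232 := d34_1 D49316 (iv D47232) (iv F210999)
theorem F220912 : act 5 n49316 = n47430 := d38_1 D49316 (iv D47430) (iv F211000)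
theorem F220913 : act 6 n49316 = n47139 := d41_1 D49316 (iv D47139) (iv F211001)
theorem F220914 : act 7 n49316 = n47178 := d43_1 D49316 (iv D47178) (iv F211002)
def n49317 : Q := act 8 n47137
theorem D49317 : act 8 n47137 = n49317 := rfl
theorem F220915 : act 1 n49317 = n47150 := d15_1 D49317 (iv D47150) (iv F211004)
theorem F220916 : act 3 n49317 = n49317 := d28_1 D49317 (iv D49317) F211005 F177771 (iv F211005)
theorem F220917 : act 4 n49317 = n47233 := d33_1 D49317 (iv D47233) (iv F211006)
theorem F220918 : act 6 n49317 = n47140 := d40_1 D49317 (iv D47140) (iv F211007)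
theorem F220919 : act 9 n49317 = n49317 := d44_2 D47137 D49317 (iv D49317) (iv D47137) F177767
def n49318 : Q := act 9 n47138
theorem D49318 : act 9 n47138 = n49318 := rfl
theorem F220920 : act 0 n49318 = n48618 := d8_1 D49318 F218132 F218124
theorem F220921 : act 1 n49318 = n47139 := d16_1 D49318 (iv D47139) D47138
theorem F220922 : act 2 n49318 = n47152 := d23_1 D49318 (iv D47152) (iv F211008)
theorem F220923 : act 3 n49318 = n48615 := d29_1 D49318 (iv F220154) (iv F220155)
theorem F220924 : act 4 n49318 = n47235 := d34_1 D49318 (iv D47235) (iv F211009)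
theorem F220925 : act 5 n49318 = n49318 := d38_1 D49318 (iv D49318) F211010
theorem F220926 : act 8 n48633 = n49318 := d28_0 F220923 (iv D48615) F207061 D46421 D48633
def n49319 : Q := act 8 n47139
theorem D49319 : act 8 n47139 = n49319 := rfl
theorem F220927 : act 0 n49319 = n48605 := d7_1 D49319 F220387 F220379
theorem F220928 : act 1 n49319 = n48633 := d15_1 D49319 F220926 F220921
theorem F220929 : act 2 n49319 = n47140 := d22_1 D49319 (iv D47140) (iv F211012)
theorem F220930 : act 3 n49319 = n48604 := d28_1 D49319 (iv D48604) (iv F210646) (iv F220245) F220241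
theorem F220931 : act 4 n49319 = n47236 := d33_1 D49319 (iv D47236) (iv F211013)
theorem F220932 : act 5 n49319 = n49319 := d37_1 D49319 (iv D49319) F211014
theorem F220933 : act 9 n49319 = n49319 := d44_2 D47139 D49319 (iv D49319) (iv D47139) F177774
def n49320 : Q := act 9 n47141
theorem D49320 : act 9 n47141 = n49320 := rfl
theorem F220934 : act 0 n49320 = n49320 := d8_1 D49320 (iv D49320) F211020
theorem F220935 : act 1 n49320 = n47396 := d16_1 D49320 (iv D47396) (iv F211021)
theorem F220936 : act 2 n49320 = n47687 := d23_1 D49320 F213425 F211027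
theorem F220937 : act 3 n49320 = n47142 := d29_1 D49320 (iv D47142) D47141
theorem F220938 : act 4 n49320 = n47499 := d34_1 D49320 F212629 (iv F211022)
theorem F220939 : act 5 n49320 = n47147 := d38_1 D49320 (iv D47147) (iv F211023)
theorem F220940 : act 6 n49320 = n47393 := d41_1 D49320 (iv D47393) (iv F211024)
theorem F220941 : act 7 n49320 = n47145 := d43_1 D49320 (iv D47145) (iv F211025)
def n49321 : Q := act 9 n47143
theorem D49321 : act 9 n47143 = n49321 := rfl
theorem F220942 : act 0 n49321 = n49321 := d8_1 D49321 (iv D49321) F211036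
theorem F220943 : act 2 n49321 = n47145 := d23_1 D49321 (iv D47145) D47143
theorem F220944 : act 3 n49321 = n49321 := d29_1 D49321 (iv D49321) F211037
theorem F220945 : act 4 n49321 = n47684 := d34_1 D49321 F213413 F211042
theorem F220946 : act 5 n49321 = n47149 := d38_1 D49321 (iv D47149) (iv F211038)
theorem F220947 : act 6 n49321 = n49321 := d41_1 D49321 (iv D49321) F211039
theorem F220948 : act 7 n49321 = n47687 := d43_1 D49321 F213425 (iv F211040)
def n49322 : Q := act 9 n47144
theorem D49322 : act 9 n47144 = n49322 := rfl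
theorem F220949 : act 0 n49322 = n49322 := d8_1 D49322 (iv D49322) F211043
theorem F220950 : act 1 n49322 = n48739 := d16_1 D49322 (iv D48739) (iv F211044)
theorem F220951 : act 2 n49322 = n47684 := d23_1 D49322 F213413 (iv F211045)
theorem F220952 : act 3 n49322 = n47410 := d29_1 D49322 (iv D47410) (iv F211046)
theorem F220953 : act 4 n49322 = n47145 := d34_1 D49322 (iv D47145) D47144
theorem F220954 : act 5 n49322 = n47243 := d38_1 D49322 (iv D47243) (iv F211047)
theorem F220955 : act 6 n49322 = n49322 := d41_1 D49322 (iv D49322) F211048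
theorem F220956 : act 7 n49322 = n47499 := d43_1 D49322 F212629 (iv F211049)
def n49323 : Q := act 8 n47145
theorem D49323 : act 8 n47145 = n49323 := rfl
theorem F220957 : act 0 n49323 = n49323 := d7_1 D49323 (iv D49323) F211051
theorem F220958 : act 3 n49323 = n49323 := d28_1 D49323 (iv D49323) F211052 F177804 (iv F211052)
theorem F220959 : act 5 n49323 = n47150 := d37_1 D49323 (iv D47150) (iv F211053)
theorem F220960 : act 6 n49323 = n49323 := d40_1 D49323 (iv D49323) F211054
theorem F220961 : act 9 n49323 = n49323 := d44_2 D47145 D49323 (iv D49323) (iv D47145) F177798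
def n49324 : Q := act 9 n47146
theorem D49324 : act 9 n47146 = n49324 := rfl
theorem F220962 : act 0 n49324 = n49324 := d8_1 D49324 (iv D49324) F211055
theorem F220963 : act 2 n49324 = n47147 := d23_1 D49324 (iv D47147) D47146
theorem F220964 : act 3 n49324 = n49324 := d29_1 D49324 (iv D49324) F211056
theorem F220965 : act 4 n49324 = n47246 := d34_1 D49324 (iv D47246) (iv F211057)
theorem F220966 : act 5 n49324 = n47687 := d38_1 D49324 F213425 (iv F211058)
theorem F220967 : act 6 n49324 = n47862 := d41_1 D49324 F214319 (iv F211059)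
theorem F220968 : act 7 n49324 = n47149 := d43_1 D49324 (iv D47149) (iv F211060)
theorem F220969 : act 8 n48317 = n49324 := d40_0 F220967 F214318 (iv F216035)
def n49325 : Q := act 8 n47147
theorem D49325 : act 8 n47147 = n49325 := rfl
theorem F220970 : act 0 n49325 = n49325 := d7_1 D49325 (iv D49325) F211062
theorem F220971 : act 2 n49325 = n48317 := d22_1 D49325 F220969 F220963
theorem F220972 : act 3 n49325 = n49325 := d28_1 D49325 (iv D49325) F211063 F177813 (iv F211063)
theorem F220973 : act 4 n49325 = n47247 := d33_1 D49325 (iv D47247) (iv F211064)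
theorem F220974 : act 6 n49325 = n48197 := d40_1 D49325 F220097 F220095
theorem F220975 : act 7 n49325 = n47150 := d42_1 D49325 (iv D47150) (iv F211065)
theorem F220976 : act 9 n49325 = n49325 := d44_2 D47147 D49325 (iv D49325) (iv D47147) F177808
def n49326 : Q := act 9 n47148
theorem D49326 : act 9 n47148 = n49326 := rfl
theorem F220977 : act 1 n49326 = n47149 := d16_1 D49326 (iv D47149) D47148
theorem F220978 : act 3 n49326 = n49326 := d29_1 D49326 (iv D49326) F211066
theorem F220979 : act 4 n49326 = n47249 := d34_1 D49326 (iv D47249) (iv F211067)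
theorem F220980 : act 6 n49326 = n47152 := d41_1 D49326 (iv D47152) (iv F211068)
def n49327 : Q := act 8 n47149
theorem D49327 : act 8 n47149 = n49327 := rfl
theorem F220981 : act 0 n49327 = n49327 := d7_1 D49327 (iv D49327) F211070
theorem F220982 : act 2 n49327 = n47150 := d22_1 D49327 (iv D47150) (iv F211071)
theorem F220983 : act 4 n49327 = n47250 := d33_1 D49327 (iv D47250) (iv F211073)
theorem F220984 : act 6 n49327 = n47153 := d40_1 D49327 (iv D47153) (iv F211074)
theorem F220985 : act 7 n49327 = n48317 := d42_1 D49327 F220969 F220968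
theorem F220986 : act 9 n49327 = n49327 := d44_2 D47149 D49327 (iv D49327) (iv D47149) F177818
theorem F220987 : act 3 n48646 = n49327 := d27_3 F220985 F216034 (iv F217151)
def n49328 : Q := act 9 n47151
theorem D49328 : act 9 n47151 = n49328 := rfl
theorem F220988 : act 0 n49328 = n47152 := d8_1 D49328 (iv D47152) D47151
theorem F220989 : act 1 n49328 = n49328 := d16_1 D49328 (iv D49328) F211080
theorem F220990 : act 2 n49328 = n48618 := d23_1 D49328 F218132 F218126
theorem F220991 : act 3 n49328 = n49328 := d29_1 D49328 (iv D49328) F211081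
theorem F220992 : act 4 n49328 = n47251 := d34_1 D49328 (iv D47251) (iv F211082)
theorem F220993 : act 5 n49328 = n49328 := d38_1 D49328 (iv D49328) F211083
theorem F220994 : act 8 n49328 = n48634 := d45_1 D49328 F217100 F207222 D48653 F220892 F220886 F220887 (iv F218534) F218537 (iv D48888) F208808 F177863 F201704 F90347 (iv F90315) F90316 (iv F201649) (iv D14614) (iv D10057) F31689 D7617 D11059 D16085 F197401 F91380 F63951 (iv F63843) F63842 (iv F91236) F91237 (iv F130726) F130725 F130724 (iv F197087) (iv D21312) (iv F91561) (iv F201698) (iv F185746) (iv F211126) (iv F218483) F218482 F208784 F210505 (iv D47039) D47040 F210510 F205830 (iv F178116) (iv F211087) F211086 F211085 F177828 F123953 (iv D20066) (iv D13805) F42667 F42668 (iv D9516) F30101 (iv F30094) F30095 (iv F42653) F42654 D13801 F60646 F42725 F30139 F22428 F22427 (iv F22135) (iv F31246) D9894 F44338 F44335 (iv F44400) (iv F63187) (iv F90292) (iv F129282) (iv F185591) (iv F213992) (iv D47787) (iv F213971) (iv F218036) F218038 F215412 (iv F210822) (iv F218125) F218126 F211081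
def n49329 : Q := act 8 n47152
theorem D49329 : act 8 n47152 = n49329 := rfl
theorem F220995 : act 0 n49329 = n48634 := d7_1 D49329 (iv F220994) F220988
theorem F220996 : act 1 n49329 = n47153 := d15_1 D49329 (iv D47153) (iv F211085)
theorem F220997 : act 2 n49329 = n48633 := d22_1 D49329 F220926 F220922
theorem F220998 : act 4 n49329 = n47252 := d33_1 D49329 (iv D47252) (iv F211087)
theorem F220999 : act 5 n49329 = n49329 := d37_1 D49329 (iv D49329) F211088
theorem F221000 : act 9 n49329 = n49329 := d44_2 D47152 D49329 (iv D49329) (iv D47152) F177826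
theorem F221001 : act 3 n48651 = n49329 := d45_89 F221000 (iv D49329) F211086 F211088 F211087 (iv F208647) F208646 F175682 F122499 (iv D19837) (iv D13651) (iv F59743) F59744 (iv D9830) F31060 (iv F31054) F31055 (iv F33572) F33573 D7382 F33633 F33634 F23766 F23765 F23764 F16865 F16866 F194929 (iv D3528) (iv D2445) D2446 F11991 (iv F12103) (iv F17033) (iv F24030) (iv F31317) (iv F44363) D14380 (iv F201768) F45083 (iv F42761) D13839 F202338 (iv F123886) F123887 D42517 D47133 D49314 F220896 (iv D48653) (iv F217100) F217099 (iv D48634) (iv D46422) F135334 (iv D32075) (iv F135202) F135203 (iv F207068) (iv F215859) F215858 F189151 F131713 (iv D21363) F64284 (iv F70503) D23572 F100887 F100886 (iv F98508) F98509 F201898 (iv F197095) F205941 (iv F185881) (iv F208929) (iv F208933) (iv D45190) (iv F197915) F188023 (iv F205128) D46575 D48755 F217628 F212071 F189347 D46438 F207217 D48651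
def n49330 : Q := act 3 n47153
theorem D49330 : act 3 n47153 = n49330 := rfl
theorem F221002 : act 0 n49330 = n49330 := d2_1 D49330 (iv D49330) F211089
theorem F221003 : act 1 n49330 = n48651 := d10_1 D49330 F221001 F220996
theorem F221004 : act 2 n49330 = n49330 := d17_1 D49330 (iv D49330) F211090 F177833 (iv F211090)
theorem F221005 : act 4 n49330 = n48594 := d24_2 (iv F211091) D49330 (iv D48594) F211508 (iv D47253)
theorem F221006 : act 5 n49330 = n49330 := d25_2 F211092 D49330 (iv D49330)
theorem F221007 : act 6 n49330 = n48646 := d26_2 F220984 D49330 F220987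
theorem F221008 : act 7 n49330 = n48597 := d27_2 F220117 D49330 F220119
theorem F221009 : act 8 n49330 = n49330 := d28_2 D47153 D49330 (iv D49330) (iv D47153) F177829
theorem F221010 : act 9 n49330 = n49330 := d29_2 F211093 D49330 (iv D49330)
def n49331 : Q := act 8 n47154
theorem D49331 : act 8 n47154 = n49331 := rfl
theorem F221011 : act 0 n49331 = n48107 := d7_1 D49331 (iv D48107) (iv F211094)
theorem F221012 : act 1 n49331 = n47165 := d15_1 D49331 (iv D47165) (iv F211095)
theorem F221013 : act 2 n49331 = n48100 := d22_1 D49331 (iv D48100) (iv F211096)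
theorem F221014 : act 4 n49331 = n49331 := d33_1 D49331 (iv D49331) F211098
theorem F221015 : act 5 n49331 = n48205 := d37_1 D49331 (iv D48205) (iv F211099)
theorem F221016 : act 6 n49331 = n47155 := d40_1 D49331 (iv D47155) D47154
def n49332 : Q := act 9 n47155
theorem D49332 : act 9 n47155 = n49332 := rfl
theorem F221017 : act 0 n49332 = n47852 := d8_1 D49332 F214270 (iv F211101)
theorem F221018 : act 1 n49332 = n47167 := d16_1 D49332 (iv D47167) (iv F211102)
theorem F221019 : act 2 n49332 = n47860 := d23_1 D49332 F214308 (iv F211103)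
theorem F221020 : act 4 n49332 = n49332 := d34_1 D49332 (iv D49332) F211104
theorem F221021 : act 5 n49332 = n48096 := d38_1 D49332 (iv D48096) (iv F211105)
theorem F221022 : act 7 n49332 = n48095 := d43_1 D49332 (iv D48095) (iv F211106)
theorem F221023 : act 8 n49332 = n47259 := d44_1 D49332 (iv D47259) (iv D42621) (iv F177840) D47155
def n49333 : Q := act 7 n47156
theorem D49333 : act 7 n47156 = n49333 := rfl
theorem F221024 : act 0 n49333 = n47313 := d6_1 D49333 F211773 (iv F211107)
theorem F221025 : act 1 n49333 = n47168 := d14_1 D49333 (iv D47168) (iv F211108)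
theorem F221026 : act 2 n49333 = n49333 := d21_1 D49333 (iv D49333) F211109
theorem F221027 : act 3 n49333 = n47277 := d27_1 D49333 F211616 (iv F211110)
theorem F221028 : act 4 n49333 = n47411 := d32_1 D49333 (iv D47411) (iv F211111)
theorem F221029 : act 5 n49333 = n47157 := d36_1 D49333 (iv D47157) D47156
theorem F221030 : act 6 n49333 = n47269 := d39_1 D49333 (iv D47269) F178190 (iv F198688) (iv F211112)
theorem F221031 : act 9 n49333 = n47260 := d43_2 (iv F211113) D49333 (iv D47260)
def n49334 : Q := act 8 n47156
theorem D49334 : act 8 n47156 = n49334 := rfl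
theorem F221032 : act 0 n49334 = n47836 := d7_1 D49334 F214200 (iv F211107)
theorem F221033 : act 1 n49334 = n47169 := d15_1 D49334 (iv D47169) (iv F211108)
theorem F221034 : act 2 n49334 = n49334 := d22_1 D49334 (iv D49334) F211109
theorem F221035 : act 4 n49334 = n47412 := d33_1 D49334 (iv D47412) (iv F211111)
theorem F221036 : act 5 n49334 = n47158 := d37_1 D49334 (iv D47158) D47156
theorem F221037 : act 6 n49334 = n47800 := d40_1 D49334 F214051 (iv F211112)
def n49335 : Q := act 8 n47157
theorem D49335 : act 8 n47157 = n49335 := rfl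
theorem F221038 : act 0 n49335 = n47838 := d7_1 D49335 F214209 (iv F211114)
theorem F221039 : act 1 n49335 = n47170 := d15_1 D49335 (iv D47170) (iv F211115)
theorem F221040 : act 2 n49335 = n49335 := d22_1 D49335 (iv D49335) F211116
theorem F221041 : act 4 n49335 = n47161 := d33_1 D49335 (iv D47161) (iv F211117)
theorem F221042 : act 7 n49335 = n47158 := d42_1 D49335 (iv D47158) D47157
def n49336 : Q := act 3 n47158
theorem D49336 : act 3 n47158 = n49336 := rfl
theorem F221043 : act 0 n49336 = n47833 := d2_1 D49336 F214190 (iv F211119)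
theorem F221044 : act 1 n49336 = n47171 := d10_1 D49336 (iv D47171) (iv F211120)
theorem F221045 : act 6 n49336 = n47159 := d26_2 (iv F211123) D49336 (iv D47159)
def n49337 : Q := act 9 n47158
theorem D49337 : act 9 n47158 = n49337 := rfl
theorem F221046 : act 0 n49337 = n47839 := d8_1 D49337 (iv D47839) (iv F211119)
theorem F221047 : act 1 n49337 = n47172 := d16_1 D49337 (iv D47172) (iv F211120)
theorem F221048 : act 2 n49337 = n49337 := d23_1 D49337 (iv D49337) F211121
theorem F221049 : act 4 n49337 = n47162 := d34_1 D49337 (iv D47162) (iv F211122)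
theorem F221050 : act 6 n49337 = n47160 := d41_1 D49337 (iv D47160) (iv F211123)
theorem F221051 : act 8 n49337 = n47264 := d44_1 D49337 (iv D47264) (iv D42624) (iv F177844) D47158
def n49338 : Q := act 9 n47159
theorem D49338 : act 9 n47159 = n49338 := rfl
theorem F221052 : act 0 n49338 = n47834 := d8_1 D49338 (iv D47834) (iv F211124)
theorem F221053 : act 1 n49338 = n47175 := d16_1 D49338 (iv D47175) (iv F211125)
theorem F221054 : act 3 n49338 = n47160 := d29_1 D49338 (iv D47160) D47159
theorem F221055 : act 5 n49338 = n47798 := d38_1 D49338 (iv D47798) (iv F211126)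
def n49339 : Q := act 9 n47161
theorem D49339 : act 9 n47161 = n49339 := rfl
theorem F221056 : act 0 n49339 = n47840 := d8_1 D49339 (iv D47840) (iv F211133)
theorem F221057 : act 1 n49339 = n47176 := d16_1 D49339 (iv D47176) (iv F211134)
theorem F221058 : act 2 n49339 = n49339 := d23_1 D49339 (iv D49339) F211135
theorem F221059 : act 5 n49339 = n47418 := d38_1 D49339 (iv D47418) (iv F211136)
theorem F221060 : act 6 n49339 = n48615 := d41_1 D49339 (iv F220154) F220152
theorem F221061 : act 7 n49339 = n47162 := d43_1 D49339 (iv D47162) (iv F211137)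
theorem F221062 : act 8 n49339 = n47267 := d44_1 D49339 (iv D47267) (iv D42627) (iv F177853) D47161
def n49340 : Q := act 7 n47163
theorem D49340 : act 7 n47163 = n49340 := rfl
theorem F221063 : act 0 n49340 = n47192 := d6_1 D49340 (iv D47192) (iv F211144)
theorem F221064 : act 1 n49340 = n47277 := d14_1 D49340 F211616 (iv F211145)
theorem F221065 : act 2 n49340 = n49340 := d21_1 D49340 (iv D49340) F211146
theorem F221066 : act 3 n49340 = n47168 := d27_1 D49340 (iv D47168) (iv F211147)
theorem F221067 : act 4 n49340 = n47507 := d32_1 D49340 F212670 F211150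
theorem F221068 : act 5 n49340 = n47164 := d36_1 D49340 (iv D47164) D47163
theorem F221069 : act 6 n49340 = n47260 := d39_1 D49340 (iv D47260) F178134 (iv F198718) (iv F211148)
theorem F221070 : act 9 n49340 = n47269 := d43_2 (iv F211149) D49340 (iv D47269)
def n49341 : Q := act 8 n47163
theorem D49341 : act 8 n47163 = n49341 := rfl
theorem F221071 : act 0 n49341 = n47193 := d7_1 D49341 (iv D47193) (iv F211144)
theorem F221072 : act 1 n49341 = n48205 := d15_1 D49341 (iv D48205) (iv F211145)
theorem F221073 : act 2 n49341 = n49341 := d22_1 D49341 (iv D49341) F211146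
theorem F221074 : act 4 n49341 = n48370 := d33_1 D49341 F216199 F211150
theorem F221075 : act 5 n49341 = n47165 := d37_1 D49341 (iv D47165) D47163
theorem F221076 : act 6 n49341 = n48138 := d40_1 D49341 (iv D48138) (iv F211148)
def n49342 : Q := act 8 n47164
theorem D49342 : act 8 n47164 = n49342 := rfl
theorem F221077 : act 0 n49342 = n47194 := d7_1 D49342 (iv D47194) (iv F211151)
theorem F221078 : act 2 n49342 = n49342 := d22_1 D49342 (iv D49342) F211152
theorem F221079 : act 4 n49342 = n49342 := d33_1 D49342 (iv D49342) F211154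
theorem F221080 : act 6 n49342 = n48613 := d40_1 D49342 F220171 F220169
theorem F221081 : act 7 n49342 = n47165 := d42_1 D49342 (iv D47165) D47164
def n49343 : Q := act 3 n47165
theorem D49343 : act 3 n47165 = n49343 := rfl
theorem F221082 : act 0 n49343 = n47195 := d2_1 D49343 (iv D47195) (iv F211156)
theorem F221083 : act 6 n49343 = n47166 := d26_2 (iv F211159) D49343 (iv D47166)
theorem F221084 : act 8 n49343 = n47171 := d28_2 D47165 D49343 (iv D47171) (iv D42552) (iv F177877)
def n49344 : Q := act 9 n47165
theorem D49344 : act 9 n47165 = n49344 := rfl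
theorem F221085 : act 0 n49344 = n47196 := d8_1 D49344 (iv D47196) (iv F211156)
theorem F221086 : act 2 n49344 = n49344 := d23_1 D49344 (iv D49344) F211157
theorem F221087 : act 4 n49344 = n49344 := d34_1 D49344 (iv D49344) F211158
theorem F221088 : act 6 n49344 = n47167 := d41_1 D49344 (iv D47167) (iv F211159)
theorem F221089 : act 8 n49344 = n47273 := d44_1 D49344 (iv D47273) (iv D42640) (iv F177879) D47165
def n49345 : Q := act 2 n47166
theorem D49345 : act 2 n47166 = n49345 := rfl
theorem F221090 : act 0 n49345 = n47197 := d1_1 D49345 (iv D47197) (iv F211160)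
theorem F221091 : act 1 n49345 = n47346 := d9_1 D49345 F211872 (iv F208945) (iv F218663) F218662
theorem F221092 : act 3 n49345 = n49345 := d17_2 D47166 D49345 (iv D49345) (iv D47166) F177881
theorem F221093 : act 5 n49345 = n47344 := d19_2 (iv F211161) D49345 F211866
theorem F221094 : act 8 n49345 = n47173 := d22_2 (iv F211162) D49345 (iv D47173)
theorem F221095 : act 4 n48266 = n49345 := d33_3 F221094 (iv F220345) F220349
def n49346 : Q := act 4 n47166
theorem D49346 : act 4 n47166 = n49346 := rfl
theorem F221096 : act 0 n49346 = n47198 := d3_1 D49346 (iv D47198) (iv F211160)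
theorem F221097 : act 1 n49346 = n47830 := d11_1 D49346 (iv F218665) F218662
theorem F221098 : act 2 n49346 = n48266 := d18_1 D49346 F221095 (iv D49345)
theorem F221099 : act 3 n49346 = n49346 := d24_1 D49346 (iv D49346) (iv D47166) F177882 D47166
theorem F221100 : act 5 n49346 = n47828 := d30_2 (iv F211161) D49346 (iv D47828) (iv F208929) (iv F208933)
theorem F221101 : act 8 n49346 = n47174 := d33_2 (iv F211162) D49346 (iv D47174)
def n49347 : Q := act 9 n47166
theorem D49347 : act 9 n47166 = n49347 := rfl
theorem F221102 : act 0 n49347 = n47199 := d8_1 D49347 (iv D47199) (iv F211160)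
theorem F221103 : act 3 n49347 = n47167 := d29_1 D49347 (iv D47167) D47166
theorem F221104 : act 5 n49347 = n48141 := d38_1 D49347 (iv D48141) (iv F211161)
def n49348 : Q := act 6 n47168
theorem D49348 : act 6 n47168 = n49348 := rfl
theorem F221105 : act 0 n49348 = n47200 := d5_1 D49348 (iv D47200) (iv F211168)
theorem F221106 : act 1 n49348 = n47269 := d13_1 D49348 (iv F221030) F221025
theorem F221107 : act 2 n49348 = n47181 := d20_1 D49348 (iv D47181) (iv F211169)
theorem F221108 : act 3 n49348 = n47260 := d26_1 D49348 (iv F221069) F221066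
theorem F221109 : act 4 n49348 = n47419 := d31_1 D49348 (iv D47419) (iv F211170)
theorem F221110 : act 5 n49348 = n47256 := d35_1 D49348 (iv F220197) F220196 F210305 (iv F211171)
theorem F221111 : act 7 n49348 = n47255 := d39_2 D47168 D49348 F211521 (iv D45192) (iv F177887)
theorem F221112 : act 9 n49348 = n47277 := d41_2 (iv F211172) D49348 (iv D47277)
def n49349 : Q := act 8 n47168
theorem D49349 : act 8 n47168 = n49349 := rfl
theorem F221113 : act 0 n49349 = n47201 := d7_1 D49349 (iv D47201) (iv F211168)
theorem F221114 : act 2 n49349 = n47182 := d22_1 D49349 (iv D47182) (iv F211169)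
theorem F221115 : act 4 n49349 = n47420 := d33_1 D49349 (iv D47420) (iv F211170)
theorem F221116 : act 5 n49349 = n47170 := d37_1 D49349 (iv D47170) (iv F211171)
theorem F221117 : act 7 n49349 = n47169 := d42_1 D49349 (iv D47169) D47168
def n49350 : Q := act 3 n47169
theorem D49350 : act 3 n47169 = n49350 := rfl
theorem F221118 : act 0 n49350 = n47202 := d2_1 D49350 (iv D47202) (iv F211173)
theorem F221119 : act 5 n49350 = n47171 := d25_2 (iv F211176) D49350 (iv D47171)
theorem F221120 : act 6 n49350 = n48143 := d26_2 (iv F211177) D49350 (iv D48143)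
def n49351 : Q := act 9 n47169
theorem D49351 : act 9 n47169 = n49351 := rfl
theorem F221121 : act 0 n49351 = n47203 := d8_1 D49351 (iv D47203) (iv F211173)
theorem F221122 : act 2 n49351 = n47184 := d23_1 D49351 (iv D47184) (iv F211174)
theorem F221123 : act 4 n49351 = n47422 := d34_1 D49351 (iv D47422) (iv F211175)
theorem F221124 : act 5 n49351 = n47172 := d38_1 D49351 (iv D47172) (iv F211176)
theorem F221125 : act 6 n49351 = n48144 := d41_1 D49351 (iv D48144) (iv F211177)
theorem F221126 : act 8 n49351 = n47280 := d44_1 D49351 (iv D47280) (iv D42644) (iv F177888) D47169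
def n49352 : Q := act 3 n47170
theorem D49352 : act 3 n47170 = n49352 := rfl
theorem F221127 : act 0 n49352 = n47204 := d2_1 D49352 (iv D47204) (iv F211178)
theorem F221128 : act 2 n49352 = n47207 := d17_1 D49352 F211319 (iv F210944) F210945 (iv F211179)
theorem F221129 : act 4 n49352 = n47206 := d24_2 (iv F211180) D49352 F211317 (iv F210999) F210998
theorem F221130 : act 6 n49352 = n47210 := d26_2 F220208 D49352 F220210
theorem F221131 : act 7 n49352 = n47171 := d27_2 (iv F211181) D49352 (iv D47171)
def n49353 : Q := act 9 n47170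
theorem D49353 : act 9 n47170 = n49353 := rfl
theorem F221132 : act 0 n49353 = n47205 := d8_1 D49353 (iv D47205) (iv F211178)
theorem F221133 : act 2 n49353 = n47185 := d23_1 D49353 (iv D47185) (iv F211179)
theorem F221134 : act 4 n49353 = n47176 := d34_1 D49353 (iv D47176) (iv F211180)
theorem F221135 : act 7 n49353 = n47172 := d43_1 D49353 (iv D47172) (iv F211181)
theorem F221136 : act 8 n49353 = n47282 := d44_1 D49353 (iv D47282) (iv D42645) (iv F177892) D47170
def n49354 : Q := act 2 n47171
theorem D49354 : act 2 n47171 = n49354 := rfl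
theorem F221137 : act 0 n49354 = n47206 := d1_1 D49354 (iv D47206) (iv F211182)
theorem F221138 : act 3 n49354 = n47186 := d17_2 D47171 D49354 (iv D47186) (iv D42566) (iv F177894)
theorem F221139 : act 6 n49354 = n47173 := d20_2 (iv F211183) D49354 (iv D47173)
theorem F221140 : act 7 n49354 = n47207 := d21_2 F221131 D49354 (iv F221128)
theorem F221141 : act 4 n47204 = n49354 := d32_3 F221140 (iv D47207) (iv F211312)
def n49355 : Q := act 4 n47171
theorem D49355 : act 4 n47171 = n49355 := rfl
theorem F221142 : act 0 n49355 = n47207 := d3_1 D49355 (iv D47207) (iv F211182)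
theorem F221143 : act 2 n49355 = n47204 := d18_1 D49355 F221141 (iv D49354)
theorem F221144 : act 3 n49355 = n47177 := d24_1 D49355 (iv D47177) (iv D42556) (iv F177895) D47171
theorem F221145 : act 6 n49355 = n47174 := d31_2 (iv F211183) D49355 (iv D47174)
theorem F221146 : act 7 n49355 = n47206 := d32_2 F221131 D49355 (iv F221129)
def n49356 : Q := act 9 n47171
theorem D49356 : act 9 n47171 = n49356 := rfl
theorem F221147 : act 0 n49356 = n47208 := d8_1 D49356 (iv D47208) (iv F211182)
theorem F221148 : act 3 n49356 = n47172 := d29_1 D49356 (iv D47172) D47171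
theorem F221149 : act 6 n49356 = n47175 := d41_1 D49356 (iv D47175) (iv F211183)
def n49357 : Q := act 1 n47173
theorem D49357 : act 1 n47173 = n49357 := rfl
theorem F221150 : act 2 n49357 = n47325 := d9_2 D47173 D49357 (iv F218584) F218585 F211125
theorem F221151 : act 3 n49357 = n47188 := d10_2 (iv F211190) D49357 (iv D47188)
theorem F221152 : act 4 n49357 = n48236 := d11_2 F220345 D49357 (iv F220343)
theorem F221153 : act 5 n49357 = n47323 := d12_2 (iv F211191) D49357 F211802
theorem F221154 : act 8 n49357 = n47346 := d15_2 F221094 D49357 (iv F221091)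
def n49358 : Q := act 9 n47173
theorem D49358 : act 9 n47173 = n49358 := rfl
theorem F221155 : act 0 n49358 = n47211 := d8_1 D49358 (iv D47211) (iv F211189)
theorem F221156 : act 2 n49358 = n47175 := d23_1 D49358 (iv D47175) D47173
theorem F221157 : act 3 n49358 = n47189 := d29_1 D49358 (iv D47189) (iv F211190)
theorem F221158 : act 5 n49358 = n48149 := d38_1 D49358 (iv D48149) (iv F211191)
def n49359 : Q := act 9 n47174
theorem D49359 : act 9 n47174 = n49359 := rfl
theorem F221159 : act 0 n49359 = n47213 := d8_1 D49359 (iv D47213) (iv F211192)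
theorem F221160 : act 3 n49359 = n47179 := d29_1 D49359 (iv D47179) (iv F211193)
theorem F221161 : act 4 n49359 = n47175 := d34_1 D49359 (iv D47175) D47174
def n49360 : Q := act 8 n47175
theorem D49360 : act 8 n47175 = n49360 := rfl
theorem F221162 : act 0 n49360 = n47214 := d7_1 D49360 (iv D47214) (iv F211194)
theorem F221163 : act 3 n49360 = n47290 := d28_1 D49360 (iv D47290) F178231 (iv F177903) (iv F211195)
theorem F221164 : act 5 n49360 = n48150 := d37_1 D49360 (iv D48150) (iv F211196)
def n49361 : Q := act 5 n47177
theorem D49361 : act 5 n47177 = n49361 := rfl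
theorem F221165 : act 0 n49361 = n47216 := d4_1 D49361 (iv D47216) (iv F211202)
theorem F221166 : act 1 n49361 = n48279 := d12_1 D49361 (iv F218501) F218498
theorem F221167 : act 2 n49361 = n47225 := d19_1 D49361 F211375 (iv F211203)
theorem F221168 : act 4 n49361 = n47431 := d30_1 D49361 (iv D47431) (iv D42856) (iv F177909) D47177
theorem F221169 : act 6 n49361 = n48281 := d35_2 (iv F211204) D49361 F215893 (iv F208710) F208709
theorem F221170 : act 7 n49361 = n47227 := d36_2 (iv F211205) D49361 F211384
theorem F221171 : act 8 n49361 = n49361 := d37_2 F211206 D49361 (iv D49361)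
def n49362 : Q := act 9 n47177
theorem D49362 : act 9 n47177 = n49362 := rfl
theorem F221172 : act 0 n49362 = n47217 := d8_1 D49362 (iv D47217) (iv F211202)
theorem F221173 : act 2 n49362 = n47230 := d23_1 D49362 (iv D47230) (iv F211203)
theorem F221174 : act 4 n49362 = n47178 := d34_1 D49362 (iv D47178) D47177
theorem F221175 : act 6 n49362 = n47179 := d41_1 D49362 (iv D47179) (iv F211204)
theorem F221176 : act 7 n49362 = n47232 := d43_1 D49362 (iv D47232) (iv F211205)
def n49363 : Q := act 8 n47178
theorem D49363 : act 8 n47178 = n49363 := rfl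
theorem F221177 : act 0 n49363 = n47218 := d7_1 D49363 (iv D47218) (iv F211207)
theorem F221178 : act 3 n49363 = n47295 := d28_1 D49363 (iv D47295) F178248 (iv F177916) (iv F211208)
theorem F221179 : act 5 n49363 = n47433 := d37_1 D49363 (iv D47433) (iv F211209)
theorem F221180 : act 6 n49363 = n47180 := d40_1 D49363 (iv D47180) (iv F211210)
theorem F221181 : act 9 n49363 = n49363 := d44_2 D47178 D49363 (iv D49363) (iv D47178) F177911
def n49364 : Q := act 8 n47179
theorem D49364 : act 8 n47179 = n49364 := rfl
theorem F221182 : act 0 n49364 = n47221 := d7_1 D49364 (iv D47221) (iv F211211)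
theorem F221183 : act 1 n49364 = n48319 := d15_1 D49364 F218510 F218505
theorem F221184 : act 2 n49364 = n48196 := d22_1 D49364 F220419 F220413
theorem F221185 : act 4 n49364 = n47180 := d33_1 D49364 (iv D47180) (iv F211212)
theorem F221186 : act 9 n49364 = n49364 := d44_2 D47179 D49364 (iv D49364) (iv D47179) F177918
def n49365 : Q := act 8 n47181
theorem D49365 : act 8 n47181 = n49365 := rfl
theorem F221187 : act 0 n49365 = n47224 := d7_1 D49365 (iv D47224) (iv F211217)
theorem F221188 : act 1 n49365 = n49365 := d15_1 D49365 (iv D49365) F211218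
theorem F221189 : act 4 n49365 = n47435 := d33_1 D49365 (iv D47435) (iv F211220)
theorem F221190 : act 5 n49365 = n47856 := d37_1 D49365 F220266 F220263
theorem F221191 : act 6 n49365 = n47182 := d40_1 D49365 (iv D47182) D47181
theorem F221192 : act 7 n49365 = n47854 := d42_1 D49365 F214278 (iv F211221)
theorem F221193 : act 3 n48301 = n49365 := d27_3 F221192 F214274 (iv F215964)
def n49366 : Q := act 9 n47182
theorem D49366 : act 9 n47182 = n49366 := rfl
theorem F221194 : act 0 n49366 = n47226 := d8_1 D49366 (iv D47226) (iv F211223)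
theorem F221195 : act 1 n49366 = n49366 := d16_1 D49366 (iv D49366) F211224
theorem F221196 : act 4 n49366 = n47436 := d34_1 D49366 (iv D47436) (iv F211225)
theorem F221197 : act 5 n49366 = n47185 := d38_1 D49366 (iv D47185) (iv F211226)
theorem F221198 : act 7 n49366 = n47184 := d43_1 D49366 (iv D47184) (iv F211227)
theorem F221199 : act 8 n49366 = n47299 := d44_1 D49366 (iv D47299) (iv D42662) (iv F177938) D47182
def n49367 : Q := act 2 n47183
theorem D49367 : act 2 n47183 = n49367 := rfl
theorem F221200 : act 0 n49367 = n47227 := d1_1 D49367 (iv D47227) (iv F211228)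
theorem F221201 : act 4 n49367 = n47470 := d18_2 (iv F211230) D49367 F212466
theorem F221202 : act 5 n49367 = n47186 := d19_2 (iv F211231) D49367 (iv D47186)
theorem F221203 : act 6 n49367 = n48152 := d20_2 (iv F211232) D49367 (iv D48152)
theorem F221204 : act 7 n49367 = n47216 := d21_2 F220857 D49367 (iv F220853)
theorem F221205 : act 8 n49367 = n49367 := d22_2 F211233 D49367 (iv D49367)
def n49368 : Q := act 9 n47183
theorem D49368 : act 9 n47183 = n49368 := rfl
theorem F221206 : act 0 n49368 = n47229 := d8_1 D49368 (iv D47229) (iv F211228)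
theorem F221207 : act 1 n49368 = n49368 := d16_1 D49368 (iv D49368) F211229
theorem F221208 : act 3 n49368 = n47184 := d29_1 D49368 (iv D47184) D47183
theorem F221209 : act 4 n49368 = n48547 := d34_1 D49368 (iv D48547) (iv F211230)
theorem F221210 : act 5 n49368 = n47187 := d38_1 D49368 (iv D47187) (iv F211231)
theorem F221211 : act 6 n49368 = n48153 := d41_1 D49368 (iv D48153) (iv F211232)
def n49369 : Q := act 9 n47186
theorem D49369 : act 9 n47186 = n49369 := rfl
theorem F221212 : act 0 n49369 = n47232 := d8_1 D49369 (iv D47232) (iv F211245)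
theorem F221213 : act 2 n49369 = n47187 := d23_1 D49369 (iv D47187) D47186
theorem F221214 : act 4 n49369 = n47215 := d34_1 D49369 (iv D47215) (iv F211246)
theorem F221215 : act 6 n49369 = n47189 := d41_1 D49369 (iv D47189) (iv F211247)
theorem F221216 : act 7 n49369 = n47217 := d43_1 D49369 (iv D47217) (iv F211248)
def n49370 : Q := act 8 n47187
theorem D49370 : act 8 n47187 = n49370 := rfl
theorem F221217 : act 0 n49370 = n47233 := d7_1 D49370 (iv D47233) (iv F211250)
theorem F221218 : act 1 n49370 = n49370 := d15_1 D49370 (iv D49370) F211251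
theorem F221219 : act 3 n49370 = n47307 := d28_1 D49370 (iv D47307) F178311 (iv F177956) (iv F211252)
theorem F221220 : act 6 n49370 = n47190 := d40_1 D49370 (iv D47190) (iv F211253)
theorem F221221 : act 9 n49370 = n49370 := d44_2 D47187 D49370 (iv D49370) (iv D47187) F177951
def n49371 : Q := act 9 n47188
theorem D49371 : act 9 n47188 = n49371 := rfl
theorem F221222 : act 0 n49371 = n48622 := d8_1 D49371 F220768 F220761
theorem F221223 : act 1 n49371 = n47189 := d16_1 D49371 (iv D47189) D47188
theorem F221224 : act 2 n49371 = n49371 := d23_1 D49371 (iv D49371) F211254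
theorem F221225 : act 4 n49371 = n48601 := d34_1 D49371 (iv F217939) (iv F217940)
theorem F221226 : act 5 n49371 = n48158 := d38_1 D49371 (iv D48158) (iv F211255)
theorem F221227 : act 8 n48606 = n49371 := d33_0 F221225 F216994 D48606
def n49372 : Q := act 8 n47189
theorem D49372 : act 8 n47189 = n49372 := rfl
theorem F221228 : act 0 n49372 = n47236 := d7_1 D49372 (iv D47236) (iv F211257)
theorem F221229 : act 1 n49372 = n48606 := d15_1 D49372 F221227 F221223
theorem F221230 : act 2 n49372 = n47190 := d22_1 D49372 (iv D47190) (iv F211258)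
theorem F221231 : act 4 n49372 = n48605 := d33_1 D49372 F220387 F220383
theorem F221232 : act 5 n49372 = n48159 := d37_1 D49372 (iv D48159) (iv F211259)
theorem F221233 : act 9 n49372 = n49372 := d44_2 D47189 D49372 (iv D49372) (iv D47189) F177959
def n49373 : Q := act 8 n47191
theorem D49373 : act 8 n47191 = n49373 := rfl
theorem F221234 : act 0 n49373 = n48370 := d7_1 D49373 F216199 (iv F211265)
theorem F221235 : act 1 n49373 = n47931 := d15_1 D49373 (iv D47931) (iv F211266)
theorem F221236 : act 2 n49373 = n49373 := d22_1 D49373 (iv D49373) F211267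
theorem F221237 : act 4 n49373 = n47193 := d33_1 D49373 (iv D47193) D47191
theorem F221238 : act 5 n49373 = n49373 := d37_1 D49373 (iv D49373) F211269
theorem F221239 : act 6 n49373 = n47916 := d40_1 D49373 (iv D47916) (iv F211270)
def n49374 : Q := act 8 n47192
theorem D49374 : act 8 n47192 = n49374 := rfl
theorem F221240 : act 1 n49374 = n48609 := d15_1 D49374 F218153 F218146
theorem F221241 : act 2 n49374 = n49374 := d22_1 D49374 (iv D49374) F211272
theorem F221242 : act 5 n49374 = n47194 := d37_1 D49374 (iv D47194) (iv F211274)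
theorem F221243 : act 6 n49374 = n48607 := d40_1 D49374 F218402 F218400
theorem F221244 : act 7 n49374 = n47193 := d42_1 D49374 (iv D47193) D47192
def n49375 : Q := act 3 n47193
theorem D49375 : act 3 n47193 = n49375 := rfl
theorem F221245 : act 5 n49375 = n47195 := d25_2 (iv F211277) D49375 (iv D47195)
theorem F221246 : act 6 n49375 = n48160 := d26_2 (iv F211278) D49375 (iv D48160)
theorem F221247 : act 8 n49375 = n47202 := d28_2 D47193 D49375 (iv D47202) (iv D42577) (iv F177970)
def n49376 : Q := act 9 n47193
theorem D49376 : act 9 n47193 = n49376 := rfl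
theorem F221248 : act 2 n49376 = n49376 := d23_1 D49376 (iv D49376) F211276
theorem F221249 : act 5 n49376 = n47196 := d38_1 D49376 (iv D47196) (iv F211277)
theorem F221250 : act 6 n49376 = n48161 := d41_1 D49376 (iv D48161) (iv F211278)
theorem F221251 : act 8 n49376 = n47316 := d44_1 D49376 (iv D47316) (iv D42674) (iv F177972) D47193
def n49377 : Q := act 3 n47194
theorem D49377 : act 3 n47194 = n49377 := rfl
theorem F221252 : act 1 n49377 = n48269 := d10_1 D49377 F215863 (iv F211279)
theorem F221253 : act 6 n49377 = n48266 := d26_2 (iv F211282) D49377 F215857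
theorem F221254 : act 7 n49377 = n47195 := d27_2 (iv F211283) D49377 (iv D47195)
theorem F221255 : act 8 n49377 = n47204 := d28_2 D47194 D49377 (iv D47204) (iv D42578) (iv F177974)
def n49378 : Q := act 9 n47194
theorem D49378 : act 9 n47194 = n49378 := rfl
theorem F221256 : act 1 n49378 = n48619 := d16_1 D49378 (iv D48619) (iv F211279)
theorem F221257 : act 2 n49378 = n49378 := d23_1 D49378 (iv D49378) F211280
theorem F221258 : act 4 n49378 = n49378 := d34_1 D49378 (iv D49378) F211281
theorem F221259 : act 6 n49378 = n48616 := d41_1 D49378 (iv D48616) (iv F211282)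
theorem F221260 : act 7 n49378 = n47196 := d43_1 D49378 (iv D47196) (iv F211283)
theorem F221261 : act 8 n49378 = n47318 := d44_1 D49378 (iv D47318) (iv D42675) (iv F177976) D47194
def n49379 : Q := act 2 n47195
theorem D49379 : act 2 n47195 = n49379 := rfl
theorem F221262 : act 3 n49379 = n49379 := d17_2 D47195 D49379 (iv D49379) (iv D47195) F177977
theorem F221263 : act 6 n49379 = n47197 := d20_2 (iv F211284) D49379 (iv D47197)
theorem F221264 : act 8 n49379 = n47206 := d22_2 (iv F211285) D49379 (iv D47206)
def n49380 : Q := act 4 n47195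
theorem D49380 : act 4 n47195 = n49380 := rfl
theorem F221265 : act 3 n49380 = n49380 := d24_1 D49380 (iv D49380) (iv D47195) F177978 D47195
theorem F221266 : act 6 n49380 = n47198 := d31_2 (iv F211284) D49380 (iv D47198)
theorem F221267 : act 8 n49380 = n47207 := d33_2 (iv F211285) D49380 (iv D47207)
def n49381 : Q := act 9 n47195
theorem D49381 : act 9 n47195 = n49381 := rfl
theorem F221268 : act 3 n49381 = n47196 := d29_1 D49381 (iv D47196) D47195
theorem F221269 : act 6 n49381 = n47199 := d41_1 D49381 (iv D47199) (iv F211284)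
def n49382 : Q := act 1 n47197
theorem D49382 : act 1 n47197 = n49382 := rfl
theorem F221270 : act 3 n49382 = n49382 := d10_2 F211290 D49382 (iv D49382)
theorem F221271 : act 5 n49382 = n48164 := d12_2 (iv F211291) D49382 (iv D48164)
theorem F221272 : act 8 n49382 = n47209 := d15_2 (iv F211292) D49382 (iv D47209)
def n49383 : Q := act 4 n47197
theorem D49383 : act 4 n47197 = n49383 := rfl
theorem F221273 : act 0 n49383 = n48266 := d3_1 D49383 F221095 F221090
theorem F221274 : act 2 n49383 = n47198 := d18_1 D49383 (iv D47198) D47197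
theorem F221275 : act 5 n49383 = n48264 := d30_2 (iv F211291) D49383 (iv D48264) (iv F211861) (iv F211863)
theorem F221276 : act 8 n49383 = n47210 := d33_2 (iv F211292) D49383 (iv D47210)
theorem F221277 : act 3 n49383 = n48613 := d46_3 (iv F188597) (iv F211291) D49383 F217035 (iv F218339) (iv D48860) F208597 F177418 F123677 F86435 F86434 F60567 F42624 D13791 F60601 (iv F86495) (iv F205668) (iv D14641) (iv F64138) (iv F91627) F91630 (iv F124035) (iv F177669) (iv D42500) (iv F199564) F176959 F123399 (iv D29067) F86242 (iv F123381) F123380 F123379 F199493 F86526 D20054 F86572 F60635 D20055 F86574 (iv F85601) (iv F202344) F60846 D20138 (iv F124340) (iv F178382) (iv F211872) (iv F221091) F221090 F211292 F178003 D45240 F188626 F188625 (iv F202682) F91807 (iv F91884) (iv F124301) D42679 F178348 (iv F211803) F211802 F188479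
def n49384 : Q := act 9 n47197
theorem D49384 : act 9 n47197 = n49384 := rfl
theorem F221278 : act 2 n49384 = n47199 := d23_1 D49384 (iv D47199) D47197
theorem F221279 : act 3 n49384 = n49384 := d29_1 D49384 (iv D49384) F211290
theorem F221280 : act 5 n49384 = n48165 := d38_1 D49384 (iv D48165) (iv F211291)
def n49385 : Q := act 5 n47198
theorem D49385 : act 5 n47198 = n49385 := rfl
theorem F221281 : act 0 n49385 = n47828 := d4_1 D49385 (iv F221100) F221096
theorem F221282 : act 1 n49385 = n47275 := d12_1 D49385 (iv F218184) F218182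
theorem F221283 : act 2 n49385 = n48264 := d19_1 D49385 (iv F221275) F221274
theorem F221284 : act 3 n49385 = n49385 := d25_1 D49385 (iv D49385) F211293
theorem F221285 : act 4 n49385 = n47258 := d30_1 D49385 F211535 (iv D45228) (iv F177980) D47198
theorem F221286 : act 8 n49385 = n47212 := d37_2 (iv F211294) D49385 (iv D47212)
def n49386 : Q := act 9 n47198
theorem D49386 : act 9 n47198 = n49386 := rfl
theorem F221287 : act 3 n49386 = n49386 := d29_1 D49386 (iv D49386) F211293
theorem F221288 : act 4 n49386 = n47199 := d34_1 D49386 (iv D47199) D47198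
def n49387 : Q := act 8 n47199
theorem D49387 : act 8 n47199 = n49387 := rfl
theorem F221289 : act 3 n49387 = n47327 := d28_1 D49387 (iv D47327) F178350 (iv F177985) (iv F211295)
theorem F221290 : act 5 n49387 = n48167 := d37_1 D49387 (iv D48167) (iv F211296)
theorem F221291 : act 9 n49387 = n47214 := d44_2 D47199 D49387 (iv D47214) (iv D42583) (iv F177981)
def n49388 : Q := act 8 n47200
theorem D49388 : act 8 n47200 = n49388 := rfl
theorem F221292 : act 1 n49388 = n47842 := d15_1 D49388 F218199 F218192
theorem F221293 : act 2 n49388 = n47224 := d22_1 D49388 (iv D47224) (iv F211297)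
theorem F221294 : act 4 n49388 = n47449 := d33_1 D49388 (iv D47449) (iv F211298)
theorem F221295 : act 5 n49388 = n47848 := d37_1 D49388 (iv F218392) F218390
theorem F221296 : act 6 n49388 = n47201 := d40_1 D49388 (iv D47201) D47200
theorem F221297 : act 7 n49388 = n47844 := d42_1 D49388 F214234 (iv F211299)
def n49389 : Q := act 3 n47201
theorem D49389 : act 3 n47201 = n49389 := rfl
theorem F221298 : act 5 n49389 = n47204 := d25_2 (iv F211303) D49389 (iv D47204)
theorem F221299 : act 7 n49389 = n47202 := d27_2 (iv F211304) D49389 (iv D47202)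
def n49390 : Q := act 9 n47201
theorem D49390 : act 9 n47201 = n49390 := rfl
theorem F221300 : act 2 n49390 = n47226 := d23_1 D49390 (iv D47226) (iv F211301)
theorem F221301 : act 4 n49390 = n47451 := d34_1 D49390 (iv D47451) (iv F211302)
theorem F221302 : act 5 n49390 = n47205 := d38_1 D49390 (iv D47205) (iv F211303)
theorem F221303 : act 7 n49390 = n47203 := d43_1 D49390 (iv D47203) (iv F211304)
theorem F221304 : act 8 n49390 = n47330 := d44_1 D49390 (iv D47330) (iv D42682) (iv F177989) D47201
def n49391 : Q := act 2 n47202
theorem D49391 : act 2 n47202 = n49391 := rfl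
theorem F221305 : act 3 n49391 = n47227 := d17_2 D47202 D49391 (iv D47227) (iv D42596) (iv F177990)
theorem F221306 : act 5 n49391 = n47206 := d19_2 (iv F211305) D49391 (iv D47206)
theorem F221307 : act 6 n49391 = n48170 := d20_2 (iv F211306) D49391 (iv D48170)
def n49392 : Q := act 4 n47202
theorem D49392 : act 4 n47202 = n49392 := rfl
theorem F221308 : act 3 n49392 = n47453 := d24_1 D49392 (iv D47453) (iv D42886) (iv F177991) D47202
theorem F221309 : act 6 n49392 = n48171 := d31_2 (iv F211306) D49392 (iv D48171)
def n49393 : Q := act 9 n47202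
theorem D49393 : act 9 n47202 = n49393 := rfl
theorem F221310 : act 3 n49393 = n47203 := d29_1 D49393 (iv D47203) D47202
theorem F221311 : act 5 n49393 = n47208 := d38_1 D49393 (iv D47208) (iv F211305)
theorem F221312 : act 6 n49393 = n48172 := d41_1 D49393 (iv D48172) (iv F211306)
def n49394 : Q := act 9 n47204
theorem D49394 : act 9 n47204 = n49394 := rfl
theorem F221313 : act 3 n49394 = n47205 := d29_1 D49394 (iv D47205) D47204
theorem F221314 : act 7 n49394 = n47208 := d43_1 D49394 (iv D47208) (iv F211312)
def n49395 : Q := act 1 n47206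
theorem D49395 : act 1 n47206 = n49395 := rfl
theorem F221315 : act 3 n49395 = n47231 := d10_2 (iv F211317) D49395 (iv D47231)
theorem F221316 : act 6 n49395 = n47209 := d13_2 (iv F211318) D49395 (iv D47209)
def n49396 : Q := act 9 n47206
theorem D49396 : act 9 n47206 = n49396 := rfl
theorem F221317 : act 2 n49396 = n47208 := d23_1 D49396 (iv D47208) D47206
theorem F221318 : act 3 n49396 = n47232 := d29_1 D49396 (iv D47232) (iv F211317)
theorem F221319 : act 6 n49396 = n47211 := d41_1 D49396 (iv D47211) (iv F211318)
def n49397 : Q := act 5 n47207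
theorem D49397 : act 5 n47207 = n49397 := rfl
theorem F221320 : act 3 n49397 = n47216 := d25_1 D49397 (iv D47216) (iv F211319)
def n49398 : Q := act 9 n47207
theorem D49398 : act 9 n47207 = n49398 := rfl
theorem F221321 : act 3 n49398 = n47217 := d29_1 D49398 (iv D47217) (iv F211319)
theorem F221322 : act 4 n49398 = n47208 := d34_1 D49398 (iv D47208) D47207
theorem F221323 : act 6 n49398 = n47213 := d41_1 D49398 (iv D47213) (iv F211320)
def n49399 : Q := act 8 n47208
theorem D49399 : act 8 n47208 = n49399 := rfl
theorem F221324 : act 3 n49399 = n47342 := d28_1 D49399 (iv D47342) F178373 (iv F178001) (iv F211321)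
theorem F221325 : act 6 n49399 = n47214 := d40_1 D49399 (iv D47214) (iv F211322)
def n49400 : Q := act 0 n47209
theorem D49400 : act 0 n47209 = n49400 := rfl
theorem F221326 : act 3 n49400 = n47234 := d2_2 (iv F211323) D49400 (iv D47234)
theorem F221327 : act 5 n49400 = n48179 := d4_2 (iv F211324) D49400 (iv D48179)
def n49401 : Q := act 4 n47209
theorem D49401 : act 4 n47209 = n49401 := rfl
theorem F221328 : act 1 n49401 = n47210 := d11_1 D49401 (iv D47210) D47209
def n49402 : Q := act 9 n47209
theorem D49402 : act 9 n47209 = n49402 := rfl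
theorem F221329 : act 1 n49402 = n47211 := d16_1 D49402 (iv D47211) D47209
theorem F221330 : act 3 n49402 = n47235 := d29_1 D49402 (iv D47235) (iv F211323)
theorem F221331 : act 5 n49402 = n48181 := d38_1 D49402 (iv D48181) (iv F211324)
def n49403 : Q := act 5 n47210
theorem D49403 : act 5 n47210 = n49403 := rfl
theorem F221332 : act 0 n49403 = n48234 := d4_1 D49403 (iv F220346) F220342
theorem F221333 : act 2 n49403 = n47212 := d19_1 D49403 (iv D47212) (iv F211325)
theorem F221334 : act 4 n49403 = n47265 := d30_1 D49403 F211565 (iv D45240) (iv F178003) D47210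
theorem F221335 : act 8 n49403 = n48264 := d37_2 F221276 D49403 (iv F221275)
def n49404 : Q := act 9 n47210
theorem D49404 : act 9 n47210 = n49404 := rfl
theorem F221336 : act 2 n49404 = n47213 := d23_1 D49404 (iv D47213) (iv F211325)
theorem F221337 : act 4 n49404 = n47211 := d34_1 D49404 (iv D47211) D47210
def n49405 : Q := act 8 n47211
theorem D49405 : act 8 n47211 = n49405 := rfl
theorem F221338 : act 2 n49405 = n47214 := d22_1 D49405 (iv D47214) (iv F211326)
theorem F221339 : act 5 n49405 = n48183 := d37_1 D49405 (iv D48183) (iv F211328)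
def n49406 : Q := act 6 n47212
theorem D49406 : act 6 n47212 = n49406 := rfl
theorem F221340 : act 0 n49406 = n48252 := d5_1 D49406 (iv F218429) F218424
theorem F221341 : act 1 n49406 = n47284 := d13_1 D49406 F211641 (iv F211329)
theorem F221342 : act 3 n49406 = n47219 := d26_1 D49406 (iv D47219) (iv F211330)
theorem F221343 : act 4 n49406 = n47263 := d31_1 D49406 F211558 (iv F211331)
theorem F221344 : act 7 n49406 = n48255 := d39_2 F220371 D49406 F215831 (iv F215389) F220372
def n49407 : Q := act 9 n47212
theorem D49407 : act 9 n47212 = n49407 := rfl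
theorem F221345 : act 1 n49407 = n47289 := d16_1 D49407 (iv D47289) (iv F211329)
theorem F221346 : act 3 n49407 = n47220 := d29_1 D49407 (iv D47220) (iv F211330)
theorem F221347 : act 4 n49407 = n47266 := d34_1 D49407 (iv D47266) (iv F211331)
theorem F221348 : act 5 n49407 = n47213 := d38_1 D49407 (iv D47213) D47212
def n49408 : Q := act 8 n47213
theorem D49408 : act 8 n47213 = n49408 := rfl
theorem F221349 : act 4 n49408 = n47214 := d33_1 D49408 (iv D47214) (iv F211333)
def n49409 : Q := act 8 n47215
theorem D49409 : act 8 n47215 = n49409 := rfl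
theorem F221350 : act 1 n49409 = n48603 := d15_1 D49409 F218278 F218272
theorem F221351 : act 3 n49409 = n47354 := d28_1 D49409 (iv D47354) F178391 (iv F178013) (iv F211336)
theorem F221352 : act 5 n49409 = n47472 := d37_1 D49409 (iv D47472) (iv F211337)
theorem F221353 : act 6 n49409 = n48605 := d40_1 D49409 F220387 F220385
theorem F221354 : act 7 n49409 = n47218 := d42_1 D49409 (iv D47218) (iv F211338)
theorem F221355 : act 9 n49409 = n49409 := d44_2 D47215 D49409 (iv D49409) (iv D47215) F178009
def n49410 : Q := act 6 n47216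
theorem D49410 : act 6 n47216 = n49410 := rfl
theorem F221356 : act 0 n49410 = n48281 := d5_1 D49410 (iv F221169) F221165
theorem F221357 : act 1 n49410 = n47293 := d13_1 D49410 (iv F218283) F218280
theorem F221358 : act 2 n49410 = n48301 := d20_1 D49410 (iv F220856) F220853
theorem F221359 : act 4 n49410 = n47473 := d31_1 D49410 (iv D47473) (iv F211339)
theorem F221360 : act 5 n49410 = n47219 := d35_1 D49410 (iv D47219) (iv D42588) (iv F178014) D47216
theorem F221361 : act 8 n49410 = n49410 := d40_2 F211340 D49410 (iv D49410)
theorem F221362 : act 7 n48285 = n49410 := d36_0 F221360 F211351 (iv F215909)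
def n49411 : Q := act 9 n47216
theorem D49411 : act 9 n47216 = n49411 := rfl
theorem F221363 : act 4 n49411 = n47474 := d34_1 D49411 (iv D47474) (iv F211339)
theorem F221364 : act 5 n49411 = n47217 := d38_1 D49411 (iv D47217) D47216
def n49412 : Q := act 8 n47217
theorem D49412 : act 8 n47217 = n49412 := rfl
theorem F221365 : act 4 n49412 = n47218 := d33_1 D49412 (iv D47218) (iv F211341)
theorem F221366 : act 6 n49412 = n47221 := d40_1 D49412 (iv D47221) (iv F211342)
theorem F221367 : act 9 n49412 = n49412 := d44_2 D47217 D49412 (iv D49412) (iv D47217) F178015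
def n49413 : Q := act 9 n47219
theorem D49413 : act 9 n47219 = n49413 := rfl
theorem F221368 : act 0 n49413 = n48292 := d8_1 D49413 (iv D48292) (iv F211347)
theorem F221369 : act 1 n49413 = n47294 := d16_1 D49413 (iv D47294) (iv F211348)
theorem F221370 : act 2 n49413 = n48313 := d23_1 D49413 (iv D48313) (iv F211349)
theorem F221371 : act 4 n49413 = n47222 := d34_1 D49413 (iv D47222) (iv F211350)
theorem F221372 : act 6 n49413 = n47220 := d41_1 D49413 (iv D47220) D47219
theorem F221373 : act 7 n49413 = n48294 := d43_1 D49413 (iv D48294) (iv F211351)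
def n49414 : Q := act 8 n47220
theorem D49414 : act 8 n47220 = n49414 := rfl
theorem F221374 : act 1 n49414 = n47296 := d15_1 D49414 (iv D47296) (iv F211353)
theorem F221375 : act 4 n49414 = n47223 := d33_1 D49414 (iv D47223) (iv F211354)
theorem F221376 : act 5 n49414 = n47221 := d37_1 D49414 (iv D47221) (iv F211355)
theorem F221377 : act 9 n49414 = n49414 := d44_2 D47220 D49414 (iv D49414) (iv D47220) F178020
def n49415 : Q := act 3 n47221
theorem D49415 : act 3 n47221 = n49415 := rfl
theorem F221378 : act 4 n49415 = n47361 := d24_2 (iv F211356) D49415 (iv D47361) F178411 (iv F178022)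
theorem F221379 : act 9 n49415 = n49415 := d29_2 F211357 D49415 (iv D49415)
def n49416 : Q := act 8 n47222
theorem D49416 : act 8 n47222 = n49416 := rfl
theorem F221380 : act 0 n49416 = n48629 := d7_1 D49416 (iv D48629) (iv F211358)
theorem F221381 : act 1 n49416 = n47295 := d15_1 D49416 (iv D47295) (iv F211359)
theorem F221382 : act 2 n49416 = n48644 := d22_1 D49416 (iv D48644) (iv F211360)
theorem F221383 : act 5 n49416 = n47481 := d37_1 D49416 (iv D47481) (iv F211362)
theorem F221384 : act 6 n49416 = n47223 := d40_1 D49416 (iv D47223) (iv F211363)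
theorem F221385 : act 7 n49416 = n48630 := d42_1 D49416 (iv D48630) (iv F211364)
theorem F221386 : act 9 n49416 = n49416 := d44_2 D47222 D49416 (iv D49416) (iv D47222) F178027
def n49417 : Q := act 9 n47224
theorem D49417 : act 9 n47224 = n49417 := rfl
theorem F221387 : act 1 n49417 = n47237 := d16_1 D49417 (iv D47237) (iv F211368)
theorem F221388 : act 3 n49417 = n48303 := d29_1 D49417 (iv D48303) F211373
theorem F221389 : act 4 n49417 = n47483 := d34_1 D49417 (iv D47483) (iv F211369)
theorem F221390 : act 5 n49417 = n47857 := d38_1 D49417 (iv D47857) (iv F211370)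
theorem F221391 : act 6 n49417 = n47226 := d41_1 D49417 (iv D47226) (iv F211371)
theorem F221392 : act 7 n49417 = n47855 := d43_1 D49417 (iv D47855) (iv F211372)
theorem F221393 : act 8 n49417 = n47364 := d44_1 D49417 (iv D47364) (iv D42708) (iv F178037) D47224
def n49418 : Q := act 4 n47225
theorem D49418 : act 4 n47225 = n49418 := rfl
theorem F221394 : act 0 n49418 = n47401 := d3_1 D49418 (iv F220855) F220851
theorem F221395 : act 1 n49418 = n47238 := d11_1 D49418 (iv D47238) (iv F211374)
theorem F221396 : act 2 n49418 = n47431 := d18_1 D49418 (iv F221168) F221167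
theorem F221397 : act 3 n49418 = n47485 := d24_1 D49418 (iv D47485) (iv D42912) (iv F178039) D47225
theorem F221398 : act 5 n49418 = n47395 := d30_2 (iv F211375) D49418 (iv D47395) (iv F210891) F210890
theorem F221399 : act 6 n49418 = n48302 := d31_2 (iv F211376) D49418 (iv D48302)
theorem F221400 : act 7 n49418 = n47228 := d32_2 (iv F211377) D49418 (iv D47228)
theorem F221401 : act 8 n49418 = n49418 := d33_2 F211378 D49418 (iv D49418)
def n49419 : Q := act 9 n47225
theorem D49419 : act 9 n47225 = n49419 := rfl
theorem F221402 : act 1 n49419 = n47239 := d16_1 D49419 (iv D47239) (iv F211374)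
theorem F221403 : act 3 n49419 = n47226 := d29_1 D49419 (iv D47226) D47225
theorem F221404 : act 5 n49419 = n47230 := d38_1 D49419 (iv D47230) (iv F211375)
theorem F221405 : act 6 n49419 = n48303 := d41_1 D49419 (iv D48303) (iv F211376)
theorem F221406 : act 7 n49419 = n47229 := d43_1 D49419 (iv D47229) (iv F211377)
def n49420 : Q := act 1 n47227
theorem D49420 : act 1 n47227 = n49420 := rfl
theorem F221407 : act 2 n49420 = n47240 := d9_2 D47227 D49420 (iv D47240) (iv D42608) (iv F178042)
theorem F221408 : act 5 n49420 = n47231 := d12_2 (iv F211384) D49420 (iv D47231)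
theorem F221409 : act 6 n49420 = n47365 := d13_2 (iv F211385) D49420 F211940
theorem F221410 : act 7 n49420 = n48279 := d14_2 F221170 D49420 (iv F221166)
theorem F221411 : act 8 n49420 = n49420 := d15_2 F211386 D49420 (iv D49420)
def n49421 : Q := act 4 n47227
theorem D49421 : act 4 n47227 = n49421 := rfl
theorem F221412 : act 0 n49421 = n47470 := d3_1 D49421 (iv F221201) F221200
theorem F221413 : act 2 n49421 = n47228 := d18_1 D49421 (iv D47228) D47227
theorem F221414 : act 5 n49421 = n47429 := d30_2 (iv F211384) D49421 (iv D47429) (iv F211000) F210999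
theorem F221415 : act 6 n49421 = n48186 := d31_2 (iv F211385) D49421 (iv D48186)
theorem F221416 : act 7 n49421 = n47431 := d32_2 F221170 D49421 (iv F221168)
theorem F221417 : act 8 n49421 = n49421 := d33_2 F211386 D49421 (iv D49421)
def n49422 : Q := act 9 n47227
theorem D49422 : act 9 n47227 = n49422 := rfl
theorem F221418 : act 2 n49422 = n47229 := d23_1 D49422 (iv D47229) D47227
theorem F221419 : act 5 n49422 = n47232 := d38_1 D49422 (iv D47232) (iv F211384)
theorem F221420 : act 6 n49422 = n48187 := d41_1 D49422 (iv D48187) (iv F211385)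
def n49423 : Q := act 9 n47228
theorem D49423 : act 9 n47228 = n49423 := rfl
theorem F221421 : act 0 n49423 = n48547 := d8_1 D49423 (iv D48547) (iv F211387)
theorem F221422 : act 1 n49423 = n47243 := d16_1 D49423 (iv D47243) (iv F211388)
theorem F221423 : act 3 n49423 = n47490 := d29_1 D49423 (iv D47490) (iv F211389)
theorem F221424 : act 4 n49423 = n47229 := d34_1 D49423 (iv D47229) D47228
theorem F221425 : act 5 n49423 = n48739 := d38_1 D49423 (iv D48739) (iv F211390)
theorem F221426 : act 6 n49423 = n48188 := d41_1 D49423 (iv D48188) (iv F211391)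
def n49424 : Q := act 8 n47229
theorem D49424 : act 8 n47229 = n49424 := rfl
theorem F221427 : act 1 n49424 = n47244 := d15_1 D49424 (iv D47244) (iv F211393)
theorem F221428 : act 3 n49424 = n47372 := d28_1 D49424 (iv D47372) F178448 (iv F178050) (iv F211394)
theorem F221429 : act 5 n49424 = n47233 := d37_1 D49424 (iv D47233) (iv F211395)
theorem F221430 : act 6 n49424 = n48189 := d40_1 D49424 (iv D48189) (iv F211396)
theorem F221431 : act 9 n49424 = n49424 := d44_2 D47229 D49424 (iv D49424) (iv D47229) F178045
def n49425 : Q := act 8 n47230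
theorem D49425 : act 8 n47230 = n49425 := rfl
theorem F221432 : act 1 n49425 = n47247 := d15_1 D49425 (iv D47247) (iv F211397)
theorem F221433 : act 3 n49425 = n47374 := d28_1 D49425 (iv D47374) F178455 (iv F178057) (iv F211398)
theorem F221434 : act 6 n49425 = n48196 := d40_1 D49425 F220419 F220417
theorem F221435 : act 7 n49425 = n47233 := d42_1 D49425 (iv D47233) (iv F211399)
theorem F221436 : act 9 n49425 = n49425 := d44_2 D47230 D49425 (iv D49425) (iv D47230) F178053
def n49426 : Q := act 9 n47231
theorem D49426 : act 9 n47231 = n49426 := rfl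
theorem F221437 : act 1 n49426 = n47232 := d16_1 D49426 (iv D47232) D47231
theorem F221438 : act 2 n49426 = n47249 := d23_1 D49426 (iv D47249) (iv F211400)
theorem F221439 : act 6 n49426 = n47235 := d41_1 D49426 (iv D47235) (iv F211401)
def n49427 : Q := act 8 n47232
theorem D49427 : act 8 n47232 = n49427 := rfl
theorem F221440 : act 2 n49427 = n47233 := d22_1 D49427 (iv D47233) (iv F211403)
theorem F221441 : act 6 n49427 = n47236 := d40_1 D49427 (iv D47236) (iv F211404)
theorem F221442 : act 9 n49427 = n49427 := d44_2 D47232 D49427 (iv D49427) (iv D47232) F178059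
def n49428 : Q := act 9 n47234
theorem D49428 : act 9 n47234 = n49428 := rfl
theorem F221443 : act 0 n49428 = n47235 := d8_1 D49428 (iv D47235) D47234
theorem F221444 : act 1 n49428 = n48622 := d16_1 D49428 F220768 F220762
theorem F221445 : act 2 n49428 = n47251 := d23_1 D49428 (iv D47251) (iv F211409)
theorem F221446 : act 4 n49428 = n48618 := d34_1 D49428 F218132 F218128
theorem F221447 : act 5 n49428 = n48191 := d38_1 D49428 (iv D48191) (iv F211410)
theorem F221448 : act 8 n48635 = n49428 := d33_0 F221446 F217052 D48635
def n49429 : Q := act 8 n47235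
theorem D49429 : act 8 n47235 = n49429 := rfl
theorem F221449 : act 0 n49429 = n48635 := d7_1 D49429 F221448 F221443
theorem F221450 : act 1 n49429 = n47236 := d15_1 D49429 (iv D47236) (iv F211412)
theorem F221451 : act 2 n49429 = n47252 := d22_1 D49429 (iv D47252) (iv F211413)
theorem F221452 : act 4 n49429 = n48633 := d33_1 D49429 F220926 F220924
theorem F221453 : act 5 n49429 = n48192 := d37_1 D49429 (iv D48192) (iv F211414)
theorem F221454 : act 9 n49429 = n49429 := d44_2 D47235 D49429 (iv D49429) (iv D47235) F178065
def n49430 : Q := act 3 n47236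
theorem D49430 : act 3 n47236 = n49430 := rfl
theorem F221455 : act 2 n49430 = n47380 := d17_1 D49430 (iv D47380) F178477 (iv F178069) (iv F211415)
theorem F221456 : act 5 n49430 = n48193 := d25_2 (iv F211416) D49430 (iv D48193)
theorem F221457 : act 9 n49430 = n49430 := d29_2 F211417 D49430 (iv D49430)
def n49431 : Q := act 9 n47238
theorem D49431 : act 9 n47238 = n49431 := rfl
theorem F221458 : act 0 n49431 = n49431 := d8_1 D49431 (iv D49431) F211426
theorem F221459 : act 2 n49431 = n47680 := d23_1 D49431 F213394 (iv F211427)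
theorem F221460 : act 3 n49431 = n47495 := d29_1 D49431 (iv D47495) (iv F211428)
theorem F221461 : act 4 n49431 = n47239 := d34_1 D49431 (iv D47239) D47238
theorem F221462 : act 5 n49431 = n47499 := d38_1 D49431 F212629 (iv F211429)
theorem F221463 : act 6 n49431 = n48304 := d41_1 D49431 (iv D48304) (iv F211430)
theorem F221464 : act 7 n49431 = n47243 := d43_1 D49431 (iv D47243) (iv F211431)
def n49432 : Q := act 8 n47239
theorem D49432 : act 8 n47239 = n49432 := rfl
theorem F221465 : act 0 n49432 = n49432 := d7_1 D49432 (iv D49432) F211433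
theorem F221466 : act 2 n49432 = n48300 := d22_1 D49432 (iv D48300) (iv F211434)
theorem F221467 : act 3 n49432 = n47382 := d28_1 D49432 (iv D47382) F178499 (iv F178084) (iv F211435)
theorem F221468 : act 5 n49432 = n47247 := d37_1 D49432 (iv D47247) (iv F211436)
theorem F221469 : act 6 n49432 = n48305 := d40_1 D49432 (iv D48305) (iv F211437)
theorem F221470 : act 7 n49432 = n47244 := d42_1 D49432 (iv D47244) (iv F211438)
theorem F221471 : act 9 n49432 = n49432 := d44_2 D47239 D49432 (iv D49432) (iv D47239) F178079
def n49433 : Q := act 0 n47240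
theorem D49433 : act 0 n47240 = n49433 := rfl
theorem F221472 : act 1 n49433 = n49433 := d0_2 D47240 D49433 (iv D49433) (iv D47240) F178085
theorem F221473 : act 3 n49433 = n47297 := d2_2 (iv F211439) D49433 F211689
theorem F221474 : act 5 n49433 = n47248 := d4_2 (iv F211440) D49433 (iv D47248)
theorem F221475 : act 6 n49433 = n47298 := d5_2 (iv F211441) D49433 F211694
theorem F221476 : act 7 n49433 = n48217 := d6_2 (iv F211442) D49433 F215728
theorem F221477 : act 8 n49433 = n49433 := d7_2 F211443 D49433 (iv D49433)
def n49434 : Q := act 4 n47240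
theorem D49434 : act 4 n47240 = n49434 := rfl
theorem F221478 : act 1 n49434 = n47241 := d11_1 D49434 (iv D47241) D47240
theorem F221479 : act 3 n49434 = n47644 := d24_1 D49434 (iv D47644) (iv D43081) (iv F178428) (iv F211439)
theorem F221480 : act 5 n49434 = n47749 := d30_2 (iv F211440) D49434 (iv F217682) F217683 F211067
theorem F221481 : act 6 n49434 = n47366 := d31_2 (iv F211441) D49434 (iv D47366)
theorem F221482 : act 7 n49434 = n47747 := d32_2 (iv F211442) D49434 F213780
theorem F221483 : act 8 n49434 = n49434 := d33_2 F211443 D49434 (iv D49434)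
def n49435 : Q := act 9 n47240
theorem D49435 : act 9 n47240 = n49435 := rfl
theorem F221484 : act 1 n49435 = n47242 := d16_1 D49435 (iv D47242) D47240
theorem F221485 : act 3 n49435 = n47364 := d29_1 D49435 (iv D47364) (iv F211439)
theorem F221486 : act 5 n49435 = n47249 := d38_1 D49435 (iv D47249) (iv F211440)
theorem F221487 : act 6 n49435 = n47367 := d41_1 D49435 (iv D47367) (iv F211441)
theorem F221488 : act 7 n49435 = n48280 := d43_1 D49435 (iv D48280) (iv F211442)
def n49436 : Q := act 9 n47241
theorem D49436 : act 9 n47241 = n49436 := rfl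
theorem F221489 : act 0 n49436 = n49436 := d8_1 D49436 (iv D49436) F211444
theorem F221490 : act 2 n49436 = n47243 := d23_1 D49436 (iv D47243) (iv F211445)
theorem F221491 : act 3 n49436 = n47669 := d29_1 D49436 (iv D47669) (iv F211446)
theorem F221492 : act 4 n49436 = n47242 := d34_1 D49436 (iv D47242) D47241
theorem F221493 : act 5 n49436 = n47684 := d38_1 D49436 F213413 (iv F211447)
theorem F221494 : act 6 n49436 = n47381 := d41_1 D49436 (iv D47381) (iv F211448)
theorem F221495 : act 7 n49436 = n47680 := d43_1 D49436 F213394 (iv F211449)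
def n49437 : Q := act 8 n47242
theorem D49437 : act 8 n47242 = n49437 := rfl
theorem F221496 : act 0 n49437 = n49437 := d7_1 D49437 (iv D49437) F211451
theorem F221497 : act 2 n49437 = n47244 := d22_1 D49437 (iv D47244) (iv F211452)
theorem F221498 : act 3 n49437 = n48305 := d28_1 D49437 (iv D48305) (iv F211420) F211425 (iv F211453)
theorem F221499 : act 5 n49437 = n47250 := d37_1 D49437 (iv D47250) (iv F211454)
theorem F221500 : act 6 n49437 = n47382 := d40_1 D49437 (iv D47382) (iv F211455)
theorem F221501 : act 7 n49437 = n48300 := d42_1 D49437 (iv D48300) (iv F211456)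
theorem F221502 : act 9 n49437 = n49437 := d44_2 D47242 D49437 (iv D49437) (iv D47242) F178088
def n49438 : Q := act 8 n47243
theorem D49438 : act 8 n47243 = n49438 := rfl
theorem F221503 : act 0 n49438 = n49438 := d7_1 D49438 (iv D49438) F211457
theorem F221504 : act 4 n49438 = n47244 := d33_1 D49438 (iv D47244) (iv F211459)
theorem F221505 : act 6 n49438 = n48194 := d40_1 D49438 (iv D48194) (iv F211460)
theorem F221506 : act 9 n49438 = n49438 := d44_2 D47243 D49438 (iv D49438) (iv D47243) F178092
def n49439 : Q := act 9 n47245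
theorem D49439 : act 9 n47245 = n49439 := rfl
theorem F221507 : act 1 n49439 = n47246 := d16_1 D49439 (iv D47246) D47245
theorem F221508 : act 3 n49439 = n47859 := d29_1 D49439 F214302 (iv F211466)
theorem F221509 : act 5 n49439 = n48280 := d38_1 D49439 (iv D48280) (iv F211467)
theorem F221510 : act 6 n49439 = n47861 := d41_1 D49439 F214313 (iv F211468)
theorem F221511 : act 7 n49439 = n47249 := d43_1 D49439 (iv D47249) (iv F211469)
theorem F221512 : act 8 n48316 = n49439 := d40_0 F221510 F214312 (iv F216031)
def n49440 : Q := act 9 n47248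
theorem D49440 : act 9 n47248 = n49440 := rfl
theorem F221513 : act 0 n49440 = n47249 := d8_1 D49440 (iv D47249) D47248
theorem F221514 : act 1 n49440 = n49440 := d16_1 D49440 (iv D49440) F211484
theorem F221515 : act 6 n49440 = n47251 := d41_1 D49440 (iv D47251) (iv F211485)
def n49441 : Q := act 8 n47249
theorem D49441 : act 8 n47249 = n49441 := rfl
theorem F221516 : act 1 n49441 = n47250 := d15_1 D49441 (iv D47250) (iv F211487)
theorem F221517 : act 3 n49441 = n48314 := d28_1 D49441 (iv D48314) (iv F214290) (iv F218371) F218366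
theorem F221518 : act 6 n49441 = n47252 := d40_1 D49441 (iv D47252) (iv F211488)
theorem F221519 : act 7 n49441 = n48316 := d42_1 D49441 F221512 F221511
theorem F221520 : act 9 n49441 = n49441 := d44_2 D47249 D49441 (iv D49441) (iv D47249) F178104
def n49442 : Q := act 8 n47251
theorem D49442 : act 8 n47251 = n49442 := rfl
theorem F221521 : act 0 n49442 = n47252 := d7_1 D49442 (iv D47252) (iv F211495)
theorem F221522 : act 1 n49442 = n49442 := d15_1 D49442 (iv D49442) F211496
theorem F221523 : act 2 n49442 = n48635 := d22_1 D49442 F221448 F221445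
theorem F221524 : act 4 n49442 = n48634 := d33_1 D49442 (iv F220994) F220992
theorem F221525 : act 5 n49442 = n48195 := d37_1 D49442 (iv D48195) (iv F211497)
theorem F221526 : act 9 n49442 = n49442 := d44_2 D47251 D49442 (iv D49442) (iv D47251) F178114
def n49443 : Q := act 3 n47252
theorem D49443 : act 3 n47252 = n49443 := rfl
theorem F221527 : act 1 n49443 = n47253 := d10_1 D49443 (iv D47253) (iv F211498)
theorem F221528 : act 5 n49443 = n48196 := d25_2 (iv F211499) D49443 (iv D48196)
theorem F221529 : act 6 n49443 = n48314 := d26_2 F221518 D49443 (iv F221517)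
theorem F221530 : act 7 n49443 = n48136 := d27_2 F220445 D49443 (iv F220442)
theorem F221531 : act 8 n49443 = n48134 := d28_2 D47252 D49443 F218384 (iv D48866) F208647
theorem F221532 : act 9 n49443 = n49443 := d29_2 F211500 D49443 (iv D49443)
theorem F221533 : act 4 n48593 = n49443 := d33_3 F221531 F215458 D48593
def n49444 : Q := act 8 n47255
theorem D49444 : act 8 n47255 = n49444 := rfl
theorem F221534 : act 0 n49444 = n47844 := d7_1 D49444 F214234 (iv F211517)
theorem F221535 : act 1 n49444 = n47270 := d15_1 D49444 (iv D47270) (iv F211518)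
theorem F221536 : act 2 n49444 = n47854 := d22_1 D49444 F214278 (iv F211519)
theorem F221537 : act 4 n49444 = n48322 := d33_1 D49444 (iv D48322) F211523
theorem F221538 : act 5 n49444 = n47257 := d37_1 D49444 (iv D47257) D47255
theorem F221539 : act 6 n49444 = n48142 := d40_1 D49444 (iv D48142) (iv F211521)
def n49445 : Q := act 8 n47256
theorem D49445 : act 8 n47256 = n49445 := rfl
theorem F221540 : act 0 n49445 = n47848 := d7_1 D49445 (iv F218392) F218385
theorem F221541 : act 1 n49445 = n47271 := d15_1 D49445 (iv D47271) (iv F211524)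
theorem F221542 : act 2 n49445 = n47856 := d22_1 D49445 F220266 F220260
theorem F221543 : act 4 n49445 = n49445 := d33_1 D49445 (iv D49445) F211526
theorem F221544 : act 7 n49445 = n47257 := d42_1 D49445 (iv D47257) D47256
def n49446 : Q := act 3 n47257
theorem D49446 : act 3 n47257 = n49446 := rfl
theorem F221545 : act 0 n49446 = n47822 := d2_1 D49446 F214156 (iv F211527)
theorem F221546 : act 1 n49446 = n47272 := d10_1 D49446 (iv D47272) (iv F211528)
theorem F221547 : act 2 n49446 = n48255 := d17_1 D49446 F215830 F189248 (iv F186025) (iv F211529)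
theorem F221548 : act 6 n49446 = n47258 := d26_2 (iv F211531) D49446 (iv D47258)
theorem F221549 : act 8 n49446 = n47263 := d28_2 D47257 D49446 (iv D47263) (iv D42624) (iv F178126)
def n49447 : Q := act 9 n47257
theorem D49447 : act 9 n47257 = n49447 := rfl
theorem F221550 : act 0 n49447 = n47850 := d8_1 D49447 (iv D47850) (iv F211527)
theorem F221551 : act 1 n49447 = n47273 := d16_1 D49447 (iv D47273) (iv F211528)
theorem F221552 : act 2 n49447 = n47858 := d23_1 D49447 (iv D47858) (iv F211529)
theorem F221553 : act 4 n49447 = n49447 := d34_1 D49447 (iv D49447) F211530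
theorem F221554 : act 6 n49447 = n47259 := d41_1 D49447 (iv D47259) (iv F211531)
def n49448 : Q := act 9 n47258
theorem D49448 : act 9 n47258 = n49448 := rfl
theorem F221555 : act 0 n49448 = n47829 := d8_1 D49448 (iv D47829) (iv F211532)
theorem F221556 : act 1 n49448 = n47276 := d16_1 D49448 (iv D47276) (iv F211533)
theorem F221557 : act 2 n49448 = n48265 := d23_1 D49448 (iv D48265) (iv F211534)
theorem F221558 : act 3 n49448 = n47259 := d29_1 D49448 (iv D47259) D47258
theorem F221559 : act 5 n49448 = n48166 := d38_1 D49448 (iv D48166) (iv F211535)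
def n49449 : Q := act 8 n47260
theorem D49449 : act 8 n47260 = n49449 := rfl
theorem F221560 : act 0 n49449 = n48607 := d7_1 D49449 F218402 F218394
theorem F221561 : act 1 n49449 = n47278 := d15_1 D49449 (iv D47278) (iv F211542)
theorem F221562 : act 2 n49449 = n49449 := d22_1 D49449 (iv D49449) F211543
theorem F221563 : act 4 n49449 = n47508 := d33_1 D49449 (iv D47508) (iv F211544)
theorem F221564 : act 5 n49449 = n47262 := d37_1 D49449 (iv D47262) (iv F211545)
theorem F221565 : act 7 n49449 = n47261 := d42_1 D49449 (iv D47261) D47260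
def n49450 : Q := act 3 n47261
theorem D49450 : act 3 n47261 = n49450 := rfl
theorem F221566 : act 1 n49450 = n47279 := d10_1 D49450 (iv D47279) (iv F211546)
theorem F221567 : act 5 n49450 = n47263 := d25_2 (iv F211549) D49450 (iv D47263)
theorem F221568 : act 6 n49450 = n48176 := d26_2 (iv F211550) D49450 F215610
def n49451 : Q := act 9 n47261
theorem D49451 : act 9 n47261 = n49451 := rfl
theorem F221569 : act 1 n49451 = n47280 := d16_1 D49451 (iv D47280) (iv F211546)
theorem F221570 : act 2 n49451 = n49451 := d23_1 D49451 (iv D49451) F211547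
theorem F221571 : act 4 n49451 = n47510 := d34_1 D49451 (iv D47510) (iv F211548)
theorem F221572 : act 5 n49451 = n47264 := d38_1 D49451 (iv D47264) (iv F211549)
theorem F221573 : act 6 n49451 = n48185 := d41_1 D49451 (iv D48185) (iv F211550)
def n49452 : Q := act 3 n47262
theorem D49452 : act 3 n47262 = n49452 := rfl
theorem F221574 : act 0 n49452 = n48256 := d2_1 D49452 F215833 (iv F211551)
theorem F221575 : act 1 n49452 = n47281 := d10_1 D49452 (iv D47281) (iv F211552)
theorem F221576 : act 4 n49452 = n48255 := d24_2 (iv F211554) D49452 F215830 F189249 F206355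
theorem F221577 : act 6 n49452 = n48264 := d26_2 (iv F211555) D49452 F215853
theorem F221578 : act 7 n49452 = n47263 := d27_2 (iv F211556) D49452 (iv D47263)
def n49453 : Q := act 9 n47262
theorem D49453 : act 9 n47262 = n49453 := rfl
theorem F221579 : act 0 n49453 = n48608 := d8_1 D49453 (iv D48608) (iv F211551)
theorem F221580 : act 1 n49453 = n47282 := d16_1 D49453 (iv D47282) (iv F211552)
theorem F221581 : act 2 n49453 = n49453 := d23_1 D49453 (iv D49453) F211553
theorem F221582 : act 4 n49453 = n47267 := d34_1 D49453 (iv D47267) (iv F211554)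
theorem F221583 : act 6 n49453 = n48614 := d41_1 D49453 (iv D48614) (iv F211555)
theorem F221584 : act 7 n49453 = n47264 := d43_1 D49453 (iv D47264) (iv F211556)
def n49454 : Q := act 2 n47263
theorem D49454 : act 2 n47263 = n49454 := rfl
theorem F221585 : act 0 n49454 = n48231 := d1_1 D49454 F218416 F218410
theorem F221586 : act 3 n49454 = n49454 := d17_2 D47263 D49454 (iv D49454) (iv D47263) F178139
theorem F221587 : act 6 n49454 = n47265 := d20_2 (iv F211558) D49454 (iv D47265)
theorem F221588 : act 8 n49454 = n48255 := d22_2 F221549 D49454 (iv F221547)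
def n49455 : Q := act 9 n47263
theorem D49455 : act 9 n47263 = n49455 := rfl
theorem F221589 : act 1 n49455 = n47285 := d16_1 D49455 (iv D47285) (iv F211557)
theorem F221590 : act 3 n49455 = n47264 := d29_1 D49455 (iv D47264) D47263
theorem F221591 : act 6 n49455 = n47266 := d41_1 D49455 (iv D47266) (iv F211558)
def n49456 : Q := act 1 n47265
theorem D49456 : act 1 n47265 = n49456 := rfl
theorem F221592 : act 0 n49456 = n48202 := d0_1 D49456 (iv D48202) F188913 D45383 (iv F211563)
theorem F221593 : act 2 n49456 = n47286 := d9_2 D47265 D49456 (iv D47286) (iv D42648) (iv F178142)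
theorem F221594 : act 3 n49456 = n49456 := d10_2 F211564 D49456 (iv D49456)
theorem F221595 : act 5 n49456 = n48180 := d12_2 (iv F211565) D49456 F215618
theorem F221596 : act 8 n49456 = n48214 := d15_2 (iv F211566) D49456 F215722
def n49457 : Q := act 9 n47265
theorem D49457 : act 9 n47265 = n49457 := rfl
theorem F221597 : act 0 n49457 = n48235 := d8_1 D49457 (iv D48235) (iv F211563)
theorem F221598 : act 2 n49457 = n47266 := d23_1 D49457 (iv D47266) D47265
theorem F221599 : act 3 n49457 = n49457 := d29_1 D49457 (iv D49457) F211564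
theorem F221600 : act 5 n49457 = n48182 := d38_1 D49457 (iv D48182) (iv F211565)
def n49458 : Q := act 8 n47266
theorem D49458 : act 8 n47266 = n49458 := rfl
theorem F221601 : act 1 n49458 = n47290 := d15_1 D49458 (iv D47290) (iv F211567)
theorem F221602 : act 5 n49458 = n48184 := d37_1 D49458 (iv D48184) (iv F211569)
def n49459 : Q := act 7 n47268
theorem D49459 : act 7 n47268 = n49459 := rfl
theorem F221603 : act 0 n49459 = n47311 := d6_1 D49459 (iv D47311) (iv F211577)
theorem F221604 : act 1 n49459 = n47419 := d14_1 D49459 F212240 (iv F211578)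
theorem F221605 : act 2 n49459 = n49459 := d21_1 D49459 (iv D49459) F211579
theorem F221606 : act 3 n49459 = n47517 := d27_1 D49459 (iv D47517) (iv F211580)
theorem F221607 : act 4 n49459 = n47269 := d32_1 D49459 (iv D47269) D47268
theorem F221608 : act 5 n49459 = n49459 := d36_1 D49459 (iv D49459) F211581
theorem F221609 : act 6 n49459 = n47411 := d39_1 D49459 (iv D47411) F178953 (iv F198701) (iv F211582)
theorem F221610 : act 9 n49459 = n47507 := d43_2 (iv F211583) D49459 F212670
def n49460 : Q := act 8 n47268
theorem D49460 : act 8 n47268 = n49460 := rfl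
theorem F221611 : act 0 n49460 = n47312 := d7_1 D49460 (iv D47312) (iv F211577)
theorem F221612 : act 1 n49460 = n48322 := d15_1 D49460 (iv D48322) (iv F211578)
theorem F221613 : act 2 n49460 = n49460 := d22_1 D49460 (iv D49460) F211579
theorem F221614 : act 4 n49460 = n47270 := d33_1 D49460 (iv D47270) D47268
theorem F221615 : act 5 n49460 = n49460 := d37_1 D49460 (iv D49460) F211581
theorem F221616 : act 6 n49460 = n47950 := d40_1 D49460 F214733 (iv F211582)
def n49461 : Q := act 8 n47269
theorem D49461 : act 8 n47269 = n49461 := rfl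
theorem F221617 : act 0 n49461 = n47314 := d7_1 D49461 (iv D47314) (iv F211584)
theorem F221618 : act 2 n49461 = n49461 := d22_1 D49461 (iv D49461) F211585
theorem F221619 : act 5 n49461 = n47271 := d37_1 D49461 (iv D47271) (iv F211587)
theorem F221620 : act 7 n49461 = n47270 := d42_1 D49461 (iv D47270) D47269
def n49462 : Q := act 3 n47270
theorem D49462 : act 3 n47270 = n49462 := rfl
theorem F221621 : act 0 n49462 = n47315 := d2_1 D49462 (iv D47315) (iv F211588)
theorem F221622 : act 5 n49462 = n47272 := d25_2 (iv F211590) D49462 (iv D47272)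
theorem F221623 : act 6 n49462 = n48198 := d26_2 (iv F211591) D49462 (iv D48198)
theorem F221624 : act 8 n49462 = n47279 := d28_2 D47270 D49462 (iv D47279) (iv D42644) (iv F178189)
def n49463 : Q := act 9 n47270
theorem D49463 : act 9 n47270 = n49463 := rfl
theorem F221625 : act 0 n49463 = n47316 := d8_1 D49463 (iv D47316) (iv F211588)
theorem F221626 : act 2 n49463 = n49463 := d23_1 D49463 (iv D49463) F211589
theorem F221627 : act 5 n49463 = n47273 := d38_1 D49463 (iv D47273) (iv F211590)
theorem F221628 : act 6 n49463 = n48199 := d41_1 D49463 (iv D48199) (iv F211591)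
def n49464 : Q := act 3 n47271
theorem D49464 : act 3 n47271 = n49464 := rfl
theorem F221629 : act 0 n49464 = n47317 := d2_1 D49464 (iv D47317) (iv F211592)
theorem F221630 : act 7 n49464 = n47272 := d27_2 (iv F211595) D49464 (iv D47272)
theorem F221631 : act 8 n49464 = n47281 := d28_2 D47271 D49464 (iv D47281) (iv D42645) (iv F178193)
def n49465 : Q := act 9 n47271
theorem D49465 : act 9 n47271 = n49465 := rfl
theorem F221632 : act 0 n49465 = n47318 := d8_1 D49465 (iv D47318) (iv F211592)
theorem F221633 : act 2 n49465 = n49465 := d23_1 D49465 (iv D49465) F211593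
theorem F221634 : act 4 n49465 = n49465 := d34_1 D49465 (iv D49465) F211594
theorem F221635 : act 7 n49465 = n47273 := d43_1 D49465 (iv D47273) (iv F211595)
def n49466 : Q := act 2 n47272
theorem D49466 : act 2 n47272 = n49466 := rfl
theorem F221636 : act 0 n49466 = n47319 := d1_1 D49466 (iv D47319) (iv F211596)
theorem F221637 : act 3 n49466 = n49466 := d17_2 D47272 D49466 (iv D49466) (iv D47272) F178196
theorem F221638 : act 6 n49466 = n47274 := d20_2 (iv F211597) D49466 (iv D47274)
theorem F221639 : act 8 n49466 = n47283 := d22_2 (iv F211598) D49466 (iv D47283)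
def n49467 : Q := act 4 n47272
theorem D49467 : act 4 n47272 = n49467 := rfl
theorem F221640 : act 0 n49467 = n47320 := d3_1 D49467 (iv D47320) (iv F211596)
theorem F221641 : act 3 n49467 = n49467 := d24_1 D49467 (iv D49467) (iv D47272) F178197 D47272
theorem F221642 : act 6 n49467 = n47275 := d31_2 (iv F211597) D49467 (iv D47275)
theorem F221643 : act 8 n49467 = n47284 := d33_2 (iv F211598) D49467 (iv D47284)
def n49468 : Q := act 9 n47272
theorem D49468 : act 9 n47272 = n49468 := rfl
theorem F221644 : act 0 n49468 = n47321 := d8_1 D49468 (iv D47321) (iv F211596)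
theorem F221645 : act 3 n49468 = n47273 := d29_1 D49468 (iv D47273) D47272
theorem F221646 : act 6 n49468 = n47276 := d41_1 D49468 (iv D47276) (iv F211597)
def n49469 : Q := act 1 n47274
theorem D49469 : act 1 n47274 = n49469 := rfl
theorem F221647 : act 0 n49469 = n48180 := d0_1 D49469 F215618 F211800 (iv D47322) (iv F211603)
theorem F221648 : act 2 n49469 = n48214 := d9_2 D47274 D49469 F215722 (iv F211534) F211533
theorem F221649 : act 3 n49469 = n49469 := d10_2 F211604 D49469 (iv D49469)
theorem F221650 : act 5 n49469 = n48202 := d12_2 (iv F211605) D49469 (iv D48202)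
theorem F221651 : act 8 n49469 = n47286 := d15_2 (iv F211606) D49469 (iv D47286)
theorem F221652 : act 4 n49469 = n48179 := d46_2 (iv F215687) (iv F221650) F215617 F188712 F131472 (iv D31045) F91750 (iv F124153) (iv F177824) F177823 (iv F211008) (iv D47138) (iv F210438) F210443 F210440 (iv F210444) (iv F211190) (iv D47173) (iv F211125) F211124 (iv F214116) (iv D47811) (iv D44520) (iv D30528) F205341 F122573 F122572 (iv F122037) F122036 F89676 (iv D20789) F205716 F85286 F85285 D19763 F85327 F62765 F44108 F205593 F59772 F59771 D13604 F59797 F42083 F31090 F205723 F42069 F42068 D9383 (iv F59797) (iv F85326) D28744 (iv F205571) (iv F129324) F129323 D31050 (iv F178130) F178129 D47258 F211534 (iv F215722) (iv D48214)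
def n49470 : Q := act 4 n47274
theorem D49470 : act 4 n47274 = n49470 := rfl
theorem F221653 : act 0 n49470 = n47323 := d3_1 D49470 (iv D47323) (iv F211603)
theorem F221654 : act 1 n49470 = n48179 := d11_1 D49470 (iv F221652) (iv D49469)
theorem F221655 : act 2 n49470 = n47275 := d18_1 D49470 (iv D47275) D47274
theorem F221656 : act 8 n49470 = n47287 := d33_2 (iv F211606) D49470 (iv D47287)
theorem F221657 : act 3 n49470 = n48157 := d46_3 (iv F188915) (iv F211605) D49470 F215560 F215559 (iv D45268) F131423 (iv F178064) (iv F211009) F220155 F220150 F220149 F210320 (iv D42375) F123484 (iv F177129) (iv F210390) F210389 F210388 (iv F208123) F208130 F175633 (iv F203630) F94174 (iv D15084) F46244 F46243 F32623 F32622 (iv F45144) (iv D10104) (iv F45115) (iv F63246) (iv F90323) (iv D20946) (iv F85671) (iv D19842) F60027 F60026 F42249 F42248 D9427 F42272 F29827 F22159 (iv F31319) F31318 (iv F31756) (iv D6950) D6949 D10082 D14649 F64199 (iv F91758) (iv F129323) (iv F205562) F175913 F129546 (iv F185881) F185880 (iv D31119) (iv F131574)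
def n49471 : Q := act 9 n47274
theorem D49471 : act 9 n47274 = n49471 := rfl
theorem F221658 : act 0 n49471 = n47324 := d8_1 D49471 (iv D47324) (iv F211603)
theorem F221659 : act 2 n49471 = n47276 := d23_1 D49471 (iv D47276) D47274
theorem F221660 : act 3 n49471 = n49471 := d29_1 D49471 (iv D49471) F211604
theorem F221661 : act 5 n49471 = n48203 := d38_1 D49471 (iv D48203) (iv F211605)
def n49472 : Q := act 9 n47275
theorem D49472 : act 9 n47275 = n49472 := rfl
theorem F221662 : act 0 n49472 = n47326 := d8_1 D49472 (iv D47326) (iv F211607)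
theorem F221663 : act 3 n49472 = n49472 := d29_1 D49472 (iv D49472) F211608
theorem F221664 : act 4 n49472 = n47276 := d34_1 D49472 (iv D47276) D47275
def n49473 : Q := act 8 n47276
theorem D49473 : act 8 n47276 = n49473 := rfl
theorem F221665 : act 0 n49473 = n47327 := d7_1 D49473 (iv D47327) (iv F211610)
theorem F221666 : act 5 n49473 = n48204 := d37_1 D49473 (iv D48204) (iv F211612)
theorem F221667 : act 9 n49473 = n47290 := d44_2 D47276 D49473 (iv D47290) (iv D42650) (iv F178201)
def n49474 : Q := act 8 n47277
theorem D49474 : act 8 n47277 = n49474 := rfl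
theorem F221668 : act 0 n49474 = n47328 := d7_1 D49474 (iv D47328) (iv F211613)
theorem F221669 : act 2 n49474 = n47297 := d22_1 D49474 (iv D47297) (iv F211614)
theorem F221670 : act 4 n49474 = n47529 := d33_1 D49474 (iv D47529) (iv F211615)
theorem F221671 : act 6 n49474 = n47278 := d40_1 D49474 (iv D47278) D47277
theorem F221672 : act 7 n49474 = n48205 := d42_1 D49474 (iv D48205) (iv F211616)
def n49475 : Q := act 3 n47278
theorem D49475 : act 3 n47278 = n49475 := rfl
theorem F221673 : act 0 n49475 = n47329 := d2_1 D49475 (iv D47329) (iv F211617)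
theorem F221674 : act 5 n49475 = n47281 := d25_2 (iv F211620) D49475 (iv D47281)
theorem F221675 : act 7 n49475 = n47279 := d27_2 (iv F211621) D49475 (iv D47279)
def n49476 : Q := act 9 n47278
theorem D49476 : act 9 n47278 = n49476 := rfl
theorem F221676 : act 0 n49476 = n47330 := d8_1 D49476 (iv D47330) (iv F211617)
theorem F221677 : act 2 n49476 = n47299 := d23_1 D49476 (iv D47299) (iv F211618)
theorem F221678 : act 4 n49476 = n47531 := d34_1 D49476 (iv D47531) (iv F211619)
theorem F221679 : act 5 n49476 = n47282 := d38_1 D49476 (iv D47282) (iv F211620)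
theorem F221680 : act 7 n49476 = n47280 := d43_1 D49476 (iv D47280) (iv F211621)
def n49477 : Q := act 2 n47279
theorem D49477 : act 2 n47279 = n49477 := rfl
theorem F221681 : act 0 n49477 = n47331 := d1_1 D49477 (iv D47331) (iv F211622)
theorem F221682 : act 3 n49477 = n47300 := d17_2 D47279 D49477 (iv D47300) (iv D42663) (iv F178211)
theorem F221683 : act 5 n49477 = n47283 := d19_2 (iv F211623) D49477 (iv D47283)
theorem F221684 : act 6 n49477 = n48208 := d20_2 (iv F211624) D49477 (iv D48208)
def n49478 : Q := act 4 n47279
theorem D49478 : act 4 n47279 = n49478 := rfl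
theorem F221685 : act 0 n49478 = n47332 := d3_1 D49478 (iv D47332) (iv F211622)
theorem F221686 : act 3 n49478 = n47533 := d24_1 D49478 (iv D47533) (iv D42987) (iv F178212) D47279
theorem F221687 : act 6 n49478 = n48209 := d31_2 (iv F211624) D49478 (iv D48209)
def n49479 : Q := act 9 n47279
theorem D49479 : act 9 n47279 = n49479 := rfl
theorem F221688 : act 0 n49479 = n47333 := d8_1 D49479 (iv D47333) (iv F211622)
theorem F221689 : act 3 n49479 = n47280 := d29_1 D49479 (iv D47280) D47279
theorem F221690 : act 5 n49479 = n47285 := d38_1 D49479 (iv D47285) (iv F211623)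
theorem F221691 : act 6 n49479 = n48210 := d41_1 D49479 (iv D48210) (iv F211624)
def n49480 : Q := act 2 n47281
theorem D49480 : act 2 n47281 = n49480 := rfl
theorem F221692 : act 0 n49480 = n47334 := d1_1 D49480 (iv D47334) (iv F211630)
theorem F221693 : act 3 n49480 = n47303 := d17_2 D47281 D49480 (iv D47303) (iv D42665) (iv F178216)
theorem F221694 : act 6 n49480 = n48179 := d20_2 F220525 D49480 (iv F220523)
theorem F221695 : act 7 n49480 = n47283 := d21_2 (iv F211631) D49480 (iv D47283)
def n49481 : Q := act 4 n47281
theorem D49481 : act 4 n47281 = n49481 := rfl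
theorem F221696 : act 0 n49481 = n47335 := d3_1 D49481 (iv D47335) (iv F211630)
theorem F221697 : act 1 n49481 = n48255 := d11_1 D49481 (iv F221576) F221575
theorem F221698 : act 3 n49481 = n47291 := d24_1 D49481 (iv D47291) (iv D42651) (iv F178217) D47281
theorem F221699 : act 6 n49481 = n48214 := d31_2 F220525 D49481 (iv F220524)
theorem F221700 : act 7 n49481 = n47284 := d32_2 (iv F211631) D49481 (iv D47284)
def n49482 : Q := act 9 n47281
theorem D49482 : act 9 n47281 = n49482 := rfl
theorem F221701 : act 0 n49482 = n47336 := d8_1 D49482 (iv D47336) (iv F211630)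
theorem F221702 : act 3 n49482 = n47282 := d29_1 D49482 (iv D47282) D47281
theorem F221703 : act 7 n49482 = n47285 := d43_1 D49482 (iv D47285) (iv F211631)
def n49483 : Q := act 1 n47283
theorem D49483 : act 1 n47283 = n49483 := rfl
theorem F221704 : act 3 n49483 = n47305 := d10_2 (iv F211637) D49483 (iv D47305)
theorem F221705 : act 6 n49483 = n47286 := d13_2 (iv F211638) D49483 (iv D47286)
def n49484 : Q := act 4 n47283
theorem D49484 : act 4 n47283 = n49484 := rfl
theorem F221706 : act 0 n49484 = n47338 := d3_1 D49484 (iv D47338) (iv F211636)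
theorem F221707 : act 2 n49484 = n47284 := d18_1 D49484 (iv D47284) D47283
theorem F221708 : act 3 n49484 = n49484 := d24_1 D49484 (iv D49484) F211637 F178306 (iv F211637)
theorem F221709 : act 6 n49484 = n47287 := d31_2 (iv F211638) D49484 (iv D47287)
def n49485 : Q := act 9 n47283
theorem D49485 : act 9 n47283 = n49485 := rfl
theorem F221710 : act 0 n49485 = n47339 := d8_1 D49485 (iv D47339) (iv F211636)
theorem F221711 : act 2 n49485 = n47285 := d23_1 D49485 (iv D47285) D47283
theorem F221712 : act 3 n49485 = n47306 := d29_1 D49485 (iv D47306) (iv F211637)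
theorem F221713 : act 6 n49485 = n47288 := d41_1 D49485 (iv D47288) (iv F211638)
def n49486 : Q := act 5 n47284
theorem D49486 : act 5 n47284 = n49486 := rfl
theorem F221714 : act 0 n49486 = n47340 := d4_1 D49486 (iv D47340) (iv F211639)
theorem F221715 : act 3 n49486 = n47293 := d25_1 D49486 (iv D47293) (iv F211640)
def n49487 : Q := act 9 n47284
theorem D49487 : act 9 n47284 = n49487 := rfl
theorem F221716 : act 0 n49487 = n47341 := d8_1 D49487 (iv D47341) (iv F211639)
theorem F221717 : act 3 n49487 = n47294 := d29_1 D49487 (iv D47294) (iv F211640)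
theorem F221718 : act 4 n49487 = n47285 := d34_1 D49487 (iv D47285) D47284
theorem F221719 : act 6 n49487 = n47289 := d41_1 D49487 (iv D47289) (iv F211641)
def n49488 : Q := act 8 n47285
theorem D49488 : act 8 n47285 = n49488 := rfl
theorem F221720 : act 0 n49488 = n47342 := d7_1 D49488 (iv D47342) (iv F211642)
theorem F221721 : act 6 n49488 = n47290 := d40_1 D49488 (iv D47290) (iv F211644)
def n49489 : Q := act 0 n47286
theorem D49489 : act 0 n47286 = n49489 := rfl
theorem F221722 : act 1 n49489 = n47343 := d0_2 D47286 D49489 (iv D47343) (iv D42690) (iv F178225)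
theorem F221723 : act 2 n49489 = n48202 := d1_2 F221593 D49489 (iv F221592)
theorem F221724 : act 3 n49489 = n47308 := d2_2 (iv F211645) D49489 (iv D47308)
theorem F221725 : act 5 n49489 = n48214 := d4_2 (iv F211646) D49489 (iv D48214)
theorem F221726 : act 8 n49489 = n48180 := d7_2 F221651 D49489 (iv F221647)
theorem F221727 : act 4 n48164 = n49489 := d33_3 F221726 (iv D48180) (iv F215581)
def n49490 : Q := act 4 n47286
theorem D49490 : act 4 n47286 = n49490 := rfl
theorem F221728 : act 0 n49490 = n48164 := d3_1 D49490 F221727 (iv D49489)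
theorem F221729 : act 1 n49490 = n47287 := d11_1 D49490 (iv D47287) D47286
theorem F221730 : act 3 n49490 = n49490 := d24_1 D49490 (iv D49490) F211645 F178315 (iv F211645)
theorem F221731 : act 8 n49490 = n48179 := d33_2 F221651 D49490 (iv F221652)
def n49491 : Q := act 9 n47286
theorem D49491 : act 9 n47286 = n49491 := rfl
theorem F221732 : act 1 n49491 = n47288 := d16_1 D49491 (iv D47288) D47286
theorem F221733 : act 3 n49491 = n47309 := d29_1 D49491 (iv D47309) (iv F211645)
theorem F221734 : act 5 n49491 = n48215 := d38_1 D49491 (iv D48215) (iv F211646)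
def n49492 : Q := act 9 n47287
theorem D49492 : act 9 n47287 = n49492 := rfl
theorem F221735 : act 0 n49492 = n47347 := d8_1 D49492 (iv D47347) (iv F211647)
theorem F221736 : act 2 n49492 = n47289 := d23_1 D49492 (iv D47289) (iv F211648)
theorem F221737 : act 3 n49492 = n49492 := d29_1 D49492 (iv D49492) F211649
theorem F221738 : act 4 n49492 = n47288 := d34_1 D49492 (iv D47288) D47287
def n49493 : Q := act 8 n47288
theorem D49493 : act 8 n47288 = n49493 := rfl
theorem F221739 : act 0 n49493 = n47348 := d7_1 D49493 (iv D47348) (iv F211650)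
theorem F221740 : act 2 n49493 = n47290 := d22_1 D49493 (iv D47290) (iv F211651)
theorem F221741 : act 5 n49493 = n48216 := d37_1 D49493 (iv D48216) (iv F211653)
def n49494 : Q := act 8 n47289
theorem D49494 : act 8 n47289 = n49494 := rfl
theorem F221742 : act 0 n49494 = n47351 := d7_1 D49494 (iv D47351) (iv F211654)
theorem F221743 : act 4 n49494 = n47290 := d33_1 D49494 (iv D47290) (iv F211656)
def n49495 : Q := act 5 n47291
theorem D49495 : act 5 n47291 = n49495 := rfl
theorem F221744 : act 0 n49495 = n47352 := d4_1 D49495 (iv D47352) (iv F211659)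
theorem F221745 : act 1 n49495 = n48285 := d12_1 D49495 F215909 (iv F211660)
theorem F221746 : act 2 n49495 = n49495 := d19_1 D49495 (iv D49495) F211661
theorem F221747 : act 4 n49495 = n47548 := d30_1 D49495 (iv D47548) (iv D43000) (iv F178235) D47291
theorem F221748 : act 7 n49495 = n47293 := d36_2 (iv F211663) D49495 (iv D47293)
theorem F221749 : act 8 n49495 = n49495 := d37_2 F211664 D49495 (iv D49495)
def n49496 : Q := act 9 n47291
theorem D49496 : act 9 n47291 = n49496 := rfl
theorem F221750 : act 0 n49496 = n47353 := d8_1 D49496 (iv D47353) (iv F211659)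
theorem F221751 : act 1 n49496 = n48294 := d16_1 D49496 (iv D48294) (iv F211660)
theorem F221752 : act 2 n49496 = n49496 := d23_1 D49496 (iv D49496) F211661
theorem F221753 : act 4 n49496 = n47292 := d34_1 D49496 (iv D47292) D47291
theorem F221754 : act 6 n49496 = n48225 := d41_1 D49496 (iv D48225) (iv F211662)
theorem F221755 : act 7 n49496 = n47294 := d43_1 D49496 (iv D47294) (iv F211663)
def n49497 : Q := act 8 n47292
theorem D49497 : act 8 n47292 = n49497 := rfl
theorem F221756 : act 0 n49497 = n47354 := d7_1 D49497 (iv D47354) (iv F211665)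
theorem F221757 : act 1 n49497 = n48630 := d15_1 D49497 (iv D48630) (iv F211666)
theorem F221758 : act 2 n49497 = n49497 := d22_1 D49497 (iv D49497) F211667
theorem F221759 : act 5 n49497 = n47550 := d37_1 D49497 (iv D47550) (iv F211669)
theorem F221760 : act 6 n49497 = n48604 := d40_1 D49497 (iv D48604) (iv F211670)
theorem F221761 : act 7 n49497 = n47295 := d42_1 D49497 (iv D47295) (iv F211671)
theorem F221762 : act 9 n49497 = n49497 := d44_2 D47292 D49497 (iv D49497) (iv D47292) F178237
def n49498 : Q := act 9 n47293
theorem D49498 : act 9 n47293 = n49498 := rfl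
theorem F221763 : act 0 n49498 = n47356 := d8_1 D49498 (iv D47356) (iv F211672)
theorem F221764 : act 2 n49498 = n49498 := d23_1 D49498 (iv D49498) F211673
theorem F221765 : act 4 n49498 = n47551 := d34_1 D49498 (iv D47551) (iv F211674)
theorem F221766 : act 5 n49498 = n47294 := d38_1 D49498 (iv D47294) D47293
def n49499 : Q := act 8 n47294
theorem D49499 : act 8 n47294 = n49499 := rfl
theorem F221767 : act 0 n49499 = n47357 := d7_1 D49499 (iv D47357) (iv F211676)
theorem F221768 : act 2 n49499 = n49499 := d22_1 D49499 (iv D49499) F211677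
theorem F221769 : act 4 n49499 = n47295 := d33_1 D49499 (iv D47295) (iv F211678)
theorem F221770 : act 6 n49499 = n47296 := d40_1 D49499 (iv D47296) (iv F211679)
theorem F221771 : act 9 n49499 = n49499 := d44_2 D47294 D49499 (iv D49499) (iv D47294) F178245
def n49500 : Q := act 3 n47296
theorem D49500 : act 3 n47296 = n49500 := rfl
theorem F221772 : act 0 n49500 = n47361 := d2_1 D49500 (iv D47361) (iv F211685)
theorem F221773 : act 9 n49500 = n49500 := d29_2 F211688 D49500 (iv D49500)
def n49501 : Q := act 9 n47297
theorem D49501 : act 9 n47297 = n49501 := rfl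
theorem F221774 : act 0 n49501 = n47364 := d8_1 D49501 (iv D47364) (iv F211689)
theorem F221775 : act 1 n49501 = n49501 := d16_1 D49501 (iv D49501) F211690
theorem F221776 : act 4 n49501 = n47555 := d34_1 D49501 (iv D47555) (iv F211691)
theorem F221777 : act 6 n49501 = n47299 := d41_1 D49501 (iv D47299) (iv F211692)
theorem F221778 : act 7 n49501 = n48218 := d43_1 D49501 (iv D48218) (iv F211693)
def n49502 : Q := act 2 n47298
theorem D49502 : act 2 n47298 = n49502 := rfl
theorem F221779 : act 0 n49502 = n47365 := d1_1 D49502 (iv D47365) (iv F211694)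
theorem F221780 : act 5 n49502 = n47303 := d19_2 (iv F211696) D49502 (iv D47303)
theorem F221781 : act 7 n49502 = n47300 := d21_2 (iv F211697) D49502 (iv D47300)
theorem F221782 : act 8 n49502 = n49502 := d22_2 F211698 D49502 (iv D49502)
def n49503 : Q := act 4 n47298
theorem D49503 : act 4 n47298 = n49503 := rfl
theorem F221783 : act 0 n49503 = n47366 := d3_1 D49503 (iv D47366) (iv F211694)
theorem F221784 : act 1 n49503 = n49503 := d11_1 D49503 (iv D49503) F211695
theorem F221785 : act 3 n49503 = n47557 := d24_1 D49503 (iv D47557) (iv D43013) (iv F178283) D47298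
theorem F221786 : act 5 n49503 = n49503 := d30_2 (iv F211696) D49503 (iv D49503) F211696 F178298
theorem F221787 : act 7 n49503 = n47301 := d32_2 (iv F211697) D49503 (iv D47301)
theorem F221788 : act 8 n49503 = n49503 := d33_2 F211698 D49503 (iv D49503)
def n49504 : Q := act 9 n47298
theorem D49504 : act 9 n47298 = n49504 := rfl
theorem F221789 : act 0 n49504 = n47367 := d8_1 D49504 (iv D47367) (iv F211694)
theorem F221790 : act 1 n49504 = n49504 := d16_1 D49504 (iv D49504) F211695
theorem F221791 : act 3 n49504 = n47299 := d29_1 D49504 (iv D47299) D47298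
theorem F221792 : act 5 n49504 = n47304 := d38_1 D49504 (iv D47304) (iv F211696)
theorem F221793 : act 7 n49504 = n47302 := d43_1 D49504 (iv D47302) (iv F211697)
def n49505 : Q := act 1 n47300
theorem D49505 : act 1 n47300 = n49505 := rfl
theorem F221794 : act 2 n49505 = n49505 := d9_2 D47300 D49505 (iv D49505) (iv D47300) F178287
theorem F221795 : act 4 n49505 = n47631 := d11_2 F219801 D49505 (iv F219799)
theorem F221796 : act 5 n49505 = n47305 := d12_2 (iv F211705) D49505 (iv D47305)
theorem F221797 : act 6 n49505 = n47352 := d13_2 (iv F211706) D49505 F211886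
theorem F221798 : act 8 n49505 = n49505 := d15_2 F211707 D49505 (iv D49505)
def n49506 : Q := act 9 n47300
theorem D49506 : act 9 n47300 = n49506 := rfl
theorem F221799 : act 0 n49506 = n47370 := d8_1 D49506 (iv D47370) (iv F211704)
theorem F221800 : act 2 n49506 = n47302 := d23_1 D49506 (iv D47302) D47300
theorem F221801 : act 5 n49506 = n47306 := d38_1 D49506 (iv D47306) (iv F211705)
theorem F221802 : act 6 n49506 = n48220 := d41_1 D49506 (iv D48220) (iv F211706)
def n49507 : Q := act 9 n47301
theorem D49507 : act 9 n47301 = n49507 := rfl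
theorem F221803 : act 0 n49507 = n47371 := d8_1 D49507 (iv D47371) (iv F211708)
theorem F221804 : act 1 n49507 = n49507 := d16_1 D49507 (iv D49507) F211709
theorem F221805 : act 3 n49507 = n47562 := d29_1 D49507 (iv D47562) (iv F211710)
theorem F221806 : act 4 n49507 = n47302 := d34_1 D49507 (iv D47302) D47301
theorem F221807 : act 5 n49507 = n49507 := d38_1 D49507 (iv D49507) F211711
theorem F221808 : act 6 n49507 = n48221 := d41_1 D49507 (iv D48221) (iv F211712)
def n49508 : Q := act 8 n47302
theorem D49508 : act 8 n47302 = n49508 := rfl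
theorem F221809 : act 0 n49508 = n47372 := d7_1 D49508 (iv D47372) (iv F211714)
theorem F221810 : act 1 n49508 = n49508 := d15_1 D49508 (iv D49508) F211715
theorem F221811 : act 5 n49508 = n47307 := d37_1 D49508 (iv D47307) (iv F211717)
theorem F221812 : act 6 n49508 = n48222 := d40_1 D49508 (iv D48222) (iv F211718)
theorem F221813 : act 9 n49508 = n49508 := d44_2 D47302 D49508 (iv D49508) (iv D47302) F178290
def n49509 : Q := act 1 n47303
theorem D49509 : act 1 n47303 = n49509 := rfl
theorem F221814 : act 0 n49509 = n48154 := d0_1 D49509 (iv D48154) F188557 (iv F205840) (iv F211719)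
theorem F221815 : act 2 n49509 = n49509 := d9_2 D47303 D49509 (iv D49509) (iv D47303) F178297
theorem F221816 : act 4 n49509 = n49509 := d11_2 F211720 D49509 (iv D49509)
theorem F221817 : act 6 n49509 = n48157 := d13_2 (iv F211721) D49509 F215559
theorem F221818 : act 7 n49509 = n47305 := d14_2 (iv F211722) D49509 (iv D47305)
theorem F221819 : act 8 n49509 = n49509 := d15_2 F211723 D49509 (iv D49509)
def n49510 : Q := act 9 n47303
theorem D49510 : act 9 n47303 = n49510 := rfl
theorem F221820 : act 0 n49510 = n47373 := d8_1 D49510 (iv D47373) (iv F211719)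
theorem F221821 : act 2 n49510 = n47304 := d23_1 D49510 (iv D47304) D47303
theorem F221822 : act 4 n49510 = n49510 := d34_1 D49510 (iv D49510) F211720
theorem F221823 : act 6 n49510 = n48191 := d41_1 D49510 (iv D48191) (iv F211721)
theorem F221824 : act 7 n49510 = n47306 := d43_1 D49510 (iv D47306) (iv F211722)
def n49511 : Q := act 8 n47304
theorem D49511 : act 8 n47304 = n49511 := rfl
theorem F221825 : act 0 n49511 = n47374 := d7_1 D49511 (iv D47374) (iv F211724)
theorem F221826 : act 1 n49511 = n49511 := d15_1 D49511 (iv D49511) F211725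
theorem F221827 : act 4 n49511 = n49511 := d33_1 D49511 (iv D49511) F211727
theorem F221828 : act 6 n49511 = n48195 := d40_1 D49511 (iv D48195) (iv F211728)
theorem F221829 : act 7 n49511 = n47307 := d42_1 D49511 (iv D47307) (iv F211729)
theorem F221830 : act 9 n49511 = n49511 := d44_2 D47304 D49511 (iv D49511) (iv D47304) F178300
def n49512 : Q := act 0 n47305
theorem D49512 : act 0 n47305 = n49512 := rfl
theorem F221831 : act 1 n49512 = n47375 := d0_2 D47305 D49512 (iv D47375) (iv D42716) (iv F178305)
theorem F221832 : act 2 n49512 = n49512 := d1_2 F211730 D49512 (iv D49512)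
theorem F221833 : act 4 n49512 = n49512 := d3_2 F211731 D49512 (iv D49512)
theorem F221834 : act 6 n49512 = n47308 := d5_2 (iv F211732) D49512 (iv D47308)
theorem F221835 : act 7 n49512 = n48154 := d6_2 F221818 D49512 (iv F221814)
theorem F221836 : act 8 n49512 = n49512 := d7_2 F211733 D49512 (iv D49512)
def n49513 : Q := act 9 n47305
theorem D49513 : act 9 n47305 = n49513 := rfl
theorem F221837 : act 1 n49513 = n47306 := d16_1 D49513 (iv D47306) D47305
theorem F221838 : act 2 n49513 = n49513 := d23_1 D49513 (iv D49513) F211730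
theorem F221839 : act 4 n49513 = n49513 := d34_1 D49513 (iv D49513) F211731
theorem F221840 : act 6 n49513 = n47309 := d41_1 D49513 (iv D47309) (iv F211732)
def n49514 : Q := act 8 n47306
theorem D49514 : act 8 n47306 = n49514 := rfl
theorem F221841 : act 0 n49514 = n47377 := d7_1 D49514 (iv D47377) (iv F211734)
theorem F221842 : act 2 n49514 = n47307 := d22_1 D49514 (iv D47307) (iv F211735)
theorem F221843 : act 4 n49514 = n49514 := d33_1 D49514 (iv D49514) F211736
theorem F221844 : act 6 n49514 = n47310 := d40_1 D49514 (iv D47310) (iv F211737)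
theorem F221845 : act 9 n49514 = n49514 := d44_2 D47306 D49514 (iv D49514) (iv D47306) F178308
def n49515 : Q := act 9 n47308
theorem D49515 : act 9 n47308 = n49515 := rfl
theorem F221846 : act 0 n49515 = n47309 := d8_1 D49515 (iv D47309) D47308
theorem F221847 : act 1 n49515 = n47378 := d16_1 D49515 (iv D47378) (iv F211743)
theorem F221848 : act 2 n49515 = n49515 := d23_1 D49515 (iv D49515) F211744
theorem F221849 : act 4 n49515 = n49515 := d34_1 D49515 (iv D49515) F211745
theorem F221850 : act 5 n49515 = n48225 := d38_1 D49515 (iv D48225) (iv F211746)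
def n49516 : Q := act 8 n47309
theorem D49516 : act 8 n47309 = n49516 := rfl
theorem F221851 : act 1 n49516 = n47310 := d15_1 D49516 (iv D47310) (iv F211748)
theorem F221852 : act 2 n49516 = n49516 := d22_1 D49516 (iv D49516) F211749
theorem F221853 : act 4 n49516 = n49516 := d33_1 D49516 (iv D49516) F211750
theorem F221854 : act 5 n49516 = n48226 := d37_1 D49516 (iv D48226) (iv F211751)
theorem F221855 : act 9 n49516 = n49516 := d44_2 D47309 D49516 (iv D49516) (iv D47309) F178317
def n49517 : Q := act 3 n47310
theorem D49517 : act 3 n47310 = n49517 := rfl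
theorem F221856 : act 0 n49517 = n47380 := d2_1 D49517 (iv D47380) (iv F211752)
theorem F221857 : act 5 n49517 = n48227 := d25_2 (iv F211755) D49517 (iv D48227)
theorem F221858 : act 9 n49517 = n49517 := d29_2 F211756 D49517 (iv D49517)
def n49518 : Q := act 8 n47311
theorem D49518 : act 8 n47311 = n49518 := rfl
theorem F221859 : act 1 n49518 = n48527 := d15_1 D49518 F216703 (iv F211757)
theorem F221860 : act 2 n49518 = n49518 := d22_1 D49518 (iv D49518) F211758
theorem F221861 : act 4 n49518 = n47314 := d33_1 D49518 (iv D47314) (iv F211760)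
theorem F221862 : act 5 n49518 = n49518 := d37_1 D49518 (iv D49518) F211761
theorem F221863 : act 6 n49518 = n48034 := d40_1 D49518 F215075 (iv F211762)
theorem F221864 : act 7 n49518 = n47312 := d42_1 D49518 (iv D47312) D47311
def n49519 : Q := act 3 n47312
theorem D49519 : act 3 n47312 = n49519 := rfl
theorem F221865 : act 1 n49519 = n48499 := d10_1 D49519 F216626 (iv F211763)
theorem F221866 : act 5 n49519 = n49519 := d25_2 F211766 D49519 (iv D49519)
theorem F221867 : act 6 n49519 = n48009 := d26_2 (iv F211767) D49519 F214982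
theorem F221868 : act 8 n49519 = n47569 := d28_2 D47312 D49519 (iv D47569) (iv D43027) (iv F178328)
def n49520 : Q := act 9 n47312
theorem D49520 : act 9 n47312 = n49520 := rfl
theorem F221869 : act 1 n49520 = n48528 := d16_1 D49520 (iv D48528) (iv F211763)
theorem F221870 : act 2 n49520 = n49520 := d23_1 D49520 (iv D49520) F211764
theorem F221871 : act 4 n49520 = n47316 := d34_1 D49520 (iv D47316) (iv F211765)
theorem F221872 : act 5 n49520 = n49520 := d38_1 D49520 (iv D49520) F211766
theorem F221873 : act 6 n49520 = n48033 := d41_1 D49520 (iv D48033) (iv F211767)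
def n49521 : Q := act 8 n47313
theorem D49521 : act 8 n47313 = n49521 := rfl
theorem F221874 : act 1 n49521 = n48276 := d15_1 D49521 F215877 (iv F211768)
theorem F221875 : act 2 n49521 = n49521 := d22_1 D49521 (iv D49521) F211769
theorem F221876 : act 4 n49521 = n48034 := d33_1 D49521 F215075 (iv F211771)
theorem F221877 : act 5 n49521 = n47838 := d37_1 D49521 F214209 (iv F211772)
theorem F221878 : act 6 n49521 = n47314 := d40_1 D49521 (iv D47314) D47313
theorem F221879 : act 7 n49521 = n47836 := d42_1 D49521 F214200 (iv F211773)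
def n49522 : Q := act 3 n47314
theorem D49522 : act 3 n47314 = n49522 := rfl
theorem F221880 : act 5 n49522 = n47317 := d25_2 (iv F211775) D49522 (iv D47317)
theorem F221881 : act 7 n49522 = n47315 := d27_2 (iv F211776) D49522 (iv D47315)
theorem F221882 : act 8 n49522 = n47329 := d28_2 D47314 D49522 (iv D47329) (iv D42682) (iv F178332)
def n49523 : Q := act 9 n47314
theorem D49523 : act 9 n47314 = n49523 := rfl
theorem F221883 : act 2 n49523 = n49523 := d23_1 D49523 (iv D49523) F211774
theorem F221884 : act 5 n49523 = n47318 := d38_1 D49523 (iv D47318) (iv F211775)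
theorem F221885 : act 7 n49523 = n47316 := d43_1 D49523 (iv D47316) (iv F211776)
def n49524 : Q := act 2 n47315
theorem D49524 : act 2 n47315 = n49524 := rfl
theorem F221886 : act 3 n49524 = n49524 := d17_2 D47315 D49524 (iv D49524) (iv D47315) F178334
theorem F221887 : act 5 n49524 = n47319 := d19_2 (iv F211777) D49524 (iv D47319)
theorem F221888 : act 6 n49524 = n48228 := d20_2 (iv F211778) D49524 (iv D48228)
theorem F221889 : act 8 n49524 = n47331 := d22_2 (iv F211779) D49524 (iv D47331)
def n49525 : Q := act 4 n47315
theorem D49525 : act 4 n47315 = n49525 := rfl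
theorem F221890 : act 6 n49525 = n48229 := d31_2 (iv F211778) D49525 (iv D48229)
theorem F221891 : act 8 n49525 = n47332 := d33_2 (iv F211779) D49525 (iv D47332)
def n49526 : Q := act 9 n47315
theorem D49526 : act 9 n47315 = n49526 := rfl
theorem F221892 : act 3 n49526 = n47316 := d29_1 D49526 (iv D47316) D47315
theorem F221893 : act 5 n49526 = n47321 := d38_1 D49526 (iv D47321) (iv F211777)
theorem F221894 : act 6 n49526 = n48230 := d41_1 D49526 (iv D48230) (iv F211778)
def n49527 : Q := act 2 n47317
theorem D49527 : act 2 n47317 = n49527 := rfl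
theorem F221895 : act 1 n49527 = n48162 := d9_1 D49527 (iv D48162) (iv F213957) (iv F218559) F218558
theorem F221896 : act 3 n49527 = n49527 := d17_2 D47317 D49527 (iv D49527) (iv D47317) F178337
theorem F221897 : act 6 n49527 = n48164 := d20_2 F220637 D49527 (iv F220640)
theorem F221898 : act 7 n49527 = n47319 := d21_2 (iv F211783) D49527 (iv D47319)
theorem F221899 : act 8 n49527 = n47334 := d22_2 (iv F211784) D49527 (iv D47334)
def n49528 : Q := act 4 n47317
theorem D49528 : act 4 n47317 = n49528 := rfl
theorem F221900 : act 1 n49528 = n48200 := d11_1 D49528 F218563 F218558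
theorem F221901 : act 3 n49528 = n49528 := d24_1 D49528 (iv D49528) (iv D47317) F178338 D47317
theorem F221902 : act 6 n49528 = n48202 := d31_2 F220637 D49528 F220641
theorem F221903 : act 7 n49528 = n47320 := d32_2 (iv F211783) D49528 (iv D47320)
theorem F221904 : act 8 n49528 = n47335 := d33_2 (iv F211784) D49528 (iv D47335)
def n49529 : Q := act 9 n47317
theorem D49529 : act 9 n47317 = n49529 := rfl
theorem F221905 : act 3 n49529 = n47318 := d29_1 D49529 (iv D47318) D47317
theorem F221906 : act 7 n49529 = n47321 := d43_1 D49529 (iv D47321) (iv F211783)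
def n49530 : Q := act 1 n47319
theorem D49530 : act 1 n47319 = n49530 := rfl
theorem F221907 : act 2 n49530 = n47791 := d9_2 D47319 D49530 F214008 (iv F208860) F208859
theorem F221908 : act 3 n49530 = n49530 := d10_2 F211788 D49530 (iv D49530)
theorem F221909 : act 6 n49530 = n47322 := d13_2 (iv F211789) D49530 (iv D47322)
theorem F221910 : act 7 n49530 = n48162 := d14_2 F221898 D49530 (iv F221895)
theorem F221911 : act 8 n49530 = n47337 := d15_2 (iv F211790) D49530 (iv D47337)
theorem F221912 : act 0 n48174 = n49530 := d5_3 F221909 (iv F211800) (iv F215605)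
theorem F221913 : act 4 n48147 = n49530 := d31_3 F221909 F211801 (iv F215523)
def n49531 : Q := act 4 n47319
theorem D49531 : act 4 n47319 = n49531 := rfl
theorem F221914 : act 1 n49531 = n48147 := d11_1 D49531 F221913 (iv D49530)
theorem F221915 : act 2 n49531 = n47320 := d18_1 D49531 (iv D47320) D47319
theorem F221916 : act 6 n49531 = n47323 := d31_2 (iv F211789) D49531 (iv D47323)
theorem F221917 : act 8 n49531 = n47338 := d33_2 (iv F211790) D49531 (iv D47338)
theorem F221918 : act 3 n48154 = n49531 := d26_3 F221916 (iv F211805) (iv F215547)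
def n49532 : Q := act 9 n47319
theorem D49532 : act 9 n47319 = n49532 := rfl
theorem F221919 : act 2 n49532 = n47321 := d23_1 D49532 (iv D47321) D47319
theorem F221920 : act 3 n49532 = n49532 := d29_1 D49532 (iv D49532) F211788
theorem F221921 : act 6 n49532 = n47324 := d41_1 D49532 (iv D47324) (iv F211789)
def n49533 : Q := act 5 n47320
theorem D49533 : act 5 n47320 = n49533 := rfl
theorem F221922 : act 3 n49533 = n49533 := d25_1 D49533 (iv D49533) F211791
theorem F221923 : act 8 n49533 = n47340 := d37_2 (iv F211793) D49533 (iv D47340)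
def n49534 : Q := act 9 n47320
theorem D49534 : act 9 n47320 = n49534 := rfl
theorem F221924 : act 3 n49534 = n49534 := d29_1 D49534 (iv D49534) F211791
theorem F221925 : act 4 n49534 = n47321 := d34_1 D49534 (iv D47321) D47320
theorem F221926 : act 6 n49534 = n47326 := d41_1 D49534 (iv D47326) (iv F211792)
def n49535 : Q := act 8 n47321
theorem D49535 : act 8 n47321 = n49535 := rfl
theorem F221927 : act 6 n49535 = n47327 := d40_1 D49535 (iv D47327) (iv F211795)
theorem F221928 : act 9 n49535 = n47342 := d44_2 D47321 D49535 (iv D47342) (iv D42689) (iv F178341)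
def n49536 : Q := act 9 n47322
theorem D49536 : act 9 n47322 = n49536 := rfl
theorem F221929 : act 0 n49536 = n48182 := d8_1 D49536 (iv D48182) F211800
theorem F221930 : act 1 n49536 = n47324 := d16_1 D49536 (iv D47324) D47322
theorem F221931 : act 2 n49536 = n47793 := d23_1 D49536 (iv D47793) (iv F211796)
theorem F221932 : act 3 n49536 = n49536 := d29_1 D49536 (iv D49536) F211797
theorem F221933 : act 4 n49536 = n48149 := d34_1 D49536 (iv D48149) (iv F211801)
theorem F221934 : act 5 n49536 = n48235 := d38_1 D49536 (iv D48235) (iv F211798)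
def n49537 : Q := act 9 n47323
theorem D49537 : act 9 n47323 = n49537 := rfl
theorem F221935 : act 1 n49537 = n48149 := d16_1 D49537 (iv D48149) (iv F211802)
theorem F221936 : act 2 n49537 = n47326 := d23_1 D49537 (iv D47326) (iv F211803)
theorem F221937 : act 3 n49537 = n48158 := d29_1 D49537 (iv D48158) F211805
theorem F221938 : act 4 n49537 = n47324 := d34_1 D49537 (iv D47324) D47323
def n49538 : Q := act 8 n47324
theorem D49538 : act 8 n47324 = n49538 := rfl
theorem F221939 : act 2 n49538 = n47327 := d22_1 D49538 (iv D47327) (iv F211806)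
theorem F221940 : act 5 n49538 = n48238 := d37_1 D49538 (iv D48238) (iv F211808)
theorem F221941 : act 9 n49538 = n47348 := d44_2 D47324 D49538 (iv D47348) (iv D42692) (iv F178347)
def n49539 : Q := act 6 n47325
theorem D49539 : act 6 n47325 = n49539 := rfl
theorem F221942 : act 3 n49539 = n49539 := d26_1 D49539 (iv D49539) F211809
theorem F221943 : act 4 n49539 = n48239 := d31_1 D49539 (iv D48239) (iv F211810)
theorem F221944 : act 8 n49539 = n47349 := d40_2 (iv F211811) D49539 (iv D47349)
def n49540 : Q := act 9 n47325
theorem D49540 : act 9 n47325 = n49540 := rfl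
theorem F221945 : act 3 n49540 = n49540 := d29_1 D49540 (iv D49540) F211809
theorem F221946 : act 4 n49540 = n47853 := d34_1 D49540 F214272 (iv F211810)
theorem F221947 : act 5 n49540 = n47326 := d38_1 D49540 (iv D47326) D47325
def n49541 : Q := act 8 n47326
theorem D49541 : act 8 n47326 = n49541 := rfl
theorem F221948 : act 4 n49541 = n47327 := d33_1 D49541 (iv D47327) (iv F211813)
theorem F221949 : act 9 n49541 = n47351 := d44_2 D47326 D49541 (iv D47351) (iv D42694) (iv F178349)
def n49542 : Q := act 3 n47328
theorem D49542 : act 3 n47328 = n49542 := rfl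
theorem F221950 : act 6 n49542 = n47329 := d26_2 (iv F211818) D49542 (iv D47329)
theorem F221951 : act 7 n49542 = n48241 := d27_2 (iv F211819) D49542 (iv D48241)
def n49543 : Q := act 9 n47328
theorem D49543 : act 9 n47328 = n49543 := rfl
theorem F221952 : act 2 n49543 = n47364 := d23_1 D49543 (iv D47364) (iv F211816)
theorem F221953 : act 4 n49543 = n47594 := d34_1 D49543 (iv D47594) (iv F211817)
theorem F221954 : act 6 n49543 = n47330 := d41_1 D49543 (iv D47330) (iv F211818)
theorem F221955 : act 7 n49543 = n48242 := d43_1 D49543 (iv D48242) (iv F211819)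
def n49544 : Q := act 2 n47329
theorem D49544 : act 2 n47329 = n49544 := rfl
theorem F221956 : act 1 n49544 = n48170 := d9_1 D49544 (iv D48170) (iv F213977) (iv F218602) F218601
theorem F221957 : act 3 n49544 = n47365 := d17_2 D47329 D49544 (iv D47365) (iv D42709) (iv F178355)
theorem F221958 : act 5 n49544 = n47334 := d19_2 (iv F211820) D49544 (iv D47334)
theorem F221959 : act 7 n49544 = n47331 := d21_2 (iv F211821) D49544 (iv D47331)
def n49545 : Q := act 4 n47329
theorem D49545 : act 4 n47329 = n49545 := rfl
theorem F221960 : act 3 n49545 = n47596 := d24_1 D49545 (iv D47596) (iv D43044) (iv F178356) D47329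
theorem F221961 : act 7 n49545 = n47332 := d32_2 (iv F211821) D49545 (iv D47332)
def n49546 : Q := act 9 n47329
theorem D49546 : act 9 n47329 = n49546 := rfl
theorem F221962 : act 3 n49546 = n47330 := d29_1 D49546 (iv D47330) D47329
theorem F221963 : act 5 n49546 = n47336 := d38_1 D49546 (iv D47336) (iv F211820)
theorem F221964 : act 7 n49546 = n47333 := d43_1 D49546 (iv D47333) (iv F211821)
def n49547 : Q := act 1 n47331
theorem D49547 : act 1 n47331 = n49547 := rfl
theorem F221965 : act 2 n49547 = n48168 := d9_2 D47331 D49547 F218617 (iv D48901) F208890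
theorem F221966 : act 3 n49547 = n47368 := d10_2 (iv F211826) D49547 (iv D47368)
theorem F221967 : act 5 n49547 = n47337 := d12_2 (iv F211827) D49547 (iv D47337)
theorem F221968 : act 6 n49547 = n48246 := d13_2 (iv F211828) D49547 (iv D48246)
theorem F221969 : act 7 n49547 = n48170 := d14_2 F221959 D49547 (iv F221956)
def n49548 : Q := act 4 n47331
theorem D49548 : act 4 n47331 = n49548 := rfl
theorem F221970 : act 2 n49548 = n47332 := d18_1 D49548 (iv D47332) D47331
theorem F221971 : act 6 n49548 = n48247 := d31_2 (iv F211828) D49548 (iv D48247)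
def n49549 : Q := act 9 n47331
theorem D49549 : act 9 n47331 = n49549 := rfl
theorem F221972 : act 2 n49549 = n47333 := d23_1 D49549 (iv D47333) D47331
theorem F221973 : act 3 n49549 = n47370 := d29_1 D49549 (iv D47370) (iv F211826)
theorem F221974 : act 5 n49549 = n47339 := d38_1 D49549 (iv D47339) (iv F211827)
theorem F221975 : act 6 n49549 = n48248 := d41_1 D49549 (iv D48248) (iv F211828)
def n49550 : Q := act 5 n47332
theorem D49550 : act 5 n47332 = n49550 := rfl
theorem F221976 : act 3 n49550 = n47601 := d25_1 D49550 (iv D47601) (iv F211829)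
theorem F221977 : act 4 n49550 = n47340 := d30_1 D49550 (iv D47340) (iv D42688) (iv F178359) D47332
def n49551 : Q := act 9 n47332
theorem D49551 : act 9 n47332 = n49551 := rfl
theorem F221978 : act 3 n49551 = n47602 := d29_1 D49551 (iv D47602) (iv F211829)
theorem F221979 : act 4 n49551 = n47333 := d34_1 D49551 (iv D47333) D47332
theorem F221980 : act 6 n49551 = n48250 := d41_1 D49551 (iv D48250) (iv F211830)
def n49552 : Q := act 8 n47333
theorem D49552 : act 8 n47333 = n49552 := rfl
theorem F221981 : act 5 n49552 = n47342 := d37_1 D49552 (iv D47342) (iv F211832)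
theorem F221982 : act 6 n49552 = n48251 := d40_1 D49552 (iv D48251) (iv F211833)
def n49553 : Q := act 4 n47334
theorem D49553 : act 4 n47334 = n49553 := rfl
theorem F221983 : act 1 n49553 = n48174 := d11_1 D49553 (iv D48174) (iv F211834)
theorem F221984 : act 2 n49553 = n47335 := d18_1 D49553 (iv D47335) D47334
theorem F221985 : act 3 n49553 = n49553 := d24_1 D49553 (iv D49553) F211835 F178451 (iv F211835)
theorem F221986 : act 6 n49553 = n48180 := d31_2 (iv F211836) D49553 (iv D48180)
theorem F221987 : act 7 n49553 = n47338 := d32_2 (iv F211837) D49553 (iv D47338)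
def n49554 : Q := act 9 n47334
theorem D49554 : act 9 n47334 = n49554 := rfl
theorem F221988 : act 1 n49554 = n48175 := d16_1 D49554 (iv D48175) (iv F211834)
theorem F221989 : act 2 n49554 = n47336 := d23_1 D49554 (iv D47336) D47334
theorem F221990 : act 3 n49554 = n47373 := d29_1 D49554 (iv D47373) (iv F211835)
theorem F221991 : act 6 n49554 = n48181 := d41_1 D49554 (iv D48181) (iv F211836)
theorem F221992 : act 7 n49554 = n47339 := d43_1 D49554 (iv D47339) (iv F211837)
def n49555 : Q := act 5 n47335
theorem D49555 : act 5 n47335 = n49555 := rfl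
theorem F221993 : act 1 n49555 = n48208 := d12_1 D49555 F215707 (iv F211838)
theorem F221994 : act 3 n49555 = n47352 := d25_1 D49555 (iv D47352) (iv F211839)
theorem F221995 : act 7 n49555 = n47340 := d36_2 (iv F211841) D49555 (iv D47340)
def n49556 : Q := act 9 n47335
theorem D49556 : act 9 n47335 = n49556 := rfl
theorem F221996 : act 1 n49556 = n48212 := d16_1 D49556 (iv D48212) (iv F211838)
theorem F221997 : act 3 n49556 = n47353 := d29_1 D49556 (iv D47353) (iv F211839)
theorem F221998 : act 4 n49556 = n47336 := d34_1 D49556 (iv D47336) D47335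
theorem F221999 : act 6 n49556 = n48215 := d41_1 D49556 (iv D48215) (iv F211840)
theorem F222000 : act 7 n49556 = n47341 := d43_1 D49556 (iv D47341) (iv F211841)
def n49557 : Q := act 8 n47336
theorem D49557 : act 8 n47336 = n49557 := rfl
theorem F222001 : act 7 n49557 = n47342 := d42_1 D49557 (iv D47342) (iv F211843)
def n49558 : Q := act 0 n47337
theorem D49558 : act 0 n47337 = n49558 := rfl
theorem F222002 : act 2 n49558 = n48145 := d1_2 (iv F211844) D49558 F215508
theorem F222003 : act 3 n49558 = n47375 := d2_2 (iv F211845) D49558 (iv D47375)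
theorem F222004 : act 6 n49558 = n47343 := d5_2 (iv F211846) D49558 (iv D47343)
theorem F222005 : act 7 n49558 = n48147 := d6_2 (iv F211847) D49558 F215521
theorem F222006 : act 8 n49558 = n48174 := d7_2 F221911 D49558 F221912
theorem F222007 : act 4 n48162 = n49558 := d33_3 F222006 (iv D48174) (iv F215577)
def n49559 : Q := act 4 n47337
theorem D49559 : act 4 n47337 = n49559 := rfl
theorem F222008 : act 0 n49559 = n48162 := d3_1 D49559 F222007 (iv D49558)
theorem F222009 : act 1 n49559 = n47338 := d11_1 D49559 (iv D47338) D47337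
theorem F222010 : act 2 n49559 = n48139 := d18_1 D49559 F215482 (iv F211844)
theorem F222011 : act 3 n49559 = n49559 := d24_1 D49559 (iv D49559) F211845 F178459 (iv F211845)
theorem F222012 : act 6 n49559 = n47344 := d31_2 (iv F211846) D49559 (iv D47344)
theorem F222013 : act 7 n49559 = n48174 := d32_2 (iv F211847) D49559 (iv D48174)
theorem F222014 : act 8 n49559 = n48147 := d33_2 F221911 D49559 F221913
def n49560 : Q := act 9 n47337
theorem D49560 : act 9 n47337 = n49560 := rfl
theorem F222015 : act 1 n49560 = n47339 := d16_1 D49560 (iv D47339) D47337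
theorem F222016 : act 2 n49560 = n48173 := d23_1 D49560 (iv D48173) (iv F211844)
theorem F222017 : act 3 n49560 = n47376 := d29_1 D49560 (iv D47376) (iv F211845)
theorem F222018 : act 6 n49560 = n47345 := d41_1 D49560 (iv D47345) (iv F211846)
theorem F222019 : act 7 n49560 = n48175 := d43_1 D49560 (iv D48175) (iv F211847)
def n49561 : Q := act 5 n47338
theorem D49561 : act 5 n47338 = n49561 := rfl
theorem F222020 : act 2 n49561 = n47340 := d19_1 D49561 (iv D47340) (iv F211848)
theorem F222021 : act 3 n49561 = n49561 := d25_1 D49561 (iv D49561) F211849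
def n49562 : Q := act 9 n47338
theorem D49562 : act 9 n47338 = n49562 := rfl
theorem F222022 : act 2 n49562 = n47341 := d23_1 D49562 (iv D47341) (iv F211848)
theorem F222023 : act 3 n49562 = n49562 := d29_1 D49562 (iv D49562) F211849
theorem F222024 : act 4 n49562 = n47339 := d34_1 D49562 (iv D47339) D47338
theorem F222025 : act 6 n49562 = n47347 := d41_1 D49562 (iv D47347) (iv F211850)
def n49563 : Q := act 8 n47339
theorem D49563 : act 8 n47339 = n49563 := rfl
theorem F222026 : act 2 n49563 = n47342 := d22_1 D49563 (iv D47342) (iv F211851)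
theorem F222027 : act 6 n49563 = n47348 := d40_1 D49563 (iv D47348) (iv F211853)
def n49564 : Q := act 6 n47340
theorem D49564 : act 6 n47340 = n49564 := rfl
theorem F222028 : act 3 n49564 = n47355 := d26_1 D49564 (iv D47355) (iv F211854)
theorem F222029 : act 5 n49564 = n47349 := d35_1 D49564 (iv D47349) (iv D42693) (iv F178372) D47340
def n49565 : Q := act 9 n47340
theorem D49565 : act 9 n47340 = n49565 := rfl
theorem F222030 : act 3 n49565 = n47356 := d29_1 D49565 (iv D47356) (iv F211854)
theorem F222031 : act 5 n49565 = n47341 := d38_1 D49565 (iv D47341) D47340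
def n49566 : Q := act 8 n47341
theorem D49566 : act 8 n47341 = n49566 := rfl
theorem F222032 : act 4 n49566 = n47342 := d33_1 D49566 (iv D47342) (iv F211856)
theorem F222033 : act 6 n49566 = n47351 := d40_1 D49566 (iv D47351) (iv F211857)
def n49567 : Q := act 9 n47343
theorem D49567 : act 9 n47343 = n49567 := rfl
theorem F222034 : act 0 n49567 = n47345 := d8_1 D49567 (iv D47345) D47343
theorem F222035 : act 2 n49567 = n48166 := d23_1 D49567 (iv D48166) (iv F211859)
theorem F222036 : act 3 n49567 = n47378 := d29_1 D49567 (iv D47378) (iv F211860)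
theorem F222037 : act 4 n49567 = n48165 := d34_1 D49567 (iv D48165) F211863
theorem F222038 : act 5 n49567 = n48265 := d38_1 D49567 (iv D48265) (iv F211861)
def n49568 : Q := act 9 n47344
theorem D49568 : act 9 n47344 = n49568 := rfl
theorem F222039 : act 0 n49568 = n48165 := d8_1 D49568 (iv D48165) (iv F211864)
theorem F222040 : act 1 n49568 = n47347 := d16_1 D49568 (iv D47347) (iv F211865)
theorem F222041 : act 2 n49568 = n48141 := d23_1 D49568 (iv D48141) (iv F211866)
theorem F222042 : act 3 n49568 = n49568 := d29_1 D49568 (iv D49568) F211867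
theorem F222043 : act 4 n49568 = n47345 := d34_1 D49568 (iv D47345) D47344
def n49569 : Q := act 8 n47345
theorem D49569 : act 8 n47345 = n49569 := rfl
theorem F222044 : act 1 n49569 = n47348 := d15_1 D49569 (iv D47348) (iv F211869)
theorem F222045 : act 5 n49569 = n48268 := d37_1 D49569 (iv D48268) (iv F211871)
def n49570 : Q := act 6 n47346
theorem D49570 : act 6 n47346 = n49570 := rfl
theorem F222046 : act 2 n49570 = n47349 := d20_1 D49570 (iv D47349) (iv F211872)
theorem F222047 : act 3 n49570 = n49570 := d26_1 D49570 (iv D49570) F211873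
theorem F222048 : act 4 n49570 = n48269 := d31_1 D49570 (iv D48269) (iv F211874)
def n49571 : Q := act 9 n47346
theorem D49571 : act 9 n47346 = n49571 := rfl
theorem F222049 : act 2 n49571 = n47350 := d23_1 D49571 (iv D47350) (iv F211872)
theorem F222050 : act 3 n49571 = n49571 := d29_1 D49571 (iv D49571) F211873
theorem F222051 : act 4 n49571 = n48270 := d34_1 D49571 (iv D48270) (iv F211874)
theorem F222052 : act 5 n49571 = n47347 := d38_1 D49571 (iv D47347) D47346
def n49572 : Q := act 8 n47347
theorem D49572 : act 8 n47347 = n49572 := rfl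
theorem F222053 : act 2 n49572 = n47351 := d22_1 D49572 (iv D47351) (iv F211875)
theorem F222054 : act 4 n49572 = n47348 := d33_1 D49572 (iv D47348) (iv F211877)
def n49573 : Q := act 3 n47348
theorem D49573 : act 3 n47348 = n49573 := rfl
theorem F222055 : act 5 n49573 = n48272 := d25_2 (iv F211879) D49573 (iv D48272)
theorem F222056 : act 8 n49573 = n47380 := d28_2 D47348 D49573 (iv D47380) (iv D42721) (iv F178380)
def n49574 : Q := act 7 n47349
theorem D49574 : act 7 n47349 = n49574 := rfl
theorem F222057 : act 3 n49574 = n47358 := d27_1 D49574 (iv D47358) (iv F211880)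
theorem F222058 : act 4 n49574 = n48273 := d32_1 D49574 (iv D48273) (iv F211881)
def n49575 : Q := act 9 n47349
theorem D49575 : act 9 n47349 = n49575 := rfl
theorem F222059 : act 3 n49575 = n47359 := d29_1 D49575 (iv D47359) (iv F211880)
theorem F222060 : act 4 n49575 = n48274 := d34_1 D49575 (iv D48274) (iv F211881)
theorem F222061 : act 6 n49575 = n47350 := d41_1 D49575 (iv D47350) D47349
def n49576 : Q := act 8 n47350
theorem D49576 : act 8 n47350 = n49576 := rfl
theorem F222062 : act 4 n49576 = n48275 := d33_1 D49576 (iv D48275) (iv F211883)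
theorem F222063 : act 5 n49576 = n47351 := d37_1 D49576 (iv D47351) (iv F211884)
def n49577 : Q := act 3 n47351
theorem D49577 : act 3 n47351 = n49577 := rfl
theorem F222064 : act 8 n49577 = n47361 := d28_2 D47351 D49577 (iv D47361) (iv D42703) (iv F178384)
def n49578 : Q := act 9 n47352
theorem D49578 : act 9 n47352 = n49578 := rfl
theorem F222065 : act 1 n49578 = n48220 := d16_1 D49578 (iv D48220) (iv F211886)
theorem F222066 : act 2 n49578 = n49578 := d23_1 D49578 (iv D49578) F211887
theorem F222067 : act 4 n49578 = n47632 := d34_1 D49578 (iv D47632) (iv F211888)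
theorem F222068 : act 5 n49578 = n47353 := d38_1 D49578 (iv D47353) D47352
theorem F222069 : act 7 n49578 = n47356 := d43_1 D49578 (iv D47356) (iv F211889)
def n49579 : Q := act 8 n47353
theorem D49579 : act 8 n47353 = n49579 := rfl
theorem F222070 : act 1 n49579 = n48224 := d15_1 D49579 (iv D48224) (iv F211891)
theorem F222071 : act 2 n49579 = n49579 := d22_1 D49579 (iv D49579) F211892
theorem F222072 : act 4 n49579 = n47354 := d33_1 D49579 (iv D47354) (iv F211893)
theorem F222073 : act 6 n49579 = n48226 := d40_1 D49579 (iv D48226) (iv F211894)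
theorem F222074 : act 7 n49579 = n47357 := d42_1 D49579 (iv D47357) (iv F211895)
theorem F222075 : act 9 n49579 = n49579 := d44_2 D47353 D49579 (iv D49579) (iv D47353) F178389
def n49580 : Q := act 7 n47355
theorem D49580 : act 7 n47355 = n49580 := rfl
theorem F222076 : act 2 n49580 = n49580 := d21_1 D49580 (iv D49580) F211902
theorem F222077 : act 4 n49580 = n47634 := d32_1 D49580 (iv D47634) (iv F211903)
theorem F222078 : act 5 n49580 = n47358 := d36_1 D49580 (iv D47358) (iv F211904)
theorem F222079 : act 8 n49580 = n49580 := d42_2 F211905 D49580 (iv D49580)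
def n49581 : Q := act 9 n47355
theorem D49581 : act 9 n47355 = n49581 := rfl
theorem F222080 : act 2 n49581 = n49581 := d23_1 D49581 (iv D49581) F211902
theorem F222081 : act 4 n49581 = n47635 := d34_1 D49581 (iv D47635) (iv F211903)
theorem F222082 : act 5 n49581 = n47359 := d38_1 D49581 (iv D47359) (iv F211904)
theorem F222083 : act 6 n49581 = n47356 := d41_1 D49581 (iv D47356) D47355
def n49582 : Q := act 8 n47356
theorem D49582 : act 8 n47356 = n49582 := rfl
theorem F222084 : act 2 n49582 = n49582 := d22_1 D49582 (iv D49582) F211906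
theorem F222085 : act 4 n49582 = n47636 := d33_1 D49582 (iv D47636) (iv F211907)
theorem F222086 : act 5 n49582 = n47357 := d37_1 D49582 (iv D47357) (iv F211908)
theorem F222087 : act 9 n49582 = n49582 := d44_2 D47356 D49582 (iv D49582) (iv D47356) F178396
def n49583 : Q := act 3 n47357
theorem D49583 : act 3 n47357 = n49583 := rfl
theorem F222088 : act 6 n49583 = n47361 := d26_2 (iv F211911) D49583 (iv D47361)
theorem F222089 : act 9 n49583 = n49583 := d29_2 F211912 D49583 (iv D49583)
def n49584 : Q := act 9 n47358
theorem D49584 : act 9 n47358 = n49584 := rfl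
theorem F222090 : act 2 n49584 = n49584 := d23_1 D49584 (iv D49584) F211913
theorem F222091 : act 4 n49584 = n47362 := d34_1 D49584 (iv D47362) (iv F211914)
theorem F222092 : act 6 n49584 = n48622 := d41_1 D49584 F220768 F220766
theorem F222093 : act 7 n49584 = n47359 := d43_1 D49584 (iv D47359) D47358
theorem F222094 : act 8 n48632 = n49584 := d40_0 F222092 F217060 (iv F217094)
def n49585 : Q := act 8 n47359
theorem D49585 : act 8 n47359 = n49585 := rfl
theorem F222095 : act 2 n49585 = n49585 := d22_1 D49585 (iv D49585) F211916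
theorem F222096 : act 4 n49585 = n47363 := d33_1 D49585 (iv D47363) (iv F211917)
theorem F222097 : act 6 n49585 = n47360 := d40_1 D49585 (iv D47360) (iv F211918)
theorem F222098 : act 7 n49585 = n48632 := d42_1 D49585 F222094 F222093
theorem F222099 : act 9 n49585 = n49585 := d44_2 D47359 D49585 (iv D49585) (iv D47359) F178406
def n49586 : Q := act 3 n47360
theorem D49586 : act 3 n47360 = n49586 := rfl
theorem F222100 : act 5 n49586 = n47361 := d25_2 (iv F211921) D49586 (iv D47361)
theorem F222101 : act 9 n49586 = n49586 := d29_2 F211922 D49586 (iv D49586)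
def n49587 : Q := act 2 n47361
theorem D49587 : act 2 n47361 = n49587 := rfl
theorem F222102 : act 3 n49587 = n49587 := d17_2 D47361 D49587 (iv D49587) (iv D47361) F178410
theorem F222103 : act 9 n49587 = n49587 := d23_2 F211923 D49587 (iv D49587)
def n49588 : Q := act 4 n47365
theorem D49588 : act 4 n47365 = n49588 := rfl
theorem F222104 : act 1 n49588 = n48186 := d11_1 D49588 (iv D48186) (iv F211940)
theorem F222105 : act 2 n49588 = n47366 := d18_1 D49588 (iv D47366) D47365
theorem F222106 : act 5 n49588 = n49588 := d30_2 (iv F211941) D49588 (iv D49588) F211941 F178451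
theorem F222107 : act 7 n49588 = n47369 := d32_2 (iv F211942) D49588 (iv D47369)
theorem F222108 : act 8 n49588 = n49588 := d33_2 F211943 D49588 (iv D49588)
def n49589 : Q := act 9 n47365
theorem D49589 : act 9 n47365 = n49589 := rfl
theorem F222109 : act 1 n49589 = n48187 := d16_1 D49589 (iv D48187) (iv F211940)
theorem F222110 : act 2 n49589 = n47367 := d23_1 D49589 (iv D47367) D47365
theorem F222111 : act 5 n49589 = n47373 := d38_1 D49589 (iv D47373) (iv F211941)
theorem F222112 : act 7 n49589 = n47370 := d43_1 D49589 (iv D47370) (iv F211942)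
def n49590 : Q := act 9 n47366
theorem D49590 : act 9 n47366 = n49590 := rfl
theorem F222113 : act 1 n49590 = n47381 := d16_1 D49590 (iv D47381) (iv F211944)
theorem F222114 : act 3 n49590 = n47649 := d29_1 D49590 (iv D47649) (iv F211945)
theorem F222115 : act 4 n49590 = n47367 := d34_1 D49590 (iv D47367) D47366
theorem F222116 : act 5 n49590 = n49590 := d38_1 D49590 (iv D49590) F211946
theorem F222117 : act 7 n49590 = n47371 := d43_1 D49590 (iv D47371) (iv F211947)
def n49591 : Q := act 8 n47367
theorem D49591 : act 8 n47367 = n49591 := rfl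
theorem F222118 : act 1 n49591 = n47382 := d15_1 D49591 (iv D47382) (iv F211949)
theorem F222119 : act 5 n49591 = n47374 := d37_1 D49591 (iv D47374) (iv F211951)
theorem F222120 : act 7 n49591 = n47372 := d42_1 D49591 (iv D47372) (iv F211952)
theorem F222121 : act 9 n49591 = n49591 := d44_2 D47367 D49591 (iv D49591) (iv D47367) F178434
def n49592 : Q := act 0 n47368
theorem D49592 : act 0 n47368 = n49592 := rfl
theorem F222122 : act 2 n49592 = n47383 := d1_2 (iv F211953) D49592 (iv D47383)
theorem F222123 : act 5 n49592 = n47375 := d4_2 (iv F211954) D49592 (iv D47375)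
theorem F222124 : act 6 n49592 = n48285 := d5_2 (iv F211955) D49592 (iv D48285)
theorem F222125 : act 7 n49592 = n48152 := d6_2 (iv F211956) D49592 F215538
theorem F222126 : act 8 n49592 = n49592 := d7_2 F211957 D49592 (iv D49592)
def n49593 : Q := act 4 n47368
theorem D49593 : act 4 n47368 = n49593 := rfl
theorem F222127 : act 1 n49593 = n47369 := d11_1 D49593 (iv D47369) D47368
theorem F222128 : act 2 n49593 = n47384 := d18_1 D49593 (iv D47384) (iv F211953)
theorem F222129 : act 5 n49593 = n49593 := d30_2 (iv F211954) D49593 (iv D49593) F211954 F178459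
theorem F222130 : act 6 n49593 = n48286 := d31_2 (iv F211955) D49593 (iv D48286)
theorem F222131 : act 7 n49593 = n48186 := d32_2 (iv F211956) D49593 (iv D48186)
theorem F222132 : act 8 n49593 = n49593 := d33_2 F211957 D49593 (iv D49593)
def n49594 : Q := act 9 n47368
theorem D49594 : act 9 n47368 = n49594 := rfl
theorem F222133 : act 1 n49594 = n47370 := d16_1 D49594 (iv D47370) D47368
theorem F222134 : act 2 n49594 = n47385 := d23_1 D49594 (iv D47385) (iv F211953)
theorem F222135 : act 5 n49594 = n47376 := d38_1 D49594 (iv D47376) (iv F211954)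
theorem F222136 : act 6 n49594 = n48287 := d41_1 D49594 (iv D48287) (iv F211955)
theorem F222137 : act 7 n49594 = n48187 := d43_1 D49594 (iv D48187) (iv F211956)
def n49595 : Q := act 3 n47369
theorem D49595 : act 3 n47369 = n49595 := rfl
theorem F222138 : act 2 n49595 = n47654 := d17_1 D49595 (iv D47654) F179920 (iv F178443) (iv F211958)
theorem F222139 : act 5 n49595 = n49595 := d25_2 F211959 D49595 (iv D49595)
theorem F222140 : act 6 n49595 = n48288 := d26_2 (iv F211960) D49595 (iv D48288)
def n49596 : Q := act 9 n47369
theorem D49596 : act 9 n47369 = n49596 := rfl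
theorem F222141 : act 2 n49596 = n47371 := d23_1 D49596 (iv D47371) (iv F211958)
theorem F222142 : act 4 n49596 = n47370 := d34_1 D49596 (iv D47370) D47369
theorem F222143 : act 5 n49596 = n49596 := d38_1 D49596 (iv D49596) F211959
theorem F222144 : act 6 n49596 = n48289 := d41_1 D49596 (iv D48289) (iv F211960)
def n49597 : Q := act 8 n47370
theorem D49597 : act 8 n47370 = n49597 := rfl
theorem F222145 : act 2 n49597 = n47372 := d22_1 D49597 (iv D47372) (iv F211962)
theorem F222146 : act 5 n49597 = n47377 := d37_1 D49597 (iv D47377) (iv F211963)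
theorem F222147 : act 6 n49597 = n48290 := d40_1 D49597 (iv D48290) (iv F211964)
theorem F222148 : act 9 n49597 = n49597 := d44_2 D47370 D49597 (iv D49597) (iv D47370) F178441
def n49598 : Q := act 8 n47371
theorem D49598 : act 8 n47371 = n49598 := rfl
theorem F222149 : act 1 n49598 = n47388 := d15_1 D49598 (iv D47388) (iv F211965)
theorem F222150 : act 4 n49598 = n47372 := d33_1 D49598 (iv D47372) (iv F211967)
theorem F222151 : act 5 n49598 = n49598 := d37_1 D49598 (iv D49598) F211968
theorem F222152 : act 6 n49598 = n48291 := d40_1 D49598 (iv D48291) (iv F211969)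
theorem F222153 : act 9 n49598 = n49598 := d44_2 D47371 D49598 (iv D49598) (iv D47371) F178446
def n49599 : Q := act 8 n47373
theorem D49599 : act 8 n47373 = n49599 := rfl
theorem F222154 : act 1 n49599 = n48190 := d15_1 D49599 (iv D48190) (iv F211974)
theorem F222155 : act 2 n49599 = n47374 := d22_1 D49599 (iv D47374) (iv F211975)
theorem F222156 : act 4 n49599 = n49599 := d33_1 D49599 (iv D49599) F211976
theorem F222157 : act 6 n49599 = n48192 := d40_1 D49599 (iv D48192) (iv F211977)
theorem F222158 : act 7 n49599 = n47377 := d42_1 D49599 (iv D47377) (iv F211978)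
theorem F222159 : act 9 n49599 = n49599 := d44_2 D47373 D49599 (iv D49599) (iv D47373) F178453
def n49600 : Q := act 9 n47375
theorem D49600 : act 9 n47375 = n49600 := rfl
theorem F222160 : act 0 n49600 = n47376 := d8_1 D49600 (iv D47376) D47375
theorem F222161 : act 2 n49600 = n47389 := d23_1 D49600 (iv D47389) (iv F211984)
theorem F222162 : act 4 n49600 = n49600 := d34_1 D49600 (iv D49600) F211985
theorem F222163 : act 6 n49600 = n47378 := d41_1 D49600 (iv D47378) (iv F211986)
theorem F222164 : act 7 n49600 = n48155 := d43_1 D49600 (iv D48155) (iv F211987)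
def n49601 : Q := act 8 n47376
theorem D49601 : act 8 n47376 = n49601 := rfl
theorem F222165 : act 1 n49601 = n47377 := d15_1 D49601 (iv D47377) (iv F211989)
theorem F222166 : act 2 n49601 = n47390 := d22_1 D49601 (iv D47390) (iv F211990)
theorem F222167 : act 4 n49601 = n49601 := d33_1 D49601 (iv D49601) F211991
theorem F222168 : act 6 n49601 = n47379 := d40_1 D49601 (iv D47379) (iv F211992)
theorem F222169 : act 7 n49601 = n48190 := d42_1 D49601 (iv D48190) (iv F211993)
theorem F222170 : act 9 n49601 = n49601 := d44_2 D47376 D49601 (iv D49601) (iv D47376) F178461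
def n49602 : Q := act 3 n47377
theorem D49602 : act 3 n47377 = n49602 := rfl
theorem F222171 : act 6 n49602 = n47380 := d26_2 (iv F211996) D49602 (iv D47380)
theorem F222172 : act 9 n49602 = n49602 := d29_2 F211997 D49602 (iv D49602)
def n49603 : Q := act 8 n47378
theorem D49603 : act 8 n47378 = n49603 := rfl
theorem F222173 : act 0 n49603 = n47379 := d7_1 D49603 (iv D47379) (iv F211998)
theorem F222174 : act 2 n49603 = n47391 := d22_1 D49603 (iv D47391) (iv F211999)
theorem F222175 : act 4 n49603 = n49603 := d33_1 D49603 (iv D49603) F212000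
theorem F222176 : act 5 n49603 = n48297 := d37_1 D49603 (iv D48297) (iv F212001)
theorem F222177 : act 9 n49603 = n49603 := d44_2 D47378 D49603 (iv D49603) (iv D47378) F178472
def n49604 : Q := act 3 n47379
theorem D49604 : act 3 n47379 = n49604 := rfl
theorem F222178 : act 1 n49604 = n47380 := d10_1 D49604 (iv D47380) (iv F212002)
theorem F222179 : act 5 n49604 = n48298 := d25_2 (iv F212005) D49604 (iv D48298)
theorem F222180 : act 9 n49604 = n49604 := d29_2 F212006 D49604 (iv D49604)
def n49605 : Q := act 4 n47380
theorem D49605 : act 4 n47380 = n49605 := rfl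
theorem F222181 : act 3 n49605 = n49605 := d24_1 D49605 (iv D49605) (iv D47380) F178478 D47380
theorem F222182 : act 9 n49605 = n49605 := d34_2 F212008 D49605 (iv D49605)
def n49606 : Q := act 8 n47381
theorem D49606 : act 8 n47381 = n49606 := rfl
theorem F222183 : act 0 n49606 = n49606 := d7_1 D49606 (iv D49606) F212009
theorem F222184 : act 2 n49606 = n48194 := d22_1 D49606 (iv D48194) (iv F212010)
theorem F222185 : act 4 n49606 = n47382 := d33_1 D49606 (iv D47382) (iv F212012)
theorem F222186 : act 5 n49606 = n49606 := d37_1 D49606 (iv D49606) F212013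
theorem F222187 : act 7 n49606 = n47388 := d42_1 D49606 (iv D47388) (iv F212014)
theorem F222188 : act 9 n49606 = n49606 := d44_2 D47381 D49606 (iv D49606) (iv D47381) F178497
def n49607 : Q := act 4 n47383
theorem D49607 : act 4 n47383 = n49607 := rfl
theorem F222189 : act 0 n49607 = n47384 := d3_1 D49607 (iv D47384) D47383
theorem F222190 : act 1 n49607 = n49607 := d11_1 D49607 (iv D49607) F212020
theorem F222191 : act 3 n49607 = n47689 := d24_1 D49607 F213435 F204132 (iv F188535) (iv F212021)
theorem F222192 : act 5 n49607 = n49607 := d30_2 (iv F212022) D49607 (iv D49607) F212022 F178535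
theorem F222193 : act 6 n49607 = n48306 := d31_2 (iv F212023) D49607 (iv D48306)
theorem F222194 : act 7 n49607 = n47690 := d32_2 (iv F212024) D49607 F213440
theorem F222195 : act 8 n49607 = n49607 := d33_2 F212025 D49607 (iv D49607)
def n49608 : Q := act 9 n47383
theorem D49608 : act 9 n47383 = n49608 := rfl
theorem F222196 : act 0 n49608 = n47385 := d8_1 D49608 (iv D47385) D47383
theorem F222197 : act 1 n49608 = n49608 := d16_1 D49608 (iv D49608) F212020
theorem F222198 : act 3 n49608 = n48151 := d29_1 D49608 (iv D48151) (iv F212021)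
theorem F222199 : act 5 n49608 = n47389 := d38_1 D49608 (iv D47389) (iv F212022)
theorem F222200 : act 6 n49608 = n48307 := d41_1 D49608 (iv D48307) (iv F212023)
theorem F222201 : act 7 n49608 = n48153 := d43_1 D49608 (iv D48153) (iv F212024)
def n49609 : Q := act 9 n47384
theorem D49609 : act 9 n47384 = n49609 := rfl
theorem F222202 : act 1 n49609 = n47386 := d16_1 D49609 (iv D47386) (iv F212026)
theorem F222203 : act 3 n49609 = n48377 := d29_1 D49609 (iv D48377) (iv F212027)
theorem F222204 : act 4 n49609 = n47385 := d34_1 D49609 (iv D47385) D47384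
theorem F222205 : act 5 n49609 = n49609 := d38_1 D49609 (iv D49609) F212028
theorem F222206 : act 6 n49609 = n48309 := d41_1 D49609 (iv D48309) (iv F212029)
theorem F222207 : act 7 n49609 = n48188 := d43_1 D49609 (iv D48188) (iv F212030)
def n49610 : Q := act 8 n47385
theorem D49610 : act 8 n47385 = n49610 := rfl
theorem F222208 : act 1 n49610 = n47387 := d15_1 D49610 (iv D47387) (iv F212032)
theorem F222209 : act 3 n49610 = n48284 := d28_1 D49610 (iv D48284) F189219 (iv F188683) (iv F212033)
theorem F222210 : act 5 n49610 = n47390 := d37_1 D49610 (iv D47390) (iv F212034)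
theorem F222211 : act 6 n49610 = n48310 := d40_1 D49610 (iv D48310) (iv F212035)
theorem F222212 : act 7 n49610 = n48189 := d42_1 D49610 (iv D48189) (iv F212036)
theorem F222213 : act 9 n49610 = n49610 := d44_2 D47385 D49610 (iv D49610) (iv D47385) F178504
def n49611 : Q := act 8 n47386
theorem D49611 : act 8 n47386 = n49611 := rfl
theorem F222214 : act 0 n49611 = n49611 := d7_1 D49611 (iv D49611) F212037
theorem F222215 : act 2 n49611 = n47388 := d22_1 D49611 (iv D47388) (iv F212038)
theorem F222216 : act 3 n49611 = n48069 := d28_1 D49611 (iv D48069) (iv F215207) F215212 (iv F212039)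
theorem F222217 : act 4 n49611 = n47387 := d33_1 D49611 (iv D47387) (iv F212040)
theorem F222218 : act 5 n49611 = n49611 := d37_1 D49611 (iv D49611) F212041
theorem F222219 : act 6 n49611 = n48312 := d40_1 D49611 (iv D48312) (iv F212042)
theorem F222220 : act 7 n49611 = n48194 := d42_1 D49611 (iv D48194) (iv F212043)
theorem F222221 : act 9 n49611 = n49611 := d44_2 D47386 D49611 (iv D49611) (iv D47386) F178509
def n49612 : Q := act 3 n47388
theorem D49612 : act 3 n47388 = n49612 := rfl
theorem F222222 : act 0 n49612 = n49612 := d2_1 D49612 (iv D49612) F212051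
theorem F222223 : act 2 n49612 = n48060 := d17_1 D49612 F215170 (iv F215214) (iv F222216) F222215
theorem F222224 : act 5 n49612 = n49612 := d25_2 F212053 D49612 (iv D49612)
theorem F222225 : act 6 n49612 = n48063 := d26_2 (iv F212054) D49612 F215186
theorem F222226 : act 8 n49612 = n47681 := d28_2 D47388 D49612 (iv D47681) (iv D43114) (iv F178515)
theorem F222227 : act 9 n49612 = n49612 := d29_2 F212055 D49612 (iv D49612)
def n49613 : Q := act 8 n47389
theorem D49613 : act 8 n47389 = n49613 := rfl
theorem F222228 : act 0 n49613 = n47390 := d7_1 D49613 (iv D47390) (iv F212056)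
theorem F222229 : act 1 n49613 = n49613 := d15_1 D49613 (iv D49613) F212057
theorem F222230 : act 3 n49613 = n48223 := d28_1 D49613 (iv D48223) F189044 (iv F188556) (iv F212058)
theorem F222231 : act 4 n49613 = n49613 := d33_1 D49613 (iv D49613) F212059
theorem F222232 : act 6 n49613 = n47391 := d40_1 D49613 (iv D47391) (iv F212060)
theorem F222233 : act 7 n49613 = n48156 := d42_1 D49613 (iv D48156) (iv F212061)
theorem F222234 : act 9 n49613 = n49613 := d44_2 D47389 D49613 (iv D49613) (iv D47389) F178537
def n49614 : Q := act 9 n47395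
theorem D49614 : act 9 n47395 = n49614 := rfl
theorem F222235 : act 0 n49614 = n47402 := d8_1 D49614 (iv D47402) (iv F212092)
theorem F222236 : act 1 n49614 = n47499 := d16_1 D49614 F212629 (iv F212093)
theorem F222237 : act 2 n49614 = n47432 := d23_1 D49614 (iv D47432) (iv F212094)
theorem F222238 : act 3 n49614 = n47498 := d29_1 D49614 F212625 (iv F212095)
theorem F222239 : act 4 n49614 = n47396 := d34_1 D49614 (iv D47396) D47395
theorem F222240 : act 6 n49614 = n47397 := d41_1 D49614 (iv D47397) (iv F212096)
theorem F222241 : act 7 n49614 = n48739 := d43_1 D49614 (iv D48739) (iv F212097)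
def n49615 : Q := act 8 n47396
theorem D49615 : act 8 n47396 = n49615 := rfl
theorem F222242 : act 0 n49615 = n47403 := d7_1 D49615 (iv D47403) (iv F212099)
theorem F222243 : act 2 n49615 = n47433 := d22_1 D49615 (iv D47433) (iv F212100)
theorem F222244 : act 3 n49615 = n49615 := d28_1 D49615 (iv D49615) F212101 F178652 (iv F212101)
theorem F222245 : act 6 n49615 = n47398 := d40_1 D49615 (iv D47398) (iv F212102)
theorem F222246 : act 9 n49615 = n49615 := d44_2 D47396 D49615 (iv D49615) (iv D47396) F178648
def n49616 : Q := act 8 n47400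
theorem D49616 : act 8 n47400 = n49616 := rfl
theorem F222247 : act 1 n49616 = n49616 := d15_1 D49616 (iv D49616) F212125
theorem F222248 : act 2 n49616 = n47472 := d22_1 D49616 (iv D47472) (iv F212126)
theorem F222249 : act 3 n49616 = n49616 := d28_1 D49616 (iv D49616) F212127 F178782 (iv F212127)
theorem F222250 : act 4 n49616 = n48740 := d33_1 D49616 (iv D48740) (iv F212128)
theorem F222251 : act 6 n49616 = n49616 := d40_1 D49616 (iv D49616) F212129
theorem F222252 : act 7 n49616 = n47403 := d42_1 D49616 (iv D47403) (iv F212130)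
theorem F222253 : act 9 n49616 = n49616 := d44_2 D47400 D49616 (iv D49616) (iv D47400) F178777
def n49617 : Q := act 6 n47401
theorem D49617 : act 6 n47401 = n49617 := rfl
theorem F222254 : act 0 n49617 = n48302 := d5_1 D49617 (iv F221399) F221394
theorem F222255 : act 1 n49617 = n49617 := d13_1 D49617 (iv D49617) F212131
theorem F222256 : act 2 n49617 = n47473 := d20_1 D49617 (iv D47473) (iv F212132)
theorem F222257 : act 3 n49617 = n48545 := d26_1 D49617 F216773 (iv F212133)
theorem F222258 : act 4 n49617 = n48301 := d31_1 D49617 (iv F220856) F220855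
theorem F222259 : act 5 n49617 = n47404 := d35_1 D49617 (iv D47404) (iv D42791) (iv F178785) D47401
theorem F222260 : act 7 n49617 = n48306 := d39_2 (iv F212134) D49617 (iv F222193) F222194 F213442
theorem F222261 : act 8 n49617 = n49617 := d40_2 F212135 D49617 (iv D49617)
def n49618 : Q := act 9 n47401
theorem D49618 : act 9 n47401 = n49618 := rfl
theorem F222262 : act 1 n49618 = n49618 := d16_1 D49618 (iv D49618) F212131
theorem F222263 : act 2 n49618 = n47474 := d23_1 D49618 (iv D47474) (iv F212132)
theorem F222264 : act 3 n49618 = n48546 := d29_1 D49618 (iv D48546) (iv F212133)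
theorem F222265 : act 5 n49618 = n47402 := d38_1 D49618 (iv D47402) D47401
theorem F222266 : act 7 n49618 = n48547 := d43_1 D49618 (iv D48547) (iv F212134)
def n49619 : Q := act 8 n47402
theorem D49619 : act 8 n47402 = n49619 := rfl
theorem F222267 : act 1 n49619 = n49619 := d15_1 D49619 (iv D49619) F212136
theorem F222268 : act 2 n49619 = n47475 := d22_1 D49619 (iv D47475) (iv F212137)
theorem F222269 : act 3 n49619 = n48744 := d28_1 D49619 (iv D48744) F207729 (iv F207713) (iv F212138)
theorem F222270 : act 4 n49619 = n47403 := d33_1 D49619 (iv D47403) (iv F212139)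
theorem F222271 : act 6 n49619 = n47406 := d40_1 D49619 (iv D47406) (iv F212140)
theorem F222272 : act 7 n49619 = n48740 := d42_1 D49619 (iv D48740) (iv F212141)
theorem F222273 : act 9 n49619 = n49619 := d44_2 D47402 D49619 (iv D49619) (iv D47402) F178786
def n49620 : Q := act 9 n47404
theorem D49620 : act 9 n47404 = n49620 := rfl
theorem F222274 : act 0 n49620 = n48393 := d8_1 D49620 F216296 (iv F212147)
theorem F222275 : act 1 n49620 = n49620 := d16_1 D49620 (iv D49620) F212148
theorem F222276 : act 2 n49620 = n47477 := d23_1 D49620 (iv D47477) (iv F212149)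
theorem F222277 : act 3 n49620 = n48392 := d29_1 D49620 F216292 (iv F212150)
theorem F222278 : act 4 n49620 = n47407 := d34_1 D49620 (iv D47407) (iv F212151)
theorem F222279 : act 6 n49620 = n47405 := d41_1 D49620 (iv D47405) D47404
theorem F222280 : act 7 n49620 = n48639 := d43_1 D49620 (iv D48639) F212153
def n49621 : Q := act 8 n47405
theorem D49621 : act 8 n47405 = n49621 := rfl
theorem F222281 : act 0 n49621 = n47912 := d7_1 D49621 F214564 (iv F212154)
theorem F222282 : act 1 n49621 = n49621 := d15_1 D49621 (iv D49621) F212155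
theorem F222283 : act 2 n49621 = n47478 := d22_1 D49621 (iv D47478) (iv F212156)
theorem F222284 : act 3 n49621 = n47911 := d28_1 D49621 (iv D47911) F186876 D45647 (iv F212157)
theorem F222285 : act 4 n49621 = n47408 := d33_1 D49621 (iv D47408) (iv F212158)
theorem F222286 : act 5 n49621 = n47406 := d37_1 D49621 (iv D47406) (iv F212159)
theorem F222287 : act 7 n49621 = n49621 := d42_1 D49621 (iv D49621) F212160
theorem F222288 : act 9 n49621 = n49621 := d44_2 D47405 D49621 (iv D49621) (iv D47405) F178795
def n49622 : Q := act 8 n47407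
theorem D49622 : act 8 n47407 = n49622 := rfl
theorem F222289 : act 0 n49622 = n48637 := d7_1 D49622 (iv D48637) (iv F212166)
theorem F222290 : act 1 n49622 = n49622 := d15_1 D49622 (iv D49622) F212167
theorem F222291 : act 2 n49622 = n47481 := d22_1 D49622 (iv D47481) (iv F212168)
theorem F222292 : act 5 n49622 = n48644 := d37_1 D49622 (iv D48644) (iv F212170)
theorem F222293 : act 6 n49622 = n47408 := d40_1 D49622 (iv D47408) (iv F212171)
theorem F222294 : act 7 n49622 = n48640 := d42_1 D49622 (iv D48640) (iv F212172)
theorem F222295 : act 9 n49622 = n49622 := d44_2 D47407 D49622 (iv D49622) (iv D47407) F178809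
def n49623 : Q := act 3 n47408
theorem D49623 : act 3 n47408 = n49623 := rfl
theorem F222296 : act 1 n49623 = n49623 := d10_1 D49623 (iv D49623) F212173
theorem F222297 : act 5 n49623 = n47409 := d25_2 (iv F212175) D49623 (iv D47409)
theorem F222298 : act 7 n49623 = n49623 := d27_2 F212176 D49623 (iv D49623)
theorem F222299 : act 8 n49623 = n49623 := d28_2 D47408 D49623 (iv D49623) (iv D47408) F178812
theorem F222300 : act 9 n49623 = n49623 := d29_2 F212177 D49623 (iv D49623)
def n49624 : Q := act 8 n47411
theorem D49624 : act 8 n47411 = n49624 := rfl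
theorem F222301 : act 0 n49624 = n48034 := d7_1 D49624 F215075 (iv F212191)
theorem F222302 : act 1 n49624 = n47420 := d15_1 D49624 (iv D47420) (iv F212192)
theorem F222303 : act 2 n49624 = n49624 := d22_1 D49624 (iv D49624) F212193
theorem F222304 : act 5 n49624 = n47413 := d37_1 D49624 (iv D47413) (iv F212195)
theorem F222305 : act 7 n49624 = n47412 := d42_1 D49624 (iv D47412) D47411
def n49625 : Q := act 3 n47412
theorem D49625 : act 3 n47412 = n49625 := rfl
theorem F222306 : act 0 n49625 = n48018 := d2_1 D49625 F215013 (iv F212197)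
theorem F222307 : act 1 n49625 = n47421 := d10_1 D49625 (iv D47421) (iv F212198)
theorem F222308 : act 5 n49625 = n47414 := d25_2 (iv F212200) D49625 (iv D47414)
theorem F222309 : act 6 n49625 = n47943 := d26_2 (iv F212201) D49625 F214702
theorem F222310 : act 8 n49625 = n48348 := d28_2 D47412 D49625 F216132 F189858 (iv F203075)
def n49626 : Q := act 9 n47412
theorem D49626 : act 9 n47412 = n49626 := rfl
theorem F222311 : act 0 n49626 = n48035 := d8_1 D49626 (iv D48035) (iv F212197)
theorem F222312 : act 1 n49626 = n47422 := d16_1 D49626 (iv D47422) (iv F212198)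
theorem F222313 : act 2 n49626 = n49626 := d23_1 D49626 (iv D49626) F212199
theorem F222314 : act 5 n49626 = n47415 := d38_1 D49626 (iv D47415) (iv F212200)
theorem F222315 : act 6 n49626 = n47952 := d41_1 D49626 (iv D47952) (iv F212201)
theorem F222316 : act 8 n49626 = n47510 := d44_1 D49626 (iv D47510) (iv D42952) (iv F178954) D47412
def n49627 : Q := act 3 n47413
theorem D49627 : act 3 n47413 = n49627 := rfl
theorem F222317 : act 0 n49627 = n48030 := d2_1 D49627 F215059 (iv F212202)
theorem F222318 : act 1 n49627 = n47423 := d10_1 D49627 (iv D47423) (iv F212203)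
theorem F222319 : act 6 n49627 = n49627 := d26_2 F212206 D49627 (iv D49627)
theorem F222320 : act 7 n49627 = n47414 := d27_2 (iv F212207) D49627 (iv D47414)
theorem F222321 : act 8 n49627 = n48354 := d28_2 D47413 D49627 F216143 F189875 (iv F203076)
def n49628 : Q := act 9 n47413
theorem D49628 : act 9 n47413 = n49628 := rfl
theorem F222322 : act 0 n49628 = n48036 := d8_1 D49628 (iv D48036) (iv F212202)
theorem F222323 : act 1 n49628 = n47424 := d16_1 D49628 (iv D47424) (iv F212203)
theorem F222324 : act 2 n49628 = n49628 := d23_1 D49628 (iv D49628) F212204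
theorem F222325 : act 4 n49628 = n47418 := d34_1 D49628 (iv D47418) (iv F212205)
theorem F222326 : act 6 n49628 = n49628 := d41_1 D49628 (iv D49628) F212206
theorem F222327 : act 7 n49628 = n47415 := d43_1 D49628 (iv D47415) (iv F212207)
theorem F222328 : act 8 n49628 = n47512 := d44_1 D49628 (iv D47512) (iv D42953) (iv F178959) D47413
def n49629 : Q := act 2 n47414
theorem D49629 : act 2 n47414 = n49629 := rfl
theorem F222329 : act 0 n49629 = n48026 := d1_1 D49629 F215047 (iv F212208)
theorem F222330 : act 1 n49629 = n47745 := d9_1 D49629 F213770 F186661 (iv F203812) (iv F212209)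
theorem F222331 : act 3 n49629 = n49629 := d17_2 D47414 D49629 (iv D49629) (iv D47414) F178961
theorem F222332 : act 4 n49629 = n47744 := d18_2 F219425 D49629 (iv F219423)
theorem F222333 : act 6 n49629 = n47416 := d20_2 (iv F212210) D49629 (iv D47416)
theorem F222334 : act 8 n49629 = n47884 := d22_2 (iv F212211) D49629 F214431
def n49630 : Q := act 9 n47414
theorem D49630 : act 9 n47414 = n49630 := rfl
theorem F222335 : act 0 n49630 = n48031 := d8_1 D49630 (iv D48031) (iv F212208)
theorem F222336 : act 1 n49630 = n47426 := d16_1 D49630 (iv D47426) (iv F212209)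
theorem F222337 : act 3 n49630 = n47415 := d29_1 D49630 (iv D47415) D47414
theorem F222338 : act 6 n49630 = n47417 := d41_1 D49630 (iv D47417) (iv F212210)
def n49631 : Q := act 9 n47416
theorem D49631 : act 9 n47416 = n49631 := rfl
theorem F222339 : act 0 n49631 = n48027 := d8_1 D49631 (iv D48027) (iv F212218)
theorem F222340 : act 1 n49631 = n47666 := d16_1 D49631 F213309 (iv F212219)
theorem F222341 : act 2 n49631 = n47417 := d23_1 D49631 (iv D47417) D47416
theorem F222342 : act 3 n49631 = n49631 := d29_1 D49631 (iv D49631) F212220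
theorem F222343 : act 4 n49631 = n47665 := d34_1 D49631 F213304 (iv F212221)
theorem F222344 : act 5 n49631 = n47947 := d38_1 D49631 (iv D47947) (iv F212222)
theorem F222345 : act 7 n49631 = n49631 := d43_1 D49631 (iv D49631) F212223
def n49632 : Q := act 8 n47417
theorem D49632 : act 8 n47417 = n49632 := rfl
theorem F222346 : act 0 n49632 = n48032 := d7_1 D49632 (iv D48032) (iv F212225)
theorem F222347 : act 1 n49632 = n47428 := d15_1 D49632 (iv D47428) (iv F212226)
theorem F222348 : act 3 n49632 = n47516 := d28_1 D49632 (iv D47516) F179442 (iv F178972) (iv F212227)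
theorem F222349 : act 5 n49632 = n47949 := d37_1 D49632 (iv D47949) (iv F212228)
theorem F222350 : act 7 n49632 = n49632 := d42_1 D49632 (iv D49632) F212229
theorem F222351 : act 9 n49632 = n48368 := d44_2 D47417 D49632 (iv D48368) (iv D45586) (iv F203063)
def n49633 : Q := act 8 n47419
theorem D49633 : act 8 n47419 = n49633 := rfl
theorem F222352 : act 0 n49633 = n47449 := d7_1 D49633 (iv D47449) (iv F212236)
theorem F222353 : act 2 n49633 = n47435 := d22_1 D49633 (iv D47435) (iv F212237)
theorem F222354 : act 5 n49633 = n49633 := d37_1 D49633 (iv D49633) F212239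
theorem F222355 : act 6 n49633 = n47420 := d40_1 D49633 (iv D47420) D47419
theorem F222356 : act 7 n49633 = n48322 := d42_1 D49633 (iv D48322) (iv F212240)
def n49634 : Q := act 3 n47420
theorem D49634 : act 3 n47420 = n49634 := rfl
theorem F222357 : act 0 n49634 = n47450 := d2_1 D49634 (iv D47450) (iv F212242)
theorem F222358 : act 2 n49634 = n48333 := d17_1 D49634 (iv D48333) F189687 (iv F204155) (iv F212243)
theorem F222359 : act 5 n49634 = n47423 := d25_2 (iv F212244) D49634 (iv D47423)
theorem F222360 : act 7 n49634 = n47421 := d27_2 (iv F212245) D49634 (iv D47421)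
theorem F222361 : act 8 n49634 = n48345 := d28_2 D47420 D49634 F216125 F189847 (iv F203611)
def n49635 : Q := act 9 n47420
theorem D49635 : act 9 n47420 = n49635 := rfl
theorem F222362 : act 0 n49635 = n47451 := d8_1 D49635 (iv D47451) (iv F212242)
theorem F222363 : act 2 n49635 = n47436 := d23_1 D49635 (iv D47436) (iv F212243)
theorem F222364 : act 5 n49635 = n47424 := d38_1 D49635 (iv D47424) (iv F212244)
theorem F222365 : act 7 n49635 = n47422 := d43_1 D49635 (iv D47422) (iv F212245)
theorem F222366 : act 8 n49635 = n47531 := d44_1 D49635 (iv D47531) (iv D42986) (iv F179041) D47420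
def n49636 : Q := act 4 n47421
theorem D49636 : act 4 n47421 = n49636 := rfl
theorem F222367 : act 0 n49636 = n47453 := d3_1 D49636 (iv D47453) (iv F212246)
theorem F222368 : act 2 n49636 = n48335 := d18_1 D49636 (iv D48335) (iv F212247)
theorem F222369 : act 6 n49636 = n48325 := d31_2 (iv F212249) D49636 (iv D48325)
theorem F222370 : act 8 n49636 = n48349 := d33_2 (iv F212250) D49636 (iv D48349)
def n49637 : Q := act 9 n47421
theorem D49637 : act 9 n47421 = n49637 := rfl
theorem F222371 : act 0 n49637 = n47454 := d8_1 D49637 (iv D47454) (iv F212246)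
theorem F222372 : act 2 n49637 = n48336 := d23_1 D49637 (iv D48336) (iv F212247)
theorem F222373 : act 3 n49637 = n47422 := d29_1 D49637 (iv D47422) D47421
theorem F222374 : act 5 n49637 = n47426 := d38_1 D49637 (iv D47426) (iv F212248)
theorem F222375 : act 6 n49637 = n48326 := d41_1 D49637 (iv D48326) (iv F212249)
def n49638 : Q := act 4 n47423
theorem D49638 : act 4 n47423 = n49638 := rfl
theorem F222376 : act 0 n49638 = n47456 := d3_1 D49638 (iv D47456) (iv F212256)
theorem F222377 : act 2 n49638 = n48337 := d18_1 D49638 (iv D48337) (iv F212257)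
theorem F222378 : act 3 n49638 = n47429 := d24_1 D49638 (iv D47429) (iv D42854) (iv F179048) D47423
theorem F222379 : act 6 n49638 = n49638 := d31_2 F212258 D49638 (iv D49638)
theorem F222380 : act 7 n49638 = n47425 := d32_2 (iv F212259) D49638 (iv D47425)
theorem F222381 : act 8 n49638 = n48355 := d33_2 (iv F212260) D49638 (iv D48355)
def n49639 : Q := act 9 n47423
theorem D49639 : act 9 n47423 = n49639 := rfl
theorem F222382 : act 0 n49639 = n47457 := d8_1 D49639 (iv D47457) (iv F212256)
theorem F222383 : act 2 n49639 = n48338 := d23_1 D49639 (iv D48338) (iv F212257)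
theorem F222384 : act 3 n49639 = n47424 := d29_1 D49639 (iv D47424) D47423
theorem F222385 : act 6 n49639 = n49639 := d41_1 D49639 (iv D49639) F212258
theorem F222386 : act 7 n49639 = n47426 := d43_1 D49639 (iv D47426) (iv F212259)
def n49640 : Q := act 5 n47425
theorem D49640 : act 5 n47425 = n49640 := rfl
theorem F222387 : act 0 n49640 = n47461 := d4_1 D49640 (iv D47461) (iv F212267)
theorem F222388 : act 2 n49640 = n48339 := d19_1 D49640 (iv D48339) (iv F212268)
theorem F222389 : act 3 n49640 = n47431 := d25_1 D49640 (iv D47431) (iv F212269)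
theorem F222390 : act 8 n49640 = n48362 := d37_2 (iv F212271) D49640 (iv D48362)
def n49641 : Q := act 9 n47425
theorem D49641 : act 9 n47425 = n49641 := rfl
theorem F222391 : act 0 n49641 = n47462 := d8_1 D49641 (iv D47462) (iv F212267)
theorem F222392 : act 2 n49641 = n48340 := d23_1 D49641 (iv D48340) (iv F212268)
theorem F222393 : act 3 n49641 = n47432 := d29_1 D49641 (iv D47432) (iv F212269)
theorem F222394 : act 4 n49641 = n47426 := d34_1 D49641 (iv D47426) D47425
theorem F222395 : act 6 n49641 = n47427 := d41_1 D49641 (iv D47427) (iv F212270)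
def n49642 : Q := act 8 n47426
theorem D49642 : act 8 n47426 = n49642 := rfl
theorem F222396 : act 0 n49642 = n47463 := d7_1 D49642 (iv D47463) (iv F212272)
theorem F222397 : act 2 n49642 = n48341 := d22_1 D49642 (iv D48341) (iv F212273)
theorem F222398 : act 3 n49642 = n47543 := d28_1 D49642 (iv D47543) F179577 (iv F179057) (iv F212274)
theorem F222399 : act 6 n49642 = n47428 := d40_1 D49642 (iv D47428) (iv F212275)
theorem F222400 : act 9 n49642 = n48364 := d44_2 D47426 D49642 (iv D48364) (iv D45580) (iv F203813)
def n49643 : Q := act 8 n47427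
theorem D49643 : act 8 n47427 = n49643 := rfl
theorem F222401 : act 0 n49643 = n47469 := d7_1 D49643 (iv D47469) (iv F212276)
theorem F222402 : act 2 n49643 = n48342 := d22_1 D49643 (iv D48342) (iv F212277)
theorem F222403 : act 4 n49643 = n47428 := d33_1 D49643 (iv D47428) (iv F212279)
theorem F222404 : act 7 n49643 = n49643 := d42_1 D49643 (iv D49643) F212280
theorem F222405 : act 9 n49643 = n48369 := d44_2 D47427 D49643 (iv D48369) (iv D45588) (iv F203815)
def n49644 : Q := act 9 n47429
theorem D49644 : act 9 n47429 = n49644 := rfl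
theorem F222406 : act 0 n49644 = n47471 := d8_1 D49644 (iv D47471) (iv F212287)
theorem F222407 : act 2 n49644 = n48739 := d23_1 D49644 (iv D48739) (iv F212288)
theorem F222408 : act 4 n49644 = n47430 := d34_1 D49644 (iv D47430) D47429
theorem F222409 : act 6 n49644 = n49644 := d41_1 D49644 (iv D49644) F212289
theorem F222410 : act 7 n49644 = n47432 := d43_1 D49644 (iv D47432) (iv F212290)
def n49645 : Q := act 8 n47430
theorem D49645 : act 8 n47430 = n49645 := rfl
theorem F222411 : act 0 n49645 = n47472 := d7_1 D49645 (iv D47472) (iv F212292)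
theorem F222412 : act 3 n49645 = n47550 := d28_1 D49645 (iv D47550) F179609 (iv F179077) (iv F212293)
theorem F222413 : act 6 n49645 = n49645 := d40_1 D49645 (iv D49645) F212294
theorem F222414 : act 7 n49645 = n47433 := d42_1 D49645 (iv D47433) (iv F212295)
theorem F222415 : act 9 n49645 = n49645 := d44_2 D47430 D49645 (iv D49645) (iv D47430) F179072
def n49646 : Q := act 9 n47431
theorem D49646 : act 9 n47431 = n49646 := rfl
theorem F222416 : act 0 n49646 = n47474 := d8_1 D49646 (iv D47474) (iv F212296)
theorem F222417 : act 5 n49646 = n47432 := d38_1 D49646 (iv D47432) D47431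
def n49647 : Q := act 8 n47432
theorem D49647 : act 8 n47432 = n49647 := rfl
theorem F222418 : act 0 n49647 = n47475 := d7_1 D49647 (iv D47475) (iv F212298)
theorem F222419 : act 4 n49647 = n47433 := d33_1 D49647 (iv D47433) (iv F212299)
theorem F222420 : act 6 n49647 = n47434 := d40_1 D49647 (iv D47434) (iv F212300)
theorem F222421 : act 9 n49647 = n49647 := d44_2 D47432 D49647 (iv D49647) (iv D47432) F179080
def n49648 : Q := act 3 n47434
theorem D49648 : act 3 n47434 = n49648 := rfl
theorem F222422 : act 0 n49648 = n47479 := d2_1 D49648 (iv D47479) (iv F212305)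
theorem F222423 : act 4 n49648 = n47553 := d24_2 (iv F212306) D49648 (iv D47553) F179634 (iv F179092)
theorem F222424 : act 7 n49648 = n49648 := d27_2 F212307 D49648 (iv D49648)
theorem F222425 : act 9 n49648 = n49648 := d29_2 F212308 D49648 (iv D49648)
def n49649 : Q := act 9 n47435
theorem D49649 : act 9 n47435 = n49649 := rfl
theorem F222426 : act 0 n49649 = n47483 := d8_1 D49649 (iv D47483) (iv F212309)
theorem F222427 : act 1 n49649 = n49649 := d16_1 D49649 (iv D49649) F212310
theorem F222428 : act 3 n49649 = n48548 := d29_1 D49649 (iv D48548) (iv F212311)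
theorem F222429 : act 5 n49649 = n49649 := d38_1 D49649 (iv D49649) F212312
theorem F222430 : act 6 n49649 = n47436 := d41_1 D49649 (iv D47436) (iv F212313)
theorem F222431 : act 7 n49649 = n48329 := d43_1 D49649 (iv D48329) (iv F212314)
theorem F222432 : act 8 n49649 = n47555 := d44_1 D49649 (iv D47555) (iv D43012) (iv F179112) D47435
def n49650 : Q := act 8 n47437
theorem D49650 : act 8 n47437 = n49650 := rfl
theorem F222433 : act 0 n49650 = n48375 := d7_1 D49650 F216218 (iv F212321)
theorem F222434 : act 2 n49650 = n47689 := d22_1 D49650 (iv D47689) (iv F212322)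
theorem F222435 : act 4 n49650 = n47440 := d33_1 D49650 (iv D47440) (iv F212323)
theorem F222436 : act 5 n49650 = n49650 := d37_1 D49650 (iv D49650) F212324
theorem F222437 : act 7 n49650 = n47438 := d42_1 D49650 (iv D47438) D47437
def n49651 : Q := act 3 n47438
theorem D49651 : act 3 n47438 = n49651 := rfl
theorem F222438 : act 0 n49651 = n48381 := d2_1 D49651 (iv D48381) (iv F212326)
theorem F222439 : act 5 n49651 = n49651 := d25_2 F212329 D49651 (iv D49651)
theorem F222440 : act 6 n49651 = n48330 := d26_2 (iv F212330) D49651 (iv D48330)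
def n49652 : Q := act 9 n47438
theorem D49652 : act 9 n47438 = n49652 := rfl
theorem F222441 : act 0 n49652 = n48382 := d8_1 D49652 (iv D48382) (iv F212326)
theorem F222442 : act 2 n49652 = n47691 := d23_1 D49652 (iv D47691) (iv F212327)
theorem F222443 : act 4 n49652 = n47442 := d34_1 D49652 (iv D47442) (iv F212328)
theorem F222444 : act 5 n49652 = n49652 := d38_1 D49652 (iv D49652) F212329
theorem F222445 : act 6 n49652 = n48331 := d41_1 D49652 (iv D48331) (iv F212330)
theorem F222446 : act 8 n49652 = n47570 := d44_1 D49652 (iv D47570) (iv D43027) (iv F179162) D47438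
def n49653 : Q := act 8 n47439
theorem D49653 : act 8 n47439 = n49653 := rfl
theorem F222447 : act 0 n49653 = n48372 := d7_1 D49653 F216206 (iv F212331)
theorem F222448 : act 2 n49653 = n47692 := d22_1 D49653 (iv D47692) (iv F212332)
theorem F222449 : act 5 n49653 = n49653 := d37_1 D49653 (iv D49653) F212334
theorem F222450 : act 6 n49653 = n47440 := d40_1 D49653 (iv D47440) D47439
theorem F222451 : act 7 n49653 = n48332 := d42_1 D49653 (iv D48332) (iv F212335)
def n49654 : Q := act 3 n47440
theorem D49654 : act 3 n47440 = n49654 := rfl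
theorem F222452 : act 0 n49654 = n48345 := d2_1 D49654 F216125 (iv F212337)
theorem F222453 : act 2 n49654 = n48323 := d17_1 D49654 (iv D48323) F189513 (iv F204132) (iv F212338)
theorem F222454 : act 5 n49654 = n47443 := d25_2 (iv F212339) D49654 (iv D47443)
theorem F222455 : act 7 n49654 = n47441 := d27_2 (iv F212340) D49654 (iv D47441)
theorem F222456 : act 8 n49654 = n47450 := d28_2 D47440 D49654 (iv D47450) (iv D42885) (iv F179164)
def n49655 : Q := act 9 n47440
theorem D49655 : act 9 n47440 = n49655 := rfl
theorem F222457 : act 0 n49655 = n48376 := d8_1 D49655 (iv D48376) (iv F212337)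
theorem F222458 : act 2 n49655 = n47693 := d23_1 D49655 (iv D47693) (iv F212338)
theorem F222459 : act 5 n49655 = n47444 := d38_1 D49655 (iv D47444) (iv F212339)
theorem F222460 : act 7 n49655 = n47442 := d43_1 D49655 (iv D47442) (iv F212340)
theorem F222461 : act 8 n49655 = n47573 := d44_1 D49655 (iv D47573) (iv D43029) (iv F179166) D47440
def n49656 : Q := act 4 n47441
theorem D49656 : act 4 n47441 = n49656 := rfl
theorem F222462 : act 0 n49656 = n48349 := d3_1 D49656 (iv D48349) (iv F212341)
theorem F222463 : act 2 n49656 = n48325 := d18_1 D49656 (iv D48325) (iv F212342)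
theorem F222464 : act 6 n49656 = n48335 := d31_2 (iv F212344) D49656 (iv D48335)
theorem F222465 : act 8 n49656 = n47453 := d33_2 (iv F212345) D49656 (iv D47453)
def n49657 : Q := act 9 n47441
theorem D49657 : act 9 n47441 = n49657 := rfl
theorem F222466 : act 0 n49657 = n48350 := d8_1 D49657 (iv D48350) (iv F212341)
theorem F222467 : act 2 n49657 = n48326 := d23_1 D49657 (iv D48326) (iv F212342)
theorem F222468 : act 3 n49657 = n47442 := d29_1 D49657 (iv D47442) D47441
theorem F222469 : act 5 n49657 = n47446 := d38_1 D49657 (iv D47446) (iv F212343)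
theorem F222470 : act 6 n49657 = n48336 := d41_1 D49657 (iv D48336) (iv F212344)
def n49658 : Q := act 4 n47443
theorem D49658 : act 4 n47443 = n49658 := rfl
theorem F222471 : act 0 n49658 = n48355 := d3_1 D49658 (iv D48355) (iv F212351)
theorem F222472 : act 2 n49658 = n47919 := d18_1 D49658 F214601 (iv F212352)
theorem F222473 : act 3 n49658 = n49658 := d24_1 D49658 (iv D49658) (iv D47443) F179171 D47443
theorem F222474 : act 6 n49658 = n49658 := d31_2 F212353 D49658 (iv D49658)
theorem F222475 : act 7 n49658 = n47445 := d32_2 (iv F212354) D49658 (iv D47445)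
theorem F222476 : act 8 n49658 = n47456 := d33_2 (iv F212355) D49658 (iv D47456)
def n49659 : Q := act 9 n47443
theorem D49659 : act 9 n47443 = n49659 := rfl
theorem F222477 : act 0 n49659 = n48356 := d8_1 D49659 (iv D48356) (iv F212351)
theorem F222478 : act 2 n49659 = n48327 := d23_1 D49659 (iv D48327) (iv F212352)
theorem F222479 : act 3 n49659 = n47444 := d29_1 D49659 (iv D47444) D47443
theorem F222480 : act 6 n49659 = n49659 := d41_1 D49659 (iv D49659) F212353
theorem F222481 : act 7 n49659 = n47446 := d43_1 D49659 (iv D47446) (iv F212354)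
def n49660 : Q := act 5 n47445
theorem D49660 : act 5 n47445 = n49660 := rfl
theorem F222482 : act 0 n49660 = n48362 := d4_1 D49660 (iv D48362) (iv F212362)
theorem F222483 : act 2 n49660 = n47917 := d19_1 D49660 F214593 (iv F212363)
theorem F222484 : act 3 n49660 = n49660 := d25_1 D49660 (iv D49660) F212364
theorem F222485 : act 8 n49660 = n47461 := d37_2 (iv F212366) D49660 (iv D47461)
def n49661 : Q := act 9 n47445
theorem D49661 : act 9 n47445 = n49661 := rfl
theorem F222486 : act 0 n49661 = n48363 := d8_1 D49661 (iv D48363) (iv F212362)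
theorem F222487 : act 2 n49661 = n47921 := d23_1 D49661 (iv D47921) (iv F212363)
theorem F222488 : act 3 n49661 = n49661 := d29_1 D49661 (iv D49661) F212364
theorem F222489 : act 4 n49661 = n47446 := d34_1 D49661 (iv D47446) D47445
theorem F222490 : act 6 n49661 = n47447 := d41_1 D49661 (iv D47447) (iv F212365)
def n49662 : Q := act 8 n47446
theorem D49662 : act 8 n47446 = n49662 := rfl
theorem F222491 : act 0 n49662 = n48364 := d7_1 D49662 (iv D48364) (iv F212367)
theorem F222492 : act 2 n49662 = n48328 := d22_1 D49662 (iv D48328) (iv F212368)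
theorem F222493 : act 3 n49662 = n47585 := d28_1 D49662 (iv D47585) F179757 (iv F179179) (iv F212369)
theorem F222494 : act 6 n49662 = n47448 := d40_1 D49662 (iv D47448) (iv F212370)
theorem F222495 : act 9 n49662 = n47463 := d44_2 D47446 D49662 (iv D47463) (iv D42892) (iv F179175)
def n49663 : Q := act 8 n47447
theorem D49663 : act 8 n47447 = n49663 := rfl
theorem F222496 : act 0 n49663 = n48369 := d7_1 D49663 (iv D48369) (iv F212371)
theorem F222497 : act 2 n49663 = n47922 := d22_1 D49663 (iv D47922) (iv F212372)
theorem F222498 : act 4 n49663 = n47448 := d33_1 D49663 (iv D47448) (iv F212374)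
theorem F222499 : act 7 n49663 = n49663 := d42_1 D49663 (iv D49663) F212375
theorem F222500 : act 9 n49663 = n47469 := d44_2 D47447 D49663 (iv D47469) (iv D42897) (iv F179186)
def n49664 : Q := act 3 n47449
theorem D49664 : act 3 n47449 = n49664 := rfl
theorem F222501 : act 5 n49664 = n49664 := d25_2 F212383 D49664 (iv D49664)
theorem F222502 : act 6 n49664 = n47450 := d26_2 (iv F212384) D49664 (iv D47450)
theorem F222503 : act 7 n49664 = n48343 := d27_2 (iv F212385) D49664 (iv D48343)
def n49665 : Q := act 9 n47449
theorem D49665 : act 9 n47449 = n49665 := rfl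
theorem F222504 : act 2 n49665 = n47483 := d23_1 D49665 (iv D47483) (iv F212382)
theorem F222505 : act 5 n49665 = n49665 := d38_1 D49665 (iv D49665) F212383
theorem F222506 : act 6 n49665 = n47451 := d41_1 D49665 (iv D47451) (iv F212384)
theorem F222507 : act 7 n49665 = n48344 := d43_1 D49665 (iv D48344) (iv F212385)
theorem F222508 : act 8 n49665 = n47594 := d44_1 D49665 (iv D47594) (iv D43043) (iv F179193) D47449
def n49666 : Q := act 2 n47450
theorem D49666 : act 2 n47450 = n49666 := rfl
theorem F222509 : act 0 n49666 = n48333 := d1_1 D49666 (iv F222358) F222357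
theorem F222510 : act 3 n49666 = n47484 := d17_2 D47450 D49666 (iv D47484) (iv D42912) (iv F179194)
theorem F222511 : act 5 n49666 = n47455 := d19_2 (iv F212386) D49666 (iv D47455)
theorem F222512 : act 7 n49666 = n47452 := d21_2 (iv F212387) D49666 (iv D47452)
theorem F222513 : act 8 n49666 = n48323 := d22_2 F222456 D49666 (iv F222453)
theorem F222514 : act 1 n49666 = n48396 := d46_5 D42578 (iv F211303) F211302 D47450 D49666 F216307 (iv F214984) (iv D48009) (iv D44891) (iv D30775) F91034 F63733 F44778 (iv D10008) (iv F44774) (iv F63293) (iv F89690) F89689 (iv F128409) (iv F197072) (iv F208148) F208146 F174949 F122006 F122005 F85328 F59813 (iv F205470) F44066 (iv F62696) F62695 F44383 (iv F45025) (iv F64077) D21273 (iv F131298) F131297 (iv F203946) (iv F179167) (iv F209051) F209050 F207687 F145928 F101801 F101800 F71182 F50852 F203686 D19899 (iv F122874) (iv F175619) D46687 D48856 F218313 (iv F221668) (iv D49474) (iv F220510) F220509 F220508 F211116 F211115 F177889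
def n49667 : Q := act 4 n47450
theorem D49667 : act 4 n47450 = n49667 := rfl
theorem F222515 : act 7 n49667 = n47453 := d32_2 (iv F212387) D49667 (iv D47453)
def n49668 : Q := act 9 n47450
theorem D49668 : act 9 n47450 = n49668 := rfl
theorem F222516 : act 3 n49668 = n47451 := d29_1 D49668 (iv D47451) D47450
theorem F222517 : act 5 n49668 = n47457 := d38_1 D49668 (iv D47457) (iv F212386)
theorem F222518 : act 7 n49668 = n47454 := d43_1 D49668 (iv D47454) (iv F212387)
def n49669 : Q := act 1 n47452
theorem D49669 : act 1 n47452 = n49669 := rfl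
theorem F222519 : act 0 n49669 = n47985 := d0_1 D49669 F214897 (iv F214367) F214368 (iv F212392)
theorem F222520 : act 3 n49669 = n47487 := d10_2 (iv F212393) D49669 (iv D47487)
theorem F222521 : act 5 n49669 = n47458 := d12_2 (iv F212394) D49669 (iv D47458)
theorem F222522 : act 6 n49669 = n48348 := d13_2 (iv F212395) D49669 (iv D48348)
theorem F222523 : act 7 n49669 = n48396 := d14_2 F222512 D49669 (iv F222514)
theorem F222524 : act 8 n49669 = n47943 := d15_2 (iv F212396) D49669 F214701
def n49670 : Q := act 4 n47452
theorem D49670 : act 4 n47452 = n49670 := rfl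
theorem F222525 : act 0 n49670 = n48335 := d3_1 D49670 (iv D48335) (iv F212392)
theorem F222526 : act 2 n49670 = n47453 := d18_1 D49670 (iv D47453) D47452
theorem F222527 : act 6 n49670 = n48349 := d31_2 (iv F212395) D49670 (iv D48349)
theorem F222528 : act 8 n49670 = n48325 := d33_2 (iv F212396) D49670 (iv D48325)
def n49671 : Q := act 9 n47452
theorem D49671 : act 9 n47452 = n49671 := rfl
theorem F222529 : act 0 n49671 = n48336 := d8_1 D49671 (iv D48336) (iv F212392)
theorem F222530 : act 2 n49671 = n47454 := d23_1 D49671 (iv D47454) D47452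
theorem F222531 : act 3 n49671 = n47489 := d29_1 D49671 (iv D47489) (iv F212393)
theorem F222532 : act 5 n49671 = n47460 := d38_1 D49671 (iv D47460) (iv F212394)
theorem F222533 : act 6 n49671 = n48350 := d41_1 D49671 (iv D48350) (iv F212395)
def n49672 : Q := act 5 n47453
theorem D49672 : act 5 n47453 = n49672 := rfl
theorem F222534 : act 4 n49672 = n47461 := d30_1 D49672 (iv D47461) (iv D42891) (iv F179197) D47453
def n49673 : Q := act 9 n47453
theorem D49673 : act 9 n47453 = n49673 := rfl
theorem F222535 : act 4 n49673 = n47454 := d34_1 D49673 (iv D47454) D47453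
theorem F222536 : act 6 n49673 = n48352 := d41_1 D49673 (iv D48352) (iv F212397)
def n49674 : Q := act 8 n47454
theorem D49674 : act 8 n47454 = n49674 := rfl
theorem F222537 : act 3 n49674 = n47603 := d28_1 D49674 (iv D47603) F179793 (iv F179202) (iv F212398)
theorem F222538 : act 5 n49674 = n47463 := d37_1 D49674 (iv D47463) (iv F212399)
theorem F222539 : act 6 n49674 = n48353 := d40_1 D49674 (iv D48353) (iv F212400)
def n49675 : Q := act 9 n47455
theorem D49675 : act 9 n47455 = n49675 := rfl
theorem F222540 : act 0 n49675 = n48338 := d8_1 D49675 (iv D48338) (iv F212401)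
theorem F222541 : act 1 n49675 = n48732 := d16_1 D49675 (iv D48732) F212406
theorem F222542 : act 2 n49675 = n47457 := d23_1 D49675 (iv D47457) D47455
theorem F222543 : act 3 n49675 = n47491 := d29_1 D49675 (iv D47491) (iv F212402)
theorem F222544 : act 4 n49675 = n48730 := d34_1 D49675 (iv D48730) F212407
theorem F222545 : act 6 n49675 = n49675 := d41_1 D49675 (iv D49675) F212403
theorem F222546 : act 7 n49675 = n47460 := d43_1 D49675 (iv D47460) (iv F212404)
def n49676 : Q := act 5 n47456
theorem D49676 : act 5 n47456 = n49676 := rfl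
theorem F222547 : act 2 n49676 = n48330 := d19_1 D49676 F216078 (iv F212408)
theorem F222548 : act 3 n49676 = n47470 := d25_1 D49676 (iv D47470) (iv F212409)
theorem F222549 : act 7 n49676 = n47461 := d36_2 (iv F212411) D49676 (iv D47461)
def n49677 : Q := act 9 n47456
theorem D49677 : act 9 n47456 = n49677 := rfl
theorem F222550 : act 2 n49677 = n48730 := d23_1 D49677 (iv D48730) (iv F212408)
theorem F222551 : act 3 n49677 = n47471 := d29_1 D49677 (iv D47471) (iv F212409)
theorem F222552 : act 4 n49677 = n47457 := d34_1 D49677 (iv D47457) D47456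
theorem F222553 : act 6 n49677 = n49677 := d41_1 D49677 (iv D49677) F212410
theorem F222554 : act 7 n49677 = n47462 := d43_1 D49677 (iv D47462) (iv F212411)
def n49678 : Q := act 8 n47457
theorem D49678 : act 8 n47457 = n49678 := rfl
theorem F222555 : act 3 n49678 = n47609 := d28_1 D49678 (iv D47609) F179802 (iv F179209) (iv F212412)
theorem F222556 : act 6 n49678 = n49678 := d40_1 D49678 (iv D49678) F212413
theorem F222557 : act 7 n49678 = n47463 := d42_1 D49678 (iv D47463) (iv F212414)
def n49679 : Q := act 9 n47458
theorem D49679 : act 9 n47458 = n49679 := rfl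
theorem F222558 : act 0 n49679 = n47986 := d8_1 D49679 (iv D47986) (iv F212415)
theorem F222559 : act 1 n49679 = n47460 := d16_1 D49679 (iv D47460) D47458
theorem F222560 : act 3 n49679 = n47492 := d29_1 D49679 (iv D47492) (iv F212416)
theorem F222561 : act 4 n49679 = n47928 := d34_1 D49679 (iv D47928) F212420
theorem F222562 : act 6 n49679 = n47464 := d41_1 D49679 (iv D47464) (iv F212417)
theorem F222563 : act 7 n49679 = n48732 := d43_1 D49679 (iv D48732) (iv F212418)
def n49680 : Q := act 5 n47459
theorem D49680 : act 5 n47459 = n49680 := rfl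
theorem F222564 : act 0 n49680 = n48339 := d4_1 D49680 (iv D48339) (iv F212421)
theorem F222565 : act 1 n49680 = n47923 := d12_1 D49680 F214623 (iv F212422)
theorem F222566 : act 2 n49680 = n47461 := d19_1 D49680 (iv D47461) (iv F212423)
theorem F222567 : act 3 n49680 = n47914 := d25_1 D49680 F214576 (iv F212424)
theorem F222568 : act 7 n49680 = n48330 := d36_2 (iv F212426) D49680 F216078
theorem F222569 : act 8 n49680 = n47917 := d37_2 (iv F212427) D49680 F214593
def n49681 : Q := act 9 n47459
theorem D49681 : act 9 n47459 = n49681 := rfl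
theorem F222570 : act 0 n49681 = n48340 := d8_1 D49681 (iv D48340) (iv F212421)
theorem F222571 : act 1 n49681 = n47928 := d16_1 D49681 (iv D47928) (iv F212422)
theorem F222572 : act 2 n49681 = n47462 := d23_1 D49681 (iv D47462) (iv F212423)
theorem F222573 : act 3 n49681 = n47915 := d29_1 D49681 (iv D47915) (iv F212424)
theorem F222574 : act 4 n49681 = n47460 := d34_1 D49681 (iv D47460) D47459
theorem F222575 : act 6 n49681 = n47465 := d41_1 D49681 (iv D47465) (iv F212425)
theorem F222576 : act 7 n49681 = n48730 := d43_1 D49681 (iv D48730) (iv F212426)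
def n49682 : Q := act 8 n47460
theorem D49682 : act 8 n47460 = n49682 := rfl
theorem F222577 : act 0 n49682 = n48341 := d7_1 D49682 (iv D48341) (iv F212428)
theorem F222578 : act 2 n49682 = n47463 := d22_1 D49682 (iv D47463) (iv F212429)
theorem F222579 : act 3 n49682 = n48403 := d28_1 D49682 (iv D48403) F190230 (iv F203610) (iv F212430)
theorem F222580 : act 6 n49682 = n47466 := d40_1 D49682 (iv D47466) (iv F212431)
theorem F222581 : act 9 n49682 = n48328 := d44_2 D47460 D49682 (iv D48328) (iv D45519) (iv F203607)
def n49683 : Q := act 6 n47461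
theorem D49683 : act 6 n47461 = n49683 := rfl
theorem F222582 : act 1 n49683 = n47541 := d13_1 D49683 (iv F218895) F218893
theorem F222583 : act 3 n49683 = n47473 := d26_1 D49683 (iv D47473) (iv F212432)
theorem F222584 : act 5 n49683 = n47467 := d35_1 D49683 (iv D47467) (iv D42896) (iv F179213) D47461
def n49684 : Q := act 9 n47461
theorem D49684 : act 9 n47461 = n49684 := rfl
theorem F222585 : act 3 n49684 = n47474 := d29_1 D49684 (iv D47474) (iv F212432)
theorem F222586 : act 5 n49684 = n47462 := d38_1 D49684 (iv D47462) D47461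
def n49685 : Q := act 8 n47462
theorem D49685 : act 8 n47462 = n49685 := rfl
theorem F222587 : act 4 n49685 = n47463 := d33_1 D49685 (iv D47463) (iv F212434)
theorem F222588 : act 6 n49685 = n47469 := d40_1 D49685 (iv D47469) (iv F212435)
def n49686 : Q := act 8 n47464
theorem D49686 : act 8 n47464 = n49686 := rfl
theorem F222589 : act 0 n49686 = n47994 := d7_1 D49686 (iv D47994) (iv F212438)
theorem F222590 : act 1 n49686 = n47466 := d15_1 D49686 (iv D47466) (iv F212439)
theorem F222591 : act 3 n49686 = n48342 := d28_1 D49686 (iv D48342) F203859 (iv F203073) (iv F212440)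
theorem F222592 : act 4 n49686 = n47930 := d33_1 D49686 (iv D47930) (iv F212441)
theorem F222593 : act 5 n49686 = n48368 := d37_1 D49686 (iv D48368) (iv F212442)
theorem F222594 : act 7 n49686 = n49686 := d42_1 D49686 (iv D49686) F212443
theorem F222595 : act 9 n49686 = n47949 := d44_2 D47464 D49686 (iv D47949) (iv D44839) (iv F203072)
def n49687 : Q := act 8 n47465
theorem D49687 : act 8 n47465 = n49687 := rfl
theorem F222596 : act 0 n49687 = n48342 := d7_1 D49687 (iv D48342) (iv F212444)
theorem F222597 : act 1 n49687 = n47930 := d15_1 D49687 (iv D47930) (iv F212445)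
theorem F222598 : act 2 n49687 = n47469 := d22_1 D49687 (iv D47469) (iv F212446)
theorem F222599 : act 3 n49687 = n47994 := d28_1 D49687 (iv D47994) F187277 F206782 (iv F212447)
theorem F222600 : act 4 n49687 = n47466 := d33_1 D49687 (iv D47466) (iv F212448)
theorem F222601 : act 7 n49687 = n49687 := d42_1 D49687 (iv D49687) F212449
theorem F222602 : act 9 n49687 = n47922 := d44_2 D47465 D49687 (iv D47922) (iv D44799) (iv F203475)
def n49688 : Q := act 7 n47467
theorem D49688 : act 7 n47467 = n49688 := rfl
theorem F222603 : act 0 n49688 = n48623 := d6_1 D49688 (iv F219233) F219228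
theorem F222604 : act 1 n49688 = n47536 := d14_1 D49688 F212799 (iv F212456)
theorem F222605 : act 3 n49688 = n47476 := d27_1 D49688 (iv D47476) (iv F212457)
theorem F222606 : act 4 n49688 = n47511 := d32_1 D49688 F212684 (iv F212458)
theorem F222607 : act 6 n49688 = n49688 := d39_1 D49688 (iv D49688) (iv D47467) F179227 D47467
def n49689 : Q := act 9 n47467
theorem D49689 : act 9 n47467 = n49689 := rfl
theorem F222608 : act 1 n49689 = n47542 := d16_1 D49689 (iv D47542) (iv F212456)
theorem F222609 : act 3 n49689 = n47477 := d29_1 D49689 (iv D47477) (iv F212457)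
theorem F222610 : act 4 n49689 = n47514 := d34_1 D49689 (iv D47514) (iv F212458)
theorem F222611 : act 6 n49689 = n47468 := d41_1 D49689 (iv D47468) D47467
def n49690 : Q := act 8 n47468
theorem D49690 : act 8 n47468 = n49690 := rfl
theorem F222612 : act 1 n49690 = n47547 := d15_1 D49690 (iv D47547) (iv F212459)
theorem F222613 : act 4 n49690 = n47516 := d33_1 D49690 (iv D47516) (iv F212461)
theorem F222614 : act 5 n49690 = n47469 := d37_1 D49690 (iv D47469) (iv F212462)
theorem F222615 : act 7 n49690 = n49690 := d42_1 D49690 (iv D49690) F212463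
def n49691 : Q := act 3 n47469
theorem D49691 : act 3 n47469 = n49691 := rfl
theorem F222616 : act 4 n49691 = n47630 := d24_2 (iv F212464) D49691 (iv D47630) F179845 (iv F179231)
theorem F222617 : act 7 n49691 = n49691 := d27_2 F212465 D49691 (iv D49691)
theorem F222618 : act 8 n49691 = n47479 := d28_2 D47469 D49691 (iv D47479) (iv D42906) (iv F179228)
def n49692 : Q := act 6 n47470
theorem D49692 : act 6 n47470 = n49692 := rfl
theorem F222619 : act 0 n49692 = n48186 := d5_1 D49692 (iv F221415) F221412
theorem F222620 : act 2 n49692 = n47690 := d20_1 D49692 F213442 (iv F212466)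
theorem F222621 : act 4 n49692 = n48152 := d31_1 D49692 (iv F221203) F221201
theorem F222622 : act 5 n49692 = n49692 := d35_1 D49692 (iv D49692) (iv D47470) F179234 D47470
theorem F222623 : act 8 n49692 = n49692 := d40_2 F212468 D49692 (iv D49692)
def n49693 : Q := act 9 n47470
theorem D49693 : act 9 n47470 = n49693 := rfl
theorem F222624 : act 2 n49693 = n48547 := d23_1 D49693 (iv D48547) (iv F212466)
theorem F222625 : act 5 n49693 = n47471 := d38_1 D49693 (iv D47471) D47470
theorem F222626 : act 7 n49693 = n47474 := d43_1 D49693 (iv D47474) (iv F212467)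
def n49694 : Q := act 8 n47471
theorem D49694 : act 8 n47471 = n49694 := rfl
theorem F222627 : act 2 n49694 = n48740 := d22_1 D49694 (iv D48740) (iv F212469)
theorem F222628 : act 4 n49694 = n47472 := d33_1 D49694 (iv D47472) (iv F212470)
theorem F222629 : act 6 n49694 = n49694 := d40_1 D49694 (iv D49694) F212471
theorem F222630 : act 7 n49694 = n47475 := d42_1 D49694 (iv D47475) (iv F212472)
theorem F222631 : act 9 n49694 = n49694 := d44_2 D47471 D49694 (iv D49694) (iv D47471) F179236
def n49695 : Q := act 7 n47473
theorem D49695 : act 7 n47473 = n49695 := rfl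
theorem F222632 : act 0 n49695 = n48286 := d6_1 D49695 (iv F219263) F219258
theorem F222633 : act 1 n49695 = n47548 := d14_1 D49695 F212845 (iv F212477)
theorem F222634 : act 2 n49695 = n48306 := d21_1 D49695 (iv F222260) F222256
theorem F222635 : act 4 n49695 = n48285 := d32_1 D49695 F221362 F221359
theorem F222636 : act 5 n49695 = n47476 := d36_1 D49695 (iv D47476) (iv F212478)
theorem F222637 : act 8 n49695 = n49695 := d42_2 F212479 D49695 (iv D49695)
def n49696 : Q := act 9 n47473
theorem D49696 : act 9 n47473 = n49696 := rfl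
theorem F222638 : act 1 n49696 = n47551 := d16_1 D49696 (iv D47551) (iv F212477)
theorem F222639 : act 5 n49696 = n47477 := d38_1 D49696 (iv D47477) (iv F212478)
theorem F222640 : act 6 n49696 = n47474 := d41_1 D49696 (iv D47474) D47473
def n49697 : Q := act 8 n47474
theorem D49697 : act 8 n47474 = n49697 := rfl
theorem F222641 : act 5 n49697 = n47475 := d37_1 D49697 (iv D47475) (iv F212480)
theorem F222642 : act 9 n49697 = n49697 := d44_2 D47474 D49697 (iv D49697) (iv D47474) F179240
def n49698 : Q := act 3 n47475
theorem D49698 : act 3 n47475 = n49698 := rfl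
theorem F222643 : act 4 n49698 = n47637 := d24_2 (iv F212481) D49698 (iv D47637) F179864 (iv F179243)
theorem F222644 : act 6 n49698 = n47479 := d26_2 (iv F212482) D49698 (iv D47479)
theorem F222645 : act 9 n49698 = n49698 := d29_2 F212483 D49698 (iv D49698)
def n49699 : Q := act 9 n47476
theorem D49699 : act 9 n47476 = n49699 := rfl
theorem F222646 : act 0 n49699 = n48624 := d8_1 D49699 (iv D48624) (iv F212484)
theorem F222647 : act 1 n49699 = n47549 := d16_1 D49699 (iv D47549) (iv F212485)
theorem F222648 : act 2 n49699 = n48639 := d23_1 D49699 (iv D48639) (iv F212486)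
theorem F222649 : act 4 n49699 = n47480 := d34_1 D49699 (iv D47480) (iv F212487)
theorem F222650 : act 6 n49699 = n49699 := d41_1 D49699 (iv D49699) F212488
theorem F222651 : act 7 n49699 = n47477 := d43_1 D49699 (iv D47477) D47476
def n49700 : Q := act 8 n47477
theorem D49700 : act 8 n47477 = n49700 := rfl
theorem F222652 : act 1 n49700 = n47552 := d15_1 D49700 (iv D47552) (iv F212490)
theorem F222653 : act 4 n49700 = n47481 := d33_1 D49700 (iv D47481) (iv F212491)
theorem F222654 : act 6 n49700 = n47478 := d40_1 D49700 (iv D47478) (iv F212492)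
theorem F222655 : act 9 n49700 = n49700 := d44_2 D47477 D49700 (iv D49700) (iv D47477) F179247
def n49701 : Q := act 3 n47478
theorem D49701 : act 3 n47478 = n49701 := rfl
theorem F222656 : act 1 n49701 = n47553 := d10_1 D49701 (iv D47553) (iv F212493)
theorem F222657 : act 5 n49701 = n47479 := d25_2 (iv F212495) D49701 (iv D47479)
theorem F222658 : act 7 n49701 = n49701 := d27_2 F212496 D49701 (iv D49701)
theorem F222659 : act 9 n49701 = n49701 := d29_2 F212497 D49701 (iv D49701)
def n49702 : Q := act 2 n47479
theorem D49702 : act 2 n47479 = n49702 := rfl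
theorem F222660 : act 4 n49702 = n47641 := d18_2 (iv F212498) D49702 (iv D47641)
theorem F222661 : act 7 n49702 = n49702 := d21_2 F212499 D49702 (iv D49702)
theorem F222662 : act 9 n49702 = n49702 := d23_2 F212500 D49702 (iv D49702)
def n49703 : Q := act 8 n47480
theorem D49703 : act 8 n47480 = n49703 := rfl
theorem F222663 : act 0 n49703 = n48625 := d7_1 D49703 (iv D48625) (iv F212501)
theorem F222664 : act 1 n49703 = n47550 := d15_1 D49703 (iv D47550) (iv F212502)
theorem F222665 : act 2 n49703 = n48640 := d22_1 D49703 (iv D48640) (iv F212503)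
theorem F222666 : act 5 n49703 = n48630 := d37_1 D49703 (iv D48630) (iv F212505)
theorem F222667 : act 6 n49703 = n49703 := d40_1 D49703 (iv D49703) F212506
theorem F222668 : act 7 n49703 = n47481 := d42_1 D49703 (iv D47481) (iv F212507)
theorem F222669 : act 9 n49703 = n49703 := d44_2 D47480 D49703 (iv D49703) (iv D47480) F179256
def n49704 : Q := act 2 n47482
theorem D49704 : act 2 n47482 = n49704 := rfl
theorem F222670 : act 0 n49704 = n48332 := d1_1 D49704 F216083 (iv F212511)
theorem F222671 : act 1 n49704 = n47518 := d9_1 D49704 F212710 F204405 (iv F204443) (iv F212512)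
theorem F222672 : act 4 n49704 = n47502 := d18_2 F212517 D49704 F212646
theorem F222673 : act 5 n49704 = n49704 := d19_2 F212513 D49704 (iv D49704)
theorem F222674 : act 6 n49704 = n47484 := d20_2 (iv F212514) D49704 (iv D47484)
theorem F222675 : act 7 n49704 = n48372 := d21_2 (iv F212515) D49704 (iv D48372)
theorem F222676 : act 8 n49704 = n47500 := d22_2 (iv F212516) D49704 F212632
def n49705 : Q := act 9 n47482
theorem D49705 : act 9 n47482 = n49705 := rfl
theorem F222677 : act 0 n49705 = n48548 := d8_1 D49705 (iv D48548) (iv F212511)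
theorem F222678 : act 1 n49705 = n47493 := d16_1 D49705 (iv D47493) (iv F212512)
theorem F222679 : act 3 n49705 = n47483 := d29_1 D49705 (iv D47483) D47482
theorem F222680 : act 4 n49705 = n48389 := d34_1 D49705 F216276 F212517
theorem F222681 : act 5 n49705 = n49705 := d38_1 D49705 (iv D49705) F212513
theorem F222682 : act 6 n49705 = n47486 := d41_1 D49705 (iv D47486) (iv F212514)
theorem F222683 : act 7 n49705 = n48373 := d43_1 D49705 (iv D48373) (iv F212515)
theorem F222684 : act 8 n49705 = n48388 := d44_1 D49705 (iv D48388) F189947 (iv F204297) (iv F212516)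
def n49706 : Q := act 9 n47484
theorem D49706 : act 9 n47484 = n49706 := rfl
theorem F222685 : act 0 n49706 = n48334 := d8_1 D49706 (iv D48334) (iv F212523)
theorem F222686 : act 1 n49706 = n48397 := d16_1 D49706 (iv D48397) (iv F212524)
theorem F222687 : act 2 n49706 = n47486 := d23_1 D49706 (iv D47486) D47484
theorem F222688 : act 4 n49706 = n48394 := d34_1 D49706 (iv D48394) F212528
theorem F222689 : act 5 n49706 = n47491 := d38_1 D49706 (iv D47491) (iv F212525)
theorem F222690 : act 7 n49706 = n47489 := d43_1 D49706 (iv D47489) (iv F212526)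
theorem F222691 : act 8 n49706 = n48399 := d44_1 D49706 (iv D48399) (iv D45708) (iv F203602) (iv F212527)
def n49707 : Q := act 9 n47485
theorem D49707 : act 9 n47485 = n49707 := rfl
theorem F222692 : act 0 n49707 = n48546 := d8_1 D49707 (iv D48546) (iv F212529)
theorem F222693 : act 1 n49707 = n47495 := d16_1 D49707 (iv D47495) (iv F212530)
theorem F222694 : act 2 n49707 = n48394 := d23_1 D49707 (iv D48394) (iv F212531)
theorem F222695 : act 4 n49707 = n47486 := d34_1 D49707 (iv D47486) D47485
theorem F222696 : act 5 n49707 = n47498 := d38_1 D49707 F212625 (iv F212532)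
theorem F222697 : act 6 n49707 = n48389 := d41_1 D49707 F216276 (iv F212533)
theorem F222698 : act 7 n49707 = n47490 := d43_1 D49707 (iv D47490) (iv F212534)
theorem F222699 : act 8 n49707 = n47497 := d44_1 D49707 (iv D47497) F179339 (iv F203968) (iv F212535)
def n49708 : Q := act 9 n47487
theorem D49708 : act 9 n47487 = n49708 := rfl
theorem F222700 : act 0 n49708 = n48436 := d8_1 D49708 (iv D48436) (iv F212542)
theorem F222701 : act 1 n49708 = n47489 := d16_1 D49708 (iv D47489) D47487
theorem F222702 : act 2 n49708 = n47497 := d23_1 D49708 (iv D47497) (iv F212543)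
theorem F222703 : act 4 n49708 = n48399 := d34_1 D49708 (iv D48399) F212548
theorem F222704 : act 5 n49708 = n47492 := d38_1 D49708 (iv D47492) (iv F212544)
theorem F222705 : act 6 n49708 = n48380 := d41_1 D49708 (iv D48380) (iv F212545)
theorem F222706 : act 7 n49708 = n48397 := d43_1 D49708 (iv D48397) (iv F212546)
theorem F222707 : act 8 n49708 = n48394 := d44_1 D49708 (iv D48394) (iv D45657) (iv F203027) (iv F212547)
def n49709 : Q := act 3 n47488
theorem D49709 : act 3 n47488 = n49709 := rfl
theorem F222708 : act 0 n49709 = n48330 := d2_1 D49709 (iv D48330) (iv F212549)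
theorem F222709 : act 1 n49709 = n48398 := d10_1 D49709 (iv D48398) (iv F212550)
theorem F222710 : act 5 n49709 = n48337 := d25_2 (iv F212552) D49709 F216098
theorem F222711 : act 6 n49709 = n48381 := d26_2 (iv F212553) D49709 (iv D48381)
theorem F222712 : act 7 n49709 = n48339 := d27_2 (iv F212554) D49709 F216106
theorem F222713 : act 8 n49709 = n48357 := d28_2 (iv F212555) D49709 F216155 F203500 (iv F203592)
def n49710 : Q := act 9 n47488
theorem D49710 : act 9 n47488 = n49710 := rfl
theorem F222714 : act 0 n49710 = n48331 := d8_1 D49710 (iv D48331) (iv F212549)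
theorem F222715 : act 1 n49710 = n48399 := d16_1 D49710 (iv D48399) (iv F212550)
theorem F222716 : act 2 n49710 = n47490 := d23_1 D49710 (iv D47490) (iv F212551)
theorem F222717 : act 4 n49710 = n47489 := d34_1 D49710 (iv D47489) D47488
theorem F222718 : act 5 n49710 = n48395 := d38_1 D49710 (iv D48395) (iv F212552)
theorem F222719 : act 6 n49710 = n48382 := d41_1 D49710 (iv D48382) (iv F212553)
theorem F222720 : act 7 n49710 = n48394 := d43_1 D49710 (iv D48394) (iv F212554)
theorem F222721 : act 8 n49710 = n48397 := d44_1 D49710 (iv D48397) (iv D45706) (iv F203595) (iv F212555)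
def n49711 : Q := act 8 n47501
theorem D49711 : act 8 n47501 = n49711 := rfl
theorem F222722 : act 1 n49711 = n47520 := d15_1 D49711 (iv D47520) (iv F212638)
theorem F222723 : act 2 n49711 = n48308 := d22_1 D49711 (iv F215997) (iv F212639)
theorem F222724 : act 4 n49711 = n48372 := d33_1 D49711 F216206 (iv F212641)
theorem F222725 : act 5 n49711 = n47503 := d37_1 D49711 (iv D47503) (iv F212642)
theorem F222726 : act 6 n49711 = n48375 := d40_1 D49711 F216218 (iv F212643)
theorem F222727 : act 7 n49711 = n47502 := d42_1 D49711 (iv D47502) D47501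
def n49712 : Q := act 3 n47502
theorem D49712 : act 3 n47502 = n49712 := rfl
theorem F222728 : act 1 n49712 = n47521 := d10_1 D49712 (iv D47521) (iv F212645)
theorem F222729 : act 5 n49712 = n47504 := d25_2 (iv F212647) D49712 (iv D47504)
theorem F222730 : act 6 n49712 = n48339 := d26_2 (iv F212648) D49712 F216106
theorem F222731 : act 8 n49712 = n47509 := d28_2 D47502 D49712 (iv D47509) (iv D42952) (iv F179400)
def n49713 : Q := act 9 n47502
theorem D49713 : act 9 n47502 = n49713 := rfl
theorem F222732 : act 1 n49713 = n47522 := d16_1 D49713 (iv D47522) (iv F212645)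
theorem F222733 : act 2 n49713 = n48389 := d23_1 D49713 F216276 (iv F212646)
theorem F222734 : act 5 n49713 = n47505 := d38_1 D49713 (iv D47505) (iv F212647)
theorem F222735 : act 6 n49713 = n48394 := d41_1 D49713 (iv D48394) (iv F212648)
theorem F222736 : act 8 n49713 = n48380 := d44_1 D49713 (iv D48380) F189858 (iv F203852) D47502
def n49714 : Q := act 3 n47503
theorem D49714 : act 3 n47503 = n49714 := rfl
theorem F222737 : act 1 n49714 = n47523 := d10_1 D49714 (iv D47523) (iv F212649)
theorem F222738 : act 2 n49714 = n48623 := d17_1 D49714 (iv D48623) F207110 (iv F206385) (iv F212650)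
theorem F222739 : act 6 n49714 = n49714 := d26_2 F212652 D49714 (iv D49714)
theorem F222740 : act 7 n49714 = n47504 := d27_2 (iv F212653) D49714 (iv D47504)
theorem F222741 : act 8 n49714 = n47511 := d28_2 D47503 D49714 (iv D47511) (iv D42953) (iv F179403)
def n49715 : Q := act 9 n47503
theorem D49715 : act 9 n47503 = n49715 := rfl
theorem F222742 : act 1 n49715 = n47524 := d16_1 D49715 (iv D47524) (iv F212649)
theorem F222743 : act 2 n49715 = n48391 := d23_1 D49715 F216286 (iv F212650)
theorem F222744 : act 4 n49715 = n49715 := d34_1 D49715 (iv D49715) F212651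
theorem F222745 : act 6 n49715 = n49715 := d41_1 D49715 (iv D49715) F212652
theorem F222746 : act 7 n49715 = n47505 := d43_1 D49715 (iv D47505) (iv F212653)
theorem F222747 : act 8 n49715 = n48384 := d44_1 D49715 (iv D48384) F189875 (iv F203854) D47503
def n49716 : Q := act 9 n47504
theorem D49716 : act 9 n47504 = n49716 := rfl
theorem F222748 : act 1 n49716 = n47526 := d16_1 D49716 (iv D47526) (iv F212654)
theorem F222749 : act 3 n49716 = n47505 := d29_1 D49716 (iv D47505) D47504
theorem F222750 : act 6 n49716 = n47506 := d41_1 D49716 (iv D47506) (iv F212655)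
def n49717 : Q := act 8 n47506
theorem D49717 : act 8 n47506 = n49717 := rfl
theorem F222751 : act 1 n49717 = n47528 := d15_1 D49717 (iv D47528) (iv F212662)
theorem F222752 : act 3 n49717 = n48368 := d28_1 D49717 (iv D48368) F189771 (iv F203857) (iv F212663)
theorem F222753 : act 5 n49717 = n48342 := d37_1 D49717 (iv D48342) (iv F212664)
theorem F222754 : act 7 n49717 = n49717 := d42_1 D49717 (iv D49717) F212665
theorem F222755 : act 9 n49717 = n47516 := d44_2 D47506 D49717 (iv D47516) (iv D42958) (iv F179412)
def n49718 : Q := act 8 n47507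
theorem D49718 : act 8 n47507 = n49718 := rfl
theorem F222756 : act 1 n49718 = n47529 := d15_1 D49718 (iv D47529) (iv F212666)
theorem F222757 : act 2 n49718 = n49718 := d22_1 D49718 (iv D49718) F212667
theorem F222758 : act 5 n49718 = n49718 := d37_1 D49718 (iv D49718) F212669
theorem F222759 : act 6 n49718 = n47508 := d40_1 D49718 (iv D47508) D47507
theorem F222760 : act 7 n49718 = n48370 := d42_1 D49718 F216199 (iv F212670)
def n49719 : Q := act 3 n47508
theorem D49719 : act 3 n47508 = n49719 := rfl
theorem F222761 : act 1 n49719 = n47530 := d10_1 D49719 (iv D47530) (iv F212671)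
theorem F222762 : act 5 n49719 = n47511 := d25_2 (iv F212673) D49719 (iv D47511)
theorem F222763 : act 7 n49719 = n47509 := d27_2 (iv F212674) D49719 (iv D47509)
def n49720 : Q := act 9 n47508
theorem D49720 : act 9 n47508 = n49720 := rfl
theorem F222764 : act 1 n49720 = n47531 := d16_1 D49720 (iv D47531) (iv F212671)
theorem F222765 : act 2 n49720 = n49720 := d23_1 D49720 (iv D49720) F212672
theorem F222766 : act 5 n49720 = n47512 := d38_1 D49720 (iv D47512) (iv F212673)
theorem F222767 : act 7 n49720 = n47510 := d43_1 D49720 (iv D47510) (iv F212674)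
def n49721 : Q := act 2 n47509
theorem D49721 : act 2 n47509 = n49721 := rfl
theorem F222768 : act 3 n49721 = n49721 := d17_2 D47509 D49721 (iv D49721) (iv D47509) F179421
theorem F222769 : act 5 n49721 = n47513 := d19_2 (iv F212676) D49721 (iv D47513)
theorem F222770 : act 6 n49721 = n48362 := d20_2 (iv F212677) D49721 F216172
def n49722 : Q := act 4 n47509
theorem D49722 : act 4 n47509 = n49722 := rfl
theorem F222771 : act 1 n49722 = n47533 := d11_1 D49722 (iv D47533) (iv F212675)
theorem F222772 : act 6 n49722 = n48351 := d31_2 (iv F212677) D49722 F216139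
def n49723 : Q := act 9 n47509
theorem D49723 : act 9 n47509 = n49723 := rfl
theorem F222773 : act 1 n49723 = n47534 := d16_1 D49723 (iv D47534) (iv F212675)
theorem F222774 : act 3 n49723 = n47510 := d29_1 D49723 (iv D47510) D47509
theorem F222775 : act 5 n49723 = n47514 := d38_1 D49723 (iv D47514) (iv F212676)
theorem F222776 : act 6 n49723 = n48365 := d41_1 D49723 (iv D48365) (iv F212677)
def n49724 : Q := act 2 n47511
theorem D49724 : act 2 n47511 = n49724 := rfl
theorem F222777 : act 1 n49724 = n48626 := d9_1 D49724 F217072 F212795 (iv D47535) (iv F212682)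
theorem F222778 : act 3 n49724 = n49724 := d17_2 D47511 D49724 (iv D49724) (iv D47511) F179425
theorem F222779 : act 6 n49724 = n49724 := d20_2 F212683 D49724 (iv D49724)
theorem F222780 : act 7 n49724 = n47513 := d21_2 (iv F212684) D49724 (iv D47513)
theorem F222781 : act 8 n49724 = n48623 := d22_2 F222741 D49724 (iv F222738)
def n49725 : Q := act 9 n47511
theorem D49725 : act 9 n47511 = n49725 := rfl
theorem F222782 : act 1 n49725 = n47537 := d16_1 D49725 (iv D47537) (iv F212682)
theorem F222783 : act 3 n49725 = n47512 := d29_1 D49725 (iv D47512) D47511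
theorem F222784 : act 6 n49725 = n49725 := d41_1 D49725 (iv D49725) F212683
theorem F222785 : act 7 n49725 = n47514 := d43_1 D49725 (iv D47514) (iv F212684)
def n49726 : Q := act 9 n47513
theorem D49726 : act 9 n47513 = n49726 := rfl
theorem F222786 : act 2 n49726 = n47514 := d23_1 D49726 (iv D47514) D47513
theorem F222787 : act 3 n49726 = n49726 := d29_1 D49726 (iv D49726) F212690
theorem F222788 : act 6 n49726 = n47515 := d41_1 D49726 (iv D47515) (iv F212691)
def n49727 : Q := act 8 n47514
theorem D49727 : act 8 n47514 = n49727 := rfl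
theorem F222789 : act 1 n49727 = n47543 := d15_1 D49727 (iv D47543) (iv F212692)
theorem F222790 : act 6 n49727 = n47516 := d40_1 D49727 (iv D47516) (iv F212694)
def n49728 : Q := act 8 n47515
theorem D49728 : act 8 n47515 = n49728 := rfl
theorem F222791 : act 2 n49728 = n47516 := d22_1 D49728 (iv D47516) (iv F212695)
theorem F222792 : act 5 n49728 = n48369 := d37_1 D49728 (iv D48369) (iv F212697)
theorem F222793 : act 7 n49728 = n49728 := d42_1 D49728 (iv D49728) F212698
def n49729 : Q := act 8 n47517
theorem D49729 : act 8 n47517 = n49729 := rfl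
theorem F222794 : act 0 n49729 = n47568 := d7_1 D49729 (iv D47568) (iv F212702)
theorem F222795 : act 1 n49729 = n48372 := d15_1 D49729 F216206 (iv F212703)
theorem F222796 : act 2 n49729 = n47694 := d22_1 D49729 (iv D47694) (iv F212704)
theorem F222797 : act 4 n49729 = n47520 := d33_1 D49729 (iv D47520) (iv F212705)
theorem F222798 : act 5 n49729 = n49729 := d37_1 D49729 (iv D49729) F212706
theorem F222799 : act 6 n49729 = n48374 := d40_1 D49729 F216214 (iv F212707)
theorem F222800 : act 7 n49729 = n47518 := d42_1 D49729 (iv D47518) D47517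
def n49730 : Q := act 3 n47518
theorem D49730 : act 3 n47518 = n49730 := rfl
theorem F222801 : act 0 n49730 = n47569 := d2_1 D49730 (iv D47569) (iv F212709)
theorem F222802 : act 5 n49730 = n49730 := d25_2 F212712 D49730 (iv D49730)
theorem F222803 : act 6 n49730 = n48396 := d26_2 (iv F212713) D49730 (iv D48396)
def n49731 : Q := act 9 n47518
theorem D49731 : act 9 n47518 = n49731 := rfl
theorem F222804 : act 0 n49731 = n47570 := d8_1 D49731 (iv D47570) (iv F212709)
theorem F222805 : act 2 n49731 = n47696 := d23_1 D49731 (iv D47696) (iv F212710)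
theorem F222806 : act 4 n49731 = n47522 := d34_1 D49731 (iv D47522) (iv F212711)
theorem F222807 : act 5 n49731 = n49731 := d38_1 D49731 (iv D49731) F212712
theorem F222808 : act 6 n49731 = n48397 := d41_1 D49731 (iv D48397) (iv F212713)
theorem F222809 : act 8 n49731 = n48382 := d44_1 D49731 (iv D48382) F189861 (iv F204111) D47518
def n49732 : Q := act 8 n47519
theorem D49732 : act 8 n47519 = n49732 := rfl
theorem F222810 : act 0 n49732 = n47571 := d7_1 D49732 (iv D47571) (iv F212714)
theorem F222811 : act 1 n49732 = n48375 := d15_1 D49732 F216218 (iv F212715)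
theorem F222812 : act 2 n49732 = n47676 := d22_1 D49732 F213371 (iv F212716)
theorem F222813 : act 4 n49732 = n48374 := d33_1 D49732 F216214 (iv F212718)
theorem F222814 : act 5 n49732 = n49732 := d37_1 D49732 (iv D49732) F212719
theorem F222815 : act 6 n49732 = n47520 := d40_1 D49732 (iv D47520) D47519
theorem F222816 : act 7 n49732 = n48379 := d42_1 D49732 F216237 (iv F212720)
def n49733 : Q := act 3 n47520
theorem D49733 : act 3 n47520 = n49733 := rfl
theorem F222817 : act 0 n49733 = n47572 := d2_1 D49733 (iv D47572) (iv F212722)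
theorem F222818 : act 2 n49733 = n48536 := d17_1 D49733 (iv D48536) F190739 (iv F204712) (iv F212723)
theorem F222819 : act 5 n49733 = n47523 := d25_2 (iv F212724) D49733 (iv D47523)
theorem F222820 : act 7 n49733 = n47521 := d27_2 (iv F212725) D49733 (iv D47521)
theorem F222821 : act 8 n49733 = n47530 := d28_2 D47520 D49733 (iv D47530) (iv D42986) (iv F179516)
def n49734 : Q := act 9 n47520
theorem D49734 : act 9 n47520 = n49734 := rfl
theorem F222822 : act 0 n49734 = n47573 := d8_1 D49734 (iv D47573) (iv F212722)
theorem F222823 : act 2 n49734 = n47697 := d23_1 D49734 (iv D47697) (iv F212723)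
theorem F222824 : act 5 n49734 = n47524 := d38_1 D49734 (iv D47524) (iv F212724)
theorem F222825 : act 7 n49734 = n47522 := d43_1 D49734 (iv D47522) (iv F212725)
theorem F222826 : act 8 n49734 = n48376 := d44_1 D49734 (iv D48376) F189847 (iv F204112) D47520
def n49735 : Q := act 4 n47521
theorem D49735 : act 4 n47521 = n49735 := rfl
theorem F222827 : act 0 n49735 = n47575 := d3_1 D49735 (iv D47575) (iv F212726)
theorem F222828 : act 2 n49735 = n48577 := d18_1 D49735 (iv D48577) (iv F212727)
theorem F222829 : act 6 n49735 = n48400 := d31_2 (iv F212729) D49735 (iv D48400)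
theorem F222830 : act 8 n49735 = n47533 := d33_2 (iv F212730) D49735 (iv D47533)
def n49736 : Q := act 9 n47521
theorem D49736 : act 9 n47521 = n49736 := rfl
theorem F222831 : act 0 n49736 = n47576 := d8_1 D49736 (iv D47576) (iv F212726)
theorem F222832 : act 2 n49736 = n48539 := d23_1 D49736 F216745 (iv F212727)
theorem F222833 : act 3 n49736 = n47522 := d29_1 D49736 (iv D47522) D47521
theorem F222834 : act 5 n49736 = n47526 := d38_1 D49736 (iv D47526) (iv F212728)
theorem F222835 : act 6 n49736 = n48401 := d41_1 D49736 (iv D48401) (iv F212729)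
def n49737 : Q := act 4 n47523
theorem D49737 : act 4 n47523 = n49737 := rfl
theorem F222836 : act 0 n49737 = n47578 := d3_1 D49737 (iv D47578) (iv F212736)
theorem F222837 : act 2 n49737 = n48578 := d18_1 D49737 (iv D48578) (iv F212737)
theorem F222838 : act 3 n49737 = n49737 := d24_1 D49737 (iv D49737) (iv D47523) F179524 D47523
theorem F222839 : act 6 n49737 = n49737 := d31_2 F212738 D49737 (iv D49737)
theorem F222840 : act 7 n49737 = n47525 := d32_2 (iv F212739) D49737 (iv D47525)
theorem F222841 : act 8 n49737 = n47536 := d33_2 (iv F212740) D49737 (iv D47536)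
def n49738 : Q := act 9 n47523
theorem D49738 : act 9 n47523 = n49738 := rfl
theorem F222842 : act 0 n49738 = n47579 := d8_1 D49738 (iv D47579) (iv F212736)
theorem F222843 : act 2 n49738 = n48541 := d23_1 D49738 F216755 (iv F212737)
theorem F222844 : act 3 n49738 = n47524 := d29_1 D49738 (iv D47524) D47523
theorem F222845 : act 6 n49738 = n49738 := d41_1 D49738 (iv D49738) F212738
theorem F222846 : act 7 n49738 = n47526 := d43_1 D49738 (iv D47526) (iv F212739)
def n49739 : Q := act 5 n47525
theorem D49739 : act 5 n47525 = n49739 := rfl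
theorem F222847 : act 0 n49739 = n47583 := d4_1 D49739 (iv D47583) (iv F212747)
theorem F222848 : act 2 n49739 = n48579 := d19_1 D49739 (iv D48579) (iv F212748)
theorem F222849 : act 3 n49739 = n49739 := d25_1 D49739 (iv D49739) F212749
theorem F222850 : act 8 n49739 = n47541 := d37_2 (iv F212751) D49739 (iv D47541)
def n49740 : Q := act 9 n47525
theorem D49740 : act 9 n47525 = n49740 := rfl
theorem F222851 : act 0 n49740 = n47584 := d8_1 D49740 (iv D47584) (iv F212747)
theorem F222852 : act 2 n49740 = n48544 := d23_1 D49740 F216768 (iv F212748)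
theorem F222853 : act 3 n49740 = n49740 := d29_1 D49740 (iv D49740) F212749
theorem F222854 : act 4 n49740 = n47526 := d34_1 D49740 (iv D47526) D47525
theorem F222855 : act 6 n49740 = n47527 := d41_1 D49740 (iv D47527) (iv F212750)
def n49741 : Q := act 8 n47526
theorem D49741 : act 8 n47526 = n49741 := rfl
theorem F222856 : act 0 n49741 = n47585 := d7_1 D49741 (iv D47585) (iv F212752)
theorem F222857 : act 2 n49741 = n48510 := d22_1 D49741 F216658 (iv F212753)
theorem F222858 : act 3 n49741 = n48364 := d28_1 D49741 (iv D48364) F189757 (iv F204197) (iv F212754)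
theorem F222859 : act 6 n49741 = n47528 := d40_1 D49741 (iv D47528) (iv F212755)
theorem F222860 : act 9 n49741 = n47543 := d44_2 D47526 D49741 (iv D47543) (iv D42993) (iv F179529)
def n49742 : Q := act 8 n47527
theorem D49742 : act 8 n47527 = n49742 := rfl
theorem F222861 : act 0 n49742 = n47592 := d7_1 D49742 (iv D47592) (iv F212756)
theorem F222862 : act 2 n49742 = n48524 := d22_1 D49742 F216695 (iv F212757)
theorem F222863 : act 4 n49742 = n47528 := d33_1 D49742 (iv D47528) (iv F212759)
theorem F222864 : act 7 n49742 = n49742 := d42_1 D49742 (iv D49742) F212760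
theorem F222865 : act 9 n49742 = n47547 := d44_2 D47527 D49742 (iv D47547) (iv D42998) (iv F179542)
def n49743 : Q := act 3 n47529
theorem D49743 : act 3 n47529 = n49743 := rfl
theorem F222866 : act 0 n49743 = n47593 := d2_1 D49743 (iv D47593) (iv F212767)
theorem F222867 : act 5 n49743 = n49743 := d25_2 F212769 D49743 (iv D49743)
theorem F222868 : act 6 n49743 = n47530 := d26_2 (iv F212770) D49743 (iv D47530)
theorem F222869 : act 7 n49743 = n48404 := d27_2 (iv F212771) D49743 (iv D48404)
def n49744 : Q := act 9 n47529
theorem D49744 : act 9 n47529 = n49744 := rfl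
theorem F222870 : act 0 n49744 = n47594 := d8_1 D49744 (iv D47594) (iv F212767)
theorem F222871 : act 2 n49744 = n47555 := d23_1 D49744 (iv D47555) (iv F212768)
theorem F222872 : act 5 n49744 = n49744 := d38_1 D49744 (iv D49744) F212769
theorem F222873 : act 6 n49744 = n47531 := d41_1 D49744 (iv D47531) (iv F212770)
theorem F222874 : act 7 n49744 = n48405 := d43_1 D49744 (iv D48405) (iv F212771)
def n49745 : Q := act 2 n47530
theorem D49745 : act 2 n47530 = n49745 := rfl
theorem F222875 : act 0 n49745 = n47595 := d1_1 D49745 (iv D47595) (iv F212772)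
theorem F222876 : act 3 n49745 = n47556 := d17_2 D47530 D49745 (iv D47556) (iv D43013) (iv F179552)
theorem F222877 : act 5 n49745 = n47535 := d19_2 (iv F212773) D49745 (iv D47535)
theorem F222878 : act 7 n49745 = n47532 := d21_2 (iv F212774) D49745 (iv D47532)
theorem F222879 : act 8 n49745 = n48536 := d22_2 F222821 D49745 (iv F222818)
theorem F222880 : act 1 n48537 = n49745 := d15_3 F222879 F216737 D48537
def n49746 : Q := act 4 n47530
theorem D49746 : act 4 n47530 = n49746 := rfl
theorem F222881 : act 0 n49746 = n47596 := d3_1 D49746 (iv D47596) (iv F212772)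
theorem F222882 : act 7 n49746 = n47533 := d32_2 (iv F212774) D49746 (iv D47533)
def n49747 : Q := act 9 n47530
theorem D49747 : act 9 n47530 = n49747 := rfl
theorem F222883 : act 0 n49747 = n47597 := d8_1 D49747 (iv D47597) (iv F212772)
theorem F222884 : act 3 n49747 = n47531 := d29_1 D49747 (iv D47531) D47530
theorem F222885 : act 5 n49747 = n47537 := d38_1 D49747 (iv D47537) (iv F212773)
theorem F222886 : act 7 n49747 = n47534 := d43_1 D49747 (iv D47534) (iv F212774)
def n49748 : Q := act 1 n47532
theorem D49748 : act 1 n47532 = n49748 := rfl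
theorem F222887 : act 3 n49748 = n47559 := d10_2 (iv F212780) D49748 (iv D47559)
theorem F222888 : act 5 n49748 = n47538 := d12_2 (iv F212781) D49748 (iv D47538)
theorem F222889 : act 6 n49748 = n48409 := d13_2 (iv F212782) D49748 (iv D48409)
theorem F222890 : act 7 n49748 = n48537 := d14_2 F222878 D49748 F222880
theorem F222891 : act 8 n49748 = n48532 := d15_2 (iv F212783) D49748 F216719
def n49749 : Q := act 4 n47532
theorem D49749 : act 4 n47532 = n49749 := rfl
theorem F222892 : act 0 n49749 = n47599 := d3_1 D49749 (iv D47599) (iv F212779)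
theorem F222893 : act 2 n49749 = n47533 := d18_1 D49749 (iv D47533) D47532
theorem F222894 : act 6 n49749 = n48410 := d31_2 (iv F212782) D49749 (iv D48410)
theorem F222895 : act 8 n49749 = n48577 := d33_2 (iv F212783) D49749 (iv D48577)
def n49750 : Q := act 9 n47532
theorem D49750 : act 9 n47532 = n49750 := rfl
theorem F222896 : act 0 n49750 = n47600 := d8_1 D49750 (iv D47600) (iv F212779)
theorem F222897 : act 2 n49750 = n47534 := d23_1 D49750 (iv D47534) D47532
theorem F222898 : act 3 n49750 = n47561 := d29_1 D49750 (iv D47561) (iv F212780)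
theorem F222899 : act 5 n49750 = n47540 := d38_1 D49750 (iv D47540) (iv F212781)
theorem F222900 : act 6 n49750 = n48411 := d41_1 D49750 (iv D48411) (iv F212782)
def n49751 : Q := act 5 n47533
theorem D49751 : act 5 n47533 = n49751 := rfl
theorem F222901 : act 0 n49751 = n47601 := d4_1 D49751 (iv D47601) (iv F212784)
theorem F222902 : act 4 n49751 = n47541 := d30_1 D49751 (iv D47541) (iv D42992) (iv F179556) D47533
def n49752 : Q := act 9 n47533
theorem D49752 : act 9 n47533 = n49752 := rfl
theorem F222903 : act 0 n49752 = n47602 := d8_1 D49752 (iv D47602) (iv F212784)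
theorem F222904 : act 4 n49752 = n47534 := d34_1 D49752 (iv D47534) D47533
theorem F222905 : act 6 n49752 = n48412 := d41_1 D49752 (iv D48412) (iv F212785)
def n49753 : Q := act 8 n47534
theorem D49753 : act 8 n47534 = n49753 := rfl
theorem F222906 : act 0 n49753 = n47603 := d7_1 D49753 (iv D47603) (iv F212786)
theorem F222907 : act 5 n49753 = n47543 := d37_1 D49753 (iv D47543) (iv F212788)
theorem F222908 : act 6 n49753 = n48413 := d40_1 D49753 (iv D48413) (iv F212789)
def n49754 : Q := act 4 n47535
theorem D49754 : act 4 n47535 = n49754 := rfl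
theorem F222909 : act 0 n49754 = n47605 := d3_1 D49754 (iv D47605) (iv F212790)
theorem F222910 : act 1 n49754 = n48685 := d11_1 D49754 F217333 F212795
theorem F222911 : act 2 n49754 = n47536 := d18_1 D49754 (iv D47536) D47535
theorem F222912 : act 3 n49754 = n49754 := d24_1 D49754 (iv D49754) F212791 F179684 (iv F212791)
theorem F222913 : act 6 n49754 = n49754 := d31_2 F212792 D49754 (iv D49754)
theorem F222914 : act 7 n49754 = n47539 := d32_2 (iv F212793) D49754 (iv D47539)
theorem F222915 : act 8 n49754 = n48578 := d33_2 (iv F212794) D49754 (iv D48578)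
def n49755 : Q := act 9 n47535
theorem D49755 : act 9 n47535 = n49755 := rfl
theorem F222916 : act 0 n49755 = n47606 := d8_1 D49755 (iv D47606) (iv F212790)
theorem F222917 : act 1 n49755 = n48725 := d16_1 D49755 (iv D48725) F212795
theorem F222918 : act 2 n49755 = n47537 := d23_1 D49755 (iv D47537) D47535
theorem F222919 : act 3 n49755 = n47563 := d29_1 D49755 (iv D47563) (iv F212791)
theorem F222920 : act 6 n49755 = n49755 := d41_1 D49755 (iv D49755) F212792
theorem F222921 : act 7 n49755 = n47540 := d43_1 D49755 (iv D47540) (iv F212793)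
def n49756 : Q := act 5 n47536
theorem D49756 : act 5 n47536 = n49756 := rfl
theorem F222922 : act 0 n49756 = n47607 := d4_1 D49756 (iv D47607) (iv F212796)
theorem F222923 : act 3 n49756 = n47548 := d25_1 D49756 (iv D47548) (iv F212797)
theorem F222924 : act 7 n49756 = n47541 := d36_2 (iv F212799) D49756 (iv D47541)
def n49757 : Q := act 9 n47536
theorem D49757 : act 9 n47536 = n49757 := rfl
theorem F222925 : act 0 n49757 = n47608 := d8_1 D49757 (iv D47608) (iv F212796)
theorem F222926 : act 3 n49757 = n47549 := d29_1 D49757 (iv D47549) (iv F212797)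
theorem F222927 : act 4 n49757 = n47537 := d34_1 D49757 (iv D47537) D47536
theorem F222928 : act 6 n49757 = n49757 := d41_1 D49757 (iv D49757) F212798
theorem F222929 : act 7 n49757 = n47542 := d43_1 D49757 (iv D47542) (iv F212799)
def n49758 : Q := act 8 n47537
theorem D49758 : act 8 n47537 = n49758 := rfl
theorem F222930 : act 0 n49758 = n47609 := d7_1 D49758 (iv D47609) (iv F212800)
theorem F222931 : act 6 n49758 = n49758 := d40_1 D49758 (iv D49758) F212802
theorem F222932 : act 7 n49758 = n47543 := d42_1 D49758 (iv D47543) (iv F212803)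
def n49759 : Q := act 9 n47538
theorem D49759 : act 9 n47538 = n49759 := rfl
theorem F222933 : act 1 n49759 = n47540 := d16_1 D49759 (iv D47540) D47538
theorem F222934 : act 3 n49759 = n47565 := d29_1 D49759 (iv D47565) (iv F212804)
theorem F222935 : act 6 n49759 = n47544 := d41_1 D49759 (iv D47544) (iv F212805)
theorem F222936 : act 7 n49759 = n48725 := d43_1 D49759 (iv D48725) (iv F212806)
def n49760 : Q := act 5 n47539
theorem D49760 : act 5 n47539 = n49760 := rfl
theorem F222937 : act 0 n49760 = n47613 := d4_1 D49760 (iv D47613) (iv F212808)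
theorem F222938 : act 2 n49760 = n47541 := d19_1 D49760 (iv D47541) (iv F212809)
theorem F222939 : act 3 n49760 = n49760 := d25_1 D49760 (iv D49760) F212810
theorem F222940 : act 8 n49760 = n48579 := d37_2 (iv F212812) D49760 (iv D48579)
def n49761 : Q := act 9 n47539
theorem D49761 : act 9 n47539 = n49761 := rfl
theorem F222941 : act 0 n49761 = n47614 := d8_1 D49761 (iv D47614) (iv F212808)
theorem F222942 : act 2 n49761 = n47542 := d23_1 D49761 (iv D47542) (iv F212809)
theorem F222943 : act 3 n49761 = n49761 := d29_1 D49761 (iv D49761) F212810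
theorem F222944 : act 4 n49761 = n47540 := d34_1 D49761 (iv D47540) D47539
theorem F222945 : act 6 n49761 = n47545 := d41_1 D49761 (iv D47545) (iv F212811)
def n49762 : Q := act 8 n47540
theorem D49762 : act 8 n47540 = n49762 := rfl
theorem F222946 : act 0 n49762 = n47615 := d7_1 D49762 (iv D47615) (iv F212813)
theorem F222947 : act 2 n49762 = n47543 := d22_1 D49762 (iv D47543) (iv F212814)
theorem F222948 : act 3 n49762 = n48461 := d28_1 D49762 (iv D48461) F190521 (iv F204460) (iv F212815)
theorem F222949 : act 6 n49762 = n47546 := d40_1 D49762 (iv D47546) (iv F212816)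
theorem F222950 : act 9 n49762 = n48510 := d44_2 D47540 D49762 F216658 F190781 (iv F204205)
def n49763 : Q := act 9 n47541
theorem D49763 : act 9 n47541 = n49763 := rfl
theorem F222951 : act 0 n49763 = n47617 := d8_1 D49763 (iv D47617) (iv F212817)
theorem F222952 : act 3 n49763 = n47551 := d29_1 D49763 (iv D47551) (iv F212818)
theorem F222953 : act 5 n49763 = n47542 := d38_1 D49763 (iv D47542) D47541
def n49764 : Q := act 8 n47542
theorem D49764 : act 8 n47542 = n49764 := rfl
theorem F222954 : act 0 n49764 = n47618 := d7_1 D49764 (iv D47618) (iv F212819)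
theorem F222955 : act 4 n49764 = n47543 := d33_1 D49764 (iv D47543) (iv F212821)
theorem F222956 : act 6 n49764 = n47547 := d40_1 D49764 (iv D47547) (iv F212822)
def n49765 : Q := act 8 n47544
theorem D49765 : act 8 n47544 = n49765 := rfl
theorem F222957 : act 1 n49765 = n47546 := d15_1 D49765 (iv D47546) (iv F212825)
theorem F222958 : act 3 n49765 = n48467 := d28_1 D49765 (iv D48467) F190538 (iv F204461) (iv F212826)
theorem F222959 : act 5 n49765 = n48421 := d37_1 D49765 (iv D48421) (iv F212827)
theorem F222960 : act 7 n49765 = n49765 := d42_1 D49765 (iv D49765) F212828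
theorem F222961 : act 9 n49765 = n48519 := d44_2 D47544 D49765 F216682 F190789 (iv F204203)
def n49766 : Q := act 8 n47545
theorem D49766 : act 8 n47545 = n49766 := rfl
theorem F222962 : act 0 n49766 = n47625 := d7_1 D49766 (iv D47625) (iv F212829)
theorem F222963 : act 2 n49766 = n47547 := d22_1 D49766 (iv D47547) (iv F212830)
theorem F222964 : act 4 n49766 = n47546 := d33_1 D49766 (iv D47546) (iv F212832)
theorem F222965 : act 7 n49766 = n49766 := d42_1 D49766 (iv D49766) F212833
theorem F222966 : act 9 n49766 = n48524 := d44_2 D47545 D49766 F216695 F190792 (iv F204204)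
def n49767 : Q := act 3 n47547
theorem D49767 : act 3 n47547 = n49767 := rfl
theorem F222967 : act 0 n49767 = n47630 := d2_1 D49767 (iv D47630) (iv F212840)
theorem F222968 : act 7 n49767 = n49767 := d27_2 F212842 D49767 (iv D49767)
theorem F222969 : act 8 n49767 = n47553 := d28_2 D47547 D49767 (iv D47553) (iv D43007) (iv F179596)
def n49768 : Q := act 6 n47548
theorem D49768 : act 6 n47548 = n49768 := rfl
theorem F222970 : act 0 n49768 = n47631 := d5_1 D49768 (iv D47631) (iv F212843)
theorem F222971 : act 2 n49768 = n49768 := d20_1 D49768 (iv D49768) F212844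
theorem F222972 : act 5 n49768 = n49768 := d35_1 D49768 (iv D49768) (iv D47548) F179604 D47548
theorem F222973 : act 8 n49768 = n49768 := d40_2 F212846 D49768 (iv D49768)
def n49769 : Q := act 9 n47548
theorem D49769 : act 9 n47548 = n49769 := rfl
theorem F222974 : act 0 n49769 = n47632 := d8_1 D49769 (iv D47632) (iv F212843)
theorem F222975 : act 2 n49769 = n49769 := d23_1 D49769 (iv D49769) F212844
theorem F222976 : act 5 n49769 = n47549 := d38_1 D49769 (iv D47549) D47548
theorem F222977 : act 7 n49769 = n47551 := d43_1 D49769 (iv D47551) (iv F212845)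
def n49770 : Q := act 8 n47549
theorem D49770 : act 8 n47549 = n49770 := rfl
theorem F222978 : act 0 n49770 = n47633 := d7_1 D49770 (iv D47633) (iv F212847)
theorem F222979 : act 2 n49770 = n49770 := d22_1 D49770 (iv D49770) F212848
theorem F222980 : act 4 n49770 = n47550 := d33_1 D49770 (iv D47550) (iv F212849)
theorem F222981 : act 6 n49770 = n49770 := d40_1 D49770 (iv D49770) F212850
theorem F222982 : act 7 n49770 = n47552 := d42_1 D49770 (iv D47552) (iv F212851)
theorem F222983 : act 9 n49770 = n49770 := d44_2 D47549 D49770 (iv D49770) (iv D47549) F179606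
def n49771 : Q := act 8 n47551
theorem D49771 : act 8 n47551 = n49771 := rfl
theorem F222984 : act 0 n49771 = n47636 := d7_1 D49771 (iv D47636) (iv F212857)
theorem F222985 : act 2 n49771 = n49771 := d22_1 D49771 (iv D49771) F212858
theorem F222986 : act 5 n49771 = n47552 := d37_1 D49771 (iv D47552) (iv F212859)
theorem F222987 : act 9 n49771 = n49771 := d44_2 D47551 D49771 (iv D49771) (iv D47551) F179614
def n49772 : Q := act 3 n47552
theorem D49772 : act 3 n47552 = n49772 := rfl
theorem F222988 : act 0 n49772 = n47637 := d2_1 D49772 (iv D47637) (iv F212860)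
theorem F222989 : act 6 n49772 = n47553 := d26_2 (iv F212863) D49772 (iv D47553)
theorem F222990 : act 9 n49772 = n49772 := d29_2 F212864 D49772 (iv D49772)
def n49773 : Q := act 2 n47553
theorem D49773 : act 2 n47553 = n49773 := rfl
theorem F222991 : act 0 n49773 = n47641 := d1_1 D49773 (iv D47641) (iv F212865)
theorem F222992 : act 3 n49773 = n49773 := d17_2 D47553 D49773 (iv D49773) (iv D47553) F179633
theorem F222993 : act 7 n49773 = n49773 := d21_2 F212866 D49773 (iv D49773)
theorem F222994 : act 9 n49773 = n49773 := d23_2 F212867 D49773 (iv D49773)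
def n49774 : Q := act 2 n47554
theorem D49774 : act 2 n47554 = n49774 := rfl
theorem F222995 : act 0 n49774 = n47643 := d1_1 D49774 (iv D47643) (iv F212868)
theorem F222996 : act 5 n49774 = n49774 := d19_2 F212870 D49774 (iv D49774)
theorem F222997 : act 6 n49774 = n47556 := d20_2 (iv F212871) D49774 (iv D47556)
theorem F222998 : act 7 n49774 = n48422 := d21_2 (iv F212872) D49774 (iv D48422)
theorem F222999 : act 8 n49774 = n47698 := d22_2 (iv F212873) D49774 (iv D47698)
theorem F223000 : act 1 n47735 = n49774 := d15_3 F222999 (iv F213494) D47735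
def n49775 : Q := act 4 n47554
theorem D49775 : act 4 n47554 = n49775 := rfl
theorem F223001 : act 0 n49775 = n47644 := d3_1 D49775 (iv D47644) (iv F212868)
theorem F223002 : act 1 n49775 = n49775 := d11_1 D49775 (iv D49775) F212869
theorem F223003 : act 6 n49775 = n47557 := d31_2 (iv F212871) D49775 (iv D47557)
theorem F223004 : act 7 n49775 = n47746 := d32_2 (iv F212872) D49775 F213776
theorem F223005 : act 8 n49775 = n47699 := d33_2 (iv F212873) D49775 (iv D47699)
theorem F223006 : act 5 n47748 = n49775 := d37_3 F223005 (iv F213501) D47748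
def n49776 : Q := act 9 n47554
theorem D49776 : act 9 n47554 = n49776 := rfl
theorem F223007 : act 0 n49776 = n47645 := d8_1 D49776 (iv D47645) (iv F212868)
theorem F223008 : act 1 n49776 = n49776 := d16_1 D49776 (iv D49776) F212869
theorem F223009 : act 3 n49776 = n47555 := d29_1 D49776 (iv D47555) D47554
theorem F223010 : act 5 n49776 = n49776 := d38_1 D49776 (iv D49776) F212870
theorem F223011 : act 6 n49776 = n47558 := d41_1 D49776 (iv D47558) (iv F212871)
theorem F223012 : act 7 n49776 = n48423 := d43_1 D49776 (iv D48423) (iv F212872)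
theorem F223013 : act 8 n49776 = n48562 := d44_1 D49776 (iv D48562) F192282 (iv F204436) (iv F212873)
def n49777 : Q := act 4 n47556
theorem D49777 : act 4 n47556 = n49777 := rfl
theorem F223014 : act 0 n49777 = n47647 := d3_1 D49777 (iv D47647) (iv F212879)
theorem F223015 : act 1 n49777 = n48575 := d11_1 D49777 F216880 F212883
theorem F223016 : act 2 n49777 = n47557 := d18_1 D49777 (iv D47557) D47556
theorem F223017 : act 5 n49777 = n49777 := d30_2 (iv F212880) D49777 (iv D49777) F212880 F179684
theorem F223018 : act 7 n49777 = n47560 := d32_2 (iv F212881) D49777 (iv D47560)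
theorem F223019 : act 8 n49777 = n47700 := d33_2 (iv F212882) D49777 (iv D47700)
def n49778 : Q := act 9 n47556
theorem D49778 : act 9 n47556 = n49778 := rfl
theorem F223020 : act 0 n49778 = n47648 := d8_1 D49778 (iv D47648) (iv F212879)
theorem F223021 : act 1 n49778 = n48576 := d16_1 D49778 (iv D48576) F212883
theorem F223022 : act 2 n49778 = n47558 := d23_1 D49778 (iv D47558) D47556
theorem F223023 : act 5 n49778 = n47563 := d38_1 D49778 (iv D47563) (iv F212880)
theorem F223024 : act 7 n49778 = n47561 := d43_1 D49778 (iv D47561) (iv F212881)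
theorem F223025 : act 8 n49778 = n48565 := d44_1 D49778 (iv D48565) F192288 (iv F204497) (iv F212882)
def n49779 : Q := act 9 n47557
theorem D49779 : act 9 n47557 = n49779 := rfl
theorem F223026 : act 0 n49779 = n47649 := d8_1 D49779 (iv D47649) (iv F212884)
theorem F223027 : act 1 n49779 = n49779 := d16_1 D49779 (iv D49779) F212885
theorem F223028 : act 4 n49779 = n47558 := d34_1 D49779 (iv D47558) D47557
theorem F223029 : act 5 n49779 = n49779 := d38_1 D49779 (iv D49779) F212886
theorem F223030 : act 7 n49779 = n47562 := d43_1 D49779 (iv D47562) (iv F212887)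
theorem F223031 : act 8 n49779 = n48566 := d44_1 D49779 (iv D48566) F192292 (iv F204498) (iv F212888)
def n49780 : Q := act 0 n47559
theorem D49780 : act 0 n47559 = n49780 := rfl
theorem F223032 : act 1 n49780 = n47651 := d0_2 D47559 D49780 (iv D47651) (iv D43086) (iv F179669)
theorem F223033 : act 2 n49780 = n49780 := d1_2 F212895 D49780 (iv D49780)
theorem F223034 : act 5 n49780 = n47564 := d4_2 (iv F212896) D49780 (iv D47564)
theorem F223035 : act 6 n49780 = n48428 := d5_2 (iv F212897) D49780 (iv D48428)
theorem F223036 : act 7 n49780 = n48552 := d6_2 (iv F212898) D49780 F216798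
theorem F223037 : act 8 n49780 = n47701 := d7_2 (iv F212899) D49780 (iv D47701)
def n49781 : Q := act 4 n47559
theorem D49781 : act 4 n47559 = n49781 := rfl
theorem F223038 : act 1 n49781 = n47560 := d11_1 D49781 (iv D47560) D47559
theorem F223039 : act 2 n49781 = n49781 := d18_1 D49781 (iv D49781) F212895
theorem F223040 : act 5 n49781 = n49781 := d30_2 (iv F212896) D49781 (iv D49781) F212896 F179695
theorem F223041 : act 6 n49781 = n48429 := d31_2 (iv F212897) D49781 (iv D48429)
theorem F223042 : act 7 n49781 = n48575 := d32_2 (iv F212898) D49781 F216880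
theorem F223043 : act 8 n49781 = n47702 := d33_2 (iv F212899) D49781 (iv D47702)
def n49782 : Q := act 9 n47559
theorem D49782 : act 9 n47559 = n49782 := rfl
theorem F223044 : act 1 n49782 = n47561 := d16_1 D49782 (iv D47561) D47559
theorem F223045 : act 2 n49782 = n49782 := d23_1 D49782 (iv D49782) F212895
theorem F223046 : act 5 n49782 = n47565 := d38_1 D49782 (iv D47565) (iv F212896)
theorem F223047 : act 6 n49782 = n48430 := d41_1 D49782 (iv D48430) (iv F212897)
theorem F223048 : act 7 n49782 = n48576 := d43_1 D49782 (iv D48576) (iv F212898)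
theorem F223049 : act 8 n49782 = n48569 := d44_1 D49782 (iv D48569) F192299 (iv F204534) (iv F212899)
def n49783 : Q := act 3 n47560
theorem D49783 : act 3 n47560 = n49783 := rfl
theorem F223050 : act 0 n49783 = n47654 := d2_1 D49783 (iv D47654) (iv F212900)
theorem F223051 : act 5 n49783 = n49783 := d25_2 F212902 D49783 (iv D49783)
theorem F223052 : act 6 n49783 = n48431 := d26_2 (iv F212903) D49783 (iv D48431)
def n49784 : Q := act 9 n47560
theorem D49784 : act 9 n47560 = n49784 := rfl
theorem F223053 : act 0 n49784 = n47655 := d8_1 D49784 (iv D47655) (iv F212900)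
theorem F223054 : act 2 n49784 = n47562 := d23_1 D49784 (iv D47562) (iv F212901)
theorem F223055 : act 4 n49784 = n47561 := d34_1 D49784 (iv D47561) D47560
theorem F223056 : act 5 n49784 = n49784 := d38_1 D49784 (iv D49784) F212902
theorem F223057 : act 6 n49784 = n48432 := d41_1 D49784 (iv D48432) (iv F212903)
theorem F223058 : act 8 n49784 = n48571 := d44_1 D49784 (iv D48571) F192302 (iv F204535) (iv F212904)
def n49785 : Q := act 9 n47564
theorem D49785 : act 9 n47564 = n49785 := rfl
theorem F223059 : act 0 n49785 = n47565 := d8_1 D49785 (iv D47565) D47564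
theorem F223060 : act 1 n49785 = n47661 := d16_1 D49785 (iv D47661) (iv F212923)
theorem F223061 : act 2 n49785 = n49785 := d23_1 D49785 (iv D49785) F212924
theorem F223062 : act 4 n49785 = n49785 := d34_1 D49785 (iv D49785) F212925
theorem F223063 : act 6 n49785 = n47566 := d41_1 D49785 (iv D47566) (iv F212926)
theorem F223064 : act 7 n49785 = n48728 := d43_1 D49785 (iv D48728) (iv F212927)
theorem F223065 : act 8 n49785 = n48574 := d44_1 D49785 (iv D48574) F192328 (iv F204540) (iv F212928)
def n49786 : Q := act 8 n47567
theorem D49786 : act 8 n47567 = n49786 := rfl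
theorem F223066 : act 0 n49786 = n48374 := d7_1 D49786 F216214 (iv F212942)
theorem F223067 : act 1 n49786 = n48736 := d15_1 D49786 F217524 (iv F212943)
theorem F223068 : act 2 n49786 = n47704 := d22_1 D49786 (iv D47704) (iv F212944)
theorem F223069 : act 4 n49786 = n47571 := d33_1 D49786 (iv D47571) (iv F212946)
theorem F223070 : act 5 n49786 = n48383 := d37_1 D49786 F216250 F212948
theorem F223071 : act 6 n49786 = n47568 := d40_1 D49786 (iv D47568) D47567
theorem F223072 : act 7 n49786 = n48378 := d42_1 D49786 F216230 (iv F212947)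
def n49787 : Q := act 3 n47568
theorem D49787 : act 3 n47568 = n49787 := rfl
theorem F223073 : act 5 n49787 = n49787 := d25_2 F212951 D49787 (iv D49787)
theorem F223074 : act 7 n49787 = n47569 := d27_2 (iv F212952) D49787 (iv D47569)
def n49788 : Q := act 9 n47568
theorem D49788 : act 9 n47568 = n49788 := rfl
theorem F223075 : act 2 n49788 = n47706 := d23_1 D49788 (iv D47706) (iv F212949)
theorem F223076 : act 4 n49788 = n47573 := d34_1 D49788 (iv D47573) (iv F212950)
theorem F223077 : act 5 n49788 = n49788 := d38_1 D49788 (iv D49788) F212951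
theorem F223078 : act 7 n49788 = n47570 := d43_1 D49788 (iv D47570) (iv F212952)
def n49789 : Q := act 2 n47569
theorem D49789 : act 2 n47569 = n49789 := rfl
theorem F223079 : act 3 n49789 = n47707 := d17_2 D47569 D49789 (iv D47707) (iv D43609) (iv F179727)
theorem F223080 : act 5 n49789 = n49789 := d19_2 F212953 D49789 (iv D49789)
theorem F223081 : act 6 n49789 = n48437 := d20_2 (iv F212954) D49789 (iv D48437)
def n49790 : Q := act 4 n47569
theorem D49790 : act 4 n47569 = n49790 := rfl
theorem F223082 : act 3 n49790 = n47575 := d24_1 D49790 (iv D47575) (iv D43030) (iv F179728) D47569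
theorem F223083 : act 6 n49790 = n48438 := d31_2 (iv F212954) D49790 (iv D48438)
def n49791 : Q := act 9 n47569
theorem D49791 : act 9 n47569 = n49791 := rfl
theorem F223084 : act 3 n49791 = n47570 := d29_1 D49791 (iv D47570) D47569
theorem F223085 : act 5 n49791 = n49791 := d38_1 D49791 (iv D49791) F212953
theorem F223086 : act 6 n49791 = n48439 := d41_1 D49791 (iv D48439) (iv F212954)
def n49792 : Q := act 3 n47571
theorem D49792 : act 3 n47571 = n49792 := rfl
theorem F223087 : act 5 n49792 = n49792 := d25_2 F212960 D49792 (iv D49792)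
theorem F223088 : act 6 n49792 = n47572 := d26_2 (iv F212961) D49792 (iv D47572)
theorem F223089 : act 7 n49792 = n48440 := d27_2 (iv F212962) D49792 (iv D48440)
theorem F223090 : act 8 n49792 = n47593 := d28_2 D47571 D49792 (iv D47593) (iv D43043) (iv F179732)
def n49793 : Q := act 9 n47571
theorem D49793 : act 9 n47571 = n49793 := rfl
theorem F223091 : act 2 n49793 = n47710 := d23_1 D49793 (iv D47710) (iv F212959)
theorem F223092 : act 5 n49793 = n49793 := d38_1 D49793 (iv D49793) F212960
theorem F223093 : act 6 n49793 = n47573 := d41_1 D49793 (iv D47573) (iv F212961)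
theorem F223094 : act 7 n49793 = n48441 := d43_1 D49793 (iv D48441) (iv F212962)
def n49794 : Q := act 2 n47572
theorem D49794 : act 2 n47572 = n49794 := rfl
theorem F223095 : act 0 n49794 = n48536 := d1_1 D49794 (iv F222818) F222817
theorem F223096 : act 3 n49794 = n47711 := d17_2 D47572 D49794 (iv D47711) (iv D43612) (iv F179735)
theorem F223097 : act 5 n49794 = n47577 := d19_2 (iv F212963) D49794 (iv D47577)
theorem F223098 : act 7 n49794 = n47574 := d21_2 (iv F212964) D49794 (iv D47574)
theorem F223099 : act 8 n49794 = n47595 := d22_2 (iv F212965) D49794 (iv D47595)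
def n49795 : Q := act 4 n47572
theorem D49795 : act 4 n47572 = n49795 := rfl
theorem F223100 : act 7 n49795 = n47575 := d32_2 (iv F212964) D49795 (iv D47575)
theorem F223101 : act 8 n49795 = n47596 := d33_2 (iv F212965) D49795 (iv D47596)
def n49796 : Q := act 9 n47572
theorem D49796 : act 9 n47572 = n49796 := rfl
theorem F223102 : act 3 n49796 = n47573 := d29_1 D49796 (iv D47573) D47572
theorem F223103 : act 5 n49796 = n47579 := d38_1 D49796 (iv D47579) (iv F212963)
theorem F223104 : act 7 n49796 = n47576 := d43_1 D49796 (iv D47576) (iv F212964)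
def n49797 : Q := act 1 n47574
theorem D49797 : act 1 n47574 = n49797 := rfl
theorem F223105 : act 3 n49797 = n47713 := d10_2 (iv F212970) D49797 (iv D47713)
theorem F223106 : act 5 n49797 = n47580 := d12_2 (iv F212971) D49797 (iv D47580)
theorem F223107 : act 6 n49797 = n48445 := d13_2 (iv F212972) D49797 (iv D48445)
theorem F223108 : act 8 n49797 = n47598 := d15_2 (iv F212973) D49797 (iv D47598)
def n49798 : Q := act 4 n47574
theorem D49798 : act 4 n47574 = n49798 := rfl
theorem F223109 : act 0 n49798 = n48577 := d3_1 D49798 (iv D48577) (iv F212969)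
theorem F223110 : act 2 n49798 = n47575 := d18_1 D49798 (iv D47575) D47574
theorem F223111 : act 6 n49798 = n48446 := d31_2 (iv F212972) D49798 (iv D48446)
theorem F223112 : act 8 n49798 = n47599 := d33_2 (iv F212973) D49798 (iv D47599)
def n49799 : Q := act 9 n47574
theorem D49799 : act 9 n47574 = n49799 := rfl
theorem F223113 : act 0 n49799 = n48539 := d8_1 D49799 F216745 (iv F212969)
theorem F223114 : act 2 n49799 = n47576 := d23_1 D49799 (iv D47576) D47574
theorem F223115 : act 3 n49799 = n47715 := d29_1 D49799 (iv D47715) (iv F212970)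
theorem F223116 : act 5 n49799 = n47582 := d38_1 D49799 (iv D47582) (iv F212971)
theorem F223117 : act 6 n49799 = n48447 := d41_1 D49799 (iv D48447) (iv F212972)
def n49800 : Q := act 5 n47575
theorem D49800 : act 5 n47575 = n49800 := rfl
theorem F223118 : act 4 n49800 = n47583 := d30_1 D49800 (iv D47583) (iv D43035) (iv F179738) D47575
theorem F223119 : act 8 n49800 = n47601 := d37_2 (iv F212975) D49800 (iv D47601)
def n49801 : Q := act 9 n47575
theorem D49801 : act 9 n47575 = n49801 := rfl
theorem F223120 : act 4 n49801 = n47576 := d34_1 D49801 (iv D47576) D47575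
theorem F223121 : act 6 n49801 = n48449 := d41_1 D49801 (iv D48449) (iv F212974)
def n49802 : Q := act 8 n47576
theorem D49802 : act 8 n47576 = n49802 := rfl
theorem F223122 : act 5 n49802 = n47585 := d37_1 D49802 (iv D47585) (iv F212977)
theorem F223123 : act 6 n49802 = n48450 := d40_1 D49802 (iv D48450) (iv F212978)
theorem F223124 : act 9 n49802 = n47603 := d44_2 D47576 D49802 (iv D47603) (iv D43048) (iv F179740)
def n49803 : Q := act 1 n47577
theorem D49803 : act 1 n47577 = n49803 := rfl
theorem F223125 : act 0 n49803 = n48670 := d0_1 D49803 F217264 F207313 F206673 (iv F212979)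
theorem F223126 : act 3 n49803 = n47717 := d10_2 (iv F212980) D49803 (iv D47717)
theorem F223127 : act 6 n49803 = n49803 := d13_2 F212981 D49803 (iv D49803)
theorem F223128 : act 7 n49803 = n47580 := d14_2 (iv F212982) D49803 (iv D47580)
theorem F223129 : act 8 n49803 = n47604 := d15_2 (iv F212983) D49803 (iv D47604)
def n49804 : Q := act 4 n47577
theorem D49804 : act 4 n47577 = n49804 := rfl
theorem F223130 : act 0 n49804 = n48578 := d3_1 D49804 (iv D48578) (iv F212979)
theorem F223131 : act 2 n49804 = n47578 := d18_1 D49804 (iv D47578) D47577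
theorem F223132 : act 3 n49804 = n48680 := d24_1 D49804 (iv D48680) F207379 F204876 (iv F212980)
theorem F223133 : act 6 n49804 = n49804 := d31_2 F212981 D49804 (iv D49804)
theorem F223134 : act 7 n49804 = n47581 := d32_2 (iv F212982) D49804 (iv D47581)
theorem F223135 : act 8 n49804 = n47605 := d33_2 (iv F212983) D49804 (iv D47605)
def n49805 : Q := act 9 n47577
theorem D49805 : act 9 n47577 = n49805 := rfl
theorem F223136 : act 0 n49805 = n48541 := d8_1 D49805 F216755 (iv F212979)
theorem F223137 : act 2 n49805 = n47579 := d23_1 D49805 (iv D47579) D47577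
theorem F223138 : act 3 n49805 = n47718 := d29_1 D49805 (iv D47718) (iv F212980)
theorem F223139 : act 6 n49805 = n49805 := d41_1 D49805 (iv D49805) F212981
theorem F223140 : act 7 n49805 = n47582 := d43_1 D49805 (iv D47582) (iv F212982)
def n49806 : Q := act 5 n47578
theorem D49806 : act 5 n47578 = n49806 := rfl
theorem F223141 : act 3 n49806 = n49806 := d25_1 D49806 (iv D49806) F212984
theorem F223142 : act 7 n49806 = n47583 := d36_2 (iv F212986) D49806 (iv D47583)
theorem F223143 : act 8 n49806 = n47607 := d37_2 (iv F212987) D49806 (iv D47607)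
def n49807 : Q := act 9 n47578
theorem D49807 : act 9 n47578 = n49807 := rfl
theorem F223144 : act 3 n49807 = n49807 := d29_1 D49807 (iv D49807) F212984
theorem F223145 : act 4 n49807 = n47579 := d34_1 D49807 (iv D47579) D47578
theorem F223146 : act 6 n49807 = n49807 := d41_1 D49807 (iv D49807) F212985
theorem F223147 : act 7 n49807 = n47584 := d43_1 D49807 (iv D47584) (iv F212986)
def n49808 : Q := act 8 n47579
theorem D49808 : act 8 n47579 = n49808 := rfl
theorem F223148 : act 6 n49808 = n49808 := d40_1 D49808 (iv D49808) F212989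
theorem F223149 : act 7 n49808 = n47585 := d42_1 D49808 (iv D47585) (iv F212990)
theorem F223150 : act 9 n49808 = n47609 := d44_2 D47579 D49808 (iv D47609) (iv D43051) (iv F179746)
def n49809 : Q := act 9 n47580
theorem D49809 : act 9 n47580 = n49809 := rfl
theorem F223151 : act 1 n49809 = n47582 := d16_1 D49809 (iv D47582) D47580
theorem F223152 : act 3 n49809 = n47720 := d29_1 D49809 (iv D47720) (iv F212991)
theorem F223153 : act 6 n49809 = n47586 := d41_1 D49809 (iv D47586) (iv F212992)
def n49810 : Q := act 5 n47581
theorem D49810 : act 5 n47581 = n49810 := rfl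
theorem F223154 : act 0 n49810 = n48579 := d4_1 D49810 (iv D48579) (iv F212994)
theorem F223155 : act 2 n49810 = n47583 := d19_1 D49810 (iv D47583) (iv F212995)
theorem F223156 : act 3 n49810 = n48729 := d25_1 D49810 (iv D48729) (iv F212996)
theorem F223157 : act 8 n49810 = n47613 := d37_2 (iv F212998) D49810 (iv D47613)
def n49811 : Q := act 9 n47581
theorem D49811 : act 9 n47581 = n49811 := rfl
theorem F223158 : act 0 n49811 = n48544 := d8_1 D49811 F216768 (iv F212994)
theorem F223159 : act 2 n49811 = n47584 := d23_1 D49811 (iv D47584) (iv F212995)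
theorem F223160 : act 3 n49811 = n48678 := d29_1 D49811 F217301 (iv F212996)
theorem F223161 : act 4 n49811 = n47582 := d34_1 D49811 (iv D47582) D47581
theorem F223162 : act 6 n49811 = n47588 := d41_1 D49811 (iv D47588) (iv F212997)
def n49812 : Q := act 8 n47582
theorem D49812 : act 8 n47582 = n49812 := rfl
theorem F223163 : act 0 n49812 = n48510 := d7_1 D49812 F216658 (iv F212999)
theorem F223164 : act 2 n49812 = n47585 := d22_1 D49812 (iv D47585) (iv F213000)
theorem F223165 : act 3 n49812 = n48419 := d28_1 D49812 (iv D48419) F190293 (iv F204396) (iv F213001)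
theorem F223166 : act 6 n49812 = n47589 := d40_1 D49812 (iv D47589) (iv F213002)
theorem F223167 : act 9 n49812 = n47615 := d44_2 D47582 D49812 (iv D47615) (iv D43054) (iv F179753)
def n49813 : Q := act 6 n47583
theorem D49813 : act 6 n47583 = n49813 := rfl
theorem F223168 : act 3 n49813 = n49813 := d26_1 D49813 (iv D49813) F213003
theorem F223169 : act 5 n49813 = n47590 := d35_1 D49813 (iv D47590) (iv D43040) (iv F179755) D47583
theorem F223170 : act 8 n49813 = n47616 := d40_2 (iv F213004) D49813 (iv D47616)
def n49814 : Q := act 9 n47583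
theorem D49814 : act 9 n47583 = n49814 := rfl
theorem F223171 : act 3 n49814 = n49814 := d29_1 D49814 (iv D49814) F213003
theorem F223172 : act 5 n49814 = n47584 := d38_1 D49814 (iv D47584) D47583
def n49815 : Q := act 8 n47584
theorem D49815 : act 8 n47584 = n49815 := rfl
theorem F223173 : act 4 n49815 = n47585 := d33_1 D49815 (iv D47585) (iv F213006)
theorem F223174 : act 6 n49815 = n47592 := d40_1 D49815 (iv D47592) (iv F213007)
theorem F223175 : act 9 n49815 = n47618 := d44_2 D47584 D49815 (iv D47618) (iv D43056) (iv F179756)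
def n49816 : Q := act 8 n47586
theorem D49816 : act 8 n47586 = n49816 := rfl
theorem F223176 : act 1 n49816 = n47589 := d15_1 D49816 (iv D47589) (iv F213010)
theorem F223177 : act 3 n49816 = n48421 := d28_1 D49816 (iv D48421) F190310 (iv F204466) (iv F213011)
theorem F223178 : act 5 n49816 = n48467 := d37_1 D49816 (iv D48467) (iv F213012)
theorem F223179 : act 7 n49816 = n49816 := d42_1 D49816 (iv D49816) F213013
theorem F223180 : act 9 n49816 = n47622 := d44_2 D47586 D49816 (iv D47622) (iv D43060) (iv F179762)
def n49817 : Q := act 6 n47587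
theorem D49817 : act 6 n47587 = n49817 := rfl
theorem F223181 : act 0 n49817 = n47940 := d5_1 D49817 F214691 (iv F213014)
theorem F223182 : act 1 n49817 = n48012 := d13_1 D49817 F214995 (iv F213015)

end Cfsg.Agent.Helper17.Fi23TC
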