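import Cfsg.Agent.Helper17.Fi23TC.Facts11

set_option autoImplicit false
set_option linter.all false

noncomputable section

namespace Cfsg.Agent.Helper17.Fi23TC

theorem F223183 : act 2 n49817 = n47590 := d20_1 D49817 (iv D47590) (iv F213016)
theorem F223184 : act 3 n49817 = n47966 := d26_1 D49817 F214817 (iv F213017)
theorem F223185 : act 4 n49817 = n48468 := d31_1 D49817 (iv D48468) (iv F213018)
theorem F223186 : act 8 n49817 = n47623 := d40_2 (iv F213020) D49817 (iv D47623)
def n49818 : Q := act 9 n47587
theorem D49818 : act 9 n47587 = n49818 := rfl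
theorem F223187 : act 0 n49818 = n47946 := d8_1 D49818 (iv D47946) (iv F213014)
theorem F223188 : act 1 n49818 = n48022 := d16_1 D49818 (iv D48022) (iv F213015)
theorem F223189 : act 2 n49818 = n47591 := d23_1 D49818 (iv D47591) (iv F213016)
theorem F223190 : act 3 n49818 = n47969 := d29_1 D49818 (iv D47969) (iv F213017)
theorem F223191 : act 4 n49818 = n48469 := d34_1 D49818 (iv D48469) (iv F213018)
theorem F223192 : act 5 n49818 = n47588 := d38_1 D49818 (iv D47588) D47587
theorem F223193 : act 7 n49818 = n49818 := d43_1 D49818 (iv D49818) F213019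
def n49819 : Q := act 8 n47588
theorem D49819 : act 8 n47588 = n49819 := rfl
theorem F223194 : act 0 n49819 = n48524 := d7_1 D49819 F216695 (iv F213021)
theorem F223195 : act 2 n49819 = n47592 := d22_1 D49819 (iv D47592) (iv F213022)
theorem F223196 : act 4 n49819 = n47589 := d33_1 D49819 (iv D47589) (iv F213024)
theorem F223197 : act 7 n49819 = n49819 := d42_1 D49819 (iv D49819) F213025
theorem F223198 : act 9 n49819 = n47625 := d44_2 D47588 D49819 (iv D47625) (iv D43062) (iv F179765)
def n49820 : Q := act 7 n47590
theorem D49820 : act 7 n47590 = n49820 := rfl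
theorem F223199 : act 3 n49820 = n49820 := d27_1 D49820 (iv D49820) F213032
theorem F223200 : act 4 n49820 = n48471 := d32_1 D49820 (iv D48471) (iv F213033)
theorem F223201 : act 6 n49820 = n49820 := d39_1 D49820 (iv D49820) (iv D47590) F179772 D47590
theorem F223202 : act 8 n49820 = n47627 := d42_2 (iv F213034) D49820 (iv D47627)
def n49821 : Q := act 9 n47590
theorem D49821 : act 9 n47590 = n49821 := rfl
theorem F223203 : act 3 n49821 = n49821 := d29_1 D49821 (iv D49821) F213032
theorem F223204 : act 4 n49821 = n48472 := d34_1 D49821 (iv D48472) (iv F213033)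
theorem F223205 : act 6 n49821 = n47591 := d41_1 D49821 (iv D47591) D47590
def n49822 : Q := act 8 n47591
theorem D49822 : act 8 n47591 = n49822 := rfl
theorem F223206 : act 4 n49822 = n48473 := d33_1 D49822 (iv D48473) (iv F213036)
theorem F223207 : act 5 n49822 = n47592 := d37_1 D49822 (iv D47592) (iv F213037)
theorem F223208 : act 7 n49822 = n49822 := d42_1 D49822 (iv D49822) F213038
theorem F223209 : act 9 n49822 = n47629 := d44_2 D47591 D49822 (iv D47629) (iv D43065) (iv F179773)
def n49823 : Q := act 3 n47592
theorem D49823 : act 3 n47592 = n49823 := rfl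
theorem F223210 : act 7 n49823 = n49823 := d27_2 F213040 D49823 (iv D49823)
theorem F223211 : act 8 n49823 = n49823 := d28_2 D47592 D49823 (iv D49823) (iv D47592) F179774
theorem F223212 : act 9 n49823 = n47630 := d29_2 (iv F213041) D49823 (iv D47630)
def n49824 : Q := act 2 n47593
theorem D49824 : act 2 n47593 = n49824 := rfl
theorem F223213 : act 3 n49824 = n47643 := d17_2 D47593 D49824 (iv D47643) (iv D43081) (iv F179780)
theorem F223214 : act 5 n49824 = n49824 := d19_2 F213042 D49824 (iv D49824)
theorem F223215 : act 6 n49824 = n47595 := d20_2 (iv F213043) D49824 (iv D47595)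
theorem F223216 : act 7 n49824 = n48474 := d21_2 (iv F213044) D49824 (iv D48474)
def n49825 : Q := act 4 n47593
theorem D49825 : act 4 n47593 = n49825 := rfl
theorem F223217 : act 6 n49825 = n47596 := d31_2 (iv F213043) D49825 (iv D47596)
theorem F223218 : act 7 n49825 = n48475 := d32_2 (iv F213044) D49825 (iv D48475)
def n49826 : Q := act 9 n47593
theorem D49826 : act 9 n47593 = n49826 := rfl
theorem F223219 : act 3 n49826 = n47594 := d29_1 D49826 (iv D47594) D47593
theorem F223220 : act 5 n49826 = n49826 := d38_1 D49826 (iv D49826) F213042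
theorem F223221 : act 6 n49826 = n47597 := d41_1 D49826 (iv D47597) (iv F213043)
theorem F223222 : act 7 n49826 = n48476 := d43_1 D49826 (iv D48476) (iv F213044)
def n49827 : Q := act 1 n47595
theorem D49827 : act 1 n47595 = n49827 := rfl
theorem F223223 : act 3 n49827 = n47646 := d10_2 (iv F213049) D49827 (iv D47646)
theorem F223224 : act 5 n49827 = n47604 := d12_2 (iv F213050) D49827 (iv D47604)
theorem F223225 : act 7 n49827 = n47598 := d14_2 (iv F213051) D49827 (iv D47598)
def n49828 : Q := act 4 n47595
theorem D49828 : act 4 n47595 = n49828 := rfl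
theorem F223226 : act 2 n49828 = n47596 := d18_1 D49828 (iv D47596) D47595
theorem F223227 : act 7 n49828 = n47599 := d32_2 (iv F213051) D49828 (iv D47599)
def n49829 : Q := act 9 n47595
theorem D49829 : act 9 n47595 = n49829 := rfl
theorem F223228 : act 2 n49829 = n47597 := d23_1 D49829 (iv D47597) D47595
theorem F223229 : act 3 n49829 = n47648 := d29_1 D49829 (iv D47648) (iv F213049)
theorem F223230 : act 5 n49829 = n47606 := d38_1 D49829 (iv D47606) (iv F213050)
theorem F223231 : act 7 n49829 = n47600 := d43_1 D49829 (iv D47600) (iv F213051)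
def n49830 : Q := act 5 n47596
theorem D49830 : act 5 n47596 = n49830 := rfl
theorem F223232 : act 4 n49830 = n47607 := d30_1 D49830 (iv D47607) (iv D43050) (iv F179784) D47596
theorem F223233 : act 7 n49830 = n47601 := d36_2 (iv F213052) D49830 (iv D47601)
def n49831 : Q := act 9 n47596
theorem D49831 : act 9 n47596 = n49831 := rfl
theorem F223234 : act 4 n49831 = n47597 := d34_1 D49831 (iv D47597) D47596
theorem F223235 : act 7 n49831 = n47602 := d43_1 D49831 (iv D47602) (iv F213052)
def n49832 : Q := act 8 n47597
theorem D49832 : act 8 n47597 = n49832 := rfl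
theorem F223236 : act 5 n49832 = n47609 := d37_1 D49832 (iv D47609) (iv F213054)
theorem F223237 : act 7 n49832 = n47603 := d42_1 D49832 (iv D47603) (iv F213055)
def n49833 : Q := act 0 n47598
theorem D49833 : act 0 n47598 = n49833 := rfl
theorem F223238 : act 3 n49833 = n47651 := d2_2 (iv F213056) D49833 (iv D47651)
theorem F223239 : act 5 n49833 = n47610 := d4_2 (iv F213057) D49833 (iv D47610)
theorem F223240 : act 6 n49833 = n48483 := d5_2 (iv F213058) D49833 (iv D48483)
def n49834 : Q := act 4 n47598
theorem D49834 : act 4 n47598 = n49834 := rfl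
theorem F223241 : act 1 n49834 = n47599 := d11_1 D49834 (iv D47599) D47598
theorem F223242 : act 6 n49834 = n48484 := d31_2 (iv F213058) D49834 (iv D48484)
def n49835 : Q := act 9 n47598
theorem D49835 : act 9 n47598 = n49835 := rfl
theorem F223243 : act 1 n49835 = n47600 := d16_1 D49835 (iv D47600) D47598
theorem F223244 : act 3 n49835 = n47653 := d29_1 D49835 (iv D47653) (iv F213056)
theorem F223245 : act 5 n49835 = n47612 := d38_1 D49835 (iv D47612) (iv F213057)
theorem F223246 : act 6 n49835 = n48485 := d41_1 D49835 (iv D48485) (iv F213058)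
def n49836 : Q := act 3 n47599
theorem D49836 : act 3 n47599 = n49836 := rfl
theorem F223247 : act 4 n49836 = n47654 := d24_2 D47599 D49836 (iv D47654) (iv D43087) (iv F179789)
theorem F223248 : act 6 n49836 = n48486 := d26_2 (iv F213060) D49836 (iv D48486)
def n49837 : Q := act 5 n47599
theorem D49837 : act 5 n47599 = n49837 := rfl
theorem F223249 : act 2 n49837 = n47601 := d19_1 D49837 (iv D47601) (iv F213059)
theorem F223250 : act 4 n49837 = n47613 := d30_1 D49837 (iv D47613) (iv D43053) (iv F179790) D47599
def n49838 : Q := act 9 n47599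
theorem D49838 : act 9 n47599 = n49838 := rfl
theorem F223251 : act 2 n49838 = n47602 := d23_1 D49838 (iv D47602) (iv F213059)
theorem F223252 : act 4 n49838 = n47600 := d34_1 D49838 (iv D47600) D47599
theorem F223253 : act 6 n49838 = n48488 := d41_1 D49838 (iv D48488) (iv F213060)
def n49839 : Q := act 8 n47600
theorem D49839 : act 8 n47600 = n49839 := rfl
theorem F223254 : act 2 n49839 = n47603 := d22_1 D49839 (iv D47603) (iv F213061)
theorem F223255 : act 5 n49839 = n47615 := d37_1 D49839 (iv D47615) (iv F213063)
theorem F223256 : act 6 n49839 = n48489 := d40_1 D49839 (iv D48489) (iv F213064)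
def n49840 : Q := act 6 n47601
theorem D49840 : act 6 n47601 = n49840 := rfl
theorem F223257 : act 4 n49840 = n47616 := d31_1 D49840 (iv D47616) (iv F213065)
theorem F223258 : act 5 n49840 = n48490 := d35_1 D49840 (iv D48490) (iv D45815) (iv F179792) D47601
def n49841 : Q := act 9 n47601
theorem D49841 : act 9 n47601 = n49841 := rfl
theorem F223259 : act 4 n49841 = n47617 := d34_1 D49841 (iv D47617) (iv F213065)
theorem F223260 : act 5 n49841 = n47602 := d38_1 D49841 (iv D47602) D47601
def n49842 : Q := act 8 n47602
theorem D49842 : act 8 n47602 = n49842 := rfl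
theorem F223261 : act 4 n49842 = n47603 := d33_1 D49842 (iv D47603) (iv F213066)
theorem F223262 : act 6 n49842 = n48492 := d40_1 D49842 (iv D48492) (iv F213067)
def n49843 : Q := act 0 n47604
theorem D49843 : act 0 n47604 = n49843 := rfl
theorem F223263 : act 1 n49843 = n48673 := d0_2 D47604 D49843 F217277 F212795 F212790
theorem F223264 : act 3 n49843 = n47658 := d2_2 (iv F213070) D49843 (iv D47658)
theorem F223265 : act 6 n49843 = n49843 := d5_2 F213071 D49843 (iv D49843)
theorem F223266 : act 7 n49843 = n47610 := d6_2 (iv F213072) D49843 (iv D47610)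
theorem F223267 : act 8 n49843 = n48670 := d7_2 F223129 D49843 (iv F223125)
def n49844 : Q := act 4 n47604
theorem D49844 : act 4 n47604 = n49844 := rfl
theorem F223268 : act 1 n49844 = n47605 := d11_1 D49844 (iv D47605) D47604
theorem F223269 : act 2 n49844 = n48670 := d18_1 D49844 (iv F219682) F219680
theorem F223270 : act 3 n49844 = n49844 := d24_1 D49844 (iv D49844) F213070 F179936 (iv F213070)
theorem F223271 : act 6 n49844 = n49844 := d31_2 F213071 D49844 (iv D49844)
theorem F223272 : act 7 n49844 = n47611 := d32_2 (iv F213072) D49844 (iv D47611)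
def n49845 : Q := act 9 n47604
theorem D49845 : act 9 n47604 = n49845 := rfl
theorem F223273 : act 1 n49845 = n47606 := d16_1 D49845 (iv D47606) D47604
theorem F223274 : act 3 n49845 = n47659 := d29_1 D49845 (iv D47659) (iv F213070)
theorem F223275 : act 6 n49845 = n49845 := d41_1 D49845 (iv D49845) F213071
theorem F223276 : act 7 n49845 = n47612 := d43_1 D49845 (iv D47612) (iv F213072)
def n49846 : Q := act 5 n47605
theorem D49846 : act 5 n47605 = n49846 := rfl
theorem F223277 : act 2 n49846 = n47607 := d19_1 D49846 (iv D47607) (iv F213073)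
theorem F223278 : act 3 n49846 = n49846 := d25_1 D49846 (iv D49846) F213074
theorem F223279 : act 7 n49846 = n47613 := d36_2 (iv F213076) D49846 (iv D47613)
def n49847 : Q := act 9 n47605
theorem D49847 : act 9 n47605 = n49847 := rfl
theorem F223280 : act 2 n49847 = n47608 := d23_1 D49847 (iv D47608) (iv F213073)
theorem F223281 : act 3 n49847 = n49847 := d29_1 D49847 (iv D49847) F213074
theorem F223282 : act 4 n49847 = n47606 := d34_1 D49847 (iv D47606) D47605
theorem F223283 : act 6 n49847 = n49847 := d41_1 D49847 (iv D49847) F213075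
theorem F223284 : act 7 n49847 = n47614 := d43_1 D49847 (iv D47614) (iv F213076)
def n49848 : Q := act 8 n47606
theorem D49848 : act 8 n47606 = n49848 := rfl
theorem F223285 : act 2 n49848 = n47609 := d22_1 D49848 (iv D47609) (iv F213077)
theorem F223286 : act 6 n49848 = n49848 := d40_1 D49848 (iv D49848) F213079
theorem F223287 : act 7 n49848 = n47615 := d42_1 D49848 (iv D47615) (iv F213080)
def n49849 : Q := act 6 n47607
theorem D49849 : act 6 n47607 = n49849 := rfl
theorem F223288 : act 3 n49849 = n47631 := d26_1 D49849 (iv D47631) (iv F213081)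
theorem F223289 : act 5 n49849 = n49849 := d35_1 D49849 (iv D49849) (iv D47607) F179800 D47607
def n49850 : Q := act 9 n47607
theorem D49850 : act 9 n47607 = n49850 := rfl
theorem F223290 : act 3 n49850 = n47632 := d29_1 D49850 (iv D47632) (iv F213081)
theorem F223291 : act 5 n49850 = n47608 := d38_1 D49850 (iv D47608) D47607
theorem F223292 : act 7 n49850 = n47617 := d43_1 D49850 (iv D47617) (iv F213082)
def n49851 : Q := act 8 n47608
theorem D49851 : act 8 n47608 = n49851 := rfl
theorem F223293 : act 4 n49851 = n47609 := d33_1 D49851 (iv D47609) (iv F213084)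
theorem F223294 : act 6 n49851 = n49851 := d40_1 D49851 (iv D49851) F213085
theorem F223295 : act 7 n49851 = n47618 := d42_1 D49851 (iv D47618) (iv F213086)
def n49852 : Q := act 9 n47610
theorem D49852 : act 9 n47610 = n49852 := rfl
theorem F223296 : act 0 n49852 = n47612 := d8_1 D49852 (iv D47612) D47610
theorem F223297 : act 3 n49852 = n47661 := d29_1 D49852 (iv D47661) (iv F213089)
theorem F223298 : act 6 n49852 = n47619 := d41_1 D49852 (iv D47619) (iv F213090)
def n49853 : Q := act 5 n47611
theorem D49853 : act 5 n47611 = n49853 := rfl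
theorem F223299 : act 1 n49853 = n47613 := d12_1 D49853 (iv D47613) (iv F213091)
theorem F223300 : act 3 n49853 = n49853 := d25_1 D49853 (iv D49853) F213092
def n49854 : Q := act 9 n47611
theorem D49854 : act 9 n47611 = n49854 := rfl
theorem F223301 : act 1 n49854 = n47614 := d16_1 D49854 (iv D47614) (iv F213091)
theorem F223302 : act 3 n49854 = n49854 := d29_1 D49854 (iv D49854) F213092
theorem F223303 : act 4 n49854 = n47612 := d34_1 D49854 (iv D47612) D47611
theorem F223304 : act 6 n49854 = n47621 := d41_1 D49854 (iv D47621) (iv F213093)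
def n49855 : Q := act 8 n47612
theorem D49855 : act 8 n47612 = n49855 := rfl
theorem F223305 : act 1 n49855 = n47615 := d15_1 D49855 (iv D47615) (iv F213094)
theorem F223306 : act 6 n49855 = n47622 := d40_1 D49855 (iv D47622) (iv F213096)
def n49856 : Q := act 6 n47613
theorem D49856 : act 6 n47613 = n49856 := rfl
theorem F223307 : act 2 n49856 = n47616 := d20_1 D49856 (iv D47616) (iv F213097)
theorem F223308 : act 3 n49856 = n49856 := d26_1 D49856 (iv D49856) F213098
theorem F223309 : act 5 n49856 = n47623 := d35_1 D49856 (iv D47623) (iv D43061) (iv F179809) D47613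
def n49857 : Q := act 9 n47613
theorem D49857 : act 9 n47613 = n49857 := rfl
theorem F223310 : act 2 n49857 = n47617 := d23_1 D49857 (iv D47617) (iv F213097)
theorem F223311 : act 3 n49857 = n49857 := d29_1 D49857 (iv D49857) F213098
theorem F223312 : act 5 n49857 = n47614 := d38_1 D49857 (iv D47614) D47613
def n49858 : Q := act 8 n47614
theorem D49858 : act 8 n47614 = n49858 := rfl
theorem F223313 : act 2 n49858 = n47618 := d22_1 D49858 (iv D47618) (iv F213099)
theorem F223314 : act 4 n49858 = n47615 := d33_1 D49858 (iv D47615) (iv F213101)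
theorem F223315 : act 6 n49858 = n47625 := d40_1 D49858 (iv D47625) (iv F213102)
def n49859 : Q := act 3 n47615
theorem D49859 : act 3 n47615 = n49859 := rfl
theorem F223316 : act 0 n49859 = n48461 := d2_1 D49859 (iv F222948) F222946
theorem F223317 : act 2 n49859 = n48403 := d17_1 D49859 (iv F222579) F222578 F212436 (iv F213103)
theorem F223318 : act 6 n49859 = n47626 := d26_2 (iv F213104) D49859 (iv D47626)
theorem F223319 : act 8 n49859 = n47663 := d28_2 D47615 D49859 (iv D47663) (iv D43096) (iv F179811)
theorem F223320 : act 9 n49859 = n48419 := d29_2 F223167 D49859 (iv F223165)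
def n49860 : Q := act 7 n47616
theorem D49860 : act 7 n47616 = n49860 := rfl
theorem F223321 : act 3 n49860 = n47634 := d27_1 D49860 (iv D47634) (iv F213105)
theorem F223322 : act 5 n49860 = n47627 := d36_1 D49860 (iv D47627) (iv F213106)
def n49861 : Q := act 9 n47616
theorem D49861 : act 9 n47616 = n49861 := rfl
theorem F223323 : act 3 n49861 = n47635 := d29_1 D49861 (iv D47635) (iv F213105)
theorem F223324 : act 5 n49861 = n47628 := d38_1 D49861 (iv D47628) (iv F213106)
theorem F223325 : act 6 n49861 = n47617 := d41_1 D49861 (iv D47617) D47616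
def n49862 : Q := act 8 n47617
theorem D49862 : act 8 n47617 = n49862 := rfl
theorem F223326 : act 5 n49862 = n47618 := d37_1 D49862 (iv D47618) (iv F213108)
def n49863 : Q := act 3 n47618
theorem D49863 : act 3 n47618 = n49863 := rfl
theorem F223327 : act 6 n49863 = n47630 := d26_2 (iv F213110) D49863 (iv D47630)
theorem F223328 : act 8 n49863 = n47637 := d28_2 D47618 D49863 (iv D47637) (iv D43072) (iv F179814)
def n49864 : Q := act 8 n47619
theorem D49864 : act 8 n47619 = n49864 := rfl
theorem F223329 : act 0 n49864 = n47622 := d7_1 D49864 (iv D47622) (iv F213111)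
theorem F223330 : act 5 n49864 = n48515 := d37_1 D49864 (iv D48515) (iv F213113)
theorem F223331 : act 7 n49864 = n49864 := d42_1 D49864 (iv D49864) F213114
def n49865 : Q := act 6 n47620
theorem D49865 : act 6 n47620 = n49865 := rfl
theorem F223332 : act 0 n49865 = n47982 := d5_1 D49865 F214887 (iv F213115)
theorem F223333 : act 1 n49865 = n47623 := d13_1 D49865 (iv D47623) (iv F213116)
theorem F223334 : act 2 n49865 = n48456 := d20_1 D49865 F216509 (iv F213117)
theorem F223335 : act 3 n49865 = n49865 := d26_1 D49865 (iv D49865) F213118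
theorem F223336 : act 4 n49865 = n48516 := d31_1 D49865 (iv D48516) (iv F213119)
theorem F223337 : act 8 n49865 = n48012 := d40_2 (iv F213121) D49865 F214995
def n49866 : Q := act 9 n47620
theorem D49866 : act 9 n47620 = n49866 := rfl
theorem F223338 : act 0 n49866 = n47989 := d8_1 D49866 (iv D47989) (iv F213115)
theorem F223339 : act 1 n49866 = n47624 := d16_1 D49866 (iv D47624) (iv F213116)
theorem F223340 : act 2 n49866 = n48465 := d23_1 D49866 (iv D48465) (iv F213117)
theorem F223341 : act 3 n49866 = n49866 := d29_1 D49866 (iv D49866) F213118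
theorem F223342 : act 4 n49866 = n48517 := d34_1 D49866 (iv D48517) (iv F213119)
theorem F223343 : act 5 n49866 = n47621 := d38_1 D49866 (iv D47621) D47620
theorem F223344 : act 7 n49866 = n49866 := d43_1 D49866 (iv D49866) F213120
def n49867 : Q := act 8 n47621
theorem D49867 : act 8 n47621 = n49867 := rfl
theorem F223345 : act 1 n49867 = n47625 := d15_1 D49867 (iv D47625) (iv F213122)
theorem F223346 : act 4 n49867 = n47622 := d33_1 D49867 (iv D47622) (iv F213124)
theorem F223347 : act 7 n49867 = n49867 := d42_1 D49867 (iv D49867) F213125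
def n49868 : Q := act 3 n47622
theorem D49868 : act 3 n47622 = n49868 := rfl
theorem F223348 : act 1 n49868 = n47626 := d10_1 D49868 (iv D47626) (iv F213126)
theorem F223349 : act 5 n49868 = n48519 := d25_2 (iv F213127) D49868 (iv D48519)
theorem F223350 : act 7 n49868 = n49868 := d27_2 F213128 D49868 (iv D49868)
theorem F223351 : act 8 n49868 = n47665 := d28_2 D47622 D49868 (iv D47665) (iv D43098) (iv F179825)
theorem F223352 : act 9 n49868 = n48421 := d29_2 F223180 D49868 (iv F223177)
def n49869 : Q := act 7 n47623
theorem D49869 : act 7 n47623 = n49869 := rfl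
theorem F223353 : act 2 n49869 = n47627 := d21_1 D49869 (iv D47627) (iv F213129)
theorem F223354 : act 3 n49869 = n49869 := d27_1 D49869 (iv D49869) F213130
theorem F223355 : act 4 n49869 = n48520 := d32_1 D49869 (iv D48520) (iv F213131)
theorem F223356 : act 6 n49869 = n49869 := d39_1 D49869 (iv D49869) (iv D47623) F179831 D47623
def n49870 : Q := act 9 n47623
theorem D49870 : act 9 n47623 = n49870 := rfl
theorem F223357 : act 2 n49870 = n47628 := d23_1 D49870 (iv D47628) (iv F213129)
theorem F223358 : act 3 n49870 = n49870 := d29_1 D49870 (iv D49870) F213130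
theorem F223359 : act 4 n49870 = n48521 := d34_1 D49870 (iv D48521) (iv F213131)
theorem F223360 : act 6 n49870 = n47624 := d41_1 D49870 (iv D47624) D47623
def n49871 : Q := act 8 n47624
theorem D49871 : act 8 n47624 = n49871 := rfl
theorem F223361 : act 2 n49871 = n47629 := d22_1 D49871 (iv D47629) (iv F213132)
theorem F223362 : act 4 n49871 = n48522 := d33_1 D49871 (iv D48522) (iv F213134)
theorem F223363 : act 5 n49871 = n47625 := d37_1 D49871 (iv D47625) (iv F213135)
theorem F223364 : act 7 n49871 = n49871 := d42_1 D49871 (iv D49871) F213136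
def n49872 : Q := act 3 n47625
theorem D49872 : act 3 n47625 = n49872 := rfl
theorem F223365 : act 7 n49872 = n49872 := d27_2 F213139 D49872 (iv D49872)
theorem F223366 : act 8 n49872 = n49872 := d28_2 D47625 D49872 (iv D49872) (iv D47625) F179833
def n49873 : Q := act 4 n47626
theorem D49873 : act 4 n47626 = n49873 := rfl
theorem F223367 : act 0 n49873 = n48470 := d3_1 D49873 F216554 (iv F213140)
theorem F223368 : act 2 n49873 = n47876 := d18_1 D49873 F214397 (iv F213141)
theorem F223369 : act 7 n49873 = n49873 := d32_2 F213143 D49873 (iv D49873)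
theorem F223370 : act 8 n49873 = n47666 := d33_2 (iv F213144) D49873 (iv D47666)
theorem F223371 : act 9 n49873 = n47889 := d34_2 (iv F213145) D49873 F214459
def n49874 : Q := act 9 n47627
theorem D49874 : act 9 n47627 = n49874 := rfl
theorem F223372 : act 3 n49874 = n47638 := d29_1 D49874 (iv D47638) (iv F213146)
theorem F223373 : act 4 n49874 = n48525 := d34_1 D49874 (iv D48525) (iv F213147)
theorem F223374 : act 6 n49874 = n49874 := d41_1 D49874 (iv D49874) F213148
theorem F223375 : act 7 n49874 = n47628 := d43_1 D49874 (iv D47628) D47627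
def n49875 : Q := act 8 n47628
theorem D49875 : act 8 n47628 = n49875 := rfl
theorem F223376 : act 4 n49875 = n48526 := d33_1 D49875 (iv D48526) (iv F213150)
theorem F223377 : act 6 n49875 = n47629 := d40_1 D49875 (iv D47629) (iv F213151)
def n49876 : Q := act 3 n47629
theorem D49876 : act 3 n47629 = n49876 := rfl
theorem F223378 : act 5 n49876 = n47630 := d25_2 (iv F213153) D49876 (iv D47630)
theorem F223379 : act 7 n49876 = n49876 := d27_2 F213154 D49876 (iv D49876)
theorem F223380 : act 8 n49876 = n47640 := d28_2 D47629 D49876 (iv D47640) (iv D43075) (iv F179841)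
def n49877 : Q := act 2 n47630
theorem D49877 : act 2 n47630 = n49877 := rfl
theorem F223381 : act 7 n49877 = n49877 := d21_2 F213155 D49877 (iv D49877)
theorem F223382 : act 8 n49877 = n47641 := d22_2 (iv F213156) D49877 (iv D47641)
def n49878 : Q := act 7 n47631
theorem D49878 : act 7 n47631 = n49878 := rfl
theorem F223383 : act 2 n49878 = n49878 := d21_1 D49878 (iv D49878) F213157
theorem F223384 : act 5 n49878 = n49878 := d36_1 D49878 (iv D49878) F213158
theorem F223385 : act 6 n49878 = n47634 := d39_1 D49878 (iv D47634) (iv D43070) (iv F179848) D47631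
theorem F223386 : act 8 n49878 = n49878 := d42_2 F213159 D49878 (iv D49878)
def n49879 : Q := act 9 n47631
theorem D49879 : act 9 n47631 = n49879 := rfl
theorem F223387 : act 2 n49879 = n49879 := d23_1 D49879 (iv D49879) F213157
theorem F223388 : act 5 n49879 = n49879 := d38_1 D49879 (iv D49879) F213158
theorem F223389 : act 6 n49879 = n47632 := d41_1 D49879 (iv D47632) D47631
def n49880 : Q := act 8 n47632
theorem D49880 : act 8 n47632 = n49880 := rfl
theorem F223390 : act 2 n49880 = n49880 := d22_1 D49880 (iv D49880) F213160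
theorem F223391 : act 5 n49880 = n47633 := d37_1 D49880 (iv D47633) (iv F213161)
theorem F223392 : act 7 n49880 = n47636 := d42_1 D49880 (iv D47636) (iv F213162)
theorem F223393 : act 9 n49880 = n49880 := d44_2 D47632 D49880 (iv D49880) (iv D47632) F179849
def n49881 : Q := act 3 n47633
theorem D49881 : act 3 n47633 = n49881 := rfl
theorem F223394 : act 6 n49881 = n49881 := d26_2 F213165 D49881 (iv D49881)
theorem F223395 : act 7 n49881 = n47637 := d27_2 (iv F213166) D49881 (iv D47637)
theorem F223396 : act 9 n49881 = n49881 := d29_2 F213167 D49881 (iv D49881)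
def n49882 : Q := act 9 n47634
theorem D49882 : act 9 n47634 = n49882 := rfl
theorem F223397 : act 2 n49882 = n49882 := d23_1 D49882 (iv D49882) F213168
theorem F223398 : act 5 n49882 = n47638 := d38_1 D49882 (iv D47638) (iv F213169)
theorem F223399 : act 7 n49882 = n47635 := d43_1 D49882 (iv D47635) D47634
def n49883 : Q := act 8 n47635
theorem D49883 : act 8 n47635 = n49883 := rfl
theorem F223400 : act 2 n49883 = n49883 := d22_1 D49883 (iv D49883) F213171
theorem F223401 : act 5 n49883 = n47639 := d37_1 D49883 (iv D47639) (iv F213172)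
theorem F223402 : act 6 n49883 = n47636 := d40_1 D49883 (iv D47636) (iv F213173)
theorem F223403 : act 9 n49883 = n49883 := d44_2 D47635 D49883 (iv D49883) (iv D47635) F179860
def n49884 : Q := act 3 n47636
theorem D49884 : act 3 n47636 = n49884 := rfl
theorem F223404 : act 5 n49884 = n47637 := d25_2 (iv F213175) D49884 (iv D47637)
theorem F223405 : act 9 n49884 = n49884 := d29_2 F213176 D49884 (iv D49884)
def n49885 : Q := act 2 n47637
theorem D49885 : act 2 n47637 = n49885 := rfl
theorem F223406 : act 3 n49885 = n49885 := d17_2 D47637 D49885 (iv D49885) (iv D47637) F179863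
theorem F223407 : act 6 n49885 = n47641 := d20_2 (iv F213177) D49885 (iv D47641)
theorem F223408 : act 9 n49885 = n49885 := d23_2 F213178 D49885 (iv D49885)
def n49886 : Q := act 8 n47638
theorem D49886 : act 8 n47638 = n49886 := rfl
theorem F223409 : act 2 n49886 = n49886 := d22_1 D49886 (iv D49886) F213179
theorem F223410 : act 4 n49886 = n47642 := d33_1 D49886 (iv D47642) (iv F213180)
theorem F223411 : act 6 n49886 = n49886 := d40_1 D49886 (iv D49886) F213181
theorem F223412 : act 7 n49886 = n47639 := d42_1 D49886 (iv D47639) (iv F213182)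
theorem F223413 : act 9 n49886 = n49886 := d44_2 D47638 D49886 (iv D49886) (iv D47638) F179870
def n49887 : Q := act 3 n47639
theorem D49887 : act 3 n47639 = n49887 := rfl
theorem F223414 : act 6 n49887 = n47640 := d26_2 (iv F213185) D49887 (iv D47640)
theorem F223415 : act 9 n49887 = n49887 := d29_2 F213186 D49887 (iv D49887)
def n49888 : Q := act 2 n47640
theorem D49888 : act 2 n47640 = n49888 := rfl
theorem F223416 : act 3 n49888 = n49888 := d17_2 D47640 D49888 (iv D49888) (iv D47640) F179874
theorem F223417 : act 4 n49888 = n48058 := d18_2 F219475 D49888 (iv F219474)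
theorem F223418 : act 5 n49888 = n47641 := d19_2 (iv F213187) D49888 (iv D47641)
theorem F223419 : act 7 n49888 = n49888 := d21_2 F213188 D49888 (iv D49888)
theorem F223420 : act 9 n49888 = n49888 := d23_2 F213189 D49888 (iv D49888)
theorem F223421 : act 1 n48059 = n49888 := d11_3 F223417 F215163 D48059
def n49889 : Q := act 1 n47641
theorem D49889 : act 1 n47641 = n49889 := rfl
theorem F223422 : act 3 n49889 = n49889 := d10_2 F213190 D49889 (iv D49889)
theorem F223423 : act 5 n49889 = n48059 := d12_2 F223418 D49889 F223421
theorem F223424 : act 7 n49889 = n49889 := d14_2 F213191 D49889 (iv D49889)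
theorem F223425 : act 9 n49889 = n49889 := d16_2 F213192 D49889 (iv D49889)
def n49890 : Q := act 1 n47643
theorem D49890 : act 1 n47643 = n49890 := rfl
theorem F223426 : act 2 n49890 = n47667 := d9_2 D47643 D49890 (iv D47667) (iv D43100) (iv F179896)
theorem F223427 : act 5 n49890 = n49890 := d12_2 F213199 D49890 (iv D49890)
theorem F223428 : act 6 n49890 = n47646 := d13_2 (iv F213200) D49890 (iv D47646)
theorem F223429 : act 7 n49890 = n47737 := d14_2 (iv F213201) D49890 F213728
theorem F223430 : act 8 n49890 = n47727 := d15_2 (iv F213202) D49890 (iv D47727)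
theorem F223431 : act 0 n49890 = n48564 := d46_6 (iv F208631) F208628 F178428 D43081 D47643 D49890 F216842 F192363 (iv D46290) F133948 (iv D21788) F65405 F45944 (iv F64805) F64803 F45484 (iv D7221) F23219 (iv F32827) (iv F46504) (iv D10437) (iv F46498) (iv F204944) F59496 F59495 F41888 F29578 D9350 (iv F59439) (iv F84798) (iv F205200) F63190 (iv F64144) (iv F91635) (iv D21276) F64088 (iv F64423) F64422 (iv F203908) F61851 F43495 (iv D9710) (iv F43488) F43487 (iv F61137) (iv F85914) (iv F122869) (iv F204066) (iv F136050) F136049 F94928 F66405 (iv F92611) (iv F130507) (iv F203068) (iv D42830) (iv F177852) (iv F211117) (iv F220508) F220507 F210673 F210672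
theorem F223432 : act 4 n47732 = n49890 := d3_0 F223431 (iv D48564) (iv F213701)
def n49891 : Q := act 4 n47643
theorem D49891 : act 4 n47643 = n49891 := rfl
theorem F223433 : act 1 n49891 = n47732 := d11_1 D49891 F223432 (iv D49890)
theorem F223434 : act 2 n49891 = n47644 := d18_1 D49891 (iv D47644) D47643
theorem F223435 : act 6 n49891 = n47647 := d31_2 (iv F213200) D49891 (iv D47647)
theorem F223436 : act 7 n49891 = n47734 := d32_2 (iv F213201) D49891 F213714
theorem F223437 : act 8 n49891 = n47728 := d33_2 (iv F213202) D49891 (iv D47728)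
theorem F223438 : act 5 n47741 = n49891 := d37_3 F223437 (iv F213677) D47741
def n49892 : Q := act 9 n47643
theorem D49892 : act 9 n47643 = n49892 := rfl
theorem F223439 : act 2 n49892 = n47645 := d23_1 D49892 (iv D47645) D47643
theorem F223440 : act 5 n49892 = n49892 := d38_1 D49892 (iv D49892) F213199
theorem F223441 : act 6 n49892 = n47648 := d41_1 D49892 (iv D47648) (iv F213200)
theorem F223442 : act 7 n49892 = n48530 := d43_1 D49892 (iv D48530) (iv F213201)
def n49893 : Q := act 9 n47644
theorem D49893 : act 9 n47644 = n49893 := rfl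
theorem F223443 : act 1 n49893 = n47669 := d16_1 D49893 (iv D47669) (iv F213203)
theorem F223444 : act 4 n49893 = n47645 := d34_1 D49893 (iv D47645) D47644
theorem F223445 : act 5 n49893 = n47683 := d38_1 D49893 F213409 F213207
theorem F223446 : act 6 n49893 = n47649 := d41_1 D49893 (iv D47649) (iv F213204)
theorem F223447 : act 7 n49893 = n47678 := d43_1 D49893 F213381 (iv F213205)
theorem F223448 : act 8 n49893 = n47673 := d44_1 D49893 (iv D47673) F179991 (iv F204650) (iv F213206)
def n49894 : Q := act 8 n47645
theorem D49894 : act 8 n47645 = n49894 := rfl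
theorem F223449 : act 0 n49894 = n48562 := d7_1 D49894 (iv F223013) F223007
theorem F223450 : act 1 n49894 = n47670 := d15_1 D49894 (iv D47670) (iv F213208)
theorem F223451 : act 3 n49894 = n48388 := d28_1 D49894 (iv F222684) F222679 F212522 (iv F213209)
theorem F223452 : act 4 n49894 = n47673 := d33_1 D49894 (iv F223448) F223444
theorem F223453 : act 5 n49894 = n49894 := d37_1 D49894 (iv D49894) F213210
theorem F223454 : act 6 n49894 = n47650 := d40_1 D49894 (iv D47650) (iv F213211)
theorem F223455 : act 7 n49894 = n47677 := d42_1 D49894 F213376 (iv F213212)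
theorem F223456 : act 9 n49894 = n47672 := d44_2 D47645 D49894 F213350 (iv D43673) (iv F179900)
def n49895 : Q := act 0 n47646
theorem D49895 : act 0 n47646 = n49895 := rfl
theorem F223457 : act 1 n49895 = n48552 := d0_2 D47646 D49895 F216798 F212883 F212879
theorem F223458 : act 2 n49895 = n47671 := d1_2 (iv F213213) D49895 (iv D47671)
theorem F223459 : act 5 n49895 = n47658 := d4_2 (iv F213214) D49895 (iv D47658)
theorem F223460 : act 6 n49895 = n48564 := d5_2 F223428 D49895 (iv F223431)
theorem F223461 : act 7 n49895 = n47651 := d6_2 (iv F213215) D49895 (iv D47651)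
theorem F223462 : act 8 n49895 = n47730 := d7_2 (iv F213216) D49895 (iv D47730)
theorem F223463 : act 4 n48561 = n49895 := d33_3 F223462 F213690 (iv F216830)
def n49896 : Q := act 4 n47646
theorem D49896 : act 4 n47646 = n49896 := rfl
theorem F223464 : act 0 n49896 = n48561 := d3_1 D49896 F223463 (iv D49895)
theorem F223465 : act 1 n49896 = n47647 := d11_1 D49896 (iv D47647) D47646
theorem F223466 : act 2 n49896 = n47672 := d18_1 D49896 (iv D47672) (iv F213213)
theorem F223467 : act 5 n49896 = n49896 := d30_2 (iv F213214) D49896 (iv D49896) F213214 F179936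
theorem F223468 : act 6 n49896 = n47732 := d31_2 F223428 D49896 F223432
theorem F223469 : act 7 n49896 = n47652 := d32_2 (iv F213215) D49896 (iv D47652)
theorem F223470 : act 8 n49896 = n47729 := d33_2 (iv F213216) D49896 F213683
def n49897 : Q := act 9 n47646
theorem D49897 : act 9 n47646 = n49897 := rfl
theorem F223471 : act 1 n49897 = n47648 := d16_1 D49897 (iv D47648) D47646
theorem F223472 : act 2 n49897 = n47673 := d23_1 D49897 (iv D47673) (iv F213213)
theorem F223473 : act 5 n49897 = n47659 := d38_1 D49897 (iv D47659) (iv F213214)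
theorem F223474 : act 7 n49897 = n47653 := d43_1 D49897 (iv D47653) (iv F213215)
def n49898 : Q := act 3 n47647
theorem D49898 : act 3 n47647 = n49898 := rfl
theorem F223475 : act 5 n49898 = n49898 := d25_2 F213218 D49898 (iv D49898)
theorem F223476 : act 7 n49898 = n47654 := d27_2 (iv F213219) D49898 (iv D47654)
def n49899 : Q := act 9 n47647
theorem D49899 : act 9 n47647 = n49899 := rfl
theorem F223477 : act 2 n49899 = n47649 := d23_1 D49899 (iv D47649) (iv F213217)
theorem F223478 : act 4 n49899 = n47648 := d34_1 D49899 (iv D47648) D47647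
theorem F223479 : act 5 n49899 = n49899 := d38_1 D49899 (iv D49899) F213218
theorem F223480 : act 7 n49899 = n47655 := d43_1 D49899 (iv D47655) (iv F213219)
def n49900 : Q := act 8 n47648
theorem D49900 : act 8 n47648 = n49900 := rfl
theorem F223481 : act 0 n49900 = n48565 := d7_1 D49900 (iv F223025) F223020
theorem F223482 : act 2 n49900 = n47650 := d22_1 D49900 (iv D47650) (iv F213221)
theorem F223483 : act 5 n49900 = n47660 := d37_1 D49900 (iv D47660) (iv F213222)
theorem F223484 : act 7 n49900 = n47656 := d42_1 D49900 (iv D47656) (iv F213223)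
theorem F223485 : act 9 n49900 = n47732 := d44_2 D47648 D49900 (iv D47732) (iv D43676) (iv F179907)
def n49901 : Q := act 8 n47649
theorem D49901 : act 8 n47649 = n49901 := rfl
theorem F223486 : act 0 n49901 = n48566 := d7_1 D49901 (iv F223031) F223026
theorem F223487 : act 1 n49901 = n47668 := d15_1 D49901 F213322 (iv F213224)
theorem F223488 : act 4 n49901 = n47650 := d33_1 D49901 (iv D47650) (iv F213225)
theorem F223489 : act 5 n49901 = n49901 := d37_1 D49901 (iv D49901) F213226
theorem F223490 : act 6 n49901 = n47673 := d40_1 D49901 (iv F223448) F223446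
theorem F223491 : act 7 n49901 = n47657 := d42_1 D49901 (iv D47657) (iv F213227)
theorem F223492 : act 9 n49901 = n47667 := d44_2 D47649 D49901 F213314 (iv D43677) (iv F179911)
def n49902 : Q := act 4 n47651
theorem D49902 : act 4 n47651 = n49902 := rfl
theorem F223493 : act 0 n49902 = n47652 := d3_1 D49902 (iv D47652) D47651
theorem F223494 : act 2 n49902 = n47674 := d18_1 D49902 (iv D47674) (iv F213234)
theorem F223495 : act 5 n49902 = n49902 := d30_2 (iv F213235) D49902 (iv D49902) F213235 F179950
theorem F223496 : act 6 n49902 = n47711 := d31_2 (iv F213236) D49902 F213566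
theorem F223497 : act 7 n49902 = n48561 := d32_2 F223461 D49902 F223463
theorem F223498 : act 8 n49902 = n47722 := d33_2 (iv F213237) D49902 F213631
def n49903 : Q := act 9 n47651
theorem D49903 : act 9 n47651 = n49903 := rfl
theorem F223499 : act 0 n49903 = n47653 := d8_1 D49903 (iv D47653) D47651
theorem F223500 : act 2 n49903 = n47675 := d23_1 D49903 (iv D47675) (iv F213234)
theorem F223501 : act 5 n49903 = n47661 := d38_1 D49903 (iv D47661) (iv F213235)
theorem F223502 : act 6 n49903 = n48535 := d41_1 D49903 (iv D48535) (iv F213236)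
def n49904 : Q := act 3 n47652
theorem D49904 : act 3 n47652 = n49904 := rfl
theorem F223503 : act 1 n49904 = n47654 := d10_1 D49904 (iv D47654) (iv F213238)
theorem F223504 : act 5 n49904 = n49904 := d25_2 F213240 D49904 (iv D49904)
theorem F223505 : act 6 n49904 = n48536 := d26_2 (iv F213241) D49904 (iv D48536)
def n49905 : Q := act 9 n47652
theorem D49905 : act 9 n47652 = n49905 := rfl
theorem F223506 : act 1 n49905 = n47655 := d16_1 D49905 (iv D47655) (iv F213238)
theorem F223507 : act 2 n49905 = n47677 := d23_1 D49905 (iv D47677) (iv F213239)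
theorem F223508 : act 4 n49905 = n47653 := d34_1 D49905 (iv D47653) D47652
theorem F223509 : act 5 n49905 = n49905 := d38_1 D49905 (iv D49905) F213240
theorem F223510 : act 6 n49905 = n48534 := d41_1 D49905 F216733 (iv F213241)
theorem F223511 : act 8 n49905 = n48530 := d44_1 D49905 (iv D48530) F190708 (iv F204656) (iv F213242)
def n49906 : Q := act 8 n47653
theorem D49906 : act 8 n47653 = n49906 := rfl
theorem F223512 : act 1 n49906 = n47656 := d15_1 D49906 (iv D47656) (iv F213243)
theorem F223513 : act 2 n49906 = n47678 := d22_1 D49906 (iv D47678) (iv F213244)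
theorem F223514 : act 4 n49906 = n48530 := d33_1 D49906 (iv F223511) F223508
theorem F223515 : act 5 n49906 = n47662 := d37_1 D49906 (iv D47662) (iv F213245)
theorem F223516 : act 6 n49906 = n48533 := d40_1 D49906 F216727 (iv F213246)
theorem F223517 : act 9 n49906 = n47734 := d44_2 D47653 D49906 (iv D47734) (iv D43681) (iv F179919)
def n49907 : Q := act 8 n47654
theorem D49907 : act 8 n47654 = n49907 := rfl
theorem F223518 : act 3 n49907 = n47735 := d28_1 D49907 (iv D47735) (iv D43682) (iv F179923) D47654
theorem F223519 : act 5 n49907 = n49907 := d37_1 D49907 (iv D49907) F213247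
theorem F223520 : act 6 n49907 = n48537 := d40_1 D49907 (iv D48537) (iv F213248)
def n49908 : Q := act 9 n47654
theorem D49908 : act 9 n47654 = n49908 := rfl
theorem F223521 : act 3 n49908 = n47655 := d29_1 D49908 (iv D47655) D47654
theorem F223522 : act 5 n49908 = n49908 := d38_1 D49908 (iv D49908) F213247
theorem F223523 : act 6 n49908 = n48538 := d41_1 D49908 (iv D48538) (iv F213248)
def n49909 : Q := act 8 n47655
theorem D49909 : act 8 n47655 = n49909 := rfl
theorem F223524 : act 0 n49909 = n48571 := d7_1 D49909 (iv F223058) F223053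
theorem F223525 : act 1 n49909 = n48530 := d15_1 D49909 (iv F223511) F223506
theorem F223526 : act 2 n49909 = n47657 := d22_1 D49909 (iv D47657) (iv F213249)
theorem F223527 : act 4 n49909 = n47656 := d33_1 D49909 (iv D47656) (iv F213250)
theorem F223528 : act 5 n49909 = n49909 := d37_1 D49909 (iv D49909) F213251
theorem F223529 : act 6 n49909 = n48531 := d40_1 D49909 F216718 (iv F213252)
theorem F223530 : act 9 n49909 = n47737 := d44_2 D47655 D49909 (iv D47737) (iv D43683) (iv F179923)
def n49910 : Q := act 3 n47656
theorem D49910 : act 3 n47656 = n49910 := rfl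
theorem F223531 : act 0 n49910 = n48447 := d2_1 D49910 F216480 (iv F213253)
theorem F223532 : act 2 n49910 = n48401 := d17_1 D49910 F216324 F190210 (iv F204413) (iv F213254)
theorem F223533 : act 5 n49910 = n47663 := d25_2 (iv F213255) D49910 (iv D47663)
theorem F223534 : act 6 n49910 = n48539 := d26_2 (iv F213256) D49910 (iv D48539)
theorem F223535 : act 9 n49910 = n47738 := d29_2 (iv F213257) D49910 (iv D47738)
def n49911 : Q := act 3 n47657
theorem D49911 : act 3 n47657 = n49911 := rfl
theorem F223536 : act 0 n49911 = n48559 := d2_1 D49911 F216822 (iv F213258)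
theorem F223537 : act 1 n49911 = n47681 := d10_1 D49911 (iv D47681) (iv F213259)
theorem F223538 : act 4 n49911 = n48551 := d24_2 (iv F213260) D49911 F216796 F192037 (iv F204413)
theorem F223539 : act 5 n49911 = n49911 := d25_2 F213261 D49911 (iv D49911)
theorem F223540 : act 6 n49911 = n48061 := d26_2 (iv F213262) D49911 F215175
theorem F223541 : act 9 n49911 = n47739 := d29_2 (iv F213263) D49911 (iv D47739)
def n49912 : Q := act 9 n47658
theorem D49912 : act 9 n47658 = n49912 := rfl
theorem F223542 : act 0 n49912 = n47659 := d8_1 D49912 (iv D47659) D47658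
theorem F223543 : act 1 n49912 = n48728 := d16_1 D49912 (iv D48728) (iv F213264)
theorem F223544 : act 2 n49912 = n47682 := d23_1 D49912 (iv D47682) (iv F213265)
theorem F223545 : act 4 n49912 = n49912 := d34_1 D49912 (iv D49912) F213266
theorem F223546 : act 6 n49912 = n49912 := d41_1 D49912 (iv D49912) F213267
theorem F223547 : act 7 n49912 = n47661 := d43_1 D49912 (iv D47661) (iv F213268)
def n49913 : Q := act 8 n47659
theorem D49913 : act 8 n47659 = n49913 := rfl
theorem F223548 : act 1 n49913 = n47660 := d15_1 D49913 (iv D47660) (iv F213270)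
theorem F223549 : act 2 n49913 = n47683 := d22_1 D49913 (iv D47683) (iv F213271)
theorem F223550 : act 4 n49913 = n49913 := d33_1 D49913 (iv D49913) F213272
theorem F223551 : act 6 n49913 = n49913 := d40_1 D49913 (iv D49913) F213273
theorem F223552 : act 7 n49913 = n47662 := d42_1 D49913 (iv D47662) (iv F213274)
theorem F223553 : act 9 n49913 = n47741 := d44_2 D47659 D49913 (iv D47741) (iv D43687) (iv F179939)
def n49914 : Q := act 3 n47660
theorem D49914 : act 3 n47660 = n49914 := rfl
theorem F223554 : act 0 n49914 = n48453 := d2_1 D49914 F216497 (iv F213275)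
theorem F223555 : act 2 n49914 = n48402 := d17_1 D49914 F216327 F190217 (iv F204149) (iv F213276)
theorem F223556 : act 6 n49914 = n49914 := d26_2 F213278 D49914 (iv D49914)
theorem F223557 : act 7 n49914 = n47663 := d27_2 (iv F213279) D49914 (iv D47663)
theorem F223558 : act 9 n49914 = n47742 := d29_2 (iv F213280) D49914 (iv D47742)
def n49915 : Q := act 8 n47661
theorem D49915 : act 8 n47661 = n49915 := rfl
theorem F223559 : act 0 n49915 = n47662 := d7_1 D49915 (iv D47662) (iv F213281)
theorem F223560 : act 1 n49915 = n48574 := d15_1 D49915 (iv F223065) F223060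
theorem F223561 : act 2 n49915 = n47685 := d22_1 D49915 (iv D47685) (iv F213282)
theorem F223562 : act 4 n49915 = n49915 := d33_1 D49915 (iv D49915) F213283
theorem F223563 : act 6 n49915 = n47664 := d40_1 D49915 (iv D47664) (iv F213284)
theorem F223564 : act 9 n49915 = n47743 := d44_2 D47661 D49915 (iv D47743) (iv D43689) (iv F179952)
def n49916 : Q := act 3 n47662
theorem D49916 : act 3 n47662 = n49916 := rfl
theorem F223565 : act 1 n49916 = n47663 := d10_1 D49916 (iv D47663) (iv F213285)
theorem F223566 : act 6 n49916 = n47665 := d26_2 (iv F213288) D49916 (iv D47665)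
theorem F223567 : act 9 n49916 = n47744 := d29_2 (iv F213289) D49916 (iv D47744)
def n49917 : Q := act 4 n47663
theorem D49917 : act 4 n47663 = n49917 := rfl
theorem F223568 : act 0 n49917 = n48460 := d3_1 D49917 F216523 (iv F213290)
theorem F223569 : act 2 n49917 = n47875 := d18_1 D49917 F214392 (iv F213291)
theorem F223570 : act 3 n49917 = n49917 := d24_1 D49917 (iv D49917) (iv D47663) F179958 D47663
theorem F223571 : act 6 n49917 = n47666 := d31_2 (iv F213292) D49917 (iv D47666)
theorem F223572 : act 9 n49917 = n47745 := d34_2 (iv F213293) D49917 (iv D47745)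
def n49918 : Q := act 9 n47671
theorem D49918 : act 9 n47671 = n49918 := rfl
theorem F223573 : act 0 n49918 = n47673 := d8_1 D49918 (iv D47673) D47671
theorem F223574 : act 1 n49918 = n49918 := d16_1 D49918 (iv D49918) F213338
theorem F223575 : act 4 n49918 = n48562 := d34_1 D49918 (iv D48562) F213343
theorem F223576 : act 5 n49918 = n47682 := d38_1 D49918 (iv D47682) (iv F213339)
theorem F223577 : act 6 n49918 = n48566 := d41_1 D49918 (iv D48566) (iv F213340)
theorem F223578 : act 7 n49918 = n47675 := d43_1 D49918 (iv D47675) (iv F213341)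
def n49919 : Q := act 9 n47674
theorem D49919 : act 9 n47674 = n49919 := rfl
theorem F223579 : act 0 n49919 = n47677 := d8_1 D49919 (iv D47677) (iv F213354)
theorem F223580 : act 1 n49919 = n49919 := d16_1 D49919 (iv D49919) F213355
theorem F223581 : act 3 n49919 = n47710 := d29_1 D49919 (iv D47710) F213360
theorem F223582 : act 4 n49919 = n47675 := d34_1 D49919 (iv D47675) D47674
theorem F223583 : act 5 n49919 = n49919 := d38_1 D49919 (iv D49919) F213356
theorem F223584 : act 6 n49919 = n47712 := d41_1 D49919 (iv D47712) (iv F213357)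
theorem F223585 : act 7 n49919 = n48562 := d43_1 D49919 (iv D48562) (iv F213358)
theorem F223586 : act 8 n49919 = n48423 := d44_1 D49919 (iv D48423) F190397 (iv F204434) (iv F213359)
def n49920 : Q := act 8 n47675
theorem D49920 : act 8 n47675 = n49920 := rfl
theorem F223587 : act 0 n49920 = n47678 := d7_1 D49920 (iv D47678) (iv F213361)
theorem F223588 : act 1 n49920 = n49920 := d15_1 D49920 (iv D49920) F213362
theorem F223589 : act 4 n49920 = n48423 := d33_1 D49920 (iv F223586) F223582
theorem F223590 : act 5 n49920 = n47685 := d37_1 D49920 (iv D47685) (iv F213363)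
theorem F223591 : act 6 n49920 = n48427 := d40_1 D49920 F216415 (iv F213364)
theorem F223592 : act 9 n49920 = n47746 := d44_2 D47675 D49920 (iv D47746) (iv D43709) (iv F180012)
def n49921 : Q := act 9 n47676
theorem D49921 : act 9 n47676 = n49921 := rfl
theorem F223593 : act 0 n49921 = n47710 := d8_1 D49921 (iv D47710) (iv F213365)
theorem F223594 : act 1 n49921 = n47679 := d16_1 D49921 (iv D47679) (iv F213366)
theorem F223595 : act 3 n49921 = n47677 := d29_1 D49921 (iv D47677) D47676
theorem F223596 : act 4 n49921 = n48386 := d34_1 D49921 (iv D48386) (iv F213367)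
theorem F223597 : act 5 n49921 = n49921 := d38_1 D49921 (iv D49921) F213368
theorem F223598 : act 6 n49921 = n47697 := d41_1 D49921 (iv D47697) (iv F213369)
theorem F223599 : act 7 n49921 = n48388 := d43_1 D49921 (iv D48388) (iv F213370)
theorem F223600 : act 8 n49921 = n48373 := d44_1 D49921 (iv D48373) F189840 (iv F204384) (iv F213371)
def n49922 : Q := act 3 n47678
theorem D49922 : act 3 n47678 = n49922 := rfl
theorem F223601 : act 1 n49922 = n47680 := d10_1 D49922 (iv D47680) (iv F213377)
theorem F223602 : act 4 n49922 = n48280 := d24_2 (iv F213378) D49922 F215890 F189208 (iv F190713)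
theorem F223603 : act 5 n49922 = n47686 := d25_2 (iv F213379) D49922 (iv D47686)
theorem F223604 : act 6 n49922 = n48283 := d26_2 (iv F213380) D49922 F215900
theorem F223605 : act 9 n49922 = n47747 := d29_2 (iv F213381) D49922 (iv D47747)
def n49923 : Q := act 8 n47682
theorem D49923 : act 8 n47682 = n49923 := rfl
theorem F223606 : act 0 n49923 = n47683 := d7_1 D49923 (iv D47683) (iv F213400)
theorem F223607 : act 1 n49923 = n49923 := d15_1 D49923 (iv D49923) F213401
theorem F223608 : act 4 n49923 = n49923 := d33_1 D49923 (iv D49923) F213402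
theorem F223609 : act 6 n49923 = n49923 := d40_1 D49923 (iv D49923) F213403
theorem F223610 : act 7 n49923 = n47685 := d42_1 D49923 (iv D47685) (iv F213404)
theorem F223611 : act 9 n49923 = n47748 := d44_2 D47682 D49923 (iv D47748) (iv D43718) (iv F180042)
def n49924 : Q := act 3 n47683
theorem D49924 : act 3 n47683 = n49924 := rfl
theorem F223612 : act 1 n49924 = n47684 := d10_1 D49924 (iv D47684) (iv F213405)
theorem F223613 : act 6 n49924 = n49924 := d26_2 F213407 D49924 (iv D49924)
theorem F223614 : act 7 n49924 = n47686 := d27_2 (iv F213408) D49924 (iv D47686)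
theorem F223615 : act 9 n49924 = n47749 := d29_2 (iv F213409) D49924 (iv D47749)
def n49925 : Q := act 8 n47688
theorem D49925 : act 8 n47688 = n49925 := rfl
theorem F223616 : act 0 n49925 = n48308 := d7_1 D49925 (iv F215997) (iv F213426)
theorem F223617 : act 1 n49925 = n49925 := d15_1 D49925 (iv D49925) F213427
theorem F223618 : act 4 n49925 = n47692 := d33_1 D49925 (iv D47692) (iv F213429)
theorem F223619 : act 5 n49925 = n48549 := d37_1 D49925 (iv D48549) F213432
theorem F223620 : act 6 n49925 = n47689 := d40_1 D49925 (iv D47689) D47688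
theorem F223621 : act 7 n49925 = n48545 := d42_1 D49925 (iv D48545) (iv F213430)
theorem F223622 : act 3 n48306 = n49925 := d27_3 F223621 (iv F222257) F222260
def n49926 : Q := act 9 n47689
theorem D49926 : act 9 n47689 = n49926 := rfl
theorem F223623 : act 0 n49926 = n48377 := d8_1 D49926 (iv D48377) (iv F213433)
theorem F223624 : act 1 n49926 = n49926 := d16_1 D49926 (iv D49926) F213434
theorem F223625 : act 4 n49926 = n47693 := d34_1 D49926 (iv D47693) (iv F213435)
theorem F223626 : act 5 n49926 = n49926 := d38_1 D49926 (iv D49926) F213436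
theorem F223627 : act 7 n49926 = n47691 := d43_1 D49926 (iv D47691) (iv F213437)
theorem F223628 : act 8 n49926 = n47706 := d44_1 D49926 (iv D47706) (iv D43608) (iv F181351) D47689
def n49927 : Q := act 9 n47690
theorem D49927 : act 9 n47690 = n49927 := rfl
theorem F223629 : act 0 n49927 = n48188 := d8_1 D49927 (iv D48188) (iv F213438)
theorem F223630 : act 1 n49927 = n49927 := d16_1 D49927 (iv D49927) F213439
theorem F223631 : act 3 n49927 = n47691 := d29_1 D49927 (iv D47691) D47690
theorem F223632 : act 4 n49927 = n48153 := d34_1 D49927 (iv D48153) (iv F213440)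
theorem F223633 : act 5 n49927 = n49927 := d38_1 D49927 (iv D49927) F213441
theorem F223634 : act 6 n49927 = n48547 := d41_1 D49927 (iv D48547) (iv F213442)
def n49928 : Q := act 9 n47692
theorem D49928 : act 9 n47692 = n49928 := rfl
theorem F223635 : act 0 n49928 = n48373 := d8_1 D49928 (iv D48373) (iv F213450)
theorem F223636 : act 1 n49928 = n49928 := d16_1 D49928 (iv D49928) F213451
theorem F223637 : act 3 n49928 = n48329 := d29_1 D49928 (iv D48329) (iv F213452)
theorem F223638 : act 5 n49928 = n49928 := d38_1 D49928 (iv D49928) F213453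
theorem F223639 : act 6 n49928 = n47693 := d41_1 D49928 (iv D47693) (iv F213454)
theorem F223640 : act 7 n49928 = n48548 := d43_1 D49928 (iv D48548) (iv F213455)
theorem F223641 : act 8 n49928 = n47710 := d44_1 D49928 (iv D47710) (iv D43611) (iv F181360) D47692
def n49929 : Q := act 9 n47694
theorem D49929 : act 9 n47694 = n49929 := rfl
theorem F223642 : act 0 n49929 = n47706 := d8_1 D49929 (iv D47706) (iv F213462)
theorem F223643 : act 1 n49929 = n48068 := d16_1 D49929 (iv D48068) (iv F213463)
theorem F223644 : act 3 n49929 = n48066 := d29_1 D49929 (iv D48066) F213468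
theorem F223645 : act 4 n49929 = n47697 := d34_1 D49929 (iv D47697) (iv F213464)
theorem F223646 : act 5 n49929 = n49929 := d38_1 D49929 (iv D49929) F213465
theorem F223647 : act 6 n49929 = n48386 := d41_1 D49929 (iv D48386) (iv F213466)
theorem F223648 : act 7 n49929 = n47696 := d43_1 D49929 (iv D47696) (iv F213467)
theorem F223649 : act 8 n49929 = n48377 := d44_1 D49929 (iv D48377) F189851 (iv F204404) D47694
def n49930 : Q := act 2 n47695
theorem D49930 : act 2 n47695 = n49930 := rfl
theorem F223650 : act 0 n49930 = n47707 := d1_1 D49930 (iv D47707) (iv F213469)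
theorem F223651 : act 1 n49930 = n48040 := d9_1 D49930 F215096 F187426 (iv F187502) (iv F213470)
theorem F223652 : act 4 n49930 = n48039 := d18_2 (iv F213471) D49930 F215092
theorem F223653 : act 5 n49930 = n49930 := d19_2 F213472 D49930 (iv D49930)
theorem F223654 : act 6 n49930 = n48550 := d20_2 (iv F213473) D49930 (iv D48550)
theorem F223655 : act 7 n49930 = n48045 := d21_2 (iv F213474) D49930 F215115
theorem F223656 : act 8 n49930 = n49930 := d22_2 F213475 D49930 (iv D49930)
def n49931 : Q := act 9 n47695
theorem D49931 : act 9 n47695 = n49931 := rfl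
theorem F223657 : act 0 n49931 = n47709 := d8_1 D49931 (iv D47709) (iv F213469)
theorem F223658 : act 1 n49931 = n48062 := d16_1 D49931 (iv D48062) (iv F213470)
theorem F223659 : act 3 n49931 = n47696 := d29_1 D49931 (iv D47696) D47695
theorem F223660 : act 4 n49931 = n48061 := d34_1 D49931 (iv D48061) (iv F213471)
theorem F223661 : act 5 n49931 = n49931 := d38_1 D49931 (iv D49931) F213472
theorem F223662 : act 6 n49931 = n48551 := d41_1 D49931 (iv D48551) (iv F213473)
theorem F223663 : act 7 n49931 = n48066 := d43_1 D49931 (iv D48066) (iv F213474)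
def n49932 : Q := act 4 n47698
theorem D49932 : act 4 n47698 = n49932 := rfl
theorem F223664 : act 0 n49932 = n47728 := d3_1 D49932 (iv D47728) (iv F213488)
theorem F223665 : act 1 n49932 = n47726 := d11_1 D49932 F213660 F213494
theorem F223666 : act 2 n49932 = n47699 := d18_1 D49932 (iv D47699) D47698
theorem F223667 : act 3 n49932 = n47725 := d24_1 D49932 (iv D47725) F182283 D43680 (iv F213489)
theorem F223668 : act 6 n49932 = n47700 := d31_2 (iv F213491) D49932 (iv D47700)
theorem F223669 : act 7 n49932 = n47733 := d32_2 (iv F213492) D49932 F213709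
theorem F223670 : act 9 n49932 = n47730 := d34_2 (iv F213493) D49932 F213690
theorem F223671 : act 5 n47740 = n49932 := d38_3 F223670 F213691 D47740
def n49933 : Q := act 4 n47701
theorem D49933 : act 4 n47701 = n49933 := rfl
theorem F223672 : act 0 n49933 = n47702 := d3_1 D49933 (iv D47702) D47701
theorem F223673 : act 1 n49933 = n47722 := d11_1 D49933 F213631 (iv F213509)
theorem F223674 : act 2 n49933 = n49933 := d18_1 D49933 (iv D49933) F213510
theorem F223675 : act 3 n49933 = n47727 := d24_1 D49933 (iv F213670) F204425 D46240 (iv F213511)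
theorem F223676 : act 5 n49933 = n49933 := d30_2 (iv F213512) D49933 (iv D49933) F213512 F182140
theorem F223677 : act 6 n49933 = n47723 := d31_2 (iv F213513) D49933 F213639
theorem F223678 : act 7 n49933 = n47736 := d32_2 (iv F213514) D49933 F213724
theorem F223679 : act 9 n49933 = n47731 := d34_2 (iv F213515) D49933 F213697
def n49934 : Q := act 8 n47703
theorem D49934 : act 8 n47703 = n49934 := rfl
theorem F223680 : act 0 n49934 = n47735 := d7_1 D49934 (iv D47735) (iv F213523)
theorem F223681 : act 1 n49934 = n48564 := d15_1 D49934 F216842 (iv F213524)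
theorem F223682 : act 2 n49934 = n49934 := d22_1 D49934 (iv D49934) F213525
theorem F223683 : act 4 n49934 = n48563 := d33_1 D49934 F216838 (iv F213526)
theorem F223684 : act 5 n49934 = n49934 := d37_1 D49934 (iv D49934) F213527
theorem F223685 : act 6 n49934 = n48552 := d40_1 D49934 (iv D48552) (iv F213528)
theorem F223686 : act 7 n49934 = n48568 := d42_1 D49934 F216856 (iv F213529)
def n49935 : Q := act 9 n47704
theorem D49935 : act 9 n47704 = n49935 := rfl
theorem F223687 : act 0 n49935 = n48386 := d8_1 D49935 (iv D48386) (iv F213531)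
theorem F223688 : act 1 n49935 = n49935 := d16_1 D49935 (iv D49935) F213532
theorem F223689 : act 4 n49935 = n47710 := d34_1 D49935 (iv D47710) (iv F213533)
theorem F223690 : act 5 n49935 = n48390 := d38_1 D49935 (iv D48390) (iv F213534)
theorem F223691 : act 6 n49935 = n47706 := d41_1 D49935 (iv D47706) (iv F213535)
theorem F223692 : act 7 n49935 = n48387 := d43_1 D49935 (iv D48387) (iv F213536)
def n49936 : Q := act 2 n47705
theorem D49936 : act 2 n47705 = n49936 := rfl
theorem F223693 : act 0 n49936 = n48045 := d1_1 D49936 F215115 (iv F213537)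
theorem F223694 : act 4 n49936 = n48044 := d18_2 (iv F213539) D49936 F215111
theorem F223695 : act 5 n49936 = n49936 := d19_2 F213540 D49936 (iv D49936)
theorem F223696 : act 7 n49936 = n47707 := d21_2 (iv F213541) D49936 (iv D47707)
theorem F223697 : act 8 n49936 = n49936 := d22_2 F213542 D49936 (iv D49936)
def n49937 : Q := act 9 n47705
theorem D49937 : act 9 n47705 = n49937 := rfl
theorem F223698 : act 0 n49937 = n48066 := d8_1 D49937 (iv D48066) (iv F213537)
theorem F223699 : act 1 n49937 = n49937 := d16_1 D49937 (iv D49937) F213538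
theorem F223700 : act 3 n49937 = n47706 := d29_1 D49937 (iv D47706) D47705
theorem F223701 : act 4 n49937 = n48065 := d34_1 D49937 (iv D48065) (iv F213539)
theorem F223702 : act 5 n49937 = n49937 := d38_1 D49937 (iv D49937) F213540
theorem F223703 : act 7 n49937 = n47709 := d43_1 D49937 (iv D47709) (iv F213541)
def n49938 : Q := act 1 n47707
theorem D49938 : act 1 n47707 = n49938 := rfl
theorem F223704 : act 2 n49938 = n49938 := d9_2 D47707 D49938 (iv D49938) (iv D47707) F182172
theorem F223705 : act 5 n49938 = n49938 := d12_2 F213547 D49938 (iv D49938)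
theorem F223706 : act 6 n49938 = n48556 := d13_2 (iv F213548) D49938 (iv D48556)
theorem F223707 : act 8 n49938 = n49938 := d15_2 F213549 D49938 (iv D49938)
def n49939 : Q := act 4 n47707
theorem D49939 : act 4 n47707 = n49939 := rfl
theorem F223708 : act 0 n49939 = n48039 := d3_1 D49939 (iv F223652) F223650
theorem F223709 : act 2 n49939 = n47708 := d18_1 D49939 (iv D47708) D47707
theorem F223710 : act 6 n49939 = n48557 := d31_2 (iv F213548) D49939 (iv D48557)
theorem F223711 : act 7 n49939 = n48044 := d32_2 F223696 D49939 (iv F223694)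
theorem F223712 : act 8 n49939 = n49939 := d33_2 F213549 D49939 (iv D49939)
theorem F223713 : act 5 n48051 = n49939 := d36_3 F223711 F215112 (iv F215135)
def n49940 : Q := act 9 n47707
theorem D49940 : act 9 n47707 = n49940 := rfl
theorem F223714 : act 2 n49940 = n47709 := d23_1 D49940 (iv D47709) D47707
theorem F223715 : act 5 n49940 = n49940 := d38_1 D49940 (iv D49940) F213547
theorem F223716 : act 6 n49940 = n48558 := d41_1 D49940 (iv D48558) (iv F213548)
def n49941 : Q := act 9 n47708
theorem D49941 : act 9 n47708 = n49941 := rfl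
theorem F223717 : act 0 n49941 = n48061 := d8_1 D49941 (iv D48061) (iv F213550)
theorem F223718 : act 1 n49941 = n49941 := d16_1 D49941 (iv D49941) F213551
theorem F223719 : act 3 n49941 = n47716 := d29_1 D49941 (iv D47716) (iv F213552)
theorem F223720 : act 4 n49941 = n47709 := d34_1 D49941 (iv D47709) D47708
theorem F223721 : act 5 n49941 = n48071 := d38_1 D49941 (iv D48071) F213556
theorem F223722 : act 6 n49941 = n48559 := d41_1 D49941 (iv D48559) (iv F213553)
theorem F223723 : act 7 n49941 = n48065 := d43_1 D49941 (iv D48065) (iv F213554)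
def n49942 : Q := act 8 n47709
theorem D49942 : act 8 n47709 = n49942 := rfl
theorem F223724 : act 1 n49942 = n49942 := d15_1 D49942 (iv D49942) F213557
theorem F223725 : act 5 n49942 = n49942 := d37_1 D49942 (iv D49942) F213559
theorem F223726 : act 6 n49942 = n48560 := d40_1 D49942 (iv D48560) (iv F213560)
theorem F223727 : act 9 n49942 = n49942 := d44_2 D47709 D49942 (iv D49942) (iv D47709) F182175
def n49943 : Q := act 1 n47711
theorem D49943 : act 1 n47711 = n49943 := rfl
theorem F223728 : act 0 n49943 = n48429 := d0_1 D49943 F216420 F190419 (iv F190738) (iv F213565)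
theorem F223729 : act 2 n49943 = n49943 := d9_2 D47711 D49943 (iv D49943) (iv D47711) F182184
theorem F223730 : act 4 n49943 = n48428 := d11_2 (iv F213566) D49943 F216416
theorem F223731 : act 5 n49943 = n47717 := d12_2 (iv F213567) D49943 (iv D47717)
theorem F223732 : act 7 n49943 = n47713 := d14_2 (iv F213568) D49943 (iv D47713)
theorem F223733 : act 8 n49943 = n47723 := d15_2 (iv F213569) D49943 (iv D47723)
def n49944 : Q := act 9 n47711
theorem D49944 : act 9 n47711 = n49944 := rfl
theorem F223734 : act 0 n49944 = n48534 := d8_1 D49944 F216733 (iv F213565)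
theorem F223735 : act 2 n49944 = n47712 := d23_1 D49944 (iv D47712) D47711
theorem F223736 : act 4 n49944 = n48535 := d34_1 D49944 (iv D48535) (iv F213566)
theorem F223737 : act 5 n49944 = n47718 := d38_1 D49944 (iv D47718) (iv F213567)
theorem F223738 : act 7 n49944 = n47715 := d43_1 D49944 (iv D47715) (iv F213568)
theorem F223739 : act 8 n49944 = n48426 := d44_1 D49944 (iv D48426) F190405 (iv F204429) (iv F213569)
def n49945 : Q := act 0 n47713
theorem D49945 : act 0 n47713 = n49945 := rfl
theorem F223740 : act 1 n49945 = n48425 := d0_2 D47713 D49945 F216401 F204693 (iv F204470)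
theorem F223741 : act 2 n49945 = n49945 := d1_2 F213577 D49945 (iv D49945)
theorem F223742 : act 5 n49945 = n47719 := d4_2 (iv F213578) D49945 (iv D47719)
theorem F223743 : act 6 n49945 = n48567 := d5_2 (iv F213579) D49945 (iv D48567)
theorem F223744 : act 7 n49945 = n48429 := d6_2 F223732 D49945 (iv F223728)
theorem F223745 : act 8 n49945 = n47724 := d7_2 (iv F213580) D49945 (iv D47724)
theorem F223746 : act 4 n48424 = n49945 := d33_3 F223745 (iv F213650) (iv F216400)
def n49946 : Q := act 4 n47713
theorem D49946 : act 4 n47713 = n49946 := rfl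
theorem F223747 : act 0 n49946 = n48424 := d3_1 D49946 F223746 (iv D49945)
theorem F223748 : act 1 n49946 = n47714 := d11_1 D49946 (iv D47714) D47713
theorem F223749 : act 2 n49946 = n49946 := d18_1 D49946 (iv D49946) F213577
theorem F223750 : act 5 n49946 = n48433 := d30_2 (iv F213578) D49946 F216435 F207327 (iv F204473)
theorem F223751 : act 6 n49946 = n48568 := d31_2 (iv F213579) D49946 (iv D48568)
theorem F223752 : act 7 n49946 = n48428 := d32_2 F223732 D49946 (iv F223730)
theorem F223753 : act 8 n49946 = n47725 := d33_2 (iv F213580) D49946 (iv D47725)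
def n49947 : Q := act 9 n47713
theorem D49947 : act 9 n47713 = n49947 := rfl
theorem F223754 : act 1 n49947 = n47715 := d16_1 D49947 (iv D47715) D47713
theorem F223755 : act 2 n49947 = n49947 := d23_1 D49947 (iv D49947) F213577
theorem F223756 : act 5 n49947 = n47720 := d38_1 D49947 (iv D47720) (iv F213578)
theorem F223757 : act 6 n49947 = n48569 := d41_1 D49947 (iv D48569) (iv F213579)
theorem F223758 : act 8 n49947 = n48430 := d44_1 D49947 (iv D48430) F190418 (iv F204531) (iv F213580)
def n49948 : Q := act 3 n47714
theorem D49948 : act 3 n47714 = n49948 := rfl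
theorem F223759 : act 0 n49948 = n48477 := d2_1 D49948 F216572 (iv F213581)
theorem F223760 : act 5 n49948 = n48493 := d25_2 (iv F213583) D49948 F216604
theorem F223761 : act 6 n49948 = n48570 := d26_2 (iv F213584) D49948 (iv D48570)
theorem F223762 : act 7 n49948 = n48483 := d27_2 (iv F213585) D49948 F216587
def n49949 : Q := act 9 n47714
theorem D49949 : act 9 n47714 = n49949 := rfl
theorem F223763 : act 0 n49949 = n48531 := d8_1 D49949 (iv D48531) (iv F213581)
theorem F223764 : act 2 n49949 = n47716 := d23_1 D49949 (iv D47716) (iv F213582)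
theorem F223765 : act 4 n49949 = n47715 := d34_1 D49949 (iv D47715) D47714
theorem F223766 : act 5 n49949 = n48540 := d38_1 D49949 (iv D48540) (iv F213583)
theorem F223767 : act 6 n49949 = n48571 := d41_1 D49949 (iv D48571) (iv F213584)
theorem F223768 : act 7 n49949 = n48535 := d43_1 D49949 (iv D48535) (iv F213585)
theorem F223769 : act 8 n49949 = n48432 := d44_1 D49949 (iv D48432) F190422 (iv F204538) (iv F213586)
def n49950 : Q := act 9 n47717
theorem D49950 : act 9 n47717 = n49950 := rfl
theorem F223770 : act 0 n49950 = n48671 := d8_1 D49950 (iv D48671) (iv F213599)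
theorem F223771 : act 1 n49950 = n47718 := d16_1 D49950 (iv D47718) D47717
theorem F223772 : act 2 n49950 = n49950 := d23_1 D49950 (iv D49950) F213600
theorem F223773 : act 4 n49950 = n48669 := d34_1 D49950 (iv D48669) (iv F213601)
theorem F223774 : act 6 n49950 = n49950 := d41_1 D49950 (iv D49950) F213602
theorem F223775 : act 7 n49950 = n47720 := d43_1 D49950 (iv D47720) (iv F213603)
theorem F223776 : act 8 n49950 = n48434 := d44_1 D49950 (iv D48434) F190438 (iv F204438) (iv F213604)
def n49951 : Q := act 9 n47719
theorem D49951 : act 9 n47719 = n49951 := rfl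
theorem F223777 : act 0 n49951 = n47720 := d8_1 D49951 (iv D47720) D47719
theorem F223778 : act 1 n49951 = n48542 := d16_1 D49951 F216761 (iv F213611)
theorem F223779 : act 2 n49951 = n49951 := d23_1 D49951 (iv D49951) F213612
theorem F223780 : act 4 n49951 = n48668 := d34_1 D49951 (iv D48668) (iv F213613)
theorem F223781 : act 6 n49951 = n47721 := d41_1 D49951 (iv D47721) (iv F213614)
theorem F223782 : act 7 n49951 = n48671 := d43_1 D49951 (iv D48671) (iv F213615)
theorem F223783 : act 8 n49951 = n48435 := d44_1 D49951 (iv D48435) F190454 (iv F204530) (iv F213616)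
def n49952 : Q := act 8 n47726
theorem D49952 : act 8 n47726 = n49952 := rfl
theorem F223784 : act 0 n49952 = n48563 := d7_1 D49952 F216838 (iv F213658)
theorem F223785 : act 2 n49952 = n49952 := d22_1 D49952 (iv D49952) F213659
theorem F223786 : act 4 n49952 = n47735 := d33_1 D49952 (iv D47735) (iv F213660)
theorem F223787 : act 5 n49952 = n48572 := d37_1 D49952 F216868 (iv F213661)
theorem F223788 : act 6 n49952 = n48575 := d40_1 D49952 (iv D48575) (iv F213662)
theorem F223789 : act 7 n49952 = n48567 := d42_1 D49952 F216852 (iv F213663)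
def n49953 : Q := act 8 n47731
theorem D49953 : act 8 n47731 = n49953 := rfl
theorem F223790 : act 0 n49953 = n48568 := d7_1 D49953 F216856 (iv F213694)
theorem F223791 : act 1 n49953 = n48422 := d15_1 D49953 F216391 (iv F213695)
theorem F223792 : act 2 n49953 = n49953 := d22_1 D49953 (iv D49953) F213696
theorem F223793 : act 4 n49953 = n48567 := d33_1 D49953 F216852 (iv F213697)
theorem F223794 : act 5 n49953 = n49953 := d37_1 D49953 (iv D49953) F213698
theorem F223795 : act 6 n49953 = n48424 := d40_1 D49953 F216400 (iv F213699)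
theorem F223796 : act 7 n49953 = n47735 := d42_1 D49953 (iv D47735) (iv F213700)
def n49954 : Q := act 3 n47732
theorem D49954 : act 3 n47732 = n49954 := rfl
theorem F223797 : act 0 n49954 = n48442 := d2_1 D49954 F216465 (iv F213701)
theorem F223798 : act 2 n49954 = n48398 := d17_1 D49954 (iv D48398) F190203 (iv F204147) (iv F213702)
theorem F223799 : act 5 n49954 = n47742 := d25_2 (iv F213703) D49954 (iv D47742)
theorem F223800 : act 7 n49954 = n47738 := d27_2 (iv F213704) D49954 (iv D47738)
theorem F223801 : act 8 n49954 = n48406 := d28_2 D47732 D49954 F216341 F190405 (iv F204425)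
def n49955 : Q := act 8 n47733
theorem D49955 : act 8 n47733 = n49955 := rfl
theorem F223802 : act 0 n49955 = n47734 := d7_1 D49955 (iv D47734) (iv F213705)
theorem F223803 : act 1 n49955 = n48567 := d15_1 D49955 F216852 (iv F213706)
theorem F223804 : act 2 n49955 = n47746 := d22_1 D49955 (iv D47746) (iv F213707)
theorem F223805 : act 4 n49955 = n48422 := d33_1 D49955 F216391 (iv F213709)
theorem F223806 : act 5 n49955 = n47743 := d37_1 D49955 (iv D47743) (iv F213710)
theorem F223807 : act 6 n49955 = n48425 := d40_1 D49955 F216405 (iv F213711)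
def n49956 : Q := act 3 n47734
theorem D49956 : act 3 n47734 = n49956 := rfl
theorem F223808 : act 1 n49956 = n47738 := d10_1 D49956 (iv D47738) (iv F213712)
theorem F223809 : act 5 n49956 = n47744 := d25_2 (iv F213715) D49956 (iv D47744)
theorem F223810 : act 6 n49956 = n48532 := d26_2 (iv F213716) D49956 (iv D48532)
theorem F223811 : act 8 n49956 = n48409 := d28_2 D47734 D49956 F216350 F190418 (iv F204527)
def n49957 : Q := act 9 n47735
theorem D49957 : act 9 n47735 = n49957 := rfl
theorem F223812 : act 2 n49957 = n49957 := d23_1 D49957 (iv D49957) F213717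
theorem F223813 : act 5 n49957 = n49957 := d38_1 D49957 (iv D49957) F213718
theorem F223814 : act 6 n49957 = n48576 := d41_1 D49957 (iv D48576) (iv F213719)
def n49958 : Q := act 8 n47736
theorem D49958 : act 8 n47736 = n49958 := rfl
theorem F223815 : act 0 n49958 = n48575 := d7_1 D49958 (iv D48575) (iv F213720)
theorem F223816 : act 1 n49958 = n48561 := d15_1 D49958 F216830 (iv F213721)
theorem F223817 : act 2 n49958 = n49958 := d22_1 D49958 (iv D49958) F213722
theorem F223818 : act 4 n49958 = n48552 := d33_1 D49958 (iv D48552) (iv F213724)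
theorem F223819 : act 5 n49958 = n49958 := d37_1 D49958 (iv D49958) F213725
theorem F223820 : act 6 n49958 = n48563 := d40_1 D49958 F216838 (iv F213726)
def n49959 : Q := act 3 n47737
theorem D49959 : act 3 n47737 = n49959 := rfl
theorem F223821 : act 0 n49959 = n48570 := d2_1 D49959 (iv D48570) (iv F213727)
theorem F223822 : act 1 n49959 = n48474 := d10_1 D49959 F216565 (iv F213728)
theorem F223823 : act 5 n49959 = n49959 := d25_2 F213731 D49959 (iv D49959)
theorem F223824 : act 6 n49959 = n48477 := d26_2 (iv F213732) D49959 F216572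
def n49960 : Q := act 4 n47738
theorem D49960 : act 4 n47738 = n49960 := rfl
theorem F223825 : act 0 n49960 = n48446 := d3_1 D49960 (iv D48446) (iv F213733)
theorem F223826 : act 2 n49960 = n48400 := d18_1 D49960 (iv D48400) (iv F213734)
theorem F223827 : act 6 n49960 = n48577 := d31_2 (iv F213736) D49960 (iv D48577)
theorem F223828 : act 8 n49960 = n48410 := d33_2 (iv F213737) D49960 (iv D48410)
def n49961 : Q := act 2 n47739
theorem D49961 : act 2 n47739 = n49961 := rfl
theorem F223829 : act 0 n49961 = n48557 := d1_1 D49961 F216816 (iv F213738)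
theorem F223830 : act 1 n49961 = n48037 := d9_1 D49961 (iv D48037) F187416 (iv F204582) (iv F213739)
theorem F223831 : act 4 n49961 = n48550 := d18_2 (iv F213740) D49961 (iv D48550)
theorem F223832 : act 5 n49961 = n49961 := d19_2 F213741 D49961 (iv D49961)
theorem F223833 : act 6 n49961 = n48039 := d20_2 (iv F213742) D49961 F215092
theorem F223834 : act 8 n49961 = n49961 := d22_2 F213743 D49961 (iv D49961)
def n49962 : Q := act 8 n47740
theorem D49962 : act 8 n47740 = n49962 := rfl
theorem F223835 : act 0 n49962 = n47741 := d7_1 D49962 (iv D47741) (iv F213744)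
theorem F223836 : act 1 n49962 = n48572 := d15_1 D49962 F216868 (iv F213745)
theorem F223837 : act 2 n49962 = n47748 := d22_1 D49962 (iv D47748) (iv F213746)
theorem F223838 : act 4 n49962 = n49962 := d33_1 D49962 (iv D49962) F213748
theorem F223839 : act 6 n49962 = n49962 := d40_1 D49962 (iv D49962) F213749
theorem F223840 : act 7 n49962 = n47743 := d42_1 D49962 (iv D47743) (iv F213750)
def n49963 : Q := act 3 n47741
theorem D49963 : act 3 n47741 = n49963 := rfl
theorem F223841 : act 1 n49963 = n47742 := d10_1 D49963 (iv D47742) (iv F213751)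
theorem F223842 : act 6 n49963 = n49963 := d26_2 F213754 D49963 (iv D49963)
theorem F223843 : act 7 n49963 = n47744 := d27_2 (iv F213755) D49963 (iv D47744)
theorem F223844 : act 8 n49963 = n48414 := d28_2 D47741 D49963 F216362 F190438 (iv F204427)
def n49964 : Q := act 4 n47742
theorem D49964 : act 4 n47742 = n49964 := rfl
theorem F223845 : act 0 n49964 = n48452 := d3_1 D49964 (iv D48452) (iv F213756)
theorem F223846 : act 2 n49964 = n47873 := d18_1 D49964 F214378 (iv F213757)
theorem F223847 : act 3 n49964 = n49964 := d24_1 D49964 (iv D49964) (iv D47742) F182478 D47742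
theorem F223848 : act 6 n49964 = n49964 := d31_2 F213758 D49964 (iv D49964)
theorem F223849 : act 7 n49964 = n47745 := d32_2 (iv F213759) D49964 (iv D47745)
theorem F223850 : act 8 n49964 = n47882 := d33_2 (iv F213760) D49964 F214422
def n49965 : Q := act 5 n47745
theorem D49965 : act 5 n47745 = n49965 := rfl
theorem F223851 : act 0 n49965 = n48459 := d4_1 D49965 (iv D48459) (iv F213769)
theorem F223852 : act 2 n49965 = n47871 := d19_1 D49965 F214369 (iv F213770)
theorem F223853 : act 3 n49965 = n49965 := d25_1 D49965 (iv D49965) F213771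
theorem F223854 : act 8 n49965 = n47879 := d37_2 (iv F213773) D49965 F214412
def n49966 : Q := act 9 n47751
theorem D49966 : act 9 n47751 = n49966 := rfl
theorem F223855 : act 0 n49966 = n47765 := d8_1 D49966 (iv D47765) (iv F213801)
theorem F223856 : act 1 n49966 = n48085 := d16_1 D49966 (iv D48085) (iv F213802)
theorem F223857 : act 3 n49966 = n47752 := d29_1 D49966 (iv D47752) D47751
theorem F223858 : act 4 n49966 = n48093 := d34_1 D49966 (iv D48093) (iv F213803)
theorem F223859 : act 6 n49966 = n47757 := d41_1 D49966 (iv D47757) (iv F213804)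
theorem F223860 : act 7 n49966 = n47783 := d43_1 D49966 (iv D47783) (iv F213805)
def n49967 : Q := act 8 n47753
theorem D49967 : act 8 n47753 = n49967 := rfl
theorem F223861 : act 0 n49967 = n48122 := d7_1 D49967 (iv D48122) (iv F213814)
theorem F223862 : act 1 n49967 = n48090 := d15_1 D49967 (iv D48090) (iv F213815)
theorem F223863 : act 3 n49967 = n47771 := d28_1 D49967 (iv D47771) F184994 (iv F184708) (iv F213816)
theorem F223864 : act 4 n49967 = n48099 := d33_1 D49967 (iv D48099) (iv F213817)
theorem F223865 : act 7 n49967 = n47788 := d42_1 D49967 (iv D47788) (iv F213818)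
def n49968 : Q := act 9 n47754
theorem D49968 : act 9 n47754 = n49968 := rfl
theorem F223866 : act 0 n49968 = n48089 := d8_1 D49968 (iv D48089) (iv F213819)
theorem F223867 : act 1 n49968 = n47757 := d16_1 D49968 (iv D47757) (iv F213820)
theorem F223868 : act 3 n49968 = n47755 := d29_1 D49968 (iv D47755) D47754
theorem F223869 : act 4 n49968 = n48080 := d34_1 D49968 (iv D48080) (iv F213821)
theorem F223870 : act 6 n49968 = n48085 := d41_1 D49968 (iv D48085) (iv F213822)
theorem F223871 : act 7 n49968 = n47793 := d43_1 D49968 (iv D47793) (iv F213823)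
def n49969 : Q := act 9 n47756
theorem D49969 : act 9 n47756 = n49969 := rfl
theorem F223872 : act 0 n49969 = n47770 := d8_1 D49969 (iv D47770) (iv F213832)
theorem F223873 : act 1 n49969 = n48080 := d16_1 D49969 (iv D48080) (iv F213833)
theorem F223874 : act 3 n49969 = n47758 := d29_1 D49969 (iv D47758) (iv F213834)
theorem F223875 : act 4 n49969 = n47757 := d34_1 D49969 (iv D47757) D47756
theorem F223876 : act 6 n49969 = n48093 := d41_1 D49969 (iv D48093) (iv F213835)
theorem F223877 : act 7 n49969 = n47798 := d43_1 D49969 (iv D47798) (iv F213836)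
def n49970 : Q := act 8 n47757
theorem D49970 : act 8 n47757 = n49970 := rfl
theorem F223878 : act 0 n49970 = n47771 := d7_1 D49970 (iv D47771) (iv F213838)
theorem F223879 : act 3 n49970 = n48122 := d28_1 D49970 (iv D48122) F188199 (iv F201904) (iv F213839)
theorem F223880 : act 7 n49970 = n47799 := d42_1 D49970 (iv D47799) (iv F213840)
def n49971 : Q := act 8 n47761
theorem D49971 : act 8 n47761 = n49971 := rfl
theorem F223881 : act 1 n49971 = n48106 := d15_1 D49971 (iv D48106) (iv F213864)
theorem F223882 : act 4 n49971 = n48113 := d33_1 D49971 (iv D48113) (iv F213866)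
theorem F223883 : act 6 n49971 = n48122 := d40_1 D49971 (iv D48122) (iv F213867)
theorem F223884 : act 7 n49971 = n47813 := d42_1 D49971 (iv D47813) (iv F213868)
theorem F223885 : act 9 n49971 = n47771 := d44_2 D47761 D49971 (iv D47771) (iv D44288) (iv F184965)
def n49972 : Q := act 9 n47762
theorem D49972 : act 9 n47762 = n49972 := rfl
theorem F223886 : act 1 n49972 = n48110 := d16_1 D49972 (iv D48110) (iv F213869)
theorem F223887 : act 3 n49972 = n47763 := d29_1 D49972 (iv D47763) D47762
theorem F223888 : act 5 n49972 = n47765 := d38_1 D49972 (iv D47765) (iv F213870)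
theorem F223889 : act 7 n49972 = n47853 := d43_1 D49972 F214272 (iv F213871)
def n49973 : Q := act 9 n47764
theorem D49973 : act 9 n47764 = n49973 := rfl
theorem F223890 : act 2 n49973 = n47765 := d23_1 D49973 (iv D47765) D47764
theorem F223891 : act 3 n49973 = n47776 := d29_1 D49973 (iv D47776) (iv F213879)
theorem F223892 : act 4 n49973 = n48105 := d34_1 D49973 (iv D48105) (iv F213880)
theorem F223893 : act 6 n49973 = n47768 := d41_1 D49973 (iv D47768) (iv F213881)
theorem F223894 : act 7 n49973 = n48237 := d43_1 D49973 (iv D48237) (iv F213882)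
def n49974 : Q := act 8 n47765
theorem D49974 : act 8 n47765 = n49974 := rfl
theorem F223895 : act 1 n49974 = n48113 := d15_1 D49974 (iv D48113) (iv F213884)
theorem F223896 : act 4 n49974 = n48106 := d33_1 D49974 (iv D48106) (iv F213886)
theorem F223897 : act 6 n49974 = n47771 := d40_1 D49974 (iv D47771) (iv F213887)
theorem F223898 : act 7 n49974 = n48240 := d42_1 D49974 (iv D48240) (iv F213888)
theorem F223899 : act 9 n49974 = n48122 := d44_2 D47765 D49974 (iv D48122) (iv D45121) (iv F201804)
def n49975 : Q := act 4 n47766
theorem D49975 : act 4 n47766 = n49975 := rfl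
theorem F223900 : act 1 n49975 = n47767 := d11_1 D49975 (iv D47767) D47766
theorem F223901 : act 2 n49975 = n48115 := d18_1 D49975 (iv D48115) (iv F213889)
theorem F223902 : act 3 n49975 = n49975 := d24_1 D49975 (iv D49975) F213890 F185071 (iv F213890)
theorem F223903 : act 6 n49975 = n48104 := d31_2 F220332 D49975 F220335
theorem F223904 : act 7 n49975 = n47828 := d32_2 (iv F213892) D49975 (iv D47828)
theorem F223905 : act 8 n49975 = n48111 := d33_2 F217984 D49975 (iv F217980)
def n49976 : Q := act 9 n47766
theorem D49976 : act 9 n47766 = n49976 := rfl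
theorem F223906 : act 1 n49976 = n47768 := d16_1 D49976 (iv D47768) D47766
theorem F223907 : act 2 n49976 = n48116 := d23_1 D49976 (iv D48116) (iv F213889)
theorem F223908 : act 3 n49976 = n47777 := d29_1 D49976 (iv D47777) (iv F213890)
theorem F223909 : act 5 n49976 = n48086 := d38_1 D49976 (iv D48086) (iv F213891)
theorem F223910 : act 7 n49976 = n47829 := d43_1 D49976 (iv D47829) (iv F213892)
def n49977 : Q := act 5 n47767
theorem D49977 : act 5 n47767 = n49977 := rfl
theorem F223911 : act 0 n49977 = n48109 := d4_1 D49977 (iv F218062) F218058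
theorem F223912 : act 2 n49977 = n47769 := d19_1 D49977 (iv D47769) (iv F213893)
theorem F223913 : act 3 n49977 = n49977 := d25_1 D49977 (iv D49977) F213894
theorem F223914 : act 4 n49977 = n48094 := d30_1 D49977 F215324 F208383 F208378 D47767
theorem F223915 : act 7 n49977 = n47830 := d36_2 (iv F213896) D49977 (iv D47830)
theorem F223916 : act 8 n49977 = n48108 := d37_2 (iv F213897) D49977 F215378
def n49978 : Q := act 9 n47767
theorem D49978 : act 9 n47767 = n49978 := rfl
theorem F223917 : act 2 n49978 = n47770 := d23_1 D49978 (iv D47770) (iv F213893)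
theorem F223918 : act 3 n49978 = n49978 := d29_1 D49978 (iv D49978) F213894
theorem F223919 : act 4 n49978 = n47768 := d34_1 D49978 (iv D47768) D47767
theorem F223920 : act 6 n49978 = n48105 := d41_1 D49978 (iv D48105) (iv F213895)
theorem F223921 : act 7 n49978 = n47831 := d43_1 D49978 (iv D47831) (iv F213896)
def n49979 : Q := act 8 n47768
theorem D49979 : act 8 n47768 = n49979 := rfl
theorem F223922 : act 2 n49979 = n47771 := d22_1 D49979 (iv D47771) (iv F213898)
theorem F223923 : act 7 n49979 = n47832 := d42_1 D49979 (iv D47832) (iv F213900)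
def n49980 : Q := act 9 n47769
theorem D49980 : act 9 n47769 = n49980 := rfl
theorem F223924 : act 1 n49980 = n48121 := d16_1 D49980 (iv D48121) (iv F213901)
theorem F223925 : act 3 n49980 = n47772 := d29_1 D49980 (iv D47772) (iv F213902)
theorem F223926 : act 5 n49980 = n47770 := d38_1 D49980 (iv D47770) D47769
theorem F223927 : act 7 n49980 = n47834 := d43_1 D49980 (iv D47834) (iv F213903)
def n49981 : Q := act 8 n47770
theorem D49981 : act 8 n47770 = n49981 := rfl
theorem F223928 : act 1 n49981 = n48122 := d15_1 D49981 (iv D48122) (iv F213905)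
theorem F223929 : act 4 n49981 = n47771 := d33_1 D49981 (iv D47771) (iv F213907)
theorem F223930 : act 6 n49981 = n48106 := d40_1 D49981 (iv D48106) (iv F213908)
theorem F223931 : act 7 n49981 = n47835 := d42_1 D49981 (iv D47835) (iv F213909)
theorem F223932 : act 9 n49981 = n48113 := d44_2 D47770 D49981 (iv D48113) (iv D45116) (iv F201813)
def n49982 : Q := act 3 n47779
theorem D49982 : act 3 n47779 = n49982 := rfl
theorem F223933 : act 0 n49982 = n47815 := d2_1 D49982 (iv D47815) (iv F213950)
theorem F223934 : act 1 n49982 = n48160 := d10_1 D49982 (iv D48160) (iv F213951)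
theorem F223935 : act 5 n49982 = n47780 := d25_2 (iv F213954) D49982 (iv D47780)
theorem F223936 : act 7 n49982 = n47794 := d27_2 (iv F213955) D49982 (iv D47794)
theorem F223937 : act 8 n49982 = n47784 := d28_2 D47779 D49982 (iv D47784) (iv D44418) (iv F185494)
def n49983 : Q := act 9 n47779
theorem D49983 : act 9 n47779 = n49983 := rfl
theorem F223938 : act 0 n49983 = n47816 := d8_1 D49983 (iv D47816) (iv F213950)
theorem F223939 : act 1 n49983 = n48161 := d16_1 D49983 (iv D48161) (iv F213951)
theorem F223940 : act 2 n49983 = n47804 := d23_1 D49983 (iv D47804) (iv F213952)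
theorem F223941 : act 4 n49983 = n47933 := d34_1 D49983 (iv D47933) (iv F213953)
theorem F223942 : act 5 n49983 = n47781 := d38_1 D49983 (iv D47781) (iv F213954)
theorem F223943 : act 7 n49983 = n47795 := d43_1 D49983 (iv D47795) (iv F213955)
theorem F223944 : act 8 n49983 = n47809 := d44_1 D49983 (iv D47809) (iv D44515) (iv F185495) D47779
def n49984 : Q := act 9 n47780
theorem D49984 : act 9 n47780 = n49984 := rfl
theorem F223945 : act 0 n49984 = n47821 := d8_1 D49984 (iv D47821) (iv F213956)
theorem F223946 : act 1 n49984 = n48163 := d16_1 D49984 (iv D48163) (iv F213957)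
theorem F223947 : act 3 n49984 = n47781 := d29_1 D49984 (iv D47781) D47780
theorem F223948 : act 4 n49984 = n48201 := d34_1 D49984 (iv D48201) (iv F213958)
theorem F223949 : act 6 n49984 = n47783 := d41_1 D49984 (iv D47783) (iv F213959)
theorem F223950 : act 7 n49984 = n47797 := d43_1 D49984 (iv D47797) (iv F213960)
def n49985 : Q := act 9 n47782
theorem D49985 : act 9 n47782 = n49985 := rfl
theorem F223951 : act 0 n49985 = n48237 := d8_1 D49985 (iv D48237) (iv F213969)
theorem F223952 : act 2 n49985 = n47783 := d23_1 D49985 (iv D47783) D47782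
theorem F223953 : act 3 n49985 = n48620 := d29_1 D49985 (iv F218041) F218036
theorem F223954 : act 4 n49985 = n48203 := d34_1 D49985 (iv D48203) (iv F213970)
theorem F223955 : act 5 n49985 = n48621 := d38_1 D49985 F218180 F218176
def n49986 : Q := act 8 n47783
theorem D49986 : act 8 n47783 = n49986 := rfl
theorem F223956 : act 0 n49986 = n48240 := d7_1 D49986 (iv D48240) (iv F213972)
theorem F223957 : act 1 n49986 = n48167 := d15_1 D49986 (iv D48167) (iv F213973)
theorem F223958 : act 3 n49986 = n47813 := d28_1 D49986 (iv D47813) F185851 (iv F185507) (iv F213974)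
theorem F223959 : act 4 n49986 = n48204 := d33_1 D49986 (iv D48204) (iv F213975)
theorem F223960 : act 9 n49986 = n47788 := d44_2 D47783 D49986 (iv D47788) (iv D44424) (iv F185504)
def n49987 : Q := act 4 n47784
theorem D49987 : act 4 n47784 = n49987 := rfl
theorem F223961 : act 0 n49987 = n48249 := d3_1 D49987 F215820 (iv F213976)
theorem F223962 : act 1 n49987 = n48171 := d11_1 D49987 (iv D48171) (iv F213977)
theorem F223963 : act 3 n49987 = n47880 := d24_1 D49987 (iv D47880) (iv D44727) (iv F185515) D47784
theorem F223964 : act 5 n49987 = n48209 := d30_2 (iv F213978) D49987 (iv D48209) F188930 (iv F202622)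
def n49988 : Q := act 9 n47784
theorem D49988 : act 9 n47784 = n49988 := rfl
theorem F223965 : act 0 n49988 = n48262 := d8_1 D49988 (iv D48262) (iv F213976)
theorem F223966 : act 1 n49988 = n48172 := d16_1 D49988 (iv D48172) (iv F213977)
theorem F223967 : act 3 n49988 = n47785 := d29_1 D49988 (iv D47785) D47784
theorem F223968 : act 5 n49988 = n47786 := d38_1 D49988 (iv D47786) (iv F213978)
def n49989 : Q := act 8 n47786
theorem D49989 : act 8 n47786 = n49989 := rfl
theorem F223969 : act 0 n49989 = n48263 := d7_1 D49989 (iv D48263) (iv F213985)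
theorem F223970 : act 1 n49989 = n48178 := d15_1 D49989 (iv D48178) (iv F213986)
theorem F223971 : act 3 n49989 = n47827 := d28_1 D49989 (iv D47827) F185878 (iv F185527) (iv F213987)
theorem F223972 : act 4 n49989 = n48213 := d33_1 D49989 (iv D48213) (iv F213988)
theorem F223973 : act 6 n49989 = n47788 := d40_1 D49989 (iv D47788) (iv F213989)
def n49990 : Q := act 8 n47787
theorem D49990 : act 8 n47787 = n49990 := rfl
theorem F223974 : act 0 n49990 = n48271 := d7_1 D49990 (iv D48271) (iv F213990)
theorem F223975 : act 2 n49990 = n47788 := d22_1 D49990 (iv D47788) (iv F213991)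
theorem F223976 : act 4 n49990 = n48216 := d33_1 D49990 (iv D48216) (iv F213993)
def n49991 : Q := act 3 n47789
theorem D49991 : act 3 n47789 = n49991 := rfl
theorem F223977 : act 0 n49991 = n48621 := d2_1 D49991 (iv D48621) (iv F213998)
theorem F223978 : act 2 n49991 = n47853 := d17_1 D49991 (iv D47853) F185978 (iv F185593) (iv F213999)
theorem F223979 : act 5 n49991 = n48237 := d25_2 F218353 D49991 F218357
theorem F223980 : act 9 n49991 = n48236 := d29_2 F217899 D49991 (iv F217894)
def n49992 : Q := act 3 n47790
theorem D49992 : act 3 n47790 = n49992 := rfl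
theorem F223981 : act 0 n49992 = n48176 := d2_1 D49992 F215610 (iv F214001)
theorem F223982 : act 1 n49992 = n47794 := d10_1 D49992 (iv D47794) (iv F214002)
theorem F223983 : act 5 n49992 = n47791 := d25_2 (iv F214005) D49992 (iv D47791)
theorem F223984 : act 7 n49992 = n48160 := d27_2 (iv F214006) D49992 (iv D48160)
theorem F223985 : act 8 n49992 = n48168 := d28_2 D47790 D49992 (iv D48168) (iv D45231) (iv F197907)
def n49993 : Q := act 9 n47790
theorem D49993 : act 9 n47790 = n49993 := rfl
theorem F223986 : act 0 n49993 = n48185 := d8_1 D49993 (iv D48185) (iv F214001)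
theorem F223987 : act 1 n49993 = n47795 := d16_1 D49993 (iv D47795) (iv F214002)
theorem F223988 : act 2 n49993 = n49993 := d23_1 D49993 (iv D49993) F214003
theorem F223989 : act 4 n49993 = n47918 := d34_1 D49993 (iv D47918) (iv F214004)
theorem F223990 : act 5 n49993 = n47792 := d38_1 D49993 (iv D47792) (iv F214005)
theorem F223991 : act 7 n49993 = n48161 := d43_1 D49993 (iv D48161) (iv F214006)
theorem F223992 : act 8 n49993 = n47837 := d44_1 D49993 (iv D47837) F202706 (iv F197909) D47790
def n49994 : Q := act 9 n47791
theorem D49994 : act 9 n47791 = n49994 := rfl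
theorem F223993 : act 0 n49994 = n48177 := d8_1 D49994 (iv D48177) (iv F214007)
theorem F223994 : act 1 n49994 = n47797 := d16_1 D49994 (iv D47797) (iv F214008)
theorem F223995 : act 3 n49994 = n47792 := d29_1 D49994 (iv D47792) D47791
theorem F223996 : act 4 n49994 = n48148 := d34_1 D49994 (iv D48148) (iv F214009)
theorem F223997 : act 6 n49994 = n47793 := d41_1 D49994 (iv D47793) (iv F214010)
theorem F223998 : act 7 n49994 = n48163 := d43_1 D49994 (iv D48163) (iv F214011)
def n49995 : Q := act 8 n47793
theorem D49995 : act 8 n47793 = n49995 := rfl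
theorem F223999 : act 0 n49995 = n48184 := d7_1 D49995 (iv D48184) (iv F214020)
theorem F224000 : act 1 n49995 = n47799 := d15_1 D49995 (iv D47799) (iv F214021)
theorem F224001 : act 3 n49995 = n47835 := d28_1 D49995 (iv D47835) F185889 (iv F202122) (iv F214022)
theorem F224002 : act 4 n49995 = n48150 := d33_1 D49995 (iv D48150) (iv F214023)
def n49996 : Q := act 4 n47794
theorem D49996 : act 4 n47794 = n49996 := rfl
theorem F224003 : act 0 n49996 = n47818 := d3_1 D49996 (iv D47818) (iv F214024)
theorem F224004 : act 3 n49996 = n47935 := d24_1 D49996 (iv D47935) (iv D44828) (iv F185731) D47794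
def n49997 : Q := act 9 n47794
theorem D49997 : act 9 n47794 = n49997 := rfl
theorem F224005 : act 0 n49997 = n47819 := d8_1 D49997 (iv D47819) (iv F214024)
theorem F224006 : act 3 n49997 = n47795 := d29_1 D49997 (iv D47795) D47794
theorem F224007 : act 5 n49997 = n47797 := d38_1 D49997 (iv D47797) (iv F214025)
def n49998 : Q := act 5 n47796
theorem D49998 : act 5 n47796 = n49998 := rfl
theorem F224008 : act 0 n49998 = n47825 := d4_1 D49998 (iv D47825) (iv F214031)
theorem F224009 : act 1 n49998 = n48143 := d12_1 D49998 F215502 (iv F214032)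
theorem F224010 : act 3 n49998 = n47800 := d25_1 D49998 (iv D47800) (iv F214033)
theorem F224011 : act 7 n49998 = n48198 := d36_2 (iv F214035) D49998 F215674
theorem F224012 : act 8 n49998 = n48206 := d37_2 (iv F214036) D49998 F215698
def n49999 : Q := act 9 n47796
theorem D49999 : act 9 n47796 = n49999 := rfl
theorem F224013 : act 0 n49999 = n47826 := d8_1 D49999 (iv D47826) (iv F214031)
theorem F224014 : act 1 n49999 = n48148 := d16_1 D49999 (iv D48148) (iv F214032)
theorem F224015 : act 3 n49999 = n47801 := d29_1 D49999 (iv D47801) (iv F214033)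
theorem F224016 : act 4 n49999 = n47797 := d34_1 D49999 (iv D47797) D47796
theorem F224017 : act 6 n49999 = n47798 := d41_1 D49999 (iv D47798) (iv F214034)
theorem F224018 : act 7 n49999 = n48201 := d43_1 D49999 (iv D48201) (iv F214035)
def n50000 : Q := act 8 n47797
theorem D50000 : act 8 n47797 = n50000 := rfl
theorem F224019 : act 0 n50000 = n47827 := d7_1 D50000 (iv D47827) (iv F214037)
theorem F224020 : act 3 n50000 = n48263 := d28_1 D50000 (iv D48263) F189140 (iv F202595) (iv F214038)
theorem F224021 : act 6 n50000 = n47799 := d40_1 D50000 (iv D47799) (iv F214039)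
def n50001 : Q := act 8 n47798
theorem D50001 : act 8 n47798 = n50001 := rfl
theorem F224022 : act 0 n50001 = n47835 := d7_1 D50001 (iv D47835) (iv F214040)
theorem F224023 : act 1 n50001 = n48150 := d15_1 D50001 (iv D48150) (iv F214041)
theorem F224024 : act 3 n50001 = n48184 := d28_1 D50001 (iv D48184) F188630 (iv F202126) (iv F214042)
theorem F224025 : act 4 n50001 = n47799 := d33_1 D50001 (iv D47799) (iv F214043)
def n50002 : Q := act 9 n47800
theorem D50002 : act 9 n47800 = n50002 := rfl
theorem F224026 : act 0 n50002 = n47837 := d8_1 D50002 (iv D47837) (iv F214046)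
theorem F224027 : act 1 n50002 = n48144 := d16_1 D50002 (iv D48144) (iv F214047)
theorem F224028 : act 2 n50002 = n50002 := d23_1 D50002 (iv D50002) F214048
theorem F224029 : act 4 n50002 = n47952 := d34_1 D50002 (iv D47952) (iv F214049)
theorem F224030 : act 5 n50002 = n47801 := d38_1 D50002 (iv D47801) D47800
theorem F224031 : act 7 n50002 = n48199 := d43_1 D50002 (iv D48199) (iv F214050)
theorem F224032 : act 8 n50002 = n48185 := d44_1 D50002 (iv D48185) F202740 (iv F188387) (iv F214051)
def n50003 : Q := act 9 n47802
theorem D50003 : act 9 n47802 = n50003 := rfl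
theorem F224033 : act 0 n50003 = n47841 := d8_1 D50003 (iv D47841) (iv F214059)
theorem F224034 : act 1 n50003 = n50003 := d16_1 D50003 (iv D50003) F214060
theorem F224035 : act 3 n50003 = n48612 := d29_1 D50003 F217033 (iv F214061)
theorem F224036 : act 4 n50003 = n47954 := d34_1 D50003 (iv D47954) (iv F214062)
theorem F224037 : act 5 n50003 = n47807 := d38_1 D50003 F214098 (iv F214063)
theorem F224038 : act 6 n50003 = n47804 := d41_1 D50003 (iv D47804) (iv F214064)
theorem F224039 : act 7 n50003 = n48611 := d43_1 D50003 (iv D48611) (iv F214065)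
theorem F224040 : act 8 n50003 = n47805 := d44_1 D50003 (iv D47805) F206533 (iv F206534) D47802
def n50004 : Q := act 9 n47803
theorem D50004 : act 9 n47803 = n50004 := rfl
theorem F224041 : act 0 n50004 = n47843 := d8_1 D50004 (iv D47843) (iv F214066)
theorem F224042 : act 1 n50004 = n50004 := d16_1 D50004 (iv D50004) F214067
theorem F224043 : act 3 n50004 = n47804 := d29_1 D50004 (iv D47804) D47803
theorem F224044 : act 4 n50004 = n48724 := d34_1 D50004 (iv D48724) F214072
theorem F224045 : act 5 n50004 = n47806 := d38_1 D50004 (iv D47806) (iv F214068)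
theorem F224046 : act 6 n50004 = n48612 := d41_1 D50004 F217033 (iv F214069)
theorem F224047 : act 7 n50004 = n47805 := d43_1 D50004 (iv D47805) (iv F214070)
theorem F224048 : act 8 n50004 = n48611 := d44_1 D50004 (iv D48611) (iv F208822) F208823 (iv F214071)
def n50005 : Q := act 4 n47808
theorem D50005 : act 4 n47808 = n50005 := rfl
theorem F224049 : act 1 n50005 = n48229 := d11_1 D50005 (iv D48229) (iv F214099)
theorem F224050 : act 3 n50005 = n48480 := d24_1 D50005 F216581 F190591 (iv F202508) D47808
theorem F224051 : act 5 n50005 = n48244 := d30_2 (iv F214100) D50005 (iv D48244) F189114 (iv F202512)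
theorem F224052 : act 7 n50005 = n48249 := d32_2 (iv F214101) D50005 F215820
theorem F224053 : act 8 n50005 = n47818 := d33_2 (iv F214102) D50005 (iv D47818)
def n50006 : Q := act 9 n47808
theorem D50006 : act 9 n47808 = n50006 := rfl
theorem F224054 : act 1 n50006 = n48230 := d16_1 D50006 (iv D48230) (iv F214099)
theorem F224055 : act 3 n50006 = n47809 := d29_1 D50006 (iv D47809) D47808
theorem F224056 : act 5 n50006 = n47810 := d38_1 D50006 (iv D47810) (iv F214100)
theorem F224057 : act 7 n50006 = n48262 := d43_1 D50006 (iv D48262) (iv F214101)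
def n50007 : Q := act 8 n47810
theorem D50007 : act 8 n47810 = n50007 := rfl
theorem F224058 : act 1 n50007 = n48233 := d15_1 D50007 (iv D48233) (iv F214108)
theorem F224059 : act 4 n50007 = n48254 := d33_1 D50007 (iv D48254) (iv F214110)
theorem F224060 : act 6 n50007 = n47813 := d40_1 D50007 (iv D47813) (iv F214111)
theorem F224061 : act 7 n50007 = n48263 := d42_1 D50007 (iv D48263) (iv F214112)
theorem F224062 : act 9 n50007 = n47827 := d44_2 D47810 D50007 (iv D47827) (iv D44530) (iv F185842)
def n50008 : Q := act 6 n47811
theorem D50008 : act 6 n47811 = n50008 := rfl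
theorem F224063 : act 1 n50008 = n48239 := d13_1 D50008 (iv D48239) (iv F214113)
theorem F224064 : act 3 n50008 = n48107 := d26_1 D50008 F215376 (iv F214114)
theorem F224065 : act 5 n50008 = n48241 := d35_1 D50008 F215801 F189114 (iv F202118) D47811
theorem F224066 : act 8 n50008 = n47833 := d40_2 (iv F214116) D50008 (iv D47833)
def n50009 : Q := act 9 n47811
theorem D50009 : act 9 n47811 = n50009 := rfl
theorem F224067 : act 1 n50009 = n47853 := d16_1 D50009 F214272 (iv F214113)
theorem F224068 : act 3 n50009 = n47852 := d29_1 D50009 F214270 (iv F214114)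
theorem F224069 : act 5 n50009 = n47812 := d38_1 D50009 (iv D47812) D47811
theorem F224070 : act 7 n50009 = n48110 := d43_1 D50009 (iv D48110) (iv F214115)
def n50010 : Q := act 8 n47812
theorem D50010 : act 8 n47812 = n50010 := rfl
theorem F224071 : act 1 n50010 = n48240 := d15_1 D50010 (iv D48240) (iv F214117)
theorem F224072 : act 4 n50010 = n47813 := d33_1 D50010 (iv D47813) (iv F214119)
theorem F224073 : act 6 n50010 = n48254 := d40_1 D50010 (iv D48254) (iv F214120)
theorem F224074 : act 7 n50010 = n48113 := d42_1 D50010 (iv D48113) (iv F214121)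
theorem F224075 : act 9 n50010 = n47835 := d44_2 D47812 D50010 (iv D47835) (iv D44535) (iv F185849)
def n50011 : Q := act 3 n47814
theorem D50011 : act 3 n47814 = n50011 := rfl
theorem F224076 : act 1 n50011 = n48241 := d10_1 D50011 (iv D48241) (iv F214124)
theorem F224077 : act 5 n50011 = n48239 := d25_2 (iv F214127) D50011 F215797
theorem F224078 : act 6 n50011 = n47815 := d26_2 (iv F214128) D50011 (iv D47815)
theorem F224079 : act 8 n50011 = n48261 := d28_2 D47814 D50011 F215846 F189173 F206408
def n50012 : Q := act 9 n47814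
theorem D50012 : act 9 n47814 = n50012 := rfl
theorem F224080 : act 1 n50012 = n48242 := d16_1 D50012 (iv D48242) (iv F214124)
theorem F224081 : act 2 n50012 = n47841 := d23_1 D50012 (iv D47841) (iv F214125)
theorem F224082 : act 4 n50012 = n47996 := d34_1 D50012 (iv D47996) (iv F214126)
theorem F224083 : act 5 n50012 = n47851 := d38_1 D50012 F214264 (iv F214127)
theorem F224084 : act 6 n50012 = n47816 := d41_1 D50012 (iv D47816) (iv F214128)
theorem F224085 : act 8 n50012 = n47846 := d44_1 D50012 (iv D47846) (iv F208739) F208740 D47814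
def n50013 : Q := act 2 n47815
theorem D50013 : act 2 n47815 = n50013 := rfl
theorem F224086 : act 3 n50013 = n47842 := d17_2 D47815 D50013 (iv D47842) (iv D44550) (iv F185856)
theorem F224087 : act 5 n50013 = n47820 := d19_2 (iv F214130) D50013 (iv D47820)
theorem F224088 : act 7 n50013 = n47817 := d21_2 (iv F214131) D50013 (iv D47817)
theorem F224089 : act 8 n50013 = n48258 := d22_2 (iv F214132) D50013 F215838
def n50014 : Q := act 4 n47815
theorem D50014 : act 4 n47815 = n50014 := rfl
theorem F224090 : act 1 n50014 = n48244 := d11_1 D50014 (iv D48244) (iv F214129)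
theorem F224091 : act 3 n50014 = n47998 := d24_1 D50014 (iv D47998) (iv D44885) (iv F185857) D47815
theorem F224092 : act 5 n50014 = n48229 := d30_2 (iv F214130) D50014 (iv D48229) F189083 (iv F202596)
theorem F224093 : act 7 n50014 = n47818 := d32_2 (iv F214131) D50014 (iv D47818)
theorem F224094 : act 8 n50014 = n48249 := d33_2 (iv F214132) D50014 F215820
def n50015 : Q := act 9 n47815
theorem D50015 : act 9 n47815 = n50015 := rfl
theorem F224095 : act 1 n50015 = n48245 := d16_1 D50015 (iv D48245) (iv F214129)
theorem F224096 : act 3 n50015 = n47816 := d29_1 D50015 (iv D47816) D47815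
theorem F224097 : act 5 n50015 = n47821 := d38_1 D50015 (iv D47821) (iv F214130)
theorem F224098 : act 7 n50015 = n47819 := d43_1 D50015 (iv D47819) (iv F214131)
def n50016 : Q := act 1 n47817
theorem D50016 : act 1 n47817 = n50016 := rfl
theorem F224099 : act 2 n50016 = n48246 := d9_2 D47817 D50016 (iv D48246) (iv D45392) (iv F185860)
theorem F224100 : act 3 n50016 = n47844 := d10_2 (iv F214138) D50016 (iv D47844)
theorem F224101 : act 5 n50016 = n47822 := d12_2 (iv F214139) D50016 (iv D47822)
theorem F224102 : act 6 n50016 = n48168 := d13_2 F218614 D50016 F218617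
def n50017 : Q := act 4 n47817
theorem D50017 : act 4 n47817 = n50017 := rfl
theorem F224103 : act 2 n50017 = n47818 := d18_1 D50017 (iv D47818) D47817
def n50018 : Q := act 9 n47817
theorem D50018 : act 9 n47817 = n50018 := rfl
theorem F224104 : act 2 n50018 = n47819 := d23_1 D50018 (iv D47819) D47817
theorem F224105 : act 3 n50018 = n47846 := d29_1 D50018 (iv D47846) (iv F214138)
theorem F224106 : act 5 n50018 = n47824 := d38_1 D50018 (iv D47824) (iv F214139)
def n50019 : Q := act 5 n47818
theorem D50019 : act 5 n47818 = n50019 := rfl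
theorem F224107 : act 1 n50019 = n48249 := d12_1 D50019 (iv D48249) (iv F214140)
theorem F224108 : act 3 n50019 = n48003 := d25_1 D50019 (iv D48003) (iv F214141)
theorem F224109 : act 4 n50019 = n47825 := d30_1 D50019 (iv D47825) (iv D44529) (iv F185861) D47818
theorem F224110 : act 7 n50019 = n48229 := d36_2 F224093 D50019 (iv F224092)
theorem F224111 : act 8 n50019 = n48244 := d37_2 F224053 D50019 (iv F224051)
def n50020 : Q := act 9 n47818
theorem D50020 : act 9 n47818 = n50020 := rfl
theorem F224112 : act 1 n50020 = n48250 := d16_1 D50020 (iv D48250) (iv F214140)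
theorem F224113 : act 3 n50020 = n48004 := d29_1 D50020 (iv D48004) (iv F214141)
theorem F224114 : act 4 n50020 = n47819 := d34_1 D50020 (iv D47819) D47818
def n50021 : Q := act 8 n47819
theorem D50021 : act 8 n47819 = n50021 := rfl
theorem F224115 : act 1 n50021 = n48251 := d15_1 D50021 (iv D48251) (iv F214142)
theorem F224116 : act 5 n50021 = n47827 := d37_1 D50021 (iv D47827) (iv F214144)
def n50022 : Q := act 1 n47820
theorem D50022 : act 1 n47820 = n50022 := rfl
theorem F224117 : act 2 n50022 = n48252 := d9_2 D47820 D50022 (iv D48252) (iv D45395) (iv F185866)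
theorem F224118 : act 3 n50022 = n47848 := d10_2 (iv F214145) D50022 (iv D47848)
theorem F224119 : act 4 n50022 = n48231 := d11_2 (iv F214146) D50022 (iv D48231)
theorem F224120 : act 6 n50022 = n48234 := d13_2 (iv F214147) D50022 F215787
theorem F224121 : act 7 n50022 = n47822 := d14_2 (iv F214148) D50022 (iv D47822)
theorem F224122 : act 8 n50022 = n48256 := d15_2 (iv F214149) D50022 F215832
def n50023 : Q := act 9 n47820
theorem D50023 : act 9 n47820 = n50023 := rfl
theorem F224123 : act 2 n50023 = n47821 := d23_1 D50023 (iv D47821) D47820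
theorem F224124 : act 3 n50023 = n47849 := d29_1 D50023 (iv D47849) (iv F214145)
theorem F224125 : act 4 n50023 = n48232 := d34_1 D50023 (iv D48232) (iv F214146)
theorem F224126 : act 6 n50023 = n48237 := d41_1 D50023 (iv D48237) (iv F214147)
theorem F224127 : act 7 n50023 = n47824 := d43_1 D50023 (iv D47824) (iv F214148)
def n50024 : Q := act 8 n47821
theorem D50024 : act 8 n47821 = n50024 := rfl
theorem F224128 : act 1 n50024 = n48254 := d15_1 D50024 (iv D48254) (iv F214150)
theorem F224129 : act 4 n50024 = n48233 := d33_1 D50024 (iv D48233) (iv F214152)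
theorem F224130 : act 6 n50024 = n48240 := d40_1 D50024 (iv D48240) (iv F214153)
theorem F224131 : act 7 n50024 = n47827 := d42_1 D50024 (iv D47827) (iv F214154)
theorem F224132 : act 9 n50024 = n48263 := d44_2 D47821 D50024 (iv D48263) (iv D45402) (iv F202598)
def n50025 : Q := act 4 n47822
theorem D50025 : act 4 n47822 = n50025 := rfl
theorem F224133 : act 1 n50025 = n47823 := d11_1 D50025 (iv D47823) D47822
theorem F224134 : act 2 n50025 = n48256 := d18_1 D50025 (iv D48256) (iv F214155)
theorem F224135 : act 3 n50025 = n50025 := d24_1 D50025 (iv D50025) F214156 F185965 (iv F214156)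
theorem F224136 : act 6 n50025 = n47828 := d31_2 (iv F214157) D50025 (iv D47828)
theorem F224137 : act 7 n50025 = n48231 := d32_2 F224121 D50025 (iv F224119)
theorem F224138 : act 8 n50025 = n48252 := d33_2 F218415 D50025 (iv F218412)
def n50026 : Q := act 9 n47822
theorem D50026 : act 9 n47822 = n50026 := rfl
theorem F224139 : act 1 n50026 = n47824 := d16_1 D50026 (iv D47824) D47822
theorem F224140 : act 2 n50026 = n48257 := d23_1 D50026 (iv D48257) (iv F214155)
theorem F224141 : act 3 n50026 = n47850 := d29_1 D50026 (iv D47850) (iv F214156)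
theorem F224142 : act 6 n50026 = n47829 := d41_1 D50026 (iv D47829) (iv F214157)
def n50027 : Q := act 5 n47823
theorem D50027 : act 5 n47823 = n50027 := rfl
theorem F224143 : act 2 n50027 = n47825 := d19_1 D50027 (iv D47825) (iv F214158)
theorem F224144 : act 3 n50027 = n50027 := d25_1 D50027 (iv D50027) F214159
theorem F224145 : act 7 n50027 = n48228 := d36_2 (iv F214161) D50027 F215774
theorem F224146 : act 8 n50027 = n48243 := d37_2 (iv F214162) D50027 F215806
def n50028 : Q := act 9 n47823
theorem D50028 : act 9 n47823 = n50028 := rfl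
theorem F224147 : act 2 n50028 = n47826 := d23_1 D50028 (iv D47826) (iv F214158)
theorem F224148 : act 3 n50028 = n50028 := d29_1 D50028 (iv D50028) F214159
theorem F224149 : act 4 n50028 = n47824 := d34_1 D50028 (iv D47824) D47823
theorem F224150 : act 6 n50028 = n47831 := d41_1 D50028 (iv D47831) (iv F214160)
theorem F224151 : act 7 n50028 = n48232 := d43_1 D50028 (iv D48232) (iv F214161)
def n50029 : Q := act 8 n47824
theorem D50029 : act 8 n47824 = n50029 := rfl
theorem F224152 : act 2 n50029 = n47827 := d22_1 D50029 (iv D47827) (iv F214163)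
theorem F224153 : act 6 n50029 = n47832 := d40_1 D50029 (iv D47832) (iv F214165)
def n50030 : Q := act 6 n47825
theorem D50030 : act 6 n47825 = n50030 := rfl
theorem F224154 : act 1 n50030 = n48261 := d13_1 D50030 (iv D48261) (iv F214166)
theorem F224155 : act 3 n50030 = n47836 := d26_1 D50030 (iv D47836) (iv F214167)
theorem F224156 : act 5 n50030 = n47833 := d35_1 D50030 (iv D47833) (iv D44534) (iv F185876) D47825
theorem F224157 : act 8 n50030 = n48241 := d40_2 (iv F214169) D50030 F215801
def n50031 : Q := act 9 n47825
theorem D50031 : act 9 n47825 = n50031 := rfl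
theorem F224158 : act 1 n50031 = n48262 := d16_1 D50031 (iv D48262) (iv F214166)
theorem F224159 : act 3 n50031 = n47837 := d29_1 D50031 (iv D47837) (iv F214167)
theorem F224160 : act 5 n50031 = n47826 := d38_1 D50031 (iv D47826) D47825
theorem F224161 : act 7 n50031 = n48230 := d43_1 D50031 (iv D48230) (iv F214168)
def n50032 : Q := act 8 n47826
theorem D50032 : act 8 n47826 = n50032 := rfl
theorem F224162 : act 1 n50032 = n48263 := d15_1 D50032 (iv D48263) (iv F214170)
theorem F224163 : act 4 n50032 = n47827 := d33_1 D50032 (iv D47827) (iv F214172)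
theorem F224164 : act 6 n50032 = n47835 := d40_1 D50032 (iv D47835) (iv F214173)
theorem F224165 : act 7 n50032 = n48233 := d42_1 D50032 (iv D48233) (iv F214174)
theorem F224166 : act 9 n50032 = n48254 := d44_2 D47826 D50032 (iv D48254) (iv D45397) (iv F202704)
def n50033 : Q := act 9 n47828
theorem D50033 : act 9 n47828 = n50033 := rfl
theorem F224167 : act 1 n50033 = n47831 := d16_1 D50033 (iv D47831) (iv F214177)
theorem F224168 : act 2 n50033 = n48267 := d23_1 D50033 (iv D48267) (iv F214178)
theorem F224169 : act 3 n50033 = n50033 := d29_1 D50033 (iv D50033) F214179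
theorem F224170 : act 4 n50033 = n47829 := d34_1 D50033 (iv D47829) D47828
def n50034 : Q := act 8 n47829
theorem D50034 : act 8 n47829 = n50034 := rfl
theorem F224171 : act 1 n50034 = n47832 := d15_1 D50034 (iv D47832) (iv F214180)
theorem F224172 : act 2 n50034 = n48268 := d22_1 D50034 (iv D48268) (iv F214181)
def n50035 : Q := act 6 n47830
theorem D50035 : act 6 n47830 = n50035 := rfl
theorem F224173 : act 2 n50035 = n47833 := d20_1 D50035 (iv D47833) (iv F214183)
theorem F224174 : act 3 n50035 = n50035 := d26_1 D50035 (iv D50035) F214184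
def n50036 : Q := act 9 n47830
theorem D50036 : act 9 n47830 = n50036 := rfl
theorem F224175 : act 2 n50036 = n47834 := d23_1 D50036 (iv D47834) (iv F214183)
theorem F224176 : act 3 n50036 = n50036 := d29_1 D50036 (iv D50036) F214184
theorem F224177 : act 5 n50036 = n47831 := d38_1 D50036 (iv D47831) D47830
def n50037 : Q := act 8 n47831
theorem D50037 : act 8 n47831 = n50037 := rfl
theorem F224178 : act 2 n50037 = n47835 := d22_1 D50037 (iv D47835) (iv F214185)
theorem F224179 : act 4 n50037 = n47832 := d33_1 D50037 (iv D47832) (iv F214187)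
def n50038 : Q := act 3 n47832
theorem D50038 : act 3 n47832 = n50038 := rfl
theorem F224180 : act 5 n50038 = n48240 := d25_2 F218678 D50038 (iv F218677)
theorem F224181 : act 8 n50038 = n47853 := d28_2 D47832 D50038 (iv D47853) (iv D44562) (iv F185885)
theorem F224182 : act 9 n50038 = n48275 := d29_2 F218496 D50038 (iv F218494)
def n50039 : Q := act 7 n47833
theorem D50039 : act 7 n47833 = n50039 := rfl
theorem F224183 : act 1 n50039 = n48273 := d14_1 D50039 (iv D48273) (iv F214189)
theorem F224184 : act 3 n50039 = n47838 := d27_1 D50039 (iv D47838) (iv F214190)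
def n50040 : Q := act 9 n47833
theorem D50040 : act 9 n47833 = n50040 := rfl
theorem F224185 : act 1 n50040 = n48274 := d16_1 D50040 (iv D48274) (iv F214189)
theorem F224186 : act 3 n50040 = n47839 := d29_1 D50040 (iv D47839) (iv F214190)
theorem F224187 : act 6 n50040 = n47834 := d41_1 D50040 (iv D47834) D47833
def n50041 : Q := act 8 n47834
theorem D50041 : act 8 n47834 = n50041 := rfl
theorem F224188 : act 1 n50041 = n48275 := d15_1 D50041 (iv D48275) (iv F214191)
theorem F224189 : act 5 n50041 = n47835 := d37_1 D50041 (iv D47835) (iv F214193)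
def n50042 : Q := act 9 n47836
theorem D50042 : act 9 n47836 = n50042 := rfl
theorem F224190 : act 1 n50042 = n48277 := d16_1 D50042 (iv D48277) (iv F214196)
theorem F224191 : act 2 n50042 = n50042 := d23_1 D50042 (iv D50042) F214197
theorem F224192 : act 4 n50042 = n48035 := d34_1 D50042 (iv D48035) (iv F214198)
theorem F224193 : act 5 n50042 = n47839 := d38_1 D50042 (iv D47839) (iv F214199)
theorem F224194 : act 6 n50042 = n47837 := d41_1 D50042 (iv D47837) D47836
def n50043 : Q := act 9 n47838
theorem D50043 : act 9 n47838 = n50043 := rfl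
theorem F224195 : act 1 n50043 = n48278 := d16_1 D50043 (iv D48278) (iv F214206)
theorem F224196 : act 2 n50043 = n50043 := d23_1 D50043 (iv D50043) F214207
theorem F224197 : act 4 n50043 = n47840 := d34_1 D50043 (iv D47840) (iv F214208)
theorem F224198 : act 6 n50043 = n48617 := d41_1 D50043 (iv F220624) F220622
theorem F224199 : act 7 n50043 = n47839 := d43_1 D50043 (iv D47839) D47838
theorem F224200 : act 8 n50043 = n48608 := d44_1 D50043 (iv D48608) F208680 F208679 (iv F214209)
def n50044 : Q := act 9 n47842
theorem D50044 : act 9 n47842 = n50044 := rfl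
theorem F224201 : act 2 n50044 = n47843 := d23_1 D50044 (iv D47843) D47842
theorem F224202 : act 5 n50044 = n47849 := d38_1 D50044 (iv D47849) (iv F214225)
theorem F224203 : act 7 n50044 = n47846 := d43_1 D50044 (iv D47846) (iv F214226)
def n50045 : Q := act 9 n47844
theorem D50045 : act 9 n47844 = n50045 := rfl
theorem F224204 : act 1 n50045 = n47846 := d16_1 D50045 (iv D47846) D47844
theorem F224205 : act 2 n50045 = n47855 := d23_1 D50045 (iv D47855) (iv F214231)
theorem F224206 : act 4 n50045 = n48344 := d34_1 D50045 (iv D48344) F214235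
theorem F224207 : act 5 n50045 = n47850 := d38_1 D50045 (iv D47850) (iv F214232)
theorem F224208 : act 6 n50045 = n48169 := d41_1 D50045 (iv D48169) (iv F214233)
theorem F224209 : act 8 n50045 = n48242 := d44_1 D50045 (iv D48242) (iv D45389) (iv F188603) (iv F214234)
def n50046 : Q := act 3 n47845
theorem D50046 : act 3 n47845 = n50046 := rfl
theorem F224210 : act 0 n50046 = n48499 := d2_1 D50046 F216626 (iv F214236)
theorem F224211 : act 1 n50046 = n48343 := d10_1 D50046 (iv D48343) (iv F214237)
theorem F224212 : act 2 n50046 = n48047 := d17_1 D50046 (iv D48047) F187437 (iv F185953) (iv F214238)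
theorem F224213 : act 5 n50046 = n50046 := d25_2 F214239 D50046 (iv D50046)
theorem F224214 : act 6 n50046 = n47877 := d26_2 (iv F214240) D50046 (iv D47877)
def n50047 : Q := act 9 n47845
theorem D50047 : act 9 n47845 = n50047 := rfl
theorem F224215 : act 0 n50047 = n48528 := d8_1 D50047 (iv D48528) (iv F214236)
theorem F224216 : act 1 n50047 = n48344 := d16_1 D50047 (iv D48344) (iv F214237)
theorem F224217 : act 2 n50047 = n47847 := d23_1 D50047 (iv D47847) (iv F214238)
theorem F224218 : act 4 n50047 = n47846 := d34_1 D50047 (iv D47846) D47845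
theorem F224219 : act 5 n50047 = n50047 := d38_1 D50047 (iv D50047) F214239
theorem F224220 : act 6 n50047 = n47878 := d41_1 D50047 (iv D47878) (iv F214240)
theorem F224221 : act 8 n50047 = n47996 := d44_1 D50047 (iv D47996) (iv D44884) (iv F186682) (iv F214241)
def n50048 : Q := act 9 n47848
theorem D50048 : act 9 n47848 = n50048 := rfl
theorem F224222 : act 1 n50048 = n47849 := d16_1 D50048 (iv D47849) D47848
theorem F224223 : act 2 n50048 = n47857 := d23_1 D50048 (iv D47857) (iv F214251)
theorem F224224 : act 4 n50048 = n50048 := d34_1 D50048 (iv D50048) F214252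
theorem F224225 : act 7 n50048 = n47850 := d43_1 D50048 (iv D47850) (iv F214253)
def n50049 : Q := act 8 n47850
theorem D50049 : act 8 n47850 = n50049 := rfl
theorem F224226 : act 1 n50049 = n47851 := d15_1 D50049 (iv D47851) (iv F214257)
theorem F224227 : act 2 n50049 = n47859 := d22_1 D50049 (iv D47859) (iv F214258)
theorem F224228 : act 4 n50049 = n50049 := d33_1 D50049 (iv D50049) F214259
theorem F224229 : act 5 n50049 = n48242 := d37_1 D50049 (iv F224209) F224207
theorem F224230 : act 6 n50049 = n47852 := d40_1 D50049 (iv D47852) (iv F214260)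
theorem F224231 : act 9 n50049 = n48107 := d44_2 D47850 D50049 (iv D48107) (iv F208666) F208665
def n50050 : Q := act 3 n47851
theorem D50050 : act 3 n47851 = n50050 := rfl
theorem F224232 : act 6 n50050 = n47853 := d26_2 (iv F214263) D50050 (iv D47853)
theorem F224233 : act 9 n50050 = n48239 := d29_2 (iv F214264) D50050 F215797
def n50051 : Q := act 9 n47854
theorem D50051 : act 9 n47854 = n50051 := rfl
theorem F224234 : act 0 n50051 = n47855 := d8_1 D50051 (iv D47855) D47854
theorem F224235 : act 1 n50051 = n50051 := d16_1 D50051 (iv D50051) F214273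
theorem F224236 : act 3 n50051 = n48307 := d29_1 D50051 (iv D48307) (iv F214274)
theorem F224237 : act 4 n50051 = n48329 := d34_1 D50051 (iv D48329) (iv F214275)
theorem F224238 : act 5 n50051 = n47858 := d38_1 D50051 (iv D47858) (iv F214276)
theorem F224239 : act 6 n50051 = n48151 := d41_1 D50051 (iv D48151) (iv F214277)
theorem F224240 : act 8 n50051 = n48218 := d44_1 D50051 (iv D48218) (iv D45358) (iv F188532) (iv F214278)
def n50052 : Q := act 9 n47856
theorem D50052 : act 9 n47856 = n50052 := rfl
theorem F224241 : act 0 n50052 = n47857 := d8_1 D50052 (iv D47857) D47856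
theorem F224242 : act 1 n50052 = n50052 := d16_1 D50052 (iv D50052) F214285
theorem F224243 : act 3 n50052 = n48313 := d29_1 D50052 (iv D48313) (iv F214286)
theorem F224244 : act 4 n50052 = n50052 := d34_1 D50052 (iv D50052) F214287
theorem F224245 : act 7 n50052 = n47858 := d43_1 D50052 (iv D47858) (iv F214288)
def n50053 : Q := act 8 n47858
theorem D50053 : act 8 n47858 = n50053 := rfl
theorem F224246 : act 0 n50053 = n47859 := d7_1 D50053 (iv D47859) (iv F214293)
theorem F224247 : act 1 n50053 = n50053 := d15_1 D50053 (iv D50053) F214294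
theorem F224248 : act 4 n50053 = n50053 := d33_1 D50053 (iv D50053) F214296
theorem F224249 : act 5 n50053 = n48218 := d37_1 D50053 (iv F224240) F224238
theorem F224250 : act 6 n50053 = n47860 := d40_1 D50053 (iv D47860) (iv F214297)
theorem F224251 : act 9 n50053 = n48100 := d44_2 D47858 D50053 (iv D48100) (iv F211516) F211515
def n50054 : Q := act 9 n47863
theorem D50054 : act 9 n47863 = n50054 := rfl
theorem F224252 : act 0 n50054 = n47864 := d8_1 D50054 (iv D47864) D47863
theorem F224253 : act 1 n50054 = n50054 := d16_1 D50054 (iv D50054) F214320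
theorem F224254 : act 2 n50054 = n48662 := d23_1 D50054 (iv D48662) (iv F214321)
theorem F224255 : act 3 n50054 = n50054 := d29_1 D50054 (iv D50054) F214322
theorem F224256 : act 4 n50054 = n47908 := d34_1 D50054 (iv D47908) (iv F214323)
theorem F224257 : act 6 n50054 = n47866 := d41_1 D50054 (iv D47866) (iv F214324)
def n50055 : Q := act 8 n47864
theorem D50055 : act 8 n47864 = n50055 := rfl
theorem F224258 : act 1 n50055 = n47865 := d15_1 D50055 (iv D47865) (iv F214326)
theorem F224259 : act 2 n50055 = n48663 := d22_1 D50055 (iv D48663) (iv F214327)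
theorem F224260 : act 4 n50055 = n47909 := d33_1 D50055 (iv D47909) (iv F214329)
theorem F224261 : act 6 n50055 = n47867 := d40_1 D50055 (iv D47867) (iv F214330)
theorem F224262 : act 9 n50055 = n50055 := d44_2 D47864 D50055 (iv D50055) (iv D47864) F186396
def n50056 : Q := act 3 n47865
theorem D50056 : act 3 n47865 = n50056 := rfl
theorem F224263 : act 0 n50056 = n50056 := d2_1 D50056 (iv D50056) F214331
theorem F224264 : act 2 n50056 = n50056 := d17_1 D50056 (iv D50056) F214332 F186403 (iv F214332)
theorem F224265 : act 4 n50056 = n48638 := d24_2 (iv F214333) D50056 (iv D48638) F214557 (iv D47910)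
theorem F224266 : act 6 n50056 = n47868 := d26_2 (iv F214334) D50056 (iv D47868)
theorem F224267 : act 7 n50056 = n48643 := d27_2 F217814 D50056 F217816
theorem F224268 : act 8 n50056 = n50056 := d28_2 D47865 D50056 (iv D50056) (iv D47865) F186399
theorem F224269 : act 9 n50056 = n50056 := d29_2 F214335 D50056 (iv D50056)
def n50057 : Q := act 8 n47866
theorem D50057 : act 8 n47866 = n50057 := rfl
theorem F224270 : act 0 n50057 = n47867 := d7_1 D50057 (iv D47867) (iv F214336)
theorem F224271 : act 1 n50057 = n50057 := d15_1 D50057 (iv D50057) F214337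
theorem F224272 : act 2 n50057 = n48665 := d22_1 D50057 (iv D48665) (iv F214338)
theorem F224273 : act 4 n50057 = n47911 := d33_1 D50057 (iv D47911) (iv F214340)
theorem F224274 : act 5 n50057 = n50057 := d37_1 D50057 (iv D50057) F214341
theorem F224275 : act 7 n50057 = n50057 := d42_1 D50057 (iv D50057) F214342
theorem F224276 : act 9 n50057 = n50057 := d44_2 D47866 D50057 (iv D50057) (iv D47866) F186412
def n50058 : Q := act 3 n47867
theorem D50058 : act 3 n47867 = n50058 := rfl
theorem F224277 : act 1 n50058 = n47868 := d10_1 D50058 (iv D47868) (iv F214343)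
theorem F224278 : act 5 n50058 = n50058 := d25_2 F214346 D50058 (iv D50058)
theorem F224279 : act 7 n50058 = n50058 := d27_2 F214347 D50058 (iv D50058)
theorem F224280 : act 8 n50058 = n50058 := d28_2 D47867 D50058 (iv D50058) (iv D47867) F186414
theorem F224281 : act 9 n50058 = n50058 := d29_2 F214348 D50058 (iv D50058)
def n50059 : Q := act 4 n47868
theorem D50059 : act 4 n47868 = n50059 := rfl
theorem F224282 : act 0 n50059 = n50059 := d3_1 D50059 (iv D50059) F214349
theorem F224283 : act 2 n50059 = n50059 := d18_1 D50059 (iv D50059) F214350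
theorem F224284 : act 3 n50059 = n47913 := d24_1 D50059 (iv D47913) (iv D44784) (iv F186420) D47868
theorem F224285 : act 6 n50059 = n48638 := d31_2 F224266 D50059 (iv F224265)
theorem F224286 : act 7 n50059 = n50059 := d32_2 F214352 D50059 (iv D50059)
theorem F224287 : act 8 n50059 = n50059 := d33_2 F214353 D50059 (iv D50059)
theorem F224288 : act 9 n50059 = n50059 := d34_2 F214354 D50059 (iv D50059)
def n50060 : Q := act 3 n47869
theorem D50060 : act 3 n47869 = n50060 := rfl
theorem F224289 : act 0 n50060 = n47975 := d2_1 D50060 (iv D47975) (iv F214355)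
theorem F224290 : act 1 n50060 = n48330 := d10_1 D50060 (iv D48330) (iv F214356)
theorem F224291 : act 5 n50060 = n47925 := d25_2 (iv F214359) D50060 (iv D47925)
theorem F224292 : act 7 n50060 = n47923 := d27_2 (iv F214360) D50060 (iv D47923)
theorem F224293 : act 8 n50060 = n47932 := d28_2 D47869 D50060 (iv D47932) (iv D44827) (iv F198713)
def n50061 : Q := act 9 n47869
theorem D50061 : act 9 n47869 = n50061 := rfl
theorem F224294 : act 0 n50061 = n47976 := d8_1 D50061 (iv D47976) (iv F214355)
theorem F224295 : act 1 n50061 = n48331 := d16_1 D50061 (iv D48331) (iv F214356)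
theorem F224296 : act 2 n50061 = n50061 := d23_1 D50061 (iv D50061) F214357
theorem F224297 : act 4 n50061 = n47872 := d34_1 D50061 (iv D47872) (iv F214358)
theorem F224298 : act 5 n50061 = n47926 := d38_1 D50061 (iv D47926) (iv F214359)
theorem F224299 : act 7 n50061 = n47924 := d43_1 D50061 (iv D47924) (iv F214360)
theorem F224300 : act 8 n50061 = n47973 := d44_1 D50061 (iv D47973) (iv D44868) (iv F186647) D47869
def n50062 : Q := act 3 n47870
theorem D50062 : act 3 n47870 = n50062 := rfl
theorem F224301 : act 0 n50062 = n47972 := d2_1 D50062 (iv D47972) (iv F214361)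
theorem F224302 : act 1 n50062 = n48333 := d10_1 D50062 (iv D48333) (iv F214362)
theorem F224303 : act 5 n50062 = n47873 := d25_2 (iv F214365) D50062 (iv D47873)
theorem F224304 : act 7 n50062 = n47871 := d27_2 (iv F214366) D50062 (iv D47871)
theorem F224305 : act 8 n50062 = n47877 := d28_2 D47870 D50062 (iv D47877) (iv D44726) (iv F186650)
def n50063 : Q := act 9 n47870
theorem D50063 : act 9 n47870 = n50063 := rfl
theorem F224306 : act 0 n50063 = n47973 := d8_1 D50063 (iv D47973) (iv F214361)
theorem F224307 : act 1 n50063 = n48334 := d16_1 D50063 (iv D48334) (iv F214362)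
theorem F224308 : act 2 n50063 = n50063 := d23_1 D50063 (iv D50063) F214363
theorem F224309 : act 4 n50063 = n47924 := d34_1 D50063 (iv D47924) (iv F214364)
theorem F224310 : act 5 n50063 = n47874 := d38_1 D50063 (iv D47874) (iv F214365)
theorem F224311 : act 7 n50063 = n47872 := d43_1 D50063 (iv D47872) (iv F214366)
theorem F224312 : act 8 n50063 = n47976 := d44_1 D50063 (iv D47976) (iv D44870) (iv F186652) D47870
def n50064 : Q := act 4 n47871
theorem D50064 : act 4 n47871 = n50064 := rfl
theorem F224313 : act 0 n50064 = n48448 := d3_1 D50064 F216482 (iv F214367)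
theorem F224314 : act 1 n50064 = n48335 := d11_1 D50064 (iv D48335) (iv F214368)
theorem F224315 : act 5 n50064 = n48400 := d30_2 (iv F214369) D50064 (iv D48400) F190207 (iv F203515)
theorem F224316 : act 8 n50064 = n47880 := d33_2 (iv F214370) D50064 (iv D47880)
def n50065 : Q := act 9 n47871
theorem D50065 : act 9 n47871 = n50065 := rfl
theorem F224317 : act 0 n50065 = n48463 := d8_1 D50065 (iv D48463) (iv F214367)
theorem F224318 : act 1 n50065 = n48336 := d16_1 D50065 (iv D48336) (iv F214368)
theorem F224319 : act 3 n50065 = n47872 := d29_1 D50065 (iv D47872) D47871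
theorem F224320 : act 5 n50065 = n47875 := d38_1 D50065 (iv D47875) (iv F214369)
def n50066 : Q := act 9 n47873
theorem D50066 : act 9 n47873 = n50066 := rfl
theorem F224321 : act 0 n50066 = n48454 := d8_1 D50066 (iv D48454) (iv F214376)
theorem F224322 : act 1 n50066 = n48338 := d16_1 D50066 (iv D48338) (iv F214377)
theorem F224323 : act 3 n50066 = n47874 := d29_1 D50066 (iv D47874) D47873
theorem F224324 : act 4 n50066 = n48402 := d34_1 D50066 (iv D48402) (iv F214378)
theorem F224325 : act 6 n50066 = n50066 := d41_1 D50066 (iv D50066) F214379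
theorem F224326 : act 7 n50066 = n47875 := d43_1 D50066 (iv D47875) (iv F214380)
def n50067 : Q := act 8 n47875
theorem D50067 : act 8 n47875 = n50067 := rfl
theorem F224327 : act 0 n50067 = n48464 := d7_1 D50067 (iv D48464) (iv F214389)
theorem F224328 : act 1 n50067 = n48341 := d15_1 D50067 (iv D48341) (iv F214390)
theorem F224329 : act 3 n50067 = n47987 := d28_1 D50067 (iv D47987) F187260 (iv F186668) (iv F214391)
theorem F224330 : act 4 n50067 = n48403 := d33_1 D50067 (iv D48403) (iv F214392)
theorem F224331 : act 6 n50067 = n47876 := d40_1 D50067 (iv D47876) (iv F214393)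
theorem F224332 : act 9 n50067 = n47886 := d44_2 D47875 D50067 (iv D47886) (iv D44733) (iv F186663)
def n50068 : Q := act 4 n47877
theorem D50068 : act 4 n47877 = n50068 := rfl
theorem F224333 : act 0 n50068 = n48480 := d3_1 D50068 F216581 (iv F214400)
theorem F224334 : act 1 n50068 = n48346 := d11_1 D50068 (iv D48346) (iv F214401)
theorem F224335 : act 5 n50068 = n48407 := d30_2 (iv F214402) D50068 (iv D48407) F190260 (iv F202626)
theorem F224336 : act 7 n50068 = n47880 := d32_2 (iv F214403) D50068 (iv D47880)
def n50069 : Q := act 9 n47877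
theorem D50069 : act 9 n47877 = n50069 := rfl
theorem F224337 : act 0 n50069 = n48500 := d8_1 D50069 (iv D48500) (iv F214400)
theorem F224338 : act 1 n50069 = n48347 := d16_1 D50069 (iv D48347) (iv F214401)
theorem F224339 : act 3 n50069 = n47878 := d29_1 D50069 (iv D47878) D47877
theorem F224340 : act 5 n50069 = n47883 := d38_1 D50069 (iv D47883) (iv F214402)
theorem F224341 : act 7 n50069 = n47881 := d43_1 D50069 (iv D47881) (iv F214403)
def n50070 : Q := act 1 n47879
theorem D50070 : act 1 n47879 = n50070 := rfl
theorem F224342 : act 2 n50070 = n48348 := d9_2 D47879 D50070 (iv D48348) (iv D45572) (iv F186687)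
theorem F224343 : act 3 n50070 = n47890 := d10_2 (iv F214411) D50070 (iv D47890)
theorem F224344 : act 5 n50070 = n47884 := d12_2 (iv F214412) D50070 (iv D47884)
def n50071 : Q := act 4 n47879
theorem D50071 : act 4 n47879 = n50071 := rfl
theorem F224345 : act 0 n50071 = n48487 := d3_1 D50071 F216595 (iv F214410)
theorem F224346 : act 2 n50071 = n47880 := d18_1 D50071 (iv D47880) D47879
theorem F224347 : act 5 n50071 = n48410 := d30_2 (iv F214412) D50071 (iv D48410) F190268 (iv F203513)
def n50072 : Q := act 9 n47879
theorem D50072 : act 9 n47879 = n50072 := rfl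
theorem F224348 : act 0 n50072 = n48508 := d8_1 D50072 (iv D48508) (iv F214410)
theorem F224349 : act 2 n50072 = n47881 := d23_1 D50072 (iv D47881) D47879
theorem F224350 : act 3 n50072 = n47891 := d29_1 D50072 (iv D47891) (iv F214411)
theorem F224351 : act 5 n50072 = n47885 := d38_1 D50072 (iv D47885) (iv F214412)
def n50073 : Q := act 9 n47880
theorem D50073 : act 9 n47880 = n50073 := rfl
theorem F224352 : act 0 n50073 = n48491 := d8_1 D50073 (iv D48491) (iv F214413)
theorem F224353 : act 1 n50073 = n48352 := d16_1 D50073 (iv D48352) (iv F214414)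
theorem F224354 : act 4 n50073 = n47881 := d34_1 D50073 (iv D47881) D47880
theorem F224355 : act 5 n50073 = n48412 := d38_1 D50073 (iv D48412) (iv F214415)
def n50074 : Q := act 8 n47881
theorem D50074 : act 8 n47881 = n50074 := rfl
theorem F224356 : act 0 n50074 = n48513 := d7_1 D50074 (iv D48513) (iv F214416)
theorem F224357 : act 1 n50074 = n48353 := d15_1 D50074 (iv D48353) (iv F214417)
theorem F224358 : act 3 n50074 = n48005 := d28_1 D50074 (iv D48005) F187298 (iv F186692) (iv F214418)
theorem F224359 : act 5 n50074 = n47886 := d37_1 D50074 (iv D47886) (iv F214419)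
def n50075 : Q := act 1 n47882
theorem D50075 : act 1 n47882 = n50075 := rfl
theorem F224360 : act 2 n50075 = n48354 := d9_2 D47882 D50075 (iv D48354) (iv D45575) (iv F186693)
theorem F224361 : act 3 n50075 = n47893 := d10_2 (iv F214421) D50075 (iv D47893)
theorem F224362 : act 4 n50075 = n48414 := d11_2 (iv F214422) D50075 (iv D48414)
theorem F224363 : act 6 n50075 = n50075 := d13_2 F214423 D50075 (iv D50075)
theorem F224364 : act 7 n50075 = n47884 := d14_2 (iv F214424) D50075 (iv D47884)
def n50076 : Q := act 9 n47882
theorem D50076 : act 9 n47882 = n50076 := rfl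
theorem F224365 : act 0 n50076 = n48497 := d8_1 D50076 (iv D48497) (iv F214420)
theorem F224366 : act 2 n50076 = n47883 := d23_1 D50076 (iv D47883) D47882
theorem F224367 : act 3 n50076 = n47894 := d29_1 D50076 (iv D47894) (iv F214421)
theorem F224368 : act 4 n50076 = n48415 := d34_1 D50076 (iv D48415) (iv F214422)
theorem F224369 : act 6 n50076 = n50076 := d41_1 D50076 (iv D50076) F214423
theorem F224370 : act 7 n50076 = n47885 := d43_1 D50076 (iv D47885) (iv F214424)
def n50077 : Q := act 8 n47883
theorem D50077 : act 8 n47883 = n50077 := rfl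
theorem F224371 : act 0 n50077 = n48501 := d7_1 D50077 (iv D48501) (iv F214425)
theorem F224372 : act 1 n50077 = n48359 := d15_1 D50077 (iv D48359) (iv F214426)
theorem F224373 : act 3 n50077 = n48011 := d28_1 D50077 (iv D48011) F187308 (iv F186701) (iv F214427)
theorem F224374 : act 4 n50077 = n48416 := d33_1 D50077 (iv D48416) (iv F214428)
theorem F224375 : act 6 n50077 = n50077 := d40_1 D50077 (iv D50077) F214429
theorem F224376 : act 7 n50077 = n47886 := d42_1 D50077 (iv D47886) (iv F214430)
def n50078 : Q := act 0 n47884
theorem D50078 : act 0 n47884 = n50078 := rfl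
theorem F224377 : act 1 n50078 = n48502 := d0_2 D47884 D50078 F216634 F190601 (iv F203512)
theorem F224378 : act 2 n50078 = n47992 := d1_2 (iv F214431) D50078 F214926
theorem F224379 : act 3 n50078 = n47896 := d2_2 (iv F214432) D50078 (iv D47896)
theorem F224380 : act 4 n50078 = n48417 := d3_2 (iv F214433) D50078 (iv D48417)
theorem F224381 : act 6 n50078 = n47887 := d5_2 (iv F214434) D50078 (iv D47887)
theorem F224382 : act 8 n50078 = n48026 := d7_2 F222334 D50078 (iv F222329)
def n50079 : Q := act 9 n47884
theorem D50079 : act 9 n47884 = n50079 := rfl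
theorem F224383 : act 1 n50079 = n47885 := d16_1 D50079 (iv D47885) D47884
theorem F224384 : act 2 n50079 = n48361 := d23_1 D50079 (iv D48361) (iv F214431)
theorem F224385 : act 3 n50079 = n47897 := d29_1 D50079 (iv D47897) (iv F214432)
theorem F224386 : act 4 n50079 = n48418 := d34_1 D50079 (iv D48418) (iv F214433)
theorem F224387 : act 6 n50079 = n47888 := d41_1 D50079 (iv D47888) (iv F214434)
def n50080 : Q := act 8 n47885
theorem D50080 : act 8 n47885 = n50080 := rfl
theorem F224388 : act 0 n50080 = n48509 := d7_1 D50080 (iv D48509) (iv F214435)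
theorem F224389 : act 2 n50080 = n47886 := d22_1 D50080 (iv D47886) (iv F214436)
theorem F224390 : act 4 n50080 = n48419 := d33_1 D50080 (iv D48419) (iv F214438)
theorem F224391 : act 6 n50080 = n47889 := d40_1 D50080 (iv D47889) (iv F214439)
def n50081 : Q := act 9 n47887
theorem D50081 : act 9 n47887 = n50081 := rfl
theorem F224392 : act 0 n50081 = n47888 := d8_1 D50081 (iv D47888) D47887
theorem F224393 : act 1 n50081 = n48514 := d16_1 D50081 (iv D48514) (iv F214445)
theorem F224394 : act 2 n50081 = n47993 := d23_1 D50081 (iv D47993) (iv F214446)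
theorem F224395 : act 3 n50081 = n47899 := d29_1 D50081 (iv D47899) (iv F214447)
theorem F224396 : act 4 n50081 = n48420 := d34_1 D50081 (iv D48420) (iv F214448)
theorem F224397 : act 5 n50081 = n47990 := d38_1 D50081 (iv D47990) (iv F214449)
theorem F224398 : act 7 n50081 = n50081 := d43_1 D50081 (iv D50081) F214450
def n50082 : Q := act 8 n47888
theorem D50082 : act 8 n47888 = n50082 := rfl
theorem F224399 : act 1 n50082 = n47889 := d15_1 D50082 (iv D47889) (iv F214452)
theorem F224400 : act 2 n50082 = n48368 := d22_1 D50082 (iv D48368) (iv F214453)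
theorem F224401 : act 4 n50082 = n48421 := d33_1 D50082 (iv D48421) (iv F214455)
theorem F224402 : act 7 n50082 = n50082 := d42_1 D50082 (iv D50082) F214456
def n50083 : Q := act 3 n47889
theorem D50083 : act 3 n47889 = n50083 := rfl
theorem F224403 : act 0 n50083 = n48523 := d2_1 D50083 (iv D48523) (iv F214457)
theorem F224404 : act 2 n50083 = n48029 := d17_1 D50083 (iv D48029) F187346 (iv F186726) (iv F214458)
theorem F224405 : act 7 n50083 = n50083 := d27_2 F214460 D50083 (iv D50083)
theorem F224406 : act 8 n50083 = n47901 := d28_2 D47889 D50083 (iv D47901) (iv D44765) (iv F186716)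
def n50084 : Q := act 0 n47890
theorem D50084 : act 0 n47890 = n50084 := rfl
theorem F224407 : act 1 n50084 = n48700 := d0_2 D47890 D50084 F217397 F207463 (iv F206733)
theorem F224408 : act 2 n50084 = n47902 := d1_2 (iv F214461) D50084 (iv D47902)
theorem F224409 : act 5 n50084 = n47896 := d4_2 (iv F214462) D50084 (iv D47896)
theorem F224410 : act 6 n50084 = n48553 := d5_2 F218988 D50084 F218991
theorem F224411 : act 8 n50084 = n50084 := d7_2 F214463 D50084 (iv D50084)
def n50085 : Q := act 9 n47890
theorem D50085 : act 9 n47890 = n50085 := rfl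
theorem F224412 : act 1 n50085 = n47891 := d16_1 D50085 (iv D47891) D47890
theorem F224413 : act 2 n50085 = n47903 := d23_1 D50085 (iv D47903) (iv F214461)
theorem F224414 : act 5 n50085 = n47897 := d38_1 D50085 (iv D47897) (iv F214462)
def n50086 : Q := act 8 n47891
theorem D50086 : act 8 n47891 = n50086 := rfl
theorem F224415 : act 0 n50086 = n48708 := d7_1 D50086 (iv D48708) (iv F214464)
theorem F224416 : act 2 n50086 = n47892 := d22_1 D50086 (iv D47892) (iv F214465)
theorem F224417 : act 5 n50086 = n47898 := d37_1 D50086 (iv D47898) (iv F214466)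
theorem F224418 : act 9 n50086 = n50086 := d44_2 D47891 D50086 (iv D50086) (iv D47891) F186781
def n50087 : Q := act 0 n47893
theorem D50087 : act 0 n47893 = n50087 := rfl
theorem F224419 : act 1 n50087 = n48694 := d0_2 D47893 D50087 F217370 F207424 F206731
theorem F224420 : act 2 n50087 = n47905 := d1_2 (iv F214472) D50087 (iv D47905)
theorem F224421 : act 4 n50087 = n48659 := d3_2 (iv F214473) D50087 (iv D48659)
theorem F224422 : act 6 n50087 = n50087 := d5_2 F214474 D50087 (iv D50087)
theorem F224423 : act 7 n50087 = n47896 := d6_2 (iv F214475) D50087 (iv D47896)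
theorem F224424 : act 8 n50087 = n50087 := d7_2 F214476 D50087 (iv D50087)
def n50088 : Q := act 9 n47893
theorem D50088 : act 9 n47893 = n50088 := rfl
theorem F224425 : act 1 n50088 = n47894 := d16_1 D50088 (iv D47894) D47893
theorem F224426 : act 2 n50088 = n47906 := d23_1 D50088 (iv D47906) (iv F214472)
theorem F224427 : act 4 n50088 = n48660 := d34_1 D50088 (iv D48660) (iv F214473)
theorem F224428 : act 6 n50088 = n50088 := d41_1 D50088 (iv D50088) F214474
theorem F224429 : act 7 n50088 = n47897 := d43_1 D50088 (iv D47897) (iv F214475)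
def n50089 : Q := act 8 n47894
theorem D50089 : act 8 n47894 = n50089 := rfl
theorem F224430 : act 0 n50089 = n48698 := d7_1 D50089 (iv D48698) (iv F214477)
theorem F224431 : act 2 n50089 = n47895 := d22_1 D50089 (iv D47895) (iv F214478)
theorem F224432 : act 4 n50089 = n48661 := d33_1 D50089 (iv D48661) (iv F214479)
theorem F224433 : act 6 n50089 = n50089 := d40_1 D50089 (iv D50089) F214480
theorem F224434 : act 7 n50089 = n47898 := d42_1 D50089 (iv D47898) (iv F214481)
theorem F224435 : act 9 n50089 = n50089 := d44_2 D47894 D50089 (iv D50089) (iv D47894) F186789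
def n50090 : Q := act 9 n47896
theorem D50090 : act 9 n47896 = n50090 := rfl
theorem F224436 : act 0 n50090 = n47897 := d8_1 D50090 (iv D47897) D47896
theorem F224437 : act 1 n50090 = n48701 := d16_1 D50090 (iv D48701) (iv F214489)
theorem F224438 : act 2 n50090 = n47908 := d23_1 D50090 (iv D47908) (iv F214490)
theorem F224439 : act 4 n50090 = n48662 := d34_1 D50090 (iv D48662) (iv F214491)
theorem F224440 : act 6 n50090 = n47899 := d41_1 D50090 (iv D47899) (iv F214492)
def n50091 : Q := act 8 n47897
theorem D50091 : act 8 n47897 = n50091 := rfl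
theorem F224441 : act 1 n50091 = n47898 := d15_1 D50091 (iv D47898) (iv F214494)
theorem F224442 : act 2 n50091 = n47909 := d22_1 D50091 (iv D47909) (iv F214495)
theorem F224443 : act 4 n50091 = n48663 := d33_1 D50091 (iv D48663) (iv F214496)
theorem F224444 : act 6 n50091 = n47900 := d40_1 D50091 (iv D47900) (iv F214497)
theorem F224445 : act 9 n50091 = n50091 := d44_2 D47897 D50091 (iv D50091) (iv D47897) F186796
def n50092 : Q := act 3 n47898
theorem D50092 : act 3 n47898 = n50092 := rfl
theorem F224446 : act 0 n50092 = n48709 := d2_1 D50092 (iv D48709) (iv F214498)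
theorem F224447 : act 2 n50092 = n48056 := d17_1 D50092 (iv D48056) F187470 (iv F186800) (iv F214499)
theorem F224448 : act 6 n50092 = n47901 := d26_2 (iv F214501) D50092 (iv D47901)
theorem F224449 : act 9 n50092 = n50092 := d29_2 F214502 D50092 (iv D50092)
def n50093 : Q := act 8 n47899
theorem D50093 : act 8 n47899 = n50093 := rfl
theorem F224450 : act 0 n50093 = n47900 := d7_1 D50093 (iv D47900) (iv F214503)
theorem F224451 : act 1 n50093 = n48715 := d15_1 D50093 (iv D48715) (iv F214504)
theorem F224452 : act 2 n50093 = n47911 := d22_1 D50093 (iv D47911) (iv F214505)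
theorem F224453 : act 4 n50093 = n48665 := d33_1 D50093 (iv D48665) (iv F214506)
theorem F224454 : act 7 n50093 = n50093 := d42_1 D50093 (iv D50093) F214507
theorem F224455 : act 9 n50093 = n50093 := d44_2 D47899 D50093 (iv D50093) (iv D47899) F186805
def n50094 : Q := act 3 n47900
theorem D50094 : act 3 n47900 = n50094 := rfl
theorem F224456 : act 1 n50094 = n47901 := d10_1 D50094 (iv D47901) (iv F214508)
theorem F224457 : act 7 n50094 = n50094 := d27_2 F214511 D50094 (iv D50094)
theorem F224458 : act 9 n50094 = n50094 := d29_2 F214512 D50094 (iv D50094)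
def n50095 : Q := act 4 n47901
theorem D50095 : act 4 n47901 = n50095 := rfl
theorem F224459 : act 0 n50095 = n48723 := d3_1 D50095 (iv D48723) (iv F214513)
theorem F224460 : act 2 n50095 = n48059 := d18_1 D50095 (iv D48059) (iv F214514)
theorem F224461 : act 3 n50095 = n48667 := d24_1 D50095 (iv D48667) (iv D46453) (iv F206692) D47901
theorem F224462 : act 7 n50095 = n50095 := d32_2 F214515 D50095 (iv D50095)
theorem F224463 : act 9 n50095 = n50095 := d34_2 F214516 D50095 (iv D50095)
def n50096 : Q := act 9 n47902
theorem D50096 : act 9 n47902 = n50096 := rfl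
theorem F224464 : act 0 n50096 = n47903 := d8_1 D50096 (iv D47903) D47902
theorem F224465 : act 1 n50096 = n50096 := d16_1 D50096 (iv D50096) F214517
theorem F224466 : act 3 n50096 = n48387 := d29_1 D50096 (iv D48387) (iv F214518)
theorem F224467 : act 5 n50096 = n47908 := d38_1 D50096 (iv D47908) (iv F214519)
theorem F224468 : act 6 n50096 = n48555 := d41_1 D50096 (iv D48555) (iv F214520)
def n50097 : Q := act 8 n47903
theorem D50097 : act 8 n47903 = n50097 := rfl
theorem F224469 : act 1 n50097 = n47904 := d15_1 D50097 (iv D47904) (iv F214522)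
theorem F224470 : act 5 n50097 = n47909 := d37_1 D50097 (iv D47909) (iv F214524)
theorem F224471 : act 9 n50097 = n50097 := d44_2 D47903 D50097 (iv D50097) (iv D47903) F186835
def n50098 : Q := act 3 n47904
theorem D50098 : act 3 n47904 = n50098 := rfl
theorem F224472 : act 0 n50098 = n50098 := d2_1 D50098 (iv D50098) F214525
theorem F224473 : act 2 n50098 = n48070 := d17_1 D50098 (iv D48070) F187537 (iv F186846) (iv F214526)
theorem F224474 : act 5 n50098 = n47910 := d25_2 (iv F214527) D50098 (iv D47910)
theorem F224475 : act 7 n50098 = n48312 := d27_2 F219994 D50098 (iv F219990)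
theorem F224476 : act 8 n50098 = n48304 := d28_2 D47904 D50098 F215976 (iv D45639) (iv F186841)
theorem F224477 : act 9 n50098 = n50098 := d29_2 F214528 D50098 (iv D50098)
theorem F224478 : act 4 n48305 = n50098 := d33_3 F224476 F215977 D48305
def n50099 : Q := act 9 n47905
theorem D50099 : act 9 n47905 = n50099 := rfl
theorem F224479 : act 0 n50099 = n47906 := d8_1 D50099 (iv D47906) D47905
theorem F224480 : act 1 n50099 = n50099 := d16_1 D50099 (iv D50099) F214529
theorem F224481 : act 3 n50099 = n48390 := d29_1 D50099 (iv D48390) (iv F214530)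
theorem F224482 : act 6 n50099 = n50099 := d41_1 D50099 (iv D50099) F214531
theorem F224483 : act 7 n50099 = n47908 := d43_1 D50099 (iv D47908) (iv F214532)
def n50100 : Q := act 8 n47906
theorem D50100 : act 8 n47906 = n50100 := rfl
theorem F224484 : act 1 n50100 = n47907 := d15_1 D50100 (iv D47907) (iv F214534)
theorem F224485 : act 3 n50100 = n48641 := d28_1 D50100 (iv D48641) F216287 (iv D48391) (iv F214535)
theorem F224486 : act 6 n50100 = n50100 := d40_1 D50100 (iv D50100) F214536
theorem F224487 : act 7 n50100 = n47909 := d42_1 D50100 (iv D47909) (iv F214537)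
theorem F224488 : act 9 n50100 = n50100 := d44_2 D47906 D50100 (iv D50100) (iv D47906) F186852
def n50101 : Q := act 8 n47908
theorem D50101 : act 8 n47908 = n50101 := rfl
theorem F224489 : act 0 n50101 = n47909 := d7_1 D50101 (iv D47909) (iv F214544)
theorem F224490 : act 1 n50101 = n50101 := d15_1 D50101 (iv D50101) F214545
theorem F224491 : act 6 n50101 = n47911 := d40_1 D50101 (iv D47911) (iv F214547)
theorem F224492 : act 9 n50101 = n50101 := d44_2 D47908 D50101 (iv D50101) (iv D47908) F186866
def n50102 : Q := act 3 n47909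
theorem D50102 : act 3 n47909 = n50102 := rfl
theorem F224493 : act 1 n50102 = n47910 := d10_1 D50102 (iv D47910) (iv F214548)
theorem F224494 : act 6 n50102 = n47912 := d26_2 (iv F214549) D50102 (iv D47912)
theorem F224495 : act 7 n50102 = n48641 := d27_2 F224487 D50102 (iv F224485)
theorem F224496 : act 8 n50102 = n48393 := d28_2 D47909 D50102 (iv D48393) (iv D45645) (iv F186868)
theorem F224497 : act 9 n50102 = n50102 := d29_2 F214550 D50102 (iv D50102)
theorem F224498 : act 4 n48637 = n50102 := d33_3 F224496 (iv F216297) D48637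
def n50103 : Q := act 9 n47914
theorem D50103 : act 9 n47914 = n50103 := rfl
theorem F224499 : act 0 n50103 = n48394 := d8_1 D50103 (iv D48394) (iv F214572)
theorem F224500 : act 1 n50103 = n47924 := d16_1 D50103 (iv D47924) (iv F214573)
theorem F224501 : act 2 n50103 = n48546 := d23_1 D50103 (iv D48546) (iv F214574)
theorem F224502 : act 4 n50103 = n48334 := d34_1 D50103 (iv D48334) (iv F214575)
theorem F224503 : act 5 n50103 = n47915 := d38_1 D50103 (iv D47915) (iv F214576)
theorem F224504 : act 7 n50103 = n48331 := d43_1 D50103 (iv D48331) (iv F214577)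
theorem F224505 : act 8 n50103 = n48436 := d44_1 D50103 (iv D48436) (iv D45780) (iv F198761) D47914
def n50104 : Q := act 3 n47916
theorem D50104 : act 3 n47916 = n50104 := rfl
theorem F224506 : act 0 n50104 = n48357 := d2_1 D50104 F216155 (iv F214585)
theorem F224507 : act 1 n50104 = n47932 := d10_1 D50104 (iv D47932) (iv F214586)
theorem F224508 : act 5 n50104 = n47919 := d25_2 (iv F214589) D50104 (iv D47919)
theorem F224509 : act 7 n50104 = n47917 := d27_2 (iv F214590) D50104 (iv D47917)
theorem F224510 : act 8 n50104 = n48330 := d28_2 D47916 D50104 (iv D48330) (iv D45553) (iv F198706)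
def n50105 : Q := act 9 n47916
theorem D50105 : act 9 n47916 = n50105 := rfl
theorem F224511 : act 0 n50105 = n48371 := d8_1 D50105 (iv D48371) (iv F214585)
theorem F224512 : act 1 n50105 = n47933 := d16_1 D50105 (iv D47933) (iv F214586)
theorem F224513 : act 2 n50105 = n50105 := d23_1 D50105 (iv D50105) F214587
theorem F224514 : act 4 n50105 = n48161 := d34_1 D50105 (iv D48161) (iv F214588)
theorem F224515 : act 5 n50105 = n47920 := d38_1 D50105 (iv D47920) (iv F214589)
theorem F224516 : act 7 n50105 = n47918 := d43_1 D50105 (iv D47918) (iv F214590)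
theorem F224517 : act 8 n50105 = n48033 := d44_1 D50105 (iv D48033) F203005 (iv F198708) D47916
def n50106 : Q := act 4 n47917
theorem D50106 : act 4 n47917 = n50106 := rfl
theorem F224518 : act 0 n50106 = n48351 := d3_1 D50106 F216139 (iv F214591)
theorem F224519 : act 1 n50106 = n47935 := d11_1 D50106 (iv D47935) (iv F214592)
theorem F224520 : act 5 n50106 = n48325 := d30_2 (iv F214593) D50106 (iv D48325) F189517 (iv F203009)
def n50107 : Q := act 9 n47917
theorem D50107 : act 9 n47917 = n50107 := rfl
theorem F224521 : act 0 n50107 = n48365 := d8_1 D50107 (iv D48365) (iv F214591)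
theorem F224522 : act 1 n50107 = n47936 := d16_1 D50107 (iv D47936) (iv F214592)
theorem F224523 : act 3 n50107 = n47918 := d29_1 D50107 (iv D47918) D47917
theorem F224524 : act 5 n50107 = n47921 := d38_1 D50107 (iv D47921) (iv F214593)
def n50108 : Q := act 9 n47919
theorem D50108 : act 9 n47919 = n50108 := rfl
theorem F224525 : act 0 n50108 = n48358 := d8_1 D50108 (iv D48358) (iv F214599)
theorem F224526 : act 1 n50108 = n47939 := d16_1 D50108 (iv D47939) (iv F214600)
theorem F224527 : act 3 n50108 = n47920 := d29_1 D50108 (iv D47920) D47919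
theorem F224528 : act 4 n50108 = n48327 := d34_1 D50108 (iv D48327) (iv F214601)
theorem F224529 : act 6 n50108 = n50108 := d41_1 D50108 (iv D50108) F214602
theorem F224530 : act 7 n50108 = n47921 := d43_1 D50108 (iv D47921) (iv F214603)
def n50109 : Q := act 8 n47921
theorem D50109 : act 8 n47921 = n50109 := rfl
theorem F224531 : act 0 n50109 = n48366 := d7_1 D50109 (iv D48366) (iv F214612)
theorem F224532 : act 1 n50109 = n47945 := d15_1 D50109 (iv D47945) (iv F214613)
theorem F224533 : act 3 n50109 = n48020 := d28_1 D50109 (iv D48020) F187323 (iv F203008) (iv F214614)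
theorem F224534 : act 4 n50109 = n48328 := d33_1 D50109 (iv D48328) (iv F214615)
theorem F224535 : act 6 n50109 = n47922 := d40_1 D50109 (iv D47922) (iv F214616)
def n50110 : Q := act 2 n47923
theorem D50110 : act 2 n47923 = n50110 := rfl
theorem F224536 : act 0 n50110 = n47977 := d1_1 D50110 (iv D47977) (iv F214622)
theorem F224537 : act 3 n50110 = n50110 := d17_2 D47923 D50110 (iv D50110) (iv D47923) F187036
theorem F224538 : act 5 n50110 = n47927 := d19_2 (iv F214623) D50110 (iv D47927)
theorem F224539 : act 8 n50110 = n47934 := d22_2 (iv F214624) D50110 (iv D47934)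
def n50111 : Q := act 4 n47923
theorem D50111 : act 4 n47923 = n50111 := rfl
theorem F224540 : act 0 n50111 = n47978 := d3_1 D50111 (iv D47978) (iv F214622)
theorem F224541 : act 8 n50111 = n47935 := d33_2 (iv F214624) D50111 (iv D47935)
def n50112 : Q := act 9 n47923
theorem D50112 : act 9 n47923 = n50112 := rfl
theorem F224542 : act 0 n50112 = n47979 := d8_1 D50112 (iv D47979) (iv F214622)
theorem F224543 : act 3 n50112 = n47924 := d29_1 D50112 (iv D47924) D47923
theorem F224544 : act 5 n50112 = n47928 := d38_1 D50112 (iv D47928) (iv F214623)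
def n50113 : Q := act 2 n47925
theorem D50113 : act 2 n47925 = n50113 := rfl
theorem F224545 : act 0 n50113 = n47980 := d1_1 D50113 (iv D47980) (iv F214629)
theorem F224546 : act 3 n50113 = n50113 := d17_2 D47925 D50113 (iv D50113) (iv D47925) F187039
theorem F224547 : act 4 n50113 = n48731 := d18_2 (iv F214631) D50113 (iv D48731)
theorem F224548 : act 6 n50113 = n50113 := d20_2 F214632 D50113 (iv D50113)
theorem F224549 : act 7 n50113 = n47927 := d21_2 (iv F214633) D50113 (iv D47927)
theorem F224550 : act 8 n50113 = n47937 := d22_2 (iv F214634) D50113 (iv D47937)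
def n50114 : Q := act 9 n47925
theorem D50114 : act 9 n47925 = n50114 := rfl
theorem F224551 : act 0 n50114 = n47981 := d8_1 D50114 (iv D47981) (iv F214629)
theorem F224552 : act 1 n50114 = n48730 := d16_1 D50114 (iv D48730) (iv F214630)
theorem F224553 : act 3 n50114 = n47926 := d29_1 D50114 (iv D47926) D47925
theorem F224554 : act 4 n50114 = n48732 := d34_1 D50114 (iv D48732) (iv F214631)
theorem F224555 : act 6 n50114 = n50114 := d41_1 D50114 (iv D50114) F214632
theorem F224556 : act 7 n50114 = n47928 := d43_1 D50114 (iv D47928) (iv F214633)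
def n50115 : Q := act 9 n47927
theorem D50115 : act 9 n47927 = n50115 := rfl
theorem F224557 : act 0 n50115 = n47984 := d8_1 D50115 (iv D47984) (iv F214642)
theorem F224558 : act 2 n50115 = n47928 := d23_1 D50115 (iv D47928) D47927
theorem F224559 : act 3 n50115 = n50115 := d29_1 D50115 (iv D50115) F214643
theorem F224560 : act 6 n50115 = n47929 := d41_1 D50115 (iv D47929) (iv F214644)
def n50116 : Q := act 8 n47928
theorem D50116 : act 8 n47928 = n50116 := rfl
theorem F224561 : act 0 n50116 = n47987 := d7_1 D50116 (iv D47987) (iv F214646)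
theorem F224562 : act 3 n50116 = n48464 := d28_1 D50116 (iv D48464) F190525 (iv F206796) (iv F214647)
theorem F224563 : act 6 n50116 = n47930 := d40_1 D50116 (iv D47930) (iv F214648)
theorem F224564 : act 9 n50116 = n47945 := d44_2 D47928 D50116 (iv D47945) (iv D44834) (iv F187045)
def n50117 : Q := act 8 n47929
theorem D50117 : act 8 n47929 = n50117 := rfl
theorem F224565 : act 0 n50117 = n47991 := d7_1 D50117 (iv D47991) (iv F214649)
theorem F224566 : act 2 n50117 = n47930 := d22_1 D50117 (iv D47930) (iv F214650)
theorem F224567 : act 7 n50117 = n50117 := d42_1 D50117 (iv D50117) F214652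
theorem F224568 : act 9 n50117 = n47948 := d44_2 D47929 D50117 (iv D47948) (iv D44837) (iv F187053)
def n50118 : Q := act 3 n47931
theorem D50118 : act 3 n47931 = n50118 := rfl
theorem F224569 : act 0 n50118 = n47995 := d2_1 D50118 (iv D47995) (iv F214657)
theorem F224570 : act 5 n50118 = n50118 := d25_2 F214659 D50118 (iv D50118)
theorem F224571 : act 6 n50118 = n47932 := d26_2 (iv F214660) D50118 (iv D47932)
def n50119 : Q := act 9 n47931
theorem D50119 : act 9 n47931 = n50119 := rfl
theorem F224572 : act 0 n50119 = n47996 := d8_1 D50119 (iv D47996) (iv F214657)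
theorem F224573 : act 2 n50119 = n47954 := d23_1 D50119 (iv D47954) (iv F214658)
theorem F224574 : act 5 n50119 = n50119 := d38_1 D50119 (iv D50119) F214659
theorem F224575 : act 6 n50119 = n47933 := d41_1 D50119 (iv D47933) (iv F214660)
theorem F224576 : act 8 n50119 = n48528 := d44_1 D50119 (iv D48528) F190657 (iv F206823) D47931
def n50120 : Q := act 2 n47932
theorem D50120 : act 2 n47932 = n50120 := rfl
theorem F224577 : act 0 n50120 = n47997 := d1_1 D50120 (iv D47997) (iv F214661)
theorem F224578 : act 3 n50120 = n47955 := d17_2 D47932 D50120 (iv D47955) (iv D44854) (iv F187065)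
theorem F224579 : act 5 n50120 = n47937 := d19_2 (iv F214662) D50120 (iv D47937)
theorem F224580 : act 7 n50120 = n47934 := d21_2 (iv F214663) D50120 (iv D47934)
def n50121 : Q := act 4 n47932
theorem D50121 : act 4 n47932 = n50121 := rfl
theorem F224581 : act 0 n50121 = n47998 := d3_1 D50121 (iv D47998) (iv F214661)
theorem F224582 : act 7 n50121 = n47935 := d32_2 (iv F214663) D50121 (iv D47935)
def n50122 : Q := act 9 n47932
theorem D50122 : act 9 n47932 = n50122 := rfl
theorem F224583 : act 0 n50122 = n47999 := d8_1 D50122 (iv D47999) (iv F214661)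
theorem F224584 : act 3 n50122 = n47933 := d29_1 D50122 (iv D47933) D47932
theorem F224585 : act 5 n50122 = n47939 := d38_1 D50122 (iv D47939) (iv F214662)
theorem F224586 : act 7 n50122 = n47936 := d43_1 D50122 (iv D47936) (iv F214663)
def n50123 : Q := act 1 n47934
theorem D50123 : act 1 n47934 = n50123 := rfl
theorem F224587 : act 3 n50123 = n47958 := d10_2 (iv F214670) D50123 (iv D47958)
theorem F224588 : act 5 n50123 = n47940 := d12_2 (iv F214671) D50123 (iv D47940)
theorem F224589 : act 6 n50123 = n48579 := d13_2 F219380 D50123 F219382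
def n50124 : Q := act 4 n47934
theorem D50124 : act 4 n47934 = n50124 := rfl
theorem F224590 : act 0 n50124 = n48001 := d3_1 D50124 (iv D48001) (iv F214669)
theorem F224591 : act 2 n50124 = n47935 := d18_1 D50124 (iv D47935) D47934
def n50125 : Q := act 9 n47934
theorem D50125 : act 9 n47934 = n50125 := rfl
theorem F224592 : act 0 n50125 = n48002 := d8_1 D50125 (iv D48002) (iv F214669)
theorem F224593 : act 2 n50125 = n47936 := d23_1 D50125 (iv D47936) D47934
theorem F224594 : act 3 n50125 = n47960 := d29_1 D50125 (iv D47960) (iv F214670)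
theorem F224595 : act 5 n50125 = n47942 := d38_1 D50125 (iv D47942) (iv F214671)
def n50126 : Q := act 5 n47935
theorem D50126 : act 5 n47935 = n50126 := rfl
theorem F224596 : act 0 n50126 = n48003 := d4_1 D50126 (iv D48003) (iv F214672)
theorem F224597 : act 1 n50126 = n48325 := d12_1 D50126 (iv F224520) F224519
theorem F224598 : act 4 n50126 = n47943 := d30_1 D50126 (iv D47943) (iv D44833) (iv F187069) D47935
def n50127 : Q := act 9 n47935
theorem D50127 : act 9 n47935 = n50127 := rfl
theorem F224599 : act 0 n50127 = n48004 := d8_1 D50127 (iv D48004) (iv F214672)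
theorem F224600 : act 4 n50127 = n47936 := d34_1 D50127 (iv D47936) D47935
def n50128 : Q := act 8 n47936
theorem D50128 : act 8 n47936 = n50128 := rfl
theorem F224601 : act 0 n50128 = n48005 := d7_1 D50128 (iv D48005) (iv F214673)
theorem F224602 : act 3 n50128 = n48513 := d28_1 D50128 (iv D48513) F190617 (iv F203497) (iv F214674)
theorem F224603 : act 5 n50128 = n47945 := d37_1 D50128 (iv D47945) (iv F214675)
def n50129 : Q := act 1 n47937
theorem D50129 : act 1 n47937 = n50129 := rfl
theorem F224604 : act 3 n50129 = n47963 := d10_2 (iv F214677) D50129 (iv D47963)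
theorem F224605 : act 6 n50129 = n50129 := d13_2 F214678 D50129 (iv D50129)
theorem F224606 : act 7 n50129 = n47940 := d14_2 (iv F214679) D50129 (iv D47940)
def n50130 : Q := act 4 n47937
theorem D50130 : act 4 n47937 = n50130 := rfl
theorem F224607 : act 0 n50130 = n48007 := d3_1 D50130 (iv D48007) (iv F214676)
theorem F224608 : act 2 n50130 = n47938 := d18_1 D50130 (iv D47938) D47937
theorem F224609 : act 3 n50130 = n50130 := d24_1 D50130 (iv D50130) F214677 F187184 (iv F214677)
theorem F224610 : act 6 n50130 = n50130 := d31_2 F214678 D50130 (iv D50130)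
theorem F224611 : act 7 n50130 = n47941 := d32_2 (iv F214679) D50130 (iv D47941)
theorem F224612 : act 8 n50130 = n48731 := d33_2 F224550 D50130 (iv F224547)
def n50131 : Q := act 9 n47937
theorem D50131 : act 9 n47937 = n50131 := rfl
theorem F224613 : act 0 n50131 = n48008 := d8_1 D50131 (iv D48008) (iv F214676)
theorem F224614 : act 2 n50131 = n47939 := d23_1 D50131 (iv D47939) D47937
theorem F224615 : act 3 n50131 = n47964 := d29_1 D50131 (iv D47964) (iv F214677)
theorem F224616 : act 6 n50131 = n50131 := d41_1 D50131 (iv D50131) F214678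
theorem F224617 : act 7 n50131 = n47942 := d43_1 D50131 (iv D47942) (iv F214679)
def n50132 : Q := act 5 n47938
theorem D50132 : act 5 n47938 = n50132 := rfl
theorem F224618 : act 0 n50132 = n48009 := d4_1 D50132 (iv D48009) (iv F214680)
theorem F224619 : act 1 n50132 = n48323 := d12_1 D50132 F216055 (iv F214681)
theorem F224620 : act 3 n50132 = n47950 := d25_1 D50132 (iv D47950) (iv F214682)
theorem F224621 : act 7 n50132 = n47943 := d36_2 (iv F214684) D50132 (iv D47943)
theorem F224622 : act 8 n50132 = n48396 := d37_2 (iv F214685) D50132 F216308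
def n50133 : Q := act 9 n47938
theorem D50133 : act 9 n47938 = n50133 := rfl
theorem F224623 : act 0 n50133 = n48010 := d8_1 D50133 (iv D48010) (iv F214680)
theorem F224624 : act 1 n50133 = n48327 := d16_1 D50133 (iv D48327) (iv F214681)
theorem F224625 : act 3 n50133 = n47951 := d29_1 D50133 (iv D47951) (iv F214682)
theorem F224626 : act 4 n50133 = n47939 := d34_1 D50133 (iv D47939) D47938
theorem F224627 : act 6 n50133 = n50133 := d41_1 D50133 (iv D50133) F214683
theorem F224628 : act 7 n50133 = n47944 := d43_1 D50133 (iv D47944) (iv F214684)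
def n50134 : Q := act 8 n47939
theorem D50134 : act 8 n47939 = n50134 := rfl
theorem F224629 : act 0 n50134 = n48011 := d7_1 D50134 (iv D48011) (iv F214686)
theorem F224630 : act 3 n50134 = n48501 := d28_1 D50134 (iv D48501) F190593 (iv F202747) (iv F214687)
theorem F224631 : act 6 n50134 = n50134 := d40_1 D50134 (iv D50134) F214688
theorem F224632 : act 7 n50134 = n47945 := d42_1 D50134 (iv D47945) (iv F214689)
def n50135 : Q := act 9 n47940
theorem D50135 : act 9 n47940 = n50135 := rfl
theorem F224633 : act 1 n50135 = n47942 := d16_1 D50135 (iv D47942) D47940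
theorem F224634 : act 3 n50135 = n47967 := d29_1 D50135 (iv D47967) (iv F214690)
theorem F224635 : act 6 n50135 = n47946 := d41_1 D50135 (iv D47946) (iv F214691)
def n50136 : Q := act 5 n47941
theorem D50136 : act 5 n47941 = n50136 := rfl
theorem F224636 : act 0 n50136 = n48015 := d4_1 D50136 (iv D48015) (iv F214692)
theorem F224637 : act 2 n50136 = n47943 := d19_1 D50136 (iv D47943) (iv F214693)
theorem F224638 : act 3 n50136 = n50136 := d25_1 D50136 (iv D50136) F214694
def n50137 : Q := act 9 n47941
theorem D50137 : act 9 n47941 = n50137 := rfl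
theorem F224639 : act 0 n50137 = n48016 := d8_1 D50137 (iv D48016) (iv F214692)
theorem F224640 : act 2 n50137 = n47944 := d23_1 D50137 (iv D47944) (iv F214693)
theorem F224641 : act 3 n50137 = n50137 := d29_1 D50137 (iv D50137) F214694
theorem F224642 : act 4 n50137 = n47942 := d34_1 D50137 (iv D47942) D47941
theorem F224643 : act 6 n50137 = n47947 := d41_1 D50137 (iv D47947) (iv F214695)
def n50138 : Q := act 8 n47942
theorem D50138 : act 8 n47942 = n50138 := rfl
theorem F224644 : act 0 n50138 = n48017 := d7_1 D50138 (iv D48017) (iv F214696)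
theorem F224645 : act 2 n50138 = n47945 := d22_1 D50138 (iv D47945) (iv F214697)
theorem F224646 : act 6 n50138 = n47948 := d40_1 D50138 (iv D47948) (iv F214699)
def n50139 : Q := act 9 n47943
theorem D50139 : act 9 n47943 = n50139 := rfl
theorem F224647 : act 0 n50139 = n48019 := d8_1 D50139 (iv D48019) (iv F214700)
theorem F224648 : act 1 n50139 = n48326 := d16_1 D50139 (iv D48326) (iv F214701)
theorem F224649 : act 3 n50139 = n47952 := d29_1 D50139 (iv D47952) (iv F214702)
theorem F224650 : act 5 n50139 = n47944 := d38_1 D50139 (iv D47944) D47943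
def n50140 : Q := act 8 n47944
theorem D50140 : act 8 n47944 = n50140 := rfl
theorem F224651 : act 0 n50140 = n48020 := d7_1 D50140 (iv D48020) (iv F214703)
theorem F224652 : act 1 n50140 = n48328 := d15_1 D50140 (iv D48328) (iv F214704)
theorem F224653 : act 3 n50140 = n48366 := d28_1 D50140 (iv D48366) F189760 (iv F203010) (iv F214705)
theorem F224654 : act 4 n50140 = n47945 := d33_1 D50140 (iv D47945) (iv F214706)
theorem F224655 : act 6 n50140 = n47949 := d40_1 D50140 (iv D47949) (iv F214707)
def n50141 : Q := act 8 n47946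
theorem D50141 : act 8 n47946 = n50141 := rfl
theorem F224656 : act 1 n50141 = n47948 := d15_1 D50141 (iv D47948) (iv F214711)
theorem F224657 : act 5 n50141 = n48524 := d37_1 D50141 F216695 (iv F214713)
theorem F224658 : act 7 n50141 = n50141 := d42_1 D50141 (iv D50141) F214714
def n50142 : Q := act 8 n47947
theorem D50142 : act 8 n47947 = n50142 := rfl
theorem F224659 : act 0 n50142 = n48028 := d7_1 D50142 (iv D48028) (iv F214715)
theorem F224660 : act 2 n50142 = n47949 := d22_1 D50142 (iv D47949) (iv F214716)
theorem F224661 : act 4 n50142 = n47948 := d33_1 D50142 (iv D47948) (iv F214718)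
theorem F224662 : act 7 n50142 = n50142 := d42_1 D50142 (iv D50142) F214719
def n50143 : Q := act 3 n47948
theorem D50143 : act 3 n47948 = n50143 := rfl
theorem F224663 : act 0 n50143 = n48029 := d2_1 D50143 (iv D48029) (iv F214720)
theorem F224664 : act 2 n50143 = n48523 := d17_1 D50143 (iv D48523) F190642 (iv F203713) (iv F214721)
theorem F224665 : act 7 n50143 = n50143 := d27_2 F214722 D50143 (iv D50143)
theorem F224666 : act 8 n50143 = n47971 := d28_2 D47948 D50143 (iv D47971) (iv D44866) (iv F187098)
def n50144 : Q := act 9 n47950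
theorem D50144 : act 9 n47950 = n50144 := rfl
theorem F224667 : act 0 n50144 = n48033 := d8_1 D50144 (iv D48033) (iv F214728)
theorem F224668 : act 1 n50144 = n48324 := d16_1 D50144 (iv D48324) (iv F214729)
theorem F224669 : act 2 n50144 = n50144 := d23_1 D50144 (iv D50144) F214730
theorem F224670 : act 4 n50144 = n48199 := d34_1 D50144 (iv D48199) (iv F214731)
theorem F224671 : act 5 n50144 = n47951 := d38_1 D50144 (iv D47951) D47950
theorem F224672 : act 7 n50144 = n47952 := d43_1 D50144 (iv D47952) (iv F214732)
theorem F224673 : act 8 n50144 = n48371 := d44_1 D50144 (iv D48371) F203500 (iv F198702) (iv F214733)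
def n50145 : Q := act 2 n47953
theorem D50145 : act 2 n47953 = n50145 := rfl
theorem F224674 : act 0 n50145 = n48037 := d1_1 D50145 (iv D48037) (iv F214746)
theorem F224675 : act 4 n50145 = n48706 := d18_2 (iv F214748) D50145 F217420
theorem F224676 : act 5 n50145 = n50145 := d19_2 F214749 D50145 (iv D50145)
theorem F224677 : act 6 n50145 = n47955 := d20_2 (iv F214750) D50145 (iv D47955)
theorem F224678 : act 7 n50145 = n48687 := d21_2 (iv F214751) D50145 F217338
theorem F224679 : act 8 n50145 = n50145 := d22_2 F214752 D50145 (iv D50145)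
def n50146 : Q := act 9 n47953
theorem D50146 : act 9 n47953 = n50146 := rfl
theorem F224680 : act 0 n50146 = n48038 := d8_1 D50146 (iv D48038) (iv F214746)
theorem F224681 : act 1 n50146 = n50146 := d16_1 D50146 (iv D50146) F214747
theorem F224682 : act 3 n50146 = n47954 := d29_1 D50146 (iv D47954) D47953
theorem F224683 : act 4 n50146 = n48711 := d34_1 D50146 (iv D48711) (iv F214748)
theorem F224684 : act 5 n50146 = n50146 := d38_1 D50146 (iv D50146) F214749
theorem F224685 : act 6 n50146 = n47957 := d41_1 D50146 (iv D47957) (iv F214750)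
theorem F224686 : act 7 n50146 = n48691 := d43_1 D50146 (iv D48691) (iv F214751)
def n50147 : Q := act 1 n47955
theorem D50147 : act 1 n47955 = n50147 := rfl
theorem F224687 : act 2 n50147 = n50147 := d9_2 D47955 D50147 (iv D50147) (iv D47955) F187164
theorem F224688 : act 5 n50147 = n47963 := d12_2 (iv F214759) D50147 (iv D47963)
theorem F224689 : act 7 n50147 = n47958 := d14_2 (iv F214760) D50147 (iv D47958)
theorem F224690 : act 8 n50147 = n50147 := d15_2 F214761 D50147 (iv D50147)
def n50148 : Q := act 4 n47955
theorem D50148 : act 4 n47955 = n50148 := rfl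
theorem F224691 : act 0 n50148 = n48040 := d3_1 D50148 (iv D48040) (iv F214758)
theorem F224692 : act 2 n50148 = n47956 := d18_1 D50148 (iv D47956) D47955
theorem F224693 : act 5 n50148 = n50148 := d30_2 (iv F214759) D50148 (iv D50148) F214759 F187184
theorem F224694 : act 6 n50148 = n48706 := d31_2 F224677 D50148 (iv F224675)
theorem F224695 : act 7 n50148 = n47959 := d32_2 (iv F214760) D50148 (iv D47959)
theorem F224696 : act 8 n50148 = n50148 := d33_2 F214761 D50148 (iv D50148)
def n50149 : Q := act 9 n47955
theorem D50149 : act 9 n47955 = n50149 := rfl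
theorem F224697 : act 0 n50149 = n48041 := d8_1 D50149 (iv D48041) (iv F214758)
theorem F224698 : act 2 n50149 = n47957 := d23_1 D50149 (iv D47957) D47955
theorem F224699 : act 5 n50149 = n47964 := d38_1 D50149 (iv D47964) (iv F214759)
theorem F224700 : act 7 n50149 = n47960 := d43_1 D50149 (iv D47960) (iv F214760)
def n50150 : Q := act 9 n47956
theorem D50150 : act 9 n47956 = n50150 := rfl
theorem F224701 : act 0 n50150 = n48042 := d8_1 D50150 (iv D48042) (iv F214762)
theorem F224702 : act 1 n50150 = n50150 := d16_1 D50150 (iv D50150) F214763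
theorem F224703 : act 3 n50150 = n48724 := d29_1 D50150 (iv D48724) (iv F214764)
theorem F224704 : act 4 n50150 = n47957 := d34_1 D50150 (iv D47957) D47956
theorem F224705 : act 5 n50150 = n50150 := d38_1 D50150 (iv D50150) F214765
theorem F224706 : act 6 n50150 = n48711 := d41_1 D50150 (iv D48711) (iv F214766)
theorem F224707 : act 7 n50150 = n47961 := d43_1 D50150 (iv D47961) (iv F214767)
def n50151 : Q := act 8 n47957
theorem D50151 : act 8 n47957 = n50151 := rfl
theorem F224708 : act 0 n50151 = n48043 := d7_1 D50151 (iv D48043) (iv F214769)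
theorem F224709 : act 1 n50151 = n50151 := d15_1 D50151 (iv D50151) F214770
theorem F224710 : act 3 n50151 = n48699 := d28_1 D50151 (iv D48699) F207447 (iv F206735) (iv F214771)
theorem F224711 : act 5 n50151 = n47965 := d37_1 D50151 (iv D47965) (iv F214772)
theorem F224712 : act 7 n50151 = n47962 := d42_1 D50151 (iv D47962) (iv F214773)
theorem F224713 : act 9 n50151 = n50151 := d44_2 D47957 D50151 (iv D50151) (iv D47957) F187167
def n50152 : Q := act 0 n47958
theorem D50152 : act 0 n47958 = n50152 := rfl
theorem F224714 : act 1 n50152 = n48044 := d0_2 D47958 D50152 (iv D48044) (iv D44927) (iv F187172)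
theorem F224715 : act 2 n50152 = n50152 := d1_2 F214774 D50152 (iv D50152)
theorem F224716 : act 5 n50152 = n47966 := d4_2 (iv F214775) D50152 (iv D47966)
theorem F224717 : act 6 n50152 = n48729 := d5_2 (iv F214776) D50152 F217505
theorem F224718 : act 8 n50152 = n50152 := d7_2 F214777 D50152 (iv D50152)
def n50153 : Q := act 4 n47958
theorem D50153 : act 4 n47958 = n50153 := rfl
theorem F224719 : act 1 n50153 = n47959 := d11_1 D50153 (iv D47959) D47958
theorem F224720 : act 2 n50153 = n50153 := d18_1 D50153 (iv D50153) F214774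
theorem F224721 : act 5 n50153 = n50153 := d30_2 (iv F214775) D50153 (iv D50153) F214775 F187195
theorem F224722 : act 6 n50153 = n48695 := d31_2 (iv F214776) D50153 F217377
theorem F224723 : act 8 n50153 = n50153 := d33_2 F214777 D50153 (iv D50153)
def n50154 : Q := act 9 n47958
theorem D50154 : act 9 n47958 = n50154 := rfl
theorem F224724 : act 1 n50154 = n47960 := d16_1 D50154 (iv D47960) D47958
theorem F224725 : act 2 n50154 = n50154 := d23_1 D50154 (iv D50154) F214774
theorem F224726 : act 5 n50154 = n47967 := d38_1 D50154 (iv D47967) (iv F214775)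
theorem F224727 : act 6 n50154 = n48727 := d41_1 D50154 F217500 (iv F214776)
def n50155 : Q := act 3 n47959
theorem D50155 : act 3 n47959 = n50155 := rfl
theorem F224728 : act 0 n50155 = n48047 := d2_1 D50155 (iv D48047) (iv F214778)
theorem F224729 : act 2 n50155 = n48499 := d17_1 D50155 F216626 F190655 F206553 (iv F214779)
theorem F224730 : act 5 n50155 = n50155 := d25_2 F214780 D50155 (iv D50155)
theorem F224731 : act 6 n50155 = n48496 := d26_2 (iv F214781) D50155 F216616
def n50156 : Q := act 9 n47959
theorem D50156 : act 9 n47959 = n50156 := rfl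
theorem F224732 : act 0 n50156 = n48048 := d8_1 D50156 (iv D48048) (iv F214778)
theorem F224733 : act 2 n50156 = n47961 := d23_1 D50156 (iv D47961) (iv F214779)
theorem F224734 : act 4 n50156 = n47960 := d34_1 D50156 (iv D47960) D47959
theorem F224735 : act 5 n50156 = n50156 := d38_1 D50156 (iv D50156) F214780
theorem F224736 : act 6 n50156 = n48697 := d41_1 D50156 (iv D48697) (iv F214781)
def n50157 : Q := act 8 n47960
theorem D50157 : act 8 n47960 = n50157 := rfl
theorem F224737 : act 0 n50157 = n48049 := d7_1 D50157 (iv D48049) (iv F214783)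
theorem F224738 : act 2 n50157 = n47962 := d22_1 D50157 (iv D47962) (iv F214784)
theorem F224739 : act 5 n50157 = n47968 := d37_1 D50157 (iv D47968) (iv F214785)
theorem F224740 : act 9 n50157 = n50157 := d44_2 D47960 D50157 (iv D50157) (iv D47960) F187174
def n50158 : Q := act 8 n47961
theorem D50158 : act 8 n47961 = n50158 := rfl
theorem F224741 : act 0 n50158 = n48050 := d7_1 D50158 (iv D48050) (iv F214786)
theorem F224742 : act 1 n50158 = n50158 := d15_1 D50158 (iv D50158) F214787
theorem F224743 : act 4 n50158 = n47962 := d33_1 D50158 (iv D47962) (iv F214789)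
theorem F224744 : act 5 n50158 = n50158 := d37_1 D50158 (iv D50158) F214790
theorem F224745 : act 6 n50158 = n48699 := d40_1 D50158 (iv D48699) (iv F214791)
theorem F224746 : act 9 n50158 = n50158 := d44_2 D47961 D50158 (iv D50158) (iv D47961) F187178
def n50159 : Q := act 0 n47963
theorem D50159 : act 0 n47963 = n50159 := rfl
theorem F224747 : act 1 n50159 = n48051 := d0_2 D47963 D50159 (iv D48051) (iv D44932) (iv F187183)
theorem F224748 : act 2 n50159 = n50159 := d1_2 F214797 D50159 (iv D50159)
theorem F224749 : act 4 n50159 = n50159 := d3_2 F214798 D50159 (iv D50159)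
theorem F224750 : act 6 n50159 = n50159 := d5_2 F214799 D50159 (iv D50159)
theorem F224751 : act 7 n50159 = n47966 := d6_2 (iv F214800) D50159 (iv D47966)
theorem F224752 : act 8 n50159 = n50159 := d7_2 F214801 D50159 (iv D50159)
def n50160 : Q := act 9 n47963
theorem D50160 : act 9 n47963 = n50160 := rfl
theorem F224753 : act 1 n50160 = n47964 := d16_1 D50160 (iv D47964) D47963
theorem F224754 : act 2 n50160 = n50160 := d23_1 D50160 (iv D50160) F214797
theorem F224755 : act 4 n50160 = n50160 := d34_1 D50160 (iv D50160) F214798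
theorem F224756 : act 6 n50160 = n50160 := d41_1 D50160 (iv D50160) F214799
theorem F224757 : act 7 n50160 = n47967 := d43_1 D50160 (iv D47967) (iv F214800)
def n50161 : Q := act 8 n47964
theorem D50161 : act 8 n47964 = n50161 := rfl
theorem F224758 : act 0 n50161 = n48053 := d7_1 D50161 (iv D48053) (iv F214802)
theorem F224759 : act 2 n50161 = n47965 := d22_1 D50161 (iv D47965) (iv F214803)
theorem F224760 : act 4 n50161 = n50161 := d33_1 D50161 (iv D50161) F214804
theorem F224761 : act 6 n50161 = n50161 := d40_1 D50161 (iv D50161) F214805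
theorem F224762 : act 7 n50161 = n47968 := d42_1 D50161 (iv D47968) (iv F214806)
theorem F224763 : act 9 n50161 = n50161 := d44_2 D47964 D50161 (iv D50161) (iv D47964) F187187
def n50162 : Q := act 9 n47966
theorem D50162 : act 9 n47966 = n50162 := rfl
theorem F224764 : act 0 n50162 = n47967 := d8_1 D50162 (iv D47967) D47966
theorem F224765 : act 1 n50162 = n48054 := d16_1 D50162 (iv D48054) (iv F214814)
theorem F224766 : act 2 n50162 = n50162 := d23_1 D50162 (iv D50162) F214815
theorem F224767 : act 4 n50162 = n50162 := d34_1 D50162 (iv D50162) F214816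
theorem F224768 : act 6 n50162 = n47969 := d41_1 D50162 (iv D47969) (iv F214817)
def n50163 : Q := act 8 n47967
theorem D50163 : act 8 n47967 = n50163 := rfl
theorem F224769 : act 1 n50163 = n47968 := d15_1 D50163 (iv D47968) (iv F214819)
theorem F224770 : act 2 n50163 = n50163 := d22_1 D50163 (iv D50163) F214820
theorem F224771 : act 4 n50163 = n50163 := d33_1 D50163 (iv D50163) F214821
theorem F224772 : act 6 n50163 = n47970 := d40_1 D50163 (iv D47970) (iv F214822)
theorem F224773 : act 9 n50163 = n50163 := d44_2 D47967 D50163 (iv D50163) (iv D47967) F187197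
def n50164 : Q := act 3 n47968
theorem D50164 : act 3 n47968 = n50164 := rfl
theorem F224774 : act 0 n50164 = n48056 := d2_1 D50164 (iv D48056) (iv F214823)
theorem F224775 : act 2 n50164 = n48709 := d17_1 D50164 (iv D48709) F207479 (iv F206696) (iv F214824)
theorem F224776 : act 6 n50164 = n47971 := d26_2 (iv F214826) D50164 (iv D47971)
theorem F224777 : act 9 n50164 = n50164 := d29_2 F214827 D50164 (iv D50164)
def n50165 : Q := act 8 n47969
theorem D50165 : act 8 n47969 = n50165 := rfl
theorem F224778 : act 0 n50165 = n47970 := d7_1 D50165 (iv D47970) (iv F214828)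
theorem F224779 : act 1 n50165 = n48057 := d15_1 D50165 (iv D48057) (iv F214829)
theorem F224780 : act 2 n50165 = n50165 := d22_1 D50165 (iv D50165) F214830
theorem F224781 : act 4 n50165 = n50165 := d33_1 D50165 (iv D50165) F214831
theorem F224782 : act 5 n50165 = n48667 := d37_1 D50165 F217248 (iv F214832)
theorem F224783 : act 7 n50165 = n50165 := d42_1 D50165 (iv D50165) F214833
theorem F224784 : act 9 n50165 = n50165 := d44_2 D47969 D50165 (iv D50165) (iv D47969) F187211
def n50166 : Q := act 3 n47970
theorem D50166 : act 3 n47970 = n50166 := rfl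
theorem F224785 : act 1 n50166 = n47971 := d10_1 D50166 (iv D47971) (iv F214834)
theorem F224786 : act 5 n50166 = n48723 := d25_2 (iv F214837) D50166 F217489
theorem F224787 : act 7 n50166 = n50166 := d27_2 F214838 D50166 (iv D50166)
theorem F224788 : act 9 n50166 = n50166 := d29_2 F214839 D50166 (iv D50166)
def n50167 : Q := act 4 n47971
theorem D50167 : act 4 n47971 = n50167 := rfl
theorem F224789 : act 0 n50167 = n48059 := d3_1 D50167 (iv D48059) (iv F214840)
theorem F224790 : act 2 n50167 = n48723 := d18_1 D50167 (iv D48723) (iv F214841)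
theorem F224791 : act 3 n50167 = n50167 := d24_1 D50167 (iv D50167) (iv D47971) F187218 D47971
theorem F224792 : act 7 n50167 = n50167 := d32_2 F214842 D50167 (iv D50167)
theorem F224793 : act 9 n50167 = n50167 := d34_2 F214843 D50167 (iv D50167)
def n50168 : Q := act 2 n47972
theorem D50168 : act 2 n47972 = n50168 := rfl
theorem F224794 : act 3 n50168 = n50168 := d17_2 D47972 D50168 (iv D50168) (iv D47972) F187226
theorem F224795 : act 5 n50168 = n48452 := d19_2 (iv F214845) D50168 F216491
theorem F224796 : act 7 n50168 = n48459 := d21_2 (iv F214846) D50168 F216518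
theorem F224797 : act 8 n50168 = n48496 := d22_2 (iv F214847) D50168 F216615
def n50169 : Q := act 4 n47972
theorem D50169 : act 4 n47972 = n50169 := rfl
theorem F224798 : act 1 n50169 = n48438 := d11_1 D50169 (iv D48438) (iv F214844)
theorem F224799 : act 3 n50169 = n47978 := d24_1 D50169 (iv D47978) (iv D44871) (iv F187227) D47972
theorem F224800 : act 5 n50169 = n48443 := d30_2 (iv F214845) D50169 (iv D48443) F190490 D45790
theorem F224801 : act 7 n50169 = n48448 := d32_2 (iv F214846) D50169 F216482
theorem F224802 : act 8 n50169 = n48480 := d33_2 (iv F214847) D50169 F216581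
def n50170 : Q := act 9 n47972
theorem D50170 : act 9 n47972 = n50170 := rfl
theorem F224803 : act 1 n50170 = n48439 := d16_1 D50170 (iv D48439) (iv F214844)
theorem F224804 : act 3 n50170 = n47973 := d29_1 D50170 (iv D47973) D47972
theorem F224805 : act 5 n50170 = n48454 := d38_1 D50170 (iv D48454) (iv F214845)
theorem F224806 : act 7 n50170 = n48463 := d43_1 D50170 (iv D48463) (iv F214846)
def n50171 : Q := act 3 n47974
theorem D50171 : act 3 n47974 = n50171 := rfl
theorem F224807 : act 1 n50171 = n48440 := d10_1 D50171 (iv D48440) (iv F214853)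
theorem F224808 : act 5 n50171 = n50171 := d25_2 F214856 D50171 (iv D50171)
theorem F224809 : act 6 n50171 = n47975 := d26_2 (iv F214857) D50171 (iv D47975)
theorem F224810 : act 8 n50171 = n47995 := d28_2 D47974 D50171 (iv D47995) (iv D44884) (iv F187231)
def n50172 : Q := act 9 n47974
theorem D50172 : act 9 n47974 = n50172 := rfl
theorem F224811 : act 1 n50172 = n48441 := d16_1 D50172 (iv D48441) (iv F214853)
theorem F224812 : act 2 n50172 = n50172 := d23_1 D50172 (iv D50172) F214854
theorem F224813 : act 4 n50172 = n48737 := d34_1 D50172 (iv D48737) (iv F214855)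
theorem F224814 : act 5 n50172 = n50172 := d38_1 D50172 (iv D50172) F214856
theorem F224815 : act 6 n50172 = n47976 := d41_1 D50172 (iv D47976) (iv F214857)
def n50173 : Q := act 2 n47975
theorem D50173 : act 2 n47975 = n50173 := rfl
theorem F224816 : act 3 n50173 = n50173 := d17_2 D47975 D50173 (iv D50173) (iv D47975) F187234
theorem F224817 : act 5 n50173 = n47980 := d19_2 (iv F214859) D50173 (iv D47980)
theorem F224818 : act 7 n50173 = n47977 := d21_2 (iv F214860) D50173 (iv D47977)
theorem F224819 : act 8 n50173 = n47997 := d22_2 (iv F214861) D50173 (iv D47997)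
def n50174 : Q := act 4 n47975
theorem D50174 : act 4 n47975 = n50174 := rfl
theorem F224820 : act 1 n50174 = n48443 := d11_1 D50174 (iv D48443) (iv F214858)
theorem F224821 : act 3 n50174 = n48448 := d24_1 D50174 F216482 F190523 F206822 D47975
theorem F224822 : act 5 n50174 = n48438 := d30_2 (iv F214859) D50174 (iv D48438) F190483 (iv F206827)
theorem F224823 : act 7 n50174 = n47978 := d32_2 (iv F214860) D50174 (iv D47978)
theorem F224824 : act 8 n50174 = n47998 := d33_2 (iv F214861) D50174 (iv D47998)
def n50175 : Q := act 9 n47975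
theorem D50175 : act 9 n47975 = n50175 := rfl
theorem F224825 : act 1 n50175 = n48444 := d16_1 D50175 (iv D48444) (iv F214858)
theorem F224826 : act 3 n50175 = n47976 := d29_1 D50175 (iv D47976) D47975
theorem F224827 : act 5 n50175 = n47981 := d38_1 D50175 (iv D47981) (iv F214859)
theorem F224828 : act 7 n50175 = n47979 := d43_1 D50175 (iv D47979) (iv F214860)
def n50176 : Q := act 1 n47977
theorem D50176 : act 1 n47977 = n50176 := rfl
theorem F224829 : act 2 n50176 = n48445 := d9_2 D47977 D50176 (iv D48445) (iv D45786) (iv F187237)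
theorem F224830 : act 3 n50176 = n50176 := d10_2 F214867 D50176 (iv D50176)
theorem F224831 : act 5 n50176 = n47982 := d12_2 (iv F214868) D50176 (iv D47982)
theorem F224832 : act 8 n50176 = n48000 := d15_2 (iv F214869) D50176 (iv D48000)
def n50177 : Q := act 4 n47977
theorem D50177 : act 4 n47977 = n50177 := rfl
theorem F224833 : act 2 n50177 = n47978 := d18_1 D50177 (iv D47978) D47977
theorem F224834 : act 8 n50177 = n48001 := d33_2 (iv F214869) D50177 (iv D48001)
def n50178 : Q := act 9 n47977
theorem D50178 : act 9 n47977 = n50178 := rfl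
theorem F224835 : act 2 n50178 = n47979 := d23_1 D50178 (iv D47979) D47977
theorem F224836 : act 3 n50178 = n50178 := d29_1 D50178 (iv D50178) F214867
theorem F224837 : act 5 n50178 = n47984 := d38_1 D50178 (iv D47984) (iv F214868)
def n50179 : Q := act 5 n47978
theorem D50179 : act 5 n47978 = n50179 := rfl
theorem F224838 : act 1 n50179 = n48448 := d12_1 D50179 (iv D48448) (iv F214870)
theorem F224839 : act 3 n50179 = n48443 := d25_1 D50179 (iv F224800) F224799
theorem F224840 : act 4 n50179 = n47985 := d30_1 D50179 (iv D47985) (iv D44876) (iv F187238) D47978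
theorem F224841 : act 7 n50179 = n48438 := d36_2 F224823 D50179 (iv F224822)
theorem F224842 : act 8 n50179 = n48003 := d37_2 (iv F214871) D50179 (iv D48003)
def n50180 : Q := act 9 n47978
theorem D50180 : act 9 n47978 = n50180 := rfl
theorem F224843 : act 1 n50180 = n48449 := d16_1 D50180 (iv D48449) (iv F214870)
theorem F224844 : act 4 n50180 = n47979 := d34_1 D50180 (iv D47979) D47978
def n50181 : Q := act 8 n47979
theorem D50181 : act 8 n47979 = n50181 := rfl
theorem F224845 : act 1 n50181 = n48450 := d15_1 D50181 (iv D48450) (iv F214872)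
theorem F224846 : act 5 n50181 = n47987 := d37_1 D50181 (iv D47987) (iv F214874)
theorem F224847 : act 9 n50181 = n48005 := d44_2 D47979 D50181 (iv D48005) (iv D44889) (iv F187239)
def n50182 : Q := act 1 n47980
theorem D50182 : act 1 n47980 = n50182 := rfl
theorem F224848 : act 2 n50182 = n48451 := d9_2 D47980 D50182 (iv D48451) (iv D45789) (iv F187243)
theorem F224849 : act 3 n50182 = n50182 := d10_2 F214875 D50182 (iv D50182)
theorem F224850 : act 4 n50182 = n48733 := d11_2 (iv F214876) D50182 (iv D48733)
theorem F224851 : act 6 n50182 = n50182 := d13_2 F214877 D50182 (iv D50182)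
theorem F224852 : act 7 n50182 = n47982 := d14_2 (iv F214878) D50182 (iv D47982)
theorem F224853 : act 8 n50182 = n48006 := d15_2 (iv F214879) D50182 (iv D48006)
def n50183 : Q := act 9 n47980
theorem D50183 : act 9 n47980 = n50183 := rfl
theorem F224854 : act 2 n50183 = n47981 := d23_1 D50183 (iv D47981) D47980
theorem F224855 : act 3 n50183 = n50183 := d29_1 D50183 (iv D50183) F214875
theorem F224856 : act 4 n50183 = n48734 := d34_1 D50183 (iv D48734) (iv F214876)
theorem F224857 : act 6 n50183 = n50183 := d41_1 D50183 (iv D50183) F214877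
theorem F224858 : act 7 n50183 = n47984 := d43_1 D50183 (iv D47984) (iv F214878)
def n50184 : Q := act 8 n47981
theorem D50184 : act 8 n47981 = n50184 := rfl
theorem F224859 : act 1 n50184 = n48455 := d15_1 D50184 (iv D48455) (iv F214880)
theorem F224860 : act 4 n50184 = n48735 := d33_1 D50184 (iv D48735) (iv F214882)
theorem F224861 : act 6 n50184 = n50184 := d40_1 D50184 (iv D50184) F214883
theorem F224862 : act 7 n50184 = n47987 := d42_1 D50184 (iv D47987) (iv F214884)
theorem F224863 : act 9 n50184 = n48011 := d44_2 D47981 D50184 (iv D48011) (iv D44892) (iv F187246)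
def n50185 : Q := act 4 n47982
theorem D50185 : act 4 n47982 = n50185 := rfl
theorem F224864 : act 0 n50185 = n48516 := d3_1 D50185 (iv F223336) F223332
theorem F224865 : act 1 n50185 = n47983 := d11_1 D50185 (iv D47983) D47982
theorem F224866 : act 2 n50185 = n48457 := d18_1 D50185 (iv D48457) (iv F214885)
theorem F224867 : act 6 n50185 = n47988 := d31_2 (iv F214887) D50185 (iv D47988)
theorem F224868 : act 7 n50185 = n48733 := d32_2 F224852 D50185 (iv F224850)
theorem F224869 : act 8 n50185 = n48013 := d33_2 (iv F214888) D50185 (iv D48013)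
theorem F224870 : act 3 n48713 = n50185 := d27_3 F224868 F217516 F217448
def n50186 : Q := act 9 n47982
theorem D50186 : act 9 n47982 = n50186 := rfl
theorem F224871 : act 1 n50186 = n47984 := d16_1 D50186 (iv D47984) D47982
theorem F224872 : act 2 n50186 = n48458 := d23_1 D50186 (iv D48458) (iv F214885)
theorem F224873 : act 3 n50186 = n50186 := d29_1 D50186 (iv D50186) F214886
theorem F224874 : act 6 n50186 = n47989 := d41_1 D50186 (iv D47989) (iv F214887)
def n50187 : Q := act 5 n47983
theorem D50187 : act 5 n47983 = n50187 := rfl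
theorem F224875 : act 2 n50187 = n47985 := d19_1 D50187 (iv D47985) (iv F214889)
theorem F224876 : act 3 n50187 = n48553 := d25_1 D50187 F216801 F214893
theorem F224877 : act 7 n50187 = n48437 := d36_2 (iv F214891) D50187 F216455
theorem F224878 : act 8 n50187 = n48015 := d37_2 (iv F214892) D50187 (iv D48015)
def n50188 : Q := act 9 n47983
theorem D50188 : act 9 n47983 = n50188 := rfl
theorem F224879 : act 2 n50188 = n47986 := d23_1 D50188 (iv D47986) (iv F214889)
theorem F224880 : act 3 n50188 = n48743 := d29_1 D50188 (iv D48743) F214893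
theorem F224881 : act 4 n50188 = n47984 := d34_1 D50188 (iv D47984) D47983
theorem F224882 : act 6 n50188 = n47990 := d41_1 D50188 (iv D47990) (iv F214890)
theorem F224883 : act 7 n50188 = n48734 := d43_1 D50188 (iv D48734) (iv F214891)
def n50189 : Q := act 8 n47984
theorem D50189 : act 8 n47984 = n50189 := rfl
theorem F224884 : act 2 n50189 = n47987 := d22_1 D50189 (iv D47987) (iv F214894)
theorem F224885 : act 6 n50189 = n47991 := d40_1 D50189 (iv D47991) (iv F214896)
theorem F224886 : act 9 n50189 = n48017 := d44_2 D47984 D50189 (iv D48017) (iv D44895) (iv F187254)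
def n50190 : Q := act 6 n47985
theorem D50190 : act 6 n47985 = n50190 := rfl
theorem F224887 : act 0 n50190 = n48348 := d5_1 D50190 (iv F222522) F222519
theorem F224888 : act 1 n50190 = n48462 := d13_1 D50190 (iv D48462) (iv F214897)
theorem F224889 : act 3 n50190 = n48378 := d26_1 D50190 F216229 (iv F214898)
theorem F224890 : act 5 n50190 = n47992 := d35_1 D50190 (iv D47992) (iv D44881) (iv F187257) D47985
theorem F224891 : act 8 n50190 = n48018 := d40_2 (iv F214900) D50190 (iv D48018)
def n50191 : Q := act 9 n47985
theorem D50191 : act 9 n47985 = n50191 := rfl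
theorem F224892 : act 1 n50191 = n48463 := d16_1 D50191 (iv D48463) (iv F214897)
theorem F224893 : act 3 n50191 = n48436 := d29_1 D50191 (iv D48436) (iv F214898)
theorem F224894 : act 5 n50191 = n47986 := d38_1 D50191 (iv D47986) D47985
theorem F224895 : act 7 n50191 = n48439 := d43_1 D50191 (iv D48439) (iv F214899)
def n50192 : Q := act 8 n47986
theorem D50192 : act 8 n47986 = n50192 := rfl
theorem F224896 : act 1 n50192 = n48464 := d15_1 D50192 (iv D48464) (iv F214901)
theorem F224897 : act 4 n50192 = n47987 := d33_1 D50192 (iv D47987) (iv F214903)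
theorem F224898 : act 6 n50192 = n47994 := d40_1 D50192 (iv D47994) (iv F214904)
theorem F224899 : act 7 n50192 = n48735 := d42_1 D50192 (iv D48735) (iv F214905)
theorem F224900 : act 9 n50192 = n48020 := d44_2 D47986 D50192 (iv D48020) (iv D44897) (iv F187258)
def n50193 : Q := act 9 n47988
theorem D50193 : act 9 n47988 = n50193 := rfl
theorem F224901 : act 0 n50193 = n48517 := d8_1 D50193 (iv D48517) (iv F214909)
theorem F224902 : act 1 n50193 = n47990 := d16_1 D50193 (iv D47990) (iv F214910)
theorem F224903 : act 2 n50193 = n48466 := d23_1 D50193 (iv D48466) (iv F214911)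
theorem F224904 : act 3 n50193 = n48714 := d29_1 D50193 (iv D48714) (iv F214915)
theorem F224905 : act 4 n50193 = n47989 := d34_1 D50193 (iv D47989) D47988
theorem F224906 : act 5 n50193 = n48514 := d38_1 D50193 (iv D48514) (iv F214912)
theorem F224907 : act 7 n50193 = n50193 := d43_1 D50193 (iv D50193) F214913
def n50194 : Q := act 8 n47989
theorem D50194 : act 8 n47989 = n50194 := rfl
theorem F224908 : act 1 n50194 = n47991 := d15_1 D50194 (iv D47991) (iv F214916)
theorem F224909 : act 2 n50194 = n48467 := d22_1 D50194 (iv D48467) (iv F214917)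
theorem F224910 : act 7 n50194 = n50194 := d42_1 D50194 (iv D50194) F214919
theorem F224911 : act 9 n50194 = n48025 := d44_2 D47989 D50194 (iv D48025) (iv D44901) (iv F187265)
def n50195 : Q := act 8 n47990
theorem D50195 : act 8 n47990 = n50195 := rfl
theorem F224912 : act 2 n50195 = n47994 := d22_1 D50195 (iv D47994) (iv F214920)
theorem F224913 : act 4 n50195 = n47991 := d33_1 D50195 (iv D47991) (iv F214921)
theorem F224914 : act 7 n50195 = n50195 := d42_1 D50195 (iv D50195) F214922
theorem F224915 : act 9 n50195 = n48028 := d44_2 D47990 D50195 (iv D48028) (iv D44903) (iv F187268)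
def n50196 : Q := act 3 n47991
theorem D50196 : act 3 n47991 = n50196 := rfl
theorem F224916 : act 7 n50196 = n50196 := d27_2 F214924 D50196 (iv D50196)
theorem F224917 : act 8 n50196 = n50196 := d28_2 D47991 D50196 (iv D50196) (iv D47991) F187270
theorem F224918 : act 9 n50196 = n48029 := d29_2 (iv F214925) D50196 (iv D48029)
def n50197 : Q := act 7 n47992
theorem D50197 : act 7 n47992 = n50197 := rfl
theorem F224919 : act 0 n50197 = n48354 := d6_1 D50197 F216145 (iv F214926)
theorem F224920 : act 1 n50197 = n48471 := d14_1 D50197 (iv D48471) (iv F214927)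
theorem F224921 : act 3 n50197 = n48383 := d27_1 D50197 F216249 (iv F214928)
theorem F224922 : act 6 n50197 = n50197 := d39_1 D50197 (iv D50197) (iv D47992) F187274 D47992
theorem F224923 : act 8 n50197 = n48030 := d42_2 (iv F214929) D50197 (iv D48030)
def n50198 : Q := act 9 n47992
theorem D50198 : act 9 n47992 = n50198 := rfl
theorem F224924 : act 0 n50198 = n48361 := d8_1 D50198 (iv D48361) (iv F214926)
theorem F224925 : act 1 n50198 = n48472 := d16_1 D50198 (iv D48472) (iv F214927)
theorem F224926 : act 3 n50198 = n48385 := d29_1 D50198 (iv D48385) (iv F214928)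
theorem F224927 : act 6 n50198 = n47993 := d41_1 D50198 (iv D47993) D47992
def n50199 : Q := act 8 n47993
theorem D50199 : act 8 n47993 = n50199 := rfl
theorem F224928 : act 0 n50199 = n48368 := d7_1 D50199 (iv D48368) (iv F214930)
theorem F224929 : act 1 n50199 = n48473 := d15_1 D50199 (iv D48473) (iv F214931)
theorem F224930 : act 5 n50199 = n47994 := d37_1 D50199 (iv D47994) (iv F214933)
theorem F224931 : act 7 n50199 = n50199 := d42_1 D50199 (iv D50199) F214934
theorem F224932 : act 9 n50199 = n48032 := d44_2 D47993 D50199 (iv D48032) (iv D44906) (iv F187275)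
def n50200 : Q := act 2 n47995
theorem D50200 : act 2 n47995 = n50200 := rfl
theorem F224933 : act 3 n50200 = n48037 := d17_2 D47995 D50200 (iv D48037) (iv D44922) (iv F187284)
theorem F224934 : act 5 n50200 = n50200 := d19_2 F214940 D50200 (iv D50200)
theorem F224935 : act 6 n50200 = n47997 := d20_2 (iv F214941) D50200 (iv D47997)
def n50201 : Q := act 4 n47995
theorem D50201 : act 4 n47995 = n50201 := rfl
theorem F224936 : act 1 n50201 = n48475 := d11_1 D50201 (iv D48475) (iv F214939)
theorem F224937 : act 6 n50201 = n47998 := d31_2 (iv F214941) D50201 (iv D47998)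
def n50202 : Q := act 9 n47995
theorem D50202 : act 9 n47995 = n50202 := rfl
theorem F224938 : act 1 n50202 = n48476 := d16_1 D50202 (iv D48476) (iv F214939)
theorem F224939 : act 3 n50202 = n47996 := d29_1 D50202 (iv D47996) D47995
theorem F224940 : act 5 n50202 = n50202 := d38_1 D50202 (iv D50202) F214940
theorem F224941 : act 6 n50202 = n47999 := d41_1 D50202 (iv D47999) (iv F214941)
def n50203 : Q := act 1 n47997
theorem D50203 : act 1 n47997 = n50203 := rfl
theorem F224942 : act 2 n50203 = n48477 := d9_2 D47997 D50203 (iv D48477) (iv D45809) (iv F187287)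
theorem F224943 : act 3 n50203 = n48039 := d10_2 (iv F214946) D50203 (iv D48039)
theorem F224944 : act 5 n50203 = n48006 := d12_2 (iv F214947) D50203 (iv D48006)
theorem F224945 : act 7 n50203 = n48000 := d14_2 (iv F214948) D50203 (iv D48000)
def n50204 : Q := act 4 n47997
theorem D50204 : act 4 n47997 = n50204 := rfl
theorem F224946 : act 2 n50204 = n47998 := d18_1 D50204 (iv D47998) D47997
theorem F224947 : act 7 n50204 = n48001 := d32_2 (iv F214948) D50204 (iv D48001)
def n50205 : Q := act 9 n47997
theorem D50205 : act 9 n47997 = n50205 := rfl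
theorem F224948 : act 2 n50205 = n47999 := d23_1 D50205 (iv D47999) D47997
theorem F224949 : act 3 n50205 = n48041 := d29_1 D50205 (iv D48041) (iv F214946)
theorem F224950 : act 5 n50205 = n48008 := d38_1 D50205 (iv D48008) (iv F214947)
theorem F224951 : act 7 n50205 = n48002 := d43_1 D50205 (iv D48002) (iv F214948)
def n50206 : Q := act 5 n47998
theorem D50206 : act 5 n47998 = n50206 := rfl
theorem F224952 : act 1 n50206 = n48480 := d12_1 D50206 (iv D48480) (iv F214949)
theorem F224953 : act 3 n50206 = n48229 := d25_1 D50206 (iv F224092) F224091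
theorem F224954 : act 4 n50206 = n48009 := d30_1 D50206 (iv D48009) (iv D44891) (iv F187288) D47998
theorem F224955 : act 7 n50206 = n48003 := d36_2 (iv F214950) D50206 (iv D48003)
theorem F224956 : act 8 n50206 = n48438 := d37_2 F224824 D50206 (iv F224822)
def n50207 : Q := act 9 n47998
theorem D50207 : act 9 n47998 = n50207 := rfl
theorem F224957 : act 1 n50207 = n48481 := d16_1 D50207 (iv D48481) (iv F214949)
theorem F224958 : act 4 n50207 = n47999 := d34_1 D50207 (iv D47999) D47998
theorem F224959 : act 7 n50207 = n48004 := d43_1 D50207 (iv D48004) (iv F214950)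
def n50208 : Q := act 8 n47999
theorem D50208 : act 8 n47999 = n50208 := rfl
theorem F224960 : act 1 n50208 = n48482 := d15_1 D50208 (iv D48482) (iv F214951)
theorem F224961 : act 5 n50208 = n48011 := d37_1 D50208 (iv D48011) (iv F214953)
theorem F224962 : act 7 n50208 = n48005 := d42_1 D50208 (iv D48005) (iv F214954)
def n50209 : Q := act 0 n48000
theorem D50209 : act 0 n48000 = n50209 := rfl
theorem F224963 : act 2 n50209 = n48483 := d1_2 (iv F214955) D50209 (iv D48483)
theorem F224964 : act 3 n50209 = n48044 := d2_2 (iv F214956) D50209 (iv D48044)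
theorem F224965 : act 5 n50209 = n48012 := d4_2 (iv F214957) D50209 (iv D48012)
def n50210 : Q := act 4 n48000
theorem D50210 : act 4 n48000 = n50210 := rfl
theorem F224966 : act 1 n50210 = n48001 := d11_1 D50210 (iv D48001) D48000
theorem F224967 : act 2 n50210 = n48484 := d18_1 D50210 (iv D48484) (iv F214955)
def n50211 : Q := act 9 n48000
theorem D50211 : act 9 n48000 = n50211 := rfl
theorem F224968 : act 1 n50211 = n48002 := d16_1 D50211 (iv D48002) D48000
theorem F224969 : act 2 n50211 = n48485 := d23_1 D50211 (iv D48485) (iv F214955)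
theorem F224970 : act 3 n50211 = n48046 := d29_1 D50211 (iv D48046) (iv F214956)
theorem F224971 : act 5 n50211 = n48014 := d38_1 D50211 (iv D48014) (iv F214957)
def n50212 : Q := act 3 n48001
theorem D50212 : act 3 n48001 = n50212 := rfl
theorem F224972 : act 4 n50212 = n48047 := d24_2 D48001 D50212 (iv D48047) (iv D44928) (iv F187294)
def n50213 : Q := act 5 n48001
theorem D50213 : act 5 n48001 = n50213 := rfl
theorem F224973 : act 2 n50213 = n48003 := d19_1 D50213 (iv D48003) (iv F214958)
theorem F224974 : act 4 n50213 = n48015 := d30_1 D50213 (iv D48015) (iv D44894) (iv F187295) D48001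
def n50214 : Q := act 9 n48001
theorem D50214 : act 9 n48001 = n50214 := rfl
theorem F224975 : act 2 n50214 = n48004 := d23_1 D50214 (iv D48004) (iv F214958)
theorem F224976 : act 4 n50214 = n48002 := d34_1 D50214 (iv D48002) D48001
def n50215 : Q := act 8 n48002
theorem D50215 : act 8 n48002 = n50215 := rfl
theorem F224977 : act 2 n50215 = n48005 := d22_1 D50215 (iv D48005) (iv F214959)
theorem F224978 : act 5 n50215 = n48017 := d37_1 D50215 (iv D48017) (iv F214961)
def n50216 : Q := act 6 n48003
theorem D50216 : act 6 n48003 = n50216 := rfl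
theorem F224979 : act 1 n50216 = n48490 := d13_1 D50216 (iv D48490) (iv F214962)
theorem F224980 : act 4 n50216 = n48018 := d31_1 D50216 (iv D48018) (iv F214963)
def n50217 : Q := act 9 n48003
theorem D50217 : act 9 n48003 = n50217 := rfl
theorem F224981 : act 1 n50217 = n48491 := d16_1 D50217 (iv D48491) (iv F214962)
theorem F224982 : act 4 n50217 = n48019 := d34_1 D50217 (iv D48019) (iv F214963)
theorem F224983 : act 5 n50217 = n48004 := d38_1 D50217 (iv D48004) D48003
def n50218 : Q := act 8 n48004
theorem D50218 : act 8 n48004 = n50218 := rfl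
theorem F224984 : act 1 n50218 = n48492 := d15_1 D50218 (iv D48492) (iv F214964)
theorem F224985 : act 4 n50218 = n48005 := d33_1 D50218 (iv D48005) (iv F214965)
def n50219 : Q := act 0 n48006
theorem D50219 : act 0 n48006 = n50219 := rfl
theorem F224986 : act 2 n50219 = n48493 := d1_2 (iv F214968) D50219 (iv D48493)
theorem F224987 : act 3 n50219 = n48051 := d2_2 (iv F214969) D50219 (iv D48051)
theorem F224988 : act 6 n50219 = n50219 := d5_2 F214970 D50219 (iv D50219)
theorem F224989 : act 7 n50219 = n48012 := d6_2 (iv F214971) D50219 (iv D48012)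
def n50220 : Q := act 4 n48006
theorem D50220 : act 4 n48006 = n50220 := rfl
theorem F224990 : act 1 n50220 = n48007 := d11_1 D50220 (iv D48007) D48006
theorem F224991 : act 2 n50220 = n48494 := d18_1 D50220 (iv D48494) (iv F214968)
theorem F224992 : act 3 n50220 = n50220 := d24_1 D50220 (iv D50220) F214969 F187449 (iv F214969)
theorem F224993 : act 6 n50220 = n50220 := d31_2 F214970 D50220 (iv D50220)
theorem F224994 : act 7 n50220 = n48013 := d32_2 (iv F214971) D50220 (iv D48013)
theorem F224995 : act 8 n50220 = n48733 := d33_2 F224853 D50220 (iv F224850)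
def n50221 : Q := act 9 n48006
theorem D50221 : act 9 n48006 = n50221 := rfl
theorem F224996 : act 1 n50221 = n48008 := d16_1 D50221 (iv D48008) D48006
theorem F224997 : act 2 n50221 = n48495 := d23_1 D50221 (iv D48495) (iv F214968)
theorem F224998 : act 3 n50221 = n48052 := d29_1 D50221 (iv D48052) (iv F214969)
theorem F224999 : act 6 n50221 = n50221 := d41_1 D50221 (iv D50221) F214970
theorem F225000 : act 7 n50221 = n48014 := d43_1 D50221 (iv D48014) (iv F214971)
def n50222 : Q := act 5 n48007
theorem D50222 : act 5 n48007 = n50222 := rfl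
theorem F225001 : act 2 n50222 = n48009 := d19_1 D50222 (iv D48009) (iv F214972)
theorem F225002 : act 3 n50222 = n50222 := d25_1 D50222 (iv D50222) F214973
theorem F225003 : act 7 n50222 = n48015 := d36_2 (iv F214975) D50222 (iv D48015)
theorem F225004 : act 8 n50222 = n48437 := d37_2 (iv F214976) D50222 F216455
def n50223 : Q := act 9 n48007
theorem D50223 : act 9 n48007 = n50223 := rfl
theorem F225005 : act 2 n50223 = n48010 := d23_1 D50223 (iv D48010) (iv F214972)
theorem F225006 : act 3 n50223 = n50223 := d29_1 D50223 (iv D50223) F214973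
theorem F225007 : act 4 n50223 = n48008 := d34_1 D50223 (iv D48008) D48007
theorem F225008 : act 6 n50223 = n50223 := d41_1 D50223 (iv D50223) F214974
theorem F225009 : act 7 n50223 = n48016 := d43_1 D50223 (iv D48016) (iv F214975)
def n50224 : Q := act 8 n48008
theorem D50224 : act 8 n48008 = n50224 := rfl
theorem F225010 : act 2 n50224 = n48011 := d22_1 D50224 (iv D48011) (iv F214977)
theorem F225011 : act 6 n50224 = n50224 := d40_1 D50224 (iv D50224) F214979
theorem F225012 : act 7 n50224 = n48017 := d42_1 D50224 (iv D48017) (iv F214980)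
def n50225 : Q := act 9 n48009
theorem D50225 : act 9 n48009 = n50225 := rfl
theorem F225013 : act 1 n50225 = n48500 := d16_1 D50225 (iv D48500) (iv F214981)
theorem F225014 : act 3 n50225 = n48033 := d29_1 D50225 (iv D48033) (iv F214982)
theorem F225015 : act 5 n50225 = n48010 := d38_1 D50225 (iv D48010) D48009
theorem F225016 : act 7 n50225 = n48019 := d43_1 D50225 (iv D48019) (iv F214983)
def n50226 : Q := act 8 n48010
theorem D50226 : act 8 n48010 = n50226 := rfl
theorem F225017 : act 1 n50226 = n48501 := d15_1 D50226 (iv D48501) (iv F214985)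
theorem F225018 : act 4 n50226 = n48011 := d33_1 D50226 (iv D48011) (iv F214987)
theorem F225019 : act 6 n50226 = n50226 := d40_1 D50226 (iv D50226) F214988
theorem F225020 : act 7 n50226 = n48020 := d42_1 D50226 (iv D48020) (iv F214989)
theorem F225021 : act 9 n50226 = n48735 := d44_2 D48010 D50226 (iv D48735) (iv D46547) (iv F206828)
def n50227 : Q := act 4 n48012
theorem D50227 : act 4 n48012 = n50227 := rfl
theorem F225022 : act 0 n50227 = n48013 := d3_1 D50227 (iv D48013) D48012
theorem F225023 : act 1 n50227 = n48468 := d11_1 D50227 (iv F223185) F223182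
theorem F225024 : act 2 n50227 = n48502 := d18_1 D50227 (iv D48502) (iv F214993)
theorem F225025 : act 3 n50227 = n50227 := d24_1 D50227 (iv D50227) F214994 F187463 (iv F214994)
theorem F225026 : act 6 n50227 = n48021 := d31_2 (iv F214995) D50227 (iv D48021)
theorem F225027 : act 8 n50227 = n48516 := d33_2 F223337 D50227 (iv F223336)
def n50228 : Q := act 9 n48012
theorem D50228 : act 9 n48012 = n50228 := rfl
theorem F225028 : act 0 n50228 = n48014 := d8_1 D50228 (iv D48014) D48012
theorem F225029 : act 2 n50228 = n48503 := d23_1 D50228 (iv D48503) (iv F214993)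
theorem F225030 : act 3 n50228 = n48054 := d29_1 D50228 (iv D48054) (iv F214994)
theorem F225031 : act 6 n50228 = n48022 := d41_1 D50228 (iv D48022) (iv F214995)
def n50229 : Q := act 5 n48013
theorem D50229 : act 5 n48013 = n50229 := rfl
theorem F225032 : act 1 n50229 = n48015 := d12_1 D50229 (iv D48015) (iv F214996)
theorem F225033 : act 2 n50229 = n48504 := d19_1 D50229 (iv D48504) (iv F214997)
theorem F225034 : act 3 n50229 = n50229 := d25_1 D50229 (iv D50229) F214998
def n50230 : Q := act 9 n48013
theorem D50230 : act 9 n48013 = n50230 := rfl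
theorem F225035 : act 1 n50230 = n48016 := d16_1 D50230 (iv D48016) (iv F214996)
theorem F225036 : act 2 n50230 = n48505 := d23_1 D50230 (iv D48505) (iv F214997)
theorem F225037 : act 3 n50230 = n50230 := d29_1 D50230 (iv D50230) F214998
theorem F225038 : act 4 n50230 = n48014 := d34_1 D50230 (iv D48014) D48013
theorem F225039 : act 6 n50230 = n48024 := d41_1 D50230 (iv D48024) (iv F214999)
def n50231 : Q := act 8 n48014
theorem D50231 : act 8 n48014 = n50231 := rfl
theorem F225040 : act 1 n50231 = n48017 := d15_1 D50231 (iv D48017) (iv F215000)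
theorem F225041 : act 2 n50231 = n48506 := d22_1 D50231 (iv D48506) (iv F215001)
theorem F225042 : act 6 n50231 = n48025 := d40_1 D50231 (iv D48025) (iv F215003)
def n50232 : Q := act 6 n48015
theorem D50232 : act 6 n48015 = n50232 := rfl
theorem F225043 : act 2 n50232 = n48018 := d20_1 D50232 (iv D48018) (iv F215004)
theorem F225044 : act 3 n50232 = n50232 := d26_1 D50232 (iv D50232) F215005
theorem F225045 : act 5 n50232 = n48026 := d35_1 D50232 (iv D48026) (iv D44902) (iv F187316) D48015
def n50233 : Q := act 9 n48015
theorem D50233 : act 9 n48015 = n50233 := rfl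
theorem F225046 : act 2 n50233 = n48019 := d23_1 D50233 (iv D48019) (iv F215004)
theorem F225047 : act 3 n50233 = n50233 := d29_1 D50233 (iv D50233) F215005
theorem F225048 : act 5 n50233 = n48016 := d38_1 D50233 (iv D48016) D48015
def n50234 : Q := act 8 n48016
theorem D50234 : act 8 n48016 = n50234 := rfl
theorem F225049 : act 2 n50234 = n48020 := d22_1 D50234 (iv D48020) (iv F215006)
theorem F225050 : act 4 n50234 = n48017 := d33_1 D50234 (iv D48017) (iv F215008)
theorem F225051 : act 6 n50234 = n48028 := d40_1 D50234 (iv D48028) (iv F215009)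
def n50235 : Q := act 3 n48017
theorem D50235 : act 3 n48017 = n50235 := rfl
theorem F225052 : act 6 n50235 = n48029 := d26_2 (iv F215011) D50235 (iv D48029)
theorem F225053 : act 8 n50235 = n48056 := d28_2 D48017 D50235 (iv D48056) (iv D44937) (iv F187318)
def n50236 : Q := act 7 n48018
theorem D50236 : act 7 n48018 = n50236 := rfl
theorem F225054 : act 1 n50236 = n48511 := d14_1 D50236 (iv D48511) (iv F215012)
theorem F225055 : act 3 n50236 = n48034 := d27_1 D50236 (iv D48034) (iv F215013)
theorem F225056 : act 5 n50236 = n48030 := d36_1 D50236 (iv D48030) (iv F215014)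
def n50237 : Q := act 9 n48018
theorem D50237 : act 9 n48018 = n50237 := rfl
theorem F225057 : act 1 n50237 = n48512 := d16_1 D50237 (iv D48512) (iv F215012)
theorem F225058 : act 3 n50237 = n48035 := d29_1 D50237 (iv D48035) (iv F215013)
theorem F225059 : act 5 n50237 = n48031 := d38_1 D50237 (iv D48031) (iv F215014)
theorem F225060 : act 6 n50237 = n48019 := d41_1 D50237 (iv D48019) D48018
def n50238 : Q := act 8 n48019
theorem D50238 : act 8 n48019 = n50238 := rfl
theorem F225061 : act 1 n50238 = n48513 := d15_1 D50238 (iv D48513) (iv F215015)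
theorem F225062 : act 5 n50238 = n48020 := d37_1 D50238 (iv D48020) (iv F215017)
def n50239 : Q := act 9 n48021
theorem D50239 : act 9 n48021 = n50239 := rfl
theorem F225063 : act 0 n50239 = n48024 := d8_1 D50239 (iv D48024) (iv F215021)
theorem F225064 : act 1 n50239 = n48469 := d16_1 D50239 (iv D48469) (iv F215022)
theorem F225065 : act 2 n50239 = n48514 := d23_1 D50239 (iv D48514) (iv F215023)
theorem F225066 : act 3 n50239 = n50239 := d29_1 D50239 (iv D50239) F215024
theorem F225067 : act 4 n50239 = n48022 := d34_1 D50239 (iv D48022) D48021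
theorem F225068 : act 5 n50239 = n48466 := d38_1 D50239 (iv D48466) (iv F215025)
theorem F225069 : act 7 n50239 = n50239 := d43_1 D50239 (iv D50239) F215026
def n50240 : Q := act 8 n48022
theorem D50240 : act 8 n48022 = n50240 := rfl
theorem F225070 : act 0 n50240 = n48025 := d7_1 D50240 (iv D48025) (iv F215028)
theorem F225071 : act 2 n50240 = n48515 := d22_1 D50240 (iv D48515) (iv F215029)
theorem F225072 : act 7 n50240 = n50240 := d42_1 D50240 (iv D50240) F215031
def n50241 : Q := act 6 n48023
theorem D50241 : act 6 n48023 = n50241 := rfl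
theorem F225073 : act 0 n50241 = n48457 := d5_1 D50241 F216513 (iv F215032)
theorem F225074 : act 1 n50241 = n48026 := d13_1 D50241 (iv D48026) (iv F215033)
theorem F225075 : act 2 n50241 = n48516 := d20_1 D50241 (iv D48516) (iv F215034)
theorem F225076 : act 3 n50241 = n50241 := d26_1 D50241 (iv D50241) F215035
theorem F225077 : act 4 n50241 = n48456 := d31_1 D50241 F216509 (iv F215036)
theorem F225078 : act 8 n50241 = n48502 := d40_2 (iv F215038) D50241 F216636
def n50242 : Q := act 9 n48023
theorem D50242 : act 9 n48023 = n50242 := rfl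
theorem F225079 : act 0 n50242 = n48466 := d8_1 D50242 (iv D48466) (iv F215032)
theorem F225080 : act 1 n50242 = n48027 := d16_1 D50242 (iv D48027) (iv F215033)
theorem F225081 : act 2 n50242 = n48517 := d23_1 D50242 (iv D48517) (iv F215034)
theorem F225082 : act 3 n50242 = n50242 := d29_1 D50242 (iv D50242) F215035
theorem F225083 : act 4 n50242 = n48465 := d34_1 D50242 (iv D48465) (iv F215036)
theorem F225084 : act 5 n50242 = n48024 := d38_1 D50242 (iv D48024) D48023
theorem F225085 : act 7 n50242 = n50242 := d43_1 D50242 (iv D50242) F215037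
def n50243 : Q := act 8 n48024
theorem D50243 : act 8 n48024 = n50243 := rfl
theorem F225086 : act 1 n50243 = n48028 := d15_1 D50243 (iv D48028) (iv F215039)
theorem F225087 : act 2 n50243 = n48518 := d22_1 D50243 (iv D48518) (iv F215040)
theorem F225088 : act 4 n50243 = n48025 := d33_1 D50243 (iv D48025) (iv F215042)
theorem F225089 : act 7 n50243 = n50243 := d42_1 D50243 (iv D50243) F215043
def n50244 : Q := act 3 n48025
theorem D50244 : act 3 n48025 = n50244 := rfl
theorem F225090 : act 1 n50244 = n48029 := d10_1 D50244 (iv D48029) (iv F215044)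
theorem F225091 : act 7 n50244 = n50244 := d27_2 F215046 D50244 (iv D50244)
theorem F225092 : act 8 n50244 = n48058 := d28_2 D48025 D50244 (iv D48058) (iv D44939) (iv F187337)
def n50245 : Q := act 7 n48026
theorem D50245 : act 7 n48026 = n50245 := rfl
theorem F225093 : act 2 n50245 = n48030 := d21_1 D50245 (iv D48030) (iv F215047)
theorem F225094 : act 3 n50245 = n50245 := d27_1 D50245 (iv D50245) F215048
theorem F225095 : act 6 n50245 = n50245 := d39_1 D50245 (iv D50245) (iv D48026) F187341 D48026
def n50246 : Q := act 9 n48026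
theorem D50246 : act 9 n48026 = n50246 := rfl
theorem F225096 : act 2 n50246 = n48031 := d23_1 D50246 (iv D48031) (iv F215047)
theorem F225097 : act 3 n50246 = n50246 := d29_1 D50246 (iv D50246) F215048
theorem F225098 : act 6 n50246 = n48027 := d41_1 D50246 (iv D48027) D48026
def n50247 : Q := act 8 n48027
theorem D50247 : act 8 n48027 = n50247 := rfl
theorem F225099 : act 2 n50247 = n48032 := d22_1 D50247 (iv D48032) (iv F215049)
theorem F225100 : act 5 n50247 = n48028 := d37_1 D50247 (iv D48028) (iv F215051)
theorem F225101 : act 7 n50247 = n50247 := d42_1 D50247 (iv D50247) F215052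
def n50248 : Q := act 3 n48028
theorem D50248 : act 3 n48028 = n50248 := rfl
theorem F225102 : act 7 n50248 = n50248 := d27_2 F215055 D50248 (iv D50248)
theorem F225103 : act 8 n50248 = n50248 := d28_2 D48028 D50248 (iv D50248) (iv D48028) F187343
def n50249 : Q := act 4 n48029
theorem D50249 : act 4 n48029 = n50249 := rfl
theorem F225104 : act 7 n50249 = n50249 := d32_2 F215056 D50249 (iv D50249)
theorem F225105 : act 8 n50249 = n48059 := d33_2 (iv F215057) D50249 (iv D48059)
def n50250 : Q := act 9 n48030
theorem D50250 : act 9 n48030 = n50250 := rfl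
theorem F225106 : act 1 n50250 = n48525 := d16_1 D50250 (iv D48525) (iv F215058)
theorem F225107 : act 3 n50250 = n48036 := d29_1 D50250 (iv D48036) (iv F215059)
theorem F225108 : act 6 n50250 = n50250 := d41_1 D50250 (iv D50250) F215060
theorem F225109 : act 7 n50250 = n48031 := d43_1 D50250 (iv D48031) D48030
def n50251 : Q := act 8 n48031
theorem D50251 : act 8 n48031 = n50251 := rfl
theorem F225110 : act 1 n50251 = n48526 := d15_1 D50251 (iv D48526) (iv F215061)
theorem F225111 : act 6 n50251 = n48032 := d40_1 D50251 (iv D48032) (iv F215063)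
def n50252 : Q := act 9 n48034
theorem D50252 : act 9 n48034 = n50252 := rfl
theorem F225112 : act 1 n50252 = n48529 := d16_1 D50252 (iv D48529) (iv F215072)
theorem F225113 : act 2 n50252 = n50252 := d23_1 D50252 (iv D50252) F215073
theorem F225114 : act 5 n50252 = n48036 := d38_1 D50252 (iv D48036) (iv F215074)
theorem F225115 : act 7 n50252 = n48035 := d43_1 D50252 (iv D48035) D48034
def n50253 : Q := act 9 n48037
theorem D50253 : act 9 n48037 = n50253 := rfl
theorem F225116 : act 2 n50253 = n48038 := d23_1 D50253 (iv D48038) D48037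
theorem F225117 : act 5 n50253 = n50253 := d38_1 D50253 (iv D50253) F215085
theorem F225118 : act 6 n50253 = n48041 := d41_1 D50253 (iv D48041) (iv F215086)
def n50254 : Q := act 8 n48038
theorem D50254 : act 8 n48038 = n50254 := rfl
theorem F225119 : act 1 n50254 = n48060 := d15_1 D50254 (iv D48060) (iv F215088)
theorem F225120 : act 3 n50254 = n48050 := d28_1 D50254 (iv D48050) (iv F214246) F214250 (iv F215089)
theorem F225121 : act 5 n50254 = n50254 := d37_1 D50254 (iv D50254) F215090
theorem F225122 : act 6 n50254 = n48043 := d40_1 D50254 (iv D48043) (iv F215091)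
theorem F225123 : act 9 n50254 = n50254 := d44_2 D48038 D50254 (iv D50254) (iv D48038) F187419
def n50255 : Q := act 9 n48039
theorem D50255 : act 9 n48039 = n50255 := rfl
theorem F225124 : act 1 n50255 = n48041 := d16_1 D50255 (iv D48041) D48039
theorem F225125 : act 2 n50255 = n48061 := d23_1 D50255 (iv D48061) (iv F215092)
theorem F225126 : act 5 n50255 = n48052 := d38_1 D50255 (iv D48052) (iv F215093)
theorem F225127 : act 7 n50255 = n48046 := d43_1 D50255 (iv D48046) (iv F215094)
def n50256 : Q := act 3 n48040
theorem D50256 : act 3 n48040 = n50256 := rfl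
theorem F225128 : act 5 n50256 = n50256 := d25_2 F215097 D50256 (iv D50256)
theorem F225129 : act 7 n50256 = n48047 := d27_2 (iv F215098) D50256 (iv D48047)
def n50257 : Q := act 9 n48040
theorem D50257 : act 9 n48040 = n50257 := rfl
theorem F225130 : act 2 n50257 = n48042 := d23_1 D50257 (iv D48042) (iv F215096)
theorem F225131 : act 4 n50257 = n48041 := d34_1 D50257 (iv D48041) D48040
theorem F225132 : act 5 n50257 = n50257 := d38_1 D50257 (iv D50257) F215097
theorem F225133 : act 7 n50257 = n48048 := d43_1 D50257 (iv D48048) (iv F215098)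
def n50258 : Q := act 8 n48041
theorem D50258 : act 8 n48041 = n50258 := rfl
theorem F225134 : act 2 n50258 = n48043 := d22_1 D50258 (iv D48043) (iv F215100)
theorem F225135 : act 5 n50258 = n48053 := d37_1 D50258 (iv D48053) (iv F215101)
theorem F225136 : act 7 n50258 = n48049 := d42_1 D50258 (iv D48049) (iv F215102)
theorem F225137 : act 9 n50258 = n50258 := d44_2 D48041 D50258 (iv D50258) (iv D48041) F187425
def n50259 : Q := act 8 n48042
theorem D50259 : act 8 n48042 = n50259 := rfl
theorem F225138 : act 1 n50259 = n48064 := d15_1 D50259 (iv D48064) (iv F215103)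
theorem F225139 : act 4 n50259 = n48043 := d33_1 D50259 (iv D48043) (iv F215104)
theorem F225140 : act 5 n50259 = n50259 := d37_1 D50259 (iv D50259) F215105
theorem F225141 : act 7 n50259 = n48050 := d42_1 D50259 (iv D48050) (iv F215106)
theorem F225142 : act 9 n50259 = n50259 := d44_2 D48042 D50259 (iv D50259) (iv D48042) F187429
def n50260 : Q := act 9 n48044
theorem D50260 : act 9 n48044 = n50260 := rfl
theorem F225143 : act 0 n50260 = n48046 := d8_1 D50260 (iv D48046) D48044
theorem F225144 : act 2 n50260 = n48065 := d23_1 D50260 (iv D48065) (iv F215111)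
theorem F225145 : act 5 n50260 = n48054 := d38_1 D50260 (iv D48054) (iv F215112)
def n50261 : Q := act 3 n48045
theorem D50261 : act 3 n48045 = n50261 := rfl
theorem F225146 : act 1 n50261 = n48047 := d10_1 D50261 (iv D48047) (iv F215114)
theorem F225147 : act 5 n50261 = n50261 := d25_2 F215116 D50261 (iv D50261)
def n50262 : Q := act 9 n48045
theorem D50262 : act 9 n48045 = n50262 := rfl
theorem F225148 : act 1 n50262 = n48048 := d16_1 D50262 (iv D48048) (iv F215114)
theorem F225149 : act 2 n50262 = n48066 := d23_1 D50262 (iv D48066) (iv F215115)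
theorem F225150 : act 4 n50262 = n48046 := d34_1 D50262 (iv D48046) D48045
theorem F225151 : act 5 n50262 = n50262 := d38_1 D50262 (iv D50262) F215116
def n50263 : Q := act 8 n48046
theorem D50263 : act 8 n48046 = n50263 := rfl
theorem F225152 : act 1 n50263 = n48049 := d15_1 D50263 (iv D48049) (iv F215118)
theorem F225153 : act 2 n50263 = n48067 := d22_1 D50263 (iv D48067) (iv F215119)
theorem F225154 : act 5 n50263 = n48055 := d37_1 D50263 (iv D48055) (iv F215120)
theorem F225155 : act 9 n50263 = n50263 := d44_2 D48046 D50263 (iv D50263) (iv D48046) F187436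
def n50264 : Q := act 8 n48047
theorem D50264 : act 8 n48047 = n50264 := rfl
theorem F225156 : act 3 n50264 = n50264 := d28_1 D50264 (iv D50264) (iv D48047) F187439 D48047
theorem F225157 : act 5 n50264 = n50264 := d37_1 D50264 (iv D50264) F215121
def n50265 : Q := act 9 n48047
theorem D50265 : act 9 n48047 = n50265 := rfl
theorem F225158 : act 3 n50265 = n48048 := d29_1 D50265 (iv D48048) D48047
theorem F225159 : act 5 n50265 = n50265 := d38_1 D50265 (iv D50265) F215121
def n50266 : Q := act 8 n48048
theorem D50266 : act 8 n48048 = n50266 := rfl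
theorem F225160 : act 2 n50266 = n48050 := d22_1 D50266 (iv D48050) (iv F215122)
theorem F225161 : act 4 n50266 = n48049 := d33_1 D50266 (iv D48049) (iv F215123)
theorem F225162 : act 5 n50266 = n50266 := d37_1 D50266 (iv D50266) F215124
theorem F225163 : act 9 n50266 = n50266 := d44_2 D48048 D50266 (iv D50266) (iv D48048) F187439
def n50267 : Q := act 3 n48049
theorem D50267 : act 3 n48049 = n50267 := rfl
theorem F225164 : act 5 n50267 = n48056 := d25_2 (iv F215126) D50267 (iv D48056)
theorem F225165 : act 9 n50267 = n50267 := d29_2 F215127 D50267 (iv D50267)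
def n50268 : Q := act 9 n48051
theorem D50268 : act 9 n48051 = n50268 := rfl
theorem F225166 : act 0 n50268 = n48052 := d8_1 D50268 (iv D48052) D48051
theorem F225167 : act 2 n50268 = n48071 := d23_1 D50268 (iv D48071) (iv F215132)
theorem F225168 : act 4 n50268 = n50268 := d34_1 D50268 (iv D50268) F215133
theorem F225169 : act 6 n50268 = n50268 := d41_1 D50268 (iv D50268) F215134
theorem F225170 : act 7 n50268 = n48054 := d43_1 D50268 (iv D48054) (iv F215135)
def n50269 : Q := act 8 n48052
theorem D50269 : act 8 n48052 = n50269 := rfl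
theorem F225171 : act 1 n50269 = n48053 := d15_1 D50269 (iv D48053) (iv F215137)
theorem F225172 : act 2 n50269 = n48072 := d22_1 D50269 (iv D48072) (iv F215138)
theorem F225173 : act 4 n50269 = n50269 := d33_1 D50269 (iv D50269) F215139
theorem F225174 : act 6 n50269 = n50269 := d40_1 D50269 (iv D50269) F215140
theorem F225175 : act 7 n50269 = n48055 := d42_1 D50269 (iv D48055) (iv F215141)
theorem F225176 : act 9 n50269 = n50269 := d44_2 D48052 D50269 (iv D50269) (iv D48052) F187452
def n50270 : Q := act 3 n48053
theorem D50270 : act 3 n48053 = n50270 := rfl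
theorem F225177 : act 6 n50270 = n50270 := d26_2 F215144 D50270 (iv D50270)
theorem F225178 : act 7 n50270 = n48056 := d27_2 (iv F215145) D50270 (iv D48056)
theorem F225179 : act 9 n50270 = n50270 := d29_2 F215146 D50270 (iv D50270)
def n50271 : Q := act 8 n48054
theorem D50271 : act 8 n48054 = n50271 := rfl
theorem F225180 : act 0 n50271 = n48055 := d7_1 D50271 (iv D48055) (iv F215147)
theorem F225181 : act 2 n50271 = n48073 := d22_1 D50271 (iv D48073) (iv F215148)
theorem F225182 : act 4 n50271 = n50271 := d33_1 D50271 (iv D50271) F215149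
theorem F225183 : act 6 n50271 = n48057 := d40_1 D50271 (iv D48057) (iv F215150)
theorem F225184 : act 9 n50271 = n50271 := d44_2 D48054 D50271 (iv D50271) (iv D48054) F187465
def n50272 : Q := act 3 n48055
theorem D50272 : act 3 n48055 = n50272 := rfl
theorem F225185 : act 1 n50272 = n48056 := d10_1 D50272 (iv D48056) (iv F215151)
theorem F225186 : act 6 n50272 = n48058 := d26_2 (iv F215154) D50272 (iv D48058)
theorem F225187 : act 9 n50272 = n50272 := d29_2 F215155 D50272 (iv D50272)
def n50273 : Q := act 4 n48056
theorem D50273 : act 4 n48056 = n50273 := rfl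
theorem F225188 : act 3 n50273 = n50273 := d24_1 D50273 (iv D50273) (iv D48056) F187471 D48056
theorem F225189 : act 6 n50273 = n48059 := d31_2 (iv F215156) D50273 (iv D48059)
theorem F225190 : act 9 n50273 = n50273 := d34_2 F215157 D50273 (iv D50273)
def n50274 : Q := act 8 n48061
theorem D50274 : act 8 n48061 = n50274 := rfl
theorem F225191 : act 1 n50274 = n48063 := d15_1 D50274 (iv D48063) (iv F215174)
theorem F225192 : act 3 n50274 = n48291 := d28_1 D50274 (iv D48291) F189231 D45876 (iv F215175)
theorem F225193 : act 5 n50274 = n48072 := d37_1 D50274 (iv D48072) (iv F215176)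
theorem F225194 : act 7 n50274 = n48067 := d42_1 D50274 (iv D48067) (iv F215177)
theorem F225195 : act 9 n50274 = n50274 := d44_2 D48061 D50274 (iv D50274) (iv D48061) F187500
def n50275 : Q := act 8 n48062
theorem D50275 : act 8 n48062 = n50275 := rfl
theorem F225196 : act 0 n50275 = n50275 := d7_1 D50275 (iv D50275) F215178
theorem F225197 : act 2 n50275 = n48064 := d22_1 D50275 (iv D48064) (iv F215179)
theorem F225198 : act 3 n50275 = n48194 := d28_1 D50275 (iv D48194) F188751 D45640 (iv F215180)
theorem F225199 : act 4 n50275 = n48063 := d33_1 D50275 (iv D48063) (iv F215181)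
theorem F225200 : act 5 n50275 = n50275 := d37_1 D50275 (iv D50275) F215182
theorem F225201 : act 7 n50275 = n48069 := d42_1 D50275 (iv D48069) (iv F215183)
theorem F225202 : act 9 n50275 = n50275 := d44_2 D48062 D50275 (iv D50275) (iv D48062) F187505
def n50276 : Q := act 8 n48065
theorem D50276 : act 8 n48065 = n50276 := rfl
theorem F225203 : act 0 n50276 = n48067 := d7_1 D50276 (iv D48067) (iv F215195)
theorem F225204 : act 1 n50276 = n50276 := d15_1 D50276 (iv D50276) F215196
theorem F225205 : act 5 n50276 = n48073 := d37_1 D50276 (iv D48073) (iv F215198)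
theorem F225206 : act 9 n50276 = n50276 := d44_2 D48065 D50276 (iv D50276) (iv D48065) F187522
def n50277 : Q := act 8 n48066
theorem D50277 : act 8 n48066 = n50277 := rfl
theorem F225207 : act 1 n50277 = n48069 := d15_1 D50277 (iv D48069) (iv F215199)
theorem F225208 : act 4 n50277 = n48067 := d33_1 D50277 (iv D48067) (iv F215200)
theorem F225209 : act 5 n50277 = n50277 := d37_1 D50277 (iv D50277) F215201
theorem F225210 : act 9 n50277 = n50277 := d44_2 D48066 D50277 (iv D50277) (iv D48066) F187525
def n50278 : Q := act 3 n48067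
theorem D50278 : act 3 n48067 = n50278 := rfl
theorem F225211 : act 1 n50278 = n48070 := d10_1 D50278 (iv D48070) (iv F215202)
theorem F225212 : act 5 n50278 = n48074 := d25_2 (iv F215203) D50278 (iv D48074)
theorem F225213 : act 7 n50278 = n48291 := d27_2 F225194 D50278 (iv F225192)
theorem F225214 : act 8 n50278 = n48283 := d28_2 D48067 D50278 F215900 F204723 (iv F187527)
theorem F225215 : act 9 n50278 = n50278 := d29_2 F215204 D50278 (iv D50278)
theorem F225216 : act 4 n48284 = n50278 := d33_3 F225214 F215901 D48284
def n50279 : Q := act 8 n48071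
theorem D50279 : act 8 n48071 = n50279 := rfl
theorem F225217 : act 0 n50279 = n48072 := d7_1 D50279 (iv D48072) (iv F215224)
theorem F225218 : act 1 n50279 = n50279 := d15_1 D50279 (iv D50279) F215225
theorem F225219 : act 3 n50279 = n48602 := d28_1 D50279 (iv D48602) F206983 F206661 (iv F215226)
theorem F225220 : act 4 n50279 = n50279 := d33_1 D50279 (iv D50279) F215227
theorem F225221 : act 6 n50279 = n50279 := d40_1 D50279 (iv D50279) F215228
theorem F225222 : act 7 n50279 = n48073 := d42_1 D50279 (iv D48073) (iv F215229)
theorem F225223 : act 9 n50279 = n50279 := d44_2 D48071 D50279 (iv D50279) (iv D48071) F187549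
def n50280 : Q := act 9 n48075
theorem D50280 : act 9 n48075 = n50280 := rfl
theorem F225224 : act 0 n50280 = n48085 := d8_1 D50280 (iv D48085) (iv F215247)
theorem F225225 : act 1 n50280 = n48097 := d16_1 D50280 (iv D48097) (iv F215248)
theorem F225226 : act 3 n50280 = n48076 := d29_1 D50280 (iv D48076) D48075
theorem F225227 : act 4 n50280 = n48086 := d34_1 D50280 (iv D48086) (iv F215249)
theorem F225228 : act 6 n50280 = n48089 := d41_1 D50280 (iv D48089) (iv F215250)
theorem F225229 : act 7 n50280 = n48141 := d43_1 D50280 (iv D48141) (iv F215251)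
def n50281 : Q := act 9 n48077
theorem D50281 : act 9 n48077 = n50281 := rfl
theorem F225230 : act 0 n50281 = n48086 := d8_1 D50281 (iv D48086) (iv F215260)
theorem F225231 : act 1 n50281 = n48093 := d16_1 D50281 (iv D48093) (iv F215261)
theorem F225232 : act 3 n50281 = n48078 := d29_1 D50281 (iv D48078) D48077
theorem F225233 : act 4 n50281 = n48085 := d34_1 D50281 (iv D48085) (iv F215262)
theorem F225234 : act 6 n50281 = n48080 := d41_1 D50281 (iv D48080) (iv F215263)
theorem F225235 : act 7 n50281 = n48166 := d43_1 D50281 (iv D48166) (iv F215264)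
def n50282 : Q := act 9 n48079
theorem D50282 : act 9 n48079 = n50282 := rfl
theorem F225236 : act 0 n50282 = n48088 := d8_1 D50282 (iv D48088) (iv F215273)
theorem F225237 : act 2 n50282 = n48080 := d23_1 D50282 (iv D48080) D48079
theorem F225238 : act 3 n50282 = n48082 := d29_1 D50282 (iv D48082) (iv F215274)
theorem F225239 : act 7 n50282 = n48149 := d43_1 D50282 (iv D48149) (iv F215275)
def n50283 : Q := act 8 n48080
theorem D50283 : act 8 n48080 = n50283 := rfl
theorem F225240 : act 0 n50283 = n48090 := d7_1 D50283 (iv D48090) (iv F215276)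
theorem F225241 : act 3 n50283 = n48099 := d28_1 D50283 (iv D48099) F188040 (iv F187660) (iv F215277)
theorem F225242 : act 7 n50283 = n48150 := d42_1 D50283 (iv D48150) (iv F215278)
def n50284 : Q := act 9 n48081
theorem D50284 : act 9 n48081 = n50284 := rfl
theorem F225243 : act 1 n50284 = n48082 := d16_1 D50284 (iv D48082) D48081
theorem F225244 : act 2 n50284 = n50284 := d23_1 D50284 (iv D50284) F215279
theorem F225245 : act 4 n50284 = n50284 := d34_1 D50284 (iv D50284) F215280
theorem F225246 : act 7 n50284 = n48158 := d43_1 D50284 (iv D48158) (iv F215281)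
def n50285 : Q := act 8 n48082
theorem D50285 : act 8 n48082 = n50285 := rfl
theorem F225247 : act 0 n50285 = n48091 := d7_1 D50285 (iv D48091) (iv F215283)
theorem F225248 : act 2 n50285 = n48083 := d22_1 D50285 (iv D48083) (iv F215284)
theorem F225249 : act 4 n50285 = n50285 := d33_1 D50285 (iv D50285) F215285
theorem F225250 : act 7 n50285 = n48159 := d42_1 D50285 (iv D48159) (iv F215286)
theorem F225251 : act 9 n50285 = n50285 := d44_2 D48082 D50285 (iv D50285) (iv D48082) F187728
def n50286 : Q := act 9 n48084
theorem D50286 : act 9 n48084 = n50286 := rfl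
theorem F225252 : act 2 n50286 = n48085 := d23_1 D50286 (iv D48085) D48084
theorem F225253 : act 3 n50286 = n50286 := d29_1 D50286 (iv D50286) F215293
theorem F225254 : act 7 n50286 = n48165 := d43_1 D50286 (iv D48165) (iv F215294)
def n50287 : Q := act 8 n48085
theorem D50287 : act 8 n48085 = n50287 := rfl
theorem F225255 : act 3 n50287 = n48106 := d28_1 D50287 (iv D48106) F188164 (iv F187757) (iv F215296)
theorem F225256 : act 7 n50287 = n48167 := d42_1 D50287 (iv D48167) (iv F215297)
theorem F225257 : act 9 n50287 = n48090 := d44_2 D48085 D50287 (iv D48090) (iv D45010) (iv F187753)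
def n50288 : Q := act 8 n48086
theorem D50288 : act 8 n48086 = n50288 := rfl
theorem F225258 : act 3 n50288 = n48113 := d28_1 D50288 (iv D48113) F188187 (iv F187773) (iv F215298)
theorem F225259 : act 6 n50288 = n48090 := d40_1 D50288 (iv D48090) (iv F215299)
def n50289 : Q := act 9 n48087
theorem D50289 : act 9 n48087 = n50289 := rfl
theorem F225260 : act 2 n50289 = n48089 := d23_1 D50289 (iv D48089) (iv F215300)
theorem F225261 : act 3 n50289 = n50289 := d29_1 D50289 (iv D50289) F215301
theorem F225262 : act 4 n50289 = n48088 := d34_1 D50289 (iv D48088) D48087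
theorem F225263 : act 7 n50289 = n48182 := d43_1 D50289 (iv D48182) (iv F215302)
def n50290 : Q := act 8 n48088
theorem D50290 : act 8 n48088 = n50290 := rfl
theorem F225264 : act 2 n50290 = n48090 := d22_1 D50290 (iv D48090) (iv F215303)
theorem F225265 : act 7 n50290 = n48183 := d42_1 D50290 (iv D48183) (iv F215305)
def n50291 : Q := act 8 n48089
theorem D50291 : act 8 n48089 = n50291 := rfl
theorem F225266 : act 1 n50291 = n48099 := d15_1 D50291 (iv D48099) (iv F215306)
theorem F225267 : act 4 n50291 = n48090 := d33_1 D50291 (iv D48090) (iv F215308)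
theorem F225268 : act 7 n50291 = n48184 := d42_1 D50291 (iv D48184) (iv F215309)
def n50292 : Q := act 3 n48091
theorem D50292 : act 3 n48091 = n50292 := rfl
theorem F225269 : act 2 n50292 = n48132 := d17_1 D50292 (iv D48132) F188296 (iv F187861) (iv F215312)
theorem F225270 : act 7 n50292 = n48193 := d27_2 (iv F215314) D50292 (iv D48193)
theorem F225271 : act 9 n50292 = n50292 := d29_2 F215315 D50292 (iv D50292)
def n50293 : Q := act 9 n48092
theorem D50293 : act 9 n48092 = n50293 := rfl
theorem F225272 : act 0 n50293 = n48105 := d8_1 D50293 (iv D48105) (iv F215316)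
theorem F225273 : act 2 n50293 = n48093 := d23_1 D50293 (iv D48093) D48092
theorem F225274 : act 3 n50293 = n50293 := d29_1 D50293 (iv D50293) F215317
theorem F225275 : act 7 n50293 = n48203 := d43_1 D50293 (iv D48203) (iv F215318)
def n50294 : Q := act 8 n48093
theorem D50294 : act 8 n48093 = n50294 := rfl
theorem F225276 : act 0 n50294 = n48106 := d7_1 D50294 (iv D48106) (iv F215320)
theorem F225277 : act 7 n50294 = n48204 := d42_1 D50294 (iv D48204) (iv F215322)
theorem F225278 : act 9 n50294 = n48099 := d44_2 D48093 D50294 (iv D48099) (iv D45077) (iv F188009)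
def n50295 : Q := act 9 n48094
theorem D50295 : act 9 n48094 = n50295 := rfl
theorem F225279 : act 0 n50295 = n48110 := d8_1 D50295 (iv D48110) (iv F215323)
theorem F225280 : act 3 n50295 = n48095 := d29_1 D50295 (iv D48095) D48094
theorem F225281 : act 5 n50295 = n48097 := d38_1 D50295 (iv D48097) (iv F215324)
def n50296 : Q := act 8 n48097
theorem D50296 : act 8 n48097 = n50296 := rfl
theorem F225282 : act 0 n50296 = n48113 := d7_1 D50296 (iv D48113) (iv F215336)
theorem F225283 : act 6 n50296 = n48099 := d40_1 D50296 (iv D48099) (iv F215338)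
def n50297 : Q := act 8 n48098
theorem D50297 : act 8 n48098 = n50297 := rfl
theorem F225284 : act 0 n50297 = n48119 := d7_1 D50297 (iv D48119) (iv F215339)
theorem F225285 : act 2 n50297 = n48099 := d22_1 D50297 (iv D48099) (iv F215340)
theorem F225286 : act 7 n50297 = n48216 := d42_1 D50297 (iv D48216) (iv F215342)
def n50298 : Q := act 8 n48101
theorem D50298 : act 8 n48101 = n50298 := rfl
theorem F225287 : act 0 n50298 = n48127 := d7_1 D50298 (iv D48127) (iv F215350)
theorem F225288 : act 1 n50298 = n50298 := d15_1 D50298 (iv D50298) F215351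
theorem F225289 : act 3 n50298 = n48137 := d28_1 D50298 (iv D48137) (iv F213945) F213949 (iv F215352)
theorem F225290 : act 5 n50298 = n48102 := d37_1 D50298 (iv D48102) (iv F215353)
theorem F225291 : act 7 n50298 = n48318 := d42_1 D50298 F217624 F217623
theorem F225292 : act 9 n50298 = n50298 := d44_2 D48101 D50298 (iv D50298) (iv D48101) F188103
def n50299 : Q := act 3 n48103
theorem D50299 : act 3 n48103 = n50299 := rfl
theorem F225293 : act 0 n50299 = n48132 := d2_1 D50299 (iv D48132) (iv F215359)
theorem F225294 : act 7 n50299 = n48227 := d27_2 (iv F215362) D50299 (iv D48227)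
theorem F225295 : act 9 n50299 = n50299 := d29_2 F215363 D50299 (iv D50299)
def n50300 : Q := act 9 n48104
theorem D50300 : act 9 n48104 = n50300 := rfl
theorem F225296 : act 1 n50300 = n48105 := d16_1 D50300 (iv D48105) D48104
theorem F225297 : act 3 n50300 = n50300 := d29_1 D50300 (iv D50300) F215364
theorem F225298 : act 7 n50300 = n48235 := d43_1 D50300 (iv D48235) (iv F215365)
def n50301 : Q := act 8 n48105
theorem D50301 : act 8 n48105 = n50301 := rfl
theorem F225299 : act 2 n50301 = n48106 := d22_1 D50301 (iv D48106) (iv F215367)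
theorem F225300 : act 7 n50301 = n48238 := d42_1 D50301 (iv D48238) (iv F215369)
theorem F225301 : act 9 n50301 = n48119 := d44_2 D48105 D50301 (iv D48119) (iv D45119) (iv F188160)
def n50302 : Q := act 9 n48108
theorem D50302 : act 9 n48108 = n50302 := rfl
theorem F225302 : act 2 n50302 = n48110 := d23_1 D50302 (iv D48110) D48108
theorem F225303 : act 3 n50302 = n48125 := d29_1 D50302 (iv D48125) (iv F215377)
theorem F225304 : act 5 n50302 = n48112 := d38_1 D50302 (iv D48112) (iv F215378)
def n50303 : Q := act 9 n48109
theorem D50303 : act 9 n48109 = n50303 := rfl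
theorem F225305 : act 3 n50303 = n50303 := d29_1 D50303 (iv D50303) F215379
theorem F225306 : act 4 n50303 = n48110 := d34_1 D50303 (iv D48110) D48109
def n50304 : Q := act 8 n48110
theorem D50304 : act 8 n48110 = n50304 := rfl
theorem F225307 : act 5 n50304 = n48113 := d37_1 D50304 (iv D48113) (iv F215381)
def n50305 : Q := act 9 n48111
theorem D50305 : act 9 n48111 = n50305 := rfl
theorem F225308 : act 1 n50305 = n48112 := d16_1 D50305 (iv D48112) D48111
theorem F225309 : act 3 n50305 = n48128 := d29_1 D50305 (iv D48128) (iv F215382)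
theorem F225310 : act 6 n50305 = n48116 := d41_1 D50305 (iv D48116) (iv F215383)
def n50306 : Q := act 8 n48112
theorem D50306 : act 8 n48112 = n50306 := rfl
theorem F225311 : act 2 n50306 = n48113 := d22_1 D50306 (iv D48113) (iv F215384)
theorem F225312 : act 6 n50306 = n48119 := d40_1 D50306 (iv D48119) (iv F215386)
def n50307 : Q := act 9 n48114
theorem D50307 : act 9 n48114 = n50307 := rfl
theorem F225313 : act 0 n50307 = n48116 := d8_1 D50307 (iv D48116) D48114
theorem F225314 : act 3 n50307 = n48130 := d29_1 D50307 (iv D48130) (iv F215388)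
theorem F225315 : act 7 n50307 = n48265 := d43_1 D50307 (iv D48265) (iv F215389)
def n50308 : Q := act 9 n48115
theorem D50308 : act 9 n48115 = n50308 := rfl
theorem F225316 : act 1 n50308 = n48118 := d16_1 D50308 (iv D48118) (iv F215390)
theorem F225317 : act 3 n50308 = n48581 := d29_1 D50308 (iv D48581) (iv F215391)
theorem F225318 : act 4 n50308 = n48116 := d34_1 D50308 (iv D48116) D48115
theorem F225319 : act 7 n50308 = n48267 := d43_1 D50308 (iv D48267) (iv F215392)
def n50309 : Q := act 8 n48116
theorem D50309 : act 8 n48116 = n50309 := rfl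
theorem F225320 : act 1 n50309 = n48119 := d15_1 D50309 (iv D48119) (iv F215393)
theorem F225321 : act 7 n50309 = n48268 := d42_1 D50309 (iv D48268) (iv F215395)
def n50310 : Q := act 9 n48117
theorem D50310 : act 9 n48117 = n50310 := rfl
theorem F225322 : act 2 n50310 = n48121 := d23_1 D50310 (iv D48121) (iv F215396)
theorem F225323 : act 3 n50310 = n48582 := d29_1 D50310 (iv D48582) (iv F215397)
theorem F225324 : act 5 n50310 = n48118 := d38_1 D50310 (iv D48118) D48117
theorem F225325 : act 7 n50310 = n48270 := d43_1 D50310 (iv D48270) (iv F215398)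
def n50311 : Q := act 8 n48118
theorem D50311 : act 8 n48118 = n50311 := rfl
theorem F225326 : act 2 n50311 = n48122 := d22_1 D50311 (iv D48122) (iv F215399)
theorem F225327 : act 4 n50311 = n48119 := d33_1 D50311 (iv D48119) (iv F215401)
theorem F225328 : act 7 n50311 = n48271 := d42_1 D50311 (iv D48271) (iv F215402)
def n50312 : Q := act 3 n48119
theorem D50312 : act 3 n48119 = n50312 := rfl
theorem F225329 : act 7 n50312 = n48272 := d27_2 (iv F215404) D50312 (iv D48272)
theorem F225330 : act 8 n50312 = n48132 := d28_2 D48119 D50312 (iv D48132) (iv D45148) (iv F188195)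
def n50313 : Q := act 9 n48120
theorem D50313 : act 9 n48120 = n50313 := rfl
theorem F225331 : act 3 n50313 = n48124 := d29_1 D50313 (iv D48124) (iv F215405)
theorem F225332 : act 6 n50313 = n48121 := d41_1 D50313 (iv D48121) D48120
theorem F225333 : act 7 n50313 = n48621 := d43_1 D50313 F218180 F218178
def n50314 : Q := act 8 n48121
theorem D50314 : act 8 n48121 = n50314 := rfl
theorem F225334 : act 5 n50314 = n48122 := d37_1 D50314 (iv D48122) (iv F215407)
theorem F225335 : act 7 n50314 = n48275 := d42_1 D50314 (iv D48275) (iv F215408)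
def n50315 : Q := act 8 n48125
theorem D50315 : act 8 n48125 = n50315 := rfl
theorem F225336 : act 2 n50315 = n48127 := d22_1 D50315 (iv D48127) (iv F215421)
theorem F225337 : act 5 n50315 = n48129 := d37_1 D50315 (iv D48129) (iv F215422)
theorem F225338 : act 7 n50315 = n48319 := d42_1 D50315 F218510 F218509
theorem F225339 : act 9 n50315 = n50315 := d44_2 D48125 D50315 (iv D50315) (iv D48125) F188260
def n50316 : Q := act 8 n48126
theorem D50316 : act 8 n48126 = n50316 := rfl
theorem F225340 : act 1 n50316 = n48133 := d15_1 D50316 (iv D48133) (iv F215423)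
theorem F225341 : act 4 n50316 = n48127 := d33_1 D50316 (iv D48127) (iv F215425)
theorem F225342 : act 5 n50316 = n48583 := d37_1 D50316 (iv D48583) (iv F215426)
theorem F225343 : act 7 n50316 = n48320 := d42_1 D50316 F217599 F217598
theorem F225344 : act 9 n50316 = n50316 := d44_2 D48126 D50316 (iv D50316) (iv D48126) F188264
theorem F225345 : act 3 n48600 = n50316 := d27_3 F225343 F216042 (iv F216988)
def n50317 : Q := act 8 n48128
theorem D50317 : act 8 n48128 = n50317 := rfl
theorem F225346 : act 1 n50317 = n48129 := d15_1 D50317 (iv D48129) (iv F215432)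
theorem F225347 : act 2 n50317 = n48136 := d22_1 D50317 (iv D48136) (iv F215433)
theorem F225348 : act 4 n50317 = n48584 := d33_1 D50317 (iv D48584) (iv F215434)
theorem F225349 : act 6 n50317 = n48131 := d40_1 D50317 (iv D48131) (iv F215435)
theorem F225350 : act 9 n50317 = n50317 := d44_2 D48128 D50317 (iv D50317) (iv D48128) F188280
def n50318 : Q := act 3 n48129
theorem D50318 : act 3 n48129 = n50318 := rfl
theorem F225351 : act 6 n50318 = n48132 := d26_2 (iv F215438) D50318 (iv D48132)
theorem F225352 : act 9 n50318 = n50318 := d29_2 F215439 D50318 (iv D50318)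
def n50319 : Q := act 8 n48130
theorem D50319 : act 8 n48130 = n50319 := rfl
theorem F225353 : act 0 n50319 = n48131 := d7_1 D50319 (iv D48131) (iv F215440)
theorem F225354 : act 2 n50319 = n48137 := d22_1 D50319 (iv D48137) (iv F215441)
theorem F225355 : act 4 n50319 = n48585 := d33_1 D50319 (iv D48585) (iv F215442)
theorem F225356 : act 7 n50319 = n48297 := d42_1 D50319 (iv D48297) (iv F215443)
theorem F225357 : act 9 n50319 = n50319 := d44_2 D48130 D50319 (iv D50319) (iv D48130) F188291
def n50320 : Q := act 3 n48131
theorem D50320 : act 3 n48131 = n50320 := rfl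
theorem F225358 : act 1 n50320 = n48132 := d10_1 D50320 (iv D48132) (iv F215444)
theorem F225359 : act 7 n50320 = n48298 := d27_2 (iv F215447) D50320 (iv D48298)
theorem F225360 : act 9 n50320 = n50320 := d29_2 F215448 D50320 (iv D50320)
def n50321 : Q := act 4 n48132
theorem D50321 : act 4 n48132 = n50321 := rfl
theorem F225361 : act 3 n50321 = n48587 := d24_1 D50321 (iv D48587) (iv D46357) (iv F188297) D48132
theorem F225362 : act 7 n50321 = n48299 := d32_2 (iv F215449) D50321 (iv D48299)
theorem F225363 : act 9 n50321 = n50321 := d34_2 F215450 D50321 (iv D50321)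
def n50322 : Q := act 8 n48135
theorem D50322 : act 8 n48135 = n50322 := rfl
theorem F225364 : act 0 n50322 = n48136 := d7_1 D50322 (iv D48136) (iv F215461)
theorem F225365 : act 1 n50322 = n50322 := d15_1 D50322 (iv D50322) F215462
theorem F225366 : act 4 n50322 = n48595 := d33_1 D50322 (iv D48595) (iv F215463)
theorem F225367 : act 6 n50322 = n48137 := d40_1 D50322 (iv D48137) (iv F215464)
theorem F225368 : act 9 n50322 = n50322 := d44_2 D48135 D50322 (iv D50322) (iv D48135) F188354
def n50323 : Q := act 3 n48138
theorem D50323 : act 3 n48138 = n50323 := rfl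
theorem F225369 : act 0 n50323 = n48160 := d2_1 D50323 (iv D48160) (iv F215474)
theorem F225370 : act 1 n50323 = n48206 := d10_1 D50323 (iv D48206) (iv F215475)
theorem F225371 : act 5 n50323 = n48139 := d25_2 (iv F215478) D50323 (iv D48139)
theorem F225372 : act 7 n50323 = n48176 := d27_2 (iv F215479) D50323 F215610
theorem F225373 : act 8 n50323 = n48143 := d28_2 D48138 D50323 (iv D48143) (iv D45193) (iv F188442)
def n50324 : Q := act 9 n48138
theorem D50324 : act 9 n48138 = n50324 := rfl
theorem F225374 : act 0 n50324 = n48161 := d8_1 D50324 (iv D48161) (iv F215474)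
theorem F225375 : act 1 n50324 = n48207 := d16_1 D50324 (iv D48207) (iv F215475)
theorem F225376 : act 2 n50324 = n50324 := d23_1 D50324 (iv D50324) F215476
theorem F225377 : act 4 n50324 = n48371 := d34_1 D50324 (iv D48371) (iv F215477)
theorem F225378 : act 5 n50324 = n48140 := d38_1 D50324 (iv D48140) (iv F215478)
theorem F225379 : act 7 n50324 = n48185 := d43_1 D50324 (iv D48185) (iv F215479)
theorem F225380 : act 8 n50324 = n48199 := d44_1 D50324 (iv D48199) (iv D45324) (iv F188443) D48138
def n50325 : Q := act 9 n48139
theorem D50325 : act 9 n48139 = n50325 := rfl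
theorem F225381 : act 0 n50325 = n48163 := d8_1 D50325 (iv D48163) (iv F215480)
theorem F225382 : act 1 n50325 = n48211 := d16_1 D50325 (iv D48211) (iv F215481)
theorem F225383 : act 3 n50325 = n48140 := d29_1 D50325 (iv D48140) D48139
theorem F225384 : act 4 n50325 = n48173 := d34_1 D50325 (iv D48173) (iv F215482)
theorem F225385 : act 6 n50325 = n48141 := d41_1 D50325 (iv D48141) (iv F215483)
theorem F225386 : act 7 n50325 = n48177 := d43_1 D50325 (iv D48177) (iv F215484)
def n50326 : Q := act 8 n48141
theorem D50326 : act 8 n48141 = n50326 := rfl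
theorem F225387 : act 0 n50326 = n48167 := d7_1 D50326 (iv D48167) (iv F215493)
theorem F225388 : act 3 n50326 = n48204 := d28_1 D50326 (iv D48204) F188920 (iv F188458) (iv F215494)
theorem F225389 : act 9 n50326 = n48150 := d44_2 D48141 D50326 (iv D48150) (iv D45199) (iv F188454)
def n50327 : Q := act 3 n48142
theorem D50327 : act 3 n48142 = n50327 := rfl
theorem F225390 : act 0 n50327 = n48168 := d2_1 D50327 (iv D48168) (iv F215495)
theorem F225391 : act 1 n50327 = n48198 := d10_1 D50327 (iv D48198) (iv F215496)
theorem F225392 : act 5 n50327 = n48145 := d25_2 (iv F215499) D50327 (iv D48145)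
theorem F225393 : act 7 n50327 = n48143 := d27_2 (iv F215500) D50327 (iv D48143)
theorem F225394 : act 8 n50327 = n48176 := d28_2 D48142 D50327 F215610 F202740 (iv F197904)
def n50328 : Q := act 9 n48142
theorem D50328 : act 9 n48142 = n50328 := rfl
theorem F225395 : act 0 n50328 = n48169 := d8_1 D50328 (iv D48169) (iv F215495)
theorem F225396 : act 1 n50328 = n48199 := d16_1 D50328 (iv D48199) (iv F215496)
theorem F225397 : act 2 n50328 = n48151 := d23_1 D50328 (iv D48151) (iv F215497)
theorem F225398 : act 4 n50328 = n48324 := d34_1 D50328 (iv D48324) (iv F215498)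
theorem F225399 : act 5 n50328 = n48146 := d38_1 D50328 (iv D48146) (iv F215499)
theorem F225400 : act 7 n50328 = n48144 := d43_1 D50328 (iv D48144) (iv F215500)
theorem F225401 : act 8 n50328 = n48207 := d44_1 D50328 (iv D48207) (iv D45332) (iv F188463) D48142
def n50329 : Q := act 2 n48143
theorem D50329 : act 2 n48143 = n50329 := rfl
theorem F225402 : act 0 n50329 = n48170 := d1_1 D50329 (iv D48170) (iv F215501)
theorem F225403 : act 3 n50329 = n48152 := d17_2 D48143 D50329 (iv D48152) (iv D45212) (iv F188465)
theorem F225404 : act 5 n50329 = n48147 := d19_2 (iv F215502) D50329 (iv D48147)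
def n50330 : Q := act 4 n48143
theorem D50330 : act 4 n48143 = n50330 := rfl
theorem F225405 : act 0 n50330 = n48171 := d3_1 D50330 (iv D48171) (iv F215501)
theorem F225406 : act 3 n50330 = n48325 := d24_1 D50330 (iv D48325) (iv D45513) (iv F188466) D48143
def n50331 : Q := act 9 n48143
theorem D50331 : act 9 n48143 = n50331 := rfl
theorem F225407 : act 0 n50331 = n48172 := d8_1 D50331 (iv D48172) (iv F215501)
theorem F225408 : act 3 n50331 = n48144 := d29_1 D50331 (iv D48144) D48143
theorem F225409 : act 5 n50331 = n48148 := d38_1 D50331 (iv D48148) (iv F215502)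
def n50332 : Q := act 9 n48145
theorem D50332 : act 9 n48145 = n50332 := rfl
theorem F225410 : act 0 n50332 = n48173 := d8_1 D50332 (iv D48173) (iv F215508)
theorem F225411 : act 1 n50332 = n48201 := d16_1 D50332 (iv D48201) (iv F215509)
theorem F225412 : act 3 n50332 = n48146 := d29_1 D50332 (iv D48146) D48145
theorem F225413 : act 4 n50332 = n48163 := d34_1 D50332 (iv D48163) (iv F215510)
theorem F225414 : act 6 n50332 = n48166 := d41_1 D50332 (iv D48166) (iv F215511)
theorem F225415 : act 7 n50332 = n48148 := d43_1 D50332 (iv D48148) (iv F215512)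
def n50333 : Q := act 9 n48147
theorem D50333 : act 9 n48147 = n50333 := rfl
theorem F225416 : act 0 n50333 = n48175 := d8_1 D50333 (iv D48175) (iv F215521)
theorem F225417 : act 2 n50333 = n48148 := d23_1 D50333 (iv D48148) D48147
theorem F225418 : act 3 n50333 = n48155 := d29_1 D50333 (iv D48155) (iv F215522)
theorem F225419 : act 6 n50333 = n48149 := d41_1 D50333 (iv D48149) (iv F215523)
def n50334 : Q := act 8 n48148
theorem D50334 : act 8 n48148 = n50334 := rfl
theorem F225420 : act 0 n50334 = n48178 := d7_1 D50334 (iv D48178) (iv F215524)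
theorem F225421 : act 3 n50334 = n48213 := d28_1 D50334 (iv D48213) F188948 (iv F188478) (iv F215525)
theorem F225422 : act 6 n50334 = n48150 := d40_1 D50334 (iv D48150) (iv F215526)
def n50335 : Q := act 8 n48149
theorem D50335 : act 8 n48149 = n50335 := rfl
theorem F225423 : act 0 n50335 = n48183 := d7_1 D50335 (iv D48183) (iv F215527)
theorem F225424 : act 2 n50335 = n48150 := d22_1 D50335 (iv D48150) (iv F215528)
def n50336 : Q := act 1 n48152
theorem D50336 : act 1 n48152 = n50336 := rfl
theorem F225425 : act 2 n50336 = n50336 := d9_2 D48152 D50336 (iv D50336) (iv D48152) F188539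
theorem F225426 : act 5 n50336 = n48154 := d12_2 (iv F215539) D50336 (iv D48154)
theorem F225427 : act 8 n50336 = n50336 := d15_2 F215540 D50336 (iv D50336)
def n50337 : Q := act 9 n48152
theorem D50337 : act 9 n48152 = n50337 := rfl
theorem F225428 : act 0 n50337 = n48187 := d8_1 D50337 (iv D48187) (iv F215538)
theorem F225429 : act 2 n50337 = n48153 := d23_1 D50337 (iv D48153) D48152
theorem F225430 : act 5 n50337 = n48155 := d38_1 D50337 (iv D48155) (iv F215539)
def n50338 : Q := act 8 n48153
theorem D50338 : act 8 n48153 = n50338 := rfl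
theorem F225431 : act 0 n50338 = n48189 := d7_1 D50338 (iv D48189) (iv F215541)
theorem F225432 : act 1 n50338 = n50338 := d15_1 D50338 (iv D50338) F215542
theorem F225433 : act 3 n50338 = n48222 := d28_1 D50338 (iv D48222) F189036 (iv F188546) (iv F215543)
theorem F225434 : act 5 n50338 = n48156 := d37_1 D50338 (iv D48156) (iv F215544)
theorem F225435 : act 9 n50338 = n50338 := d44_2 D48153 D50338 (iv D50338) (iv D48153) F188541
def n50339 : Q := act 9 n48154
theorem D50339 : act 9 n48154 = n50339 := rfl
theorem F225436 : act 1 n50339 = n48155 := d16_1 D50339 (iv D48155) D48154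
theorem F225437 : act 2 n50339 = n50339 := d23_1 D50339 (iv D50339) F215545
theorem F225438 : act 4 n50339 = n50339 := d34_1 D50339 (iv D50339) F215546
theorem F225439 : act 6 n50339 = n48158 := d41_1 D50339 (iv D48158) (iv F215547)
def n50340 : Q := act 8 n48155
theorem D50340 : act 8 n48155 = n50340 := rfl
theorem F225440 : act 0 n50340 = n48190 := d7_1 D50340 (iv D48190) (iv F215549)
theorem F225441 : act 2 n50340 = n48156 := d22_1 D50340 (iv D48156) (iv F215550)
theorem F225442 : act 4 n50340 = n50340 := d33_1 D50340 (iv D50340) F215551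
theorem F225443 : act 6 n50340 = n48159 := d40_1 D50340 (iv D48159) (iv F215552)
theorem F225444 : act 9 n50340 = n50340 := d44_2 D48155 D50340 (iv D50340) (iv D48155) F188560
def n50341 : Q := act 9 n48157
theorem D50341 : act 9 n48157 = n50341 := rfl
theorem F225445 : act 0 n50341 = n48158 := d8_1 D50341 (iv D48158) D48157
theorem F225446 : act 1 n50341 = n48191 := d16_1 D50341 (iv D48191) (iv F215559)
theorem F225447 : act 2 n50341 = n50341 := d23_1 D50341 (iv D50341) F215560
theorem F225448 : act 4 n50341 = n50341 := d34_1 D50341 (iv D50341) F215561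
theorem F225449 : act 5 n50341 = n48622 := d38_1 D50341 F220768 F220765
theorem F225450 : act 8 n48636 = n50341 := d37_0 F225449 F217060 D48636
def n50342 : Q := act 8 n48158
theorem D50342 : act 8 n48158 = n50342 := rfl
theorem F225451 : act 0 n50342 = n48636 := d7_1 D50342 F225450 F225445
theorem F225452 : act 1 n50342 = n48159 := d15_1 D50342 (iv D48159) (iv F215563)
theorem F225453 : act 2 n50342 = n50342 := d22_1 D50342 (iv D50342) F215564
theorem F225454 : act 4 n50342 = n50342 := d33_1 D50342 (iv D50342) F215565
theorem F225455 : act 5 n50342 = n48606 := d37_1 D50342 F221227 F221226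
theorem F225456 : act 9 n50342 = n50342 := d44_2 D48158 D50342 (iv D50342) (iv D48158) F188568
def n50343 : Q := act 3 n48159
theorem D50343 : act 3 n48159 = n50343 := rfl
theorem F225457 : act 0 n50343 = n48193 := d2_1 D50343 (iv D48193) (iv F215566)
theorem F225458 : act 2 n50343 = n48227 := d17_1 D50343 (iv D48227) F189068 (iv F188574) (iv F215567)
theorem F225459 : act 9 n50343 = n50343 := d29_2 F215569 D50343 (iv D50343)
def n50344 : Q := act 2 n48160
theorem D50344 : act 2 n48160 = n50344 := rfl
theorem F225460 : act 3 n50344 = n50344 := d17_2 D48160 D50344 (iv D50344) (iv D48160) F188585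
theorem F225461 : act 5 n50344 = n48162 := d19_2 (iv F215570) D50344 (iv D48162)
theorem F225462 : act 8 n50344 = n48170 := d22_2 (iv F215571) D50344 (iv D48170)
def n50345 : Q := act 4 n48160
theorem D50345 : act 4 n48160 = n50345 := rfl
theorem F225463 : act 8 n50345 = n48171 := d33_2 (iv F215571) D50345 (iv D48171)
def n50346 : Q := act 9 n48160
theorem D50346 : act 9 n48160 = n50346 := rfl
theorem F225464 : act 3 n50346 = n48161 := d29_1 D50346 (iv D48161) D48160
theorem F225465 : act 5 n50346 = n48163 := d38_1 D50346 (iv D48163) (iv F215570)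
def n50347 : Q := act 9 n48162
theorem D50347 : act 9 n48162 = n50347 := rfl
theorem F225466 : act 2 n50347 = n48163 := d23_1 D50347 (iv D48163) D48162
theorem F225467 : act 3 n50347 = n50347 := d29_1 D50347 (iv D50347) F215575
theorem F225468 : act 6 n50347 = n48165 := d41_1 D50347 (iv D48165) (iv F215576)
def n50348 : Q := act 8 n48163
theorem D50348 : act 8 n48163 = n50348 := rfl
theorem F225469 : act 3 n50348 = n48233 := d28_1 D50348 (iv D48233) F189098 (iv F188595) (iv F215578)
theorem F225470 : act 6 n50348 = n48167 := d40_1 D50348 (iv D48167) (iv F215579)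
theorem F225471 : act 9 n50348 = n48178 := d44_2 D48163 D50348 (iv D48178) (iv D45238) (iv F188591)
def n50349 : Q := act 9 n48164
theorem D50349 : act 9 n48164 = n50349 := rfl
theorem F225472 : act 1 n50349 = n48165 := d16_1 D50349 (iv D48165) D48164
theorem F225473 : act 3 n50349 = n50349 := d29_1 D50349 (iv D50349) F215580
def n50350 : Q := act 8 n48165
theorem D50350 : act 8 n48165 = n50350 := rfl
theorem F225474 : act 2 n50350 = n48167 := d22_1 D50350 (iv D48167) (iv F215582)
theorem F225475 : act 9 n50350 = n48183 := d44_2 D48165 D50350 (iv D48183) (iv D45241) (iv F188597)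
def n50351 : Q := act 8 n48166
theorem D50351 : act 8 n48166 = n50351 := rfl
theorem F225476 : act 1 n50351 = n48204 := d15_1 D50351 (iv D48204) (iv F215584)
theorem F225477 : act 4 n50351 = n48167 := d33_1 D50351 (iv D48167) (iv F215586)
theorem F225478 : act 9 n50351 = n48184 := d44_2 D48166 D50351 (iv D48184) (iv D45243) (iv F188599)
def n50352 : Q := act 4 n48168
theorem D50352 : act 4 n48168 = n50352 := rfl
theorem F225479 : act 3 n50352 = n48346 := d24_1 D50352 (iv D48346) (iv D45570) (iv F188605) D48168
theorem F225480 : act 7 n50352 = n48171 := d32_2 (iv F215590) D50352 (iv D48171)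
def n50353 : Q := act 9 n48168
theorem D50353 : act 9 n48168 = n50353 := rfl
theorem F225481 : act 3 n50353 = n48169 := d29_1 D50353 (iv D48169) D48168
theorem F225482 : act 5 n50353 = n48173 := d38_1 D50353 (iv D48173) (iv F215589)
theorem F225483 : act 7 n50353 = n48172 := d43_1 D50353 (iv D48172) (iv F215590)
def n50354 : Q := act 4 n48170
theorem D50354 : act 4 n48170 = n50354 := rfl
theorem F225484 : act 2 n50354 = n48171 := d18_1 D50354 (iv D48171) D48170
def n50355 : Q := act 9 n48170
theorem D50355 : act 9 n48170 = n50355 := rfl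
theorem F225485 : act 2 n50355 = n48172 := d23_1 D50355 (iv D48172) D48170
theorem F225486 : act 3 n50355 = n48187 := d29_1 D50355 (iv D48187) (iv F215596)
theorem F225487 : act 5 n50355 = n48175 := d38_1 D50355 (iv D48175) (iv F215597)
def n50356 : Q := act 5 n48171
theorem D50356 : act 5 n48171 = n50356 := rfl
theorem F225488 : act 1 n50356 = n48209 := d12_1 D50356 (iv F223964) F223962
theorem F225489 : act 3 n50356 = n48351 := d25_1 D50356 (iv D48351) (iv F215598)
theorem F225490 : act 4 n50356 = n48176 := d30_1 D50356 (iv D48176) (iv D45237) (iv F188608) D48171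
def n50357 : Q := act 9 n48171
theorem D50357 : act 9 n48171 = n50357 := rfl
theorem F225491 : act 3 n50357 = n48352 := d29_1 D50357 (iv D48352) (iv F215598)
theorem F225492 : act 4 n50357 = n48172 := d34_1 D50357 (iv D48172) D48171
def n50358 : Q := act 8 n48172
theorem D50358 : act 8 n48172 = n50358 := rfl
theorem F225493 : act 3 n50358 = n48251 := d28_1 D50358 (iv D48251) F189123 (iv F188612) (iv F215599)
theorem F225494 : act 5 n50358 = n48178 := d37_1 D50358 (iv D48178) (iv F215600)
def n50359 : Q := act 8 n48173
theorem D50359 : act 8 n48173 = n50359 := rfl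
theorem F225495 : act 3 n50359 = n48254 := d28_1 D50359 (iv D48254) F189129 (iv F188617) (iv F215601)
theorem F225496 : act 7 n50359 = n48178 := d42_1 D50359 (iv D48178) (iv F215602)
def n50360 : Q := act 5 n48174
theorem D50360 : act 5 n48174 = n50360 := rfl
theorem F225497 : act 2 n50360 = n48176 := d19_1 D50360 (iv D48176) (iv F215603)
theorem F225498 : act 3 n50360 = n50360 := d25_1 D50360 (iv D50360) F215604
def n50361 : Q := act 9 n48174
theorem D50361 : act 9 n48174 = n50361 := rfl
theorem F225499 : act 2 n50361 = n48177 := d23_1 D50361 (iv D48177) (iv F215603)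
theorem F225500 : act 3 n50361 = n50361 := d29_1 D50361 (iv D50361) F215604
theorem F225501 : act 4 n50361 = n48175 := d34_1 D50361 (iv D48175) D48174
theorem F225502 : act 6 n50361 = n48182 := d41_1 D50361 (iv D48182) (iv F215605)
def n50362 : Q := act 8 n48175
theorem D50362 : act 8 n48175 = n50362 := rfl
theorem F225503 : act 2 n50362 = n48178 := d22_1 D50362 (iv D48178) (iv F215606)
theorem F225504 : act 6 n50362 = n48183 := d40_1 D50362 (iv D48183) (iv F215608)
def n50363 : Q := act 9 n48176
theorem D50363 : act 9 n48176 = n50363 := rfl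
theorem F225505 : act 1 n50363 = n48210 := d16_1 D50363 (iv D48210) (iv F215609)
theorem F225506 : act 3 n50363 = n48185 := d29_1 D50363 (iv D48185) (iv F215610)
theorem F225507 : act 5 n50363 = n48177 := d38_1 D50363 (iv D48177) D48176
def n50364 : Q := act 8 n48177
theorem D50364 : act 8 n48177 = n50364 := rfl
theorem F225508 : act 1 n50364 = n48213 := d15_1 D50364 (iv D48213) (iv F215611)
theorem F225509 : act 4 n50364 = n48178 := d33_1 D50364 (iv D48178) (iv F215613)
theorem F225510 : act 6 n50364 = n48184 := d40_1 D50364 (iv D48184) (iv F215614)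
def n50365 : Q := act 9 n48179
theorem D50365 : act 9 n48179 = n50365 := rfl
theorem F225511 : act 0 n50365 = n48181 := d8_1 D50365 (iv D48181) D48179
theorem F225512 : act 3 n50365 = n48191 := d29_1 D50365 (iv D48191) (iv F215617)
def n50366 : Q := act 9 n48180
theorem D50366 : act 9 n48180 = n50366 := rfl
theorem F225513 : act 1 n50366 = n48182 := d16_1 D50366 (iv D48182) (iv F215618)
theorem F225514 : act 2 n50366 = n48215 := d23_1 D50366 (iv D48215) (iv F215619)
theorem F225515 : act 3 n50366 = n50366 := d29_1 D50366 (iv D50366) F215620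
theorem F225516 : act 4 n50366 = n48181 := d34_1 D50366 (iv D48181) D48180
def n50367 : Q := act 8 n48181
theorem D50367 : act 8 n48181 = n50367 := rfl
theorem F225517 : act 1 n50367 = n48183 := d15_1 D50367 (iv D48183) (iv F215621)
def n50368 : Q := act 8 n48182
theorem D50368 : act 8 n48182 = n50368 := rfl
theorem F225518 : act 2 n50368 = n48184 := d22_1 D50368 (iv D48184) (iv F215623)
theorem F225519 : act 4 n50368 = n48183 := d33_1 D50368 (iv D48183) (iv F215625)
def n50369 : Q := act 3 n48183
theorem D50369 : act 3 n48183 = n50369 := rfl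
theorem F225520 : act 2 n50369 = n48272 := d17_1 D50369 (iv D48272) F189154 (iv F188632) (iv F215626)
theorem F225521 : act 8 n50369 = n48193 := d28_2 D48183 D50369 (iv D48193) (iv D45270) (iv F188628)
def n50370 : Q := act 3 n48186
theorem D50370 : act 3 n48186 = n50370 := rfl
theorem F225522 : act 2 n50370 = n48381 := d17_1 D50370 (iv D48381) F189859 (iv F188687) (iv F215633)
theorem F225523 : act 5 n50370 = n50370 := d25_2 F215634 D50370 (iv D50370)
def n50371 : Q := act 9 n48186
theorem D50371 : act 9 n48186 = n50371 := rfl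
theorem F225524 : act 2 n50371 = n48188 := d23_1 D50371 (iv D48188) (iv F215633)
theorem F225525 : act 4 n50371 = n48187 := d34_1 D50371 (iv D48187) D48186
theorem F225526 : act 5 n50371 = n50371 := d38_1 D50371 (iv D50371) F215634
def n50372 : Q := act 8 n48187
theorem D50372 : act 8 n48187 = n50372 := rfl
theorem F225527 : act 2 n50372 = n48189 := d22_1 D50372 (iv D48189) (iv F215636)
theorem F225528 : act 5 n50372 = n48190 := d37_1 D50372 (iv D48190) (iv F215637)
theorem F225529 : act 9 n50372 = n50372 := d44_2 D48187 D50372 (iv D50372) (iv D48187) F188685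
def n50373 : Q := act 8 n48188
theorem D50373 : act 8 n48188 = n50373 := rfl
theorem F225530 : act 1 n50373 = n48194 := d15_1 D50373 (iv D48194) (iv F215638)
theorem F225531 : act 4 n50373 = n48189 := d33_1 D50373 (iv D48189) (iv F215640)
theorem F225532 : act 5 n50373 = n50373 := d37_1 D50373 (iv D50373) F215641
theorem F225533 : act 9 n50373 = n50373 := d44_2 D48188 D50373 (iv D50373) (iv D48188) F188689
def n50374 : Q := act 3 n48190
theorem D50374 : act 3 n48190 = n50374 := rfl
theorem F225534 : act 2 n50374 = n48296 := d17_1 D50374 (iv D48296) F189256 (iv F188708) (iv F215646)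
theorem F225535 : act 6 n50374 = n48193 := d26_2 (iv F215648) D50374 (iv D48193)
theorem F225536 : act 9 n50374 = n50374 := d29_2 F215649 D50374 (iv D50374)
def n50375 : Q := act 8 n48191
theorem D50375 : act 8 n48191 = n50375 := rfl
theorem F225537 : act 0 n50375 = n48192 := d7_1 D50375 (iv D48192) (iv F215650)
theorem F225538 : act 1 n50375 = n48636 := d15_1 D50375 F225450 F225446
theorem F225539 : act 2 n50375 = n48195 := d22_1 D50375 (iv D48195) (iv F215651)
theorem F225540 : act 4 n50375 = n50375 := d33_1 D50375 (iv D50375) F215652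
theorem F225541 : act 5 n50375 = n48635 := d37_1 D50375 F221448 F221447
theorem F225542 : act 9 n50375 = n50375 := d44_2 D48191 D50375 (iv D50375) (iv D48191) F188714
def n50376 : Q := act 3 n48192
theorem D50376 : act 3 n48192 = n50376 := rfl
theorem F225543 : act 1 n50376 = n48193 := d10_1 D50376 (iv D48193) (iv F215653)
theorem F225544 : act 9 n50376 = n50376 := d29_2 F215656 D50376 (iv D50376)
def n50377 : Q := act 4 n48193
theorem D50377 : act 4 n48193 = n50377 := rfl
theorem F225545 : act 2 n50377 = n48299 := d18_1 D50377 (iv D48299) (iv F215657)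
theorem F225546 : act 3 n50377 = n50377 := d24_1 D50377 (iv D50377) (iv D48193) F188719 D48193
theorem F225547 : act 9 n50377 = n50377 := d34_2 F215658 D50377 (iv D50377)
def n50378 : Q := act 2 n48198
theorem D50378 : act 2 n48198 = n50378 := rfl
theorem F225548 : act 0 n50378 = n48228 := d1_1 D50378 (iv D48228) (iv F215673)
theorem F225549 : act 3 n50378 = n50378 := d17_2 D48198 D50378 (iv D50378) (iv D48198) F188900
theorem F225550 : act 5 n50378 = n48200 := d19_2 (iv F215674) D50378 (iv D48200)
theorem F225551 : act 8 n50378 = n48208 := d22_2 (iv F215675) D50378 (iv D48208)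
def n50379 : Q := act 4 n48198
theorem D50379 : act 4 n48198 = n50379 := rfl
theorem F225552 : act 0 n50379 = n48229 := d3_1 D50379 (iv D48229) (iv F215673)
theorem F225553 : act 8 n50379 = n48209 := d33_2 (iv F215675) D50379 (iv D48209)
def n50380 : Q := act 9 n48198
theorem D50380 : act 9 n48198 = n50380 := rfl
theorem F225554 : act 0 n50380 = n48230 := d8_1 D50380 (iv D48230) (iv F215673)
theorem F225555 : act 3 n50380 = n48199 := d29_1 D50380 (iv D48199) D48198
theorem F225556 : act 5 n50380 = n48201 := d38_1 D50380 (iv D48201) (iv F215674)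
def n50381 : Q := act 9 n48200
theorem D50381 : act 9 n48200 = n50381 := rfl
theorem F225557 : act 0 n50381 = n48232 := d8_1 D50381 (iv D48232) (iv F215679)
theorem F225558 : act 2 n50381 = n48201 := d23_1 D50381 (iv D48201) D48200
theorem F225559 : act 3 n50381 = n50381 := d29_1 D50381 (iv D50381) F215680
theorem F225560 : act 6 n50381 = n48203 := d41_1 D50381 (iv D48203) (iv F215681)
def n50382 : Q := act 8 n48201
theorem D50382 : act 8 n48201 = n50382 := rfl
theorem F225561 : act 0 n50382 = n48233 := d7_1 D50382 (iv D48233) (iv F215683)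
theorem F225562 : act 6 n50382 = n48204 := d40_1 D50382 (iv D48204) (iv F215685)
theorem F225563 : act 9 n50382 = n48213 := d44_2 D48201 D50382 (iv D48213) (iv D45339) (iv F188908)
def n50383 : Q := act 9 n48202
theorem D50383 : act 9 n48202 = n50383 := rfl
theorem F225564 : act 1 n50383 = n48203 := d16_1 D50383 (iv D48203) D48202
theorem F225565 : act 3 n50383 = n50383 := d29_1 D50383 (iv D50383) F215686
def n50384 : Q := act 8 n48203
theorem D50384 : act 8 n48203 = n50384 := rfl
theorem F225566 : act 0 n50384 = n48238 := d7_1 D50384 (iv D48238) (iv F215688)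
theorem F225567 : act 2 n50384 = n48204 := d22_1 D50384 (iv D48204) (iv F215689)
theorem F225568 : act 9 n50384 = n48216 := d44_2 D48203 D50384 (iv D48216) (iv D45342) (iv F188915)
def n50385 : Q := act 3 n48205
theorem D50385 : act 3 n48205 = n50385 := rfl
theorem F225569 : act 0 n50385 = n48241 := d2_1 D50385 (iv D48241) (iv F215693)
theorem F225570 : act 6 n50385 = n48206 := d26_2 (iv F215696) D50385 (iv D48206)
def n50386 : Q := act 9 n48205
theorem D50386 : act 9 n48205 = n50386 := rfl
theorem F225571 : act 0 n50386 = n48242 := d8_1 D50386 (iv D48242) (iv F215693)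
theorem F225572 : act 2 n50386 = n48218 := d23_1 D50386 (iv D48218) (iv F215694)
theorem F225573 : act 4 n50386 = n48405 := d34_1 D50386 (iv D48405) (iv F215695)
theorem F225574 : act 6 n50386 = n48207 := d41_1 D50386 (iv D48207) (iv F215696)
def n50387 : Q := act 4 n48206
theorem D50387 : act 4 n48206 = n50387 := rfl
theorem F225575 : act 0 n50387 = n48244 := d3_1 D50387 (iv D48244) (iv F215697)
theorem F225576 : act 3 n50387 = n48407 := d24_1 D50387 (iv D48407) (iv D45723) (iv F188926) D48206
theorem F225577 : act 7 n50387 = n48209 := d32_2 (iv F215699) D50387 (iv D48209)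
def n50388 : Q := act 9 n48206
theorem D50388 : act 9 n48206 = n50388 := rfl
theorem F225578 : act 0 n50388 = n48245 := d8_1 D50388 (iv D48245) (iv F215697)
theorem F225579 : act 3 n50388 = n48207 := d29_1 D50388 (iv D48207) D48206
theorem F225580 : act 5 n50388 = n48211 := d38_1 D50388 (iv D48211) (iv F215698)
theorem F225581 : act 7 n50388 = n48210 := d43_1 D50388 (iv D48210) (iv F215699)
def n50389 : Q := act 4 n48208
theorem D50389 : act 4 n48208 = n50389 := rfl
theorem F225582 : act 0 n50389 = n48247 := d3_1 D50389 (iv D48247) (iv F215705)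
theorem F225583 : act 2 n50389 = n48209 := d18_1 D50389 (iv D48209) D48208
def n50390 : Q := act 9 n48208
theorem D50390 : act 9 n48208 = n50390 := rfl
theorem F225584 : act 0 n50390 = n48248 := d8_1 D50390 (iv D48248) (iv F215705)
theorem F225585 : act 2 n50390 = n48210 := d23_1 D50390 (iv D48210) D48208
theorem F225586 : act 3 n50390 = n48220 := d29_1 D50390 (iv D48220) (iv F215706)
theorem F225587 : act 5 n50390 = n48212 := d38_1 D50390 (iv D48212) (iv F215707)
def n50391 : Q := act 9 n48209
theorem D50391 : act 9 n48209 = n50391 := rfl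
theorem F225588 : act 0 n50391 = n48250 := d8_1 D50391 (iv D48250) (iv F215708)
theorem F225589 : act 3 n50391 = n48412 := d29_1 D50391 (iv D48412) (iv F215709)
theorem F225590 : act 4 n50391 = n48210 := d34_1 D50391 (iv D48210) D48209
def n50392 : Q := act 8 n48210
theorem D50392 : act 8 n48210 = n50392 := rfl
theorem F225591 : act 0 n50392 = n48251 := d7_1 D50392 (iv D48251) (iv F215710)
theorem F225592 : act 5 n50392 = n48213 := d37_1 D50392 (iv D48213) (iv F215712)
def n50393 : Q := act 8 n48211
theorem D50393 : act 8 n48211 = n50393 := rfl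
theorem F225593 : act 0 n50393 = n48254 := d7_1 D50393 (iv D48254) (iv F215713)
theorem F225594 : act 7 n50393 = n48213 := d42_1 D50393 (iv D48213) (iv F215715)
def n50394 : Q := act 8 n48212
theorem D50394 : act 8 n48212 = n50394 := rfl
theorem F225595 : act 0 n50394 = n48260 := d7_1 D50394 (iv D48260) (iv F215716)
theorem F225596 : act 2 n50394 = n48213 := d22_1 D50394 (iv D48213) (iv F215717)
theorem F225597 : act 6 n50394 = n48216 := d40_1 D50394 (iv D48216) (iv F215719)
def n50395 : Q := act 9 n48214
theorem D50395 : act 9 n48214 = n50395 := rfl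
theorem F225598 : act 0 n50395 = n48215 := d8_1 D50395 (iv D48215) D48214
theorem F225599 : act 1 n50395 = n48265 := d16_1 D50395 (iv D48265) (iv F215722)
theorem F225600 : act 3 n50395 = n48225 := d29_1 D50395 (iv D48225) (iv F215723)
def n50396 : Q := act 8 n48215
theorem D50396 : act 8 n48215 = n50396 := rfl
theorem F225601 : act 1 n50396 = n48216 := d15_1 D50396 (iv D48216) (iv F215724)
def n50397 : Q := act 3 n48216
theorem D50397 : act 3 n48216 = n50397 := rfl
theorem F225602 : act 0 n50397 = n48272 := d2_1 D50397 (iv D48272) (iv F215726)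
theorem F225603 : act 8 n50397 = n48227 := d28_2 D48216 D50397 (iv D48227) (iv D45371) (iv F188956)
def n50398 : Q := act 9 n48217
theorem D50398 : act 9 n48217 = n50398 := rfl
theorem F225604 : act 0 n50398 = n48280 := d8_1 D50398 (iv D48280) (iv F215728)
theorem F225605 : act 1 n50398 = n50398 := d16_1 D50398 (iv D50398) F215729
theorem F225606 : act 3 n50398 = n48218 := d29_1 D50398 (iv D48218) D48217
theorem F225607 : act 6 n50398 = n48219 := d41_1 D50398 (iv D48219) (iv F215730)
def n50399 : Q := act 8 n48219
theorem D50399 : act 8 n48219 = n50399 := rfl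
theorem F225608 : act 0 n50399 = n48284 := d7_1 D50399 (iv D48284) (iv F215736)
theorem F225609 : act 1 n50399 = n50399 := d15_1 D50399 (iv D50399) F215737
theorem F225610 : act 5 n50399 = n48223 := d37_1 D50399 (iv D48223) (iv F215739)
theorem F225611 : act 7 n50399 = n48222 := d42_1 D50399 (iv D48222) (iv F215740)
theorem F225612 : act 9 n50399 = n50399 := d44_2 D48219 D50399 (iv D50399) (iv D48219) F189020
def n50400 : Q := act 8 n48220
theorem D50400 : act 8 n48220 = n50400 := rfl
theorem F225613 : act 0 n50400 = n48290 := d7_1 D50400 (iv D48290) (iv F215741)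
theorem F225614 : act 2 n50400 = n48222 := d22_1 D50400 (iv D48222) (iv F215742)
theorem F225615 : act 5 n50400 = n48224 := d37_1 D50400 (iv D48224) (iv F215743)
theorem F225616 : act 9 n50400 = n50400 := d44_2 D48220 D50400 (iv D50400) (iv D48220) F189028
def n50401 : Q := act 8 n48221
theorem D50401 : act 8 n48221 = n50401 := rfl
theorem F225617 : act 0 n50401 = n48291 := d7_1 D50401 (iv D48291) (iv F215744)
theorem F225618 : act 1 n50401 = n50401 := d15_1 D50401 (iv D50401) F215745
theorem F225619 : act 4 n50401 = n48222 := d33_1 D50401 (iv D48222) (iv F215747)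
theorem F225620 : act 5 n50401 = n48602 := d37_1 D50401 (iv D48602) (iv F215748)
theorem F225621 : act 9 n50401 = n50401 := d44_2 D48221 D50401 (iv D50401) (iv D48221) F189033
def n50402 : Q := act 3 n48224
theorem D50402 : act 3 n48224 = n50402 := rfl
theorem F225622 : act 0 n50402 = n48296 := d2_1 D50402 (iv D48296) (iv F215758)
theorem F225623 : act 6 n50402 = n48227 := d26_2 (iv F215761) D50402 (iv D48227)
theorem F225624 : act 9 n50402 = n50402 := d29_2 F215762 D50402 (iv D50402)
def n50403 : Q := act 8 n48225
theorem D50403 : act 8 n48225 = n50403 := rfl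
theorem F225625 : act 0 n50403 = n48226 := d7_1 D50403 (iv D48226) (iv F215763)
theorem F225626 : act 1 n50403 = n48297 := d15_1 D50403 (iv D48297) (iv F215764)
theorem F225627 : act 2 n50403 = n50403 := d22_1 D50403 (iv D50403) F215765
theorem F225628 : act 4 n50403 = n48604 := d33_1 D50403 (iv D48604) (iv F215766)
theorem F225629 : act 9 n50403 = n50403 := d44_2 D48225 D50403 (iv D50403) (iv D48225) F189063
def n50404 : Q := act 3 n48226
theorem D50404 : act 3 n48226 = n50404 := rfl
theorem F225630 : act 1 n50404 = n48227 := d10_1 D50404 (iv D48227) (iv F215767)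
theorem F225631 : act 9 n50404 = n50404 := d29_2 F215770 D50404 (iv D50404)
def n50405 : Q := act 4 n48227
theorem D50405 : act 4 n48227 = n50405 := rfl
theorem F225632 : act 0 n50405 = n48299 := d3_1 D50405 (iv D48299) (iv F215771)
theorem F225633 : act 3 n50405 = n48606 := d24_1 D50405 (iv D48606) (iv D46380) (iv F189069) D48227
theorem F225634 : act 9 n50405 = n50405 := d34_2 F215772 D50405 (iv D50405)
def n50406 : Q := act 1 n48228
theorem D50406 : act 1 n48228 = n50406 := rfl
theorem F225635 : act 3 n50406 = n50406 := d10_2 F215773 D50406 (iv D50406)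
theorem F225636 : act 5 n50406 = n48231 := d12_2 (iv F215774) D50406 (iv D48231)
theorem F225637 : act 8 n50406 = n48246 := d15_2 (iv F215775) D50406 (iv D48246)
def n50407 : Q := act 4 n48228
theorem D50407 : act 4 n48228 = n50407 := rfl
theorem F225638 : act 2 n50407 = n48229 := d18_1 D50407 (iv D48229) D48228
theorem F225639 : act 8 n50407 = n48247 := d33_2 (iv F215775) D50407 (iv D48247)
def n50408 : Q := act 9 n48228
theorem D50408 : act 9 n48228 = n50408 := rfl
theorem F225640 : act 2 n50408 = n48230 := d23_1 D50408 (iv D48230) D48228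
theorem F225641 : act 3 n50408 = n50408 := d29_1 D50408 (iv D50408) F215773
theorem F225642 : act 5 n50408 = n48232 := d38_1 D50408 (iv D48232) (iv F215774)
def n50409 : Q := act 9 n48229
theorem D50409 : act 9 n48229 = n50409 := rfl
theorem F225643 : act 4 n50409 = n48230 := d34_1 D50409 (iv D48230) D48229
def n50410 : Q := act 8 n48230
theorem D50410 : act 8 n48230 = n50410 := rfl
theorem F225644 : act 5 n50410 = n48233 := d37_1 D50410 (iv D48233) (iv F215778)
theorem F225645 : act 9 n50410 = n48251 := d44_2 D48230 D50410 (iv D48251) (iv D45394) (iv F189084)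
def n50411 : Q := act 9 n48231
theorem D50411 : act 9 n48231 = n50411 := rfl
theorem F225646 : act 1 n50411 = n48232 := d16_1 D50411 (iv D48232) D48231
theorem F225647 : act 3 n50411 = n50411 := d29_1 D50411 (iv D50411) F215779
theorem F225648 : act 6 n50411 = n48235 := d41_1 D50411 (iv D48235) (iv F215780)
def n50412 : Q := act 8 n48232
theorem D50412 : act 8 n48232 = n50412 := rfl
theorem F225649 : act 2 n50412 = n48233 := d22_1 D50412 (iv D48233) (iv F215782)
theorem F225650 : act 6 n50412 = n48238 := d40_1 D50412 (iv D48238) (iv F215784)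
theorem F225651 : act 9 n50412 = n48260 := d44_2 D48232 D50412 (iv D48260) (iv D45400) (iv F189094)
def n50413 : Q := act 9 n48234
theorem D50413 : act 9 n48234 = n50413 := rfl
theorem F225652 : act 1 n50413 = n48237 := d16_1 D50413 (iv D48237) (iv F215787)
theorem F225653 : act 4 n50413 = n48235 := d34_1 D50413 (iv D48235) D48234
def n50414 : Q := act 8 n48235
theorem D50414 : act 8 n48235 = n50414 := rfl
theorem F225654 : act 1 n50414 = n48238 := d15_1 D50414 (iv D48238) (iv F215789)
theorem F225655 : act 9 n50414 = n48268 := d44_2 D48235 D50414 (iv D48268) (iv D45406) (iv F189101)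
def n50415 : Q := act 8 n48237
theorem D50415 : act 8 n48237 = n50415 := rfl
theorem F225656 : act 2 n50415 = n48240 := d22_1 D50415 (iv D48240) (iv F215793)
theorem F225657 : act 4 n50415 = n48238 := d33_1 D50415 (iv D48238) (iv F215794)
theorem F225658 : act 9 n50415 = n48271 := d44_2 D48237 D50415 (iv D48271) (iv D45408) (iv F189103)
def n50416 : Q := act 3 n48238
theorem D50416 : act 3 n48238 = n50416 := rfl
theorem F225659 : act 8 n50416 = n50416 := d28_2 D48238 D50416 (iv D50416) (iv D48238) F189105
theorem F225660 : act 9 n50416 = n48272 := d29_2 (iv F215796) D50416 (iv D48272)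
def n50417 : Q := act 2 n48241
theorem D50417 : act 2 n48241 = n50417 := rfl
theorem F225661 : act 3 n50417 = n48279 := d17_2 D48241 D50417 (iv D48279) (iv D45427) (iv F189111)
theorem F225662 : act 6 n50417 = n48243 := d20_2 (iv F215801) D50417 (iv D48243)
def n50418 : Q := act 4 n48241
theorem D50418 : act 4 n48241 = n50418 := rfl
theorem F225663 : act 3 n50418 = n48475 := d24_1 D50418 (iv D48475) (iv D45807) (iv F189112) D48241
theorem F225664 : act 6 n50418 = n48244 := d31_2 (iv F215801) D50418 (iv D48244)
def n50419 : Q := act 9 n48241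
theorem D50419 : act 9 n48241 = n50419 := rfl
theorem F225665 : act 3 n50419 = n48242 := d29_1 D50419 (iv D48242) D48241
theorem F225666 : act 6 n50419 = n48245 := d41_1 D50419 (iv D48245) (iv F215801)
def n50420 : Q := act 1 n48243
theorem D50420 : act 1 n48243 = n50420 := rfl
theorem F225667 : act 3 n50420 = n48281 := d10_2 (iv F215805) D50420 (iv D48281)
theorem F225668 : act 5 n50420 = n48252 := d12_2 (iv F215806) D50420 (iv D48252)
theorem F225669 : act 7 n50420 = n48246 := d14_2 (iv F215807) D50420 (iv D48246)
def n50421 : Q := act 4 n48243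
theorem D50421 : act 4 n48243 = n50421 := rfl
theorem F225670 : act 2 n50421 = n48244 := d18_1 D50421 (iv D48244) D48243
theorem F225671 : act 7 n50421 = n48247 := d32_2 (iv F215807) D50421 (iv D48247)
def n50422 : Q := act 9 n48243
theorem D50422 : act 9 n48243 = n50422 := rfl
theorem F225672 : act 2 n50422 = n48245 := d23_1 D50422 (iv D48245) D48243
theorem F225673 : act 3 n50422 = n48282 := d29_1 D50422 (iv D48282) (iv F215805)
theorem F225674 : act 5 n50422 = n48253 := d38_1 D50422 (iv D48253) (iv F215806)
theorem F225675 : act 7 n50422 = n48248 := d43_1 D50422 (iv D48248) (iv F215807)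
def n50423 : Q := act 9 n48244
theorem D50423 : act 9 n48244 = n50423 := rfl
theorem F225676 : act 3 n50423 = n48481 := d29_1 D50423 (iv D48481) (iv F215808)
theorem F225677 : act 4 n50423 = n48245 := d34_1 D50423 (iv D48245) D48244
theorem F225678 : act 7 n50423 = n48250 := d43_1 D50423 (iv D48250) (iv F215809)
def n50424 : Q := act 8 n48245
theorem D50424 : act 8 n48245 = n50424 := rfl
theorem F225679 : act 5 n50424 = n48254 := d37_1 D50424 (iv D48254) (iv F215811)
theorem F225680 : act 7 n50424 = n48251 := d42_1 D50424 (iv D48251) (iv F215812)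
def n50425 : Q := act 0 n48246
theorem D50425 : act 0 n48246 = n50425 := rfl
theorem F225681 : act 3 n50425 = n48285 := d2_2 (iv F215813) D50425 (iv D48285)
theorem F225682 : act 5 n50425 = n48255 := d4_2 (iv F215814) D50425 (iv D48255)
def n50426 : Q := act 4 n48246
theorem D50426 : act 4 n48246 = n50426 := rfl
theorem F225683 : act 1 n50426 = n48247 := d11_1 D50426 (iv D48247) D48246
def n50427 : Q := act 9 n48246
theorem D50427 : act 9 n48246 = n50427 := rfl
theorem F225684 : act 1 n50427 = n48248 := d16_1 D50427 (iv D48248) D48246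
theorem F225685 : act 3 n50427 = n48287 := d29_1 D50427 (iv D48287) (iv F215813)
theorem F225686 : act 5 n50427 = n48257 := d38_1 D50427 (iv D48257) (iv F215814)
def n50428 : Q := act 3 n48247
theorem D50428 : act 3 n48247 = n50428 := rfl
theorem F225687 : act 2 n50428 = n48486 := d17_1 D50428 (iv D48486) F190573 (iv F189122) (iv F215815)
theorem F225688 : act 4 n50428 = n48288 := d24_2 D48247 D50428 (iv D48288) (iv D45433) (iv F189120)
def n50429 : Q := act 5 n48247
theorem D50429 : act 5 n48247 = n50429 := rfl
theorem F225689 : act 2 n50429 = n48249 := d19_1 D50429 (iv D48249) (iv F215815)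
theorem F225690 : act 4 n50429 = n48258 := d30_1 D50429 (iv D48258) (iv D45399) (iv F189121) D48247
def n50430 : Q := act 9 n48247
theorem D50430 : act 9 n48247 = n50430 := rfl
theorem F225691 : act 2 n50430 = n48250 := d23_1 D50430 (iv D48250) (iv F215815)
theorem F225692 : act 4 n50430 = n48248 := d34_1 D50430 (iv D48248) D48247
def n50431 : Q := act 8 n48248
theorem D50431 : act 8 n48248 = n50431 := rfl
theorem F225693 : act 2 n50431 = n48251 := d22_1 D50431 (iv D48251) (iv F215816)
theorem F225694 : act 5 n50431 = n48260 := d37_1 D50431 (iv D48260) (iv F215818)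
def n50432 : Q := act 6 n48249
theorem D50432 : act 6 n48249 = n50432 := rfl
theorem F225695 : act 3 n50432 = n48490 := d26_1 D50432 (iv D48490) (iv F215819)
theorem F225696 : act 4 n50432 = n48261 := d31_1 D50432 (iv D48261) (iv F215820)
def n50433 : Q := act 9 n48249
theorem D50433 : act 9 n48249 = n50433 := rfl
theorem F225697 : act 3 n50433 = n48491 := d29_1 D50433 (iv D48491) (iv F215819)
theorem F225698 : act 4 n50433 = n48262 := d34_1 D50433 (iv D48262) (iv F215820)
theorem F225699 : act 5 n50433 = n48250 := d38_1 D50433 (iv D48250) D48249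
def n50434 : Q := act 8 n48250
theorem D50434 : act 8 n48250 = n50434 := rfl
theorem F225700 : act 4 n50434 = n48251 := d33_1 D50434 (iv D48251) (iv F215822)
def n50435 : Q := act 9 n48252
theorem D50435 : act 9 n48252 = n50435 := rfl
theorem F225701 : act 1 n50435 = n48253 := d16_1 D50435 (iv D48253) D48252
theorem F225702 : act 3 n50435 = n48292 := d29_1 D50435 (iv D48292) (iv F215824)
theorem F225703 : act 7 n50435 = n48257 := d43_1 D50435 (iv D48257) (iv F215825)
def n50436 : Q := act 8 n48253
theorem D50436 : act 8 n48253 = n50436 := rfl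
theorem F225704 : act 2 n50436 = n48254 := d22_1 D50436 (iv D48254) (iv F215826)
theorem F225705 : act 7 n50436 = n48260 := d42_1 D50436 (iv D48260) (iv F215828)
def n50437 : Q := act 9 n48255
theorem D50437 : act 9 n48255 = n50437 := rfl
theorem F225706 : act 0 n50437 = n48257 := d8_1 D50437 (iv D48257) D48255
theorem F225707 : act 3 n50437 = n48294 := d29_1 D50437 (iv D48294) (iv F215830)
theorem F225708 : act 6 n50437 = n48265 := d41_1 D50437 (iv D48265) (iv F215831)
def n50438 : Q := act 5 n48256
theorem D50438 : act 5 n48256 = n50438 := rfl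
theorem F225709 : act 1 n50438 = n48258 := d12_1 D50438 (iv D48258) (iv F215832)
theorem F225710 : act 3 n50438 = n48607 := d25_1 D50438 (iv D48607) (iv F215833)
def n50439 : Q := act 9 n48256
theorem D50439 : act 9 n48256 = n50439 := rfl
theorem F225711 : act 1 n50439 = n48259 := d16_1 D50439 (iv D48259) (iv F215832)
theorem F225712 : act 3 n50439 = n48608 := d29_1 D50439 (iv D48608) (iv F215833)
theorem F225713 : act 4 n50439 = n48257 := d34_1 D50439 (iv D48257) D48256
theorem F225714 : act 6 n50439 = n48267 := d41_1 D50439 (iv D48267) (iv F215834)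
def n50440 : Q := act 8 n48257
theorem D50440 : act 8 n48257 = n50440 := rfl
theorem F225715 : act 1 n50440 = n48260 := d15_1 D50440 (iv D48260) (iv F215835)
theorem F225716 : act 6 n50440 = n48268 := d40_1 D50440 (iv D48268) (iv F215837)
def n50441 : Q := act 6 n48258
theorem D50441 : act 6 n48258 = n50441 := rfl
theorem F225717 : act 2 n50441 = n48261 := d20_1 D50441 (iv D48261) (iv F215838)
theorem F225718 : act 3 n50441 = n48609 := d26_1 D50441 (iv D48609) (iv F215839)
theorem F225719 : act 5 n50441 = n48269 := d35_1 D50441 (iv D48269) (iv D45407) (iv F189135) D48258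
def n50442 : Q := act 9 n48258
theorem D50442 : act 9 n48258 = n50442 := rfl
theorem F225720 : act 2 n50442 = n48262 := d23_1 D50442 (iv D48262) (iv F215838)
theorem F225721 : act 3 n50442 = n48610 := d29_1 D50442 (iv D48610) (iv F215839)
theorem F225722 : act 5 n50442 = n48259 := d38_1 D50442 (iv D48259) D48258
def n50443 : Q := act 8 n48259
theorem D50443 : act 8 n48259 = n50443 := rfl
theorem F225723 : act 2 n50443 = n48263 := d22_1 D50443 (iv D48263) (iv F215840)
theorem F225724 : act 4 n50443 = n48260 := d33_1 D50443 (iv D48260) (iv F215842)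
theorem F225725 : act 6 n50443 = n48271 := d40_1 D50443 (iv D48271) (iv F215843)
def n50444 : Q := act 3 n48260
theorem D50444 : act 3 n48260 = n50444 := rfl
theorem F225726 : act 6 n50444 = n48272 := d26_2 (iv F215845) D50444 (iv D48272)
theorem F225727 : act 8 n50444 = n48296 := d28_2 D48260 D50444 (iv D48296) (iv D45442) (iv F189137)
def n50445 : Q := act 7 n48261
theorem D50445 : act 7 n48261 = n50445 := rfl
theorem F225728 : act 3 n50445 = n48276 := d27_1 D50445 (iv D48276) (iv F215846)
theorem F225729 : act 5 n50445 = n48273 := d36_1 D50445 (iv D48273) (iv F215847)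
def n50446 : Q := act 9 n48261
theorem D50446 : act 9 n48261 = n50446 := rfl
theorem F225730 : act 3 n50446 = n48277 := d29_1 D50446 (iv D48277) (iv F215846)
theorem F225731 : act 5 n50446 = n48274 := d38_1 D50446 (iv D48274) (iv F215847)
theorem F225732 : act 6 n50446 = n48262 := d41_1 D50446 (iv D48262) D48261
def n50447 : Q := act 8 n48262
theorem D50447 : act 8 n48262 = n50447 := rfl
theorem F225733 : act 5 n50447 = n48263 := d37_1 D50447 (iv D48263) (iv F215849)
def n50448 : Q := act 9 n48264
theorem D50448 : act 9 n48264 = n50448 := rfl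
theorem F225734 : act 0 n50448 = n48267 := d8_1 D50448 (iv D48267) (iv F215852)
theorem F225735 : act 3 n50448 = n48614 := d29_1 D50448 (iv D48614) (iv F215853)
theorem F225736 : act 4 n50448 = n48265 := d34_1 D50448 (iv D48265) D48264
def n50449 : Q := act 8 n48265
theorem D50449 : act 8 n48265 = n50449 := rfl
theorem F225737 : act 0 n50449 = n48268 := d7_1 D50449 (iv D48268) (iv F215854)
def n50450 : Q := act 9 n48266
theorem D50450 : act 9 n48266 = n50450 := rfl
theorem F225738 : act 1 n50450 = n48270 := d16_1 D50450 (iv D48270) (iv F215856)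
theorem F225739 : act 3 n50450 = n48616 := d29_1 D50450 (iv D48616) (iv F215857)
theorem F225740 : act 5 n50450 = n48267 := d38_1 D50450 (iv D48267) D48266
def n50451 : Q := act 8 n48267
theorem D50451 : act 8 n48267 = n50451 := rfl
theorem F225741 : act 1 n50451 = n48271 := d15_1 D50451 (iv D48271) (iv F215858)
theorem F225742 : act 4 n50451 = n48268 := d33_1 D50451 (iv D48268) (iv F215860)
def n50452 : Q := act 3 n48268
theorem D50452 : act 3 n48268 = n50452 := rfl
theorem F225743 : act 1 n50452 = n48272 := d10_1 D50452 (iv D48272) (iv F215861)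
theorem F225744 : act 8 n50452 = n48298 := d28_2 D48268 D50452 (iv D48298) (iv D45444) (iv F189148)
def n50453 : Q := act 9 n48269
theorem D50453 : act 9 n48269 = n50453 := rfl
theorem F225745 : act 2 n50453 = n48274 := d23_1 D50453 (iv D48274) (iv F215862)
theorem F225746 : act 3 n50453 = n48619 := d29_1 D50453 (iv D48619) (iv F215863)
theorem F225747 : act 6 n50453 = n48270 := d41_1 D50453 (iv D48270) D48269
def n50454 : Q := act 8 n48270
theorem D50454 : act 8 n48270 = n50454 := rfl
theorem F225748 : act 2 n50454 = n48275 := d22_1 D50454 (iv D48275) (iv F215864)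
theorem F225749 : act 5 n50454 = n48271 := d37_1 D50454 (iv D48271) (iv F215866)
def n50455 : Q := act 3 n48271
theorem D50455 : act 3 n48271 = n50455 := rfl
theorem F225750 : act 8 n50455 = n48621 := d28_2 D48271 D50455 (iv D48621) (iv D46401) (iv F189152)
def n50456 : Q := act 4 n48272
theorem D50456 : act 4 n48272 = n50456 := rfl
theorem F225751 : act 8 n50456 = n48299 := d33_2 (iv F215869) D50456 (iv D48299)
def n50457 : Q := act 9 n48273
theorem D50457 : act 9 n48273 = n50457 := rfl
theorem F225752 : act 3 n50457 = n48278 := d29_1 D50457 (iv D48278) (iv F215870)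
theorem F225753 : act 6 n50457 = n48621 := d41_1 D50457 F218180 F218177
theorem F225754 : act 7 n50457 = n48274 := d43_1 D50457 (iv D48274) D48273
def n50458 : Q := act 8 n48274
theorem D50458 : act 8 n48274 = n50458 := rfl
theorem F225755 : act 6 n50458 = n48275 := d40_1 D50458 (iv D48275) (iv F215872)
def n50459 : Q := act 9 n48276
theorem D50459 : act 9 n48276 = n50459 := rfl
theorem F225756 : act 2 n50459 = n48612 := d23_1 D50459 F217033 (iv F215874)
theorem F225757 : act 4 n50459 = n48529 := d34_1 D50459 (iv D48529) (iv F215875)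
theorem F225758 : act 5 n50459 = n48278 := d38_1 D50459 (iv D48278) (iv F215876)
theorem F225759 : act 7 n50459 = n48277 := d43_1 D50459 (iv D48277) D48276
theorem F225760 : act 8 n50459 = n48610 := d44_1 D50459 (iv D48610) F208754 F208753 (iv F215877)
def n50460 : Q := act 9 n48279
theorem D50460 : act 9 n48279 = n50460 := rfl
theorem F225761 : act 2 n50460 = n48280 := d23_1 D50460 (iv D48280) D48279
theorem F225762 : act 6 n50460 = n48282 := d41_1 D50460 (iv D48282) (iv F215887)
def n50461 : Q := act 8 n48280
theorem D50461 : act 8 n48280 = n50461 := rfl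
theorem F225763 : act 1 n50461 = n48300 := d15_1 D50461 (iv D48300) (iv F215889)
theorem F225764 : act 3 n50461 = n48310 := d28_1 D50461 (iv D48310) (iv F214280) F214284 (iv F215890)
theorem F225765 : act 5 n50461 = n48316 := d37_1 D50461 F221512 F221509
theorem F225766 : act 6 n50461 = n48284 := d40_1 D50461 (iv D48284) (iv F215891)
theorem F225767 : act 9 n50461 = n50461 := d44_2 D48280 D50461 (iv D50461) (iv D48280) F189206
def n50462 : Q := act 9 n48281
theorem D50462 : act 9 n48281 = n50462 := rfl
theorem F225768 : act 1 n50462 = n48282 := d16_1 D50462 (iv D48282) D48281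
theorem F225769 : act 2 n50462 = n48303 := d23_1 D50462 (iv D48303) (iv F215892)
theorem F225770 : act 5 n50462 = n48292 := d38_1 D50462 (iv D48292) (iv F215893)
theorem F225771 : act 7 n50462 = n48287 := d43_1 D50462 (iv D48287) (iv F215894)
def n50463 : Q := act 8 n48282
theorem D50463 : act 8 n48282 = n50463 := rfl
theorem F225772 : act 2 n50463 = n48284 := d22_1 D50463 (iv D48284) (iv F215896)
theorem F225773 : act 5 n50463 = n48293 := d37_1 D50463 (iv D48293) (iv F215897)
theorem F225774 : act 7 n50463 = n48290 := d42_1 D50463 (iv D48290) (iv F215898)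
theorem F225775 : act 9 n50463 = n50463 := d44_2 D48282 D50463 (iv D50463) (iv D48282) F189212
def n50464 : Q := act 9 n48285
theorem D50464 : act 9 n48285 = n50464 := rfl
theorem F225776 : act 0 n50464 = n48287 := d8_1 D50464 (iv D48287) D48285
theorem F225777 : act 2 n50464 = n48307 := d23_1 D50464 (iv D48307) (iv F215908)
theorem F225778 : act 5 n50464 = n48294 := d38_1 D50464 (iv D48294) (iv F215909)
def n50465 : Q := act 3 n48286
theorem D50465 : act 3 n48286 = n50465 := rfl
theorem F225779 : act 1 n50465 = n48288 := d10_1 D50465 (iv D48288) (iv F215911)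
theorem F225780 : act 5 n50465 = n48623 := d25_2 (iv F215913) D50465 (iv D48623)
def n50466 : Q := act 9 n48286
theorem D50466 : act 9 n48286 = n50466 := rfl
theorem F225781 : act 1 n50466 = n48289 := d16_1 D50466 (iv D48289) (iv F215911)
theorem F225782 : act 2 n50466 = n48309 := d23_1 D50466 (iv D48309) (iv F215912)
theorem F225783 : act 4 n50466 = n48287 := d34_1 D50466 (iv D48287) D48286
theorem F225784 : act 5 n50466 = n48624 := d38_1 D50466 (iv D48624) (iv F215913)
def n50467 : Q := act 8 n48287
theorem D50467 : act 8 n48287 = n50467 := rfl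
theorem F225785 : act 1 n50467 = n48290 := d15_1 D50467 (iv D48290) (iv F215915)
theorem F225786 : act 2 n50467 = n48310 := d22_1 D50467 (iv D48310) (iv F215916)
theorem F225787 : act 5 n50467 = n48295 := d37_1 D50467 (iv D48295) (iv F215917)
theorem F225788 : act 9 n50467 = n50467 := d44_2 D48287 D50467 (iv D50467) (iv D48287) F189224
def n50468 : Q := act 8 n48288
theorem D50468 : act 8 n48288 = n50468 := rfl
theorem F225789 : act 2 n50468 = n48537 := d22_1 D50468 (iv D48537) (iv F215918)
theorem F225790 : act 3 n50468 = n50468 := d28_1 D50468 (iv D50468) (iv D48288) F189227 D48288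
theorem F225791 : act 5 n50468 = n48626 := d37_1 D50468 (iv D48626) (iv F215919)
def n50469 : Q := act 9 n48288
theorem D50469 : act 9 n48288 = n50469 := rfl
theorem F225792 : act 2 n50469 = n48538 := d23_1 D50469 (iv D48538) (iv F215918)
theorem F225793 : act 3 n50469 = n48289 := d29_1 D50469 (iv D48289) D48288
theorem F225794 : act 5 n50469 = n48627 := d38_1 D50469 (iv D48627) (iv F215919)
def n50470 : Q := act 8 n48289
theorem D50470 : act 8 n48289 = n50470 := rfl
theorem F225795 : act 2 n50470 = n48291 := d22_1 D50470 (iv D48291) (iv F215920)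
theorem F225796 : act 4 n50470 = n48290 := d33_1 D50470 (iv D48290) (iv F215921)
theorem F225797 : act 5 n50470 = n48628 := d37_1 D50470 (iv D48628) (iv F215922)
theorem F225798 : act 9 n50470 = n50470 := d44_2 D48289 D50470 (iv D50470) (iv D48289) F189227
def n50471 : Q := act 3 n48290
theorem D50471 : act 3 n48290 = n50471 := rfl
theorem F225799 : act 5 n50471 = n48296 := d25_2 (iv F215924) D50471 (iv D48296)
theorem F225800 : act 9 n50471 = n50471 := d29_2 F215925 D50471 (iv D50471)
def n50472 : Q := act 8 n48292
theorem D50472 : act 8 n48292 = n50472 := rfl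
theorem F225801 : act 1 n50472 = n48293 := d15_1 D50472 (iv D48293) (iv F215930)
theorem F225802 : act 2 n50472 = n48314 := d22_1 D50472 (iv D48314) (iv F215931)
theorem F225803 : act 4 n50472 = n48629 := d33_1 D50472 (iv D48629) (iv F215932)
theorem F225804 : act 7 n50472 = n48295 := d42_1 D50472 (iv D48295) (iv F215933)
theorem F225805 : act 9 n50472 = n50472 := d44_2 D48292 D50472 (iv D50472) (iv D48292) F189240
def n50473 : Q := act 3 n48293
theorem D50473 : act 3 n48293 = n50473 := rfl
theorem F225806 : act 7 n50473 = n48296 := d27_2 (iv F215936) D50473 (iv D48296)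
theorem F225807 : act 9 n50473 = n50473 := d29_2 F215937 D50473 (iv D50473)
def n50474 : Q := act 8 n48294
theorem D50474 : act 8 n48294 = n50474 := rfl
theorem F225808 : act 0 n50474 = n48295 := d7_1 D50474 (iv D48295) (iv F215938)
theorem F225809 : act 2 n50474 = n48315 := d22_1 D50474 (iv D48315) (iv F215939)
theorem F225810 : act 4 n50474 = n48630 := d33_1 D50474 (iv D48630) (iv F215940)
theorem F225811 : act 6 n50474 = n48297 := d40_1 D50474 (iv D48297) (iv F215941)
theorem F225812 : act 9 n50474 = n50474 := d44_2 D48294 D50474 (iv D50474) (iv D48294) F189251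
def n50475 : Q := act 3 n48295
theorem D50475 : act 3 n48295 = n50475 := rfl
theorem F225813 : act 1 n50475 = n48296 := d10_1 D50475 (iv D48296) (iv F215942)
theorem F225814 : act 6 n50475 = n48298 := d26_2 (iv F215945) D50475 (iv D48298)
theorem F225815 : act 9 n50475 = n50475 := d29_2 F215946 D50475 (iv D50475)
def n50476 : Q := act 4 n48296
theorem D50476 : act 4 n48296 = n50476 := rfl
theorem F225816 : act 3 n50476 = n48632 := d24_1 D50476 (iv D48632) (iv D46420) (iv F189257) D48296
theorem F225817 : act 6 n50476 = n48299 := d31_2 (iv F215947) D50476 (iv D48299)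
theorem F225818 : act 9 n50476 = n50476 := d34_2 F215948 D50476 (iv D50476)
def n50477 : Q := act 3 n48297
theorem D50477 : act 3 n48297 = n50477 := rfl
theorem F225819 : act 0 n50477 = n48298 := d2_1 D50477 (iv D48298) (iv F215949)
theorem F225820 : act 9 n50477 = n50477 := d29_2 F215952 D50477 (iv D50477)
def n50478 : Q := act 2 n48298
theorem D50478 : act 2 n48298 = n50478 := rfl
theorem F225821 : act 3 n50478 = n48319 := d17_2 D48298 D50478 (iv D48319) (iv D45468) (iv F189264)
theorem F225822 : act 9 n50478 = n50478 := d23_2 F215954 D50478 (iv D50478)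
def n50479 : Q := act 4 n48298
theorem D50479 : act 4 n48298 = n50479 := rfl
theorem F225823 : act 1 n50479 = n48299 := d11_1 D50479 (iv D48299) (iv F215953)
theorem F225824 : act 3 n50479 = n48635 := d24_1 D50479 (iv D48635) (iv D46422) (iv F189265) D48298
theorem F225825 : act 9 n50479 = n50479 := d34_2 F215954 D50479 (iv D50479)
def n50480 : Q := act 5 n48299
theorem D50480 : act 5 n48299 = n50480 := rfl
theorem F225826 : act 3 n50480 = n48636 := d25_1 D50480 (iv D48636) (iv F215955)
theorem F225827 : act 9 n50480 = n50480 := d38_2 F215956 D50480 (iv D50480)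
def n50481 : Q := act 9 n48301
theorem D50481 : act 9 n48301 = n50481 := rfl
theorem F225828 : act 0 n50481 = n48303 := d8_1 D50481 (iv D48303) D48301
theorem F225829 : act 1 n50481 = n50481 := d16_1 D50481 (iv D50481) F215962
theorem F225830 : act 5 n50481 = n48313 := d38_1 D50481 (iv D48313) (iv F215963)
theorem F225831 : act 7 n50481 = n48307 := d43_1 D50481 (iv D48307) (iv F215964)
def n50482 : Q := act 9 n48302
theorem D50482 : act 9 n48302 = n50482 := rfl
theorem F225832 : act 1 n50482 = n48304 := d16_1 D50482 (iv D48304) (iv F215966)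
theorem F225833 : act 3 n50482 = n48389 := d29_1 D50482 F216276 (iv F215967)
theorem F225834 : act 4 n50482 = n48303 := d34_1 D50482 (iv D48303) D48302
theorem F225835 : act 5 n50482 = n48393 := d38_1 D50482 F216296 (iv F215968)
theorem F225836 : act 7 n50482 = n48309 := d43_1 D50482 (iv D48309) (iv F215969)
def n50483 : Q := act 8 n48303
theorem D50483 : act 8 n48303 = n50483 := rfl
theorem F225837 : act 1 n50483 = n48305 := d15_1 D50483 (iv D48305) (iv F215971)
theorem F225838 : act 5 n50483 = n48314 := d37_1 D50483 (iv D48314) (iv F215972)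
theorem F225839 : act 7 n50483 = n48310 := d42_1 D50483 (iv D48310) (iv F215973)
theorem F225840 : act 9 n50483 = n50483 := d44_2 D48303 D50483 (iv D50483) (iv D48303) F189280
def n50484 : Q := act 9 n48306
theorem D50484 : act 9 n48306 = n50484 := rfl
theorem F225841 : act 0 n50484 = n48309 := d8_1 D50484 (iv D48309) (iv F215985)
theorem F225842 : act 1 n50484 = n50484 := d16_1 D50484 (iv D50484) F215986
theorem F225843 : act 4 n50484 = n48307 := d34_1 D50484 (iv D48307) D48306
theorem F225844 : act 5 n50484 = n48639 := d38_1 D50484 (iv D48639) (iv F215987)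
def n50485 : Q := act 8 n48307
theorem D50485 : act 8 n48307 = n50485 := rfl
theorem F225845 : act 0 n50485 = n48310 := d7_1 D50485 (iv D48310) (iv F215989)
theorem F225846 : act 1 n50485 = n50485 := d15_1 D50485 (iv D50485) F215990
theorem F225847 : act 5 n50485 = n48315 := d37_1 D50485 (iv D48315) (iv F215991)
theorem F225848 : act 9 n50485 = n50485 := d44_2 D48307 D50485 (iv D50485) (iv D48307) F189301
def n50486 : Q := act 9 n48308
theorem D50486 : act 9 n48308 = n50486 := rfl
theorem F225849 : act 1 n50486 = n48311 := d16_1 D50486 (iv D48311) (iv F215992)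
theorem F225850 : act 3 n50486 = n48309 := d29_1 D50486 (iv D48309) D48308
theorem F225851 : act 4 n50486 = n48373 := d34_1 D50486 (iv D48373) (iv F215993)
theorem F225852 : act 5 n50486 = n48391 := d38_1 D50486 F216286 (iv F215994)
theorem F225853 : act 6 n50486 = n48377 := d41_1 D50486 (iv D48377) (iv F215995)
theorem F225854 : act 7 n50486 = n48389 := d43_1 D50486 F216276 (iv F215996)
theorem F225855 : act 8 n50486 = n48386 := d44_1 D50486 (iv D48386) F189923 (iv F204491) F215997
def n50487 : Q := act 8 n48309
theorem D50487 : act 8 n48309 = n50487 := rfl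
theorem F225856 : act 1 n50487 = n48312 := d15_1 D50487 (iv D48312) (iv F215998)
theorem F225857 : act 4 n50487 = n48310 := d33_1 D50487 (iv D48310) (iv F215999)
theorem F225858 : act 5 n50487 = n48641 := d37_1 D50487 (iv D48641) (iv F216000)
theorem F225859 : act 9 n50487 = n50487 := d44_2 D48309 D50487 (iv D50487) (iv D48309) F189304
def n50488 : Q := act 8 n48313
theorem D50488 : act 8 n48313 = n50488 := rfl
theorem F225860 : act 0 n50488 = n48314 := d7_1 D50488 (iv D48314) (iv F216017)
theorem F225861 : act 1 n50488 = n50488 := d15_1 D50488 (iv D50488) F216018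
theorem F225862 : act 4 n50488 = n48644 := d33_1 D50488 (iv D48644) (iv F216019)
theorem F225863 : act 7 n50488 = n48315 := d42_1 D50488 (iv D48315) (iv F216020)
theorem F225864 : act 9 n50488 = n50488 := d44_2 D48313 D50488 (iv D50488) (iv D48313) F189325
def n50489 : Q := act 3 n48315
theorem D50489 : act 3 n48315 = n50489 := rfl
theorem F225865 : act 0 n50489 = n48316 := d2_1 D50489 (iv D48316) (iv F216025)
theorem F225866 : act 1 n50489 = n50489 := d10_1 D50489 (iv D50489) F216026
theorem F225867 : act 6 n50489 = n48318 := d26_2 (iv F216028) D50489 (iv D48318)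
theorem F225868 : act 9 n50489 = n50489 := d29_2 F216029 D50489 (iv D50489)
def n50490 : Q := act 2 n48316
theorem D50490 : act 2 n48316 = n50490 := rfl
theorem F225869 : act 6 n50490 = n48319 := d20_2 (iv F216031) D50490 (iv D48319)
theorem F225870 : act 9 n50490 = n50490 := d23_2 F216032 D50490 (iv D50490)
def n50491 : Q := act 4 n48316
theorem D50491 : act 4 n48316 = n50491 := rfl
theorem F225871 : act 1 n50491 = n48317 := d11_1 D50491 (iv D48317) (iv F216030)
theorem F225872 : act 3 n50491 = n48649 := d24_1 D50491 (iv D48649) (iv D46436) (iv F189339) D48316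
theorem F225873 : act 6 n50491 = n48320 := d31_2 (iv F216031) D50491 (iv D48320)
theorem F225874 : act 9 n50491 = n50491 := d34_2 F216032 D50491 (iv D50491)
def n50492 : Q := act 3 n48322
theorem D50492 : act 3 n48322 = n50492 := rfl
theorem F225875 : act 0 n50492 = n48343 := d2_1 D50492 (iv D48343) (iv F216050)
theorem F225876 : act 5 n50492 = n50492 := d25_2 F216052 D50492 (iv D50492)
theorem F225877 : act 6 n50492 = n48323 := d26_2 (iv F216053) D50492 (iv D48323)
def n50493 : Q := act 9 n48322
theorem D50493 : act 9 n48322 = n50493 := rfl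
theorem F225878 : act 0 n50493 = n48344 := d8_1 D50493 (iv D48344) (iv F216050)
theorem F225879 : act 2 n50493 = n48329 := d23_1 D50493 (iv D48329) (iv F216051)
theorem F225880 : act 5 n50493 = n50493 := d38_1 D50493 (iv D50493) F216052
theorem F225881 : act 6 n50493 = n48324 := d41_1 D50493 (iv D48324) (iv F216053)
theorem F225882 : act 8 n50493 = n48405 := d44_1 D50493 (iv D48405) (iv D45722) (iv F189511) D48322
def n50494 : Q := act 4 n48323
theorem D50494 : act 4 n48323 = n50494 := rfl
theorem F225883 : act 0 n50494 = n48346 := d3_1 D50494 (iv D48346) (iv F216054)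
theorem F225884 : act 7 n50494 = n48325 := d32_2 (iv F216056) D50494 (iv D48325)
def n50495 : Q := act 9 n48323
theorem D50495 : act 9 n48323 = n50495 := rfl
theorem F225885 : act 0 n50495 = n48347 := d8_1 D50495 (iv D48347) (iv F216054)
theorem F225886 : act 3 n50495 = n48324 := d29_1 D50495 (iv D48324) D48323
theorem F225887 : act 5 n50495 = n48327 := d38_1 D50495 (iv D48327) (iv F216055)
theorem F225888 : act 7 n50495 = n48326 := d43_1 D50495 (iv D48326) (iv F216056)
def n50496 : Q := act 9 n48325
theorem D50496 : act 9 n48325 = n50496 := rfl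
theorem F225889 : act 0 n50496 = n48352 := d8_1 D50496 (iv D48352) (iv F216062)
theorem F225890 : act 4 n50496 = n48326 := d34_1 D50496 (iv D48326) D48325
def n50497 : Q := act 8 n48326
theorem D50497 : act 8 n48326 = n50497 := rfl
theorem F225891 : act 0 n50497 = n48353 := d7_1 D50497 (iv D48353) (iv F216063)
theorem F225892 : act 3 n50497 = n48413 := d28_1 D50497 (iv D48413) F190271 (iv F189521) (iv F216064)
theorem F225893 : act 5 n50497 = n48328 := d37_1 D50497 (iv D48328) (iv F216065)
def n50498 : Q := act 8 n48327
theorem D50498 : act 8 n48327 = n50498 := rfl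
theorem F225894 : act 0 n50498 = n48359 := d7_1 D50498 (iv D48359) (iv F216066)
theorem F225895 : act 3 n50498 = n48416 := d28_1 D50498 (iv D48416) F190282 (iv F189530) (iv F216067)
theorem F225896 : act 6 n50498 = n50498 := d40_1 D50498 (iv D50498) F216068
theorem F225897 : act 7 n50498 = n48328 := d42_1 D50498 (iv D48328) (iv F216069)
def n50499 : Q := act 4 n48330
theorem D50499 : act 4 n48330 = n50499 := rfl
theorem F225898 : act 3 n50499 = n48335 := d24_1 D50499 (iv D48335) (iv D45556) (iv F189681) D48330
def n50500 : Q := act 9 n48330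
theorem D50500 : act 9 n48330 = n50500 := rfl
theorem F225899 : act 3 n50500 = n48331 := d29_1 D50500 (iv D48331) D48330
theorem F225900 : act 5 n50500 = n48730 := d38_1 D50500 (iv D48730) (iv F216078)
def n50501 : Q := act 3 n48332
theorem D50501 : act 3 n48332 = n50501 := rfl
theorem F225901 : act 5 n50501 = n50501 := d25_2 F216084 D50501 (iv D50501)
theorem F225902 : act 6 n50501 = n48333 := d26_2 (iv F216085) D50501 (iv D48333)
theorem F225903 : act 8 n50501 = n48343 := d28_2 D48332 D50501 (iv D48343) (iv D45569) (iv F189684)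
def n50502 : Q := act 9 n48332
theorem D50502 : act 9 n48332 = n50502 := rfl
theorem F225904 : act 2 n50502 = n48548 := d23_1 D50502 (iv D48548) (iv F216083)
theorem F225905 : act 5 n50502 = n50502 := d38_1 D50502 (iv D50502) F216084
theorem F225906 : act 6 n50502 = n48334 := d41_1 D50502 (iv D48334) (iv F216085)
theorem F225907 : act 8 n50502 = n48441 := d44_1 D50502 (iv D48441) (iv D45783) (iv F189686) D48332
def n50503 : Q := act 4 n48333
theorem D50503 : act 4 n48333 = n50503 := rfl
theorem F225908 : act 7 n50503 = n48335 := d32_2 (iv F216087) D50503 (iv D48335)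
theorem F225909 : act 8 n50503 = n48346 := d33_2 (iv F216088) D50503 (iv D48346)
def n50504 : Q := act 9 n48333
theorem D50504 : act 9 n48333 = n50504 := rfl
theorem F225910 : act 3 n50504 = n48334 := d29_1 D50504 (iv D48334) D48333
theorem F225911 : act 5 n50504 = n48338 := d38_1 D50504 (iv D48338) (iv F216086)
theorem F225912 : act 7 n50504 = n48336 := d43_1 D50504 (iv D48336) (iv F216087)
def n50505 : Q := act 5 n48335
theorem D50505 : act 5 n48335 = n50505 := rfl
theorem F225913 : act 1 n50505 = n48400 := d12_1 D50505 (iv F224315) F224314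
theorem F225914 : act 4 n50505 = n48339 := d30_1 D50505 (iv D48339) (iv D45561) (iv F189690) D48335
theorem F225915 : act 8 n50505 = n48351 := d37_2 (iv F216093) D50505 (iv D48351)
def n50506 : Q := act 9 n48335
theorem D50506 : act 9 n48335 = n50506 := rfl
theorem F225916 : act 4 n50506 = n48336 := d34_1 D50506 (iv D48336) D48335
def n50507 : Q := act 8 n48336
theorem D50507 : act 8 n48336 = n50507 := rfl
theorem F225917 : act 3 n50507 = n48450 := d28_1 D50507 (iv D48450) F190500 (iv F189694) (iv F216094)
theorem F225918 : act 5 n50507 = n48341 := d37_1 D50507 (iv D48341) (iv F216095)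
theorem F225919 : act 9 n50507 = n48353 := d44_2 D48336 D50507 (iv D48353) (iv D45574) (iv F189691)
def n50508 : Q := act 9 n48337
theorem D50508 : act 9 n48337 = n50508 := rfl
theorem F225920 : act 0 n50508 = n48730 := d8_1 D50508 (iv D48730) (iv F216096)
theorem F225921 : act 1 n50508 = n48402 := d16_1 D50508 (iv D48402) (iv F216097)
theorem F225922 : act 3 n50508 = n48395 := d29_1 D50508 (iv D48395) (iv F216098)
theorem F225923 : act 4 n50508 = n48338 := d34_1 D50508 (iv D48338) D48337
theorem F225924 : act 6 n50508 = n50508 := d41_1 D50508 (iv D50508) F216099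
theorem F225925 : act 7 n50508 = n48340 := d43_1 D50508 (iv D48340) (iv F216100)
def n50509 : Q := act 8 n48338
theorem D50509 : act 8 n48338 = n50509 := rfl
theorem F225926 : act 3 n50509 = n48455 := d28_1 D50509 (iv D48455) F190510 (iv F189702) (iv F216102)
theorem F225927 : act 6 n50509 = n50509 := d40_1 D50509 (iv D50509) F216103
theorem F225928 : act 7 n50509 = n48341 := d42_1 D50509 (iv D48341) (iv F216104)
theorem F225929 : act 9 n50509 = n48359 := d44_2 D48338 D50509 (iv D48359) (iv D45577) (iv F189697)
def n50510 : Q := act 9 n48339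
theorem D50510 : act 9 n48339 = n50510 := rfl
theorem F225930 : act 1 n50510 = n48401 := d16_1 D50510 (iv D48401) (iv F216105)
theorem F225931 : act 3 n50510 = n48394 := d29_1 D50510 (iv D48394) (iv F216106)
theorem F225932 : act 5 n50510 = n48340 := d38_1 D50510 (iv D48340) D48339
def n50511 : Q := act 8 n48340
theorem D50511 : act 8 n48340 = n50511 := rfl
theorem F225933 : act 1 n50511 = n48403 := d15_1 D50511 (iv D48403) (iv F216108)
theorem F225934 : act 4 n50511 = n48341 := d33_1 D50511 (iv D48341) (iv F216110)
theorem F225935 : act 6 n50511 = n48342 := d40_1 D50511 (iv D48342) (iv F216111)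
theorem F225936 : act 9 n50511 = n48366 := d44_2 D48340 D50511 (iv D48366) (iv D45582) (iv F189708)
def n50512 : Q := act 2 n48343
theorem D50512 : act 2 n48343 = n50512 := rfl
theorem F225937 : act 3 n50512 = n48372 := d17_2 D48343 D50512 (iv D48372) (iv D45607) (iv F189729)
theorem F225938 : act 5 n50512 = n50512 := d19_2 F216119 D50512 (iv D50512)
theorem F225939 : act 6 n50512 = n48345 := d20_2 (iv F216120) D50512 (iv D48345)
def n50513 : Q := act 4 n48343
theorem D50513 : act 4 n48343 = n50513 := rfl
theorem F225940 : act 6 n50513 = n48346 := d31_2 (iv F216120) D50513 (iv D48346)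
def n50514 : Q := act 9 n48343
theorem D50514 : act 9 n48343 = n50514 := rfl
theorem F225941 : act 3 n50514 = n48344 := d29_1 D50514 (iv D48344) D48343
theorem F225942 : act 5 n50514 = n50514 := d38_1 D50514 (iv D50514) F216119
theorem F225943 : act 6 n50514 = n48347 := d41_1 D50514 (iv D48347) (iv F216120)
def n50515 : Q := act 1 n48345
theorem D50515 : act 1 n48345 = n50515 := rfl
theorem F225944 : act 3 n50515 = n48374 := d10_2 (iv F216125) D50515 (iv D48374)
theorem F225945 : act 5 n50515 = n48354 := d12_2 (iv F216126) D50515 (iv D48354)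
theorem F225946 : act 7 n50515 = n48348 := d14_2 (iv F216127) D50515 (iv D48348)
def n50516 : Q := act 4 n48345
theorem D50516 : act 4 n48345 = n50516 := rfl
theorem F225947 : act 2 n50516 = n48346 := d18_1 D50516 (iv D48346) D48345
theorem F225948 : act 7 n50516 = n48349 := d32_2 (iv F216127) D50516 (iv D48349)
def n50517 : Q := act 9 n48345
theorem D50517 : act 9 n48345 = n50517 := rfl
theorem F225949 : act 2 n50517 = n48347 := d23_1 D50517 (iv D48347) D48345
theorem F225950 : act 3 n50517 = n48376 := d29_1 D50517 (iv D48376) (iv F216125)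
theorem F225951 : act 5 n50517 = n48356 := d38_1 D50517 (iv D48356) (iv F216126)
theorem F225952 : act 7 n50517 = n48350 := d43_1 D50517 (iv D48350) (iv F216127)
def n50518 : Q := act 5 n48346
theorem D50518 : act 5 n48346 = n50518 := rfl
theorem F225953 : act 1 n50518 = n48407 := d12_1 D50518 (iv F224335) F224334
theorem F225954 : act 4 n50518 = n48357 := d30_1 D50518 (iv D48357) (iv D45576) (iv F189732) D48346
theorem F225955 : act 7 n50518 = n48351 := d36_2 (iv F216128) D50518 (iv D48351)
def n50519 : Q := act 9 n48346
theorem D50519 : act 9 n48346 = n50519 := rfl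
theorem F225956 : act 4 n50519 = n48347 := d34_1 D50519 (iv D48347) D48346
theorem F225957 : act 7 n50519 = n48352 := d43_1 D50519 (iv D48352) (iv F216128)
def n50520 : Q := act 8 n48347
theorem D50520 : act 8 n48347 = n50520 := rfl
theorem F225958 : act 3 n50520 = n48482 := d28_1 D50520 (iv D48482) F190568 (iv F189737) (iv F216129)
theorem F225959 : act 5 n50520 = n48359 := d37_1 D50520 (iv D48359) (iv F216130)
theorem F225960 : act 7 n50520 = n48353 := d42_1 D50520 (iv D48353) (iv F216131)
def n50521 : Q := act 4 n48348
theorem D50521 : act 4 n48348 = n50521 := rfl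
theorem F225961 : act 1 n50521 = n48349 := d11_1 D50521 (iv D48349) D48348
def n50522 : Q := act 9 n48348
theorem D50522 : act 9 n48348 = n50522 := rfl
theorem F225962 : act 1 n50522 = n48350 := d16_1 D50522 (iv D48350) D48348
theorem F225963 : act 3 n50522 = n48380 := d29_1 D50522 (iv D48380) (iv F216132)
theorem F225964 : act 5 n50522 = n48361 := d38_1 D50522 (iv D48361) (iv F216133)
def n50523 : Q := act 3 n48349
theorem D50523 : act 3 n48349 = n50523 := rfl
theorem F225965 : act 4 n50523 = n48381 := d24_2 D48349 D50523 (iv D48381) (iv D45613) (iv F189738)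
def n50524 : Q := act 5 n48349
theorem D50524 : act 5 n48349 = n50524 := rfl
theorem F225966 : act 2 n50524 = n48351 := d19_1 D50524 (iv D48351) (iv F216134)
theorem F225967 : act 4 n50524 = n48362 := d30_1 D50524 (iv D48362) (iv D45579) (iv F189739) D48349
def n50525 : Q := act 9 n48349
theorem D50525 : act 9 n48349 = n50525 := rfl
theorem F225968 : act 2 n50525 = n48352 := d23_1 D50525 (iv D48352) (iv F216134)
theorem F225969 : act 4 n50525 = n48350 := d34_1 D50525 (iv D48350) D48349
def n50526 : Q := act 8 n48350
theorem D50526 : act 8 n48350 = n50526 := rfl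
theorem F225970 : act 2 n50526 = n48353 := d22_1 D50526 (iv D48353) (iv F216135)
theorem F225971 : act 5 n50526 = n48364 := d37_1 D50526 (iv D48364) (iv F216137)
def n50527 : Q := act 9 n48351
theorem D50527 : act 9 n48351 = n50527 := rfl
theorem F225972 : act 1 n50527 = n48412 := d16_1 D50527 (iv D48412) (iv F216138)
theorem F225973 : act 4 n50527 = n48365 := d34_1 D50527 (iv D48365) (iv F216139)
theorem F225974 : act 5 n50527 = n48352 := d38_1 D50527 (iv D48352) D48351
def n50528 : Q := act 8 n48352
theorem D50528 : act 8 n48352 = n50528 := rfl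
theorem F225975 : act 4 n50528 = n48353 := d33_1 D50528 (iv D48353) (iv F216140)
def n50529 : Q := act 4 n48354
theorem D50529 : act 4 n48354 = n50529 := rfl
theorem F225976 : act 1 n50529 = n48355 := d11_1 D50529 (iv D48355) D48354
theorem F225977 : act 2 n50529 = n48414 := d18_1 D50529 (iv F224362) F224360
theorem F225978 : act 3 n50529 = n50529 := d24_1 D50529 (iv D50529) F216143 F189872 (iv F216143)
theorem F225979 : act 6 n50529 = n50529 := d31_2 F216144 D50529 (iv D50529)
theorem F225980 : act 7 n50529 = n48360 := d32_2 (iv F216145) D50529 (iv D48360)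
def n50530 : Q := act 9 n48354
theorem D50530 : act 9 n48354 = n50530 := rfl
theorem F225981 : act 1 n50530 = n48356 := d16_1 D50530 (iv D48356) D48354
theorem F225982 : act 3 n50530 = n48384 := d29_1 D50530 (iv D48384) (iv F216143)
theorem F225983 : act 6 n50530 = n50530 := d41_1 D50530 (iv D50530) F216144
theorem F225984 : act 7 n50530 = n48361 := d43_1 D50530 (iv D48361) (iv F216145)
def n50531 : Q := act 5 n48355
theorem D50531 : act 5 n48355 = n50531 := rfl
theorem F225985 : act 2 n50531 = n48357 := d19_1 D50531 (iv D48357) (iv F216146)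
theorem F225986 : act 3 n50531 = n50531 := d25_1 D50531 (iv D50531) F216147
theorem F225987 : act 7 n50531 = n48362 := d36_2 (iv F216149) D50531 (iv D48362)
def n50532 : Q := act 9 n48355
theorem D50532 : act 9 n48355 = n50532 := rfl
theorem F225988 : act 2 n50532 = n48358 := d23_1 D50532 (iv D48358) (iv F216146)
theorem F225989 : act 3 n50532 = n50532 := d29_1 D50532 (iv D50532) F216147
theorem F225990 : act 4 n50532 = n48356 := d34_1 D50532 (iv D48356) D48355
theorem F225991 : act 6 n50532 = n50532 := d41_1 D50532 (iv D50532) F216148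
theorem F225992 : act 7 n50532 = n48363 := d43_1 D50532 (iv D48363) (iv F216149)
def n50533 : Q := act 8 n48356
theorem D50533 : act 8 n48356 = n50533 := rfl
theorem F225993 : act 2 n50533 = n48359 := d22_1 D50533 (iv D48359) (iv F216150)
theorem F225994 : act 6 n50533 = n50533 := d40_1 D50533 (iv D50533) F216152
theorem F225995 : act 7 n50533 = n48364 := d42_1 D50533 (iv D48364) (iv F216153)
def n50534 : Q := act 6 n48357
theorem D50534 : act 6 n48357 = n50534 := rfl
theorem F225996 : act 1 n50534 = n48404 := d13_1 D50534 F216335 (iv F216154)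
theorem F225997 : act 3 n50534 = n48370 := d26_1 D50534 (iv D48370) (iv F216155)
theorem F225998 : act 5 n50534 = n50534 := d35_1 D50534 (iv D50534) (iv D48357) F189746 D48357
theorem F225999 : act 8 n50534 = n48381 := d40_2 F222713 D50534 (iv F222711)
def n50535 : Q := act 9 n48357
theorem D50535 : act 9 n48357 = n50535 := rfl
theorem F226000 : act 1 n50535 = n48408 := d16_1 D50535 (iv D48408) (iv F216154)
theorem F226001 : act 3 n50535 = n48371 := d29_1 D50535 (iv D48371) (iv F216155)
theorem F226002 : act 5 n50535 = n48358 := d38_1 D50535 (iv D48358) D48357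
theorem F226003 : act 7 n50535 = n48365 := d43_1 D50535 (iv D48365) (iv F216156)
def n50536 : Q := act 8 n48358
theorem D50536 : act 8 n48358 = n50536 := rfl
theorem F226004 : act 1 n50536 = n48416 := d15_1 D50536 (iv D48416) (iv F216157)
theorem F226005 : act 4 n50536 = n48359 := d33_1 D50536 (iv D48359) (iv F216159)
theorem F226006 : act 6 n50536 = n50536 := d40_1 D50536 (iv D50536) F216160
theorem F226007 : act 7 n50536 = n48366 := d42_1 D50536 (iv D48366) (iv F216161)
def n50537 : Q := act 5 n48360
theorem D50537 : act 5 n48360 = n50537 := rfl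
theorem F226008 : act 1 n50537 = n48362 := d12_1 D50537 (iv D48362) (iv F216165)
theorem F226009 : act 2 n50537 = n48409 := d19_1 D50537 F216351 (iv F216166)
theorem F226010 : act 3 n50537 = n50537 := d25_1 D50537 (iv D50537) F216167
def n50538 : Q := act 9 n48360
theorem D50538 : act 9 n48360 = n50538 := rfl
theorem F226011 : act 1 n50538 = n48363 := d16_1 D50538 (iv D48363) (iv F216165)
theorem F226012 : act 2 n50538 = n48418 := d23_1 D50538 (iv D48418) (iv F216166)
theorem F226013 : act 3 n50538 = n50538 := d29_1 D50538 (iv D50538) F216167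
theorem F226014 : act 4 n50538 = n48361 := d34_1 D50538 (iv D48361) D48360
theorem F226015 : act 6 n50538 = n48367 := d41_1 D50538 (iv D48367) (iv F216168)
def n50539 : Q := act 8 n48361
theorem D50539 : act 8 n48361 = n50539 := rfl
theorem F226016 : act 1 n50539 = n48364 := d15_1 D50539 (iv D48364) (iv F216169)
theorem F226017 : act 6 n50539 = n48368 := d40_1 D50539 (iv D48368) (iv F216171)
def n50540 : Q := act 9 n48362
theorem D50540 : act 9 n48362 = n50540 := rfl
theorem F226018 : act 2 n50540 = n48365 := d23_1 D50540 (iv D48365) (iv F216172)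
theorem F226019 : act 3 n50540 = n50540 := d29_1 D50540 (iv D50540) F216173
theorem F226020 : act 5 n50540 = n48363 := d38_1 D50540 (iv D48363) D48362
def n50541 : Q := act 8 n48363
theorem D50541 : act 8 n48363 = n50541 := rfl
theorem F226021 : act 2 n50541 = n48366 := d22_1 D50541 (iv D48366) (iv F216174)
theorem F226022 : act 4 n50541 = n48364 := d33_1 D50541 (iv D48364) (iv F216176)
theorem F226023 : act 6 n50541 = n48369 := d40_1 D50541 (iv D48369) (iv F216177)
def n50542 : Q := act 8 n48365
theorem D50542 : act 8 n48365 = n50542 := rfl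
theorem F226024 : act 1 n50542 = n48413 := d15_1 D50542 (iv D48413) (iv F216180)
theorem F226025 : act 5 n50542 = n48366 := d37_1 D50542 (iv D48366) (iv F216182)
def n50543 : Q := act 8 n48367
theorem D50543 : act 8 n48367 = n50543 := rfl
theorem F226026 : act 1 n50543 = n48369 := d15_1 D50543 (iv D48369) (iv F216186)
theorem F226027 : act 2 n50543 = n48421 := d22_1 D50543 (iv D48421) (iv F216187)
theorem F226028 : act 4 n50543 = n48368 := d33_1 D50543 (iv D48368) (iv F216189)
theorem F226029 : act 7 n50543 = n50543 := d42_1 D50543 (iv D50543) F216190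
def n50544 : Q := act 3 n48369
theorem D50544 : act 3 n48369 = n50544 := rfl
theorem F226030 : act 7 n50544 = n50544 := d27_2 F216195 D50544 (iv D50544)
theorem F226031 : act 8 n50544 = n50544 := d28_2 D48369 D50544 (iv D50544) (iv D48369) F189777
def n50545 : Q := act 9 n48370
theorem D50545 : act 9 n48370 = n50545 := rfl
theorem F226032 : act 1 n50545 = n48405 := d16_1 D50545 (iv D48405) (iv F216196)
theorem F226033 : act 2 n50545 = n50545 := d23_1 D50545 (iv D50545) F216197
theorem F226034 : act 5 n50545 = n50545 := d38_1 D50545 (iv D50545) F216198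
theorem F226035 : act 6 n50545 = n48371 := d41_1 D50545 (iv D48371) D48370
def n50546 : Q := act 9 n48372
theorem D50546 : act 9 n48372 = n50546 := rfl
theorem F226036 : act 2 n50546 = n48373 := d23_1 D50546 (iv D48373) D48372
theorem F226037 : act 5 n50546 = n50546 := d38_1 D50546 (iv D50546) F216204
theorem F226038 : act 6 n50546 = n48376 := d41_1 D50546 (iv D48376) (iv F216205)
def n50547 : Q := act 9 n48374
theorem D50547 : act 9 n48374 = n50547 := rfl
theorem F226039 : act 1 n50547 = n48376 := d16_1 D50547 (iv D48376) D48374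
theorem F226040 : act 2 n50547 = n48386 := d23_1 D50547 (iv D48386) (iv F216211)
theorem F226041 : act 5 n50547 = n48384 := d38_1 D50547 (iv D48384) (iv F216212)
theorem F226042 : act 7 n50547 = n48380 := d43_1 D50547 (iv D48380) (iv F216213)
def n50548 : Q := act 3 n48375
theorem D50548 : act 3 n48375 = n50548 := rfl
theorem F226043 : act 5 n50548 = n50548 := d25_2 F216216 D50548 (iv D50548)
theorem F226044 : act 7 n50548 = n48381 := d27_2 (iv F216217) D50548 (iv D48381)
def n50549 : Q := act 9 n48375
theorem D50549 : act 9 n48375 = n50549 := rfl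
theorem F226045 : act 2 n50549 = n48377 := d23_1 D50549 (iv D48377) (iv F216215)
theorem F226046 : act 4 n50549 = n48376 := d34_1 D50549 (iv D48376) D48375
theorem F226047 : act 5 n50549 = n50549 := d38_1 D50549 (iv D50549) F216216
theorem F226048 : act 7 n50549 = n48382 := d43_1 D50549 (iv D48382) (iv F216217)
def n50550 : Q := act 9 n48378
theorem D50550 : act 9 n48378 = n50550 := rfl
theorem F226049 : act 0 n50550 = n48380 := d8_1 D50550 (iv D48380) D48378
theorem F226050 : act 1 n50550 = n48737 := d16_1 D50550 (iv D48737) (iv F216226)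
theorem F226051 : act 2 n50550 = n48387 := d23_1 D50550 (iv D48387) (iv F216227)
theorem F226052 : act 4 n50550 = n48441 := d34_1 D50550 (iv D48441) F216231
theorem F226053 : act 5 n50550 = n48385 := d38_1 D50550 (iv D48385) (iv F216228)
theorem F226054 : act 6 n50550 = n48436 := d41_1 D50550 (iv D48436) (iv F216229)
def n50551 : Q := act 3 n48379
theorem D50551 : act 3 n48379 = n50551 := rfl
theorem F226055 : act 0 n50551 = n48440 := d2_1 D50551 (iv D48440) (iv F216232)
theorem F226056 : act 1 n50551 = n48381 := d10_1 D50551 (iv D48381) (iv F216233)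
theorem F226057 : act 5 n50551 = n50551 := d25_2 F216235 D50551 (iv D50551)
theorem F226058 : act 6 n50551 = n48398 := d26_2 (iv F216236) D50551 (iv D48398)
theorem F226059 : act 8 n50551 = n48404 := d28_2 (iv F216237) D50551 (iv D48404) (iv D45722) (iv F190200)
def n50552 : Q := act 9 n48379
theorem D50552 : act 9 n48379 = n50552 := rfl
theorem F226060 : act 0 n50552 = n48441 := d8_1 D50552 (iv D48441) (iv F216232)
theorem F226061 : act 1 n50552 = n48382 := d16_1 D50552 (iv D48382) (iv F216233)
theorem F226062 : act 2 n50552 = n48388 := d23_1 D50552 (iv D48388) (iv F216234)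
theorem F226063 : act 4 n50552 = n48380 := d34_1 D50552 (iv D48380) D48379
theorem F226064 : act 5 n50552 = n50552 := d38_1 D50552 (iv D50552) F216235
theorem F226065 : act 6 n50552 = n48399 := d41_1 D50552 (iv D48399) (iv F216236)
def n50553 : Q := act 9 n48381
theorem D50553 : act 9 n48381 = n50553 := rfl
theorem F226066 : act 3 n50553 = n48382 := d29_1 D50553 (iv D48382) D48381
theorem F226067 : act 5 n50553 = n50553 := d38_1 D50553 (iv D50553) F216241
def n50554 : Q := act 9 n48383
theorem D50554 : act 9 n48383 = n50554 := rfl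
theorem F226068 : act 0 n50554 = n48384 := d8_1 D50554 (iv D48384) D48383
theorem F226069 : act 1 n50554 = n48738 := d16_1 D50554 (iv D48738) (iv F216245)
theorem F226070 : act 2 n50554 = n48390 := d23_1 D50554 (iv D48390) (iv F216246)
theorem F226071 : act 4 n50554 = n50554 := d34_1 D50554 (iv D50554) F216247
theorem F226072 : act 6 n50554 = n50554 := d41_1 D50554 (iv D50554) F216248
theorem F226073 : act 7 n50554 = n48385 := d43_1 D50554 (iv D48385) (iv F216249)
def n50555 : Q := act 8 n48387
theorem D50555 : act 8 n48387 = n50555 := rfl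
theorem F226074 : act 0 n50555 = n48389 := d7_1 D50555 (iv D48389) (iv F216264)
theorem F226075 : act 1 n50555 = n50555 := d15_1 D50555 (iv D50555) F216265
theorem F226076 : act 4 n50555 = n48548 := d33_1 D50555 F216785 (iv F216266)
theorem F226077 : act 5 n50555 = n48392 := d37_1 D50555 (iv D48392) (iv F216267)
theorem F226078 : act 6 n50555 = n48546 := d40_1 D50555 F216778 (iv F216268)
theorem F226079 : act 9 n50555 = n48545 := d44_2 D48387 D50555 (iv D48545) F204086 (iv F189944)
def n50556 : Q := act 8 n48390
theorem D50556 : act 8 n48390 = n50556 := rfl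
theorem F226080 : act 0 n50556 = n48391 := d7_1 D50556 (iv D48391) (iv F216277)
theorem F226081 : act 1 n50556 = n50556 := d15_1 D50556 (iv D50556) F216278
theorem F226082 : act 4 n50556 = n50556 := d33_1 D50556 (iv D50556) F216279
theorem F226083 : act 6 n50556 = n50556 := d40_1 D50556 (iv D50556) F216280
theorem F226084 : act 7 n50556 = n48392 := d42_1 D50556 (iv D48392) (iv F216281)
theorem F226085 : act 9 n50556 = n48549 := d44_2 D48390 D50556 (iv D48549) (iv D46153) (iv F189968)
theorem F226086 : act 3 n48639 = n50556 := d29_3 F226085 (iv F216791) D48639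
def n50557 : Q := act 2 n48396
theorem D50557 : act 2 n48396 = n50557 := rfl
theorem F226087 : act 0 n50557 = n48437 := d1_1 D50557 (iv D48437) (iv F216307)
theorem F226088 : act 3 n50557 = n48550 := d17_2 D48396 D50557 (iv D48550) (iv D46201) (iv F190195)
theorem F226089 : act 5 n50557 = n48731 := d19_2 (iv F216308) D50557 (iv D48731)
def n50558 : Q := act 4 n48396
theorem D50558 : act 4 n48396 = n50558 := rfl
theorem F226090 : act 0 n50558 = n48438 := d3_1 D50558 (iv D48438) (iv F216307)
theorem F226091 : act 3 n50558 = n48400 := d24_1 D50558 (iv D48400) (iv D45709) (iv F190196) D48396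
def n50559 : Q := act 9 n48396
theorem D50559 : act 9 n48396 = n50559 := rfl
theorem F226092 : act 0 n50559 = n48439 := d8_1 D50559 (iv D48439) (iv F216307)
theorem F226093 : act 3 n50559 = n48397 := d29_1 D50559 (iv D48397) D48396
theorem F226094 : act 5 n50559 = n48732 := d38_1 D50559 (iv D48732) (iv F216308)
def n50560 : Q := act 4 n48398
theorem D50560 : act 4 n48398 = n50560 := rfl
theorem F226095 : act 0 n50560 = n48443 := d3_1 D50560 (iv D48443) (iv F216313)
theorem F226096 : act 7 n50560 = n48400 := d32_2 (iv F216315) D50560 (iv D48400)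
theorem F226097 : act 8 n50560 = n48407 := d33_2 (iv F216316) D50560 (iv D48407)
def n50561 : Q := act 9 n48398
theorem D50561 : act 9 n48398 = n50561 := rfl
theorem F226098 : act 0 n50561 = n48444 := d8_1 D50561 (iv D48444) (iv F216313)
theorem F226099 : act 3 n50561 = n48399 := d29_1 D50561 (iv D48399) D48398
theorem F226100 : act 5 n50561 = n48402 := d38_1 D50561 (iv D48402) (iv F216314)
theorem F226101 : act 7 n50561 = n48401 := d43_1 D50561 (iv D48401) (iv F216315)
def n50562 : Q := act 9 n48400
theorem D50562 : act 9 n48400 = n50562 := rfl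
theorem F226102 : act 0 n50562 = n48449 := d8_1 D50562 (iv D48449) (iv F216321)
theorem F226103 : act 4 n50562 = n48401 := d34_1 D50562 (iv D48401) D48400
def n50563 : Q := act 8 n48401
theorem D50563 : act 8 n48401 = n50563 := rfl
theorem F226104 : act 0 n50563 = n48450 := d7_1 D50563 (iv D48450) (iv F216323)
theorem F226105 : act 5 n50563 = n48403 := d37_1 D50563 (iv D48403) (iv F216325)
theorem F226106 : act 9 n50563 = n48413 := d44_2 D48401 D50563 (iv D48413) (iv D45727) (iv F190208)
def n50564 : Q := act 8 n48402
theorem D50564 : act 8 n48402 = n50564 := rfl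
theorem F226107 : act 0 n50564 = n48455 := d7_1 D50564 (iv D48455) (iv F216326)
theorem F226108 : act 6 n50564 = n50564 := d40_1 D50564 (iv D50564) F216328
theorem F226109 : act 7 n50564 = n48403 := d42_1 D50564 (iv D48403) (iv F216329)
theorem F226110 : act 9 n50564 = n48416 := d44_2 D48402 D50564 (iv D48416) (iv D45730) (iv F190215)
def n50565 : Q := act 2 n48404
theorem D50565 : act 2 n48404 = n50565 := rfl
theorem F226111 : act 0 n50565 = n48474 := d1_1 D50565 (iv D48474) (iv F216333)
theorem F226112 : act 3 n50565 = n48422 := d17_2 D48404 D50565 (iv D48422) (iv D45760) (iv F190256)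
theorem F226113 : act 5 n50565 = n50565 := d19_2 F216334 D50565 (iv D50565)
theorem F226114 : act 6 n50565 = n48406 := d20_2 (iv F216335) D50565 (iv D48406)
def n50566 : Q := act 4 n48404
theorem D50566 : act 4 n48404 = n50566 := rfl
theorem F226115 : act 0 n50566 = n48475 := d3_1 D50566 (iv D48475) (iv F216333)
theorem F226116 : act 6 n50566 = n48407 := d31_2 (iv F216335) D50566 (iv D48407)
def n50567 : Q := act 9 n48404
theorem D50567 : act 9 n48404 = n50567 := rfl
theorem F226117 : act 0 n50567 = n48476 := d8_1 D50567 (iv D48476) (iv F216333)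
theorem F226118 : act 3 n50567 = n48405 := d29_1 D50567 (iv D48405) D48404
theorem F226119 : act 5 n50567 = n50567 := d38_1 D50567 (iv D50567) F216334
theorem F226120 : act 6 n50567 = n48408 := d41_1 D50567 (iv D48408) (iv F216335)
def n50568 : Q := act 1 n48406
theorem D50568 : act 1 n48406 = n50568 := rfl
theorem F226121 : act 3 n50568 = n48424 := d10_2 (iv F216341) D50568 (iv D48424)
theorem F226122 : act 5 n50568 = n48414 := d12_2 (iv F216342) D50568 (iv D48414)
theorem F226123 : act 7 n50568 = n48409 := d14_2 (iv F216343) D50568 (iv D48409)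
def n50569 : Q := act 4 n48406
theorem D50569 : act 4 n48406 = n50569 := rfl
theorem F226124 : act 0 n50569 = n48478 := d3_1 D50569 (iv D48478) (iv F216340)
theorem F226125 : act 2 n50569 = n48407 := d18_1 D50569 (iv D48407) D48406
theorem F226126 : act 7 n50569 = n48410 := d32_2 (iv F216343) D50569 (iv D48410)
def n50570 : Q := act 9 n48406
theorem D50570 : act 9 n48406 = n50570 := rfl
theorem F226127 : act 0 n50570 = n48479 := d8_1 D50570 (iv D48479) (iv F216340)
theorem F226128 : act 2 n50570 = n48408 := d23_1 D50570 (iv D48408) D48406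
theorem F226129 : act 3 n50570 = n48426 := d29_1 D50570 (iv D48426) (iv F216341)
theorem F226130 : act 5 n50570 = n48415 := d38_1 D50570 (iv D48415) (iv F216342)
theorem F226131 : act 7 n50570 = n48411 := d43_1 D50570 (iv D48411) (iv F216343)
def n50571 : Q := act 9 n48407
theorem D50571 : act 9 n48407 = n50571 := rfl
theorem F226132 : act 0 n50571 = n48481 := d8_1 D50571 (iv D48481) (iv F216344)
theorem F226133 : act 4 n50571 = n48408 := d34_1 D50571 (iv D48408) D48407
theorem F226134 : act 7 n50571 = n48412 := d43_1 D50571 (iv D48412) (iv F216345)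
def n50572 : Q := act 8 n48408
theorem D50572 : act 8 n48408 = n50572 := rfl
theorem F226135 : act 0 n50572 = n48482 := d7_1 D50572 (iv D48482) (iv F216346)
theorem F226136 : act 5 n50572 = n48416 := d37_1 D50572 (iv D48416) (iv F216348)
theorem F226137 : act 7 n50572 = n48413 := d42_1 D50572 (iv D48413) (iv F216349)
def n50573 : Q := act 0 n48409
theorem D50573 : act 0 n48409 = n50573 := rfl
theorem F226138 : act 1 n50573 = n48483 := d0_2 D48409 D50573 (iv D48483) (iv D45812) (iv F190266)
theorem F226139 : act 3 n50573 = n48428 := d2_2 (iv F216350) D50573 (iv D48428)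
theorem F226140 : act 5 n50573 = n48417 := d4_2 (iv F216351) D50573 (iv D48417)
def n50574 : Q := act 4 n48409
theorem D50574 : act 4 n48409 = n50574 := rfl
theorem F226141 : act 1 n50574 = n48410 := d11_1 D50574 (iv D48410) D48409
def n50575 : Q := act 9 n48409
theorem D50575 : act 9 n48409 = n50575 := rfl
theorem F226142 : act 1 n50575 = n48411 := d16_1 D50575 (iv D48411) D48409
theorem F226143 : act 3 n50575 = n48430 := d29_1 D50575 (iv D48430) (iv F216350)
theorem F226144 : act 5 n50575 = n48418 := d38_1 D50575 (iv D48418) (iv F216351)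
def n50576 : Q := act 3 n48410
theorem D50576 : act 3 n48410 = n50576 := rfl
theorem F226145 : act 0 n50576 = n48486 := d2_1 D50576 (iv D48486) (iv F216352)
theorem F226146 : act 4 n50576 = n48431 := d24_2 D48410 D50576 (iv D48431) (iv D45766) (iv F190267)
def n50577 : Q := act 9 n48410
theorem D50577 : act 9 n48410 = n50577 := rfl
theorem F226147 : act 0 n50577 = n48488 := d8_1 D50577 (iv D48488) (iv F216352)
theorem F226148 : act 2 n50577 = n48412 := d23_1 D50577 (iv D48412) (iv F216353)
theorem F226149 : act 4 n50577 = n48411 := d34_1 D50577 (iv D48411) D48410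
def n50578 : Q := act 8 n48411
theorem D50578 : act 8 n48411 = n50578 := rfl
theorem F226150 : act 0 n50578 = n48489 := d7_1 D50578 (iv D48489) (iv F216354)
theorem F226151 : act 2 n50578 = n48413 := d22_1 D50578 (iv D48413) (iv F216355)
theorem F226152 : act 5 n50578 = n48419 := d37_1 D50578 (iv D48419) (iv F216357)
def n50579 : Q := act 8 n48412
theorem D50579 : act 8 n48412 = n50579 := rfl
theorem F226153 : act 0 n50579 = n48492 := d7_1 D50579 (iv D48492) (iv F216358)
theorem F226154 : act 4 n50579 = n48413 := d33_1 D50579 (iv D48413) (iv F216359)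
def n50580 : Q := act 0 n48414
theorem D50580 : act 0 n48414 = n50580 := rfl
theorem F226155 : act 1 n50580 = n48493 := d0_2 D48414 D50580 (iv D48493) (iv D45818) (iv F190273)
theorem F226156 : act 3 n50580 = n48433 := d2_2 (iv F216362) D50580 (iv D48433)
theorem F226157 : act 6 n50580 = n50580 := d5_2 F216363 D50580 (iv D50580)
theorem F226158 : act 7 n50580 = n48417 := d6_2 (iv F216364) D50580 (iv D48417)
def n50581 : Q := act 9 n48414
theorem D50581 : act 9 n48414 = n50581 := rfl
theorem F226159 : act 1 n50581 = n48415 := d16_1 D50581 (iv D48415) D48414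
theorem F226160 : act 3 n50581 = n48434 := d29_1 D50581 (iv D48434) (iv F216362)
theorem F226161 : act 6 n50581 = n50581 := d41_1 D50581 (iv D50581) F216363
theorem F226162 : act 7 n50581 = n48418 := d43_1 D50581 (iv D48418) (iv F216364)
def n50582 : Q := act 8 n48415
theorem D50582 : act 8 n48415 = n50582 := rfl
theorem F226163 : act 0 n50582 = n48498 := d7_1 D50582 (iv D48498) (iv F216365)
theorem F226164 : act 2 n50582 = n48416 := d22_1 D50582 (iv D48416) (iv F216366)
theorem F226165 : act 6 n50582 = n50582 := d40_1 D50582 (iv D50582) F216368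
theorem F226166 : act 7 n50582 = n48419 := d42_1 D50582 (iv D48419) (iv F216369)
def n50583 : Q := act 9 n48417
theorem D50583 : act 9 n48417 = n50583 := rfl
theorem F226167 : act 0 n50583 = n48418 := d8_1 D50583 (iv D48418) D48417
theorem F226168 : act 1 n50583 = n48503 := d16_1 D50583 (iv D48503) (iv F216373)
theorem F226169 : act 3 n50583 = n48435 := d29_1 D50583 (iv D48435) (iv F216374)
theorem F226170 : act 6 n50583 = n48420 := d41_1 D50583 (iv D48420) (iv F216375)
def n50584 : Q := act 8 n48418
theorem D50584 : act 8 n48418 = n50584 := rfl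
theorem F226171 : act 1 n50584 = n48419 := d15_1 D50584 (iv D48419) (iv F216376)
theorem F226172 : act 6 n50584 = n48421 := d40_1 D50584 (iv D48421) (iv F216378)
def n50585 : Q := act 8 n48420
theorem D50585 : act 8 n48420 = n50585 := rfl
theorem F226173 : act 0 n50585 = n48421 := d7_1 D50585 (iv D48421) (iv F216382)
theorem F226174 : act 1 n50585 = n48515 := d15_1 D50585 (iv D48515) (iv F216383)
theorem F226175 : act 7 n50585 = n50585 := d42_1 D50585 (iv D50585) F216385
def n50586 : Q := act 9 n48422
theorem D50586 : act 9 n48422 = n50586 := rfl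
theorem F226176 : act 0 n50586 = n48530 := d8_1 D50586 (iv D48530) (iv F216388)
theorem F226177 : act 2 n50586 = n48423 := d23_1 D50586 (iv D48423) D48422
theorem F226178 : act 5 n50586 = n50586 := d38_1 D50586 (iv D50586) F216389
theorem F226179 : act 6 n50586 = n48426 := d41_1 D50586 (iv D48426) (iv F216390)
def n50587 : Q := act 9 n48424
theorem D50587 : act 9 n48424 = n50587 := rfl
theorem F226180 : act 1 n50587 = n48426 := d16_1 D50587 (iv D48426) D48424
theorem F226181 : act 2 n50587 = n50587 := d23_1 D50587 (iv D50587) F216397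
theorem F226182 : act 5 n50587 = n48434 := d38_1 D50587 (iv D48434) (iv F216398)
theorem F226183 : act 7 n50587 = n48430 := d43_1 D50587 (iv D48430) (iv F216399)
def n50588 : Q := act 9 n48425
theorem D50588 : act 9 n48425 = n50588 := rfl
theorem F226184 : act 0 n50588 = n48533 := d8_1 D50588 (iv D48533) (iv F216401)
theorem F226185 : act 2 n50588 = n48427 := d23_1 D50588 (iv D48427) (iv F216402)
theorem F226186 : act 4 n50588 = n48426 := d34_1 D50588 (iv D48426) D48425
theorem F226187 : act 5 n50588 = n48542 := d38_1 D50588 F216761 (iv F216403)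
theorem F226188 : act 7 n50588 = n48432 := d43_1 D50588 (iv D48432) (iv F216404)
theorem F226189 : act 8 n50588 = n48535 := d44_1 D50588 (iv D48535) F190737 (iv F204688) (iv F216405)
def n50589 : Q := act 9 n48428
theorem D50589 : act 9 n48428 = n50589 := rfl
theorem F226190 : act 0 n50589 = n48430 := d8_1 D50589 (iv D48430) D48428
theorem F226191 : act 1 n50589 = n48535 := d16_1 D50589 (iv D48535) (iv F216416)
theorem F226192 : act 2 n50589 = n50589 := d23_1 D50589 (iv D50589) F216417
theorem F226193 : act 5 n50589 = n48435 := d38_1 D50589 (iv D48435) (iv F216418)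
def n50590 : Q := act 3 n48429
theorem D50590 : act 3 n48429 = n50590 := rfl
theorem F226194 : act 1 n50590 = n48431 := d10_1 D50590 (iv D48431) (iv F216420)
theorem F226195 : act 5 n50590 = n48670 := d25_2 (iv F216422) D50590 (iv D48670)
def n50591 : Q := act 9 n48429
theorem D50591 : act 9 n48429 = n50591 := rfl
theorem F226196 : act 1 n50591 = n48432 := d16_1 D50591 (iv D48432) (iv F216420)
theorem F226197 : act 2 n50591 = n50591 := d23_1 D50591 (iv D50591) F216421
theorem F226198 : act 4 n50591 = n48430 := d34_1 D50591 (iv D48430) D48429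
theorem F226199 : act 5 n50591 = n48671 := d38_1 D50591 (iv D48671) (iv F216422)
def n50592 : Q := act 8 n48431
theorem D50592 : act 8 n48431 = n50592 := rfl
theorem F226200 : act 0 n50592 = n48537 := d7_1 D50592 (iv D48537) (iv F216427)
theorem F226201 : act 3 n50592 = n48552 := d28_1 D50592 (iv D48552) (iv D46247) (iv F190422) D48431
theorem F226202 : act 5 n50592 = n48673 := d37_1 D50592 (iv D48673) (iv F216428)
def n50593 : Q := act 9 n48431
theorem D50593 : act 9 n48431 = n50593 := rfl
theorem F226203 : act 0 n50593 = n48538 := d8_1 D50593 (iv D48538) (iv F216427)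
theorem F226204 : act 3 n50593 = n48432 := d29_1 D50593 (iv D48432) D48431
theorem F226205 : act 5 n50593 = n48674 := d38_1 D50593 (iv D48674) (iv F216428)
def n50594 : Q := act 9 n48433
theorem D50594 : act 9 n48433 = n50594 := rfl
theorem F226206 : act 0 n50594 = n48434 := d8_1 D50594 (iv D48434) D48433
theorem F226207 : act 1 n50594 = n48540 := d16_1 D50594 (iv D48540) (iv F216433)
theorem F226208 : act 2 n50594 = n50594 := d23_1 D50594 (iv D50594) F216434
theorem F226209 : act 4 n50594 = n48672 := d34_1 D50594 F217276 (iv F216435)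
theorem F226210 : act 6 n50594 = n50594 := d41_1 D50594 (iv D50594) F216436
theorem F226211 : act 7 n50594 = n48435 := d43_1 D50594 (iv D48435) (iv F216437)
theorem F226212 : act 8 n50594 = n48671 := d44_1 D50594 (iv D48671) F207308 F206669 (iv F216438)
def n50595 : Q := act 1 n48437
theorem D50595 : act 1 n48437 = n50595 := rfl
theorem F226213 : act 3 n50595 = n48556 := d10_2 (iv F216454) D50595 (iv D48556)
theorem F226214 : act 5 n50595 = n48733 := d12_2 (iv F216455) D50595 (iv D48733)
def n50596 : Q := act 4 n48437
theorem D50596 : act 4 n48437 = n50596 := rfl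
theorem F226215 : act 2 n50596 = n48438 := d18_1 D50596 (iv D48438) D48437
def n50597 : Q := act 9 n48437
theorem D50597 : act 9 n48437 = n50597 := rfl
theorem F226216 : act 2 n50597 = n48439 := d23_1 D50597 (iv D48439) D48437
theorem F226217 : act 3 n50597 = n48558 := d29_1 D50597 (iv D48558) (iv F216454)
theorem F226218 : act 5 n50597 = n48734 := d38_1 D50597 (iv D48734) (iv F216455)
def n50598 : Q := act 9 n48438
theorem D50598 : act 9 n48438 = n50598 := rfl
theorem F226219 : act 3 n50598 = n48449 := d29_1 D50598 (iv D48449) (iv F216456)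
theorem F226220 : act 4 n50598 = n48439 := d34_1 D50598 (iv D48439) D48438
def n50599 : Q := act 8 n48439
theorem D50599 : act 8 n48439 = n50599 := rfl
theorem F226221 : act 5 n50599 = n48735 := d37_1 D50599 (iv D48735) (iv F216458)
def n50600 : Q := act 2 n48440
theorem D50600 : act 2 n48440 = n50600 := rfl
theorem F226222 : act 3 n50600 = n48561 := d17_2 D48440 D50600 (iv D48561) (iv D46267) (iv F190487)
theorem F226223 : act 5 n50600 = n50600 := d19_2 F216459 D50600 (iv D50600)
theorem F226224 : act 6 n50600 = n48442 := d20_2 (iv F216460) D50600 (iv D48442)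
theorem F226225 : act 8 n50600 = n48474 := d22_2 (iv F216461) D50600 (iv D48474)
def n50601 : Q := act 4 n48440
theorem D50601 : act 4 n48440 = n50601 := rfl
theorem F226226 : act 6 n50601 = n48443 := d31_2 (iv F216460) D50601 (iv D48443)
theorem F226227 : act 8 n50601 = n48475 := d33_2 (iv F216461) D50601 (iv D48475)
def n50602 : Q := act 9 n48440
theorem D50602 : act 9 n48440 = n50602 := rfl
theorem F226228 : act 3 n50602 = n48441 := d29_1 D50602 (iv D48441) D48440
theorem F226229 : act 5 n50602 = n50602 := d38_1 D50602 (iv D50602) F216459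
theorem F226230 : act 6 n50602 = n48444 := d41_1 D50602 (iv D48444) (iv F216460)
def n50603 : Q := act 1 n48442
theorem D50603 : act 1 n48442 = n50603 := rfl
theorem F226231 : act 3 n50603 = n48563 := d10_2 (iv F216465) D50603 (iv D48563)
theorem F226232 : act 5 n50603 = n48451 := d12_2 (iv F216466) D50603 (iv D48451)
theorem F226233 : act 7 n50603 = n48445 := d14_2 (iv F216467) D50603 (iv D48445)
theorem F226234 : act 8 n50603 = n48477 := d15_2 (iv F216468) D50603 (iv D48477)
def n50604 : Q := act 4 n48442
theorem D50604 : act 4 n48442 = n50604 := rfl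
theorem F226235 : act 2 n50604 = n48443 := d18_1 D50604 (iv D48443) D48442
theorem F226236 : act 7 n50604 = n48446 := d32_2 (iv F216467) D50604 (iv D48446)
theorem F226237 : act 8 n50604 = n48478 := d33_2 (iv F216468) D50604 (iv D48478)
def n50605 : Q := act 9 n48442
theorem D50605 : act 9 n48442 = n50605 := rfl
theorem F226238 : act 2 n50605 = n48444 := d23_1 D50605 (iv D48444) D48442
theorem F226239 : act 3 n50605 = n48565 := d29_1 D50605 (iv D48565) (iv F216465)
theorem F226240 : act 5 n50605 = n48453 := d38_1 D50605 (iv D48453) (iv F216466)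
theorem F226241 : act 7 n50605 = n48447 := d43_1 D50605 (iv D48447) (iv F216467)
def n50606 : Q := act 9 n48443
theorem D50606 : act 9 n48443 = n50606 := rfl
theorem F226242 : act 4 n50606 = n48444 := d34_1 D50606 (iv D48444) D48443
theorem F226243 : act 7 n50606 = n48449 := d43_1 D50606 (iv D48449) (iv F216469)
def n50607 : Q := act 8 n48444
theorem D50607 : act 8 n48444 = n50607 := rfl
theorem F226244 : act 5 n50607 = n48455 := d37_1 D50607 (iv D48455) (iv F216472)
theorem F226245 : act 7 n50607 = n48450 := d42_1 D50607 (iv D48450) (iv F216473)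
theorem F226246 : act 9 n50607 = n48482 := d44_2 D48444 D50607 (iv D48482) (iv D45811) (iv F190492)
def n50608 : Q := act 0 n48445
theorem D50608 : act 0 n48445 = n50608 := rfl
theorem F226247 : act 3 n50608 = n48567 := d2_2 (iv F216474) D50608 (iv D48567)
theorem F226248 : act 5 n50608 = n48456 := d4_2 (iv F216475) D50608 (iv D48456)
theorem F226249 : act 8 n50608 = n48483 := d7_2 (iv F216476) D50608 (iv D48483)
def n50609 : Q := act 4 n48445
theorem D50609 : act 4 n48445 = n50609 := rfl
theorem F226250 : act 1 n50609 = n48446 := d11_1 D50609 (iv D48446) D48445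
theorem F226251 : act 8 n50609 = n48484 := d33_2 (iv F216476) D50609 (iv D48484)
def n50610 : Q := act 9 n48445
theorem D50610 : act 9 n48445 = n50610 := rfl
theorem F226252 : act 1 n50610 = n48447 := d16_1 D50610 (iv D48447) D48445
theorem F226253 : act 3 n50610 = n48569 := d29_1 D50610 (iv D48569) (iv F216474)
theorem F226254 : act 5 n50610 = n48458 := d38_1 D50610 (iv D48458) (iv F216475)
def n50611 : Q := act 3 n48446
theorem D50611 : act 3 n48446 = n50611 := rfl
theorem F226255 : act 4 n50611 = n48570 := d24_2 D48446 D50611 (iv D48570) (iv D46273) (iv F190496)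
def n50612 : Q := act 5 n48446
theorem D50612 : act 5 n48446 = n50612 := rfl
theorem F226256 : act 2 n50612 = n48448 := d19_1 D50612 (iv D48448) (iv F216477)
theorem F226257 : act 4 n50612 = n48459 := d30_1 D50612 (iv D48459) (iv D45793) (iv F190497) D48446
theorem F226258 : act 8 n50612 = n48487 := d37_2 (iv F216478) D50612 (iv D48487)
def n50613 : Q := act 9 n48446
theorem D50613 : act 9 n48446 = n50613 := rfl
theorem F226259 : act 2 n50613 = n48449 := d23_1 D50613 (iv D48449) (iv F216477)
theorem F226260 : act 4 n50613 = n48447 := d34_1 D50613 (iv D48447) D48446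
def n50614 : Q := act 8 n48447
theorem D50614 : act 8 n48447 = n50614 := rfl
theorem F226261 : act 2 n50614 = n48450 := d22_1 D50614 (iv D48450) (iv F216479)
theorem F226262 : act 5 n50614 = n48461 := d37_1 D50614 (iv D48461) (iv F216481)
theorem F226263 : act 9 n50614 = n48489 := d44_2 D48447 D50614 (iv D48489) (iv D45814) (iv F190498)
def n50615 : Q := act 6 n48448
theorem D50615 : act 6 n48448 = n50615 := rfl
theorem F226264 : act 4 n50615 = n48462 := d31_1 D50615 (iv D48462) (iv F216482)
theorem F226265 : act 8 n50615 = n48490 := d40_2 (iv F216483) D50615 (iv D48490)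
def n50616 : Q := act 9 n48448
theorem D50616 : act 9 n48448 = n50616 := rfl
theorem F226266 : act 4 n50616 = n48463 := d34_1 D50616 (iv D48463) (iv F216482)
theorem F226267 : act 5 n50616 = n48449 := d38_1 D50616 (iv D48449) D48448
def n50617 : Q := act 8 n48449
theorem D50617 : act 8 n48449 = n50617 := rfl
theorem F226268 : act 4 n50617 = n48450 := d33_1 D50617 (iv D48450) (iv F216484)
theorem F226269 : act 9 n50617 = n48492 := d44_2 D48449 D50617 (iv D48492) (iv D45816) (iv F190499)
def n50618 : Q := act 0 n48451
theorem D50618 : act 0 n48451 = n50618 := rfl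
theorem F226270 : act 3 n50618 = n48572 := d2_2 (iv F216487) D50618 (iv D48572)
theorem F226271 : act 6 n50618 = n50618 := d5_2 F216488 D50618 (iv D50618)
theorem F226272 : act 7 n50618 = n48456 := d6_2 (iv F216489) D50618 (iv D48456)
theorem F226273 : act 8 n50618 = n48493 := d7_2 (iv F216490) D50618 (iv D48493)
def n50619 : Q := act 4 n48451
theorem D50619 : act 4 n48451 = n50619 := rfl
theorem F226274 : act 1 n50619 = n48452 := d11_1 D50619 (iv D48452) D48451
theorem F226275 : act 2 n50619 = n48733 := d18_1 D50619 (iv F224850) F224848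
theorem F226276 : act 3 n50619 = n50619 := d24_1 D50619 (iv D50619) F216487 F192312 (iv F216487)
theorem F226277 : act 6 n50619 = n50619 := d31_2 F216488 D50619 (iv D50619)
theorem F226278 : act 7 n50619 = n48457 := d32_2 (iv F216489) D50619 (iv D48457)
theorem F226279 : act 8 n50619 = n48494 := d33_2 (iv F216490) D50619 (iv D48494)
def n50620 : Q := act 9 n48451
theorem D50620 : act 9 n48451 = n50620 := rfl
theorem F226280 : act 1 n50620 = n48453 := d16_1 D50620 (iv D48453) D48451
theorem F226281 : act 3 n50620 = n48573 := d29_1 D50620 (iv D48573) (iv F216487)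
theorem F226282 : act 6 n50620 = n50620 := d41_1 D50620 (iv D50620) F216488
theorem F226283 : act 7 n50620 = n48458 := d43_1 D50620 (iv D48458) (iv F216489)
def n50621 : Q := act 9 n48452
theorem D50621 : act 9 n48452 = n50621 := rfl
theorem F226284 : act 2 n50621 = n48454 := d23_1 D50621 (iv D48454) (iv F216491)
theorem F226285 : act 3 n50621 = n50621 := d29_1 D50621 (iv D50621) F216492
theorem F226286 : act 4 n50621 = n48453 := d34_1 D50621 (iv D48453) D48452
theorem F226287 : act 6 n50621 = n50621 := d41_1 D50621 (iv D50621) F216493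
theorem F226288 : act 7 n50621 = n48460 := d43_1 D50621 (iv D48460) (iv F216494)
def n50622 : Q := act 8 n48453
theorem D50622 : act 8 n48453 = n50622 := rfl
theorem F226289 : act 2 n50622 = n48455 := d22_1 D50622 (iv D48455) (iv F216496)
theorem F226290 : act 6 n50622 = n50622 := d40_1 D50622 (iv D50622) F216498
theorem F226291 : act 7 n50622 = n48461 := d42_1 D50622 (iv D48461) (iv F216499)
theorem F226292 : act 9 n50622 = n48498 := d44_2 D48453 D50622 (iv D48498) (iv D45820) (iv F190505)
def n50623 : Q := act 8 n48454
theorem D50623 : act 8 n48454 = n50623 := rfl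
theorem F226293 : act 1 n50623 = n48735 := d15_1 D50623 (iv D48735) (iv F216500)
theorem F226294 : act 4 n50623 = n48455 := d33_1 D50623 (iv D48455) (iv F216502)
theorem F226295 : act 6 n50623 = n50623 := d40_1 D50623 (iv D50623) F216503
theorem F226296 : act 7 n50623 = n48464 := d42_1 D50623 (iv D48464) (iv F216504)
theorem F226297 : act 9 n50623 = n48501 := d44_2 D48454 D50623 (iv D48501) (iv D45822) (iv F190509)
def n50624 : Q := act 9 n48456
theorem D50624 : act 9 n48456 = n50624 := rfl
theorem F226298 : act 0 n50624 = n48458 := d8_1 D50624 (iv D48458) D48456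
theorem F226299 : act 3 n50624 = n48574 := d29_1 D50624 (iv D48574) (iv F216508)
theorem F226300 : act 6 n50624 = n48465 := d41_1 D50624 (iv D48465) (iv F216509)
def n50625 : Q := act 5 n48457
theorem D50625 : act 5 n48457 = n50625 := rfl
theorem F226301 : act 1 n50625 = n48459 := d12_1 D50625 (iv D48459) (iv F216511)
theorem F226302 : act 3 n50625 = n50625 := d25_1 D50625 (iv D50625) F216512
theorem F226303 : act 8 n50625 = n48504 := d37_2 (iv F216514) D50625 (iv D48504)
def n50626 : Q := act 9 n48457
theorem D50626 : act 9 n48457 = n50626 := rfl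
theorem F226304 : act 1 n50626 = n48460 := d16_1 D50626 (iv D48460) (iv F216511)
theorem F226305 : act 3 n50626 = n50626 := d29_1 D50626 (iv D50626) F216512
theorem F226306 : act 4 n50626 = n48458 := d34_1 D50626 (iv D48458) D48457
theorem F226307 : act 6 n50626 = n48466 := d41_1 D50626 (iv D48466) (iv F216513)
def n50627 : Q := act 8 n48458
theorem D50627 : act 8 n48458 = n50627 := rfl
theorem F226308 : act 1 n50627 = n48461 := d15_1 D50627 (iv D48461) (iv F216515)
theorem F226309 : act 6 n50627 = n48467 := d40_1 D50627 (iv D48467) (iv F216517)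
theorem F226310 : act 9 n50627 = n48506 := d44_2 D48458 D50627 (iv D48506) (iv D45826) (iv F190515)
def n50628 : Q := act 6 n48459
theorem D50628 : act 6 n48459 = n50628 := rfl
theorem F226311 : act 2 n50628 = n48462 := d20_1 D50628 (iv D48462) (iv F216518)
theorem F226312 : act 3 n50628 = n50628 := d26_1 D50628 (iv D50628) F216519
theorem F226313 : act 5 n50628 = n48468 := d35_1 D50628 (iv D48468) (iv D45801) (iv F190518) D48459
theorem F226314 : act 8 n50628 = n48507 := d40_2 (iv F216520) D50628 (iv D48507)
def n50629 : Q := act 9 n48459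
theorem D50629 : act 9 n48459 = n50629 := rfl
theorem F226315 : act 2 n50629 = n48463 := d23_1 D50629 (iv D48463) (iv F216518)
theorem F226316 : act 3 n50629 = n50629 := d29_1 D50629 (iv D50629) F216519
theorem F226317 : act 5 n50629 = n48460 := d38_1 D50629 (iv D48460) D48459
def n50630 : Q := act 8 n48460
theorem D50630 : act 8 n48460 = n50630 := rfl
theorem F226318 : act 2 n50630 = n48464 := d22_1 D50630 (iv D48464) (iv F216521)
theorem F226319 : act 4 n50630 = n48461 := d33_1 D50630 (iv D48461) (iv F216523)
theorem F226320 : act 6 n50630 = n48470 := d40_1 D50630 (iv D48470) (iv F216524)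
theorem F226321 : act 9 n50630 = n48509 := d44_2 D48460 D50630 (iv D48509) (iv D45828) (iv F190519)
def n50631 : Q := act 7 n48462
theorem D50631 : act 7 n48462 = n50631 := rfl
theorem F226322 : act 3 n50631 = n48736 := d27_1 D50631 (iv D48736) (iv F216528)
theorem F226323 : act 5 n50631 = n48471 := d36_1 D50631 (iv D48471) (iv F216529)
theorem F226324 : act 8 n50631 = n48511 := d42_2 (iv F216530) D50631 (iv D48511)
def n50632 : Q := act 9 n48462
theorem D50632 : act 9 n48462 = n50632 := rfl
theorem F226325 : act 3 n50632 = n48737 := d29_1 D50632 (iv D48737) (iv F216528)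
theorem F226326 : act 5 n50632 = n48472 := d38_1 D50632 (iv D48472) (iv F216529)
theorem F226327 : act 6 n50632 = n48463 := d41_1 D50632 (iv D48463) D48462
def n50633 : Q := act 8 n48463
theorem D50633 : act 8 n48463 = n50633 := rfl
theorem F226328 : act 5 n50633 = n48464 := d37_1 D50633 (iv D48464) (iv F216532)
theorem F226329 : act 9 n50633 = n48513 := d44_2 D48463 D50633 (iv D48513) (iv D45831) (iv F190524)
def n50634 : Q := act 8 n48465
theorem D50634 : act 8 n48465 = n50634 := rfl
theorem F226330 : act 0 n50634 = n48467 := d7_1 D50634 (iv D48467) (iv F216536)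
theorem F226331 : act 7 n50634 = n50634 := d42_1 D50634 (iv D50634) F216538
theorem F226332 : act 9 n50634 = n48515 := d44_2 D48465 D50634 (iv D48515) (iv D45834) (iv F190532)
def n50635 : Q := act 8 n48466
theorem D50635 : act 8 n48466 = n50635 := rfl
theorem F226333 : act 1 n50635 = n48470 := d15_1 D50635 (iv D48470) (iv F216539)
theorem F226334 : act 4 n50635 = n48467 := d33_1 D50635 (iv D48467) (iv F216541)
theorem F226335 : act 7 n50635 = n50635 := d42_1 D50635 (iv D50635) F216542
theorem F226336 : act 9 n50635 = n48518 := d44_2 D48466 D50635 (iv D48518) (iv D45836) (iv F190536)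
def n50636 : Q := act 7 n48468
theorem D50636 : act 7 n48468 = n50636 := rfl
theorem F226337 : act 2 n50636 = n48471 := d21_1 D50636 (iv D48471) (iv F216546)
theorem F226338 : act 3 n50636 = n50636 := d27_1 D50636 (iv D50636) F216547
theorem F226339 : act 6 n50636 = n50636 := d39_1 D50636 (iv D50636) (iv D48468) F190542 D48468
theorem F226340 : act 8 n50636 = n48520 := d42_2 (iv F216548) D50636 (iv D48520)
def n50637 : Q := act 9 n48468
theorem D50637 : act 9 n48468 = n50637 := rfl
theorem F226341 : act 2 n50637 = n48472 := d23_1 D50637 (iv D48472) (iv F216546)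
theorem F226342 : act 3 n50637 = n50637 := d29_1 D50637 (iv D50637) F216547
theorem F226343 : act 6 n50637 = n48469 := d41_1 D50637 (iv D48469) D48468
def n50638 : Q := act 8 n48469
theorem D50638 : act 8 n48469 = n50638 := rfl
theorem F226344 : act 2 n50638 = n48473 := d22_1 D50638 (iv D48473) (iv F216549)
theorem F226345 : act 5 n50638 = n48470 := d37_1 D50638 (iv D48470) (iv F216551)
theorem F226346 : act 7 n50638 = n50638 := d42_1 D50638 (iv D50638) F216552
theorem F226347 : act 9 n50638 = n48522 := d44_2 D48469 D50638 (iv D48522) (iv D45839) (iv F190543)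
def n50639 : Q := act 3 n48470
theorem D50639 : act 3 n48470 = n50639 := rfl
theorem F226348 : act 7 n50639 = n50639 := d27_2 F216555 D50639 (iv D50639)
theorem F226349 : act 8 n50639 = n50639 := d28_2 D48470 D50639 (iv D50639) (iv D48470) F190545
theorem F226350 : act 9 n50639 = n48523 := d29_2 (iv F216556) D50639 (iv D48523)
def n50640 : Q := act 9 n48471
theorem D50640 : act 9 n48471 = n50640 := rfl
theorem F226351 : act 3 n50640 = n48738 := d29_1 D50640 (iv D48738) (iv F216557)
theorem F226352 : act 6 n50640 = n50640 := d41_1 D50640 (iv D50640) F216558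
theorem F226353 : act 7 n50640 = n48472 := d43_1 D50640 (iv D48472) D48471
def n50641 : Q := act 8 n48472
theorem D50641 : act 8 n48472 = n50641 := rfl
theorem F226354 : act 6 n50641 = n48473 := d40_1 D50641 (iv D48473) (iv F216561)
theorem F226355 : act 9 n50641 = n48526 := d44_2 D48472 D50641 (iv D48526) (iv D45843) (iv F190552)
def n50642 : Q := act 4 n48474
theorem D50642 : act 4 n48474 = n50642 := rfl
theorem F226356 : act 2 n50642 = n48475 := d18_1 D50642 (iv D48475) D48474
theorem F226357 : act 6 n50642 = n48478 := d31_2 (iv F216567) D50642 (iv D48478)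
def n50643 : Q := act 9 n48474
theorem D50643 : act 9 n48474 = n50643 := rfl
theorem F226358 : act 2 n50643 = n48476 := d23_1 D50643 (iv D48476) D48474
theorem F226359 : act 3 n50643 = n48530 := d29_1 D50643 (iv D48530) (iv F216565)
theorem F226360 : act 5 n50643 = n50643 := d38_1 D50643 (iv D50643) F216566
theorem F226361 : act 6 n50643 = n48479 := d41_1 D50643 (iv D48479) (iv F216567)
def n50644 : Q := act 5 n48475
theorem D50644 : act 5 n48475 = n50644 := rfl
theorem F226362 : act 4 n50644 = n50644 := d30_1 D50644 (iv D50644) (iv D48475) F190559 D48475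
def n50645 : Q := act 9 n48475
theorem D50645 : act 9 n48475 = n50645 := rfl
theorem F226363 : act 4 n50645 = n48476 := d34_1 D50645 (iv D48476) D48475
theorem F226364 : act 6 n50645 = n48481 := d41_1 D50645 (iv D48481) (iv F216568)
def n50646 : Q := act 8 n48476
theorem D50646 : act 8 n48476 = n50646 := rfl
theorem F226365 : act 5 n50646 = n50646 := d37_1 D50646 (iv D50646) F216570
theorem F226366 : act 6 n50646 = n48482 := d40_1 D50646 (iv D48482) (iv F216571)
def n50647 : Q := act 4 n48477
theorem D50647 : act 4 n48477 = n50647 := rfl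
theorem F226367 : act 1 n50647 = n48478 := d11_1 D50647 (iv D48478) D48477
theorem F226368 : act 3 n50647 = n48577 := d24_1 D50647 (iv D48577) (iv D46331) (iv F204588) (iv F216572)
theorem F226369 : act 7 n50647 = n48484 := d32_2 (iv F216574) D50647 (iv D48484)
def n50648 : Q := act 9 n48477
theorem D50648 : act 9 n48477 = n50648 := rfl
theorem F226370 : act 1 n50648 = n48479 := d16_1 D50648 (iv D48479) D48477
theorem F226371 : act 3 n50648 = n48531 := d29_1 D50648 (iv D48531) (iv F216572)
theorem F226372 : act 5 n50648 = n48495 := d38_1 D50648 (iv D48495) (iv F216573)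
theorem F226373 : act 7 n50648 = n48485 := d43_1 D50648 (iv D48485) (iv F216574)
def n50649 : Q := act 3 n48478
theorem D50649 : act 3 n48478 = n50649 := rfl
theorem F226374 : act 1 n50649 = n48577 := d10_1 D50649 (iv F226368) F226367
theorem F226375 : act 4 n50649 = n48532 := d24_2 D48478 D50649 (iv D48532) (iv D45866) (iv F190564)
theorem F226376 : act 7 n50649 = n48486 := d27_2 (iv F216576) D50649 (iv D48486)
def n50650 : Q := act 5 n48478
theorem D50650 : act 5 n48478 = n50650 := rfl
theorem F226377 : act 2 n50650 = n48480 := d19_1 D50650 (iv D48480) (iv F216575)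
theorem F226378 : act 4 n50650 = n48496 := d30_1 D50650 (iv D48496) (iv D45819) (iv F190565) D48478
theorem F226379 : act 7 n50650 = n48487 := d36_2 (iv F216576) D50650 (iv D48487)
def n50651 : Q := act 9 n48478
theorem D50651 : act 9 n48478 = n50651 := rfl
theorem F226380 : act 2 n50651 = n48481 := d23_1 D50651 (iv D48481) (iv F216575)
theorem F226381 : act 4 n50651 = n48479 := d34_1 D50651 (iv D48479) D48478
theorem F226382 : act 7 n50651 = n48488 := d43_1 D50651 (iv D48488) (iv F216576)
def n50652 : Q := act 8 n48479
theorem D50652 : act 8 n48479 = n50652 := rfl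
theorem F226383 : act 2 n50652 = n48482 := d22_1 D50652 (iv D48482) (iv F216577)
theorem F226384 : act 5 n50652 = n48498 := d37_1 D50652 (iv D48498) (iv F216579)
theorem F226385 : act 7 n50652 = n48489 := d42_1 D50652 (iv D48489) (iv F216580)
def n50653 : Q := act 6 n48480
theorem D50653 : act 6 n48480 = n50653 := rfl
theorem F226386 : act 4 n50653 = n48499 := d31_1 D50653 (iv D48499) (iv F216581)
def n50654 : Q := act 9 n48480
theorem D50654 : act 9 n48480 = n50654 := rfl
theorem F226387 : act 4 n50654 = n48500 := d34_1 D50654 (iv D48500) (iv F216581)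
theorem F226388 : act 5 n50654 = n48481 := d38_1 D50654 (iv D48481) D48480
theorem F226389 : act 7 n50654 = n48491 := d43_1 D50654 (iv D48491) (iv F216582)
def n50655 : Q := act 8 n48481
theorem D50655 : act 8 n48481 = n50655 := rfl
theorem F226390 : act 4 n50655 = n48482 := d33_1 D50655 (iv D48482) (iv F216583)
theorem F226391 : act 7 n50655 = n48492 := d42_1 D50655 (iv D48492) (iv F216584)
def n50656 : Q := act 4 n48483
theorem D50656 : act 4 n48483 = n50656 := rfl
theorem F226392 : act 0 n50656 = n48484 := d3_1 D50656 (iv D48484) D48483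
def n50657 : Q := act 9 n48483
theorem D50657 : act 9 n48483 = n50657 := rfl
theorem F226393 : act 0 n50657 = n48485 := d8_1 D50657 (iv D48485) D48483
theorem F226394 : act 3 n50657 = n48535 := d29_1 D50657 (iv D48535) (iv F216587)
theorem F226395 : act 5 n50657 = n48503 := d38_1 D50657 (iv D48503) (iv F216588)
def n50658 : Q := act 3 n48484
theorem D50658 : act 3 n48484 = n50658 := rfl
theorem F226396 : act 1 n50658 = n48486 := d10_1 D50658 (iv D48486) (iv F216589)
theorem F226397 : act 4 n50658 = n48536 := d24_2 D48484 D50658 (iv D48536) (iv D45871) (iv F190571)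
theorem F226398 : act 7 n50658 = n48577 := d27_2 F226369 D50658 (iv F226368)
def n50659 : Q := act 5 n48484
theorem D50659 : act 5 n48484 = n50659 := rfl
theorem F226399 : act 1 n50659 = n48487 := d12_1 D50659 (iv D48487) (iv F216589)
theorem F226400 : act 4 n50659 = n48504 := d30_1 D50659 (iv D48504) (iv D45825) (iv F190572) D48484
def n50660 : Q := act 9 n48484
theorem D50660 : act 9 n48484 = n50660 := rfl
theorem F226401 : act 1 n50660 = n48488 := d16_1 D50660 (iv D48488) (iv F216589)
theorem F226402 : act 4 n50660 = n48485 := d34_1 D50660 (iv D48485) D48484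
def n50661 : Q := act 8 n48485
theorem D50661 : act 8 n48485 = n50661 := rfl
theorem F226403 : act 1 n50661 = n48489 := d15_1 D50661 (iv D48489) (iv F216590)
theorem F226404 : act 5 n50661 = n48506 := d37_1 D50661 (iv D48506) (iv F216592)
def n50662 : Q := act 5 n48486
theorem D50662 : act 5 n48486 = n50662 := rfl
theorem F226405 : act 3 n50662 = n48487 := d25_1 D50662 (iv D48487) D48486
theorem F226406 : act 4 n50662 = n48684 := d30_1 D50662 (iv D48684) F207395 (iv F190745) (iv F216593)
def n50663 : Q := act 8 n48486
theorem D50663 : act 8 n48486 = n50663 := rfl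
theorem F226407 : act 4 n50663 = n48537 := d33_1 D50663 (iv D48537) (iv F216593)
def n50664 : Q := act 9 n48486
theorem D50664 : act 9 n48486 = n50664 := rfl
theorem F226408 : act 3 n50664 = n48488 := d29_1 D50664 (iv D48488) D48486
theorem F226409 : act 4 n50664 = n48538 := d34_1 D50664 (iv D48538) (iv F216593)
def n50665 : Q := act 6 n48487
theorem D50665 : act 6 n48487 = n50665 := rfl
theorem F226410 : act 2 n50665 = n48490 := d20_1 D50665 (iv D48490) (iv F216594)
theorem F226411 : act 4 n50665 = n48507 := d31_1 D50665 (iv D48507) (iv F216595)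
def n50666 : Q := act 9 n48487
theorem D50666 : act 9 n48487 = n50666 := rfl
theorem F226412 : act 2 n50666 = n48491 := d23_1 D50666 (iv D48491) (iv F216594)
theorem F226413 : act 4 n50666 = n48508 := d34_1 D50666 (iv D48508) (iv F216595)
theorem F226414 : act 5 n50666 = n48488 := d38_1 D50666 (iv D48488) D48487
def n50667 : Q := act 8 n48488
theorem D50667 : act 8 n48488 = n50667 := rfl
theorem F226415 : act 2 n50667 = n48492 := d22_1 D50667 (iv D48492) (iv F216596)
theorem F226416 : act 4 n50667 = n48489 := d33_1 D50667 (iv D48489) (iv F216597)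
def n50668 : Q := act 3 n48489
theorem D50668 : act 3 n48489 = n50668 := rfl
theorem F226417 : act 5 n50668 = n48510 := d25_2 (iv F216599) D50668 (iv D48510)
theorem F226418 : act 8 n50668 = n48539 := d28_2 D48489 D50668 (iv D48539) (iv D45875) (iv F190575)
def n50669 : Q := act 7 n48490
theorem D50669 : act 7 n48490 = n50669 := rfl
theorem F226419 : act 4 n50669 = n48511 := d32_1 D50669 (iv D48511) (iv F216600)
def n50670 : Q := act 9 n48490
theorem D50670 : act 9 n48490 = n50670 := rfl
theorem F226420 : act 4 n50670 = n48512 := d34_1 D50670 (iv D48512) (iv F216600)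
theorem F226421 : act 6 n50670 = n48491 := d41_1 D50670 (iv D48491) D48490
def n50671 : Q := act 8 n48491
theorem D50671 : act 8 n48491 = n50671 := rfl
theorem F226422 : act 4 n50671 = n48513 := d33_1 D50671 (iv D48513) (iv F216601)
theorem F226423 : act 5 n50671 = n48492 := d37_1 D50671 (iv D48492) (iv F216602)
def n50672 : Q := act 3 n48492
theorem D50672 : act 3 n48492 = n50672 := rfl
def n50673 : Q := act 4 n48493
theorem D50673 : act 4 n48493 = n50673 := rfl
theorem F226424 : act 0 n50673 = n48494 := d3_1 D50673 (iv D48494) D48493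
theorem F226425 : act 3 n50673 = n48694 := d24_1 D50673 (iv D48694) F207419 (iv F190757) (iv F216604)
theorem F226426 : act 6 n50673 = n50673 := d31_2 F216605 D50673 (iv D50673)
theorem F226427 : act 7 n50673 = n48502 := d32_2 (iv F216606) D50673 (iv D48502)
def n50674 : Q := act 9 n48493
theorem D50674 : act 9 n48493 = n50674 := rfl
theorem F226428 : act 0 n50674 = n48495 := d8_1 D50674 (iv D48495) D48493
theorem F226429 : act 3 n50674 = n48540 := d29_1 D50674 (iv D48540) (iv F216604)
theorem F226430 : act 6 n50674 = n50674 := d41_1 D50674 (iv D50674) F216605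
theorem F226431 : act 7 n50674 = n48503 := d43_1 D50674 (iv D48503) (iv F216606)
def n50675 : Q := act 5 n48494
theorem D50675 : act 5 n48494 = n50675 := rfl
theorem F226432 : act 1 n50675 = n48496 := d12_1 D50675 (iv D48496) (iv F216607)
theorem F226433 : act 3 n50675 = n48695 := d25_1 D50675 (iv D48695) (iv F216608)
theorem F226434 : act 7 n50675 = n48504 := d36_2 (iv F216610) D50675 (iv D48504)
def n50676 : Q := act 9 n48494
theorem D50676 : act 9 n48494 = n50676 := rfl
theorem F226435 : act 1 n50676 = n48497 := d16_1 D50676 (iv D48497) (iv F216607)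
theorem F226436 : act 3 n50676 = n48696 := d29_1 D50676 (iv D48696) (iv F216608)
theorem F226437 : act 4 n50676 = n48495 := d34_1 D50676 (iv D48495) D48494
theorem F226438 : act 6 n50676 = n50676 := d41_1 D50676 (iv D50676) F216609
theorem F226439 : act 7 n50676 = n48505 := d43_1 D50676 (iv D48505) (iv F216610)
def n50677 : Q := act 8 n48495
theorem D50677 : act 8 n48495 = n50677 := rfl
theorem F226440 : act 1 n50677 = n48498 := d15_1 D50677 (iv D48498) (iv F216611)
theorem F226441 : act 3 n50677 = n48726 := d28_1 D50677 (iv D48726) F207570 F206664 (iv F216612)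
theorem F226442 : act 6 n50677 = n50677 := d40_1 D50677 (iv D50677) F216613
theorem F226443 : act 7 n50677 = n48506 := d42_1 D50677 (iv D48506) (iv F216614)
def n50678 : Q := act 9 n48496
theorem D50678 : act 9 n48496 = n50678 := rfl
theorem F226444 : act 2 n50678 = n48500 := d23_1 D50678 (iv D48500) (iv F216615)
theorem F226445 : act 3 n50678 = n48697 := d29_1 D50678 (iv D48697) (iv F216616)
theorem F226446 : act 5 n50678 = n48497 := d38_1 D50678 (iv D48497) D48496
theorem F226447 : act 7 n50678 = n48508 := d43_1 D50678 (iv D48508) (iv F216617)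
def n50679 : Q := act 8 n48497
theorem D50679 : act 8 n48497 = n50679 := rfl
theorem F226448 : act 2 n50679 = n48501 := d22_1 D50679 (iv D48501) (iv F216618)
theorem F226449 : act 4 n50679 = n48498 := d33_1 D50679 (iv D48498) (iv F216620)
theorem F226450 : act 6 n50679 = n50679 := d40_1 D50679 (iv D50679) F216621
theorem F226451 : act 7 n50679 = n48509 := d42_1 D50679 (iv D48509) (iv F216622)
def n50680 : Q := act 3 n48498
theorem D50680 : act 3 n48498 = n50680 := rfl
theorem F226452 : act 1 n50680 = n48726 := d10_1 D50680 (iv F226441) F226440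
theorem F226453 : act 6 n50680 = n50680 := d26_2 F216624 D50680 (iv D50680)
theorem F226454 : act 7 n50680 = n48510 := d27_2 (iv F216625) D50680 (iv D48510)
theorem F226455 : act 8 n50680 = n48541 := d28_2 D48498 D50680 (iv D48541) (iv D45879) (iv F190588)
def n50681 : Q := act 7 n48499
theorem D50681 : act 7 n48499 = n50681 := rfl
theorem F226456 : act 3 n50681 = n48527 := d27_1 D50681 (iv D48527) (iv F216626)
theorem F226457 : act 5 n50681 = n50681 := d36_1 D50681 (iv D50681) F216627
theorem F226458 : act 6 n50681 = n48511 := d39_1 D50681 (iv D48511) (iv D45830) (iv F190592) D48499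
def n50682 : Q := act 9 n48499
theorem D50682 : act 9 n48499 = n50682 := rfl
theorem F226459 : act 3 n50682 = n48528 := d29_1 D50682 (iv D48528) (iv F216626)
theorem F226460 : act 5 n50682 = n50682 := d38_1 D50682 (iv D50682) F216627
theorem F226461 : act 6 n50682 = n48500 := d41_1 D50682 (iv D48500) D48499
def n50683 : Q := act 8 n48500
theorem D50683 : act 8 n48500 = n50683 := rfl
theorem F226462 : act 5 n50683 = n48501 := d37_1 D50683 (iv D48501) (iv F216629)
theorem F226463 : act 7 n50683 = n48513 := d42_1 D50683 (iv D48513) (iv F216630)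
def n50684 : Q := act 5 n48502
theorem D50684 : act 5 n48502 = n50684 := rfl
theorem F226464 : act 0 n50684 = n48504 := d4_1 D50684 (iv D48504) (iv F216634)
theorem F226465 : act 3 n50684 = n48700 := d25_1 D50684 (iv D48700) (iv F216635)
def n50685 : Q := act 9 n48502
theorem D50685 : act 9 n48502 = n50685 := rfl
theorem F226466 : act 0 n50685 = n48505 := d8_1 D50685 (iv D48505) (iv F216634)
theorem F226467 : act 3 n50685 = n48701 := d29_1 D50685 (iv D48701) (iv F216635)
theorem F226468 : act 4 n50685 = n48503 := d34_1 D50685 (iv D48503) D48502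
theorem F226469 : act 6 n50685 = n48514 := d41_1 D50685 (iv D48514) (iv F216636)
def n50686 : Q := act 8 n48503
theorem D50686 : act 8 n48503 = n50686 := rfl
theorem F226470 : act 0 n50686 = n48506 := d7_1 D50686 (iv D48506) (iv F216637)
theorem F226471 : act 6 n50686 = n48515 := d40_1 D50686 (iv D48515) (iv F216639)
def n50687 : Q := act 6 n48504
theorem D50687 : act 6 n48504 = n50687 := rfl
theorem F226472 : act 1 n50687 = n48507 := d13_1 D50687 (iv D48507) (iv F216640)
theorem F226473 : act 3 n50687 = n48703 := d26_1 D50687 (iv D48703) (iv F216641)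
theorem F226474 : act 5 n50687 = n48516 := d35_1 D50687 (iv D48516) (iv D45835) (iv F190603) D48504
def n50688 : Q := act 9 n48504
theorem D50688 : act 9 n48504 = n50688 := rfl
theorem F226475 : act 1 n50688 = n48508 := d16_1 D50688 (iv D48508) (iv F216640)
theorem F226476 : act 3 n50688 = n48704 := d29_1 D50688 (iv D48704) (iv F216641)
theorem F226477 : act 5 n50688 = n48505 := d38_1 D50688 (iv D48505) D48504
def n50689 : Q := act 8 n48505
theorem D50689 : act 8 n48505 = n50689 := rfl
theorem F226478 : act 1 n50689 = n48509 := d15_1 D50689 (iv D48509) (iv F216642)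
theorem F226479 : act 4 n50689 = n48506 := d33_1 D50689 (iv D48506) (iv F216644)
theorem F226480 : act 6 n50689 = n48518 := d40_1 D50689 (iv D48518) (iv F216645)
def n50690 : Q := act 3 n48506
theorem D50690 : act 3 n48506 = n50690 := rfl
theorem F226481 : act 1 n50690 = n48510 := d10_1 D50690 (iv D48510) (iv F216646)
theorem F226482 : act 6 n50690 = n48519 := d26_2 (iv F216647) D50690 (iv D48519)
theorem F226483 : act 7 n50690 = n48726 := d27_2 F226443 D50690 (iv F226441)
theorem F226484 : act 8 n50690 = n48543 := d28_2 D48506 D50690 (iv D48543) (iv D45881) (iv F190605)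
def n50691 : Q := act 7 n48507
theorem D50691 : act 7 n48507 = n50691 := rfl
theorem F226485 : act 2 n50691 = n48511 := d21_1 D50691 (iv D48511) (iv F216648)
theorem F226486 : act 3 n50691 = n48706 := d27_1 D50691 (iv D48706) (iv F216649)
theorem F226487 : act 5 n50691 = n48520 := d36_1 D50691 (iv D48520) (iv F216650)
def n50692 : Q := act 9 n48507
theorem D50692 : act 9 n48507 = n50692 := rfl
theorem F226488 : act 2 n50692 = n48512 := d23_1 D50692 (iv D48512) (iv F216648)
theorem F226489 : act 3 n50692 = n48707 := d29_1 D50692 (iv D48707) (iv F216649)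
theorem F226490 : act 5 n50692 = n48521 := d38_1 D50692 (iv D48521) (iv F216650)
theorem F226491 : act 6 n50692 = n48508 := d41_1 D50692 (iv D48508) D48507
def n50693 : Q := act 8 n48508
theorem D50693 : act 8 n48508 = n50693 := rfl
theorem F226492 : act 2 n50693 = n48513 := d22_1 D50693 (iv D48513) (iv F216651)
theorem F226493 : act 5 n50693 = n48509 := d37_1 D50693 (iv D48509) (iv F216653)
def n50694 : Q := act 3 n48509
theorem D50694 : act 3 n48509 = n50694 := rfl
theorem F226494 : act 6 n50694 = n48523 := d26_2 (iv F216656) D50694 (iv D48523)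
theorem F226495 : act 8 n50694 = n48709 := d28_2 D48509 D50694 (iv D48709) (iv D46498) (iv F190610)
def n50695 : Q := act 4 n48510
theorem D50695 : act 4 n48510 = n50695 := rfl
theorem F226496 : act 6 n50695 = n48524 := d31_2 (iv F216657) D50695 (iv D48524)
theorem F226497 : act 8 n50695 = n48544 := d33_2 (iv F216658) D50695 (iv D48544)
def n50696 : Q := act 9 n48511
theorem D50696 : act 9 n48511 = n50696 := rfl
theorem F226498 : act 3 n50696 = n48529 := d29_1 D50696 (iv D48529) (iv F216659)
theorem F226499 : act 5 n50696 = n48525 := d38_1 D50696 (iv D48525) (iv F216660)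
theorem F226500 : act 7 n50696 = n48512 := d43_1 D50696 (iv D48512) D48511
def n50697 : Q := act 8 n48512
theorem D50697 : act 8 n48512 = n50697 := rfl
theorem F226501 : act 5 n50697 = n48526 := d37_1 D50697 (iv D48526) (iv F216662)
theorem F226502 : act 6 n50697 = n48513 := d40_1 D50697 (iv D48513) (iv F216663)
def n50698 : Q := act 8 n48514
theorem D50698 : act 8 n48514 = n50698 := rfl
theorem F226503 : act 0 n50698 = n48518 := d7_1 D50698 (iv D48518) (iv F216665)
theorem F226504 : act 4 n50698 = n48515 := d33_1 D50698 (iv D48515) (iv F216667)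
theorem F226505 : act 7 n50698 = n50698 := d42_1 D50698 (iv D50698) F216668
def n50699 : Q := act 7 n48516
theorem D50699 : act 7 n48516 = n50699 := rfl
theorem F226506 : act 0 n50699 = n48733 := d6_1 D50699 (iv F224868) F224864
theorem F226507 : act 1 n50699 = n48520 := d14_1 D50699 (iv D48520) (iv F216671)
theorem F226508 : act 3 n50699 = n48716 := d27_1 D50699 (iv D48716) (iv F216672)
theorem F226509 : act 6 n50699 = n50699 := d39_1 D50699 (iv D50699) (iv D48516) F190629 D48516
def n50700 : Q := act 9 n48516
theorem D50700 : act 9 n48516 = n50700 := rfl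
theorem F226510 : act 1 n50700 = n48521 := d16_1 D50700 (iv D48521) (iv F216671)
theorem F226511 : act 3 n50700 = n48717 := d29_1 D50700 (iv D48717) (iv F216672)
theorem F226512 : act 6 n50700 = n48517 := d41_1 D50700 (iv D48517) D48516
def n50701 : Q := act 8 n48517
theorem D50701 : act 8 n48517 = n50701 := rfl
theorem F226513 : act 1 n50701 = n48522 := d15_1 D50701 (iv D48522) (iv F216673)
theorem F226514 : act 5 n50701 = n48518 := d37_1 D50701 (iv D48518) (iv F216675)
theorem F226515 : act 7 n50701 = n50701 := d42_1 D50701 (iv D50701) F216676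
def n50702 : Q := act 3 n48518
theorem D50702 : act 3 n48518 = n50702 := rfl
theorem F226516 : act 1 n50702 = n48523 := d10_1 D50702 (iv D48523) (iv F216677)
theorem F226517 : act 7 n50702 = n50702 := d27_2 F216679 D50702 (iv D50702)
theorem F226518 : act 8 n50702 = n48719 := d28_2 D48518 D50702 (iv D48719) (iv D46508) (iv F190631)
def n50703 : Q := act 9 n48520
theorem D50703 : act 9 n48520 = n50703 := rfl
theorem F226519 : act 2 n50703 = n48525 := d23_1 D50703 (iv D48525) (iv F216683)
theorem F226520 : act 3 n50703 = n48720 := d29_1 D50703 (iv D48720) (iv F216684)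
theorem F226521 : act 6 n50703 = n50703 := d41_1 D50703 (iv D50703) F216685
theorem F226522 : act 7 n50703 = n48521 := d43_1 D50703 (iv D48521) D48520
def n50704 : Q := act 8 n48521
theorem D50704 : act 8 n48521 = n50704 := rfl
theorem F226523 : act 2 n50704 = n48526 := d22_1 D50704 (iv D48526) (iv F216686)
theorem F226524 : act 6 n50704 = n48522 := d40_1 D50704 (iv D48522) (iv F216688)
def n50705 : Q := act 3 n48522
theorem D50705 : act 3 n48522 = n50705 := rfl
theorem F226525 : act 5 n50705 = n48523 := d25_2 (iv F216690) D50705 (iv D48523)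
theorem F226526 : act 7 n50705 = n50705 := d27_2 F216691 D50705 (iv D50705)
theorem F226527 : act 8 n50705 = n48722 := d28_2 D48522 D50705 (iv D48722) (iv D46512) (iv F190639)
def n50706 : Q := act 4 n48523
theorem D50706 : act 4 n48523 = n50706 := rfl
theorem F226528 : act 3 n50706 = n48524 := d24_1 D50706 (iv D48524) (iv D45841) (iv F190643) D48523
theorem F226529 : act 7 n50706 = n50706 := d32_2 F216692 D50706 (iv D50706)
theorem F226530 : act 8 n50706 = n48723 := d33_2 (iv F216693) D50706 (iv D48723)
def n50707 : Q := act 8 n48525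
theorem D50707 : act 8 n48525 = n50707 := rfl
theorem F226531 : act 6 n50707 = n50707 := d40_1 D50707 (iv D50707) F216697
theorem F226532 : act 7 n50707 = n48526 := d42_1 D50707 (iv D48526) (iv F216698)
def n50708 : Q := act 9 n48527
theorem D50708 : act 9 n48527 = n50708 := rfl
theorem F226533 : act 2 n50708 = n48724 := d23_1 D50708 (iv D48724) (iv F216700)
theorem F226534 : act 5 n50708 = n50708 := d38_1 D50708 (iv D50708) F216701
theorem F226535 : act 6 n50708 = n48529 := d41_1 D50708 (iv D48529) (iv F216702)
theorem F226536 : act 7 n50708 = n48528 := d43_1 D50708 (iv D48528) D48527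
def n50709 : Q := act 9 n48532
theorem D50709 : act 9 n48532 = n50709 := rfl
theorem F226537 : act 1 n50709 = n48539 := d16_1 D50709 F216745 (iv F216719)
theorem F226538 : act 3 n50709 = n48533 := d29_1 D50709 (iv D48533) D48532
theorem F226539 : act 5 n50709 = n48543 := d38_1 D50709 F216765 (iv F216720)
theorem F226540 : act 7 n50709 = n48538 := d43_1 D50709 (iv D48538) (iv F216721)
def n50710 : Q := act 3 n48534
theorem D50710 : act 3 n48534 = n50710 := rfl
theorem F226541 : act 1 n50710 = n48538 := d10_1 D50710 F216742 (iv F216728)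
theorem F226542 : act 5 n50710 = n48541 := d25_2 (iv F216731) D50710 (iv D48541)
theorem F226543 : act 7 n50710 = n48539 := d27_2 (iv F216732) D50710 (iv D48539)
theorem F226544 : act 9 n50710 = n48536 := d29_2 (iv F216733) D50710 (iv D48536)
def n50711 : Q := act 9 n48537
theorem D50711 : act 9 n48537 = n50711 := rfl
theorem F226545 : act 3 n50711 = n48576 := d29_1 D50711 (iv D48576) (iv F216740)
theorem F226546 : act 5 n50711 = n48725 := d38_1 D50711 (iv D48725) (iv F216741)
def n50712 : Q := act 8 n48538
theorem D50712 : act 8 n48538 = n50712 := rfl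
theorem F226547 : act 5 n50712 = n48726 := d37_1 D50712 (iv D48726) (iv F216743)
def n50713 : Q := act 4 n48539
theorem D50713 : act 4 n48539 = n50713 := rfl
theorem F226548 : act 9 n50713 = n48577 := d34_2 (iv F216745) D50713 (iv D48577)
def n50714 : Q := act 4 n48541
theorem D50714 : act 4 n48541 = n50714 := rfl
theorem F226549 : act 1 n50714 = n48686 := d11_1 D50714 F217336 (iv F216752)
theorem F226550 : act 3 n50714 = n48682 := d24_1 D50714 F217321 F207391 F204895 D48541
theorem F226551 : act 6 n50714 = n50714 := d31_2 F216753 D50714 (iv D50714)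
theorem F226552 : act 7 n50714 = n48544 := d32_2 (iv F216754) D50714 (iv D48544)
theorem F226553 : act 9 n50714 = n48578 := d34_2 (iv F216755) D50714 (iv D48578)
def n50715 : Q := act 5 n48544
theorem D50715 : act 5 n48544 = n50715 := rfl
theorem F226554 : act 3 n50715 = n48727 := d25_1 D50715 (iv D48727) (iv F216766)
theorem F226555 : act 9 n50715 = n48579 := d38_2 (iv F216768) D50715 (iv D48579)
def n50716 : Q := act 8 n48547
theorem D50716 : act 8 n48547 = n50716 := rfl
theorem F226556 : act 1 n50716 = n50716 := d15_1 D50716 (iv D50716) F216779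
theorem F226557 : act 3 n50716 = n48560 := d28_1 D50716 (iv D48560) F192277 (iv F191421) (iv F216780)
theorem F226558 : act 5 n50716 = n48740 := d37_1 D50716 (iv D48740) (iv F216781)
theorem F226559 : act 9 n50716 = n50716 := d44_2 D48547 D50716 (iv D50716) (iv D48547) F191417
def n50717 : Q := act 9 n48550
theorem D50717 : act 9 n48550 = n50717 := rfl
theorem F226560 : act 0 n50717 = n48558 := d8_1 D50717 (iv D48558) (iv F216792)
theorem F226561 : act 2 n50717 = n48551 := d23_1 D50717 (iv D48551) D48550
theorem F226562 : act 5 n50717 = n48741 := d38_1 D50717 (iv D48741) (iv F216793)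
def n50718 : Q := act 8 n48551
theorem D50718 : act 8 n48551 = n50718 := rfl
theorem F226563 : act 0 n50718 = n48560 := d7_1 D50718 (iv D48560) (iv F216795)
theorem F226564 : act 5 n50718 = n48742 := d37_1 D50718 (iv D48742) (iv F216797)
theorem F226565 : act 9 n50718 = n50718 := d44_2 D48551 D50718 (iv D50718) (iv D48551) F192035
def n50719 : Q := act 9 n48552
theorem D50719 : act 9 n48552 = n50719 := rfl
theorem F226566 : act 0 n50719 = n48576 := d8_1 D50719 (iv D48576) (iv F216798)
theorem F226567 : act 2 n50719 = n50719 := d23_1 D50719 (iv D50719) F216799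
theorem F226568 : act 5 n50719 = n48728 := d38_1 D50719 (iv D48728) (iv F216800)
def n50720 : Q := act 1 n48553
theorem D50720 : act 1 n48553 = n50720 := rfl
theorem F226569 : act 0 n50720 = n48703 := d0_1 D50720 F217408 (iv F209217) D48968 (iv F218991)
theorem F226570 : act 2 n50720 = n50720 := d9_2 D48553 D50720 (iv D50720) (iv D48553) F192262
theorem F226571 : act 5 n50720 = n48713 := d12_2 (iv F216801) D50720 F217444
theorem F226572 : act 6 n50720 = n48700 := d13_2 F224410 D50720 (iv F224407)
theorem F226573 : act 7 n50720 = n48556 := d14_2 (iv F216802) D50720 (iv D48556)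
theorem F226574 : act 8 n50720 = n50720 := d15_2 F216803 D50720 (iv D50720)
def n50721 : Q := act 4 n48553
theorem D50721 : act 4 n48553 = n50721 := rfl
theorem F226575 : act 2 n50721 = n48554 := d18_1 D50721 (iv D48554) D48553
theorem F226576 : act 5 n50721 = n50721 := d30_2 (iv F216801) D50721 (iv D50721) F216801 F207725
theorem F226577 : act 7 n50721 = n48557 := d32_2 (iv F216802) D50721 (iv D48557)
theorem F226578 : act 8 n50721 = n50721 := d33_2 F216803 D50721 (iv D50721)
def n50722 : Q := act 9 n48553
theorem D50722 : act 9 n48553 = n50722 := rfl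
theorem F226579 : act 2 n50722 = n48555 := d23_1 D50722 (iv D48555) D48553
theorem F226580 : act 5 n50722 = n48743 := d38_1 D50722 (iv D48743) (iv F216801)
theorem F226581 : act 7 n50722 = n48558 := d43_1 D50722 (iv D48558) (iv F216802)
def n50723 : Q := act 9 n48554
theorem D50723 : act 9 n48554 = n50723 := rfl
theorem F226582 : act 1 n50723 = n50723 := d16_1 D50723 (iv D50723) F216804
theorem F226583 : act 3 n50723 = n48566 := d29_1 D50723 (iv D48566) (iv F216805)
theorem F226584 : act 4 n50723 = n48555 := d34_1 D50723 (iv D48555) D48554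
theorem F226585 : act 5 n50723 = n50723 := d38_1 D50723 (iv D50723) F216806
theorem F226586 : act 7 n50723 = n48559 := d43_1 D50723 (iv D48559) (iv F216807)
def n50724 : Q := act 8 n48555
theorem D50724 : act 8 n48555 = n50724 := rfl
theorem F226587 : act 1 n50724 = n50724 := d15_1 D50724 (iv D50724) F216809
theorem F226588 : act 5 n50724 = n48744 := d37_1 D50724 (iv D48744) (iv F216811)
theorem F226589 : act 7 n50724 = n48560 := d42_1 D50724 (iv D48560) (iv F216812)
theorem F226590 : act 9 n50724 = n50724 := d44_2 D48555 D50724 (iv D50724) (iv D48555) F192265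
def n50725 : Q := act 0 n48556
theorem D50725 : act 0 n48556 = n50725 := rfl
theorem F226591 : act 1 n50725 = n48706 := d0_2 D48556 D50725 (iv F218972) F218973 F216792
theorem F226592 : act 2 n50725 = n50725 := d1_2 F216813 D50725 (iv D50725)
theorem F226593 : act 5 n50725 = n48716 := d4_2 (iv F216814) D50725 F217459
theorem F226594 : act 7 n50725 = n48703 := d6_2 F226573 D50725 (iv F226569)
theorem F226595 : act 8 n50725 = n50725 := d7_2 F216815 D50725 (iv D50725)
def n50726 : Q := act 4 n48556
theorem D50726 : act 4 n48556 = n50726 := rfl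
theorem F226596 : act 1 n50726 = n48557 := d11_1 D50726 (iv D48557) D48556
theorem F226597 : act 2 n50726 = n50726 := d18_1 D50726 (iv D50726) F216813
theorem F226598 : act 5 n50726 = n50726 := d30_2 (iv F216814) D50726 (iv D50726) F216814 F207733
theorem F226599 : act 8 n50726 = n50726 := d33_2 F216815 D50726 (iv D50726)
def n50727 : Q := act 9 n48556
theorem D50727 : act 9 n48556 = n50727 := rfl
theorem F226600 : act 1 n50727 = n48558 := d16_1 D50727 (iv D48558) D48556
theorem F226601 : act 2 n50727 = n50727 := d23_1 D50727 (iv D50727) F216813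
theorem F226602 : act 5 n50727 = n48745 := d38_1 D50727 (iv D48745) (iv F216814)
def n50728 : Q := act 3 n48557
theorem D50728 : act 3 n48557 = n50728 := rfl
theorem F226603 : act 2 n50728 = n48570 := d17_1 D50728 (iv D48570) F192300 (iv F192273) (iv F216816)
theorem F226604 : act 5 n50728 = n50728 := d25_2 F216817 D50728 (iv D50728)
def n50729 : Q := act 9 n48557
theorem D50729 : act 9 n48557 = n50729 := rfl
theorem F226605 : act 2 n50729 = n48559 := d23_1 D50729 (iv D48559) (iv F216816)
theorem F226606 : act 4 n50729 = n48558 := d34_1 D50729 (iv D48558) D48557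
theorem F226607 : act 5 n50729 = n50729 := d38_1 D50729 (iv D50729) F216817
def n50730 : Q := act 8 n48558
theorem D50730 : act 8 n48558 = n50730 := rfl
theorem F226608 : act 2 n50730 = n48560 := d22_1 D50730 (iv D48560) (iv F216819)
theorem F226609 : act 5 n50730 = n48746 := d37_1 D50730 (iv D48746) (iv F216820)
theorem F226610 : act 9 n50730 = n50730 := d44_2 D48558 D50730 (iv D50730) (iv D48558) F192271
def n50731 : Q := act 8 n48559
theorem D50731 : act 8 n48559 = n50731 := rfl
theorem F226611 : act 1 n50731 = n50731 := d15_1 D50731 (iv D50731) F216821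
theorem F226612 : act 4 n50731 = n48560 := d33_1 D50731 (iv D48560) (iv F216823)
theorem F226613 : act 5 n50731 = n50731 := d37_1 D50731 (iv D50731) F216824
theorem F226614 : act 9 n50731 = n50731 := d44_2 D48559 D50731 (iv D50731) (iv D48559) F192275
def n50732 : Q := act 9 n48561
theorem D50732 : act 9 n48561 = n50732 := rfl
theorem F226615 : act 2 n50732 = n48562 := d23_1 D50732 (iv D48562) D48561
theorem F226616 : act 5 n50732 = n50732 := d38_1 D50732 (iv D50732) F216828
theorem F226617 : act 6 n50732 = n48565 := d41_1 D50732 (iv D48565) (iv F216829)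
def n50733 : Q := act 9 n48563
theorem D50733 : act 9 n48563 = n50733 := rfl
theorem F226618 : act 1 n50733 = n48565 := d16_1 D50733 (iv D48565) D48563
theorem F226619 : act 2 n50733 = n50733 := d23_1 D50733 (iv D50733) F216835
theorem F226620 : act 5 n50733 = n48573 := d38_1 D50733 (iv D48573) (iv F216836)
theorem F226621 : act 7 n50733 = n48569 := d43_1 D50733 (iv D48569) (iv F216837)
theorem F226622 : act 8 n50733 = n48576 := d44_1 D50733 (iv D48576) (iv D46328) (iv F204586) (iv F216838)
def n50734 : Q := act 3 n48564
theorem D50734 : act 3 n48564 = n50734 := rfl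
theorem F226623 : act 5 n50734 = n50734 := d25_2 F216840 D50734 (iv D50734)
theorem F226624 : act 7 n50734 = n48570 := d27_2 (iv F216841) D50734 (iv D48570)
def n50735 : Q := act 9 n48564
theorem D50735 : act 9 n48564 = n50735 := rfl
theorem F226625 : act 2 n50735 = n48566 := d23_1 D50735 (iv D48566) (iv F216839)
theorem F226626 : act 4 n50735 = n48565 := d34_1 D50735 (iv D48565) D48564
theorem F226627 : act 5 n50735 = n50735 := d38_1 D50735 (iv D50735) F216840
theorem F226628 : act 7 n50735 = n48571 := d43_1 D50735 (iv D48571) (iv F216841)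
def n50736 : Q := act 9 n48567
theorem D50736 : act 9 n48567 = n50736 := rfl
theorem F226629 : act 0 n50736 = n48569 := d8_1 D50736 (iv D48569) D48567
theorem F226630 : act 2 n50736 = n50736 := d23_1 D50736 (iv D50736) F216850
theorem F226631 : act 5 n50736 = n48574 := d38_1 D50736 (iv D48574) (iv F216851)
def n50737 : Q := act 3 n48568
theorem D50737 : act 3 n48568 = n50737 := rfl
theorem F226632 : act 1 n50737 = n48570 := d10_1 D50737 (iv D48570) (iv F216853)
theorem F226633 : act 5 n50737 = n50737 := d25_2 F216855 D50737 (iv D50737)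
def n50738 : Q := act 9 n48568
theorem D50738 : act 9 n48568 = n50738 := rfl
theorem F226634 : act 1 n50738 = n48571 := d16_1 D50738 (iv D48571) (iv F216853)
theorem F226635 : act 2 n50738 = n50738 := d23_1 D50738 (iv D50738) F216854
theorem F226636 : act 4 n50738 = n48569 := d34_1 D50738 (iv D48569) D48568
theorem F226637 : act 5 n50738 = n50738 := d38_1 D50738 (iv D50738) F216855
def n50739 : Q := act 8 n48570
theorem D50739 : act 8 n48570 = n50739 := rfl
theorem F226638 : act 3 n50739 = n48575 := d28_1 D50739 (iv D48575) (iv D46297) (iv F192302) D48570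
theorem F226639 : act 5 n50739 = n50739 := d37_1 D50739 (iv D50739) F216860
def n50740 : Q := act 9 n48570
theorem D50740 : act 9 n48570 = n50740 := rfl
theorem F226640 : act 3 n50740 = n48571 := d29_1 D50740 (iv D48571) D48570
theorem F226641 : act 5 n50740 = n50740 := d38_1 D50740 (iv D50740) F216860
def n50741 : Q := act 9 n48572
theorem D50741 : act 9 n48572 = n50741 := rfl
theorem F226642 : act 0 n50741 = n48573 := d8_1 D50741 (iv D48573) D48572
theorem F226643 : act 2 n50741 = n50741 := d23_1 D50741 (iv D50741) F216864
theorem F226644 : act 4 n50741 = n50741 := d34_1 D50741 (iv D50741) F216865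
theorem F226645 : act 6 n50741 = n50741 := d41_1 D50741 (iv D50741) F216866
theorem F226646 : act 7 n50741 = n48574 := d43_1 D50741 (iv D48574) (iv F216867)
theorem F226647 : act 8 n50741 = n48728 := d44_1 D50741 (iv D48728) (iv D46523) (iv F206672) (iv F216868)
def n50742 : Q := act 9 n48575
theorem D50742 : act 9 n48575 = n50742 := rfl
theorem F226648 : act 2 n50742 = n50742 := d23_1 D50742 (iv D50742) F216879
theorem F226649 : act 4 n50742 = n48576 := d34_1 D50742 (iv D48576) (iv F216880)
theorem F226650 : act 5 n50742 = n50742 := d38_1 D50742 (iv D50742) F216881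
def n50743 : Q := act 5 n48577
theorem D50743 : act 5 n48577 = n50743 := rfl
theorem F226651 : act 4 n50743 = n48579 := d30_1 D50743 (iv D48579) (iv D46338) (iv F192501) D48577
def n50744 : Q := act 5 n48578
theorem D50744 : act 5 n48578 = n50744 := rfl
theorem F226652 : act 1 n50744 = n48684 := d12_1 D50744 (iv D48684) (iv F216884)
theorem F226653 : act 3 n50744 = n48681 := d25_1 D50744 (iv D48681) (iv F216885)
theorem F226654 : act 7 n50744 = n48579 := d36_2 (iv F216887) D50744 (iv D48579)
def n50745 : Q := act 4 n48580
theorem D50745 : act 4 n48580 = n50745 := rfl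
theorem F226655 : act 0 n50745 = n48587 := d3_1 D50745 (iv D48587) (iv F216889)
theorem F226656 : act 2 n50745 = n50745 := d18_1 D50745 (iv D50745) F216890
theorem F226657 : act 7 n50745 = n48606 := d32_2 (iv F216892) D50745 (iv D48606)
theorem F226658 : act 9 n50745 = n50745 := d34_2 F216893 D50745 (iv D50745)
def n50746 : Q := act 3 n48583
theorem D50746 : act 3 n48583 = n50746 := rfl
theorem F226659 : act 1 n50746 = n48592 := d10_1 D50746 (iv D48592) (iv F216902)
theorem F226660 : act 4 n50746 = n50746 := d24_2 (iv F216903) D50746 (iv D50746) F216903 F206883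
theorem F226661 : act 5 n50746 = n48600 := d25_2 F225342 D50746 F225345
theorem F226662 : act 6 n50746 = n50746 := d26_2 F216904 D50746 (iv D50746)
theorem F226663 : act 7 n50746 = n48654 := d27_2 F217606 D50746 F217608
theorem F226664 : act 8 n50746 = n50746 := d28_2 D48583 D50746 (iv D50746) (iv D48583) F206879
theorem F226665 : act 9 n50746 = n50746 := d29_2 F216905 D50746 (iv D50746)
def n50747 : Q := act 3 n48585
theorem D50747 : act 3 n48585 = n50747 := rfl
theorem F226666 : act 0 n50747 = n48586 := d2_1 D50747 (iv D48586) (iv F216910)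
theorem F226667 : act 5 n50747 = n50747 := d25_2 F216912 D50747 (iv D50747)
theorem F226668 : act 7 n50747 = n48633 := d27_2 (iv F216913) D50747 (iv D48633)
theorem F226669 : act 9 n50747 = n50747 := d29_2 F216914 D50747 (iv D50747)
def n50748 : Q := act 2 n48586
theorem D50748 : act 2 n48586 = n50748 := rfl
theorem F226670 : act 1 n50748 = n50748 := d9_1 D50748 (iv D50748) F216915 F206907 (iv F216915)
theorem F226671 : act 3 n50748 = n48599 := d17_2 D48586 D50748 (iv D48599) (iv D46371) (iv F206903)
theorem F226672 : act 5 n50748 = n50748 := d19_2 F216916 D50748 (iv D50748)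
theorem F226673 : act 7 n50748 = n48634 := d21_2 (iv F216917) D50748 (iv D48634)
theorem F226674 : act 9 n50748 = n50748 := d23_2 F216918 D50748 (iv D50748)
def n50749 : Q := act 4 n48586
theorem D50749 : act 4 n48586 = n50749 := rfl
theorem F226675 : act 1 n50749 = n48587 := d11_1 D50749 (iv D48587) (iv F216915)
theorem F226676 : act 7 n50749 = n48635 := d32_2 (iv F216917) D50749 (iv D48635)
theorem F226677 : act 9 n50749 = n50749 := d34_2 F216918 D50749 (iv D50749)
def n50750 : Q := act 5 n48587
theorem D50750 : act 5 n48587 = n50750 := rfl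
theorem F226678 : act 2 n50750 = n50750 := d19_1 D50750 (iv D50750) F216919
theorem F226679 : act 4 n50750 = n50750 := d30_1 D50750 (iv D50750) (iv D48587) F206908 D48587
theorem F226680 : act 7 n50750 = n48636 := d36_2 (iv F216920) D50750 (iv D48636)
theorem F226681 : act 9 n50750 = n50750 := d38_2 F216921 D50750 (iv D50750)
def n50751 : Q := act 3 n48588
theorem D50751 : act 3 n48588 = n50751 := rfl
theorem F226682 : act 0 n50751 = n50751 := d2_1 D50751 (iv D50751) F216922
theorem F226683 : act 2 n50751 = n50751 := d17_1 D50751 (iv D50751) F216923 F206921 (iv F216923)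
theorem F226684 : act 4 n50751 = n50751 := d24_2 F220816 D50751 (iv D50751) (iv F220816) F220815
theorem F226685 : act 5 n50751 = n48594 := d25_2 (iv F216924) D50751 (iv D48594)
theorem F226686 : act 7 n50751 = n48591 := d27_2 (iv F216925) D50751 (iv D48591)
theorem F226687 : act 8 n50751 = n50751 := d28_2 D48588 D50751 (iv D50751) (iv D48588) F206913
theorem F226688 : act 9 n50751 = n50751 := d29_2 F216926 D50751 (iv D50751)
def n50752 : Q := act 3 n48589
theorem D50752 : act 3 n48589 = n50752 := rfl
theorem F226689 : act 1 n50752 = n48591 := d10_1 D50752 (iv D48591) (iv F216927)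
theorem F226690 : act 4 n50752 = n50752 := d24_2 F220042 D50752 (iv D50752) (iv F220042) F220041
theorem F226691 : act 5 n50752 = n48596 := d25_2 (iv F216928) D50752 (iv D48596)
theorem F226692 : act 6 n50752 = n50752 := d26_2 F216929 D50752 (iv D50752)
theorem F226693 : act 8 n50752 = n50752 := d28_2 D48589 D50752 (iv D50752) (iv D48589) F206926
theorem F226694 : act 9 n50752 = n50752 := d29_2 F216930 D50752 (iv D50752)
def n50753 : Q := act 3 n48593
theorem D50753 : act 3 n48593 = n50753 := rfl
theorem F226695 : act 0 n50753 = n48653 := d2_1 D50753 F220892 F220885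
theorem F226696 : act 1 n50753 = n48594 := d10_1 D50753 (iv D48594) (iv F216952)
theorem F226697 : act 2 n50753 = n48652 := d17_1 D50753 F217653 F217649 (iv F218447) F218446
theorem F226698 : act 4 n50753 = n48651 := d24_2 (iv F221533) D50753 F221001 F220998 D49443
theorem F226699 : act 6 n50753 = n48645 := d26_2 (iv F216953) D50753 (iv D48645)
theorem F226700 : act 7 n50753 = n48596 := d27_2 (iv F216954) D50753 (iv D48596)
theorem F226701 : act 8 n50753 = n50753 := d28_2 D48593 D50753 (iv D50753) (iv D48593) F206943
theorem F226702 : act 9 n50753 = n50753 := d29_2 F216955 D50753 (iv D50753)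
def n50754 : Q := act 3 n48595
theorem D50754 : act 3 n48595 = n50754 := rfl
theorem F226703 : act 0 n50754 = n48596 := d2_1 D50754 (iv D48596) (iv F216962)
theorem F226704 : act 1 n50754 = n50754 := d10_1 D50754 (iv D50754) F216963
theorem F226705 : act 6 n50754 = n48598 := d26_2 (iv F216964) D50754 (iv D48598)
theorem F226706 : act 7 n50754 = n48653 := d27_2 F220890 D50754 F220892
theorem F226707 : act 8 n50754 = n50754 := d28_2 D48595 D50754 (iv D50754) (iv D48595) F206953
theorem F226708 : act 9 n50754 = n50754 := d29_2 F216965 D50754 (iv D50754)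
theorem F226709 : act 2 n48600 = n50754 := d21_3 F226706 F217180 (iv F216988)
theorem F226710 : act 4 n48599 = n50754 := d32_3 F226706 (iv D48653) (iv F216984)
def n50755 : Q := act 2 n48596
theorem D50755 : act 2 n48596 = n50755 := rfl
theorem F226711 : act 0 n50755 = n48600 := d1_1 D50755 F226709 F226703
theorem F226712 : act 1 n50755 = n50755 := d9_1 D50755 (iv D50755) F216966 F206959 (iv F216966)
theorem F226713 : act 6 n50755 = n48599 := d20_2 (iv F216967) D50755 (iv D48599)
theorem F226714 : act 7 n50755 = n48652 := d21_2 F226700 D50755 (iv F226697)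
theorem F226715 : act 8 n50755 = n50755 := d22_2 F216968 D50755 (iv D50755)
theorem F226716 : act 9 n50755 = n50755 := d23_2 F216969 D50755 (iv D50755)
theorem F226717 : act 4 n48598 = n50755 := d32_3 F226714 (iv D48652) (iv F216979)
def n50756 : Q := act 4 n48596
theorem D50756 : act 4 n48596 = n50756 := rfl
theorem F226718 : act 0 n50756 = n48599 := d3_1 D50756 F226710 F226703
theorem F226719 : act 1 n50756 = n48597 := d11_1 D50756 (iv D48597) (iv F216966)
theorem F226720 : act 2 n50756 = n48598 := d18_1 D50756 F226717 (iv D50755)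
theorem F226721 : act 5 n50756 = n50756 := d30_2 F226691 D50756 (iv D50756) (iv F226691) F226690
theorem F226722 : act 6 n50756 = n48600 := d31_2 (iv F216967) D50756 (iv D48600)
theorem F226723 : act 7 n50756 = n48651 := d32_2 F226700 D50756 (iv F226698)
theorem F226724 : act 8 n50756 = n50756 := d33_2 F216968 D50756 (iv D50756)
theorem F226725 : act 9 n50756 = n50756 := d34_2 F216969 D50756 (iv D50756)
def n50757 : Q := act 4 n48603
theorem D50757 : act 4 n48603 = n50757 := rfl
theorem F226726 : act 0 n50757 = n48632 := d3_1 D50757 (iv D48632) (iv F217000)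
theorem F226727 : act 2 n50757 = n50757 := d18_1 D50757 (iv D50757) F217001
theorem F226728 : act 6 n50757 = n48606 := d31_2 (iv F217002) D50757 (iv D48606)
theorem F226729 : act 9 n50757 = n50757 := d34_2 F217003 D50757 (iv D50757)
def n50758 : Q := act 9 n48607
theorem D50758 : act 9 n48607 = n50758 := rfl
theorem F226730 : act 1 n50758 = n48610 := d16_1 D50758 (iv D48610) (iv F217015)
theorem F226731 : act 2 n50758 = n50758 := d23_1 D50758 (iv D50758) F217016
theorem F226732 : act 5 n50758 = n48608 := d38_1 D50758 (iv D48608) D48607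
def n50759 : Q := act 9 n48609
theorem D50759 : act 9 n48609 = n50759 := rfl
theorem F226733 : act 2 n50759 = n48611 := d23_1 D50759 (iv D48611) (iv F217021)
theorem F226734 : act 5 n50759 = n48619 := d38_1 D50759 (iv D48619) (iv F217022)
theorem F226735 : act 6 n50759 = n48610 := d41_1 D50759 (iv D48610) D48609
def n50760 : Q := act 9 n48613
theorem D50760 : act 9 n48613 = n50760 := rfl
theorem F226736 : act 0 n50760 = n48616 := d8_1 D50760 (iv D48616) (iv F217034)
theorem F226737 : act 2 n50760 = n50760 := d23_1 D50760 (iv D50760) F217035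
theorem F226738 : act 4 n50760 = n50760 := d34_1 D50760 (iv D50760) F217036
theorem F226739 : act 5 n50760 = n48614 := d38_1 D50760 (iv D48614) D48613
def n50761 : Q := act 8 n48614
theorem D50761 : act 8 n48614 = n50761 := rfl
theorem F226740 : act 0 n50761 = n48617 := d7_1 D50761 (iv D48617) (iv F217037)
theorem F226741 : act 2 n50761 = n50761 := d22_1 D50761 (iv D50761) F217038
theorem F226742 : act 4 n50761 = n48615 := d33_1 D50761 (iv D48615) (iv F217039)
def n50762 : Q := act 3 n48617
theorem D50762 : act 3 n48617 = n50762 := rfl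
theorem F226743 : act 1 n50762 = n48621 := d10_1 D50762 (iv D48621) (iv F217047)
def n50763 : Q := act 4 n48621
theorem D50763 : act 4 n48621 = n50763 := rfl
theorem F226744 : act 3 n50763 = n48622 := d24_1 D50763 (iv D48622) (iv D46402) (iv F207078) D48621
def n50764 : Q := act 9 n48623
theorem D50764 : act 9 n48623 = n50764 := rfl
theorem F226745 : act 1 n50764 = n48627 := d16_1 D50764 (iv D48627) (iv F217061)
theorem F226746 : act 3 n50764 = n48624 := d29_1 D50764 (iv D48624) D48623
theorem F226747 : act 6 n50764 = n50764 := d41_1 D50764 (iv D50764) F217062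
def n50765 : Q := act 8 n48624
theorem D50765 : act 8 n48624 = n50765 := rfl
theorem F226748 : act 1 n50765 = n48628 := d15_1 D50765 (iv D48628) (iv F217063)
theorem F226749 : act 2 n50765 = n48641 := d22_1 D50765 (iv D48641) (iv F217064)
theorem F226750 : act 4 n50765 = n48625 := d33_1 D50765 (iv D48625) (iv F217065)
theorem F226751 : act 6 n50765 = n50765 := d40_1 D50765 (iv D50765) F217066
theorem F226752 : act 9 n50765 = n50765 := d44_2 D48624 D50765 (iv D50765) (iv D48624) F207112
def n50766 : Q := act 9 n48626
theorem D50766 : act 9 n48626 = n50766 := rfl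
theorem F226753 : act 2 n50766 = n48725 := d23_1 D50766 (iv D48725) (iv F217072)
theorem F226754 : act 3 n50766 = n50766 := d29_1 D50766 (iv D50766) F217073
theorem F226755 : act 6 n50766 = n50766 := d41_1 D50766 (iv D50766) F217074
def n50767 : Q := act 8 n48627
theorem D50767 : act 8 n48627 = n50767 := rfl
theorem F226756 : act 2 n50767 = n48726 := d22_1 D50767 (iv D48726) (iv F217075)
theorem F226757 : act 6 n50767 = n50767 := d40_1 D50767 (iv D50767) F217077
def n50768 : Q := act 3 n48628
theorem D50768 : act 3 n48628 = n50768 := rfl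
theorem F226758 : act 6 n50768 = n50768 := d26_2 F217080 D50768 (iv D50768)
theorem F226759 : act 9 n50768 = n50768 := d29_2 F217081 D50768 (iv D50768)
def n50769 : Q := act 3 n48630
theorem D50769 : act 3 n48630 = n50769 := rfl
theorem F226760 : act 0 n50769 = n48631 := d2_1 D50769 (iv D48631) (iv F217086)
theorem F226761 : act 6 n50769 = n48633 := d26_2 (iv F217088) D50769 (iv D48633)
theorem F226762 : act 9 n50769 = n50769 := d29_2 F217089 D50769 (iv D50769)
def n50770 : Q := act 2 n48631
theorem D50770 : act 2 n48631 = n50770 := rfl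
theorem F226763 : act 1 n50770 = n50770 := d9_1 D50770 (iv D50770) F217090 F207143 (iv F217090)
theorem F226764 : act 3 n50770 = n48648 := d17_2 D48631 D50770 (iv D48648) (iv D46436) (iv F207140)
theorem F226765 : act 6 n50770 = n48634 := d20_2 (iv F217091) D50770 (iv D48634)
theorem F226766 : act 9 n50770 = n50770 := d23_2 F217092 D50770 (iv D50770)
def n50771 : Q := act 4 n48631
theorem D50771 : act 4 n48631 = n50771 := rfl
theorem F226767 : act 1 n50771 = n48632 := d11_1 D50771 (iv D48632) (iv F217090)
theorem F226768 : act 6 n50771 = n48635 := d31_2 (iv F217091) D50771 (iv D48635)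
theorem F226769 : act 9 n50771 = n50771 := d34_2 F217092 D50771 (iv D50771)
def n50772 : Q := act 5 n48632
theorem D50772 : act 5 n48632 = n50772 := rfl
theorem F226770 : act 2 n50772 = n50772 := d19_1 D50772 (iv D50772) F217093
theorem F226771 : act 9 n50772 = n50772 := d38_2 F217095 D50772 (iv D50772)
def n50773 : Q := act 6 n48636
theorem D50773 : act 6 n48636 = n50773 := rfl
theorem F226772 : act 2 n50773 = n50773 := d20_1 D50773 (iv D50773) F217105
theorem F226773 : act 4 n50773 = n50773 := d31_1 D50773 (iv D50773) F217106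
theorem F226774 : act 9 n50773 = n50773 := d41_2 F217107 D50773 (iv D50773)
def n50774 : Q := act 3 n48637
theorem D50774 : act 3 n48637 = n50774 := rfl
theorem F226775 : act 1 n50774 = n48638 := d10_1 D50774 (iv D48638) (iv F217108)
theorem F226776 : act 5 n50774 = n48645 := d25_2 (iv F217109) D50774 (iv D48645)
theorem F226777 : act 7 n50774 = n48642 := d27_2 (iv F217110) D50774 (iv D48642)
theorem F226778 : act 8 n50774 = n50774 := d28_2 D48637 D50774 (iv D50774) (iv D48637) F207156
theorem F226779 : act 9 n50774 = n50774 := d29_2 F217111 D50774 (iv D50774)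
def n50775 : Q := act 8 n48639
theorem D50775 : act 8 n48639 = n50775 := rfl
theorem F226780 : act 0 n50775 = n48641 := d7_1 D50775 (iv D48641) (iv F217118)
theorem F226781 : act 1 n50775 = n50775 := d15_1 D50775 (iv D50775) F217119
theorem F226782 : act 4 n50775 = n48640 := d33_1 D50775 (iv D48640) (iv F217120)
theorem F226783 : act 6 n50775 = n50775 := d40_1 D50775 (iv D50775) F217121
theorem F226784 : act 9 n50775 = n50775 := d44_2 D48639 D50775 (iv D50775) (iv D48639) F207167
def n50776 : Q := act 3 n48640
theorem D50776 : act 3 n48640 = n50776 := rfl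
theorem F226785 : act 0 n50776 = n48642 := d2_1 D50776 (iv D48642) (iv F217122)
theorem F226786 : act 1 n50776 = n50776 := d10_1 D50776 (iv D50776) F217123
theorem F226787 : act 5 n50776 = n48647 := d25_2 (iv F217124) D50776 (iv D48647)
theorem F226788 : act 6 n50776 = n50776 := d26_2 F217125 D50776 (iv D50776)
theorem F226789 : act 8 n50776 = n50776 := d28_2 D48640 D50776 (iv D50776) (iv D48640) F207170
theorem F226790 : act 9 n50776 = n50776 := d29_2 F217126 D50776 (iv D50776)
def n50777 : Q := act 2 n48642
theorem D50777 : act 2 n48642 = n50777 := rfl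
theorem F226791 : act 1 n50777 = n50777 := d9_1 D50777 (iv D50777) F217131 F207186 (iv F217131)
theorem F226792 : act 5 n50777 = n48648 := d19_2 (iv F217132) D50777 (iv D48648)
theorem F226793 : act 6 n50777 = n50777 := d20_2 F217133 D50777 (iv D50777)
theorem F226794 : act 8 n50777 = n50777 := d22_2 F217134 D50777 (iv D50777)
theorem F226795 : act 9 n50777 = n50777 := d23_2 F217135 D50777 (iv D50777)
def n50778 : Q := act 4 n48642
theorem D50778 : act 4 n48642 = n50778 := rfl
theorem F226796 : act 1 n50778 = n48643 := d11_1 D50778 (iv D48643) (iv F217131)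
theorem F226797 : act 6 n50778 = n50778 := d31_2 F217133 D50778 (iv D50778)
theorem F226798 : act 8 n50778 = n50778 := d33_2 F217134 D50778 (iv D50778)
theorem F226799 : act 9 n50778 = n50778 := d34_2 F217135 D50778 (iv D50778)
def n50779 : Q := act 3 n48644
theorem D50779 : act 3 n48644 = n50779 := rfl
theorem F226800 : act 0 n50779 = n48645 := d2_1 D50779 (iv D48645) (iv F217141)
theorem F226801 : act 1 n50779 = n50779 := d10_1 D50779 (iv D50779) F217142
theorem F226802 : act 6 n50779 = n48653 := d26_2 F220889 D50779 F220892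
theorem F226803 : act 7 n50779 = n48647 := d27_2 (iv F217143) D50779 (iv D48647)
theorem F226804 : act 8 n50779 = n50779 := d28_2 D48644 D50779 (iv D50779) (iv D48644) F207193
theorem F226805 : act 9 n50779 = n50779 := d29_2 F217144 D50779 (iv D50779)
theorem F226806 : act 2 n48649 = n50779 := d20_3 F226802 F217180 (iv F217164)
theorem F226807 : act 4 n48648 = n50779 := d31_3 F226802 (iv D48653) (iv F217160)
def n50780 : Q := act 2 n48645
theorem D50780 : act 2 n48645 = n50780 := rfl
theorem F226808 : act 0 n50780 = n48649 := d1_1 D50780 F226806 F226800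
theorem F226809 : act 1 n50780 = n50780 := d9_1 D50780 (iv D50780) F217145 F207199 (iv F217145)
theorem F226810 : act 6 n50780 = n48652 := d20_2 F226699 D50780 (iv F226697)
theorem F226811 : act 7 n50780 = n48648 := d21_2 (iv F217146) D50780 (iv D48648)
theorem F226812 : act 8 n50780 = n50780 := d22_2 F217147 D50780 (iv D50780)
theorem F226813 : act 9 n50780 = n50780 := d23_2 F217148 D50780 (iv D50780)
theorem F226814 : act 4 n48647 = n50780 := d32_3 F226811 F226807 F226803
def n50781 : Q := act 4 n48645
theorem D50781 : act 4 n48645 = n50781 := rfl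
theorem F226815 : act 0 n50781 = n48648 := d3_1 D50781 F226807 F226800
theorem F226816 : act 1 n50781 = n48646 := d11_1 D50781 (iv D48646) (iv F217145)
theorem F226817 : act 2 n50781 = n48647 := d18_1 D50781 F226814 (iv D50780)
theorem F226818 : act 6 n50781 = n48651 := d31_2 F226699 D50781 (iv F226698)
theorem F226819 : act 7 n50781 = n48649 := d32_2 (iv F217146) D50781 (iv D48649)
theorem F226820 : act 8 n50781 = n50781 := d33_2 F217147 D50781 (iv D50781)
theorem F226821 : act 9 n50781 = n50781 := d34_2 F217148 D50781 (iv D50781)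
def n50782 : Q := act 5 n48646
theorem D50782 : act 5 n48646 = n50782 := rfl
theorem F226822 : act 0 n50782 = n50782 := d4_1 D50782 (iv D50782) F217149
theorem F226823 : act 2 n50782 = n50782 := d19_1 D50782 (iv D50782) F217150
theorem F226824 : act 6 n50782 = n50782 := d35_2 F221007 D50782 (iv D50782) (iv F221007) F221006
theorem F226825 : act 7 n50782 = n48650 := d36_2 (iv F217151) D50782 (iv D48650)
theorem F226826 : act 8 n50782 = n50782 := d37_2 F217152 D50782 (iv D50782)
theorem F226827 : act 9 n50782 = n50782 := d38_2 F217153 D50782 (iv D50782)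
def n50783 : Q := act 5 n48649
theorem D50783 : act 5 n48649 = n50783 := rfl
theorem F226828 : act 1 n50783 = n48650 := d12_1 D50783 (iv D48650) (iv F217163)
theorem F226829 : act 8 n50783 = n50783 := d37_2 F217165 D50783 (iv D50783)
theorem F226830 : act 9 n50783 = n50783 := d38_2 F217166 D50783 (iv D50783)
def n50784 : Q := act 9 n48656
theorem D50784 : act 9 n48656 = n50784 := rfl
theorem F226831 : act 0 n50784 = n48657 := d8_1 D50784 (iv D48657) D48656
theorem F226832 : act 1 n50784 = n48676 := d16_1 D50784 F217294 (iv F217193)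
theorem F226833 : act 3 n50784 = n48669 := d29_1 D50784 (iv D48669) (iv F217194)
theorem F226834 : act 5 n50784 = n48662 := d38_1 D50784 (iv D48662) (iv F217195)
theorem F226835 : act 6 n50784 = n50784 := d41_1 D50784 (iv D50784) F217196
theorem F226836 : act 7 n50784 = n48677 := d43_1 D50784 F217297 (iv F217197)
def n50785 : Q := act 8 n48657
theorem D50785 : act 8 n48657 = n50785 := rfl
theorem F226837 : act 1 n50785 = n48658 := d15_1 D50785 (iv D48658) (iv F217199)
theorem F226838 : act 5 n50785 = n48663 := d37_1 D50785 (iv D48663) (iv F217201)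
theorem F226839 : act 6 n50785 = n50785 := d40_1 D50785 (iv D50785) F217202
theorem F226840 : act 9 n50785 = n50785 := d44_2 D48657 D50785 (iv D50785) (iv D48657) F207236
def n50786 : Q := act 3 n48658
theorem D50786 : act 3 n48658 = n50786 := rfl
theorem F226841 : act 0 n50786 = n48690 := d2_1 D50786 (iv D48690) (iv F217203)
theorem F226842 : act 2 n50786 = n50786 := d17_1 D50786 (iv D50786) F217204 F207243 (iv F217204)
theorem F226843 : act 5 n50786 = n48664 := d25_2 (iv F217205) D50786 (iv D48664)
theorem F226844 : act 6 n50786 = n50786 := d26_2 F217206 D50786 (iv D50786)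
theorem F226845 : act 7 n50786 = n48702 := d27_2 F217784 D50786 (iv F217780)
theorem F226846 : act 8 n50786 = n48675 := d28_2 D48658 D50786 (iv D48675) (iv D46461) (iv F207239)
theorem F226847 : act 9 n50786 = n50786 := d29_2 F217207 D50786 (iv D50786)
def n50787 : Q := act 9 n48659
theorem D50787 : act 9 n48659 = n50787 := rfl
theorem F226848 : act 0 n50787 = n48660 := d8_1 D50787 (iv D48660) D48659
theorem F226849 : act 1 n50787 = n48675 := d16_1 D50787 F217288 (iv F217208)
theorem F226850 : act 3 n50787 = n48672 := d29_1 D50787 F217276 (iv F217209)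
theorem F226851 : act 5 n50787 = n48677 := d38_1 D50787 F217297 (iv F217210)
theorem F226852 : act 6 n50787 = n50787 := d41_1 D50787 (iv D50787) F217211
theorem F226853 : act 7 n50787 = n48662 := d43_1 D50787 (iv D48662) (iv F217212)
def n50788 : Q := act 8 n48660
theorem D50788 : act 8 n48660 = n50788 := rfl
theorem F226854 : act 1 n50788 = n48661 := d15_1 D50788 (iv D48661) (iv F217214)
theorem F226855 : act 6 n50788 = n50788 := d40_1 D50788 (iv D50788) F217216
theorem F226856 : act 7 n50788 = n48663 := d42_1 D50788 (iv D48663) (iv F217217)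
theorem F226857 : act 9 n50788 = n50788 := d44_2 D48660 D50788 (iv D50788) (iv D48660) F207250
def n50789 : Q := act 3 n48661
theorem D50789 : act 3 n48661 = n50789 := rfl
theorem F226858 : act 0 n50789 = n48683 := d2_1 D50789 F217326 (iv F217218)
theorem F226859 : act 2 n50789 = n50789 := d17_1 D50789 (iv D50789) F217219 F207257 (iv F217219)
theorem F226860 : act 5 n50789 = n48702 := d25_2 F217782 D50789 (iv F217780)
theorem F226861 : act 6 n50789 = n50789 := d26_2 F217220 D50789 (iv D50789)
theorem F226862 : act 7 n50789 = n48664 := d27_2 (iv F217221) D50789 (iv D48664)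
theorem F226863 : act 8 n50789 = n48676 := d28_2 D48661 D50789 (iv D48676) (iv D46464) (iv F207253)
theorem F226864 : act 9 n50789 = n50789 := d29_2 F217222 D50789 (iv D50789)
def n50790 : Q := act 8 n48662
theorem D50790 : act 8 n48662 = n50790 := rfl
theorem F226865 : act 0 n50790 = n48663 := d7_1 D50790 (iv D48663) (iv F217223)
theorem F226866 : act 1 n50790 = n48702 := d15_1 D50790 (iv D48702) (iv F217224)
theorem F226867 : act 6 n50790 = n48665 := d40_1 D50790 (iv D48665) (iv F217226)
theorem F226868 : act 9 n50790 = n50790 := d44_2 D48662 D50790 (iv D50790) (iv D48662) F207264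
def n50791 : Q := act 3 n48663
theorem D50791 : act 3 n48663 = n50791 := rfl
theorem F226869 : act 1 n50791 = n48664 := d10_1 D50791 (iv D48664) (iv F217227)
theorem F226870 : act 6 n50791 = n48666 := d26_2 (iv F217228) D50791 (iv D48666)
theorem F226871 : act 8 n50791 = n48677 := d28_2 D48663 D50791 (iv D48677) (iv D46466) (iv F207266)
theorem F226872 : act 9 n50791 = n50791 := d29_2 F217229 D50791 (iv D50791)
def n50792 : Q := act 4 n48664
theorem D50792 : act 4 n48664 = n50792 := rfl
theorem F226873 : act 0 n50792 = n48710 := d3_1 D50792 (iv D48710) (iv F217230)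
theorem F226874 : act 2 n50792 = n50792 := d18_1 D50792 (iv D50792) F217231
theorem F226875 : act 6 n50792 = n48667 := d31_2 (iv F217232) D50792 (iv D48667)
theorem F226876 : act 8 n50792 = n48678 := d33_2 (iv F217233) D50792 (iv D48678)
theorem F226877 : act 9 n50792 = n50792 := d34_2 F217234 D50792 (iv D50792)
def n50793 : Q := act 9 n48670
theorem D50793 : act 9 n48670 = n50793 := rfl
theorem F226878 : act 1 n50793 = n48674 := d16_1 D50793 (iv D48674) (iv F217264)
theorem F226879 : act 3 n50793 = n48671 := d29_1 D50793 (iv D48671) D48670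
theorem F226880 : act 6 n50793 = n50793 := d41_1 D50793 (iv D50793) F217265
def n50794 : Q := act 9 n48673
theorem D50794 : act 9 n48673 = n50794 := rfl
theorem F226881 : act 0 n50794 = n48725 := d8_1 D50794 (iv D48725) (iv F217277)
theorem F226882 : act 3 n50794 = n48728 := d29_1 D50794 (iv D48728) (iv F217278)
theorem F226883 : act 6 n50794 = n50794 := d41_1 D50794 (iv D50794) F217279
def n50795 : Q := act 8 n48674
theorem D50795 : act 8 n48674 = n50795 := rfl
theorem F226884 : act 0 n50795 = n48726 := d7_1 D50795 (iv D48726) (iv F217280)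
theorem F226885 : act 6 n50795 = n50795 := d40_1 D50795 (iv D50795) F217282
def n50796 : Q := act 4 n48675
theorem D50796 : act 4 n48675 = n50796 := rfl
theorem F226886 : act 0 n50796 = n48696 := d3_1 D50796 F217382 (iv F217283)
theorem F226887 : act 2 n50796 = n50796 := d18_1 D50796 (iv D50796) F217284
theorem F226888 : act 6 n50796 = n50796 := d31_2 F217286 D50796 (iv D50796)
theorem F226889 : act 7 n50796 = n48701 := d32_2 (iv F217287) D50796 F217402
theorem F226890 : act 9 n50796 = n48694 := d34_2 (iv F217288) D50796 (iv D48694)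
def n50797 : Q := act 4 n48676
theorem D50797 : act 4 n48676 = n50797 := rfl
theorem F226891 : act 0 n50797 = n48682 := d3_1 D50797 F217321 (iv F217289)
theorem F226892 : act 2 n50797 = n50797 := d18_1 D50797 (iv D50797) F217290
theorem F226893 : act 6 n50797 = n50797 := d31_2 F217292 D50797 (iv D50797)
theorem F226894 : act 7 n50797 = n48678 := d32_2 (iv F217293) D50797 (iv D48678)
theorem F226895 : act 9 n50797 = n48680 := d34_2 (iv F217294) D50797 (iv D48680)
def n50798 : Q := act 5 n48678
theorem D50798 : act 5 n48678 = n50798 := rfl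
theorem F226896 : act 0 n50798 = n48727 := d4_1 D50798 (iv D48727) (iv F217298)
theorem F226897 : act 2 n50798 = n50798 := d19_1 D50798 (iv D50798) F217299
theorem F226898 : act 9 n50798 = n48729 := d38_2 (iv F217301) D50798 (iv D48729)
def n50799 : Q := act 5 n48680
theorem D50799 : act 5 n48680 = n50799 := rfl
theorem F226899 : act 0 n50799 = n48681 := d4_1 D50799 (iv D48681) (iv F217309)
theorem F226900 : act 2 n50799 = n50799 := d19_1 D50799 (iv D50799) F217310
theorem F226901 : act 4 n50799 = n48700 := d30_1 D50799 (iv D48700) (iv D46491) (iv F207380) D48680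
theorem F226902 : act 7 n50799 = n48729 := d36_2 (iv F217312) D50799 (iv D48729)
theorem F226903 : act 8 n50799 = n50799 := d37_2 F217313 D50799 (iv D50799)
def n50800 : Q := act 6 n48681
theorem D50800 : act 6 n48681 = n50800 := rfl
theorem F226904 : act 1 n50800 = n48687 := d13_1 D50800 (iv D48687) (iv F217314)
theorem F226905 : act 2 n50800 = n50800 := d20_1 D50800 (iv D50800) F217315
theorem F226906 : act 4 n50800 = n48703 := d31_1 D50800 (iv D48703) (iv F217316)
theorem F226907 : act 5 n50800 = n50800 := d35_1 D50800 (iv D50800) (iv D48681) F207386 D48681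
theorem F226908 : act 8 n50800 = n50800 := d40_2 F217318 D50800 (iv D50800)
def n50801 : Q := act 9 n48681
theorem D50801 : act 9 n48681 = n50801 := rfl
theorem F226909 : act 1 n50801 = n48688 := d16_1 D50801 (iv D48688) (iv F217314)
theorem F226910 : act 2 n50801 = n50801 := d23_1 D50801 (iv D50801) F217315
theorem F226911 : act 4 n50801 = n48704 := d34_1 D50801 (iv D48704) (iv F217316)
theorem F226912 : act 5 n50801 = n48682 := d38_1 D50801 (iv D48682) D48681
theorem F226913 : act 7 n50801 = n48727 := d43_1 D50801 F217500 (iv F217317)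
def n50802 : Q := act 8 n48682
theorem D50802 : act 8 n48682 = n50802 := rfl
theorem F226914 : act 1 n50802 = n48689 := d15_1 D50802 (iv D48689) (iv F217319)
theorem F226915 : act 2 n50802 = n50802 := d22_1 D50802 (iv D50802) F217320
theorem F226916 : act 4 n50802 = n48683 := d33_1 D50802 (iv D48683) (iv F217321)
theorem F226917 : act 6 n50802 = n50802 := d40_1 D50802 (iv D50802) F217322
theorem F226918 : act 7 n50802 = n48710 := d42_1 D50802 F217433 (iv F217323)
theorem F226919 : act 9 n50802 = n50802 := d44_2 D48682 D50802 (iv D50802) (iv D48682) F207388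
def n50803 : Q := act 6 n48684
theorem D50803 : act 6 n48684 = n50803 := rfl
theorem F226920 : act 3 n50803 = n48687 := d26_1 D50803 (iv D48687) (iv F217331)
theorem F226921 : act 5 n50803 = n50803 := d35_1 D50803 (iv D50803) (iv D48684) F207396 D48684
def n50804 : Q := act 8 n48684
theorem D50804 : act 8 n48684 = n50804 := rfl
theorem F226922 : act 3 n50804 = n50804 := d28_1 D50804 (iv D50804) F217331 F207399 (iv F217331)
theorem F226923 : act 5 n50804 = n48685 := d37_1 D50804 (iv D48685) D48684
def n50805 : Q := act 9 n48684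
theorem D50805 : act 9 n48684 = n50805 := rfl
theorem F226924 : act 3 n50805 = n48688 := d29_1 D50805 (iv D48688) (iv F217331)
theorem F226925 : act 5 n50805 = n48686 := d38_1 D50805 (iv D48686) D48684
def n50806 : Q := act 9 n48685
theorem D50806 : act 9 n48685 = n50806 := rfl
theorem F226926 : act 3 n50806 = n50806 := d29_1 D50806 (iv D50806) F217332
theorem F226927 : act 4 n50806 = n48725 := d34_1 D50806 (iv D48725) (iv F217333)
theorem F226928 : act 6 n50806 = n50806 := d41_1 D50806 (iv D50806) F217334
def n50807 : Q := act 8 n48686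
theorem D50807 : act 8 n48686 = n50807 := rfl
theorem F226929 : act 4 n50807 = n48726 := d33_1 D50807 (iv D48726) (iv F217336)
theorem F226930 : act 6 n50807 = n50807 := d40_1 D50807 (iv D50807) F217337
def n50808 : Q := act 9 n48687
theorem D50808 : act 9 n48687 = n50808 := rfl
theorem F226931 : act 2 n50808 = n48691 := d23_1 D50808 (iv D48691) (iv F217338)
theorem F226932 : act 4 n50808 = n48707 := d34_1 D50808 (iv D48707) (iv F217339)
theorem F226933 : act 5 n50808 = n50808 := d38_1 D50808 (iv D50808) F217340
theorem F226934 : act 6 n50808 = n48688 := d41_1 D50808 (iv D48688) D48687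
def n50809 : Q := act 8 n48688
theorem D50809 : act 8 n48688 = n50809 := rfl
theorem F226935 : act 2 n50809 = n48692 := d22_1 D50809 (iv D48692) (iv F217342)
theorem F226936 : act 4 n50809 = n48708 := d33_1 D50809 (iv D48708) (iv F217343)
theorem F226937 : act 5 n50809 = n48689 := d37_1 D50809 (iv D48689) (iv F217344)
theorem F226938 : act 9 n50809 = n50809 := d44_2 D48688 D50809 (iv D50809) (iv D48688) F207399
def n50810 : Q := act 3 n48689
theorem D50810 : act 3 n48689 = n50810 := rfl
theorem F226939 : act 6 n50810 = n50810 := d26_2 F217347 D50810 (iv D50810)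
theorem F226940 : act 9 n50810 = n50810 := d29_2 F217348 D50810 (iv D50810)
def n50811 : Q := act 4 n48690
theorem D50811 : act 4 n48690 = n50811 := rfl
theorem F226941 : act 1 n50811 = n48698 := d11_1 D50811 F217389 (iv F217349)
theorem F226942 : act 2 n50811 = n50811 := d18_1 D50811 (iv D50811) F217350
theorem F226943 : act 6 n50811 = n50811 := d31_2 F217352 D50811 (iv D50811)
theorem F226944 : act 7 n50811 = n48705 := d32_2 (iv F217353) D50811 F217417
theorem F226945 : act 8 n50811 = n48696 := d33_2 (iv F217354) D50811 F217382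
theorem F226946 : act 9 n50811 = n50811 := d34_2 F217355 D50811 (iv D50811)
def n50812 : Q := act 8 n48691
theorem D50812 : act 8 n48691 = n50812 := rfl
theorem F226947 : act 1 n50812 = n50812 := d15_1 D50812 (iv D50812) F217356
theorem F226948 : act 4 n50812 = n48712 := d33_1 D50812 (iv D48712) (iv F217357)
theorem F226949 : act 5 n50812 = n50812 := d37_1 D50812 (iv D50812) F217358
theorem F226950 : act 6 n50812 = n48692 := d40_1 D50812 (iv D48692) (iv F217359)
theorem F226951 : act 9 n50812 = n50812 := d44_2 D48691 D50812 (iv D50812) (iv D48691) F207410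
def n50813 : Q := act 3 n48692
theorem D50813 : act 3 n48692 = n50813 := rfl
theorem F226952 : act 1 n50813 = n50813 := d10_1 D50813 (iv D50813) F217360
theorem F226953 : act 5 n50813 = n48693 := d25_2 (iv F217362) D50813 (iv D48693)
theorem F226954 : act 7 n50813 = n48712 := d27_2 F219509 D50813 (iv F219505)
theorem F226955 : act 8 n50813 = n48711 := d28_2 D48692 D50813 F217436 (iv F209670) F209666
theorem F226956 : act 9 n50813 = n50813 := d29_2 F217363 D50813 (iv D50813)
def n50814 : Q := act 2 n48693
theorem D50814 : act 2 n48693 = n50814 := rfl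
theorem F226957 : act 4 n50814 = n50814 := d18_2 F217365 D50814 (iv D50814)
theorem F226958 : act 6 n50814 = n50814 := d20_2 F217366 D50814 (iv D50814)
theorem F226959 : act 7 n50814 = n48721 := d21_2 (iv F217367) D50814 F217482
theorem F226960 : act 8 n50814 = n48720 := d22_2 (iv F217368) D50814 F217478
theorem F226961 : act 9 n50814 = n50814 := d23_2 F217369 D50814 (iv D50814)
def n50815 : Q := act 5 n48694
theorem D50815 : act 5 n48694 = n50815 := rfl
theorem F226962 : act 0 n50815 = n48695 := d4_1 D50815 (iv D48695) (iv F217370)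
theorem F226963 : act 2 n50815 = n50815 := d19_1 D50815 (iv D50815) F217371
theorem F226964 : act 4 n50815 = n48729 := d30_1 D50815 (iv D48729) (iv D46525) (iv F207420) D48694
theorem F226965 : act 7 n50815 = n48700 := d36_2 (iv F217373) D50815 (iv D48700)
theorem F226966 : act 8 n50815 = n50815 := d37_2 F217374 D50815 (iv D50815)
def n50816 : Q := act 9 n48695
theorem D50816 : act 9 n48695 = n50816 := rfl
theorem F226967 : act 1 n50816 = n48697 := d16_1 D50816 (iv D48697) (iv F217375)
theorem F226968 : act 2 n50816 = n50816 := d23_1 D50816 (iv D50816) F217376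
theorem F226969 : act 4 n50816 = n48727 := d34_1 D50816 F217500 (iv F217377)
theorem F226970 : act 5 n50816 = n48696 := d38_1 D50816 (iv D48696) D48695
theorem F226971 : act 7 n50816 = n48704 := d43_1 D50816 (iv D48704) (iv F217378)
def n50817 : Q := act 8 n48697
theorem D50817 : act 8 n48697 = n50817 := rfl
theorem F226972 : act 2 n50817 = n48699 := d22_1 D50817 (iv D48699) (iv F217385)
theorem F226973 : act 5 n50817 = n48698 := d37_1 D50817 (iv D48698) (iv F217386)
theorem F226974 : act 7 n50817 = n48708 := d42_1 D50817 (iv D48708) (iv F217387)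
theorem F226975 : act 9 n50817 = n50817 := d44_2 D48697 D50817 (iv D50817) (iv D48697) F207437
def n50818 : Q := act 3 n48698
theorem D50818 : act 3 n48698 = n50818 := rfl
theorem F226976 : act 6 n50818 = n50818 := d26_2 F217390 D50818 (iv D50818)
theorem F226977 : act 7 n50818 = n48709 := d27_2 (iv F217391) D50818 (iv D48709)
theorem F226978 : act 9 n50818 = n50818 := d29_2 F217392 D50818 (iv D50818)
def n50819 : Q := act 9 n48700
theorem D50819 : act 9 n48700 = n50819 := rfl
theorem F226979 : act 0 n50819 = n48704 := d8_1 D50819 (iv D48704) (iv F217397)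
theorem F226980 : act 2 n50819 = n50819 := d23_1 D50819 (iv D50819) F217398
theorem F226981 : act 5 n50819 = n48701 := d38_1 D50819 (iv D48701) D48700
def n50820 : Q := act 8 n48701
theorem D50820 : act 8 n48701 = n50820 := rfl
theorem F226982 : act 0 n50820 = n48705 := d7_1 D50820 (iv D48705) (iv F217400)
theorem F226983 : act 2 n50820 = n50820 := d22_1 D50820 (iv D50820) F217401
theorem F226984 : act 4 n50820 = n48702 := d33_1 D50820 (iv D48702) (iv F217402)
theorem F226985 : act 6 n50820 = n48715 := d40_1 D50820 (iv D48715) (iv F217403)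
theorem F226986 : act 9 n50820 = n50820 := d44_2 D48701 D50820 (iv D50820) (iv D48701) F207458
def n50821 : Q := act 9 n48703
theorem D50821 : act 9 n48703 = n50821 := rfl
theorem F226987 : act 1 n50821 = n48707 := d16_1 D50821 (iv D48707) (iv F217408)
theorem F226988 : act 2 n50821 = n50821 := d23_1 D50821 (iv D50821) F217409
theorem F226989 : act 5 n50821 = n48717 := d38_1 D50821 (iv D48717) (iv F217410)
theorem F226990 : act 6 n50821 = n48704 := d41_1 D50821 (iv D48704) D48703
def n50822 : Q := act 8 n48704
theorem D50822 : act 8 n48704 = n50822 := rfl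
theorem F226991 : act 1 n50822 = n48708 := d15_1 D50822 (iv D48708) (iv F217412)
theorem F226992 : act 2 n50822 = n50822 := d22_1 D50822 (iv D50822) F217413
theorem F226993 : act 5 n50822 = n48705 := d37_1 D50822 (iv D48705) (iv F217414)
theorem F226994 : act 9 n50822 = n50822 := d44_2 D48704 D50822 (iv D50822) (iv D48704) F207465
def n50823 : Q := act 3 n48705
theorem D50823 : act 3 n48705 = n50823 := rfl
theorem F226995 : act 1 n50823 = n48709 := d10_1 D50823 (iv D48709) (iv F217415)
theorem F226996 : act 6 n50823 = n48719 := d26_2 (iv F217418) D50823 (iv D48719)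
theorem F226997 : act 9 n50823 = n50823 := d29_2 F217419 D50823 (iv D50823)
def n50824 : Q := act 9 n48706
theorem D50824 : act 9 n48706 = n50824 := rfl
theorem F226998 : act 2 n50824 = n48711 := d23_1 D50824 (iv D48711) (iv F217420)
theorem F226999 : act 5 n50824 = n48720 := d38_1 D50824 (iv D48720) (iv F217421)
theorem F227000 : act 7 n50824 = n48707 := d43_1 D50824 (iv D48707) D48706
def n50825 : Q := act 8 n48707
theorem D50825 : act 8 n48707 = n50825 := rfl
theorem F227001 : act 2 n50825 = n48712 := d22_1 D50825 (iv D48712) (iv F217423)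
theorem F227002 : act 5 n50825 = n48721 := d37_1 D50825 (iv D48721) (iv F217424)
theorem F227003 : act 6 n50825 = n48708 := d40_1 D50825 (iv D48708) (iv F217425)
theorem F227004 : act 9 n50825 = n50825 := d44_2 D48707 D50825 (iv D50825) (iv D48707) F207476
def n50826 : Q := act 3 n48708
theorem D50826 : act 3 n48708 = n50826 := rfl
theorem F227005 : act 5 n50826 = n48709 := d25_2 (iv F217427) D50826 (iv D48709)
theorem F227006 : act 9 n50826 = n50826 := d29_2 F217428 D50826 (iv D50826)
def n50827 : Q := act 4 n48709
theorem D50827 : act 4 n48709 = n50827 := rfl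
theorem F227007 : act 3 n50827 = n48710 := d24_1 D50827 (iv D48710) (iv D46499) (iv F207480) D48709
theorem F227008 : act 6 n50827 = n48723 := d31_2 (iv F217429) D50827 (iv D48723)
theorem F227009 : act 9 n50827 = n50827 := d34_2 F217430 D50827 (iv D50827)
def n50828 : Q := act 5 n48710
theorem D50828 : act 5 n48710 = n50828 := rfl
theorem F227010 : act 2 n50828 = n50828 := d19_1 D50828 (iv D50828) F217431
theorem F227011 : act 8 n50828 = n48727 := d37_2 (iv F217433) D50828 (iv D48727)
theorem F227012 : act 9 n50828 = n50828 := d38_2 F217434 D50828 (iv D50828)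
def n50829 : Q := act 9 n48713
theorem D50829 : act 9 n48713 = n50829 := rfl
theorem F227013 : act 0 n50829 = n48717 := d8_1 D50829 (iv D48717) (iv F217443)
theorem F227014 : act 1 n50829 = n48743 := d16_1 D50829 (iv D48743) (iv F217444)
theorem F227015 : act 2 n50829 = n50829 := d23_1 D50829 (iv D50829) F217445
theorem F227016 : act 4 n50829 = n50829 := d34_1 D50829 (iv D50829) F217446
theorem F227017 : act 6 n50829 = n48714 := d41_1 D50829 (iv D48714) D48713
theorem F227018 : act 7 n50829 = n48745 := d43_1 D50829 (iv D48745) F217448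
def n50830 : Q := act 8 n48714
theorem D50830 : act 8 n48714 = n50830 := rfl
theorem F227019 : act 0 n50830 = n48718 := d7_1 D50830 (iv D48718) (iv F217449)
theorem F227020 : act 2 n50830 = n50830 := d22_1 D50830 (iv D50830) F217450
theorem F227021 : act 4 n50830 = n50830 := d33_1 D50830 (iv D50830) F217451
theorem F227022 : act 5 n50830 = n48715 := d37_1 D50830 (iv D48715) (iv F217452)
theorem F227023 : act 7 n50830 = n50830 := d42_1 D50830 (iv D50830) F217453
theorem F227024 : act 9 n50830 = n50830 := d44_2 D48714 D50830 (iv D50830) (iv D48714) F207502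
def n50831 : Q := act 9 n48716
theorem D50831 : act 9 n48716 = n50831 := rfl
theorem F227025 : act 0 n50831 = n48745 := d8_1 D50831 (iv D48745) (iv F217459)
theorem F227026 : act 1 n50831 = n48720 := d16_1 D50831 (iv D48720) (iv F217460)
theorem F227027 : act 2 n50831 = n50831 := d23_1 D50831 (iv D50831) F217461
theorem F227028 : act 4 n50831 = n50831 := d34_1 D50831 (iv D50831) F217462
theorem F227029 : act 6 n50831 = n50831 := d41_1 D50831 (iv D50831) F217463
theorem F227030 : act 7 n50831 = n48717 := d43_1 D50831 (iv D48717) D48716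
def n50832 : Q := act 8 n48717
theorem D50832 : act 8 n48717 = n50832 := rfl
theorem F227031 : act 1 n50832 = n48721 := d15_1 D50832 (iv D48721) (iv F217465)
theorem F227032 : act 2 n50832 = n50832 := d22_1 D50832 (iv D50832) F217466
theorem F227033 : act 4 n50832 = n50832 := d33_1 D50832 (iv D50832) F217467
theorem F227034 : act 6 n50832 = n48718 := d40_1 D50832 (iv D48718) (iv F217468)
theorem F227035 : act 9 n50832 = n50832 := d44_2 D48717 D50832 (iv D50832) (iv D48717) F207515
def n50833 : Q := act 3 n48718
theorem D50833 : act 3 n48718 = n50833 := rfl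
theorem F227036 : act 1 n50833 = n48722 := d10_1 D50833 (iv D48722) (iv F217469)
theorem F227037 : act 5 n50833 = n48719 := d25_2 (iv F217472) D50833 (iv D48719)
theorem F227038 : act 7 n50833 = n50833 := d27_2 F217473 D50833 (iv D50833)
theorem F227039 : act 9 n50833 = n50833 := d29_2 F217474 D50833 (iv D50833)
def n50834 : Q := act 2 n48719
theorem D50834 : act 2 n48719 = n50834 := rfl
theorem F227040 : act 3 n50834 = n50834 := d17_2 D48719 D50834 (iv D50834) (iv D48719) F207522
theorem F227041 : act 4 n50834 = n48722 := d18_2 F219521 D50834 (iv F219520)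
theorem F227042 : act 7 n50834 = n50834 := d21_2 F217476 D50834 (iv D50834)
theorem F227043 : act 9 n50834 = n50834 := d23_2 F217477 D50834 (iv D50834)
def n50835 : Q := act 3 n48721
theorem D50835 : act 3 n48721 = n50835 := rfl
theorem F227044 : act 6 n50835 = n48722 := d26_2 (iv F217484) D50835 (iv D48722)
theorem F227045 : act 9 n50835 = n50835 := d29_2 F217485 D50835 (iv D50835)
def n50836 : Q := act 8 n48725
theorem D50836 : act 8 n48725 = n50836 := rfl
theorem F227046 : act 6 n50836 = n50836 := d40_1 D50836 (iv D50836) F217497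
theorem F227047 : act 9 n50836 = n48726 := d44_2 D48725 D50836 (iv D48726) (iv D46521) D46520
def n50837 : Q := act 8 n48730
theorem D50837 : act 8 n48730 = n50837 := rfl
theorem F227048 : act 3 n50837 = n48735 := d28_1 D50837 (iv D48735) F207683 (iv F207666) (iv F217508)
theorem F227049 : act 6 n50837 = n50837 := d40_1 D50837 (iv D50837) F217509
def n50838 : Q := act 9 n48731
theorem D50838 : act 9 n48731 = n50838 := rfl
theorem F227050 : act 0 n50838 = n48734 := d8_1 D50838 (iv D48734) (iv F217510)
theorem F227051 : act 2 n50838 = n48732 := d23_1 D50838 (iv D48732) D48731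
theorem F227052 : act 3 n50838 = n48741 := d29_1 D50838 (iv D48741) (iv F217511)
theorem F227053 : act 6 n50838 = n50838 := d41_1 D50838 (iv D50838) F217512
def n50839 : Q := act 8 n48732
theorem D50839 : act 8 n48732 = n50839 := rfl
theorem F227054 : act 0 n50839 = n48735 := d7_1 D50839 (iv D48735) (iv F217513)
theorem F227055 : act 6 n50839 = n50839 := d40_1 D50839 (iv D50839) F217515
def n50840 : Q := act 9 n48733
theorem D50840 : act 9 n48733 = n50840 := rfl
theorem F227056 : act 1 n50840 = n48734 := d16_1 D50840 (iv D48734) D48733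
theorem F227057 : act 3 n50840 = n48745 := d29_1 D50840 (iv D48745) (iv F217516)
theorem F227058 : act 6 n50840 = n50840 := d41_1 D50840 (iv D50840) F217517
def n50841 : Q := act 8 n48734
theorem D50841 : act 8 n48734 = n50841 := rfl
theorem F227059 : act 2 n50841 = n48735 := d22_1 D50841 (iv D48735) (iv F217518)
theorem F227060 : act 6 n50841 = n50841 := d40_1 D50841 (iv D50841) F217520
def n50842 : Q := act 9 n48736
theorem D50842 : act 9 n48736 = n50842 := rfl
theorem F227061 : act 2 n50842 = n50842 := d23_1 D50842 (iv D50842) F217522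
theorem F227062 : act 5 n50842 = n48738 := d38_1 D50842 (iv D48738) (iv F217523)
theorem F227063 : act 7 n50842 = n48737 := d43_1 D50842 (iv D48737) D48736
def n50843 : Q := act 8 n48739
theorem D50843 : act 8 n48739 = n50843 := rfl
theorem F227064 : act 0 n50843 = n48740 := d7_1 D50843 (iv D48740) (iv F217532)
theorem F227065 : act 3 n50843 = n48742 := d28_1 D50843 (iv D48742) F207722 (iv F207709) (iv F217533)
theorem F227066 : act 6 n50843 = n50843 := d40_1 D50843 (iv D50843) F217534
theorem F227067 : act 9 n50843 = n50843 := d44_2 D48739 D50843 (iv D50843) (iv D48739) F207705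
def n50844 : Q := act 8 n48741
theorem D50844 : act 8 n48741 = n50844 := rfl
theorem F227068 : act 0 n50844 = n48746 := d7_1 D50844 (iv D48746) (iv F217539)
theorem F227069 : act 2 n50844 = n48742 := d22_1 D50844 (iv D48742) (iv F217540)
theorem F227070 : act 4 n50844 = n50844 := d33_1 D50844 (iv D50844) F217541
theorem F227071 : act 6 n50844 = n50844 := d40_1 D50844 (iv D50844) F217542
theorem F227072 : act 9 n50844 = n50844 := d44_2 D48741 D50844 (iv D50844) (iv D48741) F207720
def n50845 : Q := act 8 n48743
theorem D50845 : act 8 n48743 = n50845 := rfl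
theorem F227073 : act 2 n50845 = n48744 := d22_1 D50845 (iv D48744) (iv F217547)
theorem F227074 : act 4 n50845 = n50845 := d33_1 D50845 (iv D50845) F217548
theorem F227075 : act 7 n50845 = n48746 := d42_1 D50845 (iv D48746) (iv F217549)
theorem F227076 : act 9 n50845 = n50845 := d44_2 D48743 D50845 (iv D50845) (iv D48743) F207727
def n50846 : Q := act 8 n48745
theorem D50846 : act 8 n48745 = n50846 := rfl
theorem F227077 : act 1 n50846 = n48746 := d15_1 D50846 (iv D48746) (iv F217554)
theorem F227078 : act 2 n50846 = n50846 := d22_1 D50846 (iv D50846) F217555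
theorem F227079 : act 4 n50846 = n50846 := d33_1 D50846 (iv D50846) F217556
theorem F227080 : act 6 n50846 = n50846 := d40_1 D50846 (iv D50846) F217557
theorem F227081 : act 9 n50846 = n50846 := d44_2 D48745 D50846 (iv D50846) (iv D48745) F207735
def n50847 : Q := act 3 n48746
theorem D50847 : act 3 n48746 = n50847 := rfl
theorem F227082 : act 6 n50847 = n50847 := d26_2 F217560 D50847 (iv D50847)
theorem F227083 : act 9 n50847 = n50847 := d29_2 F217561 D50847 (iv D50847)
def n50848 : Q := act 9 n48747
theorem D50848 : act 9 n48747 = n50848 := rfl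
theorem F227084 : act 0 n50848 = n49173 := d8_1 D50848 (iv D49173) (iv F217562)
theorem F227085 : act 1 n50848 = n50848 := d16_1 D50848 (iv D50848) F217563
theorem F227086 : act 2 n50848 = n48826 := d23_1 D50848 (iv D48826) (iv F217564)
theorem F227087 : act 3 n50848 = n50848 := d29_1 D50848 (iv D50848) F217565
theorem F227088 : act 4 n50848 = n49227 := d34_1 D50848 (iv D49227) (iv F217566)
theorem F227089 : act 5 n50848 = n50848 := d38_1 D50848 (iv D50848) F217567
theorem F227090 : act 6 n50848 = n48748 := d41_1 D50848 (iv D48748) D48747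
theorem F227091 : act 7 n50848 = n49328 := d43_1 D50848 (iv D49328) F217569
theorem F227092 : act 8 n50748 = n50848 := d42_0 F227091 F220994 (iv F226673)
def n50849 : Q := act 8 n48748
theorem D50849 : act 8 n48748 = n50849 := rfl
theorem F227093 : act 0 n50849 = n50316 := d7_1 D50849 (iv D50316) (iv F217570)
theorem F227094 : act 1 n50849 = n50849 := d15_1 D50849 (iv D50849) F217571
theorem F227095 : act 2 n50849 = n48827 := d22_1 D50849 (iv D48827) (iv F217572)
theorem F227096 : act 4 n50849 = n50298 := d33_1 D50849 (iv D50298) (iv F217574)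
theorem F227097 : act 5 n50849 = n48749 := d37_1 D50849 (iv D48749) (iv F217575)
theorem F227098 : act 6 n50849 = n50748 := d40_1 D50849 F227092 F227090
theorem F227099 : act 7 n50849 = n48758 := d42_1 D50849 (iv D48758) (iv F217576)
theorem F227100 : act 9 n50849 = n50849 := d44_2 D48748 D50849 (iv D50849) (iv D48748) F207761
theorem F227101 : act 3 n50755 = n50849 := d45_89 F227100 (iv D50849) F217573 F217575 F207766 F173547 F121046 F121047 F84672 (iv D13632) (iv D9401) (iv D6494) D6495 (iv F42013) (iv F59684) F59683 F42016 F42017 (iv F41997) F41996 (iv F59650) (iv D13570) F41989 (iv D6760) (iv F30954) F30955 D7323 F33380 D7333 F33419 F201499 F25075 F17758 F12616 F8989 F6418 F6421 (iv F8750) (iv F12047) F12048 (iv F16775) F16774 (iv F21935) (iv F30993) (iv F43958) F206094 (iv D13582) F42017 (iv D6474) (iv D4484) F14922 D3240 F15548 F11911 (iv F16746) (iv F201268) F12792 (iv D1827) (iv D1272) (iv F6397) F6396 F5074 F5075 F3668 F3667 (iv F5075) F5076 D1410 D2030 (iv F12593) D3729 (iv F22906) F22910 D7117 F201657 (iv F62900) (iv F89869) F205520 F122304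 F85530 D20039 D29156 D42479 (iv F210537) F210538 F188360 D46369 (iv F216966) D50755
def n50850 : Q := act 3 n48749
theorem D50850 : act 3 n48749 = n50850 := rfl
theorem F227102 : act 0 n50850 = n50746 := d2_1 D50850 (iv D50746) (iv F217577)
theorem F227103 : act 1 n50850 = n50850 := d10_1 D50850 (iv D50850) F217578
theorem F227104 : act 2 n50850 = n50752 := d17_1 D50850 (iv D50752) (iv F217996) F217997 (iv F217579)
theorem F227105 : act 4 n50850 = n50850 := d24_2 (iv F217580) D50850 (iv D50850) F217580 F207772
theorem F227106 : act 5 n50850 = n50755 := d25_2 F227097 D50850 F227101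
theorem F227107 : act 6 n50850 = n50850 := d26_2 F217581 D50850 (iv D50850)
theorem F227108 : act 7 n50850 = n48759 := d27_2 (iv F217582) D50850 (iv D48759)
theorem F227109 : act 8 n50850 = n50850 := d28_2 D48749 D50850 (iv D50850) (iv D48749) F207765
theorem F227110 : act 9 n50850 = n50850 := d29_2 F217583 D50850 (iv D50850)
def n50851 : Q := act 9 n48750
theorem D50851 : act 9 n48750 = n50851 := rfl
theorem F227111 : act 0 n50851 = n48757 := d8_1 D50851 (iv D48757) (iv F217584)
theorem F227112 : act 1 n50851 = n49324 := d16_1 D50851 (iv D49324) (iv F217585)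
theorem F227113 : act 2 n50851 = n48887 := d23_1 D50851 (iv D48887) (iv F217586)
theorem F227114 : act 3 n50851 = n50851 := d29_1 D50851 (iv D50851) F217587
theorem F227115 : act 4 n50851 = n49439 := d34_1 D50851 (iv D49439) (iv F217588)
theorem F227116 : act 5 n50851 = n48763 := d38_1 D50851 (iv D48763) (iv F217589)
theorem F227117 : act 6 n50851 = n48751 := d41_1 D50851 (iv D48751) D48750
theorem F227118 : act 7 n50851 = n49326 := d43_1 D50851 (iv D49326) (iv F217590)
theorem F227119 : act 8 n50491 = n50851 := d40_0 F227117 (iv F217599) (iv F225873)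
def n50852 : Q := act 9 n48753
theorem D50852 : act 9 n48753 = n50852 := rfl
theorem F227120 : act 0 n50852 = n49439 := d8_1 D50852 (iv D49439) (iv F217609)
theorem F227121 : act 1 n50852 = n50852 := d16_1 D50852 (iv D50852) F217610
theorem F227122 : act 2 n50852 = n48920 := d23_1 D50852 (iv D48920) (iv F217611)
theorem F227123 : act 3 n50852 = n50053 := d29_1 D50852 F224251 (iv F217612)
theorem F227124 : act 4 n50852 = n48757 := d34_1 D50852 (iv D48757) (iv F217613)
theorem F227125 : act 5 n50852 = n50398 := d38_1 D50852 (iv D50398) (iv F217614)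
theorem F227126 : act 6 n50852 = n48754 := d41_1 D50852 (iv D48754) D48753
theorem F227127 : act 7 n50852 = n49440 := d43_1 D50852 (iv D49440) (iv F217615)
theorem F227128 : act 8 n50489 = n50852 := d40_0 F227126 (iv F217624) (iv F225867)
def n50853 : Q := act 9 n48756
theorem D50853 : act 9 n48756 = n50853 := rfl
theorem F227129 : act 0 n50853 = n49326 := d8_1 D50853 (iv D49326) (iv F217634)
theorem F227130 : act 1 n50853 = n50853 := d16_1 D50853 (iv D50853) F217635
theorem F227131 : act 2 n50853 = n48923 := d23_1 D50853 (iv D48923) (iv F217636)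
theorem F227132 : act 3 n50853 = n50853 := d29_1 D50853 (iv D50853) F217637
theorem F227133 : act 4 n50853 = n49440 := d34_1 D50853 (iv D49440) (iv F217638)
theorem F227134 : act 5 n50853 = n48772 := d38_1 D50853 (iv D48772) (iv F217639)
theorem F227135 : act 6 n50853 = n49328 := d41_1 D50853 (iv D49328) (iv F217640)
theorem F227136 : act 7 n50853 = n48757 := d43_1 D50853 (iv D48757) D48756
theorem F227137 : act 8 n50770 = n50853 := d40_0 F227135 F220994 (iv F226765)
def n50854 : Q := act 8 n48757
theorem D50854 : act 8 n48757 = n50854 := rfl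
theorem F227138 : act 0 n50854 = n50491 := d7_1 D50854 F227119 F227111
theorem F227139 : act 1 n50854 = n50854 := d15_1 D50854 (iv D50854) F217642
theorem F227140 : act 2 n50854 = n48924 := d22_1 D50854 (iv D48924) (iv F217643)
theorem F227141 : act 4 n50854 = n50489 := d33_1 D50854 F227128 F227124
theorem F227142 : act 5 n50854 = n48773 := d37_1 D50854 (iv D48773) (iv F217645)
theorem F227143 : act 6 n50854 = n48758 := d40_1 D50854 (iv D48758) (iv F217646)
theorem F227144 : act 7 n50854 = n50770 := d42_1 D50854 F227137 F227136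
theorem F227145 : act 9 n50854 = n50854 := d44_2 D48757 D50854 (iv D50854) (iv D48757) F207825
theorem F227146 : act 3 n50780 = n50854 := d27_3 F227144 F226764 (iv F226811)
def n50855 : Q := act 2 n48759
theorem D50855 : act 2 n48759 = n50855 := rfl
theorem F227147 : act 0 n50855 = n49314 := d1_1 D50855 F220894 (iv F217654)
theorem F227148 : act 3 n50855 = n48876 := d17_2 D48759 D50855 F218454 F208730 (iv F207831)
theorem F227149 : act 4 n50855 = n50855 := d18_2 F217656 D50855 (iv D50855)
theorem F227150 : act 5 n50855 = n50753 := d19_2 (iv F217657) D50855 F226697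
theorem F227151 : act 6 n50855 = n48775 := d20_2 (iv F217658) D50855 (iv D48775)
theorem F227152 : act 7 n50855 = n50752 := d21_2 F227108 D50855 (iv F227104)
theorem F227153 : act 8 n50855 = n50855 := d22_2 F217659 D50855 (iv D50855)
theorem F227154 : act 9 n50855 = n50855 := d23_2 F217660 D50855 (iv D50855)
theorem F227155 : act 1 n50751 = n50855 := d14_3 F227152 F226689 (iv F226686)
def n50856 : Q := act 3 n48760
theorem D50856 : act 3 n48760 = n50856 := rfl
theorem F227156 : act 0 n50856 = n50856 := d2_1 D50856 (iv D50856) F217661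
theorem F227157 : act 1 n50856 = n48775 := d10_1 D50856 F217765 (iv F217662)
theorem F227158 : act 2 n50856 = n50856 := d17_1 D50856 (iv D50856) F217663 F207853 (iv F217663)
theorem F227159 : act 4 n50856 = n50856 := d24_2 (iv F217664) D50856 (iv D50856) F217664 F212089
theorem F227160 : act 5 n50856 = n50059 := d25_2 (iv F217665) D50856 F224284
theorem F227161 : act 6 n50856 = n50751 := d26_2 (iv F217666) D50856 (iv D50751)
theorem F227162 : act 7 n50856 = n50856 := d27_2 F217667 D50856 (iv D50856)
theorem F227163 : act 8 n50856 = n50856 := d28_2 D48760 D50856 (iv D50856) (iv D48760) F207838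
theorem F227164 : act 9 n50856 = n50856 := d29_2 F217668 D50856 (iv D50856)
def n50857 : Q := act 9 n48762
theorem D50857 : act 9 n48762 = n50857 := rfl
theorem F227165 : act 0 n50857 = n48772 := d8_1 D50857 (iv D48772) (iv F217678)
theorem F227166 : act 1 n50857 = n49321 := d16_1 D50857 (iv D49321) (iv F217679)
theorem F227167 : act 2 n50857 = n49050 := d23_1 D50857 (iv D49050) (iv F217680)
theorem F227168 : act 3 n50857 = n50857 := d29_1 D50857 (iv D50857) F217681
theorem F227169 : act 4 n50857 = n49924 := d34_1 D50857 F223615 (iv F217682)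
theorem F227170 : act 5 n50857 = n49326 := d38_1 D50857 (iv D49326) (iv F217683)
theorem F227171 : act 6 n50857 = n50857 := d41_1 D50857 (iv D50857) F217684
theorem F227172 : act 7 n50857 = n48763 := d43_1 D50857 (iv D48763) D48762
def n50858 : Q := act 8 n48763
theorem D50858 : act 8 n48763 = n50858 := rfl
theorem F227173 : act 0 n50858 = n48773 := d7_1 D50858 (iv D48773) (iv F217686)
theorem F227174 : act 1 n50858 = n49162 := d15_1 D50858 F220028 (iv F217687)
theorem F227175 : act 2 n50858 = n49051 := d22_1 D50858 (iv D49051) (iv F217688)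
theorem F227176 : act 4 n50858 = n49161 := d33_1 D50858 F220022 (iv F217690)
theorem F227177 : act 5 n50858 = n50491 := d37_1 D50858 F227119 F227116
theorem F227178 : act 6 n50858 = n48764 := d40_1 D50858 (iv D48764) (iv F217691)
theorem F227179 : act 9 n50858 = n50858 := d44_2 D48763 D50858 (iv D50858) (iv D48763) F207872
theorem F227180 : act 3 n50783 = n50858 := d25_3 F227177 F225872 D50783
def n50859 : Q := act 3 n48764
theorem D50859 : act 3 n48764 = n50859 := rfl
theorem F227181 : act 0 n50859 = n48774 := d2_1 D50859 (iv D48774) (iv F217692)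
theorem F227182 : act 1 n50859 = n48790 := d10_1 D50859 F217870 (iv F217693)
theorem F227183 : act 2 n50859 = n49623 := d17_1 D50859 (iv D49623) F212174 (iv F209653) (iv F217694)
theorem F227184 : act 4 n50859 = n48789 := d24_2 (iv F217695) D50859 (iv D48789) F208059 D46970
theorem F227185 : act 5 n50859 = n48765 := d25_2 (iv F217696) D50859 (iv D48765)
theorem F227186 : act 6 n50859 = n50783 := d26_2 F227178 D50859 F227180
theorem F227187 : act 7 n50859 = n50859 := d27_2 F217697 D50859 (iv D50859)
theorem F227188 : act 8 n50859 = n50859 := d28_2 D48764 D50859 (iv D50859) (iv D48764) F207876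
theorem F227189 : act 9 n50859 = n50859 := d29_2 F217698 D50859 (iv D50859)
def n50860 : Q := act 7 n48766
theorem D50860 : act 7 n48766 = n50860 := rfl
theorem F227190 : act 0 n50860 = n49434 := d6_1 D50860 F221482 (iv F217707)
theorem F227191 : act 1 n50860 = n50860 := d14_1 D50860 (iv D50860) F217708
theorem F227192 : act 2 n50860 = n49120 := d21_1 D50860 (iv D49120) (iv F217709)
theorem F227193 : act 3 n50860 = n49775 := d27_1 D50860 F223004 (iv F217710)
theorem F227194 : act 4 n50860 = n49433 := d32_1 D50860 F221476 (iv F217711)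
theorem F227195 : act 5 n50860 = n48769 := d36_1 D50860 (iv D48769) (iv F217712)
theorem F227196 : act 6 n50860 = n49503 := d39_1 D50860 F221787 F211712 (iv F207899) D48766
theorem F227197 : act 8 n50860 = n50860 := d42_2 F217713 D50860 (iv D50860)
def n50861 : Q := act 9 n48766
theorem D50861 : act 9 n48766 = n50861 := rfl
theorem F227198 : act 0 n50861 = n49922 := d8_1 D50861 F223605 (iv F217707)
theorem F227199 : act 1 n50861 = n50861 := d16_1 D50861 (iv D50861) F217708
theorem F227200 : act 2 n50861 = n49121 := d23_1 D50861 (iv D49121) (iv F217709)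
theorem F227201 : act 3 n50861 = n49920 := d29_1 D50861 F223592 (iv F217710)
theorem F227202 : act 4 n50861 = n50398 := d34_1 D50861 (iv D50398) (iv F217711)
theorem F227203 : act 5 n50861 = n48770 := d38_1 D50861 (iv D48770) (iv F217712)
theorem F227204 : act 6 n50861 = n48767 := d41_1 D50861 (iv D48767) D48766
def n50862 : Q := act 8 n48767
theorem D50862 : act 8 n48767 = n50862 := rfl
theorem F227205 : act 0 n50862 = n50278 := d7_1 D50862 F225214 (iv F217714)
theorem F227206 : act 1 n50862 = n50862 := d15_1 D50862 (iv D50862) F217715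
theorem F227207 : act 2 n50862 = n49122 := d22_1 D50862 (iv D49122) (iv F217716)
theorem F227208 : act 3 n50862 = n50276 := d28_1 D50862 (iv D50276) F215197 (iv F216415) (iv F217717)
theorem F227209 : act 4 n50862 = n50399 := d33_1 D50862 (iv D50399) (iv F217718)
theorem F227210 : act 5 n50862 = n48768 := d37_1 D50862 (iv D48768) (iv F217719)
theorem F227211 : act 7 n50862 = n50401 := d42_1 D50862 (iv D50401) (iv F217720)
theorem F227212 : act 9 n50862 = n50862 := d44_2 D48767 D50862 (iv D50862) (iv D48767) F207900
def n50863 : Q := act 9 n48769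
theorem D50863 : act 9 n48769 = n50863 := rfl
theorem F227213 : act 0 n50863 = n49924 := d8_1 D50863 F223615 (iv F217729)
theorem F227214 : act 1 n50863 = n50863 := d16_1 D50863 (iv D50863) F217730
theorem F227215 : act 2 n50863 = n49124 := d23_1 D50863 (iv D49124) (iv F217731)
theorem F227216 : act 3 n50863 = n49923 := d29_1 D50863 F223611 (iv F217732)
theorem F227217 : act 4 n50863 = n48772 := d34_1 D50863 (iv D48772) (iv F217733)
theorem F227218 : act 6 n50863 = n50863 := d41_1 D50863 (iv D50863) F217734
theorem F227219 : act 7 n50863 = n48770 := d43_1 D50863 (iv D48770) D48769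
def n50864 : Q := act 8 n48770
theorem D50864 : act 8 n48770 = n50864 := rfl
theorem F227220 : act 0 n50864 = n49161 := d7_1 D50864 F220022 (iv F217736)
theorem F227221 : act 1 n50864 = n50864 := d15_1 D50864 (iv D50864) F217737
theorem F227222 : act 2 n50864 = n49125 := d22_1 D50864 (iv D49125) (iv F217738)
theorem F227223 : act 3 n50864 = n49160 := d28_1 D50864 (iv D49160) F210082 D47685 (iv F217739)
theorem F227224 : act 4 n50864 = n48773 := d33_1 D50864 (iv D48773) (iv F217740)
theorem F227225 : act 6 n50864 = n48771 := d40_1 D50864 (iv D48771) (iv F217741)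
theorem F227226 : act 9 n50864 = n50864 := d44_2 D48770 D50864 (iv D50864) (iv D48770) F207921
def n50865 : Q := act 8 n48772
theorem D50865 : act 8 n48772 = n50865 := rfl
theorem F227227 : act 1 n50865 = n50865 := d15_1 D50865 (iv D50865) F217750
theorem F227228 : act 2 n50865 = n49128 := d22_1 D50865 (iv D49128) (iv F217751)
theorem F227229 : act 5 n50865 = n50770 := d37_1 D50865 F227137 F227134
theorem F227230 : act 6 n50865 = n50865 := d40_1 D50865 (iv D50865) F217753
theorem F227231 : act 7 n50865 = n48773 := d42_1 D50865 (iv D48773) (iv F217754)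
theorem F227232 : act 9 n50865 = n50865 := d44_2 D48772 D50865 (iv D50865) (iv D48772) F207940
theorem F227233 : act 3 n50777 = n50865 := d25_3 F227229 F226764 (iv F226792)
def n50866 : Q := act 3 n48773
theorem D50866 : act 3 n48773 = n50866 := rfl
theorem F227234 : act 0 n50866 = n50783 := d2_1 D50866 F227180 F227173
theorem F227235 : act 1 n50866 = n50866 := d10_1 D50866 (iv D50866) F217755
theorem F227236 : act 2 n50866 = n50774 := d17_1 D50866 (iv D50774) (iv F219273) F219274 (iv F217756)
theorem F227237 : act 5 n50866 = n50780 := d25_2 F227142 D50866 F227146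
theorem F227238 : act 6 n50866 = n48774 := d26_2 (iv F217757) D50866 (iv D48774)
theorem F227239 : act 7 n50866 = n50777 := d27_2 F227231 D50866 F227233
theorem F227240 : act 8 n50866 = n50866 := d28_2 D48773 D50866 (iv D50866) (iv D48773) F207943
theorem F227241 : act 9 n50866 = n50866 := d29_2 F217758 D50866 (iv D50866)
def n50867 : Q := act 2 n48774
theorem D50867 : act 2 n48774 = n50867 := rfl
theorem F227242 : act 0 n50867 = n49623 := d1_1 D50867 (iv F227183) F227181
theorem F227243 : act 3 n50867 = n49014 := d17_2 D48774 D50867 F219281 F209487 (iv F207946)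
theorem F227244 : act 5 n50867 = n48775 := d19_2 (iv F217760) D50867 (iv D48775)
theorem F227245 : act 6 n50867 = n50774 := d20_2 F227238 D50867 (iv F227236)
theorem F227246 : act 7 n50867 = n50867 := d21_2 F217761 D50867 (iv D50867)
theorem F227247 : act 8 n50867 = n50867 := d22_2 F217762 D50867 (iv D50867)
theorem F227248 : act 9 n50867 = n50867 := d23_2 F217763 D50867 (iv D50867)
theorem F227249 : act 1 n50059 = n50867 := d13_3 F227245 F226775 (iv F224285)
theorem F227250 : act 4 n50867 = n50058 := d11_2 D50059 F227249 F224277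
def n50868 : Q := act 4 n48774
theorem D50868 : act 4 n48774 = n50868 := rfl
theorem F227251 : act 0 n50868 = n48789 := d3_1 D50868 (iv F227184) F227181
theorem F227252 : act 1 n50868 = n50868 := d11_1 D50868 (iv D50868) F217759
theorem F227253 : act 2 n50868 = n50058 := d18_1 D50868 (iv F227250) (iv D50867)
theorem F227254 : act 3 n50868 = n48788 := d24_1 D50868 F217859 (iv F217745) F217746 D48774
theorem F227255 : act 5 n50868 = n50868 := d30_2 (iv F217760) D50868 (iv D50868) F217760 F207951
theorem F227256 : act 7 n50868 = n50868 := d32_2 F217761 D50868 (iv D50868)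
theorem F227257 : act 8 n50868 = n50868 := d33_2 F217762 D50868 (iv D50868)
theorem F227258 : act 9 n50868 = n50868 := d34_2 F217763 D50868 (iv D50868)
def n50869 : Q := act 8 n48776
theorem D50869 : act 8 n48776 = n50869 := rfl
theorem F227259 : act 0 n50869 = n50791 := d7_1 D50869 F226871 (iv F217770)
theorem F227260 : act 1 n50869 = n48777 := d15_1 D50869 (iv D48777) (iv F217771)
theorem F227261 : act 2 n50869 = n48786 := d22_1 D50869 (iv D48786) (iv F217772)
theorem F227262 : act 3 n50869 = n50790 := d28_1 D50869 (iv D50790) F217225 (iv F217256) (iv F217773)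
theorem F227263 : act 4 n50869 = n49143 := d33_1 D50869 (iv D49143) (iv F217774)
theorem F227264 : act 5 n50869 = n50788 := d37_1 D50869 (iv D50788) (iv F217775)
theorem F227265 : act 6 n50869 = n48778 := d40_1 D50869 (iv D48778) (iv F217776)
theorem F227266 : act 7 n50869 = n50785 := d42_1 D50869 (iv D50785) (iv F217777)
theorem F227267 : act 9 n50869 = n50869 := d44_2 D48776 D50869 (iv D50869) (iv D48776) F207962
def n50870 : Q := act 9 n48779
theorem D50870 : act 9 n48779 = n50870 := rfl
theorem F227268 : act 0 n50870 = n48780 := d8_1 D50870 (iv D48780) D48779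
theorem F227269 : act 1 n50870 = n50870 := d16_1 D50870 (iv D50870) F217794
theorem F227270 : act 2 n50870 = n50787 := d23_1 D50870 (iv D50787) (iv F217795)
theorem F227271 : act 3 n50870 = n50870 := d29_1 D50870 (iv D50870) F217796
theorem F227272 : act 4 n50870 = n50099 := d34_1 D50870 (iv D50099) (iv F217797)
theorem F227273 : act 5 n50870 = n48785 := d38_1 D50870 (iv D48785) (iv F217798)
theorem F227274 : act 6 n50870 = n50870 := d41_1 D50870 (iv D50870) F217799
theorem F227275 : act 7 n50870 = n50054 := d43_1 D50870 (iv D50054) (iv F217800)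
def n50871 : Q := act 8 n48780
theorem D50871 : act 8 n48780 = n50871 := rfl
theorem F227276 : act 1 n50871 = n48781 := d15_1 D50871 (iv D48781) (iv F217802)
theorem F227277 : act 2 n50871 = n50788 := d22_1 D50871 (iv D50788) (iv F217803)
theorem F227278 : act 4 n50871 = n50100 := d33_1 D50871 (iv D50100) (iv F217805)
theorem F227279 : act 5 n50871 = n48786 := d37_1 D50871 (iv D48786) (iv F217806)
theorem F227280 : act 6 n50871 = n50871 := d40_1 D50871 (iv D50871) F217807
theorem F227281 : act 7 n50871 = n50055 := d42_1 D50871 (iv D50055) (iv F217808)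
theorem F227282 : act 9 n50871 = n50871 := d44_2 D48780 D50871 (iv D50871) (iv D48780) F207998
theorem F227283 : act 3 n50778 = n50871 := d24_5 F227278 F224485 F217128 D48642 D50778
def n50872 : Q := act 9 n48782
theorem D50872 : act 9 n48782 = n50872 := rfl
theorem F227284 : act 0 n50872 = n48783 := d8_1 D50872 (iv D48783) D48782
theorem F227285 : act 1 n50872 = n50872 := d16_1 D50872 (iv D50872) F217817
theorem F227286 : act 2 n50872 = n50784 := d23_1 D50872 (iv D50784) (iv F217818)
theorem F227287 : act 3 n50872 = n50872 := d29_1 D50872 (iv D50872) F217819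
theorem F227288 : act 4 n50872 = n49157 := d34_1 D50872 (iv D49157) (iv F217820)
theorem F227289 : act 5 n50872 = n50054 := d38_1 D50872 (iv D50054) (iv F217821)
theorem F227290 : act 6 n50872 = n50872 := d41_1 D50872 (iv D50872) F217822
theorem F227291 : act 7 n50872 = n48785 := d43_1 D50872 (iv D48785) (iv F217823)
def n50873 : Q := act 8 n48783
theorem D50873 : act 8 n48783 = n50873 := rfl
theorem F227292 : act 1 n50873 = n48784 := d15_1 D50873 (iv D48784) (iv F217825)
theorem F227293 : act 2 n50873 = n50785 := d22_1 D50873 (iv D50785) (iv F217826)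
theorem F227294 : act 4 n50873 = n49158 := d33_1 D50873 (iv D49158) (iv F217828)
theorem F227295 : act 5 n50873 = n50055 := d37_1 D50873 (iv D50055) (iv F217829)
theorem F227296 : act 6 n50873 = n50873 := d40_1 D50873 (iv D50873) F217830
theorem F227297 : act 7 n50873 = n48786 := d42_1 D50873 (iv D48786) (iv F217831)
theorem F227298 : act 9 n50873 = n50873 := d44_2 D48783 D50873 (iv D50873) (iv D48783) F208020
def n50874 : Q := act 3 n48784
theorem D50874 : act 3 n48784 = n50874 := rfl
theorem F227299 : act 0 n50874 = n50874 := d2_1 D50874 (iv D50874) F217832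
theorem F227300 : act 2 n50874 = n50874 := d17_1 D50874 (iv D50874) F217833 F208030 (iv F217833)
theorem F227301 : act 5 n50874 = n50056 := d25_2 (iv F217835) D50874 (iv D50056)
theorem F227302 : act 6 n50874 = n50874 := d26_2 F217836 D50874 (iv D50874)
theorem F227303 : act 7 n50874 = n48787 := d27_2 (iv F217837) D50874 (iv D48787)
theorem F227304 : act 8 n50874 = n50874 := d28_2 D48784 D50874 (iv D50874) (iv D48784) F208023
theorem F227305 : act 9 n50874 = n50874 := d29_2 F217838 D50874 (iv D50874)
theorem F227306 : act 4 n50782 = n50874 := d32_3 F227303 (iv F217855) (iv F226825)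
def n50875 : Q := act 8 n48785
theorem D50875 : act 8 n48785 = n50875 := rfl
theorem F227307 : act 0 n50875 = n48786 := d7_1 D50875 (iv D48786) (iv F217839)
theorem F227308 : act 1 n50875 = n50875 := d15_1 D50875 (iv D50875) F217840
theorem F227309 : act 2 n50875 = n50791 := d22_1 D50875 F226871 (iv F217841)
theorem F227310 : act 4 n50875 = n49160 := d33_1 D50875 (iv D49160) (iv F217843)
theorem F227311 : act 6 n50875 = n48788 := d40_1 D50875 (iv D48788) (iv F217844)
theorem F227312 : act 9 n50875 = n50875 := d44_2 D48785 D50875 (iv D50875) (iv D48785) F208041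
def n50876 : Q := act 3 n48786
theorem D50876 : act 3 n48786 = n50876 := rfl
theorem F227313 : act 1 n50876 = n48787 := d10_1 D50876 (iv D48787) (iv F217845)
theorem F227314 : act 4 n50876 = n50783 := d24_2 (iv F217846) D50876 F227180 F227176 (iv D49161)
theorem F227315 : act 5 n50876 = n50778 := d25_2 F227279 D50876 F227283
theorem F227316 : act 6 n50876 = n48789 := d26_2 (iv F217847) D50876 (iv D48789)
theorem F227317 : act 8 n50876 = n50876 := d28_2 D48786 D50876 (iv D50876) (iv D48786) F208043
theorem F227318 : act 9 n50876 = n50876 := d29_2 F217848 D50876 (iv D50876)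
def n50877 : Q := act 2 n48789
theorem D50877 : act 2 n48789 = n50877 := rfl
theorem F227319 : act 0 n50877 = n50058 := d1_1 D50877 (iv F227253) F227251
theorem F227320 : act 1 n50877 = n50877 := d9_1 D50877 (iv D50877) F217863 F208064 (iv F217863)
theorem F227321 : act 3 n50877 = n50057 := d17_2 D48789 D50877 F224272 (iv F217789) F217788
theorem F227322 : act 4 n50877 = n49623 := d18_2 F227184 D50877 (iv F227183)
theorem F227323 : act 5 n50877 = n50877 := d19_2 F217864 D50877 (iv D50877)
theorem F227324 : act 7 n50877 = n50877 := d21_2 F217865 D50877 (iv D50877)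
theorem F227325 : act 8 n50877 = n50877 := d22_2 F217866 D50877 (iv D50877)
theorem F227326 : act 9 n50877 = n50877 := d23_2 F217867 D50877 (iv D50877)
def n50878 : Q := act 4 n48791
theorem D50878 : act 4 n48791 = n50878 := rfl
theorem F227327 : act 0 n50878 = n49274 := d3_1 D50878 F220680 (iv F217876)
theorem F227328 : act 1 n50878 = n49205 := d11_1 D50878 (iv D49205) (iv F217877)
theorem F227329 : act 2 n50878 = n49290 := d18_1 D50878 F220748 (iv F217878)
theorem F227330 : act 3 n50878 = n50878 := d24_1 D50878 (iv D50878) (iv D48791) F208162 D48791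
theorem F227331 : act 5 n50878 = n49239 := d30_2 (iv F217879) D50878 (iv D49239) F210603 (iv F213803)
theorem F227332 : act 6 n50878 = n49287 := d31_2 (iv F217880) D50878 F220738
theorem F227333 : act 7 n50878 = n48833 := d32_2 (iv F217881) D50878 (iv D48833)
theorem F227334 : act 8 n50878 = n48797 := d33_2 (iv F217882) D50878 (iv D48797)
def n50879 : Q := act 9 n48791
theorem D50879 : act 9 n48791 = n50879 := rfl
theorem F227335 : act 0 n50879 = n49972 := d8_1 D50879 (iv D49972) (iv F217876)
theorem F227336 : act 1 n50879 = n49206 := d16_1 D50879 (iv D49206) (iv F217877)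
theorem F227337 : act 2 n50879 = n50313 := d23_1 D50879 (iv D50313) (iv F217878)
theorem F227338 : act 3 n50879 = n48792 := d29_1 D50879 (iv D48792) D48791
theorem F227339 : act 5 n50879 = n49966 := d38_1 D50879 (iv D49966) (iv F217879)
theorem F227340 : act 6 n50879 = n50310 := d41_1 D50879 (iv D50310) (iv F217880)
theorem F227341 : act 7 n50879 = n48834 := d43_1 D50879 (iv D48834) (iv F217881)
def n50880 : Q := act 4 n48794
theorem D50880 : act 4 n48794 = n50880 := rfl
theorem F227342 : act 0 n50880 = n49290 := d3_1 D50880 F220748 (iv F217900)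
theorem F227343 : act 1 n50880 = n49190 := d11_1 D50880 (iv F220226) (iv F217901)
theorem F227344 : act 2 n50880 = n49274 := d18_1 D50880 F220680 (iv F217902)
theorem F227345 : act 3 n50880 = n48800 := d24_1 D50880 (iv D48800) (iv D46632) (iv F208186) D48794
theorem F227346 : act 5 n50880 = n49272 := d30_2 (iv F217903) D50880 (iv D49272) F210738 (iv F213880)
theorem F227347 : act 6 n50880 = n48797 := d31_2 (iv F217904) D50880 (iv D48797)
theorem F227348 : act 7 n50880 = n49357 := d32_2 (iv F217905) D50880 F221152
theorem F227349 : act 8 n50880 = n49287 := d33_2 (iv F217906) D50880 F220738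
def n50881 : Q := act 9 n48794
theorem D50881 : act 9 n48794 = n50881 := rfl
theorem F227350 : act 0 n50881 = n50313 := d8_1 D50881 (iv D50313) (iv F217900)
theorem F227351 : act 1 n50881 = n49212 := d16_1 D50881 (iv D49212) (iv F217901)
theorem F227352 : act 2 n50881 = n49972 := d23_1 D50881 (iv D49972) (iv F217902)
theorem F227353 : act 3 n50881 = n48795 := d29_1 D50881 (iv D48795) D48794
theorem F227354 : act 5 n50881 = n49973 := d38_1 D50881 (iv D49973) (iv F217903)
theorem F227355 : act 6 n50881 = n48798 := d41_1 D50881 (iv D48798) (iv F217904)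
theorem F227356 : act 7 n50881 = n49991 := d43_1 D50881 F223980 (iv F217905)
def n50882 : Q := act 4 n48796
theorem D50882 : act 4 n48796 = n50882 := rfl
theorem F227357 : act 0 n50882 = n49287 := d3_1 D50882 F220738 (iv F217915)
theorem F227358 : act 1 n50882 = n49277 := d11_1 D50882 (iv D49277) F217921
theorem F227359 : act 2 n50882 = n48797 := d18_1 D50882 (iv D48797) D48796
theorem F227360 : act 3 n50882 = n50882 := d24_1 D50882 (iv D50882) F217916 F208258 (iv F217916)
theorem F227361 : act 5 n50882 = n49250 := d30_2 (iv F217917) D50882 (iv D49250) F210634 (iv F208367)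
theorem F227362 : act 6 n50882 = n49274 := d31_2 (iv F217918) D50882 F220680
theorem F227363 : act 7 n50882 = n48845 := d32_2 (iv F217919) D50882 (iv D48845)
theorem F227364 : act 8 n50882 = n49290 := d33_2 (iv F217920) D50882 F220748
def n50883 : Q := act 9 n48796
theorem D50883 : act 9 n48796 = n50883 := rfl
theorem F227365 : act 0 n50883 = n50310 := d8_1 D50883 (iv D50310) (iv F217915)
theorem F227366 : act 1 n50883 = n49278 := d16_1 D50883 (iv D49278) F217921
theorem F227367 : act 2 n50883 = n48798 := d23_1 D50883 (iv D48798) D48796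
theorem F227368 : act 3 n50883 = n48804 := d29_1 D50883 (iv D48804) (iv F217916)
theorem F227369 : act 5 n50883 = n48817 := d38_1 D50883 (iv D48817) (iv F217917)
theorem F227370 : act 6 n50883 = n49972 := d41_1 D50883 (iv D49972) (iv F217918)
theorem F227371 : act 7 n50883 = n48846 := d43_1 D50883 (iv D48846) (iv F217919)
def n50884 : Q := act 9 n48797
theorem D50884 : act 9 n48797 = n50884 := rfl
theorem F227372 : act 0 n50884 = n49291 := d8_1 D50884 (iv D49291) (iv F217922)
theorem F227373 : act 1 n50884 = n49216 := d16_1 D50884 (iv D49216) (iv F217923)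
theorem F227374 : act 3 n50884 = n48802 := d29_1 D50884 (iv D48802) (iv F217924)
theorem F227375 : act 4 n50884 = n48798 := d34_1 D50884 (iv D48798) D48797
theorem F227376 : act 5 n50884 = n49252 := d38_1 D50884 (iv D49252) (iv F217925)
theorem F227377 : act 7 n50884 = n48847 := d43_1 D50884 (iv D48847) (iv F217926)
def n50885 : Q := act 8 n48798
theorem D50885 : act 8 n48798 = n50885 := rfl
theorem F227378 : act 0 n50885 = n50314 := d7_1 D50885 (iv D50314) (iv F217927)
theorem F227379 : act 1 n50885 = n49217 := d15_1 D50885 (iv D49217) (iv F217928)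
theorem F227380 : act 3 n50885 = n48821 := d28_1 D50885 (iv D48821) F208391 (iv F208199) (iv F217929)
theorem F227381 : act 5 n50885 = n49967 := d37_1 D50885 (iv D49967) (iv F217930)
theorem F227382 : act 7 n50885 = n48848 := d42_1 D50885 (iv D48848) (iv F217931)
def n50886 : Q := act 9 n48800
theorem D50886 : act 9 n48800 = n50886 := rfl
theorem F227383 : act 0 n50886 = n49295 := d8_1 D50886 (iv D49295) (iv F217941)
theorem F227384 : act 1 n50886 = n49200 := d16_1 D50886 (iv D49200) (iv F217942)
theorem F227385 : act 2 n50886 = n50886 := d23_1 D50886 (iv D50886) F217943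
theorem F227386 : act 4 n50886 = n48801 := d34_1 D50886 (iv D48801) D48800
theorem F227387 : act 5 n50886 = n50284 := d38_1 D50886 (iv D50284) F217947
theorem F227388 : act 6 n50886 = n48802 := d41_1 D50886 (iv D48802) (iv F217944)
theorem F227389 : act 7 n50886 = n49371 := d43_1 D50886 (iv D49371) (iv F217945)
theorem F227390 : act 8 n50745 = n50886 := d42_0 F227389 (iv F221227) (iv F226657)
def n50887 : Q := act 8 n48802
theorem D50887 : act 8 n48802 = n50887 := rfl
theorem F227391 : act 0 n50887 = n49296 := d7_1 D50887 (iv D49296) (iv F217956)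
theorem F227392 : act 1 n50887 = n49221 := d15_1 D50887 (iv D49221) (iv F217957)
theorem F227393 : act 2 n50887 = n50887 := d22_1 D50887 (iv D50887) F217958
theorem F227394 : act 4 n50887 = n48803 := d33_1 D50887 (iv D48803) (iv F217959)
theorem F227395 : act 5 n50887 = n49257 := d37_1 D50887 (iv D49257) (iv F217960)
theorem F227396 : act 6 n50887 = n50745 := d40_1 D50887 F227390 F227388
theorem F227397 : act 7 n50887 = n48854 := d42_1 D50887 (iv D48854) (iv F217961)
theorem F227398 : act 9 n50887 = n50887 := d44_2 D48802 D50887 (iv D50887) (iv D48802) F208225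
def n50888 : Q := act 9 n48805
theorem D50888 : act 9 n48805 = n50888 := rfl
theorem F227399 : act 0 n50888 = n49234 := d8_1 D50888 (iv D49234) (iv F217978)
theorem F227400 : act 1 n50888 = n48808 := d16_1 D50888 (iv D48808) (iv F217979)
theorem F227401 : act 2 n50888 = n50300 := d23_1 D50888 (iv D50300) F217985
theorem F227402 : act 3 n50888 = n48806 := d29_1 D50888 (iv D48806) D48805
theorem F227403 : act 4 n50888 = n50305 := d34_1 D50888 (iv D50305) (iv F217980)
theorem F227404 : act 5 n50888 = n49968 := d38_1 D50888 (iv D49968) (iv F217981)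
theorem F227405 : act 6 n50888 = n50308 := d41_1 D50888 (iv D50308) (iv F217982)
theorem F227406 : act 7 n50888 = n48873 := d43_1 D50888 (iv D48873) (iv F217983)
def n50889 : Q := act 8 n48808
theorem D50889 : act 8 n48808 = n50889 := rfl
theorem F227407 : act 0 n50889 = n48821 := d7_1 D50889 (iv D48821) (iv F218003)
theorem F227408 : act 2 n50889 = n49971 := d22_1 D50889 (iv D49971) (iv F218004)
theorem F227409 : act 3 n50889 = n50314 := d28_1 D50889 (iv D50314) F215406 (iv F208316) (iv F218005)
theorem F227410 : act 4 n50889 = n50306 := d33_1 D50889 (iv D50306) (iv F218006)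
theorem F227411 : act 5 n50889 = n49970 := d37_1 D50889 (iv D49970) (iv F218007)
theorem F227412 : act 6 n50889 = n50311 := d40_1 D50889 (iv D50311) (iv F218008)
theorem F227413 : act 7 n50889 = n48882 := d42_1 D50889 (iv D48882) (iv F218009)
theorem F227414 : act 9 n50889 = n49979 := d44_2 D48808 D50889 (iv D49979) (iv D47768) (iv F208309)
def n50890 : Q := act 9 n48809
theorem D50890 : act 9 n48809 = n50890 := rfl
theorem F227415 : act 0 n50890 = n48826 := d8_1 D50890 (iv D48826) (iv F218010)
theorem F227416 : act 1 n50890 = n49169 := d16_1 D50890 (iv D49169) (iv F218011)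
theorem F227417 : act 2 n50890 = n49173 := d23_1 D50890 (iv D49173) (iv F218012)
theorem F227418 : act 3 n50890 = n49180 := d29_1 D50890 (iv D49180) (iv F218013)
theorem F227419 : act 4 n50890 = n49225 := d34_1 D50890 (iv D49225) (iv F218014)
theorem F227420 : act 5 n50890 = n50890 := d38_1 D50890 (iv D50890) F218015
theorem F227421 : act 6 n50890 = n48810 := d41_1 D50890 (iv D48810) D48809
theorem F227422 : act 7 n50890 = n49318 := d43_1 D50890 (iv D49318) F218017
theorem F227423 : act 8 n50747 = n50890 := d42_0 F227422 (iv F220926) (iv F226668)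
def n50891 : Q := act 8 n48810
theorem D50891 : act 8 n48810 = n50891 := rfl
theorem F227424 : act 0 n50891 = n48827 := d7_1 D50891 (iv D48827) (iv F218018)
theorem F227425 : act 1 n50891 = n49195 := d15_1 D50891 (iv D49195) (iv F218019)
theorem F227426 : act 2 n50891 = n50316 := d22_1 D50891 (iv D50316) (iv F218020)
theorem F227427 : act 3 n50891 = n49222 := d28_1 D50891 (iv D49222) F210470 (iv F210281) (iv F218021)
theorem F227428 : act 4 n50891 = n50315 := d33_1 D50891 (iv D50315) (iv F218022)
theorem F227429 : act 5 n50891 = n48811 := d37_1 D50891 (iv D48811) (iv F218023)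
theorem F227430 : act 6 n50891 = n50747 := d40_1 D50891 F227423 F227421
theorem F227431 : act 7 n50891 = n48888 := d42_1 D50891 (iv D48888) (iv F218024)
theorem F227432 : act 9 n50891 = n50891 := d44_2 D48810 D50891 (iv D50891) (iv D48810) F208323
def n50892 : Q := act 9 n48813
theorem D50892 : act 9 n48813 = n50892 := rfl
theorem F227433 : act 0 n50892 = n49973 := d8_1 D50892 (iv D49973) (iv F218042)
theorem F227434 : act 1 n50892 = n49270 := d16_1 D50892 (iv D49270) (iv F218043)
theorem F227435 : act 2 n50892 = n49966 := d23_1 D50892 (iv D49966) (iv F218044)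
theorem F227436 : act 3 n50892 = n48814 := d29_1 D50892 (iv D48814) D48813
theorem F227437 : act 4 n50892 = n50293 := d34_1 D50892 (iv D50293) F218049
theorem F227438 : act 5 n50892 = n50313 := d38_1 D50892 (iv D50313) (iv F218045)
theorem F227439 : act 6 n50892 = n48816 := d41_1 D50892 (iv D48816) (iv F218046)
theorem F227440 : act 7 n50892 = n49985 := d43_1 D50892 (iv D49985) (iv F218047)
def n50893 : Q := act 9 n48815
theorem D50893 : act 9 n48815 = n50893 := rfl
theorem F227441 : act 0 n50893 = n49978 := d8_1 D50893 (iv D49978) (iv F218058)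
theorem F227442 : act 1 n50893 = n49275 := d16_1 D50893 (iv D49275) (iv F218059)
theorem F227443 : act 2 n50893 = n49969 := d23_1 D50893 (iv D49969) (iv F218060)
theorem F227444 : act 3 n50893 = n50893 := d29_1 D50893 (iv D50893) F218061
theorem F227445 : act 4 n50893 = n48816 := d34_1 D50893 (iv D48816) D48815
theorem F227446 : act 5 n50893 = n50303 := d38_1 D50893 (iv D50303) (iv F218062)
theorem F227447 : act 6 n50893 = n50293 := d41_1 D50893 (iv D50293) (iv F218063)
theorem F227448 : act 7 n50893 = n48897 := d43_1 D50893 (iv D48897) (iv F218064)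
def n50894 : Q := act 8 n48816
theorem D50894 : act 8 n48816 = n50894 := rfl
theorem F227449 : act 0 n50894 = n49979 := d7_1 D50894 (iv D49979) (iv F218066)
theorem F227450 : act 1 n50894 = n49276 := d15_1 D50894 (iv D49276) (iv F218067)
theorem F227451 : act 2 n50894 = n49970 := d22_1 D50894 (iv D49970) (iv F218068)
theorem F227452 : act 5 n50894 = n49971 := d37_1 D50894 (iv D49971) (iv F218070)
theorem F227453 : act 7 n50894 = n48898 := d42_1 D50894 (iv D48898) (iv F218071)
theorem F227454 : act 9 n50894 = n48821 := d44_2 D48816 D50894 (iv D48821) (iv D46658) (iv F208357)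
def n50895 : Q := act 8 n48817
theorem D50895 : act 8 n48817 = n50895 := rfl
theorem F227455 : act 0 n50895 = n50311 := d7_1 D50895 (iv D50311) (iv F218072)
theorem F227456 : act 1 n50895 = n49283 := d15_1 D50895 (iv D49283) (iv F218073)
theorem F227457 : act 2 n50895 = n49967 := d22_1 D50895 (iv D49967) (iv F218074)
theorem F227458 : act 4 n50895 = n50297 := d33_1 D50895 (iv D50297) (iv F218076)
theorem F227459 : act 6 n50895 = n48821 := d40_1 D50895 (iv D48821) (iv F218077)
theorem F227460 : act 7 n50895 = n49990 := d42_1 D50895 (iv D49990) (iv F218078)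
def n50896 : Q := act 8 n48818
theorem D50896 : act 8 n48818 = n50896 := rfl
theorem F227461 : act 0 n50896 = n49971 := d7_1 D50896 (iv D49971) (iv F218079)
theorem F227462 : act 1 n50896 = n50288 := d15_1 D50896 (iv D50288) (iv F218080)
theorem F227463 : act 2 n50896 = n48821 := d22_1 D50896 (iv D48821) (iv F218081)
theorem F227464 : act 3 n50896 = n49974 := d28_1 D50896 (iv D49974) F213885 (iv F208433) (iv F218082)
theorem F227465 : act 4 n50896 = n50296 := d33_1 D50896 (iv D50296) (iv F218083)
theorem F227466 : act 5 n50896 = n49979 := d37_1 D50896 (iv D49979) (iv F218084)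
theorem F227467 : act 6 n50896 = n49967 := d40_1 D50896 (iv D49967) (iv F218085)
theorem F227468 : act 7 n50896 = n48912 := d42_1 D50896 (iv D48912) (iv F218086)
theorem F227469 : act 9 n50896 = n49970 := d44_2 D48818 D50896 (iv D49970) (iv D47757) (iv F208381)
def n50897 : Q := act 6 n48819
theorem D50897 : act 6 n48819 = n50897 := rfl
theorem F227470 : act 0 n50897 = n49213 := d5_1 D50897 F220361 (iv F218087)
theorem F227471 : act 1 n50897 = n49290 := d13_1 D50897 (iv D49290) (iv F218088)
theorem F227472 : act 2 n50897 = n49242 := d20_1 D50897 F220515 (iv F218089)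
theorem F227473 : act 3 n50897 = n48822 := d26_1 D50897 (iv D48822) (iv F218090)
theorem F227474 : act 4 n50897 = n49264 := d31_1 D50897 F220627 (iv F218091)
theorem F227475 : act 5 n50897 = n49246 := d35_1 D50897 F220535 F210634 (iv F208388) D48819
theorem F227476 : act 8 n50897 = n49277 := d40_2 (iv F218093) D50897 F220690
theorem F227477 : act 7 n49400 = n50897 := d36_0 F227475 F220536 (iv F221327)
def n50898 : Q := act 9 n48819
theorem D50898 : act 9 n48819 = n50898 := rfl
theorem F227478 : act 0 n50898 = n50302 := d8_1 D50898 (iv D50302) (iv F218087)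
theorem F227479 : act 1 n50898 = n49291 := d16_1 D50898 (iv D49291) (iv F218088)
theorem F227480 : act 2 n50898 = n50295 := d23_1 D50898 (iv D50295) (iv F218089)
theorem F227481 : act 3 n50898 = n48823 := d29_1 D50898 (iv D48823) (iv F218090)
theorem F227482 : act 4 n50898 = n49980 := d34_1 D50898 (iv D49980) (iv F218091)
theorem F227483 : act 5 n50898 = n48820 := d38_1 D50898 (iv D48820) D48819
theorem F227484 : act 7 n50898 = n48914 := d43_1 D50898 (iv D48914) (iv F218092)
def n50899 : Q := act 8 n48820
theorem D50899 : act 8 n48820 = n50899 := rfl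
theorem F227485 : act 0 n50899 = n50306 := d7_1 D50899 (iv D50306) (iv F218094)
theorem F227486 : act 1 n50899 = n49292 := d15_1 D50899 (iv D49292) (iv F218095)
theorem F227487 : act 2 n50899 = n50296 := d22_1 D50899 (iv D50296) (iv F218096)
theorem F227488 : act 4 n50899 = n48821 := d33_1 D50899 (iv D48821) (iv F218098)
theorem F227489 : act 6 n50899 = n50297 := d40_1 D50899 (iv D50297) (iv F218099)
theorem F227490 : act 7 n50899 = n48915 := d42_1 D50899 (iv D48915) (iv F218100)
def n50900 : Q := act 9 n48822
theorem D50900 : act 9 n48822 = n50900 := rfl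
theorem F227491 : act 0 n50900 = n49225 := d8_1 D50900 (iv D49225) (iv F218104)
theorem F227492 : act 1 n50900 = n49295 := d16_1 D50900 (iv D49295) (iv F218105)
theorem F227493 : act 2 n50900 = n49227 := d23_1 D50900 (iv D49227) (iv F218106)
theorem F227494 : act 4 n50900 = n48826 := d34_1 D50900 (iv D48826) (iv F218107)
theorem F227495 : act 5 n50900 = n49259 := d38_1 D50900 (iv D49259) (iv F218108)
theorem F227496 : act 6 n50900 = n48823 := d41_1 D50900 (iv D48823) D48822
theorem F227497 : act 7 n50900 = n49428 := d43_1 D50900 (iv D49428) F218110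
theorem F227498 : act 8 n50749 = n50900 := d42_0 F227497 (iv F221448) (iv F226676)
def n50901 : Q := act 8 n48823
theorem D50901 : act 8 n48823 = n50901 := rfl
theorem F227499 : act 0 n50901 = n50315 := d7_1 D50901 (iv D50315) (iv F218111)
theorem F227500 : act 1 n50901 = n49296 := d15_1 D50901 (iv D49296) (iv F218112)
theorem F227501 : act 2 n50901 = n50298 := d22_1 D50901 (iv D50298) (iv F218113)
theorem F227502 : act 4 n50901 = n48827 := d33_1 D50901 (iv D48827) (iv F218114)
theorem F227503 : act 5 n50901 = n48824 := d37_1 D50901 (iv D48824) (iv F218115)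
theorem F227504 : act 6 n50901 = n50749 := d40_1 D50901 F227498 F227496
theorem F227505 : act 7 n50901 = n48921 := d42_1 D50901 (iv D48921) (iv F218116)
theorem F227506 : act 9 n50901 = n50901 := d44_2 D48823 D50901 (iv D50901) (iv D48823) F208399
def n50902 : Q := act 3 n48824
theorem D50902 : act 3 n48824 = n50902 := rfl
theorem F227507 : act 0 n50902 = n50318 := d2_1 D50902 (iv D50318) (iv F218117)
theorem F227508 : act 1 n50902 = n49297 := d10_1 D50902 (iv D49297) (iv F218118)
theorem F227509 : act 6 n50902 = n50299 := d26_2 (iv F218121) D50902 (iv D50299)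
theorem F227510 : act 7 n50902 = n48922 := d27_2 (iv F218122) D50902 (iv D48922)
theorem F227511 : act 9 n50902 = n50902 := d29_2 F218123 D50902 (iv D50902)
def n50903 : Q := act 3 n48829
theorem D50903 : act 3 n48829 = n50903 := rfl
theorem F227512 : act 0 n50903 = n50011 := d2_1 D50903 (iv D50011) (iv F218154)
theorem F227513 : act 1 n50903 = n49375 := d10_1 D50903 (iv D49375) (iv F218155)
theorem F227514 : act 2 n50903 = n50445 := d17_1 D50903 F225728 F215874 (iv F214061) (iv F218156)
theorem F227515 : act 5 n50903 = n48830 := d25_2 (iv F218158) D50903 (iv D48830)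
theorem F227516 : act 6 n50903 = n49982 := d26_2 (iv F218159) D50903 (iv D49982)
theorem F227517 : act 7 n50903 = n50441 := d27_2 (iv F218160) D50903 F225718
theorem F227518 : act 8 n50903 = n48837 := d28_2 D48829 D50903 (iv D48837) (iv D46672) (iv F208437)
def n50904 : Q := act 9 n48829
theorem D50904 : act 9 n48829 = n50904 := rfl
theorem F227519 : act 0 n50904 = n50012 := d8_1 D50904 (iv D50012) (iv F218154)
theorem F227520 : act 1 n50904 = n49376 := d16_1 D50904 (iv D49376) (iv F218155)
theorem F227521 : act 2 n50904 = n50003 := d23_1 D50904 (iv D50003) (iv F218156)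
theorem F227522 : act 4 n50904 = n50119 := d34_1 D50904 (iv D50119) (iv F218157)
theorem F227523 : act 5 n50904 = n48831 := d38_1 D50904 (iv D48831) (iv F218158)
theorem F227524 : act 6 n50904 = n49983 := d41_1 D50904 (iv D49983) (iv F218159)
theorem F227525 : act 7 n50904 = n50759 := d43_1 D50904 (iv D50759) (iv F218160)
theorem F227526 : act 8 n50904 = n48891 := d44_1 D50904 (iv D48891) (iv D46732) (iv F208439) D48829
def n50905 : Q := act 4 n48830
theorem D50905 : act 4 n48830 = n50905 := rfl
theorem F227527 : act 0 n50905 = n49539 := d3_1 D50905 F221943 (iv F218161)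
theorem F227528 : act 1 n50905 = n49380 := d11_1 D50905 (iv D49380) (iv F218162)
theorem F227529 : act 2 n50905 = n49574 := d18_1 D50905 F222058 (iv F218163)
theorem F227530 : act 3 n50905 = n50905 := d24_1 D50905 (iv D50905) (iv D48830) F208452 D48830
theorem F227531 : act 6 n50905 = n48833 := d31_2 (iv F218164) D50905 (iv D48833)
theorem F227532 : act 7 n50905 = n49570 := d32_2 (iv F218165) D50905 F222048
theorem F227533 : act 8 n50905 = n48842 := d33_2 (iv F218166) D50905 (iv D48842)
def n50906 : Q := act 9 n48830
theorem D50906 : act 9 n48830 = n50906 := rfl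
theorem F227534 : act 0 n50906 = n50050 := d8_1 D50906 F224233 (iv F218161)
theorem F227535 : act 1 n50906 = n49381 := d16_1 D50906 (iv D49381) (iv F218162)
theorem F227536 : act 2 n50906 = n50457 := d23_1 D50906 (iv D50457) (iv F218163)
theorem F227537 : act 3 n50906 = n48831 := d29_1 D50906 (iv D48831) D48830
theorem F227538 : act 6 n50906 = n48834 := d41_1 D50906 (iv D48834) (iv F218164)
theorem F227539 : act 7 n50906 = n50453 := d43_1 D50906 (iv D50453) (iv F218165)
def n50907 : Q := act 1 n48832
theorem D50907 : act 1 n48832 = n50907 := rfl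
theorem F227540 : act 0 n50907 = n49401 := d0_1 D50907 F221328 (iv F220342) F220343 (iv F218174)
theorem F227541 : act 2 n50907 = n49382 := d9_2 D48832 D50907 (iv D49382) (iv D47197) (iv F208456)
theorem F227542 : act 3 n50907 = n49263 := d10_2 (iv F218175) D50907 F220618
theorem F227543 : act 5 n50907 = n49266 := d12_2 (iv F218176) D50907 F220636
theorem F227544 : act 6 n50907 = n50039 := d13_2 (iv F218177) D50907 F224183
theorem F227545 : act 7 n50907 = n49264 := d14_2 (iv F218178) D50907 F220625
theorem F227546 : act 8 n50907 = n48844 := d15_2 (iv F218179) D50907 (iv D48844)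
theorem F227547 : act 9 n50907 = n50762 := d16_2 F218180 D50907 F226743
theorem F227548 : act 4 n49400 = n50907 := d32_3 F227545 (iv F227474) (iv F227477)
def n50908 : Q := act 4 n48832
theorem D50908 : act 4 n48832 = n50908 := rfl
theorem F227549 : act 0 n50908 = n49357 := d3_1 D50908 F221152 (iv F218174)
theorem F227550 : act 1 n50908 = n49400 := d11_1 D50908 F227548 (iv D50907)
theorem F227551 : act 2 n50908 = n48833 := d18_1 D50908 (iv D48833) D48832
theorem F227552 : act 3 n50908 = n49294 := d24_1 D50908 F220764 F210822 (iv F215412) (iv F218175)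
theorem F227553 : act 5 n50908 = n49470 := d30_2 (iv F218176) D50908 (iv D49470) F211605 (iv F213970)
theorem F227554 : act 6 n50908 = n49574 := d31_2 (iv F218177) D50908 F222058
theorem F227555 : act 7 n50908 = n49290 := d32_2 (iv F218178) D50908 F220748
theorem F227556 : act 8 n50908 = n48845 := d33_2 (iv F218179) D50908 (iv D48845)
theorem F227557 : act 9 n50908 = n50763 := d34_2 F218180 D50908 (iv D50763)
def n50909 : Q := act 9 n48833
theorem D50909 : act 9 n48833 = n50909 := rfl
theorem F227558 : act 0 n50909 = n49540 := d8_1 D50909 (iv D49540) (iv F218181)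
theorem F227559 : act 1 n50909 = n49386 := d16_1 D50909 (iv D49386) (iv F218182)
theorem F227560 : act 2 n50909 = n50763 := d23_1 D50909 (iv F227557) F227551
theorem F227561 : act 3 n50909 = n50909 := d29_1 D50909 (iv D50909) F218183
theorem F227562 : act 4 n50909 = n48834 := d34_1 D50909 (iv D48834) D48833
theorem F227563 : act 5 n50909 = n49472 := d38_1 D50909 (iv D49472) (iv F218184)
def n50910 : Q := act 8 n48834
theorem D50910 : act 8 n48834 = n50910 := rfl
theorem F227564 : act 0 n50910 = n50038 := d7_1 D50910 F224181 (iv F218186)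
theorem F227565 : act 1 n50910 = n49387 := d15_1 D50910 (iv D49387) (iv F218187)
theorem F227566 : act 2 n50910 = n50455 := d22_1 D50910 F225750 (iv F218188)
theorem F227567 : act 3 n50910 = n48898 := d28_1 D50910 (iv D48898) F208876 (iv F208464) (iv F218189)
theorem F227568 : act 5 n50910 = n49986 := d37_1 D50910 (iv D49986) (iv F218190)
theorem F227569 : act 9 n50910 = n48848 := d44_2 D48834 D50910 (iv D48848) (iv D46678) (iv F208458)
def n50911 : Q := act 3 n48836
theorem D50911 : act 3 n48836 = n50911 := rfl
theorem F227570 : act 0 n50911 = n50445 := d2_1 D50911 F225728 (iv F218200)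
theorem F227571 : act 1 n50911 = n49389 := d10_1 D50911 (iv D49389) (iv F218201)
theorem F227572 : act 2 n50911 = n50011 := d17_1 D50911 (iv D50011) F214125 (iv F208547) (iv F218202)
theorem F227573 : act 5 n50911 = n48839 := d25_2 (iv F218204) D50911 (iv D48839)
theorem F227574 : act 6 n50911 = n50013 := d26_2 (iv F218205) D50911 F224086
theorem F227575 : act 7 n50911 = n48837 := d27_2 (iv F218206) D50911 (iv D48837)
theorem F227576 : act 8 n50911 = n50441 := d28_2 D48836 D50911 F225718 F218153 F218148
def n50912 : Q := act 9 n48836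
theorem D50912 : act 9 n48836 = n50912 := rfl
theorem F227577 : act 0 n50912 = n50459 := d8_1 D50912 (iv D50459) (iv F218200)
theorem F227578 : act 1 n50912 = n49390 := d16_1 D50912 (iv D49390) (iv F218201)
theorem F227579 : act 2 n50912 = n48855 := d23_1 D50912 (iv D48855) (iv F218202)
theorem F227580 : act 4 n50912 = n48942 := d34_1 D50912 (iv D48942) (iv F218203)
theorem F227581 : act 5 n50912 = n48840 := d38_1 D50912 (iv D48840) (iv F218204)
theorem F227582 : act 6 n50912 = n50044 := d41_1 D50912 (iv D50044) (iv F218205)
theorem F227583 : act 7 n50912 = n48838 := d43_1 D50912 (iv D48838) (iv F218206)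
theorem F227584 : act 8 n50912 = n48900 := d44_1 D50912 (iv D48900) (iv D46739) (iv F208470) D48836
def n50913 : Q := act 2 n48837
theorem D50913 : act 2 n48837 = n50913 := rfl
theorem F227585 : act 0 n50913 = n50441 := d1_1 D50913 F225717 (iv F218207)
theorem F227586 : act 3 n50913 = n48856 := d17_2 D48837 D50913 (iv D48856) (iv D46687) (iv F208473)
theorem F227587 : act 5 n50913 = n48841 := d19_2 (iv F218209) D50913 (iv D48841)
theorem F227588 : act 6 n50913 = n48899 := d20_2 (iv F218210) D50913 F218602
theorem F227589 : act 7 n50913 = n50011 := d21_2 F227575 D50913 (iv F227572)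
theorem F227590 : act 8 n50913 = n50445 := d22_2 F227518 D50913 (iv F227514)
theorem F227591 : act 1 n49542 = n50913 := d14_3 F227589 F224076 (iv F221951)
def n50914 : Q := act 4 n48837
theorem D50914 : act 4 n48837 = n50914 := rfl
theorem F227592 : act 0 n50914 = n50432 := d3_1 D50914 F225696 (iv F218207)
theorem F227593 : act 1 n50914 = n49392 := d11_1 D50914 (iv D49392) (iv F218208)
theorem F227594 : act 3 n50914 = n48944 := d24_1 D50914 (iv D48944) (iv D46779) (iv F208474) D48837
theorem F227595 : act 6 n50914 = n49987 := d31_2 (iv F218210) D50914 (iv D49987)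
def n50915 : Q := act 9 n48837
theorem D50915 : act 9 n48837 = n50915 := rfl
theorem F227596 : act 0 n50915 = n50446 := d8_1 D50915 (iv D50446) (iv F218207)
theorem F227597 : act 1 n50915 = n49393 := d16_1 D50915 (iv D49393) (iv F218208)
theorem F227598 : act 3 n50915 = n48838 := d29_1 D50915 (iv D48838) D48837
theorem F227599 : act 5 n50915 = n48843 := d38_1 D50915 (iv D48843) (iv F218209)
theorem F227600 : act 6 n50915 = n49988 := d41_1 D50915 (iv D49988) (iv F218210)
def n50916 : Q := act 4 n48839
theorem D50916 : act 4 n48839 = n50916 := rfl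
theorem F227601 : act 0 n50916 = n49574 := d3_1 D50916 F222058 (iv F218218)
theorem F227602 : act 1 n50916 = n49354 := d11_1 D50916 (iv F221141) (iv F218219)
theorem F227603 : act 2 n50916 = n49539 := d18_1 D50916 F221943 (iv F218220)
theorem F227604 : act 3 n50916 = n48849 := d24_1 D50916 (iv D48849) (iv D46679) (iv F208480) D48839
theorem F227605 : act 6 n50916 = n49357 := d31_2 (iv F218221) D50916 F221152
theorem F227606 : act 7 n50916 = n48842 := d32_2 (iv F218222) D50916 (iv D48842)
theorem F227607 : act 8 n50916 = n49570 := d33_2 (iv F218223) D50916 F222048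
def n50917 : Q := act 9 n48839
theorem D50917 : act 9 n48839 = n50917 := rfl
theorem F227608 : act 0 n50917 = n50457 := d8_1 D50917 (iv D50457) (iv F218218)
theorem F227609 : act 1 n50917 = n49394 := d16_1 D50917 (iv D49394) (iv F218219)
theorem F227610 : act 2 n50917 = n50050 := d23_1 D50917 F224233 (iv F218220)
theorem F227611 : act 3 n50917 = n48840 := d29_1 D50917 (iv D48840) D48839
theorem F227612 : act 6 n50917 = n49991 := d41_1 D50917 F223980 (iv F218221)
theorem F227613 : act 7 n50917 = n48843 := d43_1 D50917 (iv D48843) (iv F218222)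
def n50918 : Q := act 1 n48841
theorem D50918 : act 1 n48841 = n50918 := rfl
theorem F227614 : act 2 n50918 = n49395 := d9_2 D48841 D50918 (iv D49395) (iv D47206) (iv F208483)
theorem F227615 : act 3 n50918 = n48858 := d10_2 (iv F218232) D50918 (iv D48858)
theorem F227616 : act 5 n50918 = n49542 := d12_2 F227587 D50918 F227591
theorem F227617 : act 6 n50918 = n48844 := d13_2 (iv F218233) D50918 (iv D48844)
theorem F227618 : act 7 n50918 = n50008 := d14_2 (iv F218234) D50918 F224063
theorem F227619 : act 8 n50918 = n50039 := d15_2 (iv F218235) D50918 F224183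
def n50919 : Q := act 4 n48841
theorem D50919 : act 4 n48841 = n50919 := rfl
theorem F227620 : act 0 n50919 = n49570 := d3_1 D50919 F222048 (iv F218231)
theorem F227621 : act 2 n50919 = n48842 := d18_1 D50919 (iv D48842) D48841
theorem F227622 : act 3 n50919 = n50919 := d24_1 D50919 (iv D50919) F218232 F208582 (iv F218232)
theorem F227623 : act 6 n50919 = n48845 := d31_2 (iv F218233) D50919 (iv D48845)
theorem F227624 : act 7 n50919 = n49539 := d32_2 (iv F218234) D50919 F221943
theorem F227625 : act 8 n50919 = n49574 := d33_2 (iv F218235) D50919 F222058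
def n50920 : Q := act 9 n48841
theorem D50920 : act 9 n48841 = n50920 := rfl
theorem F227626 : act 0 n50920 = n50453 := d8_1 D50920 (iv D50453) (iv F218231)
theorem F227627 : act 2 n50920 = n48843 := d23_1 D50920 (iv D48843) D48841
theorem F227628 : act 3 n50920 = n48859 := d29_1 D50920 (iv D48859) (iv F218232)
theorem F227629 : act 6 n50920 = n48846 := d41_1 D50920 (iv D48846) (iv F218233)
theorem F227630 : act 7 n50920 = n50050 := d43_1 D50920 F224233 (iv F218234)
def n50921 : Q := act 5 n48842
theorem D50921 : act 5 n48842 = n50921 := rfl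
theorem F227631 : act 0 n50921 = n49564 := d4_1 D50921 F222029 (iv F218236)
theorem F227632 : act 1 n50921 = n49397 := d12_1 D50921 (iv D49397) (iv F218237)
theorem F227633 : act 3 n50921 = n48851 := d25_1 D50921 (iv D48851) (iv F218238)
theorem F227634 : act 6 n50921 = n49486 := d35_2 (iv F218239) D50921 (iv D49486) F211641 (iv F208497)
def n50922 : Q := act 9 n48842
theorem D50922 : act 9 n48842 = n50922 := rfl
theorem F227635 : act 0 n50922 = n49575 := d8_1 D50922 (iv D49575) (iv F218236)
theorem F227636 : act 1 n50922 = n49398 := d16_1 D50922 (iv D49398) (iv F218237)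
theorem F227637 : act 3 n50922 = n48852 := d29_1 D50922 (iv D48852) (iv F218238)
theorem F227638 : act 4 n50922 = n48843 := d34_1 D50922 (iv D48843) D48842
theorem F227639 : act 6 n50922 = n48847 := d41_1 D50922 (iv D48847) (iv F218239)
def n50923 : Q := act 8 n48843
theorem D50923 : act 8 n48843 = n50923 := rfl
theorem F227640 : act 0 n50923 = n50458 := d7_1 D50923 (iv D50458) (iv F218240)
theorem F227641 : act 1 n50923 = n49399 := d15_1 D50923 (iv D49399) (iv F218241)
theorem F227642 : act 3 n50923 = n48908 := d28_1 D50923 (iv D48908) F208924 (iv F208490) (iv F218242)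
theorem F227643 : act 6 n50923 = n48848 := d40_1 D50923 (iv D48848) (iv F218243)
def n50924 : Q := act 0 n48844
theorem D50924 : act 0 n48844 = n50924 := rfl
theorem F227644 : act 1 n50924 = n49383 := d0_2 D48844 D50924 F221273 F215856 (iv F208491)
theorem F227645 : act 2 n50924 = n49400 := d1_2 (iv F218244) D50924 (iv D49400)
theorem F227646 : act 3 n50924 = n48860 := d2_2 (iv F218245) D50924 (iv D48860)
theorem F227647 : act 5 n50924 = n49244 := d4_2 (iv F218246) D50924 F220521
theorem F227648 : act 7 n50924 = n49242 := d6_2 (iv F218247) D50924 F220513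
theorem F227649 : act 8 n50924 = n49401 := d7_2 F227546 D50924 (iv F227540)
theorem F227650 : act 4 n49382 = n50924 := d33_3 F227649 (iv D49401) (iv F221272)
def n50925 : Q := act 4 n48844
theorem D50925 : act 4 n48844 = n50925 := rfl
theorem F227651 : act 0 n50925 = n49382 := d3_1 D50925 F227650 (iv D50924)
theorem F227652 : act 1 n50925 = n48845 := d11_1 D50925 (iv D48845) D48844
theorem F227653 : act 2 n50925 = n49401 := d18_1 D50925 (iv D49401) (iv F218244)
theorem F227654 : act 3 n50925 = n50925 := d24_1 D50925 (iv D50925) F218245 F208594 (iv F218245)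
theorem F227655 : act 5 n50925 = n49490 := d30_2 (iv F218246) D50925 (iv D49490) F211646 (iv F210761)
theorem F227656 : act 7 n50925 = n49277 := d32_2 (iv F218247) D50925 (iv D49277)
theorem F227657 : act 8 n50925 = n49400 := d33_2 F227546 D50925 F227548
def n50926 : Q := act 9 n48844
theorem D50926 : act 9 n48844 = n50926 := rfl
theorem F227658 : act 1 n50926 = n48846 := d16_1 D50926 (iv D48846) D48844
theorem F227659 : act 2 n50926 = n49402 := d23_1 D50926 (iv D49402) (iv F218244)
theorem F227660 : act 3 n50926 = n48861 := d29_1 D50926 (iv D48861) (iv F218245)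
theorem F227661 : act 5 n50926 = n49279 := d38_1 D50926 (iv D49279) (iv F218246)
theorem F227662 : act 7 n50926 = n49278 := d43_1 D50926 (iv D49278) (iv F218247)
def n50927 : Q := act 9 n48845
theorem D50927 : act 9 n48845 = n50927 := rfl
theorem F227663 : act 0 n50927 = n49571 := d8_1 D50927 (iv D49571) (iv F218248)
theorem F227664 : act 2 n50927 = n48847 := d23_1 D50927 (iv D48847) (iv F218249)
theorem F227665 : act 3 n50927 = n50927 := d29_1 D50927 (iv D50927) F218250
theorem F227666 : act 4 n50927 = n48846 := d34_1 D50927 (iv D48846) D48845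
theorem F227667 : act 5 n50927 = n49492 := d38_1 D50927 (iv D49492) (iv F218251)
def n50928 : Q := act 8 n48846
theorem D50928 : act 8 n48846 = n50928 := rfl
theorem F227668 : act 0 n50928 = n50454 := d7_1 D50928 (iv D50454) (iv F218252)
theorem F227669 : act 2 n50928 = n48848 := d22_1 D50928 (iv D48848) (iv F218253)
theorem F227670 : act 3 n50928 = n50415 := d28_1 D50928 (iv D50415) F218357 (iv D48862) (iv F218254)
theorem F227671 : act 5 n50928 = n49990 := d37_1 D50928 (iv D49990) (iv F218255)
theorem F227672 : act 9 n50928 = n50455 := d44_2 D48846 D50928 F225750 F218180 F218179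
def n50929 : Q := act 8 n48847
theorem D50929 : act 8 n48847 = n50929 := rfl
theorem F227673 : act 0 n50929 = n49576 := d7_1 D50929 (iv D49576) (iv F218256)
theorem F227674 : act 1 n50929 = n49408 := d15_1 D50929 (iv D49408) (iv F218257)
theorem F227675 : act 4 n50929 = n48848 := d33_1 D50929 (iv D48848) (iv F218259)
theorem F227676 : act 5 n50929 = n49494 := d37_1 D50929 (iv D49494) (iv F218260)
def n50930 : Q := act 5 n48849
theorem D50930 : act 5 n48849 = n50930 := rfl
theorem F227677 : act 0 n50930 = n49580 := d4_1 D50930 F222078 (iv F218265)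
theorem F227678 : act 1 n50930 = n49367 := d12_1 D50930 F221202 (iv F218266)
theorem F227679 : act 2 n50930 = n50930 := d19_1 D50930 (iv D50930) F218267
theorem F227680 : act 4 n50930 = n48959 := d30_1 D50930 (iv D48959) (iv D46791) (iv F208505) D48849
theorem F227681 : act 6 n50930 = n50336 := d35_2 (iv F218268) D50930 F225426 F215547 (iv F211255)
theorem F227682 : act 7 n50930 = n48851 := d36_2 (iv F218269) D50930 (iv D48851)
theorem F227683 : act 8 n50930 = n50930 := d37_2 F218270 D50930 (iv D50930)
def n50931 : Q := act 9 n48849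
theorem D50931 : act 9 n48849 = n50931 := rfl
theorem F227684 : act 0 n50931 = n49584 := d8_1 D50931 (iv D49584) (iv F218265)
theorem F227685 : act 1 n50931 = n49369 := d16_1 D50931 (iv D49369) (iv F218266)
theorem F227686 : act 2 n50931 = n50931 := d23_1 D50931 (iv D50931) F218267
theorem F227687 : act 4 n50931 = n48850 := d34_1 D50931 (iv D48850) D48849
theorem F227688 : act 6 n50931 = n49371 := d41_1 D50931 (iv D49371) (iv F218268)
theorem F227689 : act 7 n50931 = n48852 := d43_1 D50931 (iv D48852) (iv F218269)
theorem F227690 : act 8 n50757 = n50931 := d40_0 F227688 (iv F221227) (iv F226728)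
def n50932 : Q := act 9 n48851
theorem D50932 : act 9 n48851 = n50932 := rfl
theorem F227691 : act 0 n50932 = n49581 := d8_1 D50932 (iv D49581) (iv F218279)
theorem F227692 : act 1 n50932 = n49411 := d16_1 D50932 (iv D49411) (iv F218280)
theorem F227693 : act 2 n50932 = n50932 := d23_1 D50932 (iv D50932) F218281
theorem F227694 : act 4 n50932 = n48962 := d34_1 D50932 (iv D48962) (iv F218282)
theorem F227695 : act 5 n50932 = n48852 := d38_1 D50932 (iv D48852) D48851
theorem F227696 : act 6 n50932 = n49498 := d41_1 D50932 (iv D49498) (iv F218283)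
def n50933 : Q := act 8 n48852
theorem D50933 : act 8 n48852 = n50933 := rfl
theorem F227697 : act 0 n50933 = n49585 := d7_1 D50933 (iv D49585) (iv F218285)
theorem F227698 : act 1 n50933 = n49412 := d15_1 D50933 (iv D49412) (iv F218286)
theorem F227699 : act 2 n50933 = n50933 := d22_1 D50933 (iv D50933) F218287
theorem F227700 : act 4 n50933 = n48853 := d33_1 D50933 (iv D48853) (iv F218288)
theorem F227701 : act 6 n50933 = n48854 := d40_1 D50933 (iv D48854) (iv F218289)
theorem F227702 : act 7 n50933 = n50757 := d42_1 D50933 F227690 F227689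
theorem F227703 : act 9 n50933 = n50933 := d44_2 D48852 D50933 (iv D50933) (iv D48852) F208519
def n50934 : Q := act 3 n48854
theorem D50934 : act 3 n48854 = n50934 := rfl
theorem F227704 : act 0 n50934 = n49586 := d2_1 D50934 (iv D49586) (iv F218298)
theorem F227705 : act 1 n50934 = n49415 := d10_1 D50934 (iv D49415) (iv F218299)
theorem F227706 : act 4 n50934 = n48922 := d24_2 (iv F218301) D50934 (iv D48922) F208979 (iv F208534)
theorem F227707 : act 5 n50934 = n49500 := d25_2 (iv F218302) D50934 (iv D49500)
theorem F227708 : act 9 n50934 = n50934 := d29_2 F218303 D50934 (iv D50934)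
def n50935 : Q := act 9 n48856
theorem D50935 : act 9 n48856 = n50935 := rfl
theorem F227709 : act 0 n50935 = n50759 := d8_1 D50935 (iv D50759) (iv F218312)
theorem F227710 : act 1 n50935 = n49543 := d16_1 D50935 (iv D49543) (iv F218313)
theorem F227711 : act 2 n50935 = n48857 := d23_1 D50935 (iv D48857) D48856
theorem F227712 : act 4 n50935 = n49082 := d34_1 D50935 (iv D49082) (iv F218314)
theorem F227713 : act 5 n50935 = n48859 := d38_1 D50935 (iv D48859) (iv F218315)
theorem F227714 : act 6 n50935 = n48900 := d41_1 D50935 (iv D48900) (iv F218316)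
theorem F227715 : act 7 n50935 = n50012 := d43_1 D50935 (iv D50012) (iv F218317)
theorem F227716 : act 8 n50935 = n50044 := d44_1 D50935 (iv D50044) F218199 F218198 (iv F218318)
def n50936 : Q := act 0 n48858
theorem D50936 : act 0 n48858 = n50936 := rfl
theorem F227717 : act 1 n50936 = n49342 := d0_2 D48858 D50936 F221077 F211279 (iv F208581)
theorem F227718 : act 2 n50936 = n48863 := d1_2 (iv F218327) D50936 (iv D48863)
theorem F227719 : act 4 n50936 = n50936 := d3_2 F218328 D50936 (iv D50936)
theorem F227720 : act 5 n50936 = n49474 := d4_2 (iv F218329) D50936 F221668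
theorem F227721 : act 6 n50936 = n48860 := d5_2 (iv F218330) D50936 (iv D48860)
theorem F227722 : act 7 n50936 = n49331 := d6_2 (iv F218331) D50936 F221011
theorem F227723 : act 8 n50936 = n49241 := d7_2 (iv F218332) D50936 F220505
def n50937 : Q := act 9 n48858
theorem D50937 : act 9 n48858 = n50937 := rfl
theorem F227724 : act 1 n50937 = n48859 := d16_1 D50937 (iv D48859) D48858
theorem F227725 : act 2 n50937 = n48864 := d23_1 D50937 (iv D48864) (iv F218327)
theorem F227726 : act 4 n50937 = n50937 := d34_1 D50937 (iv D50937) F218328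
theorem F227727 : act 5 n50937 = n49543 := d38_1 D50937 (iv D49543) (iv F218329)
theorem F227728 : act 6 n50937 = n48861 := d41_1 D50937 (iv D48861) (iv F218330)
theorem F227729 : act 7 n50937 = n50049 := d43_1 D50937 F224231 (iv F218331)
theorem F227730 : act 8 n50937 = n50048 := d44_1 D50937 (iv D50048) (iv F218392) F218393 (iv F218332)
def n50938 : Q := act 9 n48860
theorem D50938 : act 9 n48860 = n50938 := rfl
theorem F227731 : act 0 n50938 = n48861 := d8_1 D50938 (iv D48861) D48860
theorem F227732 : act 1 n50938 = n50760 := d16_1 D50938 (iv D50760) (iv F218339)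
theorem F227733 : act 2 n50938 = n48865 := d23_1 D50938 (iv D48865) (iv F218340)
theorem F227734 : act 4 n50938 = n50938 := d34_1 D50938 (iv D50938) F218341
theorem F227735 : act 5 n50938 = n49245 := d38_1 D50938 (iv D49245) (iv F218342)
theorem F227736 : act 7 n50938 = n49243 := d43_1 D50938 (iv D49243) (iv F218343)
def n50939 : Q := act 8 n48861
theorem D50939 : act 8 n48861 = n50939 := rfl
theorem F227737 : act 1 n50939 = n48862 := d15_1 D50939 (iv D48862) (iv F218345)
theorem F227738 : act 2 n50939 = n48866 := d22_1 D50939 (iv D48866) (iv F218346)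
theorem F227739 : act 4 n50939 = n50939 := d33_1 D50939 (iv D50939) F218347
theorem F227740 : act 5 n50939 = n49211 := d37_1 D50939 F220355 (iv F218348)
theorem F227741 : act 6 n50939 = n50048 := d40_1 D50939 (iv F227730) F227728
theorem F227742 : act 7 n50939 = n49209 := d42_1 D50939 F220341 (iv F218349)
theorem F227743 : act 9 n50939 = n49207 := d44_2 D48861 D50939 (iv D49207) F210415 (iv F208597)
theorem F227744 : act 3 n50413 = n50939 := d29_3 F227743 F220324 D50413
def n50940 : Q := act 9 n48863
theorem D50940 : act 9 n48863 = n50940 := rfl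
theorem F227745 : act 0 n50940 = n48864 := d8_1 D50940 (iv D48864) D48863
theorem F227746 : act 1 n50940 = n50940 := d16_1 D50940 (iv D50940) F218358
theorem F227747 : act 3 n50940 = n49440 := d29_1 D50940 (iv D49440) (iv F218359)
theorem F227748 : act 4 n50940 = n50940 := d34_1 D50940 (iv D50940) F218360
theorem F227749 : act 5 n50940 = n49501 := d38_1 D50940 (iv D49501) (iv F218361)
theorem F227750 : act 6 n50940 = n48865 := d41_1 D50940 (iv D48865) (iv F218362)
theorem F227751 : act 7 n50940 = n50053 := d43_1 D50940 F224251 (iv F218363)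
theorem F227752 : act 8 n50940 = n50052 := d44_1 D50940 (iv D50052) F220266 F220265 (iv F218364)
def n50941 : Q := act 8 n48865
theorem D50941 : act 8 n48865 = n50941 := rfl
theorem F227753 : act 0 n50941 = n48866 := d7_1 D50941 (iv D48866) (iv F218372)
theorem F227754 : act 1 n50941 = n50941 := d15_1 D50941 (iv D50941) F218373
theorem F227755 : act 4 n50941 = n50941 := d33_1 D50941 (iv D50941) F218375
theorem F227756 : act 5 n50941 = n49199 := d37_1 D50941 F220287 (iv F218376)
theorem F227757 : act 6 n50941 = n50052 := d40_1 D50941 (iv F227752) F227750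
theorem F227758 : act 7 n50941 = n49198 := d42_1 D50941 F220280 (iv F218377)
theorem F227759 : act 9 n50941 = n49197 := d44_2 D48865 D50941 (iv D49197) F210352 (iv F208645)
theorem F227760 : act 3 n50941 = n49311 := d45_2 D48865 D50941 F220876 F210963 F177736 F123881 F123882 F86598 (iv D13826) (iv D9529) F30136 (iv D4554) (iv D3157) F10785 (iv D1599) (iv D1115) (iv D776) F2908 (iv D370) F1418 F1018 F1017 (iv F1418) F1417 F1072 F1073 (iv D130) F534 (iv F742) F743 (iv F1049) F1048 (iv F1392) (iv F1912) (iv F2712) D730 D1052 D1506 (iv F10586) D3097 (iv F20860) F20859 (iv F29411) D9300 F41669 (iv F205976) F36197 F201565 F43927 F31176 F22360 (iv F24375) F200492 (iv D7485) (iv D5164) (iv F23774) F23775 (iv D5098) F16863 (iv F16858) (iv F21998) (iv F31088) (iv F44051) D14269 (iv F202419) F50554 F36098 F202906 F44052 F31063 (iv F44021) D14259 F62645 F62642 (iv F62712) (iv F89579) F205787 (iv F175167) (iv F208177) F208178 (iv F208345) D48812 F218036 (iv F218176) D50908 F227552 F220762 F211409 (iv F208641)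
def n50942 : Q := act 3 n48869
theorem D50942 : act 3 n48869 = n50942 := rfl
theorem F227761 : act 0 n50942 = n49450 := d2_1 D50942 (iv D49450) (iv F218403)
theorem F227762 : act 1 n50942 = n48877 := d10_1 D50942 (iv D48877) (iv F218404)
theorem F227763 : act 5 n50942 = n48870 := d25_2 (iv F218407) D50942 (iv D48870)
theorem F227764 : act 6 n50942 = n49992 := d26_2 (iv F218408) D50942 (iv D49992)
theorem F227765 : act 7 n50942 = n50438 := d27_2 (iv F218409) D50942 F225710
theorem F227766 : act 8 n50942 = n50016 := d28_2 D48869 D50942 F224100 F214234 (iv F208670)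
theorem F227767 : act 2 n50942 = n50406 := d46_4 D42194 (iv F209414) (iv F218406) D50942 (iv D50406) (iv F225548) F225551 F215707 (iv F208901) (iv D46742) F175839 F122644 F85763 (iv D19870) (iv F85757) F85756 F60334 F60333 (iv F61302) (iv F87449) D29511 F125197 F87459 F61248 (iv F87416) (iv F125053) (iv F176384) (iv D42197) (iv F175707) (iv F208677) (iv F218388) F218387 F210479 F177201 F206163 (iv F205881) F178073 D42925 F204443 (iv F204405) F181910 (iv D29916) F88658 (iv D20550) F62064 F43625 F30788 F21805 D6734 F30821 F21815 F15479 F15478 (iv F21797) (iv F30742) (iv D6716) F21746 (iv F30731) (iv F43047) (iv F61190) (iv F87353) (iv F122963)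
def n50943 : Q := act 9 n48869
theorem D50943 : act 9 n48869 = n50943 := rfl
theorem F227768 : act 0 n50943 = n49451 := d8_1 D50943 (iv D49451) (iv F218403)
theorem F227769 : act 1 n50943 = n48878 := d16_1 D50943 (iv D48878) (iv F218404)
theorem F227770 : act 2 n50943 = n50943 := d23_1 D50943 (iv D50943) F218405
theorem F227771 : act 4 n50943 = n49002 := d34_1 D50943 (iv D49002) (iv F218406)
theorem F227772 : act 5 n50943 = n48871 := d38_1 D50943 (iv D48871) (iv F218407)
theorem F227773 : act 6 n50943 = n49993 := d41_1 D50943 (iv D49993) (iv F218408)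
theorem F227774 : act 7 n50943 = n50758 := d43_1 D50943 (iv D50758) (iv F218409)
theorem F227775 : act 8 n50943 = n50042 := d44_1 D50943 (iv D50042) F214200 (iv F208673) D48869
def n50944 : Q := act 9 n48870
theorem D50944 : act 9 n48870 = n50944 := rfl
theorem F227776 : act 0 n50944 = n49455 := d8_1 D50944 (iv D49455) (iv F218410)
theorem F227777 : act 1 n50944 = n48879 := d16_1 D50944 (iv D48879) (iv F218411)
theorem F227778 : act 2 n50944 = n50411 := d23_1 D50944 (iv D50411) F218416
theorem F227779 : act 3 n50944 = n48871 := d29_1 D50944 (iv D48871) D48870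
theorem F227780 : act 4 n50944 = n50435 := d34_1 D50944 (iv D50435) (iv F218412)
theorem F227781 : act 6 n50944 = n48873 := d41_1 D50944 (iv D48873) (iv F218413)
theorem F227782 : act 7 n50944 = n50439 := d43_1 D50944 (iv D50439) (iv F218414)
def n50945 : Q := act 9 n48872
theorem D50945 : act 9 n48872 = n50945 := rfl
theorem F227783 : act 0 n50945 = n49407 := d8_1 D50945 (iv D49407) (iv F218424)
theorem F227784 : act 1 n50945 = n48881 := d16_1 D50945 (iv D48881) (iv F218425)
theorem F227785 : act 2 n50945 = n50413 := d23_1 D50945 (iv D50413) (iv F218426)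
theorem F227786 : act 3 n50945 = n48874 := d29_1 D50945 (iv D48874) (iv F218427)
theorem F227787 : act 4 n50945 = n48873 := d34_1 D50945 (iv D48873) D48872
theorem F227788 : act 5 n50945 = n49359 := d38_1 D50945 (iv D49359) (iv F218428)
theorem F227789 : act 6 n50945 = n50435 := d41_1 D50945 (iv D50435) (iv F218429)
theorem F227790 : act 7 n50945 = n50305 := d43_1 D50945 (iv D50305) (iv F218430)
def n50946 : Q := act 8 n48873
theorem D50946 : act 8 n48873 = n50946 := rfl
theorem F227791 : act 0 n50946 = n49458 := d7_1 D50946 (iv D49458) (iv F218432)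
theorem F227792 : act 1 n50946 = n48882 := d15_1 D50946 (iv D48882) (iv F218433)
theorem F227793 : act 2 n50946 = n50414 := d22_1 D50946 (iv D50414) (iv F218434)
theorem F227794 : act 3 n50946 = n50041 := d28_1 D50946 (iv D50041) F214192 (iv F208697) (iv F218435)
theorem F227795 : act 5 n50946 = n49995 := d37_1 D50946 (iv D49995) (iv F218436)
theorem F227796 : act 9 n50946 = n50034 := d44_2 D48873 D50946 (iv D50034) (iv D47829) (iv F208690)
def n50947 : Q := act 8 n48874
theorem D50947 : act 8 n48874 = n50947 := rfl
theorem F227797 : act 0 n50947 = n49414 := d7_1 D50947 (iv D49414) (iv F218437)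
theorem F227798 : act 1 n50947 = n48885 := d15_1 D50947 (iv D48885) (iv F218438)
theorem F227799 : act 2 n50947 = n49443 := d22_1 D50947 F221531 (iv F218439)
theorem F227800 : act 4 n50947 = n48875 := d33_1 D50947 (iv D48875) (iv F218440)
theorem F227801 : act 5 n50947 = n49364 := d37_1 D50947 (iv D49364) (iv F218441)
theorem F227802 : act 6 n50947 = n50472 := d40_1 D50947 (iv D50472) (iv F218442)
theorem F227803 : act 7 n50947 = n50317 := d42_1 D50947 (iv D50317) (iv F218443)
theorem F227804 : act 9 n50947 = n50947 := d44_2 D48874 D50947 (iv D50947) (iv D48874) F208712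
def n50948 : Q := act 4 n48877
theorem D50948 : act 4 n48877 = n50948 := rfl
theorem F227805 : act 0 n50948 = n48902 := d3_1 D50948 (iv D48902) (iv F218460)
theorem F227806 : act 2 n50948 = n50005 := d18_1 D50948 (iv D50005) (iv F218461)
theorem F227807 : act 3 n50948 = n49032 := d24_1 D50948 (iv D49032) (iv D46857) (iv F208757) D48877
theorem F227808 : act 5 n50948 = n50421 := d30_2 (iv F218462) D50948 (iv D50421) F215806 (iv F208763)
theorem F227809 : act 6 n50948 = n49996 := d31_2 (iv F218463) D50948 (iv D49996)
theorem F227810 : act 7 n50948 = n50429 := d32_2 (iv F218464) D50948 F225690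
theorem F227811 : act 8 n50948 = n50017 := d33_2 (iv F218465) D50948 (iv D50017)
def n50949 : Q := act 9 n48877
theorem D50949 : act 9 n48877 = n50949 := rfl
theorem F227812 : act 0 n50949 = n48903 := d8_1 D50949 (iv D48903) (iv F218460)
theorem F227813 : act 2 n50949 = n50006 := d23_1 D50949 (iv D50006) (iv F218461)
theorem F227814 : act 3 n50949 = n48878 := d29_1 D50949 (iv D48878) D48877
theorem F227815 : act 5 n50949 = n48879 := d38_1 D50949 (iv D48879) (iv F218462)
theorem F227816 : act 6 n50949 = n49997 := d41_1 D50949 (iv D49997) (iv F218463)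
theorem F227817 : act 7 n50949 = n50442 := d43_1 D50949 (iv D50442) (iv F218464)
def n50950 : Q := act 8 n48879
theorem D50950 : act 8 n48879 = n50950 := rfl
theorem F227818 : act 0 n50950 = n48908 := d7_1 D50950 (iv D48908) (iv F218473)
theorem F227819 : act 2 n50950 = n50007 := d22_1 D50950 (iv D50007) (iv F218474)
theorem F227820 : act 3 n50950 = n50458 := d28_1 D50950 (iv D50458) F215871 (iv F208772) (iv F218475)
theorem F227821 : act 4 n50950 = n50436 := d33_1 D50950 (iv D50436) (iv F218476)
theorem F227822 : act 6 n50950 = n48882 := d40_1 D50950 (iv D48882) (iv F218477)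
theorem F227823 : act 7 n50950 = n50443 := d42_1 D50950 (iv D50443) (iv F218478)
theorem F227824 : act 9 n50950 = n50029 := d44_2 D48879 D50950 (iv D50029) (iv D47824) (iv F208766)
def n50951 : Q := act 6 n48880
theorem D50951 : act 6 n48880 = n50951 := rfl
theorem F227825 : act 0 n50951 = n48913 := d5_1 D50951 (iv D48913) (iv F218479)
theorem F227826 : act 1 n50951 = n49355 := d13_1 D50951 F221145 (iv F218480)
theorem F227827 : act 2 n50951 = n50008 := d20_1 D50951 (iv D50008) (iv F218481)
theorem F227828 : act 3 n50951 = n48883 := d26_1 D50951 (iv D48883) (iv F218482)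
theorem F227829 : act 4 n50951 = n49336 := d31_1 D50951 F221045 (iv F218483)
theorem F227830 : act 5 n50951 = n50417 := d35_1 D50951 F225662 F215806 (iv F208776) D48880
theorem F227831 : act 7 n50951 = n49395 := d39_2 (iv F218484) D50951 F221316 (iv F220362) F220361
theorem F227832 : act 8 n50951 = n50035 := d40_2 (iv F218485) D50951 (iv D50035)
def n50952 : Q := act 9 n48880
theorem D50952 : act 9 n48880 = n50952 := rfl
theorem F227833 : act 0 n50952 = n48914 := d8_1 D50952 (iv D48914) (iv F218479)
theorem F227834 : act 1 n50952 = n49359 := d16_1 D50952 (iv D49359) (iv F218480)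
theorem F227835 : act 2 n50952 = n50009 := d23_1 D50952 (iv D50009) (iv F218481)
theorem F227836 : act 3 n50952 = n48884 := d29_1 D50952 (iv D48884) (iv F218482)
theorem F227837 : act 4 n50952 = n49338 := d34_1 D50952 (iv D49338) (iv F218483)
theorem F227838 : act 5 n50952 = n48881 := d38_1 D50952 (iv D48881) D48880
theorem F227839 : act 7 n50952 = n50302 := d43_1 D50952 (iv D50302) (iv F218484)
def n50953 : Q := act 8 n48881
theorem D50953 : act 8 n48881 = n50953 := rfl
theorem F227840 : act 0 n50953 = n48915 := d7_1 D50953 (iv D48915) (iv F218486)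
theorem F227841 : act 2 n50953 = n50010 := d22_1 D50953 (iv D50010) (iv F218487)
theorem F227842 : act 4 n50953 = n48882 := d33_1 D50953 (iv D48882) (iv F218489)
theorem F227843 : act 6 n50953 = n50436 := d40_1 D50953 (iv D50436) (iv F218490)
theorem F227844 : act 7 n50953 = n50306 := d42_1 D50953 (iv D50306) (iv F218491)
theorem F227845 : act 9 n50953 = n50037 := d44_2 D48881 D50953 (iv D50037) (iv D47831) (iv F208778)
def n50954 : Q := act 9 n48883
theorem D50954 : act 9 n48883 = n50954 := rfl
theorem F227846 : act 0 n50954 = n48920 := d8_1 D50954 (iv D48920) (iv F218497)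
theorem F227847 : act 1 n50954 = n49362 := d16_1 D50954 (iv D49362) (iv F218498)
theorem F227848 : act 2 n50954 = n49439 := d23_1 D50954 (iv D49439) (iv F218499)
theorem F227849 : act 4 n50954 = n48887 := d34_1 D50954 (iv D48887) (iv F218500)
theorem F227850 : act 5 n50954 = n50460 := d38_1 D50954 (iv D50460) (iv F218501)
theorem F227851 : act 6 n50954 = n48884 := d41_1 D50954 (iv D48884) D48883
theorem F227852 : act 7 n50954 = n49426 := d43_1 D50954 (iv D49426) (iv F218502)
theorem F227853 : act 8 n50490 = n50954 := d40_0 F227851 (iv F218510) (iv F225869)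
def n50955 : Q := act 3 n48885
theorem D50955 : act 3 n48885 = n50955 := rfl
theorem F227854 : act 0 n50955 = n48922 := d2_1 D50955 (iv D48922) (iv F218511)
theorem F227855 : act 2 n50955 = n49604 := d17_1 D50955 (iv D49604) F212003 D47392 (iv F218512)
theorem F227856 : act 4 n50955 = n49586 := d24_2 (iv F218513) D50955 (iv D49586) F211920 (iv F208796)
theorem F227857 : act 5 n50955 = n50478 := d25_2 (iv F218514) D50955 F225821
theorem F227858 : act 6 n50955 = n50473 := d26_2 (iv F218515) D50955 (iv D50473)
theorem F227859 : act 7 n50955 = n50318 := d27_2 (iv F218516) D50955 (iv D50318)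
theorem F227860 : act 9 n50955 = n50955 := d29_2 F218517 D50955 (iv D50955)
def n50956 : Q := act 9 n48886
theorem D50956 : act 9 n48886 = n50956 := rfl
theorem F227861 : act 0 n50956 = n48923 := d8_1 D50956 (iv D48923) (iv F218518)
theorem F227862 : act 1 n50956 = n49316 := d16_1 D50956 (iv D49316) (iv F218519)
theorem F227863 : act 2 n50956 = n49326 := d23_1 D50956 (iv D49326) (iv F218520)
theorem F227864 : act 3 n50956 = n49339 := d29_1 D50956 (iv D49339) (iv F218521)
theorem F227865 : act 4 n50956 = n49426 := d34_1 D50956 (iv D49426) (iv F218522)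
theorem F227866 : act 5 n50956 = n49050 := d38_1 D50956 (iv D49050) (iv F218523)
theorem F227867 : act 6 n50956 = n49318 := d41_1 D50956 (iv D49318) (iv F218524)
theorem F227868 : act 7 n50956 = n48887 := d43_1 D50956 (iv D48887) D48886
theorem F227869 : act 8 n50769 = n50956 := d40_0 F227867 (iv F220926) (iv F226761)
def n50957 : Q := act 8 n48887
theorem D50957 : act 8 n48887 = n50957 := rfl
theorem F227870 : act 0 n50957 = n48924 := d7_1 D50957 (iv D48924) (iv F218526)
theorem F227871 : act 1 n50957 = n49363 := d15_1 D50957 (iv D49363) (iv F218527)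
theorem F227872 : act 2 n50957 = n50491 := d22_1 D50957 F227119 F227113
theorem F227873 : act 3 n50957 = n49416 := d28_1 D50957 (iv D49416) F211361 (iv F211143) (iv F218528)
theorem F227874 : act 4 n50957 = n50490 := d33_1 D50957 F227853 F227849
theorem F227875 : act 5 n50957 = n49051 := d37_1 D50957 (iv D49051) (iv F218529)
theorem F227876 : act 6 n50957 = n48888 := d40_1 D50957 (iv D48888) (iv F218530)
theorem F227877 : act 7 n50957 = n50769 := d42_1 D50957 F227869 F227868
theorem F227878 : act 9 n50957 = n50957 := d44_2 D48887 D50957 (iv D50957) (iv D48887) F208805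
def n50958 : Q := act 3 n48889
theorem D50958 : act 3 n48889 = n50958 := rfl
theorem F227879 : act 0 n50958 = n50013 := d2_1 D50958 F224086 (iv F218538)
theorem F227880 : act 1 n50958 = n49522 := d10_1 D50958 (iv D49522) (iv F218539)
theorem F227881 : act 2 n50958 = n49982 := d17_1 D50958 (iv D49982) F213952 D47803 (iv F218540)
theorem F227882 : act 5 n50958 = n48892 := d25_2 (iv F218542) D50958 (iv D48892)
theorem F227883 : act 6 n50958 = n50445 := d26_2 (iv F218543) D50958 F225728
theorem F227884 : act 7 n50958 = n48890 := d27_2 (iv F218544) D50958 (iv D48890)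
theorem F227885 : act 8 n50958 = n48899 := d28_2 D48889 D50958 (iv D48899) (iv D46739) (iv F208843)
def n50959 : Q := act 9 n48889
theorem D50959 : act 9 n48889 = n50959 := rfl
theorem F227886 : act 0 n50959 = n50044 := d8_1 D50959 (iv D50044) (iv F218538)
theorem F227887 : act 1 n50959 = n49523 := d16_1 D50959 (iv D49523) (iv F218539)
theorem F227888 : act 2 n50959 = n50004 := d23_1 D50959 (iv D50004) (iv F218540)
theorem F227889 : act 4 n50959 = n50708 := d34_1 D50959 (iv D50708) (iv F218541)
theorem F227890 : act 5 n50959 = n48893 := d38_1 D50959 (iv D48893) (iv F218542)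
theorem F227891 : act 6 n50959 = n50459 := d41_1 D50959 (iv D50459) (iv F218543)
theorem F227892 : act 7 n50959 = n48891 := d43_1 D50959 (iv D48891) (iv F218544)
theorem F227893 : act 8 n50959 = n50759 := d44_1 D50959 (iv D50759) F218153 F218152 D48889
def n50960 : Q := act 4 n48890
theorem D50960 : act 4 n48890 = n50960 := rfl
theorem F227894 : act 0 n50960 = n50017 := d3_1 D50960 (iv D50017) (iv F218545)
theorem F227895 : act 1 n50960 = n49525 := d11_1 D50960 (iv D49525) (iv F218546)
theorem F227896 : act 2 n50960 = n49996 := d18_1 D50960 (iv D49996) (iv F218547)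
theorem F227897 : act 3 n50960 = n50653 := d24_1 D50960 F226386 F216626 (iv F208850) D48890
theorem F227898 : act 6 n50960 = n50005 := d31_2 (iv F218549) D50960 (iv D50005)
theorem F227899 : act 8 n50960 = n48902 := d33_2 (iv F218550) D50960 (iv D48902)
def n50961 : Q := act 9 n48890
theorem D50961 : act 9 n48890 = n50961 := rfl
theorem F227900 : act 0 n50961 = n50018 := d8_1 D50961 (iv D50018) (iv F218545)
theorem F227901 : act 1 n50961 = n49526 := d16_1 D50961 (iv D49526) (iv F218546)
theorem F227902 : act 2 n50961 = n49997 := d23_1 D50961 (iv D49997) (iv F218547)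
theorem F227903 : act 3 n50961 = n48891 := d29_1 D50961 (iv D48891) D48890
theorem F227904 : act 5 n50961 = n48895 := d38_1 D50961 (iv D48895) (iv F218548)
theorem F227905 : act 6 n50961 = n50006 := d41_1 D50961 (iv D50006) (iv F218549)
def n50962 : Q := act 9 n48892
theorem D50962 : act 9 n48892 = n50962 := rfl
theorem F227906 : act 0 n50962 = n50023 := d8_1 D50962 (iv D50023) (iv F218557)
theorem F227907 : act 1 n50962 = n49529 := d16_1 D50962 (iv D49529) (iv F218558)
theorem F227908 : act 2 n50962 = n49984 := d23_1 D50962 (iv D49984) (iv F218559)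
theorem F227909 : act 3 n50962 = n48893 := d29_1 D50962 (iv D48893) D48892
theorem F227910 : act 4 n50962 = n50381 := d34_1 D50962 (iv D50381) F218563
theorem F227911 : act 6 n50962 = n49985 := d41_1 D50962 (iv D49985) (iv F218560)
theorem F227912 : act 7 n50962 = n48895 := d43_1 D50962 (iv D48895) (iv F218561)
def n50963 : Q := act 5 n48894
theorem D50963 : act 5 n48894 = n50963 := rfl
theorem F227913 : act 0 n50963 = n50027 := d4_1 D50963 (iv D50027) (iv F218571)
theorem F227914 : act 1 n50963 = n49533 := d12_1 D50963 (iv D49533) (iv F218572)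
theorem F227915 : act 2 n50963 = n49998 := d19_1 D50963 (iv D49998) (iv F218573)
theorem F227916 : act 3 n50963 = n50963 := d25_1 D50963 (iv D50963) F218574
theorem F227917 : act 7 n50963 = n50378 := d36_2 (iv F218576) D50963 F225550
theorem F227918 : act 8 n50963 = n48906 := d37_2 (iv F218577) D50963 (iv D48906)
def n50964 : Q := act 9 n48894
theorem D50964 : act 9 n48894 = n50964 := rfl
theorem F227919 : act 0 n50964 = n50028 := d8_1 D50964 (iv D50028) (iv F218571)
theorem F227920 : act 1 n50964 = n49534 := d16_1 D50964 (iv D49534) (iv F218572)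
theorem F227921 : act 2 n50964 = n49999 := d23_1 D50964 (iv D49999) (iv F218573)
theorem F227922 : act 3 n50964 = n50964 := d29_1 D50964 (iv D50964) F218574
theorem F227923 : act 4 n50964 = n48895 := d34_1 D50964 (iv D48895) D48894
theorem F227924 : act 6 n50964 = n48897 := d41_1 D50964 (iv D48897) (iv F218575)
theorem F227925 : act 7 n50964 = n50381 := d43_1 D50964 (iv D50381) (iv F218576)
def n50965 : Q := act 8 n48895
theorem D50965 : act 8 n48895 = n50965 := rfl
theorem F227926 : act 0 n50965 = n50029 := d7_1 D50965 (iv D50029) (iv F218578)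
theorem F227927 : act 1 n50965 = n49535 := d15_1 D50965 (iv D49535) (iv F218579)
theorem F227928 : act 2 n50965 = n50000 := d22_1 D50965 (iv D50000) (iv F218580)
theorem F227929 : act 6 n50965 = n48898 := d40_1 D50965 (iv D48898) (iv F218582)
theorem F227930 : act 9 n50965 = n48908 := d44_2 D48895 D50965 (iv D48908) (iv D46746) (iv F208862)
def n50966 : Q := act 6 n48896
theorem D50966 : act 6 n48896 = n50966 := rfl
theorem F227931 : act 0 n50966 = n50035 := d5_1 D50966 (iv D50035) (iv F218583)
theorem F227932 : act 1 n50966 = n49539 := d13_1 D50966 (iv D49539) (iv F218584)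
theorem F227933 : act 2 n50966 = n49336 := d20_1 D50966 F221045 (iv F218585)
theorem F227934 : act 3 n50966 = n50966 := d26_1 D50966 (iv D50966) F218586
theorem F227935 : act 4 n50966 = n50008 := d31_1 D50966 (iv D50008) (iv F218587)
theorem F227936 : act 8 n50966 = n48913 := d40_2 (iv F218589) D50966 (iv D48913)
def n50967 : Q := act 9 n48896
theorem D50967 : act 9 n48896 = n50967 := rfl
theorem F227937 : act 0 n50967 = n50036 := d8_1 D50967 (iv D50036) (iv F218583)
theorem F227938 : act 1 n50967 = n49540 := d16_1 D50967 (iv D49540) (iv F218584)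
theorem F227939 : act 2 n50967 = n49338 := d23_1 D50967 (iv D49338) (iv F218585)
theorem F227940 : act 3 n50967 = n50967 := d29_1 D50967 (iv D50967) F218586
theorem F227941 : act 4 n50967 = n50009 := d34_1 D50967 (iv D50009) (iv F218587)
theorem F227942 : act 5 n50967 = n48897 := d38_1 D50967 (iv D48897) D48896
theorem F227943 : act 7 n50967 = n50303 := d43_1 D50967 (iv D50303) (iv F218588)
def n50968 : Q := act 8 n48897
theorem D50968 : act 8 n48897 = n50968 := rfl
theorem F227944 : act 0 n50968 = n50037 := d7_1 D50968 (iv D50037) (iv F218590)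
theorem F227945 : act 1 n50968 = n49541 := d15_1 D50968 (iv D49541) (iv F218591)
theorem F227946 : act 2 n50968 = n50001 := d22_1 D50968 (iv D50001) (iv F218592)
theorem F227947 : act 4 n50968 = n48898 := d33_1 D50968 (iv D48898) (iv F218594)
theorem F227948 : act 9 n50968 = n48915 := d44_2 D48897 D50968 (iv D48915) (iv D46751) (iv F208872)
def n50969 : Q := act 4 n48899
theorem D50969 : act 4 n48899 = n50969 := rfl
theorem F227949 : act 0 n50969 = n50429 := d3_1 D50969 F225690 (iv F218600)
theorem F227950 : act 1 n50969 = n49545 := d11_1 D50969 (iv D49545) (iv F218601)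
theorem F227951 : act 2 n50969 = n49987 := d18_1 D50969 (iv D49987) (iv F218602)
theorem F227952 : act 3 n50969 = n49084 := d24_1 D50969 (iv D49084) (iv D46902) (iv F208887) D48899
theorem F227953 : act 5 n50969 = n50389 := d30_2 (iv F218603) D50969 (iv D50389) F215707 (iv F208901)
theorem F227954 : act 7 n50969 = n48902 := d32_2 (iv F218604) D50969 (iv D48902)
def n50970 : Q := act 9 n48899
theorem D50970 : act 9 n48899 = n50970 := rfl
theorem F227955 : act 0 n50970 = n50442 := d8_1 D50970 (iv D50442) (iv F218600)
theorem F227956 : act 1 n50970 = n49546 := d16_1 D50970 (iv D49546) (iv F218601)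
theorem F227957 : act 2 n50970 = n49988 := d23_1 D50970 (iv D49988) (iv F218602)
theorem F227958 : act 3 n50970 = n48900 := d29_1 D50970 (iv D48900) D48899
theorem F227959 : act 5 n50970 = n48904 := d38_1 D50970 (iv D48904) (iv F218603)
theorem F227960 : act 7 n50970 = n48903 := d43_1 D50970 (iv D48903) (iv F218604)
def n50971 : Q := act 4 n48901
theorem D50971 : act 4 n48901 = n50971 := rfl
theorem F227961 : act 0 n50971 = n50005 := d3_1 D50971 (iv D50005) (iv F218611)
theorem F227962 : act 1 n50971 = n50352 := d11_1 D50971 (iv D50352) F218617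
theorem F227963 : act 2 n50971 = n48902 := d18_1 D50971 (iv D48902) D48901
theorem F227964 : act 3 n50971 = n50068 := d24_1 D50971 (iv D50068) (iv D47877) (iv F209000) (iv F218612)
theorem F227965 : act 5 n50971 = n50387 := d30_2 (iv F218613) D50971 (iv D50387) F215698 F208916
theorem F227966 : act 6 n50971 = n50017 := d31_2 (iv F218614) D50971 (iv D50017)
theorem F227967 : act 7 n50971 = n49987 := d32_2 (iv F218615) D50971 (iv D49987)
theorem F227968 : act 8 n50971 = n49996 := d33_2 (iv F218616) D50971 (iv D49996)
def n50972 : Q := act 9 n48901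
theorem D50972 : act 9 n48901 = n50972 := rfl
theorem F227969 : act 0 n50972 = n50006 := d8_1 D50972 (iv D50006) (iv F218611)
theorem F227970 : act 1 n50972 = n50353 := d16_1 D50972 (iv D50353) F218617
theorem F227971 : act 2 n50972 = n48903 := d23_1 D50972 (iv D48903) D48901
theorem F227972 : act 3 n50972 = n48925 := d29_1 D50972 (iv D48925) (iv F218612)
theorem F227973 : act 5 n50972 = n48905 := d38_1 D50972 (iv D48905) (iv F218613)
theorem F227974 : act 6 n50972 = n50018 := d41_1 D50972 (iv D50018) (iv F218614)
theorem F227975 : act 7 n50972 = n49988 := d43_1 D50972 (iv D49988) (iv F218615)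
def n50973 : Q := act 5 n48902
theorem D50973 : act 5 n48902 = n50973 := rfl
theorem F227976 : act 0 n50973 = n50421 := d4_1 D50973 (iv F227808) F227805
theorem F227977 : act 1 n50973 = n49550 := d12_1 D50973 (iv D49550) (iv F218618)
theorem F227978 : act 2 n50973 = n50387 := d19_1 D50973 (iv F227965) F227963
theorem F227979 : act 3 n50973 = n49089 := d25_1 D50973 (iv D49089) (iv F218619)
theorem F227980 : act 4 n50973 = n48906 := d30_1 D50973 (iv D48906) (iv D46745) (iv F208891) D48902
theorem F227981 : act 7 n50973 = n50389 := d36_2 F227954 D50973 (iv F227953)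
def n50974 : Q := act 9 n48902
theorem D50974 : act 9 n48902 = n50974 := rfl
theorem F227982 : act 1 n50974 = n49551 := d16_1 D50974 (iv D49551) (iv F218618)
theorem F227983 : act 3 n50974 = n49090 := d29_1 D50974 (iv D49090) (iv F218619)
theorem F227984 : act 4 n50974 = n48903 := d34_1 D50974 (iv D48903) D48902
theorem F227985 : act 6 n50974 = n50020 := d41_1 D50974 (iv D50020) (iv F218620)
def n50975 : Q := act 8 n48903
theorem D50975 : act 8 n48903 = n50975 := rfl
theorem F227986 : act 1 n50975 = n49552 := d15_1 D50975 (iv D49552) (iv F218621)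
theorem F227987 : act 5 n50975 = n48908 := d37_1 D50975 (iv D48908) (iv F218623)
theorem F227988 : act 6 n50975 = n50021 := d40_1 D50975 (iv D50021) (iv F218624)
def n50976 : Q := act 8 n48904
theorem D50976 : act 8 n48904 = n50976 := rfl
theorem F227989 : act 0 n50976 = n50443 := d7_1 D50976 (iv D50443) (iv F218625)
theorem F227990 : act 1 n50976 = n49557 := d15_1 D50976 (iv D49557) (iv F218626)
theorem F227991 : act 2 n50976 = n49989 := d22_1 D50976 (iv D49989) (iv F218627)
theorem F227992 : act 4 n50976 = n50394 := d33_1 D50976 (iv D50394) (iv F218629)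
theorem F227993 : act 6 n50976 = n49990 := d40_1 D50976 (iv D49990) (iv F218630)
theorem F227994 : act 7 n50976 = n48908 := d42_1 D50976 (iv D48908) (iv F218631)
def n50977 : Q := act 8 n48905
theorem D50977 : act 8 n48905 = n50977 := rfl
theorem F227995 : act 0 n50977 = n50007 := d7_1 D50977 (iv D50007) (iv F218632)
theorem F227996 : act 1 n50977 = n50359 := d15_1 D50977 (iv D50359) (iv F218633)
theorem F227997 : act 2 n50977 = n48908 := d22_1 D50977 (iv D48908) (iv F218634)
theorem F227998 : act 3 n50977 = n50024 := d28_1 D50977 (iv D50024) F214151 (iv F209019) (iv F218635)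
theorem F227999 : act 4 n50977 = n50393 := d33_1 D50977 (iv D50393) (iv F218636)
theorem F228000 : act 6 n50977 = n48912 := d40_1 D50977 (iv D48912) (iv F218637)
theorem F228001 : act 7 n50977 = n49989 := d42_1 D50977 (iv D49989) (iv F218638)
theorem F228002 : act 9 n50977 = n50000 := d44_2 D48905 D50977 (iv D50000) (iv D47797) (iv F208914)
def n50978 : Q := act 6 n48906
theorem D50978 : act 6 n48906 = n50978 := rfl
theorem F228003 : act 0 n50978 = n50417 := d5_1 D50978 F225662 (iv F218639)
theorem F228004 : act 1 n50978 = n49564 := d13_1 D50978 (iv D49564) (iv F218640)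
theorem F228005 : act 2 n50978 = n50385 := d20_1 D50978 F225570 (iv F218641)
theorem F228006 : act 3 n50978 = n48916 := d26_1 D50978 (iv D48916) (iv F218642)
theorem F228007 : act 5 n50978 = n48913 := d35_1 D50978 (iv D48913) (iv D46750) (iv F208921) D48906
def n50979 : Q := act 9 n48906
theorem D50979 : act 9 n48906 = n50979 := rfl
theorem F228008 : act 0 n50979 = n50422 := d8_1 D50979 (iv D50422) (iv F218639)
theorem F228009 : act 1 n50979 = n49565 := d16_1 D50979 (iv D49565) (iv F218640)
theorem F228010 : act 2 n50979 = n50388 := d23_1 D50979 (iv D50388) (iv F218641)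
theorem F228011 : act 3 n50979 = n48917 := d29_1 D50979 (iv D48917) (iv F218642)
theorem F228012 : act 5 n50979 = n48907 := d38_1 D50979 (iv D48907) D48906
theorem F228013 : act 7 n50979 = n50390 := d43_1 D50979 (iv D50390) (iv F218643)
def n50980 : Q := act 8 n48907
theorem D50980 : act 8 n48907 = n50980 := rfl
theorem F228014 : act 0 n50980 = n50436 := d7_1 D50980 (iv D50436) (iv F218644)
theorem F228015 : act 1 n50980 = n49566 := d15_1 D50980 (iv D49566) (iv F218645)
theorem F228016 : act 2 n50980 = n50393 := d22_1 D50980 (iv D50393) (iv F218646)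
theorem F228017 : act 4 n50980 = n48908 := d33_1 D50980 (iv D48908) (iv F218648)
theorem F228018 : act 6 n50980 = n48915 := d40_1 D50980 (iv D48915) (iv F218649)
theorem F228019 : act 7 n50980 = n50394 := d42_1 D50980 (iv D50394) (iv F218650)
def n50981 : Q := act 8 n48909
theorem D50981 : act 8 n48909 = n50981 := rfl
theorem F228020 : act 0 n50981 = n50351 := d7_1 D50981 (iv D50351) (iv F218653)
theorem F228021 : act 1 n50981 = n48912 := d15_1 D50981 (iv D48912) (iv F218654)
theorem F228022 : act 2 n50981 = n49569 := d22_1 D50981 (iv D49569) (iv F218655)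
theorem F228023 : act 3 n50981 = n50010 := d28_1 D50981 (iv D50010) F214118 (iv F209027) (iv F218656)
theorem F228024 : act 4 n50981 = n50326 := d33_1 D50981 (iv D50326) (iv F218657)
theorem F228025 : act 5 n50981 = n50034 := d37_1 D50981 (iv D50034) (iv F218658)
theorem F228026 : act 6 n50981 = n50359 := d40_1 D50981 (iv D50359) (iv F218659)
theorem F228027 : act 7 n50981 = n50288 := d42_1 D50981 (iv D50288) (iv F218660)
theorem F228028 : act 9 n50981 = n49995 := d44_2 D48909 D50981 (iv D49995) (iv D47793) (iv F208932)
def n50982 : Q := act 6 n48910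
theorem D50982 : act 6 n48910 = n50982 := rfl
theorem F228029 : act 0 n50982 = n50008 := d5_1 D50982 (iv D50008) (iv F218661)
theorem F228030 : act 1 n50982 = n49343 := d13_1 D50982 F221083 (iv F218662)
theorem F228031 : act 2 n50982 = n48913 := d20_1 D50982 (iv D48913) (iv F218663)
theorem F228032 : act 3 n50982 = n49331 := d26_1 D50982 F221016 (iv F218664)
theorem F228033 : act 4 n50982 = n50035 := d31_1 D50982 (iv D50035) (iv F218665)
theorem F228034 : act 5 n50982 = n50385 := d35_1 D50982 F225570 F215698 (iv F208938) D48910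
theorem F228035 : act 8 n50982 = n49336 := d40_2 (iv F218667) D50982 F221045
def n50983 : Q := act 9 n48910
theorem D50983 : act 9 n48910 = n50983 := rfl
theorem F228036 : act 0 n50983 = n50009 := d8_1 D50983 (iv D50009) (iv F218661)
theorem F228037 : act 1 n50983 = n49347 := d16_1 D50983 (iv D49347) (iv F218662)
theorem F228038 : act 2 n50983 = n48914 := d23_1 D50983 (iv D48914) (iv F218663)
theorem F228039 : act 3 n50983 = n49332 := d29_1 D50983 (iv D49332) (iv F218664)
theorem F228040 : act 4 n50983 = n50036 := d34_1 D50983 (iv D50036) (iv F218665)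
theorem F228041 : act 5 n50983 = n48911 := d38_1 D50983 (iv D48911) D48910
theorem F228042 : act 7 n50983 = n50295 := d43_1 D50983 (iv D50295) (iv F218666)
def n50984 : Q := act 8 n48911
theorem D50984 : act 8 n48911 = n50984 := rfl
theorem F228043 : act 0 n50984 = n50010 := d7_1 D50984 (iv D50010) (iv F218668)
theorem F228044 : act 1 n50984 = n50326 := d15_1 D50984 (iv D50326) (iv F218669)
theorem F228045 : act 2 n50984 = n48915 := d22_1 D50984 (iv D48915) (iv F218670)
theorem F228046 : act 3 n50984 = n50351 := d28_1 D50984 (iv D50351) F215585 (iv F215335) (iv F218671)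
theorem F228047 : act 4 n50984 = n48912 := d33_1 D50984 (iv D48912) (iv F218672)
theorem F228048 : act 6 n50984 = n50393 := d40_1 D50984 (iv D50393) (iv F218673)
theorem F228049 : act 7 n50984 = n50296 := d42_1 D50984 (iv D50296) (iv F218674)
theorem F228050 : act 9 n50984 = n50001 := d44_2 D48911 D50984 (iv D50001) (iv D47798) (iv F208940)
def n50985 : Q := act 7 n48913
theorem D50985 : act 7 n48913 = n50985 := rfl
theorem F228051 : act 0 n50985 = n49395 := d6_1 D50985 (iv F227831) F227825
theorem F228052 : act 1 n50985 = n49574 := d14_1 D50985 (iv D49574) (iv F218680)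
theorem F228053 : act 3 n50985 = n48919 := d27_1 D50985 (iv D48919) (iv F218681)
theorem F228054 : act 4 n50985 = n50039 := d32_1 D50985 (iv D50039) (iv F218682)
theorem F228055 : act 6 n50985 = n49400 := d39_1 D50985 F227477 (iv D50897) F218092 D48913
def n50986 : Q := act 9 n48913
theorem D50986 : act 9 n48913 = n50986 := rfl
theorem F228056 : act 1 n50986 = n49575 := d16_1 D50986 (iv D49575) (iv F218680)
theorem F228057 : act 3 n50986 = n48920 := d29_1 D50986 (iv D48920) (iv F218681)
theorem F228058 : act 4 n50986 = n50040 := d34_1 D50986 (iv D50040) (iv F218682)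
theorem F228059 : act 6 n50986 = n48914 := d41_1 D50986 (iv D48914) D48913
def n50987 : Q := act 8 n48914
theorem D50987 : act 8 n48914 = n50987 := rfl
theorem F228060 : act 1 n50987 = n49576 := d15_1 D50987 (iv D49576) (iv F218683)
theorem F228061 : act 4 n50987 = n50041 := d33_1 D50987 (iv D50041) (iv F218685)
theorem F228062 : act 5 n50987 = n48915 := d37_1 D50987 (iv D48915) (iv F218686)
def n50988 : Q := act 3 n48915
theorem D50988 : act 3 n48915 = n50988 := rfl
theorem F228063 : act 1 n50988 = n49577 := d10_1 D50988 (iv D49577) (iv F218687)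
theorem F228064 : act 8 n50988 = n48922 := d28_2 D48915 D50988 (iv D48922) (iv D46758) (iv F208949)
def n50989 : Q := act 7 n48916
theorem D50989 : act 7 n48916 = n50989 := rfl
theorem F228065 : act 0 n50989 = n49420 := d6_1 D50989 F221410 (iv F218689)
theorem F228066 : act 1 n50989 = n49580 := d14_1 D50989 (iv D49580) (iv F218690)
theorem F228067 : act 2 n50989 = n49433 := d21_1 D50989 F221476 (iv F218691)
theorem F228068 : act 4 n50989 = n49120 := d32_1 D50989 (iv D49120) (iv F218692)
theorem F228069 : act 5 n50989 = n48919 := d36_1 D50989 (iv D48919) (iv F218693)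
theorem F228070 : act 6 n50989 = n49502 := d39_1 D50989 F221781 F211706 (iv F208957) D48916
theorem F228071 : act 8 n50989 = n50989 := d42_2 F218694 D50989 (iv D50989)
def n50990 : Q := act 9 n48916
theorem D50990 : act 9 n48916 = n50990 := rfl
theorem F228072 : act 0 n50990 = n50460 := d8_1 D50990 (iv D50460) (iv F218689)
theorem F228073 : act 1 n50990 = n49581 := d16_1 D50990 (iv D49581) (iv F218690)
theorem F228074 : act 2 n50990 = n50398 := d23_1 D50990 (iv D50398) (iv F218691)
theorem F228075 : act 4 n50990 = n49121 := d34_1 D50990 (iv D49121) (iv F218692)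
theorem F228076 : act 5 n50990 = n48920 := d38_1 D50990 (iv D48920) (iv F218693)
theorem F228077 : act 6 n50990 = n48917 := d41_1 D50990 (iv D48917) D48916
def n50991 : Q := act 8 n48917
theorem D50991 : act 8 n48917 = n50991 := rfl
theorem F228078 : act 0 n50991 = n50463 := d7_1 D50991 (iv D50463) (iv F218695)
theorem F228079 : act 1 n50991 = n49582 := d15_1 D50991 (iv D49582) (iv F218696)
theorem F228080 : act 2 n50991 = n50399 := d22_1 D50991 (iv D50399) (iv F218697)
theorem F228081 : act 4 n50991 = n49122 := d33_1 D50991 (iv D49122) (iv F218698)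
theorem F228082 : act 5 n50991 = n48918 := d37_1 D50991 (iv D48918) (iv F218699)
theorem F228083 : act 7 n50991 = n50400 := d42_1 D50991 (iv D50400) (iv F218700)
theorem F228084 : act 9 n50991 = n50991 := d44_2 D48917 D50991 (iv D50991) (iv D48917) F208958
def n50992 : Q := act 3 n48918
theorem D50992 : act 3 n48918 = n50992 := rfl
theorem F228085 : act 0 n50992 = n50473 := d2_1 D50992 (iv D50473) (iv F218701)
theorem F228086 : act 1 n50992 = n49583 := d10_1 D50992 (iv D49583) (iv F218702)
theorem F228087 : act 6 n50992 = n48922 := d26_2 (iv F218705) D50992 (iv D48922)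
theorem F228088 : act 7 n50992 = n50402 := d27_2 (iv F218706) D50992 (iv D50402)
theorem F228089 : act 9 n50992 = n50992 := d29_2 F218707 D50992 (iv D50992)
def n50993 : Q := act 9 n48919
theorem D50993 : act 9 n48919 = n50993 := rfl
theorem F228090 : act 0 n50993 = n49426 := d8_1 D50993 (iv D49426) (iv F218708)
theorem F228091 : act 1 n50993 = n49584 := d16_1 D50993 (iv D49584) (iv F218709)
theorem F228092 : act 2 n50993 = n49440 := d23_1 D50993 (iv D49440) (iv F218710)
theorem F228093 : act 4 n50993 = n48923 := d34_1 D50993 (iv D48923) (iv F218711)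
theorem F228094 : act 6 n50993 = n49428 := d41_1 D50993 (iv D49428) (iv F218712)
theorem F228095 : act 7 n50993 = n48920 := d43_1 D50993 (iv D48920) D48919
theorem F228096 : act 8 n50771 = n50993 := d40_0 F228094 (iv F221448) (iv F226768)
def n50994 : Q := act 8 n48920
theorem D50994 : act 8 n48920 = n50994 := rfl
theorem F228097 : act 0 n50994 = n50490 := d7_1 D50994 F227853 F227846
theorem F228098 : act 1 n50994 = n49585 := d15_1 D50994 (iv D49585) (iv F218714)
theorem F228099 : act 2 n50994 = n50489 := d22_1 D50994 F227128 F227122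
theorem F228100 : act 4 n50994 = n48924 := d33_1 D50994 (iv D48924) (iv F218715)
theorem F228101 : act 6 n50994 = n48921 := d40_1 D50994 (iv D48921) (iv F218716)
theorem F228102 : act 7 n50994 = n50771 := d42_1 D50994 F228096 F228095
theorem F228103 : act 9 n50994 = n50994 := d44_2 D48920 D50994 (iv D50994) (iv D48920) F208974
def n50995 : Q := act 3 n48921
theorem D50995 : act 3 n48921 = n50995 := rfl
theorem F228104 : act 0 n50995 = n50478 := d2_1 D50995 F225821 (iv F218717)
theorem F228105 : act 1 n50995 = n49586 := d10_1 D50995 (iv D49586) (iv F218718)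
theorem F228106 : act 2 n50995 = n50477 := d17_1 D50995 (iv D50477) F215950 D48318 (iv F218719)
theorem F228107 : act 5 n50995 = n48922 := d25_2 (iv F218721) D50995 (iv D48922)
theorem F228108 : act 9 n50995 = n50995 := d29_2 F218722 D50995 (iv D50995)
def n50996 : Q := act 2 n48922
theorem D50996 : act 2 n48922 = n50996 := rfl
theorem F228109 : act 0 n50996 = n49604 := d1_1 D50996 (iv F227855) F227854
theorem F228110 : act 3 n50996 = n49603 := d17_2 D48922 D50996 F222174 (iv F217628) F217627
theorem F228111 : act 5 n50996 = n50477 := d19_2 F228107 D50996 (iv F228106)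
theorem F228112 : act 9 n50996 = n50996 := d23_2 F218724 D50996 (iv D50996)
def n50997 : Q := act 8 n48926
theorem D50997 : act 8 n48926 = n50997 := rfl
theorem F228113 : act 0 n50997 = n49060 := d7_1 D50997 (iv D49060) (iv F218745)
theorem F228114 : act 1 n50997 = n49650 := d15_1 D50997 (iv D49650) (iv F218746)
theorem F228115 : act 2 n50997 = n50997 := d22_1 D50997 (iv D50997) F218747
theorem F228116 : act 4 n50997 = n48929 := d33_1 D50997 (iv D48929) (iv F218749)
theorem F228117 : act 5 n50997 = n50997 := d37_1 D50997 (iv D50997) F218750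
theorem F228118 : act 6 n50997 = n49017 := d40_1 D50997 (iv D49017) (iv F218751)
theorem F228119 : act 7 n50997 = n48927 := d42_1 D50997 (iv D48927) D48926
def n50998 : Q := act 3 n48927
theorem D50998 : act 3 n48927 = n50998 := rfl
theorem F228120 : act 0 n50998 = n50171 := d2_1 D50998 (iv D50171) (iv F218753)
theorem F228121 : act 1 n50998 = n49651 := d10_1 D50998 (iv D49651) (iv F218754)
theorem F228122 : act 5 n50998 = n50998 := d25_2 F218757 D50998 (iv D50998)
theorem F228123 : act 6 n50998 = n50060 := d26_2 (iv F218758) D50998 (iv D50060)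
theorem F228124 : act 8 n50998 = n50118 := d28_2 D48927 D50998 (iv D50118) (iv D47931) (iv F209040)
def n50999 : Q := act 9 n48927
theorem D50999 : act 9 n48927 = n50999 := rfl
theorem F228125 : act 0 n50999 = n50172 := d8_1 D50999 (iv D50172) (iv F218753)
theorem F228126 : act 1 n50999 = n49652 := d16_1 D50999 (iv D49652) (iv F218754)
theorem F228127 : act 2 n50999 = n50999 := d23_1 D50999 (iv D50999) F218755
theorem F228128 : act 4 n50999 = n48931 := d34_1 D50999 (iv D48931) (iv F218756)
theorem F228129 : act 5 n50999 = n50999 := d38_1 D50999 (iv D50999) F218757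
theorem F228130 : act 6 n50999 = n50061 := d41_1 D50999 (iv D50061) (iv F218758)
theorem F228131 : act 8 n50999 = n49059 := d44_1 D50999 (iv D49059) (iv D46885) (iv F209043) D48927
def n51000 : Q := act 8 n48928
theorem D51000 : act 8 n48928 = n51000 := rfl
theorem F228132 : act 0 n51000 = n49057 := d7_1 D51000 (iv D49057) (iv F218759)
theorem F228133 : act 1 n51000 = n49653 := d15_1 D51000 (iv D49653) (iv F218760)
theorem F228134 : act 2 n51000 = n51000 := d22_1 D51000 (iv D51000) F218761
theorem F228135 : act 4 n51000 = n49017 := d33_1 D51000 (iv D49017) (iv F218763)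
theorem F228136 : act 5 n51000 = n51000 := d37_1 D51000 (iv D51000) F218764
theorem F228137 : act 6 n51000 = n48929 := d40_1 D51000 (iv D48929) D48928
theorem F228138 : act 7 n51000 = n49016 := d42_1 D51000 (iv D49016) (iv F218765)
def n51001 : Q := act 3 n48929
theorem D51001 : act 3 n48929 = n51001 := rfl
theorem F228139 : act 0 n51001 = n50631 := d2_1 D51001 F226322 (iv F218767)
theorem F228140 : act 1 n51001 = n49654 := d10_1 D51001 (iv D49654) (iv F218768)
theorem F228141 : act 5 n51001 = n48932 := d25_2 (iv F218770) D51001 (iv D48932)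
theorem F228142 : act 7 n51001 = n48930 := d27_2 (iv F218771) D51001 (iv D48930)
theorem F228143 : act 8 n51001 = n48941 := d28_2 D48929 D51001 (iv D48941) (iv D46778) (iv F209047)
def n51002 : Q := act 9 n48929
theorem D51002 : act 9 n48929 = n51002 := rfl
theorem F228144 : act 0 n51002 = n50842 := d8_1 D51002 (iv D50842) (iv F218767)
theorem F228145 : act 1 n51002 = n49655 := d16_1 D51002 (iv D49655) (iv F218768)
theorem F228146 : act 2 n51002 = n51002 := d23_1 D51002 (iv D51002) F218769
theorem F228147 : act 5 n51002 = n48933 := d38_1 D51002 (iv D48933) (iv F218770)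
theorem F228148 : act 7 n51002 = n48931 := d43_1 D51002 (iv D48931) (iv F218771)
theorem F228149 : act 8 n51002 = n49062 := d44_1 D51002 (iv D49062) (iv D46887) (iv F209049) D48929
def n51003 : Q := act 2 n48930
theorem D51003 : act 2 n48930 = n51003 := rfl
theorem F228150 : act 0 n51003 = n50628 := d1_1 D51003 F226311 (iv F218772)
theorem F228151 : act 1 n51003 = n50136 := d9_1 D51003 F224637 F214701 (iv F212342) (iv F218773)
theorem F228152 : act 3 n51003 = n51003 := d17_2 D48930 D51003 (iv D51003) (iv D48930) F209052
theorem F228153 : act 5 n51003 = n48934 := d19_2 (iv F218774) D51003 (iv D48934)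
theorem F228154 : act 6 n51003 = n49965 := d20_2 (iv F218775) D51003 F223852
theorem F228155 : act 8 n51003 = n48943 := d22_2 (iv F218776) D51003 (iv D48943)
def n51004 : Q := act 4 n48930
theorem D51004 : act 4 n48930 = n51004 := rfl
theorem F228156 : act 0 n51004 = n50615 := d3_1 D51004 F226264 (iv F218772)
theorem F228157 : act 1 n51004 = n49656 := d11_1 D51004 (iv D49656) (iv F218773)
theorem F228158 : act 6 n51004 = n50064 := d31_2 (iv F218775) D51004 (iv D50064)
theorem F228159 : act 8 n51004 = n48944 := d33_2 (iv F218776) D51004 (iv D48944)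
def n51005 : Q := act 9 n48930
theorem D51005 : act 9 n48930 = n51005 := rfl
theorem F228160 : act 0 n51005 = n50632 := d8_1 D51005 (iv D50632) (iv F218772)
theorem F228161 : act 1 n51005 = n49657 := d16_1 D51005 (iv D49657) (iv F218773)
theorem F228162 : act 3 n51005 = n48931 := d29_1 D51005 (iv D48931) D48930
theorem F228163 : act 5 n51005 = n48936 := d38_1 D51005 (iv D48936) (iv F218774)
theorem F228164 : act 6 n51005 = n50065 := d41_1 D51005 (iv D50065) (iv F218775)
def n51006 : Q := act 2 n48932
theorem D51006 : act 2 n48932 = n51006 := rfl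
theorem F228165 : act 0 n51006 = n50636 := d1_1 D51006 F226337 (iv F218783)
theorem F228166 : act 1 n51006 = n50130 := d9_1 D51006 F224608 F214681 (iv F212352) (iv F218784)
theorem F228167 : act 3 n51006 = n51006 := d17_2 D48932 D51006 (iv D51006) (iv D48932) F209057
theorem F228168 : act 6 n51006 = n51006 := d20_2 F218785 D51006 (iv D51006)
theorem F228169 : act 7 n51006 = n48934 := d21_2 (iv F218786) D51006 (iv D48934)
theorem F228170 : act 8 n51006 = n48946 := d22_2 (iv F218787) D51006 (iv D48946)
theorem F228171 : act 4 n50129 = n51006 := d32_3 F228169 (iv F218800) (iv F224606)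
def n51007 : Q := act 4 n48932
theorem D51007 : act 4 n48932 = n51007 := rfl
theorem F228172 : act 0 n51007 = n49820 := d3_1 D51007 F223200 (iv F218783)
theorem F228173 : act 1 n51007 = n49658 := d11_1 D51007 (iv D49658) (iv F218784)
theorem F228174 : act 2 n51007 = n50129 := d18_1 D51007 F228171 (iv D51006)
theorem F228175 : act 3 n51007 = n51007 := d24_1 D51007 (iv D51007) (iv D48932) F209058 D48932
theorem F228176 : act 6 n51007 = n51007 := d31_2 F218785 D51007 (iv D51007)
theorem F228177 : act 7 n51007 = n48935 := d32_2 (iv F218786) D51007 (iv D48935)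
theorem F228178 : act 8 n51007 = n48947 := d33_2 (iv F218787) D51007 (iv D48947)
def n51008 : Q := act 9 n48932
theorem D51008 : act 9 n48932 = n51008 := rfl
theorem F228179 : act 0 n51008 = n50640 := d8_1 D51008 (iv D50640) (iv F218783)
theorem F228180 : act 1 n51008 = n49659 := d16_1 D51008 (iv D49659) (iv F218784)
theorem F228181 : act 3 n51008 = n48933 := d29_1 D51008 (iv D48933) D48932
theorem F228182 : act 6 n51008 = n51008 := d41_1 D51008 (iv D51008) F218785
theorem F228183 : act 7 n51008 = n48936 := d43_1 D51008 (iv D48936) (iv F218786)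
def n51009 : Q := act 9 n48934
theorem D51009 : act 9 n48934 = n51009 := rfl
theorem F228184 : act 0 n51009 = n50637 := d8_1 D51009 (iv D50637) (iv F218795)
theorem F228185 : act 1 n51009 = n50137 := d16_1 D51009 (iv D50137) (iv F218796)
theorem F228186 : act 2 n51009 = n48936 := d23_1 D51009 (iv D48936) D48934
theorem F228187 : act 3 n51009 = n51009 := d29_1 D51009 (iv D51009) F218797
theorem F228188 : act 4 n51009 = n50135 := d34_1 D51009 (iv D50135) F218800
theorem F228189 : act 6 n51009 = n48937 := d41_1 D51009 (iv D48937) (iv F218798)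
def n51010 : Q := act 5 n48935
theorem D51010 : act 5 n48935 = n51010 := rfl
theorem F228190 : act 0 n51010 = n49813 := d4_1 D51010 F223169 (iv F218801)
theorem F228191 : act 1 n51010 = n49660 := d12_1 D51010 (iv D49660) (iv F218802)
theorem F228192 : act 2 n51010 = n50123 := d19_1 D51010 F224588 (iv F218803)
theorem F228193 : act 3 n51010 = n51010 := d25_1 D51010 (iv D51010) F218804
theorem F228194 : act 6 n51010 = n49739 := d35_2 (iv F218805) D51010 (iv D49739) F212750 (iv F209082)
theorem F228195 : act 8 n51010 = n48952 := d37_2 (iv F218806) D51010 (iv D48952)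
def n51011 : Q := act 9 n48935
theorem D51011 : act 9 n48935 = n51011 := rfl
theorem F228196 : act 0 n51011 = n49821 := d8_1 D51011 (iv D49821) (iv F218801)
theorem F228197 : act 1 n51011 = n49661 := d16_1 D51011 (iv D49661) (iv F218802)
theorem F228198 : act 2 n51011 = n50135 := d23_1 D51011 (iv D50135) (iv F218803)
theorem F228199 : act 3 n51011 = n51011 := d29_1 D51011 (iv D51011) F218804
theorem F228200 : act 4 n51011 = n48936 := d34_1 D51011 (iv D48936) D48935
theorem F228201 : act 6 n51011 = n48938 := d41_1 D51011 (iv D48938) (iv F218805)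
def n51012 : Q := act 8 n48936
theorem D51012 : act 8 n48936 = n51012 := rfl
theorem F228202 : act 0 n51012 = n50641 := d7_1 D51012 (iv D50641) (iv F218807)
theorem F228203 : act 1 n51012 = n49662 := d15_1 D51012 (iv D49662) (iv F218808)
theorem F228204 : act 3 n51012 = n49074 := d28_1 D51012 (iv D49074) F209751 (iv F209070) (iv F218809)
theorem F228205 : act 6 n51012 = n48939 := d40_1 D51012 (iv D48939) (iv F218810)
theorem F228206 : act 9 n51012 = n48954 := d44_2 D48936 D51012 (iv D48954) (iv D46785) (iv F209064)
def n51013 : Q := act 8 n48937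
theorem D51013 : act 8 n48937 = n51013 := rfl
theorem F228207 : act 0 n51013 = n50638 := d7_1 D51013 (iv D50638) (iv F218811)
theorem F228208 : act 1 n51013 = n50142 := d15_1 D51013 (iv D50142) (iv F218812)
theorem F228209 : act 2 n51013 = n48939 := d22_1 D51013 (iv D48939) (iv F218813)
theorem F228210 : act 4 n51013 = n50141 := d33_1 D51013 (iv D50141) (iv F218815)
theorem F228211 : act 5 n51013 = n49873 := d37_1 D51013 F223370 (iv F218816)
theorem F228212 : act 7 n51013 = n51013 := d42_1 D51013 (iv D51013) F218817
theorem F228213 : act 9 n51013 = n48957 := d44_2 D48937 D51013 (iv D48957) (iv D46788) (iv F209076)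
def n51014 : Q := act 8 n48938
theorem D51014 : act 8 n48938 = n51014 := rfl
theorem F228214 : act 0 n51014 = n49822 := d7_1 D51014 (iv D49822) (iv F218818)
theorem F228215 : act 1 n51014 = n49663 := d15_1 D51014 (iv D49663) (iv F218819)
theorem F228216 : act 2 n51014 = n50141 := d22_1 D51014 (iv D50141) (iv F218820)
theorem F228217 : act 4 n51014 = n48939 := d33_1 D51014 (iv D48939) (iv F218822)
theorem F228218 : act 5 n51014 = n49742 := d37_1 D51014 (iv D49742) (iv F218823)
theorem F228219 : act 7 n51014 = n51014 := d42_1 D51014 (iv D51014) F218824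
theorem F228220 : act 9 n51014 = n48958 := d44_2 D48938 D51014 (iv D48958) (iv D46789) (iv F209084)
def n51015 : Q := act 3 n48940
theorem D51015 : act 3 n48940 = n51015 := rfl
theorem F228221 : act 0 n51015 = n50681 := d2_1 D51015 F226456 (iv F218831)
theorem F228222 : act 1 n51015 = n49664 := d10_1 D51015 (iv D49664) (iv F218832)
theorem F228223 : act 2 n51015 = n50256 := d17_1 D51015 (iv D50256) F215096 F209204 (iv F218833)
theorem F228224 : act 5 n51015 = n51015 := d25_2 F218835 D51015 (iv D51015)
theorem F228225 : act 6 n51015 = n48941 := d26_2 (iv F218836) D51015 (iv D48941)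
theorem F228226 : act 7 n51015 = n50046 := d27_2 (iv F218837) D51015 (iv D50046)
def n51016 : Q := act 9 n48940
theorem D51016 : act 9 n48940 = n51016 := rfl
theorem F228227 : act 0 n51016 = n50708 := d8_1 D51016 (iv D50708) (iv F218831)
theorem F228228 : act 1 n51016 = n49665 := d16_1 D51016 (iv D49665) (iv F218832)
theorem F228229 : act 2 n51016 = n48965 := d23_1 D51016 (iv D48965) (iv F218833)
theorem F228230 : act 4 n51016 = n50044 := d34_1 D51016 (iv D50044) (iv F218834)
theorem F228231 : act 5 n51016 = n51016 := d38_1 D51016 (iv D51016) F218835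
theorem F228232 : act 6 n51016 = n48942 := d41_1 D51016 (iv D48942) (iv F218836)
theorem F228233 : act 7 n51016 = n50047 := d43_1 D51016 (iv D50047) (iv F218837)
theorem F228234 : act 8 n51016 = n49082 := d44_1 D51016 (iv D49082) (iv D46901) (iv F209095) D48940
def n51017 : Q := act 2 n48941
theorem D51017 : act 2 n48941 = n51017 := rfl
theorem F228235 : act 0 n51017 = n50691 := d1_1 D51017 F226485 (iv F218838)
theorem F228236 : act 1 n51017 = n50557 := d9_1 D51017 (iv D50557) (iv F222514) (iv D49666) (iv F218839)
theorem F228237 : act 3 n51017 = n48966 := d17_2 D48941 D51017 (iv D48966) (iv D46798) (iv F209098)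
theorem F228238 : act 5 n51017 = n48946 := d19_2 (iv F218840) D51017 (iv D48946)
theorem F228239 : act 6 n51017 = n50256 := d20_2 F228225 D51017 (iv F228223)
theorem F228240 : act 7 n51017 = n48943 := d21_2 (iv F218841) D51017 (iv D48943)
def n51018 : Q := act 4 n48941
theorem D51018 : act 4 n48941 = n51018 := rfl
theorem F228241 : act 0 n51018 = n50669 := d3_1 D51018 F226419 (iv F218838)
theorem F228242 : act 1 n51018 = n49667 := d11_1 D51018 (iv D49667) (iv F218839)
theorem F228243 : act 7 n51018 = n48944 := d32_2 (iv F218841) D51018 (iv D48944)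
def n51019 : Q := act 9 n48941
theorem D51019 : act 9 n48941 = n51019 := rfl
theorem F228244 : act 0 n51019 = n50696 := d8_1 D51019 (iv D50696) (iv F218838)
theorem F228245 : act 1 n51019 = n49668 := d16_1 D51019 (iv D49668) (iv F218839)
theorem F228246 : act 3 n51019 = n48942 := d29_1 D51019 (iv D48942) D48941
theorem F228247 : act 5 n51019 = n48948 := d38_1 D51019 (iv D48948) (iv F218840)
theorem F228248 : act 7 n51019 = n48945 := d43_1 D51019 (iv D48945) (iv F218841)
def n51020 : Q := act 1 n48943
theorem D51020 : act 1 n48943 = n51020 := rfl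
theorem F228249 : act 2 n51020 = n49669 := d9_2 D48943 D51020 (iv D49669) (iv D47452) (iv F209102)
theorem F228250 : act 3 n51020 = n48968 := d10_2 (iv F218849) D51020 (iv D48968)
theorem F228251 : act 5 n51020 = n48949 := d12_2 (iv F218850) D51020 (iv D48949)
theorem F228252 : act 6 n51020 = n50070 := d13_2 (iv F218851) D51020 (iv D50070)
theorem F228253 : act 7 n51020 = n50557 := d14_2 F228240 D51020 (iv F228236)
theorem F228254 : act 8 n51020 = n50136 := d15_2 F228155 D51020 (iv F228151)
theorem F228255 : act 0 n50187 = n51020 := d7_3 F228254 F224636 (iv F224878)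
def n51021 : Q := act 4 n48943
theorem D51021 : act 4 n48943 = n51021 := rfl
theorem F228256 : act 0 n51021 = n50665 := d3_1 D51021 F226411 (iv F218848)
theorem F228257 : act 2 n51021 = n48944 := d18_1 D51021 (iv D48944) D48943
theorem F228258 : act 6 n51021 = n50071 := d31_2 (iv F218851) D51021 (iv D50071)
def n51022 : Q := act 9 n48943
theorem D51022 : act 9 n48943 = n51022 := rfl
theorem F228259 : act 0 n51022 = n50692 := d8_1 D51022 (iv D50692) (iv F218848)
theorem F228260 : act 2 n51022 = n48945 := d23_1 D51022 (iv D48945) D48943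
theorem F228261 : act 3 n51022 = n48970 := d29_1 D51022 (iv D48970) (iv F218849)
theorem F228262 : act 5 n51022 = n48951 := d38_1 D51022 (iv D48951) (iv F218850)
theorem F228263 : act 6 n51022 = n50072 := d41_1 D51022 (iv D50072) (iv F218851)
def n51023 : Q := act 5 n48944
theorem D51023 : act 5 n48944 = n51023 := rfl
theorem F228264 : act 0 n51023 = n49840 := d4_1 D51023 F223258 (iv F218852)
theorem F228265 : act 1 n51023 = n49672 := d12_1 D51023 (iv D49672) (iv F218853)
theorem F228266 : act 4 n51023 = n48952 := d30_1 D51023 (iv D48952) (iv D46784) (iv F209103) D48944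
theorem F228267 : act 6 n51023 = n49751 := d35_2 (iv F218854) D51023 (iv D49751) F212785 (iv F214415)
def n51024 : Q := act 9 n48944
theorem D51024 : act 9 n48944 = n51024 := rfl
theorem F228268 : act 0 n51024 = n50670 := d8_1 D51024 (iv D50670) (iv F218852)
theorem F228269 : act 1 n51024 = n49673 := d16_1 D51024 (iv D49673) (iv F218853)
theorem F228270 : act 4 n51024 = n48945 := d34_1 D51024 (iv D48945) D48944
theorem F228271 : act 6 n51024 = n50073 := d41_1 D51024 (iv D50073) (iv F218854)
def n51025 : Q := act 8 n48945
theorem D51025 : act 8 n48945 = n51025 := rfl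
theorem F228272 : act 0 n51025 = n50697 := d7_1 D51025 (iv D50697) (iv F218855)
theorem F228273 : act 1 n51025 = n49674 := d15_1 D51025 (iv D49674) (iv F218856)
theorem F228274 : act 3 n51025 = n49091 := d28_1 D51025 (iv D49091) F209804 (iv F209110) (iv F218857)
theorem F228275 : act 5 n51025 = n48954 := d37_1 D51025 (iv D48954) (iv F218858)
theorem F228276 : act 6 n51025 = n50074 := d40_1 D51025 (iv D50074) (iv F218859)
def n51026 : Q := act 4 n48946
theorem D51026 : act 4 n48946 = n51026 := rfl
theorem F228277 : act 0 n51026 = n49869 := d3_1 D51026 F223355 (iv F218860)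
theorem F228278 : act 1 n51026 = n50113 := d11_1 D51026 F224547 (iv F218861)
theorem F228279 : act 2 n51026 = n48947 := d18_1 D51026 (iv D48947) D48946
theorem F228280 : act 3 n51026 = n51026 := d24_1 D51026 (iv D51026) F218862 F209235 (iv F218862)
theorem F228281 : act 6 n51026 = n51026 := d31_2 F218863 D51026 (iv D51026)
theorem F228282 : act 7 n51026 = n48950 := d32_2 (iv F218864) D51026 (iv D48950)
theorem F228283 : act 8 n51026 = n50129 := d33_2 F228170 D51026 F228171
def n51027 : Q := act 9 n48946
theorem D51027 : act 9 n48946 = n51027 := rfl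
theorem F228284 : act 0 n51027 = n50703 := d8_1 D51027 (iv D50703) (iv F218860)
theorem F228285 : act 1 n51027 = n50838 := d16_1 D51027 (iv D50838) (iv F218861)
theorem F228286 : act 2 n51027 = n48948 := d23_1 D51027 (iv D48948) D48946
theorem F228287 : act 3 n51027 = n48973 := d29_1 D51027 (iv D48973) (iv F218862)
theorem F228288 : act 6 n51027 = n51027 := d41_1 D51027 (iv D51027) F218863
theorem F228289 : act 7 n51027 = n48951 := d43_1 D51027 (iv D48951) (iv F218864)
def n51028 : Q := act 5 n48947
theorem D51028 : act 5 n48947 = n51028 := rfl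
theorem F228290 : act 0 n51028 = n49860 := d4_1 D51028 F223322 (iv F218865)
theorem F228291 : act 1 n51028 = n49676 := d12_1 D51028 (iv D49676) (iv F218866)
theorem F228292 : act 3 n51028 = n48959 := d25_1 D51028 (iv D48959) (iv F218867)
theorem F228293 : act 7 n51028 = n48952 := d36_2 (iv F218869) D51028 (iv D48952)
def n51029 : Q := act 9 n48947
theorem D51029 : act 9 n48947 = n51029 := rfl
theorem F228294 : act 0 n51029 = n49874 := d8_1 D51029 (iv D49874) (iv F218865)
theorem F228295 : act 1 n51029 = n49677 := d16_1 D51029 (iv D49677) (iv F218866)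
theorem F228296 : act 3 n51029 = n48960 := d29_1 D51029 (iv D48960) (iv F218867)
theorem F228297 : act 4 n51029 = n48948 := d34_1 D51029 (iv D48948) D48947
theorem F228298 : act 6 n51029 = n51029 := d41_1 D51029 (iv D51029) F218868
theorem F228299 : act 7 n51029 = n48953 := d43_1 D51029 (iv D48953) (iv F218869)
def n51030 : Q := act 8 n48948
theorem D51030 : act 8 n48948 = n51030 := rfl
theorem F228300 : act 0 n51030 = n50707 := d7_1 D51030 (iv D50707) (iv F218870)
theorem F228301 : act 1 n51030 = n49678 := d15_1 D51030 (iv D49678) (iv F218871)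
theorem F228302 : act 3 n51030 = n49096 := d28_1 D51030 (iv D49096) F209819 (iv F209121) (iv F218872)
theorem F228303 : act 6 n51030 = n51030 := d40_1 D51030 (iv D51030) F218873
theorem F228304 : act 7 n51030 = n48954 := d42_1 D51030 (iv D48954) (iv F218874)
def n51031 : Q := act 9 n48949
theorem D51031 : act 9 n48949 = n51031 := rfl
theorem F228305 : act 0 n51031 = n50188 := d8_1 D51031 (iv D50188) F218880
theorem F228306 : act 1 n51031 = n48951 := d16_1 D51031 (iv D48951) D48949
theorem F228307 : act 2 n51031 = n49679 := d23_1 D51031 (iv D49679) (iv F218875)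
theorem F228308 : act 3 n51031 = n48975 := d29_1 D51031 (iv D48975) (iv F218876)
theorem F228309 : act 4 n51031 = n50115 := d34_1 D51031 (iv D50115) F218881
theorem F228310 : act 6 n51031 = n48955 := d41_1 D51031 (iv D48955) (iv F218877)
theorem F228311 : act 7 n51031 = n50838 := d43_1 D51031 (iv D50838) (iv F218878)
def n51032 : Q := act 5 n48950
theorem D51032 : act 5 n48950 = n51032 := rfl
theorem F228312 : act 0 n51032 = n49856 := d4_1 D51032 F223309 (iv F218882)
theorem F228313 : act 1 n51032 = n50110 := d12_1 D51032 F224538 (iv F218883)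
theorem F228314 : act 2 n51032 = n48952 := d19_1 D51032 (iv D48952) (iv F218884)
theorem F228315 : act 3 n51032 = n51032 := d25_1 D51032 (iv D51032) F218885
theorem F228316 : act 6 n51032 = n49760 := d35_2 (iv F218886) D51032 (iv D49760) F212811 (iv F209144)
theorem F228317 : act 8 n51032 = n50123 := d37_2 (iv F218887) D51032 F224588
def n51033 : Q := act 9 n48950
theorem D51033 : act 9 n48950 = n51033 := rfl
theorem F228318 : act 0 n51033 = n49870 := d8_1 D51033 (iv D49870) (iv F218882)
theorem F228319 : act 1 n51033 = n50115 := d16_1 D51033 (iv D50115) (iv F218883)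
theorem F228320 : act 2 n51033 = n48953 := d23_1 D51033 (iv D48953) (iv F218884)
theorem F228321 : act 3 n51033 = n51033 := d29_1 D51033 (iv D51033) F218885
theorem F228322 : act 4 n51033 = n48951 := d34_1 D51033 (iv D48951) D48950
theorem F228323 : act 6 n51033 = n48956 := d41_1 D51033 (iv D48956) (iv F218886)
def n51034 : Q := act 8 n48951
theorem D51034 : act 8 n48951 = n51034 := rfl
theorem F228324 : act 0 n51034 = n50704 := d7_1 D51034 (iv D50704) (iv F218888)
theorem F228325 : act 2 n51034 = n48954 := d22_1 D51034 (iv D48954) (iv F218889)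
theorem F228326 : act 6 n51034 = n48957 := d40_1 D51034 (iv D48957) (iv F218891)
def n51035 : Q := act 9 n48952
theorem D51035 : act 9 n48952 = n51035 := rfl
theorem F228327 : act 0 n51035 = n49861 := d8_1 D51035 (iv D49861) (iv F218892)
theorem F228328 : act 1 n51035 = n49684 := d16_1 D51035 (iv D49684) (iv F218893)
theorem F228329 : act 3 n51035 = n48962 := d29_1 D51035 (iv D48962) (iv F218894)
theorem F228330 : act 5 n51035 = n48953 := d38_1 D51035 (iv D48953) D48952
theorem F228331 : act 6 n51035 = n49763 := d41_1 D51035 (iv D49763) (iv F218895)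
def n51036 : Q := act 8 n48953
theorem D51036 : act 8 n48953 = n51036 := rfl
theorem F228332 : act 0 n51036 = n49875 := d7_1 D51036 (iv D49875) (iv F218896)
theorem F228333 : act 1 n51036 = n49685 := d15_1 D51036 (iv D49685) (iv F218897)
theorem F228334 : act 4 n51036 = n48954 := d33_1 D51036 (iv D48954) (iv F218899)
theorem F228335 : act 6 n51036 = n48958 := d40_1 D51036 (iv D48958) (iv F218900)
def n51037 : Q := act 8 n48955
theorem D51037 : act 8 n48955 = n51037 := rfl
theorem F228336 : act 0 n51037 = n50195 := d7_1 D51037 (iv D50195) (iv F218905)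
theorem F228337 : act 1 n51037 = n48957 := d15_1 D51037 (iv D48957) (iv F218906)
theorem F228338 : act 2 n51037 = n49686 := d22_1 D51037 (iv D49686) (iv F218907)
theorem F228339 : act 4 n51037 = n50117 := d33_1 D51037 (iv D50117) (iv F218909)
theorem F228340 : act 5 n51037 = n50082 := d37_1 D51037 (iv D50082) (iv F218910)
theorem F228341 : act 7 n51037 = n51037 := d42_1 D51037 (iv D51037) F218911
theorem F228342 : act 9 n51037 = n50142 := d44_2 D48955 D51037 (iv D50142) (iv D47947) (iv F209137)
def n51038 : Q := act 8 n48956
theorem D51038 : act 8 n48956 = n51038 := rfl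
theorem F228343 : act 0 n51038 = n49871 := d7_1 D51038 (iv D49871) (iv F218912)
theorem F228344 : act 1 n51038 = n50117 := d15_1 D51038 (iv D50117) (iv F218913)
theorem F228345 : act 2 n51038 = n48958 := d22_1 D51038 (iv D48958) (iv F218914)
theorem F228346 : act 4 n51038 = n48957 := d33_1 D51038 (iv D48957) (iv F218916)
theorem F228347 : act 5 n51038 = n49766 := d37_1 D51038 (iv D49766) (iv F218917)
theorem F228348 : act 7 n51038 = n51038 := d42_1 D51038 (iv D51038) F218918
theorem F228349 : act 9 n51038 = n50141 := d44_2 D48956 D51038 (iv D50141) (iv D47946) (iv F209146)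
def n51039 : Q := act 3 n48957
theorem D51039 : act 3 n48957 = n51039 := rfl
theorem F228350 : act 0 n51039 = n50705 := d2_1 D51039 (iv D50705) (iv F218919)
theorem F228351 : act 2 n51039 = n49112 := d17_1 D51039 (iv D49112) F209872 (iv F209160) (iv F218920)
theorem F228352 : act 5 n51039 = n50083 := d25_2 (iv F218921) D51039 (iv D50083)
theorem F228353 : act 7 n51039 = n51039 := d27_2 F218922 D51039 (iv D51039)
theorem F228354 : act 8 n51039 = n48979 := d28_2 D48957 D51039 (iv D48979) (iv D46810) (iv F209149)
def n51040 : Q := act 3 n48958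
theorem D51040 : act 3 n48958 = n51040 := rfl
theorem F228355 : act 0 n51040 = n49876 := d2_1 D51040 (iv D49876) (iv F218923)
theorem F228356 : act 1 n51040 = n49691 := d10_1 D51040 (iv D49691) (iv F218924)
theorem F228357 : act 4 n51040 = n49116 := d24_2 (iv F218925) D51040 (iv D49116) F209884 (iv F209160)
theorem F228358 : act 5 n51040 = n49767 := d25_2 (iv F218926) D51040 (iv D49767)
theorem F228359 : act 7 n51040 = n51040 := d27_2 F218927 D51040 (iv D51040)
theorem F228360 : act 8 n51040 = n48964 := d28_2 D48958 D51040 (iv D48964) (iv D46796) (iv F209154)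
def n51041 : Q := act 6 n48959
theorem D51041 : act 6 n48959 = n51041 := rfl
theorem F228361 : act 0 n51041 = n49878 := d5_1 D51041 F223385 (iv F218928)
theorem F228362 : act 1 n51041 = n49692 := d13_1 D51041 (iv D49692) (iv F218929)
theorem F228363 : act 2 n51041 = n51041 := d20_1 D51041 (iv D51041) F218930
theorem F228364 : act 4 n51041 = n50336 := d31_1 D51041 (iv F227681) F227680
theorem F228365 : act 5 n51041 = n51041 := d35_1 D51041 (iv D51041) (iv D48959) F209166 D48959
theorem F228366 : act 7 n51041 = n49768 := d39_2 (iv F218931) D51041 (iv D49768) F212845 (iv F209178)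
theorem F228367 : act 8 n51041 = n51041 := d40_2 F218932 D51041 (iv D51041)
def n51042 : Q := act 9 n48959
theorem D51042 : act 9 n48959 = n51042 := rfl
theorem F228368 : act 0 n51042 = n49882 := d8_1 D51042 (iv D49882) (iv F218928)
theorem F228369 : act 1 n51042 = n49693 := d16_1 D51042 (iv D49693) (iv F218929)
theorem F228370 : act 2 n51042 = n51042 := d23_1 D51042 (iv D51042) F218930
theorem F228371 : act 5 n51042 = n48960 := d38_1 D51042 (iv D48960) D48959
theorem F228372 : act 7 n51042 = n48962 := d43_1 D51042 (iv D48962) (iv F218931)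
def n51043 : Q := act 8 n48960
theorem D51043 : act 8 n48960 = n51043 := rfl
theorem F228373 : act 0 n51043 = n49886 := d7_1 D51043 (iv D49886) (iv F218933)
theorem F228374 : act 1 n51043 = n49694 := d15_1 D51043 (iv D49694) (iv F218934)
theorem F228375 : act 2 n51043 = n51043 := d22_1 D51043 (iv D51043) F218935
theorem F228376 : act 4 n51043 = n48961 := d33_1 D51043 (iv D48961) (iv F218936)
theorem F228377 : act 6 n51043 = n51043 := d40_1 D51043 (iv D51043) F218937
theorem F228378 : act 7 n51043 = n48963 := d42_1 D51043 (iv D48963) (iv F218938)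
theorem F228379 : act 9 n51043 = n51043 := d44_2 D48960 D51043 (iv D51043) (iv D48960) F209168
def n51044 : Q := act 8 n48962
theorem D51044 : act 8 n48962 = n51044 := rfl
theorem F228380 : act 0 n51044 = n49883 := d7_1 D51044 (iv D49883) (iv F218947)
theorem F228381 : act 1 n51044 = n49697 := d15_1 D51044 (iv D49697) (iv F218948)
theorem F228382 : act 2 n51044 = n51044 := d22_1 D51044 (iv D51044) F218949
theorem F228383 : act 5 n51044 = n48963 := d37_1 D51044 (iv D48963) (iv F218950)
theorem F228384 : act 6 n51044 = n49771 := d40_1 D51044 (iv D49771) (iv F218951)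
theorem F228385 : act 9 n51044 = n51044 := d44_2 D48962 D51044 (iv D51044) (iv D48962) F209179
def n51045 : Q := act 3 n48963
theorem D51045 : act 3 n48963 = n51045 := rfl
theorem F228386 : act 0 n51045 = n49887 := d2_1 D51045 (iv D49887) (iv F218952)
theorem F228387 : act 1 n51045 = n49698 := d10_1 D51045 (iv D49698) (iv F218953)
theorem F228388 : act 4 n51045 = n49123 := d24_2 (iv F218955) D51045 (iv D49123) F209911 (iv F209188)
theorem F228389 : act 6 n51045 = n48964 := d26_2 (iv F218956) D51045 (iv D48964)
theorem F228390 : act 9 n51045 = n51045 := d29_2 F218957 D51045 (iv D51045)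
def n51046 : Q := act 2 n48964
theorem D51046 : act 2 n48964 = n51046 := rfl
theorem F228391 : act 0 n51046 = n49888 := d1_1 D51046 (iv D49888) (iv F218958)
theorem F228392 : act 3 n51046 = n51046 := d17_2 D48964 D51046 (iv D51046) (iv D48964) F209193
theorem F228393 : act 4 n51046 = n49127 := d18_2 (iv F218960) D51046 (iv D49127)
theorem F228394 : act 5 n51046 = n49773 := d19_2 (iv F218961) D51046 (iv D49773)
theorem F228395 : act 7 n51046 = n51046 := d21_2 F218962 D51046 (iv D51046)
theorem F228396 : act 9 n51046 = n51046 := d23_2 F218963 D51046 (iv D51046)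
def n51047 : Q := act 9 n48966
theorem D51047 : act 9 n48966 = n51047 := rfl
theorem F228397 : act 0 n51047 = n50824 := d8_1 D51047 (iv D50824) (iv F218972)
theorem F228398 : act 1 n51047 = n50717 := d16_1 D51047 (iv D50717) (iv F218973)
theorem F228399 : act 2 n51047 = n48967 := d23_1 D51047 (iv D48967) D48966
theorem F228400 : act 4 n51047 = n50253 := d34_1 D51047 (iv D50253) (iv F218974)
theorem F228401 : act 5 n51047 = n48973 := d38_1 D51047 (iv D48973) (iv F218975)
theorem F228402 : act 6 n51047 = n50257 := d41_1 D51047 (iv D50257) (iv F218976)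
theorem F228403 : act 7 n51047 = n48970 := d43_1 D51047 (iv D48970) (iv F218977)
def n51048 : Q := act 8 n48967
theorem D51048 : act 8 n48967 = n51048 := rfl
theorem F228404 : act 0 n51048 = n50813 := d7_1 D51048 F226955 (iv F218979)
theorem F228405 : act 1 n51048 = n48981 := d15_1 D51048 (iv D48981) (iv F218980)
theorem F228406 : act 3 n51048 = n49131 := d28_1 D51048 (iv D49131) F209947 (iv F209216) (iv F218981)
theorem F228407 : act 4 n51048 = n50254 := d33_1 D51048 (iv D50254) (iv F218982)
theorem F228408 : act 5 n51048 = n48974 := d37_1 D51048 (iv D48974) (iv F218983)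
theorem F228409 : act 6 n51048 = n50259 := d40_1 D51048 (iv D50259) (iv F218984)
theorem F228410 : act 7 n51048 = n48972 := d42_1 D51048 (iv D48972) (iv F218985)
theorem F228411 : act 9 n51048 = n51048 := d44_2 D48967 D51048 (iv D51048) (iv D48967) F209211
def n51049 : Q := act 4 n48968
theorem D51049 : act 4 n48968 = n51049 := rfl
theorem F228412 : act 0 n51049 = n50721 := d3_1 D51049 (iv D50721) F218991
theorem F228413 : act 1 n51049 = n48969 := d11_1 D51049 (iv D48969) D48968
theorem F228414 : act 2 n51049 = n48982 := d18_1 D51049 (iv D48982) (iv F218986)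
theorem F228415 : act 5 n51049 = n51049 := d30_2 (iv F218987) D51049 (iv D51049) F218987 F209246
theorem F228416 : act 6 n51049 = n49129 := d31_2 (iv F218988) D51049 F219852
theorem F228417 : act 7 n51049 = n49961 := d32_2 (iv F218989) D51049 F223831
theorem F228418 : act 8 n51049 = n51049 := d33_2 F218990 D51049 (iv D51049)
def n51050 : Q := act 9 n48968
theorem D51050 : act 9 n48968 = n51050 := rfl
theorem F228419 : act 0 n51050 = n50722 := d8_1 D51050 (iv D50722) F218991
theorem F228420 : act 1 n51050 = n48970 := d16_1 D51050 (iv D48970) D48968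
theorem F228421 : act 2 n51050 = n48983 := d23_1 D51050 (iv D48983) (iv F218986)
theorem F228422 : act 5 n51050 = n48975 := d38_1 D51050 (iv D48975) (iv F218987)
theorem F228423 : act 6 n51050 = n50085 := d41_1 D51050 (iv D50085) (iv F218988)
theorem F228424 : act 7 n51050 = n50717 := d43_1 D51050 (iv D50717) (iv F218989)
def n51051 : Q := act 3 n48969
theorem D51051 : act 3 n48969 = n51051 := rfl
theorem F228425 : act 0 n51051 = n50803 := d2_1 D51051 F226920 (iv F218992)
theorem F228426 : act 2 n51051 = n49081 := d17_1 D51051 (iv D49081) F209787 (iv F209223) (iv F218993)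
theorem F228427 : act 5 n51051 = n51051 := d25_2 F218994 D51051 (iv D51051)
theorem F228428 : act 6 n51051 = n49083 := d26_2 (iv F218995) D51051 F219653
theorem F228429 : act 7 n51051 = n50200 := d27_2 (iv F218996) D51051 F224933
def n51052 : Q := act 9 n48969
theorem D51052 : act 9 n48969 = n51052 := rfl
theorem F228430 : act 0 n51052 = n50808 := d8_1 D51052 (iv D50808) (iv F218992)
theorem F228431 : act 2 n51052 = n48971 := d23_1 D51052 (iv D48971) (iv F218993)
theorem F228432 : act 4 n51052 = n48970 := d34_1 D51052 (iv D48970) D48969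
theorem F228433 : act 5 n51052 = n51052 := d38_1 D51052 (iv D51052) F218994
theorem F228434 : act 6 n51052 = n49130 := d41_1 D51052 (iv D49130) (iv F218995)
theorem F228435 : act 7 n51052 = n50253 := d43_1 D51052 (iv D50253) (iv F218996)
def n51053 : Q := act 8 n48970
theorem D51053 : act 8 n48970 = n51053 := rfl
theorem F228436 : act 0 n51053 = n50825 := d7_1 D51053 (iv D50825) (iv F218998)
theorem F228437 : act 2 n51053 = n48972 := d22_1 D51053 (iv D48972) (iv F218999)
theorem F228438 : act 5 n51053 = n48976 := d37_1 D51053 (iv D48976) (iv F219000)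
theorem F228439 : act 6 n51053 = n50086 := d40_1 D51053 (iv D50086) (iv F219001)
theorem F228440 : act 9 n51053 = n51053 := d44_2 D48970 D51053 (iv D51053) (iv D48970) F209220
def n51054 : Q := act 8 n48971
theorem D51054 : act 8 n48971 = n51054 := rfl
theorem F228441 : act 0 n51054 = n50812 := d7_1 D51054 (iv D50812) (iv F219002)
theorem F228442 : act 1 n51054 = n48986 := d15_1 D51054 (iv D48986) (iv F219003)
theorem F228443 : act 3 n51054 = n50259 := d28_1 D51054 (iv D50259) (iv F218966) F218971 (iv F219004)
theorem F228444 : act 4 n51054 = n48972 := d33_1 D51054 (iv D48972) (iv F219005)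
theorem F228445 : act 5 n51054 = n51054 := d37_1 D51054 (iv D51054) F219006
theorem F228446 : act 6 n51054 = n49131 := d40_1 D51054 (iv D49131) (iv F219007)
theorem F228447 : act 7 n51054 = n50254 := d42_1 D51054 (iv D50254) (iv F219008)
theorem F228448 : act 9 n51054 = n51054 := d44_2 D48971 D51054 (iv D51054) (iv D48971) F209227
def n51055 : Q := act 8 n48973
theorem D51055 : act 8 n48973 = n51055 := rfl
theorem F228449 : act 0 n51055 = n50814 := d7_1 D51055 F226960 (iv F219015)
theorem F228450 : act 1 n51055 = n50844 := d15_1 D51055 (iv D50844) (iv F219016)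
theorem F228451 : act 2 n51055 = n48974 := d22_1 D51055 (iv D48974) (iv F219017)
theorem F228452 : act 4 n51055 = n51055 := d33_1 D51055 (iv D51055) F219018
theorem F228453 : act 6 n51055 = n51055 := d40_1 D51055 (iv D51055) F219019
theorem F228454 : act 7 n51055 = n48976 := d42_1 D51055 (iv D48976) (iv F219020)
theorem F228455 : act 9 n51055 = n51055 := d44_2 D48973 D51055 (iv D51055) (iv D48973) F209238
def n51056 : Q := act 8 n48975
theorem D51056 : act 8 n48975 = n51056 := rfl
theorem F228456 : act 0 n51056 = n50845 := d7_1 D51056 (iv D50845) (iv F219028)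
theorem F228457 : act 1 n51056 = n48976 := d15_1 D51056 (iv D48976) (iv F219029)
theorem F228458 : act 2 n51056 = n48988 := d22_1 D51056 (iv D48988) (iv F219030)
theorem F228459 : act 4 n51056 = n51056 := d33_1 D51056 (iv D51056) F219031
theorem F228460 : act 6 n51056 = n48978 := d40_1 D51056 (iv D48978) (iv F219032)
theorem F228461 : act 7 n51056 = n50844 := d42_1 D51056 (iv D50844) (iv F219033)
theorem F228462 : act 9 n51056 = n51056 := d44_2 D48975 D51056 (iv D51056) (iv D48975) F209249
def n51057 : Q := act 3 n48976
theorem D51057 : act 3 n48976 = n51057 := rfl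
theorem F228463 : act 0 n51057 = n50835 := d2_1 D51057 (iv D50835) (iv F219034)
theorem F228464 : act 2 n51057 = n49144 := d17_1 D51057 (iv D49144) F209999 (iv F209257) (iv F219035)
theorem F228465 : act 6 n51057 = n48979 := d26_2 (iv F219037) D51057 (iv D48979)
theorem F228466 : act 9 n51057 = n51057 := d29_2 F219038 D51057 (iv D51057)
def n51058 : Q := act 8 n48977
theorem D51058 : act 8 n48977 = n51058 := rfl
theorem F228467 : act 0 n51058 = n48978 := d7_1 D51058 (iv D48978) (iv F219039)
theorem F228468 : act 1 n51058 = n50830 := d15_1 D51058 (iv D50830) (iv F219040)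
theorem F228469 : act 2 n51058 = n48990 := d22_1 D51058 (iv D48990) (iv F219041)
theorem F228470 : act 4 n51058 = n51058 := d33_1 D51058 (iv D51058) F219043
theorem F228471 : act 5 n51058 = n50093 := d37_1 D51058 (iv D50093) (iv F219044)
theorem F228472 : act 6 n51058 = n50845 := d40_1 D51058 (iv D50845) (iv F219045)
theorem F228473 : act 7 n51058 = n51058 := d42_1 D51058 (iv D51058) F219046
theorem F228474 : act 9 n51058 = n51058 := d44_2 D48977 D51058 (iv D51058) (iv D48977) F209268
theorem F228475 : act 3 n49702 = n51058 := d17_0 F228469 F219125 F212162 D47479 D49702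
def n51059 : Q := act 3 n48978
theorem D51059 : act 3 n48978 = n51059 := rfl
theorem F228476 : act 0 n51059 = n49702 := d2_1 D51059 F228475 F228467
theorem F228477 : act 1 n51059 = n48979 := d10_1 D51059 (iv D48979) (iv F219047)
theorem F228478 : act 2 n51059 = n49648 := d17_1 D51059 (iv D49648) F219137 (iv D48991) (iv F219048)
theorem F228479 : act 5 n51059 = n50094 := d25_2 (iv F219050) D51059 (iv D50094)
theorem F228480 : act 7 n51059 = n51059 := d27_2 F219051 D51059 (iv D51059)
theorem F228481 : act 9 n51059 = n51059 := d29_2 F219052 D51059 (iv D51059)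
theorem F228482 : act 4 n49773 = n51059 := d18_0 F228478 F222423 D49773
def n51060 : Q := act 4 n48979
theorem D51060 : act 4 n48979 = n51060 := rfl
theorem F228483 : act 0 n51060 = n50834 := d3_1 D51060 F227041 (iv F219053)
theorem F228484 : act 1 n51060 = n49773 := d11_1 D51060 F228482 F228477
theorem F228485 : act 2 n51060 = n49147 := d18_1 D51060 (iv D49147) (iv F219054)
theorem F228486 : act 3 n51060 = n51060 := d24_1 D51060 (iv D51060) (iv D48979) F209276 D48979
theorem F228487 : act 7 n51060 = n51060 := d32_2 F219056 D51060 (iv D51060)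
theorem F228488 : act 9 n51060 = n51060 := d34_2 F219057 D51060 (iv D51060)
def n51061 : Q := act 8 n48980
theorem D51061 : act 8 n48980 = n51061 := rfl
theorem F228489 : act 0 n51061 = n51061 := d7_1 D51061 (iv D51061) F219058
theorem F228490 : act 1 n51061 = n50718 := d15_1 D51061 (iv D50718) (iv F219059)
theorem F228491 : act 2 n51061 = n48981 := d22_1 D51061 (iv D48981) (iv F219060)
theorem F228492 : act 3 n51061 = n49438 := d28_1 D51061 (iv D49438) F211458 (iv F212596) (iv F219061)
theorem F228493 : act 4 n51061 = n49612 := d33_1 D51061 F222226 (iv F219062)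
theorem F228494 : act 5 n51061 = n48987 := d37_1 D51061 (iv D48987) (iv F219063)
theorem F228495 : act 6 n51061 = n50275 := d40_1 D51061 (iv D50275) (iv F219064)
theorem F228496 : act 7 n51061 = n48985 := d42_1 D51061 (iv D48985) (iv F219065)
theorem F228497 : act 9 n51061 = n51061 := d44_2 D48980 D51061 (iv D51061) (iv D48980) F209294
def n51062 : Q := act 9 n48982
theorem D51062 : act 9 n48982 = n51062 := rfl
theorem F228498 : act 0 n51062 = n50723 := d8_1 D51062 (iv D50723) (iv F219073)
theorem F228499 : act 1 n51062 = n48984 := d16_1 D51062 (iv D48984) (iv F219074)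
theorem F228500 : act 3 n51062 = n49901 := d29_1 D51062 F223492 (iv F219075)
theorem F228501 : act 4 n51062 = n48983 := d34_1 D51062 (iv D48983) D48982
theorem F228502 : act 5 n51062 = n51062 := d38_1 D51062 (iv D51062) F219076
theorem F228503 : act 6 n51062 = n49149 := d41_1 D51062 (iv D49149) (iv F219077)
theorem F228504 : act 7 n51062 = n49911 := d43_1 D51062 F223541 (iv F219078)
def n51063 : Q := act 8 n48983
theorem D51063 : act 8 n48983 = n51063 := rfl
theorem F228505 : act 0 n51063 = n50724 := d7_1 D51063 (iv D50724) (iv F219080)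
theorem F228506 : act 1 n51063 = n48985 := d15_1 D51063 (iv D48985) (iv F219081)
theorem F228507 : act 5 n51063 = n48988 := d37_1 D51063 (iv D48988) (iv F219083)
theorem F228508 : act 6 n51063 = n50097 := d40_1 D51063 (iv D50097) (iv F219084)
theorem F228509 : act 7 n51063 = n50718 := d42_1 D51063 (iv D50718) (iv F219085)
theorem F228510 : act 9 n51063 = n51063 := d44_2 D48983 D51063 (iv D51063) (iv D48983) F209306
def n51064 : Q := act 8 n48984
theorem D51064 : act 8 n48984 = n51064 := rfl
theorem F228511 : act 0 n51064 = n51064 := d7_1 D51064 (iv D51064) F219086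
theorem F228512 : act 2 n51064 = n48986 := d22_1 D51064 (iv D48986) (iv F219087)
theorem F228513 : act 3 n51064 = n49606 := d28_1 D51064 (iv D49606) F212011 (iv F213322) (iv F219088)
theorem F228514 : act 4 n51064 = n48985 := d33_1 D51064 (iv D48985) (iv F219089)
theorem F228515 : act 5 n51064 = n51064 := d37_1 D51064 (iv D51064) F219090
theorem F228516 : act 6 n51064 = n49150 := d40_1 D51064 (iv D49150) (iv F219091)
theorem F228517 : act 7 n51064 = n49612 := d42_1 D51064 F222226 (iv F219092)
theorem F228518 : act 9 n51064 = n51064 := d44_2 D48984 D51064 (iv D51064) (iv D48984) F209314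
def n51065 : Q := act 3 n48985
theorem D51065 : act 3 n48985 = n51065 := rfl
theorem F228519 : act 0 n51065 = n51065 := d2_1 D51065 (iv D51065) F219093
theorem F228520 : act 2 n51065 = n49156 := d17_1 D51065 (iv D49156) F210055 (iv F209327) (iv F219094)
theorem F228521 : act 4 n51065 = n49432 := d24_2 F228514 D51065 F221467 (iv F222185) (iv F228513)
theorem F228522 : act 5 n51065 = n48989 := d25_2 (iv F219095) D51065 (iv D48989)
theorem F228523 : act 6 n51065 = n50098 := d26_2 (iv F219096) D51065 (iv D50098)
theorem F228524 : act 7 n51065 = n49438 := d27_2 F228496 D51065 (iv F228492)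
theorem F228525 : act 8 n51065 = n49431 := d28_2 D48985 D51065 F221460 F212603 (iv F209317)
theorem F228526 : act 9 n51065 = n51065 := d29_2 F219097 D51065 (iv D51065)
def n51066 : Q := act 3 n48987
theorem D51066 : act 3 n48987 = n51066 := rfl
theorem F228527 : act 0 n51066 = n51066 := d2_1 D51066 (iv D51066) F219105
theorem F228528 : act 1 n51066 = n50843 := d10_1 D51066 F227065 (iv F219106)
theorem F228529 : act 2 n51066 = n49159 := d17_1 D51066 (iv D49159) F210076 (iv F209339) (iv F219107)
theorem F228530 : act 5 n51066 = n49438 := d25_2 F228494 D51066 (iv F228492)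
theorem F228531 : act 6 n51066 = n51066 := d26_2 F219109 D51066 (iv D51066)
theorem F228532 : act 7 n51066 = n48989 := d27_2 (iv F219110) D51066 (iv D48989)
theorem F228533 : act 8 n51066 = n49322 := d28_2 D48987 D51066 F220952 F212190 (iv F209334)
theorem F228534 : act 9 n51066 = n51066 := d29_2 F219111 D51066 (iv D51066)
theorem F228535 : act 4 n49323 = n51066 := d33_3 F228533 F220953 D49323
def n51067 : Q := act 3 n48988
theorem D51067 : act 3 n48988 = n51067 := rfl
theorem F228536 : act 0 n51067 = n49619 := d2_1 D51067 F222269 (iv F219112)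
theorem F228537 : act 1 n51067 = n48989 := d10_1 D51067 (iv D48989) (iv F219113)
theorem F228538 : act 6 n51067 = n48991 := d26_2 (iv F219115) D51067 (iv D48991)
theorem F228539 : act 7 n51067 = n50843 := d27_2 (iv F219116) D51067 F227065
theorem F228540 : act 8 n51067 = n49614 := d28_2 D48988 D51067 F222238 (iv D47498) (iv F209346)
theorem F228541 : act 9 n51067 = n51067 := d29_2 F219117 D51067 (iv D51067)
theorem F228542 : act 2 n49647 = n51067 := d22_3 F228540 F222237 D49647
theorem F228543 : act 4 n49615 = n51067 := d33_3 F228540 F222239 D49615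
def n51068 : Q := act 4 n48989
theorem D51068 : act 4 n48989 = n51068 := rfl
theorem F228544 : act 0 n51068 = n51068 := d3_1 D51068 (iv D51068) F219118
theorem F228545 : act 1 n51068 = n49615 := d11_1 D51068 F228543 F228537
theorem F228546 : act 2 n51068 = n49162 := d18_1 D51068 (iv D49162) (iv F219119)
theorem F228547 : act 3 n51068 = n51068 := d24_1 D51068 (iv D51068) (iv D48989) F209352 D48989
theorem F228548 : act 5 n51068 = n49325 := d30_2 F228522 D51068 F220973 (iv F221468) (iv F228521)
theorem F228549 : act 6 n51068 = n48992 := d31_2 (iv F219120) D51068 (iv D48992)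
theorem F228550 : act 7 n51068 = n49323 := d32_2 F228532 D51068 F228535
theorem F228551 : act 8 n51068 = n49320 := d33_2 (iv F219121) D51068 F220938
theorem F228552 : act 9 n51068 = n51068 := d34_2 F219122 D51068 (iv D51068)
def n51069 : Q := act 8 n48993
theorem D51069 : act 8 n48993 = n51069 := rfl
theorem F228553 : act 0 n51069 = n49711 := d7_1 D51069 (iv D49711) (iv F219147)
theorem F228554 : act 1 n51069 = n49017 := d15_1 D51069 (iv D49017) (iv F219148)
theorem F228555 : act 2 n51069 = n49925 := d22_1 D51069 (iv D49925) (iv F219149)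
theorem F228556 : act 4 n51069 = n49653 := d33_1 D51069 (iv D49653) (iv F219151)
theorem F228557 : act 5 n51069 = n48995 := d37_1 D51069 (iv D48995) (iv F219152)
theorem F228558 : act 6 n51069 = n49650 := d40_1 D51069 (iv D49650) (iv F219153)
theorem F228559 : act 7 n51069 = n48994 := d42_1 D51069 (iv D48994) D48993
def n51070 : Q := act 3 n48994
theorem D51070 : act 3 n48994 = n51070 := rfl
theorem F228560 : act 0 n51070 = n49712 := d2_1 D51070 (iv D49712) (iv F219155)
theorem F228561 : act 1 n51070 = n49018 := d10_1 D51070 (iv D49018) (iv F219156)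
theorem F228562 : act 2 n51070 = n49683 := d17_1 D51070 F222583 (iv F222256) F222257 (iv F219157)
theorem F228563 : act 5 n51070 = n48996 := d25_2 (iv F219159) D51070 (iv D48996)
theorem F228564 : act 6 n51070 = n49680 := d26_2 (iv F219160) D51070 F222567
theorem F228565 : act 8 n51070 = n49001 := d28_2 D48994 D51070 (iv D49001) (iv D46832) (iv F209376)
def n51071 : Q := act 9 n48994
theorem D51071 : act 9 n48994 = n51071 := rfl
theorem F228566 : act 0 n51071 = n49713 := d8_1 D51071 (iv D49713) (iv F219155)
theorem F228567 : act 1 n51071 = n49019 := d16_1 D51071 (iv D49019) (iv F219156)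
theorem F228568 : act 2 n51071 = n50555 := d23_1 D51071 F226079 (iv F219157)
theorem F228569 : act 4 n51071 = n50502 := d34_1 D51071 (iv D50502) (iv F219158)
theorem F228570 : act 5 n51071 = n48997 := d38_1 D51071 (iv D48997) (iv F219159)
theorem F228571 : act 6 n51071 = n50103 := d41_1 D51071 (iv D50103) (iv F219160)
theorem F228572 : act 8 n51071 = n50550 := d44_1 D51071 (iv D50550) F216230 (iv F209378) D48994
def n51072 : Q := act 3 n48995
theorem D51072 : act 3 n48995 = n51072 := rfl
theorem F228573 : act 0 n51072 = n49714 := d2_1 D51072 (iv D49714) (iv F219161)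
theorem F228574 : act 1 n51072 = n49020 := d10_1 D51072 (iv D49020) (iv F219162)
theorem F228575 : act 2 n51072 = n49688 := d17_1 D51072 F222605 F212486 F216791 (iv F219163)
theorem F228576 : act 6 n51072 = n51072 := d26_2 F219165 D51072 (iv D51072)
theorem F228577 : act 7 n51072 = n48996 := d27_2 (iv F219166) D51072 (iv D48996)
theorem F228578 : act 8 n51072 = n49003 := d28_2 D48995 D51072 (iv D49003) (iv D46833) (iv F209383)
theorem F228579 : act 4 n49724 = n51072 := d33_3 F228578 F219212 (iv F222781)
def n51073 : Q := act 9 n48995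
theorem D51073 : act 9 n48995 = n51073 := rfl
theorem F228580 : act 0 n51073 = n49715 := d8_1 D51073 (iv D49715) (iv F219161)
theorem F228581 : act 1 n51073 = n49021 := d16_1 D51073 (iv D49021) (iv F219162)
theorem F228582 : act 2 n51073 = n50556 := d23_1 D51073 F226085 (iv F219163)
theorem F228583 : act 4 n51073 = n51073 := d34_1 D51073 (iv D51073) F219164
theorem F228584 : act 6 n51073 = n51073 := d41_1 D51073 (iv D51073) F219165
theorem F228585 : act 7 n51073 = n48997 := d43_1 D51073 (iv D48997) (iv F219166)
theorem F228586 : act 8 n51073 = n50554 := d44_1 D51073 (iv D50554) F216250 (iv F209386) D48995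
def n51074 : Q := act 9 n48996
theorem D51074 : act 9 n48996 = n51074 := rfl
theorem F228587 : act 0 n51074 = n49716 := d8_1 D51074 (iv D49716) (iv F219167)
theorem F228588 : act 1 n51074 = n49024 := d16_1 D51074 (iv D49024) (iv F219168)
theorem F228589 : act 2 n51074 = n49689 := d23_1 D51074 (iv D49689) (iv F219169)
theorem F228590 : act 3 n51074 = n48997 := d29_1 D51074 (iv D48997) D48996
theorem F228591 : act 4 n51074 = n49726 := d34_1 D51074 (iv D49726) F219172
theorem F228592 : act 6 n51074 = n48998 := d41_1 D51074 (iv D48998) (iv F219170)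
def n51075 : Q := act 8 n48998
theorem D51075 : act 8 n48998 = n51075 := rfl
theorem F228593 : act 0 n51075 = n49717 := d7_1 D51075 (iv D49717) (iv F219179)
theorem F228594 : act 1 n51075 = n49027 := d15_1 D51075 (iv D49027) (iv F219180)
theorem F228595 : act 2 n51075 = n49690 := d22_1 D51075 (iv D49690) (iv F219181)
theorem F228596 : act 3 n51075 = n50199 := d28_1 D51075 (iv D50199) F214932 (iv F209405) (iv F219182)
theorem F228597 : act 4 n51075 = n49728 := d33_1 D51075 (iv D49728) (iv F219183)
theorem F228598 : act 5 n51075 = n49687 := d37_1 D51075 (iv D49687) (iv F219184)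
theorem F228599 : act 7 n51075 = n51075 := d42_1 D51075 (iv D51075) F219185
theorem F228600 : act 9 n51075 = n49010 := d44_2 D48998 D51075 (iv D49010) (iv D46838) (iv F209397)
def n51076 : Q := act 8 n48999
theorem D51076 : act 8 n48999 = n51076 := rfl
theorem F228601 : act 0 n51076 = n49718 := d7_1 D51076 (iv D49718) (iv F219186)
theorem F228602 : act 1 n51076 = n49028 := d15_1 D51076 (iv D49028) (iv F219187)
theorem F228603 : act 2 n51076 = n51076 := d22_1 D51076 (iv D51076) F219188
theorem F228604 : act 4 n51076 = n49374 := d33_1 D51076 (iv D49374) (iv F219190)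
theorem F228605 : act 5 n51076 = n51076 := d37_1 D51076 (iv D51076) F219191
theorem F228606 : act 6 n51076 = n49000 := d40_1 D51076 (iv D49000) D48999
theorem F228607 : act 7 n51076 = n49373 := d42_1 D51076 (iv D49373) (iv F219192)
def n51077 : Q := act 3 n49000
theorem D51077 : act 3 n49000 = n51077 := rfl
theorem F228608 : act 0 n51077 = n49719 := d2_1 D51077 (iv D49719) (iv F219194)
theorem F228609 : act 1 n51077 = n49029 := d10_1 D51077 (iv D49029) (iv F219195)
theorem F228610 : act 5 n51077 = n49003 := d25_2 (iv F219198) D51077 (iv D49003)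
theorem F228611 : act 7 n51077 = n49001 := d27_2 (iv F219199) D51077 (iv D49001)
def n51078 : Q := act 9 n49000
theorem D51078 : act 9 n49000 = n51078 := rfl
theorem F228612 : act 0 n51078 = n49720 := d8_1 D51078 (iv D49720) (iv F219194)
theorem F228613 : act 1 n51078 = n49030 := d16_1 D51078 (iv D49030) (iv F219195)
theorem F228614 : act 2 n51078 = n51078 := d23_1 D51078 (iv D51078) F219196
theorem F228615 : act 4 n51078 = n50758 := d34_1 D51078 (iv D50758) (iv F219197)
theorem F228616 : act 5 n51078 = n49004 := d38_1 D51078 (iv D49004) (iv F219198)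
theorem F228617 : act 7 n51078 = n49002 := d43_1 D51078 (iv D49002) (iv F219199)
theorem F228618 : act 8 n51078 = n50252 := d44_1 D51078 (iv D50252) F215075 (iv F209410) D49000
def n51079 : Q := act 2 n49001
theorem D51079 : act 2 n49001 = n51079 := rfl
theorem F228619 : act 0 n51079 = n49721 := d1_1 D51079 (iv D49721) (iv F219200)
theorem F228620 : act 1 n51079 = n49739 := d9_1 D51079 F222848 F219382 (iv D49031) (iv F219201)
theorem F228621 : act 3 n51079 = n51079 := d17_2 D49001 D51079 (iv D51079) (iv D49001) F209413
theorem F228622 : act 5 n51079 = n49005 := d19_2 (iv F219202) D51079 (iv D49005)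
theorem F228623 : act 6 n51079 = n49660 := d20_2 (iv F219203) D51079 F222483
theorem F228624 : act 8 n51079 = n49683 := d22_2 F228565 D51079 (iv F228562)
def n51080 : Q := act 4 n49001
theorem D51080 : act 4 n49001 = n51080 := rfl
theorem F228625 : act 0 n51080 = n49722 := d3_1 D51080 (iv D49722) (iv F219200)
theorem F228626 : act 1 n51080 = n49032 := d11_1 D51080 (iv D49032) (iv F219201)
theorem F228627 : act 6 n51080 = n50106 := d31_2 (iv F219203) D51080 (iv D50106)
def n51081 : Q := act 9 n49001
theorem D51081 : act 9 n49001 = n51081 := rfl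
theorem F228628 : act 0 n51081 = n49723 := d8_1 D51081 (iv D49723) (iv F219200)
theorem F228629 : act 1 n51081 = n49033 := d16_1 D51081 (iv D49033) (iv F219201)
theorem F228630 : act 3 n51081 = n49002 := d29_1 D51081 (iv D49002) D49001
theorem F228631 : act 5 n51081 = n49007 := d38_1 D51081 (iv D49007) (iv F219202)
theorem F228632 : act 6 n51081 = n50107 := d41_1 D51081 (iv D50107) (iv F219203)
def n51082 : Q := act 2 n49003
theorem D51082 : act 2 n49003 = n51082 := rfl
theorem F228633 : act 0 n51082 = n49724 := d1_1 D51082 (iv D49724) (iv F219210)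
theorem F228634 : act 1 n51082 = n49737 := d9_1 D51082 F222837 F216884 (iv F209562) (iv F219211)
theorem F228635 : act 3 n51082 = n51082 := d17_2 D49003 D51082 (iv D51082) (iv D49003) F209418
theorem F228636 : act 4 n51082 = n49714 := d18_2 (iv F219212) D51082 F222738
theorem F228637 : act 6 n51082 = n51082 := d20_2 F219213 D51082 (iv D51082)
theorem F228638 : act 7 n51082 = n49005 := d21_2 (iv F219214) D51082 (iv D49005)
theorem F228639 : act 8 n51082 = n49688 := d22_2 F228578 D51082 (iv F228575)
def n51083 : Q := act 9 n49003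
theorem D51083 : act 9 n49003 = n51083 := rfl
theorem F228640 : act 0 n51083 = n49725 := d8_1 D51083 (iv D49725) (iv F219210)
theorem F228641 : act 1 n51083 = n49034 := d16_1 D51083 (iv D49034) (iv F219211)
theorem F228642 : act 3 n51083 = n49004 := d29_1 D51083 (iv D49004) D49003
theorem F228643 : act 4 n51083 = n50764 := d34_1 D51083 (iv D50764) (iv F219212)
theorem F228644 : act 6 n51083 = n51083 := d41_1 D51083 (iv D51083) F219213
theorem F228645 : act 7 n51083 = n49007 := d43_1 D51083 (iv D49007) (iv F219214)
def n51084 : Q := act 9 n49005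
theorem D51084 : act 9 n49005 = n51084 := rfl
theorem F228646 : act 0 n51084 = n49726 := d8_1 D51084 (iv D49726) (iv F219222)
theorem F228647 : act 1 n51084 = n49740 := d16_1 D51084 (iv D49740) (iv F219223)
theorem F228648 : act 2 n51084 = n49007 := d23_1 D51084 (iv D49007) D49005
theorem F228649 : act 3 n51084 = n51084 := d29_1 D51084 (iv D51084) F219224
theorem F228650 : act 4 n51084 = n49716 := d34_1 D51084 (iv D49716) F219227
theorem F228651 : act 6 n51084 = n49008 := d41_1 D51084 (iv D49008) (iv F219225)
def n51085 : Q := act 5 n49006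
theorem D51085 : act 5 n49006 = n51085 := rfl
theorem F228652 : act 0 n51085 = n49683 := d4_1 D51085 F222584 (iv F219228)
theorem F228653 : act 1 n51085 = n49036 := d12_1 D51085 (iv D49036) (iv F219229)
theorem F228654 : act 2 n51085 = n49712 := d19_1 D51085 F222729 (iv F219230)
theorem F228655 : act 3 n51085 = n49011 := d25_1 D51085 (iv D49011) (iv F219231)
theorem F228656 : act 6 n51085 = n49640 := d35_2 (iv F219232) D51085 (iv D49640) F212270 (iv F209442)
theorem F228657 : act 7 n51085 = n50465 := d36_2 (iv F219233) D51085 F225780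
theorem F228658 : act 8 n51085 = n49721 := d37_2 (iv F219234) D51085 F222769
def n51086 : Q := act 9 n49006
theorem D51086 : act 9 n49006 = n51086 := rfl
theorem F228659 : act 0 n51086 = n49689 := d8_1 D51086 (iv D49689) (iv F219228)
theorem F228660 : act 1 n51086 = n49037 := d16_1 D51086 (iv D49037) (iv F219229)
theorem F228661 : act 2 n51086 = n49716 := d23_1 D51086 (iv D49716) (iv F219230)
theorem F228662 : act 3 n51086 = n49012 := d29_1 D51086 (iv D49012) (iv F219231)
theorem F228663 : act 4 n51086 = n49007 := d34_1 D51086 (iv D49007) D49006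
theorem F228664 : act 6 n51086 = n49009 := d41_1 D51086 (iv D49009) (iv F219232)
theorem F228665 : act 7 n51086 = n50764 := d43_1 D51086 (iv D50764) (iv F219233)
def n51087 : Q := act 8 n49007
theorem D51087 : act 8 n49007 = n51087 := rfl
theorem F228666 : act 0 n51087 = n49727 := d7_1 D51087 (iv D49727) (iv F219235)
theorem F228667 : act 1 n51087 = n49038 := d15_1 D51087 (iv D49038) (iv F219236)
theorem F228668 : act 3 n51087 = n50251 := d28_1 D51087 (iv D50251) F215062 (iv F209430) (iv F219237)
theorem F228669 : act 6 n51087 = n49010 := d40_1 D51087 (iv D49010) (iv F219238)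
def n51088 : Q := act 8 n49008
theorem D51088 : act 8 n49008 = n51088 := rfl
theorem F228670 : act 0 n51088 = n49728 := d7_1 D51088 (iv D49728) (iv F219239)
theorem F228671 : act 1 n51088 = n49742 := d15_1 D51088 (iv D49742) (iv F219240)
theorem F228672 : act 2 n51088 = n49010 := d22_1 D51088 (iv D49010) (iv F219241)
theorem F228673 : act 4 n51088 = n49717 := d33_1 D51088 (iv D49717) (iv F219243)
theorem F228674 : act 5 n51088 = n49663 := d37_1 D51088 (iv D49663) (iv F219244)
theorem F228675 : act 7 n51088 = n51088 := d42_1 D51088 (iv D51088) F219245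
theorem F228676 : act 9 n51088 = n49690 := d44_2 D49008 D51088 (iv D49690) (iv D47468) (iv F209436)
def n51089 : Q := act 8 n49009
theorem D51089 : act 8 n49009 = n51089 := rfl
theorem F228677 : act 0 n51089 = n49690 := d7_1 D51089 (iv D49690) (iv F219246)
theorem F228678 : act 1 n51089 = n49042 := d15_1 D51089 (iv D49042) (iv F219247)
theorem F228679 : act 2 n51089 = n49717 := d22_1 D51089 (iv D49717) (iv F219248)
theorem F228680 : act 4 n51089 = n49010 := d33_1 D51089 (iv D49010) (iv F219250)
theorem F228681 : act 5 n51089 = n49643 := d37_1 D51089 (iv D49643) (iv F219251)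
theorem F228682 : act 7 n51089 = n51089 := d42_1 D51089 (iv D51089) F219252
theorem F228683 : act 9 n51089 = n49728 := d44_2 D49009 D51089 (iv D49728) (iv D47515) (iv F209444)
def n51090 : Q := act 9 n49011
theorem D51090 : act 9 n49011 = n51090 := rfl
theorem F228684 : act 0 n51090 = n49696 := d8_1 D51090 (iv D49696) (iv F219258)
theorem F228685 : act 1 n51090 = n49044 := d16_1 D51090 (iv D49044) (iv F219259)
theorem F228686 : act 2 n51090 = n50482 := d23_1 D51090 (iv D50482) (iv F219260)
theorem F228687 : act 4 n51090 = n50462 := d34_1 D51090 (iv D50462) (iv F219261)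
theorem F228688 : act 5 n51090 = n49012 := d38_1 D51090 (iv D49012) D49011
theorem F228689 : act 6 n51090 = n49646 := d41_1 D51090 (iv D49646) (iv F219262)
theorem F228690 : act 7 n51090 = n50466 := d43_1 D51090 (iv D50466) (iv F219263)
def n51091 : Q := act 8 n49012
theorem D51091 : act 8 n49012 = n51091 := rfl
theorem F228691 : act 0 n51091 = n49700 := d7_1 D51091 (iv D49700) (iv F219265)
theorem F228692 : act 1 n51091 = n49045 := d15_1 D51091 (iv D49045) (iv F219266)
theorem F228693 : act 2 n51091 = n50102 := d22_1 D51091 F224496 (iv F219267)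
theorem F228694 : act 4 n51091 = n49013 := d33_1 D51091 (iv D49013) (iv F219268)
theorem F228695 : act 6 n51091 = n49015 := d40_1 D51091 (iv D49015) (iv F219269)
theorem F228696 : act 7 n51091 = n50765 := d42_1 D51091 (iv D50765) (iv F219270)
theorem F228697 : act 9 n51091 = n51091 := d44_2 D49012 D51091 (iv D51091) (iv D49012) F209463
def n51092 : Q := act 3 n49015
theorem D51092 : act 3 n49015 = n51092 := rfl
theorem F228698 : act 0 n51092 = n49701 := d2_1 D51092 (iv D49701) (iv F219287)
theorem F228699 : act 1 n51092 = n49049 := d10_1 D51092 (iv D49049) (iv F219288)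
theorem F228700 : act 2 n51092 = n50094 := d17_1 D51092 (iv D50094) F214509 D47912 (iv F219289)
theorem F228701 : act 4 n51092 = n49126 := d24_2 (iv F219290) D51092 (iv D49126) F209922 (iv F209487)
theorem F228702 : act 5 n51092 = n49648 := d25_2 (iv F219291) D51092 (iv D49648)
theorem F228703 : act 7 n51092 = n51092 := d27_2 F219292 D51092 (iv D51092)
theorem F228704 : act 9 n51092 = n51092 := d29_2 F219293 D51092 (iv D51092)
def n51093 : Q := act 3 n49016
theorem D51093 : act 3 n49016 = n51093 := rfl
theorem F228705 : act 0 n51093 = n49058 := d2_1 D51093 (iv D49058) (iv F219294)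
theorem F228706 : act 1 n51093 = n50501 := d10_1 D51093 (iv D50501) (iv F219295)
theorem F228707 : act 5 n51093 = n51093 := d25_2 F219298 D51093 (iv D51093)
theorem F228708 : act 6 n51093 = n50062 := d26_2 (iv F219299) D51093 (iv D50062)
theorem F228709 : act 8 n51093 = n50046 := d28_2 D49016 D51093 (iv D50046) F214241 (iv F209499)
theorem F228710 : act 2 n50264 = n51093 := d22_3 F228709 F224212 D50264
def n51094 : Q := act 9 n49016
theorem D51094 : act 9 n49016 = n51094 := rfl
theorem F228711 : act 0 n51094 = n49059 := d8_1 D51094 (iv D49059) (iv F219294)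
theorem F228712 : act 1 n51094 = n50502 := d16_1 D51094 (iv D50502) (iv F219295)
theorem F228713 : act 2 n51094 = n51094 := d23_1 D51094 (iv D51094) F219296
theorem F228714 : act 4 n51094 = n49019 := d34_1 D51094 (iv D49019) (iv F219297)
theorem F228715 : act 5 n51094 = n51094 := d38_1 D51094 (iv D51094) F219298
theorem F228716 : act 6 n51094 = n50063 := d41_1 D51094 (iv D50063) (iv F219299)
theorem F228717 : act 8 n51094 = n50172 := d44_1 D51094 (iv D50172) (iv D47974) (iv F209502) D49016
def n51095 : Q := act 3 n49017
theorem D51095 : act 3 n49017 = n51095 := rfl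
theorem F228718 : act 0 n51095 = n49061 := d2_1 D51095 (iv D49061) (iv F219300)
theorem F228719 : act 5 n51095 = n49020 := d25_2 (iv F219302) D51095 (iv D49020)
theorem F228720 : act 7 n51095 = n49018 := d27_2 (iv F219303) D51095 (iv D49018)
theorem F228721 : act 8 n51095 = n49029 := d28_2 D49017 D51095 (iv D49029) (iv D46856) (iv F209505)
theorem F228722 : act 2 n50804 = n51095 := d22_3 F228721 F219368 D50804
def n51096 : Q := act 9 n49017
theorem D51096 : act 9 n49017 = n51096 := rfl
theorem F228723 : act 0 n51096 = n49062 := d8_1 D51096 (iv D49062) (iv F219300)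
theorem F228724 : act 2 n51096 = n51096 := d23_1 D51096 (iv D51096) F219301
theorem F228725 : act 5 n51096 = n49021 := d38_1 D51096 (iv D49021) (iv F219302)
theorem F228726 : act 7 n51096 = n49019 := d43_1 D51096 (iv D49019) (iv F219303)
theorem F228727 : act 8 n51096 = n50842 := d44_1 D51096 (iv D50842) F217524 (iv F209507) D49017
def n51097 : Q := act 2 n49018
theorem D51097 : act 2 n49018 = n51097 := rfl
theorem F228728 : act 0 n51097 = n49063 := d1_1 D51097 (iv D49063) (iv F219304)
theorem F228729 : act 1 n51097 = n49760 := d9_1 D51097 F222938 (iv F222582) (iv F228562) F228561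
theorem F228730 : act 3 n51097 = n51097 := d17_2 D49018 D51097 (iv D51097) (iv D49018) F209509
theorem F228731 : act 5 n51097 = n49022 := d19_2 (iv F219305) D51097 (iv D49022)
theorem F228732 : act 6 n51097 = n50110 := d20_2 (iv F219306) D51097 (iv D50110)
theorem F228733 : act 7 n51097 = n50804 := d21_2 F228720 D51097 F228722
theorem F228734 : act 8 n51097 = n49031 := d22_2 (iv F219307) D51097 (iv D49031)
def n51098 : Q := act 4 n49018
theorem D51098 : act 4 n49018 = n51098 := rfl
theorem F228735 : act 0 n51098 = n49064 := d3_1 D51098 (iv D49064) (iv F219304)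
theorem F228736 : act 6 n51098 = n50111 := d31_2 (iv F219306) D51098 (iv D50111)
theorem F228737 : act 8 n51098 = n49032 := d33_2 (iv F219307) D51098 (iv D49032)
def n51099 : Q := act 9 n49018
theorem D51099 : act 9 n49018 = n51099 := rfl
theorem F228738 : act 0 n51099 = n49065 := d8_1 D51099 (iv D49065) (iv F219304)
theorem F228739 : act 3 n51099 = n49019 := d29_1 D51099 (iv D49019) D49018
theorem F228740 : act 5 n51099 = n49024 := d38_1 D51099 (iv D49024) (iv F219305)
theorem F228741 : act 6 n51099 = n50112 := d41_1 D51099 (iv D50112) (iv F219306)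
def n51100 : Q := act 9 n49020
theorem D51100 : act 9 n49020 = n51100 := rfl
theorem F228742 : act 0 n51100 = n49068 := d8_1 D51100 (iv D49068) (iv F219313)
theorem F228743 : act 2 n51100 = n50806 := d23_1 D51100 (iv D50806) F219317
theorem F228744 : act 3 n51100 = n49021 := d29_1 D51100 (iv D49021) D49020
theorem F228745 : act 4 n51100 = n50766 := d34_1 D51100 (iv D50766) F219318
theorem F228746 : act 6 n51100 = n51100 := d41_1 D51100 (iv D51100) F219314
theorem F228747 : act 7 n51100 = n49024 := d43_1 D51100 (iv D49024) (iv F219315)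
def n51101 : Q := act 9 n49022
theorem D51101 : act 9 n49022 = n51101 := rfl
theorem F228748 : act 0 n51101 = n49071 := d8_1 D51101 (iv D49071) (iv F219325)
theorem F228749 : act 1 n51101 = n49761 := d16_1 D51101 (iv D49761) (iv F219326)
theorem F228750 : act 2 n51101 = n49024 := d23_1 D51101 (iv D49024) D49022
theorem F228751 : act 3 n51101 = n51101 := d29_1 D51101 (iv D51101) F219327
theorem F228752 : act 4 n51101 = n49759 := d34_1 D51101 (iv D49759) F219331
theorem F228753 : act 6 n51101 = n49025 := d41_1 D51101 (iv D49025) (iv F219328)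
theorem F228754 : act 7 n51101 = n50806 := d43_1 D51101 (iv D50806) (iv F219329)
def n51102 : Q := act 5 n49023
theorem D51102 : act 5 n49023 = n51102 := rfl
theorem F228755 : act 0 n51102 = n49072 := d4_1 D51102 (iv D49072) (iv F219332)
theorem F228756 : act 1 n51102 = n49721 := d12_1 D51102 F222769 (iv F219333)
theorem F228757 : act 2 n51102 = n49748 := d19_1 D51102 F222888 (iv F219334)
theorem F228758 : act 3 n51102 = n51102 := d25_1 D51102 (iv D51102) F219335
theorem F228759 : act 6 n51102 = n50537 := d35_2 (iv F219336) D51102 (iv D50537) F216168 (iv F209536)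
theorem F228760 : act 7 n51102 = n50468 := d36_2 (iv F219337) D51102 F225791
theorem F228761 : act 8 n51102 = n49036 := d37_2 (iv F219338) D51102 (iv D49036)
def n51103 : Q := act 9 n49023
theorem D51103 : act 9 n49023 = n51103 := rfl
theorem F228762 : act 0 n51103 = n49073 := d8_1 D51103 (iv D49073) (iv F219332)
theorem F228763 : act 1 n51103 = n49726 := d16_1 D51103 (iv D49726) (iv F219333)
theorem F228764 : act 2 n51103 = n49759 := d23_1 D51103 (iv D49759) (iv F219334)
theorem F228765 : act 3 n51103 = n51103 := d29_1 D51103 (iv D51103) F219335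
theorem F228766 : act 4 n51103 = n49024 := d34_1 D51103 (iv D49024) D49023
theorem F228767 : act 6 n51103 = n49026 := d41_1 D51103 (iv D49026) (iv F219336)
theorem F228768 : act 7 n51103 = n50766 := d43_1 D51103 (iv D50766) (iv F219337)
def n51104 : Q := act 8 n49024
theorem D51104 : act 8 n49024 = n51104 := rfl
theorem F228769 : act 0 n51104 = n49074 := d7_1 D51104 (iv D49074) (iv F219339)
theorem F228770 : act 3 n51104 = n50641 := d28_1 D51104 (iv D50641) F216560 (iv F209524) (iv F219340)
theorem F228771 : act 6 n51104 = n49027 := d40_1 D51104 (iv D49027) (iv F219341)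
theorem F228772 : act 9 n51104 = n49038 := d44_2 D49024 D51104 (iv D49038) (iv D46863) (iv F209519)
def n51105 : Q := act 8 n49025
theorem D51105 : act 8 n49025 = n51105 := rfl
theorem F228773 : act 0 n51105 = n49077 := d7_1 D51105 (iv D49077) (iv F219342)
theorem F228774 : act 1 n51105 = n49766 := d15_1 D51105 (iv D49766) (iv F219343)
theorem F228775 : act 2 n51105 = n49027 := d22_1 D51105 (iv D49027) (iv F219344)
theorem F228776 : act 4 n51105 = n49765 := d33_1 D51105 (iv D49765) (iv F219346)
theorem F228777 : act 5 n51105 = n50117 := d37_1 D51105 (iv D50117) (iv F219347)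
theorem F228778 : act 7 n51105 = n51105 := d42_1 D51105 (iv D51105) F219348
theorem F228779 : act 9 n51105 = n49039 := d44_2 D49025 D51105 (iv D49039) (iv D46864) (iv F209530)
def n51106 : Q := act 8 n49026
theorem D51106 : act 8 n49026 = n51106 := rfl
theorem F228780 : act 0 n51106 = n49080 := d7_1 D51106 (iv D49080) (iv F219349)
theorem F228781 : act 1 n51106 = n49728 := d15_1 D51106 (iv D49728) (iv F219350)
theorem F228782 : act 2 n51106 = n49765 := d22_1 D51106 (iv D49765) (iv F219351)
theorem F228783 : act 4 n51106 = n49027 := d33_1 D51106 (iv D49027) (iv F219353)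
theorem F228784 : act 5 n51106 = n50543 := d37_1 D51106 (iv D50543) (iv F219354)
theorem F228785 : act 7 n51106 = n51106 := d42_1 D51106 (iv D51106) F219355
theorem F228786 : act 9 n51106 = n49042 := d44_2 D49026 D51106 (iv D49042) (iv D46866) (iv F209538)
def n51107 : Q := act 3 n49028
theorem D51107 : act 3 n49028 = n51107 := rfl
theorem F228787 : act 0 n51107 = n49081 := d2_1 D51107 (iv D49081) (iv F219361)
theorem F228788 : act 2 n51107 = n50803 := d17_1 D51107 F226920 F217338 F209663 (iv F219362)
theorem F228789 : act 5 n51107 = n51107 := d25_2 F219364 D51107 (iv D51107)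
theorem F228790 : act 6 n51107 = n49029 := d26_2 (iv F219365) D51107 (iv D49029)
theorem F228791 : act 7 n51107 = n50118 := d27_2 (iv F219366) D51107 (iv D50118)
def n51108 : Q := act 9 n49028
theorem D51108 : act 9 n49028 = n51108 := rfl
theorem F228792 : act 0 n51108 = n49082 := d8_1 D51108 (iv D49082) (iv F219361)
theorem F228793 : act 2 n51108 = n49052 := d23_1 D51108 (iv D49052) (iv F219362)
theorem F228794 : act 4 n51108 = n50759 := d34_1 D51108 (iv D50759) (iv F219363)
theorem F228795 : act 5 n51108 = n51108 := d38_1 D51108 (iv D51108) F219364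
theorem F228796 : act 6 n51108 = n49030 := d41_1 D51108 (iv D49030) (iv F219365)
theorem F228797 : act 7 n51108 = n50119 := d43_1 D51108 (iv D50119) (iv F219366)
theorem F228798 : act 8 n51108 = n50708 := d44_1 D51108 (iv D50708) F216703 (iv F209547) D49028
def n51109 : Q := act 4 n49029
theorem D51109 : act 4 n49029 = n51109 := rfl
theorem F228799 : act 0 n51109 = n49084 := d3_1 D51109 (iv D49084) (iv F219367)
theorem F228800 : act 2 n51109 = n50662 := d18_1 D51109 F226406 (iv F219368)
theorem F228801 : act 3 n51109 = n50429 := d24_1 D51109 F225690 F215839 (iv F209550) D49029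
theorem F228802 : act 5 n51109 = n50428 := d30_2 (iv F219369) D51109 F225688 F215919 (iv F209563)
theorem F228803 : act 7 n51109 = n49032 := d32_2 (iv F219370) D51109 (iv D49032)
def n51110 : Q := act 9 n49029
theorem D51110 : act 9 n49029 = n51110 := rfl
theorem F228804 : act 0 n51110 = n49085 := d8_1 D51110 (iv D49085) (iv F219367)
theorem F228805 : act 2 n51110 = n50805 := d23_1 D51110 (iv D50805) (iv F219368)
theorem F228806 : act 3 n51110 = n49030 := d29_1 D51110 (iv D49030) D49029
theorem F228807 : act 5 n51110 = n49034 := d38_1 D51110 (iv D49034) (iv F219369)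
theorem F228808 : act 7 n51110 = n49033 := d43_1 D51110 (iv D49033) (iv F219370)
def n51111 : Q := act 4 n49031
theorem D51111 : act 4 n49031 = n51111 := rfl
theorem F228809 : act 0 n51111 = n49087 := d3_1 D51111 (iv D49087) (iv F219377)
theorem F228810 : act 1 n51111 = n50743 := d11_1 D51111 F226651 F219382
theorem F228811 : act 2 n51111 = n49032 := d18_1 D51111 (iv D49032) D49031
theorem F228812 : act 3 n51111 = n50650 := d24_1 D51111 F226378 F216616 (iv F209672) (iv F219378)
theorem F228813 : act 5 n51111 = n50649 := d30_2 (iv F219379) D51111 F226375 F216720 F209576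
theorem F228814 : act 6 n51111 = n50124 := d31_2 (iv F219380) D51111 (iv D50124)
theorem F228815 : act 7 n51111 = n50662 := d32_2 (iv F219381) D51111 F226406
def n51112 : Q := act 9 n49031
theorem D51112 : act 9 n49031 = n51112 := rfl
theorem F228816 : act 0 n51112 = n49088 := d8_1 D51112 (iv D49088) (iv F219377)
theorem F228817 : act 1 n51112 = n50715 := d16_1 D51112 F226555 F219382
theorem F228818 : act 2 n51112 = n49033 := d23_1 D51112 (iv D49033) D49031
theorem F228819 : act 3 n51112 = n49053 := d29_1 D51112 (iv D49053) (iv F219378)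
theorem F228820 : act 5 n51112 = n49035 := d38_1 D51112 (iv D49035) (iv F219379)
theorem F228821 : act 6 n51112 = n50125 := d41_1 D51112 (iv D50125) (iv F219380)
theorem F228822 : act 7 n51112 = n50805 := d43_1 D51112 (iv D50805) (iv F219381)
def n51113 : Q := act 5 n49032
theorem D51113 : act 5 n49032 = n51113 := rfl
theorem F228823 : act 0 n51113 = n49089 := d4_1 D51113 (iv D49089) (iv F219383)
theorem F228824 : act 2 n51113 = n50649 := d19_1 D51113 (iv F228813) F228811
theorem F228825 : act 3 n51113 = n50421 := d25_1 D51113 (iv F227808) F227807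
theorem F228826 : act 4 n51113 = n49036 := d30_1 D51113 (iv D49036) (iv D46862) (iv F209554) D49032
theorem F228827 : act 7 n51113 = n50428 := d36_2 F228803 D51113 (iv F228802)
def n51114 : Q := act 9 n49032
theorem D51114 : act 9 n49032 = n51114 := rfl
theorem F228828 : act 0 n51114 = n49090 := d8_1 D51114 (iv D49090) (iv F219383)
theorem F228829 : act 4 n51114 = n49033 := d34_1 D51114 (iv D49033) D49032
theorem F228830 : act 6 n51114 = n50127 := d41_1 D51114 (iv D50127) (iv F219384)
def n51115 : Q := act 8 n49033
theorem D51115 : act 8 n49033 = n51115 := rfl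
theorem F228831 : act 0 n51115 = n49091 := d7_1 D51115 (iv D49091) (iv F219385)
theorem F228832 : act 3 n51115 = n50697 := d28_1 D51115 (iv D50697) F216661 (iv F209560) (iv F219386)
theorem F228833 : act 5 n51115 = n49038 := d37_1 D51115 (iv D49038) (iv F219387)
theorem F228834 : act 6 n51115 = n50128 := d40_1 D51115 (iv D50128) (iv F219388)
def n51116 : Q := act 8 n49034
theorem D51116 : act 8 n49034 = n51116 := rfl
theorem F228835 : act 0 n51116 = n49096 := d7_1 D51116 (iv D49096) (iv F219389)
theorem F228836 : act 2 n51116 = n50807 := d22_1 D51116 (iv D50807) (iv F219390)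
theorem F228837 : act 3 n51116 = n50707 := d28_1 D51116 (iv D50707) F216696 (iv F209571) (iv F219391)
theorem F228838 : act 4 n51116 = n50767 := d33_1 D51116 (iv D50767) (iv F219392)
theorem F228839 : act 6 n51116 = n51116 := d40_1 D51116 (iv D51116) F219393
theorem F228840 : act 7 n51116 = n49038 := d42_1 D51116 (iv D49038) (iv F219394)
def n51117 : Q := act 8 n49035
theorem D51117 : act 8 n49035 = n51117 := rfl
theorem F228841 : act 0 n51117 = n49102 := d7_1 D51117 (iv D49102) (iv F219395)
theorem F228842 : act 1 n51117 = n50695 := d15_1 D51117 F226497 (iv F219396)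
theorem F228843 : act 2 n51117 = n49038 := d22_1 D51117 (iv D49038) (iv F219397)
theorem F228844 : act 4 n51117 = n50690 := d33_1 D51117 F226484 (iv F219399)
theorem F228845 : act 6 n51117 = n49039 := d40_1 D51117 (iv D49039) (iv F219400)
theorem F228846 : act 7 n51117 = n50807 := d42_1 D51117 (iv D50807) (iv F219401)
def n51118 : Q := act 6 n49036
theorem D51118 : act 6 n49036 = n51118 := rfl
theorem F228847 : act 0 n51118 = n49103 := d5_1 D51118 (iv D49103) (iv F219402)
theorem F228848 : act 1 n51118 = n49640 := d13_1 D51118 (iv F228656) F228653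
theorem F228849 : act 2 n51118 = n49956 := d20_1 D51118 F223810 (iv F219403)
theorem F228850 : act 3 n51118 = n49043 := d26_1 D51118 (iv D49043) (iv F219404)
theorem F228851 : act 5 n51118 = n49040 := d35_1 D51118 (iv D49040) (iv D46865) (iv F209581) D49036
theorem F228852 : act 8 n51118 = n50537 := d40_2 F228761 D51118 (iv F228759)
def n51119 : Q := act 9 n49036
theorem D51119 : act 9 n49036 = n51119 := rfl
theorem F228853 : act 0 n51119 = n49104 := d8_1 D51119 (iv D49104) (iv F219402)
theorem F228854 : act 2 n51119 = n50709 := d23_1 D51119 (iv D50709) (iv F219403)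
theorem F228855 : act 3 n51119 = n49044 := d29_1 D51119 (iv D49044) (iv F219404)
theorem F228856 : act 5 n51119 = n49037 := d38_1 D51119 (iv D49037) D49036
theorem F228857 : act 7 n51119 = n50469 := d43_1 D51119 (iv D50469) (iv F219405)
def n51120 : Q := act 8 n49037
theorem D51120 : act 8 n49037 = n51120 := rfl
theorem F228858 : act 0 n51120 = n49105 := d7_1 D51120 (iv D49105) (iv F219406)
theorem F228859 : act 2 n51120 = n50690 := d22_1 D51120 F226484 (iv F219407)
theorem F228860 : act 4 n51120 = n49038 := d33_1 D51120 (iv D49038) (iv F219409)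
theorem F228861 : act 6 n51120 = n49042 := d40_1 D51120 (iv D49042) (iv F219410)
theorem F228862 : act 7 n51120 = n50767 := d42_1 D51120 (iv D50767) (iv F219411)
def n51121 : Q := act 3 n49039
theorem D51121 : act 3 n49039 = n51121 := rfl
theorem F228863 : act 0 n51121 = n49112 := d2_1 D51121 (iv D49112) (iv F219415)
theorem F228864 : act 1 n51121 = n50706 := d10_1 D51121 F226528 (iv F219416)
theorem F228865 : act 2 n51121 = n50705 := d17_1 D51121 (iv D50705) F216689 (iv F209606) (iv F219417)
theorem F228866 : act 4 n51121 = n50702 := d24_2 (iv F219418) D51121 (iv D50702) F216678 D48519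
theorem F228867 : act 5 n51121 = n50143 := d25_2 (iv F219419) D51121 (iv D50143)
theorem F228868 : act 7 n51121 = n51121 := d27_2 F219420 D51121 (iv D51121)
theorem F228869 : act 8 n51121 = n49056 := d28_2 D49039 D51121 (iv D49056) (iv D46883) (iv F209589)
def n51122 : Q := act 7 n49040
theorem D51122 : act 7 n49040 = n51122 := rfl
theorem F228870 : act 0 n51122 = n49113 := d6_1 D51122 (iv D49113) (iv F219421)
theorem F228871 : act 1 n51122 = n49638 := d14_1 D51122 F222380 (iv F219422)
theorem F228872 : act 2 n51122 = n49963 := d21_1 D51122 F223843 (iv F219423)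
theorem F228873 : act 3 n51122 = n49046 := d27_1 D51122 (iv D49046) (iv F219424)
theorem F228874 : act 4 n51122 = n49627 := d32_1 D51122 F222320 (iv F219425)
theorem F228875 : act 6 n51122 = n51122 := d39_1 D51122 (iv D51122) (iv D49040) F209598 D49040
theorem F228876 : act 8 n51122 = n50529 := d42_2 (iv F219426) D51122 F225980
def n51123 : Q := act 9 n49040
theorem D51123 : act 9 n49040 = n51123 := rfl
theorem F228877 : act 0 n51123 = n49114 := d8_1 D51123 (iv D49114) (iv F219421)
theorem F228878 : act 1 n51123 = n49641 := d16_1 D51123 (iv D49641) (iv F219422)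
theorem F228879 : act 2 n51123 = n49916 := d23_1 D51123 F223567 (iv F219423)
theorem F228880 : act 3 n51123 = n49047 := d29_1 D51123 (iv D49047) (iv F219424)
theorem F228881 : act 4 n51123 = n49630 := d34_1 D51123 (iv D49630) (iv F219425)
theorem F228882 : act 6 n51123 = n49041 := d41_1 D51123 (iv D49041) D49040
def n51124 : Q := act 8 n49041
theorem D51124 : act 8 n49041 = n51124 := rfl
theorem F228883 : act 0 n51124 = n49115 := d7_1 D51124 (iv D49115) (iv F219427)
theorem F228884 : act 1 n51124 = n49643 := d15_1 D51124 (iv D49643) (iv F219428)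
theorem F228885 : act 2 n51124 = n49868 := d22_1 D51124 F223351 (iv F219429)
theorem F228886 : act 4 n51124 = n49632 := d33_1 D51124 (iv D49632) (iv F219431)
theorem F228887 : act 5 n51124 = n49042 := d37_1 D51124 (iv D49042) (iv F219432)
theorem F228888 : act 7 n51124 = n51124 := d42_1 D51124 (iv D51124) F219433
theorem F228889 : act 9 n51124 = n50543 := d44_2 D49041 D51124 (iv D50543) (iv D48367) (iv F209599)
def n51125 : Q := act 3 n49042
theorem D51125 : act 3 n49042 = n51125 := rfl
theorem F228890 : act 0 n51125 = n49116 := d2_1 D51125 (iv D49116) (iv F219434)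
theorem F228891 : act 2 n51125 = n50244 := d17_1 D51125 (iv D50244) F215045 D48519 (iv F219435)
theorem F228892 : act 4 n51125 = n49876 := d24_2 (iv F219436) D51125 (iv D49876) F213152 (iv F209606)
theorem F228893 : act 7 n51125 = n51125 := d27_2 F219437 D51125 (iv D51125)
theorem F228894 : act 8 n51125 = n49049 := d28_2 D49042 D51125 (iv D49049) (iv D46873) (iv F209602)
def n51126 : Q := act 7 n49043
theorem D51126 : act 7 n49043 = n51126 := rfl
theorem F228895 : act 0 n51126 = n49120 := d6_1 D51126 (iv D49120) (iv F219438)
theorem F228896 : act 1 n51126 = n49421 := d14_1 D51126 F221416 (iv F219439)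
theorem F228897 : act 2 n51126 = n49434 := d21_1 D51126 F221482 (iv F219440)
theorem F228898 : act 4 n51126 = n49420 := d32_1 D51126 F221410 (iv F219441)
theorem F228899 : act 5 n51126 = n49046 := d36_1 D51126 (iv D49046) (iv F219442)
theorem F228900 : act 6 n51126 = n49588 := d39_1 D51126 F222107 F211960 (iv F209612) D49043
theorem F228901 : act 8 n51126 = n51126 := d42_2 F219443 D51126 (iv D51126)
def n51127 : Q := act 9 n49043
theorem D51127 : act 9 n49043 = n51127 := rfl
theorem F228902 : act 0 n51127 = n49121 := d8_1 D51127 (iv D49121) (iv F219438)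
theorem F228903 : act 1 n51127 = n49646 := d16_1 D51127 (iv D49646) (iv F219439)
theorem F228904 : act 2 n51127 = n49922 := d23_1 D51127 F223605 (iv F219440)
theorem F228905 : act 4 n51127 = n50460 := d34_1 D51127 (iv D50460) (iv F219441)
theorem F228906 : act 5 n51127 = n49047 := d38_1 D51127 (iv D49047) (iv F219442)
theorem F228907 : act 6 n51127 = n49044 := d41_1 D51127 (iv D49044) D49043
def n51128 : Q := act 8 n49044
theorem D51128 : act 8 n49044 = n51128 := rfl
theorem F228908 : act 0 n51128 = n49122 := d7_1 D51128 (iv D49122) (iv F219444)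
theorem F228909 : act 2 n51128 = n50278 := d22_1 D51128 F225214 (iv F219445)
theorem F228910 : act 4 n51128 = n50463 := d33_1 D51128 (iv D50463) (iv F219446)
theorem F228911 : act 5 n51128 = n49045 := d37_1 D51128 (iv D49045) (iv F219447)
theorem F228912 : act 7 n51128 = n50470 := d42_1 D51128 (iv D50470) (iv F219448)
theorem F228913 : act 9 n51128 = n51128 := d44_2 D49044 D51128 (iv D51128) (iv D49044) F209613
def n51129 : Q := act 3 n49045
theorem D51129 : act 3 n49045 = n51129 := rfl
theorem F228914 : act 0 n51129 = n49123 := d2_1 D51129 (iv D49123) (iv F219449)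
theorem F228915 : act 2 n51129 = n50272 := d17_1 D51129 (iv D50272) F215152 D48074 (iv F219450)
theorem F228916 : act 4 n51129 = n49887 := d24_2 (iv F219451) D51129 (iv D49887) F213184 (iv F209621)
theorem F228917 : act 6 n51129 = n49049 := d26_2 (iv F219452) D51129 (iv D49049)
theorem F228918 : act 7 n51129 = n50768 := d27_2 (iv F219453) D51129 (iv D50768)
theorem F228919 : act 9 n51129 = n51129 := d29_2 F219454 D51129 (iv D51129)
def n51130 : Q := act 9 n49046
theorem D51130 : act 9 n49046 = n51130 := rfl
theorem F228920 : act 0 n51130 = n49124 := d8_1 D51130 (iv D49124) (iv F219455)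
theorem F228921 : act 1 n51130 = n49644 := d16_1 D51130 (iv D49644) (iv F219456)
theorem F228922 : act 2 n51130 = n49924 := d23_1 D51130 F223615 (iv F219457)
theorem F228923 : act 4 n51130 = n49050 := d34_1 D51130 (iv D49050) (iv F219458)
theorem F228924 : act 6 n51130 = n51130 := d41_1 D51130 (iv D51130) F219459
theorem F228925 : act 7 n51130 = n49047 := d43_1 D51130 (iv D49047) D49046
def n51131 : Q := act 8 n49047
theorem D51131 : act 8 n49047 = n51131 := rfl
theorem F228926 : act 0 n51131 = n49125 := d7_1 D51131 (iv D49125) (iv F219461)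
theorem F228927 : act 1 n51131 = n49647 := d15_1 D51131 (iv D49647) (iv F219462)
theorem F228928 : act 2 n51131 = n49161 := d22_1 D51131 F220022 (iv F219463)
theorem F228929 : act 4 n51131 = n49051 := d33_1 D51131 (iv D49051) (iv F219464)
theorem F228930 : act 6 n51131 = n49048 := d40_1 D51131 (iv D49048) (iv F219465)
theorem F228931 : act 9 n51131 = n51131 := d44_2 D49047 D51131 (iv D51131) (iv D49047) F209630
def n51132 : Q := act 3 n49048
theorem D51132 : act 3 n49048 = n51132 := rfl
theorem F228932 : act 0 n51132 = n49126 := d2_1 D51132 (iv D49126) (iv F219466)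
theorem F228933 : act 1 n51132 = n49648 := d10_1 D51132 (iv D49648) (iv F219467)
theorem F228934 : act 2 n51132 = n49146 := d17_1 D51132 (iv D49146) F210009 D46970 (iv F219468)
theorem F228935 : act 4 n51132 = n49701 := d24_2 (iv F219469) D51132 (iv D49701) F212494 (iv F209653)
theorem F228936 : act 5 n51132 = n49049 := d25_2 (iv F219470) D51132 (iv D49049)
theorem F228937 : act 7 n51132 = n51132 := d27_2 F219471 D51132 (iv D51132)
theorem F228938 : act 9 n51132 = n51132 := d29_2 F219472 D51132 (iv D51132)
def n51133 : Q := act 8 n49050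
theorem D51133 : act 8 n49050 = n51133 := rfl
theorem F228939 : act 0 n51133 = n49128 := d7_1 D51133 (iv D49128) (iv F219478)
theorem F228940 : act 1 n51133 = n49645 := d15_1 D51133 (iv D49645) (iv F219479)
theorem F228941 : act 3 n51133 = n49703 := d28_1 D51133 (iv D49703) F212504 (iv F212235) (iv F219480)
theorem F228942 : act 5 n51133 = n50769 := d37_1 D51133 F227869 F227866
theorem F228943 : act 6 n51133 = n51133 := d40_1 D51133 (iv D51133) F219481
theorem F228944 : act 7 n51133 = n49051 := d42_1 D51133 (iv D49051) (iv F219482)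
theorem F228945 : act 9 n51133 = n51133 := d44_2 D49050 D51133 (iv D51133) (iv D49050) F209646
def n51134 : Q := act 8 n49053
theorem D51134 : act 8 n49053 = n51134 := rfl
theorem F228946 : act 0 n51134 = n49137 := d7_1 D51134 (iv D49137) (iv F219496)
theorem F228947 : act 1 n51134 = n50828 := d15_1 D51134 F227011 (iv F219497)
theorem F228948 : act 2 n51134 = n49054 := d22_1 D51134 (iv D49054) (iv F219498)
theorem F228949 : act 4 n51134 = n50817 := d33_1 D51134 (iv D50817) (iv F219499)
theorem F228950 : act 5 n51134 = n49055 := d37_1 D51134 (iv D49055) (iv F219500)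
theorem F228951 : act 6 n51134 = n50157 := d40_1 D51134 (iv D50157) (iv F219501)
theorem F228952 : act 7 n51134 = n50809 := d42_1 D51134 (iv D50809) (iv F219502)
theorem F228953 : act 9 n51134 = n51134 := d44_2 D49053 D51134 (iv D51134) (iv D49053) F209676
def n51135 : Q := act 3 n49055
theorem D51135 : act 3 n49055 = n51135 := rfl
theorem F228954 : act 0 n51135 = n49144 := d2_1 D51135 (iv D49144) (iv F219511)
theorem F228955 : act 1 n51135 = n50827 := d10_1 D51135 F227007 (iv F219512)
theorem F228956 : act 2 n51135 = n50835 := d17_1 D51135 (iv D50835) F217482 (iv F209693) (iv F219513)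
theorem F228957 : act 4 n51135 = n50823 := d24_2 (iv F219514) D51135 (iv D50823) F217417 (iv F217304)
theorem F228958 : act 6 n51135 = n49056 := d26_2 (iv F219515) D51135 (iv D49056)
theorem F228959 : act 7 n51135 = n50810 := d27_2 (iv F219516) D51135 (iv D50810)
theorem F228960 : act 9 n51135 = n51135 := d29_2 F219517 D51135 (iv D51135)
def n51136 : Q := act 3 n49057
theorem D51136 : act 3 n49057 = n51136 := rfl
theorem F228961 : act 1 n51136 = n49787 := d10_1 D51136 (iv D49787) (iv F219525)
theorem F228962 : act 5 n51136 = n51136 := d25_2 F219528 D51136 (iv D51136)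
theorem F228963 : act 6 n51136 = n50631 := d26_2 (iv F219529) D51136 F226322
theorem F228964 : act 7 n51136 = n49058 := d27_2 (iv F219530) D51136 (iv D49058)
theorem F228965 : act 8 n51136 = n50681 := d28_2 D49057 D51136 F226456 F216703 (iv F209707)
def n51137 : Q := act 9 n49057
theorem D51137 : act 9 n49057 = n51137 := rfl
theorem F228966 : act 1 n51137 = n49788 := d16_1 D51137 (iv D49788) (iv F219525)
theorem F228967 : act 2 n51137 = n51137 := d23_1 D51137 (iv D51137) F219526
theorem F228968 : act 4 n51137 = n49062 := d34_1 D51137 (iv D49062) (iv F219527)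
theorem F228969 : act 5 n51137 = n51137 := d38_1 D51137 (iv D51137) F219528
theorem F228970 : act 6 n51137 = n50842 := d41_1 D51137 (iv D50842) (iv F219529)
theorem F228971 : act 7 n51137 = n49059 := d43_1 D51137 (iv D49059) (iv F219530)
def n51138 : Q := act 2 n49058
theorem D51138 : act 2 n49058 = n51138 := rfl
theorem F228972 : act 0 n51138 = n50264 := d1_1 D51138 F228710 F228705
theorem F228973 : act 3 n51138 = n51138 := d17_2 D49058 D51138 (iv D51138) (iv D49058) F209712
theorem F228974 : act 5 n51138 = n51138 := d19_2 F219532 D51138 (iv D51138)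
theorem F228975 : act 6 n51138 = n50168 := d20_2 (iv F219533) D51138 (iv D50168)
theorem F228976 : act 8 n51138 = n50155 := d22_2 (iv F219534) D51138 F224729
def n51139 : Q := act 4 n49058
theorem D51139 : act 4 n49058 = n51139 := rfl
theorem F228977 : act 1 n51139 = n49790 := d11_1 D51139 (iv D49790) (iv F219531)
theorem F228978 : act 3 n51139 = n49064 := d24_1 D51139 (iv D49064) (iv D46888) (iv F209713) D49058
theorem F228979 : act 6 n51139 = n50169 := d31_2 (iv F219533) D51139 (iv D50169)
theorem F228980 : act 8 n51139 = n50653 := d33_2 (iv F219534) D51139 F226386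
def n51140 : Q := act 9 n49058
theorem D51140 : act 9 n49058 = n51140 := rfl
theorem F228981 : act 1 n51140 = n49791 := d16_1 D51140 (iv D49791) (iv F219531)
theorem F228982 : act 3 n51140 = n49059 := d29_1 D51140 (iv D49059) D49058
theorem F228983 : act 5 n51140 = n51140 := d38_1 D51140 (iv D51140) F219532
theorem F228984 : act 6 n51140 = n50170 := d41_1 D51140 (iv D50170) (iv F219533)
def n51141 : Q := act 3 n49060
theorem D51141 : act 3 n49060 = n51141 := rfl
theorem F228985 : act 1 n51141 = n49792 := d10_1 D51141 (iv D49792) (iv F219540)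
theorem F228986 : act 5 n51141 = n51141 := d25_2 F219543 D51141 (iv D51141)
theorem F228987 : act 6 n51141 = n49061 := d26_2 (iv F219544) D51141 (iv D49061)
theorem F228988 : act 7 n51141 = n50171 := d27_2 (iv F219545) D51141 (iv D50171)
theorem F228989 : act 8 n51141 = n49081 := d28_2 D49060 D51141 (iv D49081) (iv D46901) (iv F209718)
def n51142 : Q := act 9 n49060
theorem D51142 : act 9 n49060 = n51142 := rfl
theorem F228990 : act 1 n51142 = n49793 := d16_1 D51142 (iv D49793) (iv F219540)
theorem F228991 : act 2 n51142 = n51142 := d23_1 D51142 (iv D51142) F219541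
theorem F228992 : act 4 n51142 = n50842 := d34_1 D51142 (iv D50842) (iv F219542)
theorem F228993 : act 5 n51142 = n51142 := d38_1 D51142 (iv D51142) F219543
theorem F228994 : act 6 n51142 = n49062 := d41_1 D51142 (iv D49062) (iv F219544)
theorem F228995 : act 7 n51142 = n50172 := d43_1 D51142 (iv D50172) (iv F219545)
def n51143 : Q := act 2 n49061
theorem D51143 : act 2 n49061 = n51143 := rfl
theorem F228996 : act 0 n51143 = n50804 := d1_1 D51143 F228722 F228718
theorem F228997 : act 3 n51143 = n51143 := d17_2 D49061 D51143 (iv D51143) (iv D49061) F209723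
theorem F228998 : act 5 n51143 = n49066 := d19_2 (iv F219547) D51143 (iv D49066)
theorem F228999 : act 7 n51143 = n49063 := d21_2 (iv F219548) D51143 (iv D49063)
theorem F229000 : act 8 n51143 = n49083 := d22_2 (iv F219549) D51143 (iv D49083)
def n51144 : Q := act 4 n49061
theorem D51144 : act 4 n49061 = n51144 := rfl
theorem F229001 : act 1 n51144 = n49795 := d11_1 D51144 (iv D49795) (iv F219546)
theorem F229002 : act 7 n51144 = n49064 := d32_2 (iv F219548) D51144 (iv D49064)
theorem F229003 : act 8 n51144 = n49084 := d33_2 (iv F219549) D51144 (iv D49084)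
def n51145 : Q := act 9 n49061
theorem D51145 : act 9 n49061 = n51145 := rfl
theorem F229004 : act 1 n51145 = n49796 := d16_1 D51145 (iv D49796) (iv F219546)
theorem F229005 : act 3 n51145 = n49062 := d29_1 D51145 (iv D49062) D49061
theorem F229006 : act 5 n51145 = n49068 := d38_1 D51145 (iv D49068) (iv F219547)
theorem F229007 : act 7 n51145 = n49065 := d43_1 D51145 (iv D49065) (iv F219548)
def n51146 : Q := act 1 n49063
theorem D51146 : act 1 n49063 = n51146 := rfl
theorem F229008 : act 0 n51146 = n49853 := d0_1 D51146 F223299 (iv F222937) (iv F228729) F228728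
theorem F229009 : act 2 n51146 = n49797 := d9_2 D49063 D51146 (iv D49797) (iv D47574) (iv F209726)
theorem F229010 : act 3 n51146 = n51146 := d10_2 F219554 D51146 (iv D51146)
theorem F229011 : act 5 n51146 = n49069 := d12_2 (iv F219555) D51146 (iv D49069)
theorem F229012 : act 6 n51146 = n50176 := d13_2 (iv F219556) D51146 (iv D50176)
theorem F229013 : act 8 n51146 = n49086 := d15_2 (iv F219557) D51146 (iv D49086)
def n51147 : Q := act 4 n49063
theorem D51147 : act 4 n49063 = n51147 := rfl
theorem F229014 : act 2 n51147 = n49064 := d18_1 D51147 (iv D49064) D49063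
theorem F229015 : act 6 n51147 = n50177 := d31_2 (iv F219556) D51147 (iv D50177)
theorem F229016 : act 8 n51147 = n49087 := d33_2 (iv F219557) D51147 (iv D49087)
def n51148 : Q := act 9 n49063
theorem D51148 : act 9 n49063 = n51148 := rfl
theorem F229017 : act 2 n51148 = n49065 := d23_1 D51148 (iv D49065) D49063
theorem F229018 : act 3 n51148 = n51148 := d29_1 D51148 (iv D51148) F219554
theorem F229019 : act 5 n51148 = n49071 := d38_1 D51148 (iv D49071) (iv F219555)
theorem F229020 : act 6 n51148 = n50178 := d41_1 D51148 (iv D50178) (iv F219556)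
def n51149 : Q := act 5 n49064
theorem D51149 : act 5 n49064 = n51149 := rfl
theorem F229021 : act 1 n51149 = n49800 := d12_1 D51149 (iv D49800) (iv F219558)
theorem F229022 : act 4 n51149 = n49072 := d30_1 D51149 (iv D49072) (iv D46893) (iv F209727) D49064
theorem F229023 : act 8 n51149 = n49089 := d37_2 (iv F219560) D51149 (iv D49089)
def n51150 : Q := act 9 n49064
theorem D51150 : act 9 n49064 = n51150 := rfl
theorem F229024 : act 1 n51150 = n49801 := d16_1 D51150 (iv D49801) (iv F219558)
theorem F229025 : act 4 n51150 = n49065 := d34_1 D51150 (iv D49065) D49064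
theorem F229026 : act 6 n51150 = n50180 := d41_1 D51150 (iv D50180) (iv F219559)
def n51151 : Q := act 8 n49065
theorem D51151 : act 8 n49065 = n51151 := rfl
theorem F229027 : act 1 n51151 = n49802 := d15_1 D51151 (iv D49802) (iv F219561)
theorem F229028 : act 5 n51151 = n49074 := d37_1 D51151 (iv D49074) (iv F219563)
theorem F229029 : act 6 n51151 = n50181 := d40_1 D51151 (iv D50181) (iv F219564)
theorem F229030 : act 9 n51151 = n49091 := d44_2 D49065 D51151 (iv D49091) (iv D46906) (iv F209729)
def n51152 : Q := act 1 n49066
theorem D51152 : act 1 n49066 = n51152 := rfl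
theorem F229031 : act 0 n51152 = n49844 := d0_1 D51152 F223268 (iv F222909) F222910 (iv F219565)
theorem F229032 : act 2 n51152 = n49803 := d9_2 D49066 D51152 (iv D49803) (iv D47577) (iv F209734)
theorem F229033 : act 3 n51152 = n51152 := d10_2 F219566 D51152 (iv D51152)
theorem F229034 : act 4 n51152 = n49843 := d11_2 F219570 D51152 F223263
theorem F229035 : act 6 n51152 = n51152 := d13_2 F219567 D51152 (iv D51152)
theorem F229036 : act 7 n51152 = n49069 := d14_2 (iv F219568) D51152 (iv D49069)
theorem F229037 : act 8 n51152 = n49092 := d15_2 (iv F219569) D51152 (iv D49092)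
def n51153 : Q := act 9 n49066
theorem D51153 : act 9 n49066 = n51153 := rfl
theorem F229038 : act 0 n51153 = n50806 := d8_1 D51153 (iv D50806) (iv F219565)
theorem F229039 : act 2 n51153 = n49068 := d23_1 D51153 (iv D49068) D49066
theorem F229040 : act 3 n51153 = n51153 := d29_1 D51153 (iv D51153) F219566
theorem F229041 : act 4 n51153 = n50794 := d34_1 D51153 (iv D50794) F219570
theorem F229042 : act 6 n51153 = n51153 := d41_1 D51153 (iv D51153) F219567
theorem F229043 : act 7 n51153 = n49071 := d43_1 D51153 (iv D49071) (iv F219568)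
def n51154 : Q := act 5 n49067
theorem D51154 : act 5 n49067 = n51154 := rfl
theorem F229044 : act 0 n51154 = n50468 := d4_1 D51154 F225791 (iv F219571)
theorem F229045 : act 1 n51154 = n49806 := d12_1 D51154 (iv D49806) (iv F219572)
theorem F229046 : act 2 n51154 = n50592 := d19_1 D51154 F226202 (iv F219573)
theorem F229047 : act 3 n51154 = n51154 := d25_1 D51154 (iv D51154) F219574
theorem F229048 : act 7 n51154 = n49072 := d36_2 (iv F219576) D51154 (iv D49072)
theorem F229049 : act 8 n51154 = n49094 := d37_2 (iv F219577) D51154 (iv D49094)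
def n51155 : Q := act 9 n49067
theorem D51155 : act 9 n49067 = n51155 := rfl
theorem F229050 : act 0 n51155 = n50766 := d8_1 D51155 (iv D50766) (iv F219571)
theorem F229051 : act 1 n51155 = n49807 := d16_1 D51155 (iv D49807) (iv F219572)
theorem F229052 : act 2 n51155 = n50794 := d23_1 D51155 (iv D50794) (iv F219573)
theorem F229053 : act 3 n51155 = n51155 := d29_1 D51155 (iv D51155) F219574
theorem F229054 : act 4 n51155 = n49068 := d34_1 D51155 (iv D49068) D49067
theorem F229055 : act 6 n51155 = n51155 := d41_1 D51155 (iv D51155) F219575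
theorem F229056 : act 7 n51155 = n49073 := d43_1 D51155 (iv D49073) (iv F219576)
def n51156 : Q := act 8 n49068
theorem D51156 : act 8 n49068 = n51156 := rfl
theorem F229057 : act 1 n51156 = n49808 := d15_1 D51156 (iv D49808) (iv F219578)
theorem F229058 : act 6 n51156 = n51156 := d40_1 D51156 (iv D51156) F219580
theorem F229059 : act 7 n51156 = n49074 := d42_1 D51156 (iv D49074) (iv F219581)
theorem F229060 : act 9 n51156 = n49096 := d44_2 D49068 D51156 (iv D49096) (iv D46909) (iv F209737)
def n51157 : Q := act 9 n49069
theorem D51157 : act 9 n49069 = n51157 := rfl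
theorem F229061 : act 0 n51157 = n49854 := d8_1 D51157 (iv D49854) (iv F219582)
theorem F229062 : act 1 n51157 = n49071 := d16_1 D51157 (iv D49071) D49069
theorem F229063 : act 2 n51157 = n49809 := d23_1 D51157 (iv D49809) (iv F219583)
theorem F229064 : act 3 n51157 = n51157 := d29_1 D51157 (iv D51157) F219584
theorem F229065 : act 4 n51157 = n49852 := d34_1 D51157 (iv D49852) F219587
theorem F229066 : act 6 n51157 = n49075 := d41_1 D51157 (iv D49075) (iv F219585)
def n51158 : Q := act 5 n49070
theorem D51158 : act 5 n49070 = n51158 := rfl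
theorem F229067 : act 0 n51158 = n49748 := d4_1 D51158 F222888 (iv F219588)
theorem F229068 : act 1 n51158 = n49833 := d12_1 D51158 F223239 (iv F219589)
theorem F229069 : act 2 n51158 = n49072 := d19_1 D51158 (iv D49072) (iv F219590)
theorem F229070 : act 3 n51158 = n49780 := d25_1 D51158 F223034 F219594
theorem F229071 : act 6 n51158 = n50573 := d35_2 (iv F219591) D51158 F226140 F216375 F209766
theorem F229072 : act 7 n51158 = n50592 := d36_2 (iv F219592) D51158 F226202
theorem F229073 : act 8 n51158 = n49100 := d37_2 (iv F219593) D51158 (iv D49100)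
def n51159 : Q := act 9 n49070
theorem D51159 : act 9 n49070 = n51159 := rfl
theorem F229074 : act 0 n51159 = n49759 := d8_1 D51159 (iv D49759) (iv F219588)
theorem F229075 : act 1 n51159 = n49852 := d16_1 D51159 (iv D49852) (iv F219589)
theorem F229076 : act 2 n51159 = n49073 := d23_1 D51159 (iv D49073) (iv F219590)
theorem F229077 : act 3 n51159 = n49785 := d29_1 D51159 (iv D49785) F219594
theorem F229078 : act 4 n51159 = n49071 := d34_1 D51159 (iv D49071) D49070
theorem F229079 : act 6 n51159 = n49076 := d41_1 D51159 (iv D49076) (iv F219591)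
theorem F229080 : act 7 n51159 = n50794 := d43_1 D51159 (iv D50794) (iv F219592)
def n51160 : Q := act 8 n49071
theorem D51160 : act 8 n49071 = n51160 := rfl
theorem F229081 : act 2 n51160 = n49074 := d22_1 D51160 (iv D49074) (iv F219595)
theorem F229082 : act 6 n51160 = n49077 := d40_1 D51160 (iv D49077) (iv F219597)
theorem F229083 : act 9 n51160 = n49102 := d44_2 D49071 D51160 (iv D49102) (iv D46912) (iv F209745)
def n51161 : Q := act 6 n49072
theorem D51161 : act 6 n49072 = n51161 := rfl
theorem F229084 : act 0 n51161 = n50537 := d5_1 D51161 (iv F228759) F228755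
theorem F229085 : act 1 n51161 = n49813 := d13_1 D51161 (iv D49813) (iv F219598)
theorem F229086 : act 2 n51161 = n50573 := d20_1 D51161 (iv F229071) F229069
theorem F229087 : act 3 n51161 = n51161 := d26_1 D51161 (iv D51161) F219599
theorem F229088 : act 5 n51161 = n49078 := d35_1 D51161 (iv D49078) (iv D46898) (iv F209748) D49072
theorem F229089 : act 8 n51161 = n49103 := d40_2 (iv F219600) D51161 (iv D49103)
def n51162 : Q := act 9 n49072
theorem D51162 : act 9 n49072 = n51162 := rfl
theorem F229090 : act 1 n51162 = n49814 := d16_1 D51162 (iv D49814) (iv F219598)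
theorem F229091 : act 3 n51162 = n51162 := d29_1 D51162 (iv D51162) F219599
theorem F229092 : act 5 n51162 = n49073 := d38_1 D51162 (iv D49073) D49072
def n51163 : Q := act 8 n49073
theorem D51163 : act 8 n49073 = n51163 := rfl
theorem F229093 : act 1 n51163 = n49815 := d15_1 D51163 (iv D49815) (iv F219601)
theorem F229094 : act 4 n51163 = n49074 := d33_1 D51163 (iv D49074) (iv F219603)
theorem F229095 : act 6 n51163 = n49080 := d40_1 D51163 (iv D49080) (iv F219604)
theorem F229096 : act 9 n51163 = n49105 := d44_2 D49073 D51163 (iv D49105) (iv D46914) (iv F209749)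
def n51164 : Q := act 8 n49075
theorem D51164 : act 8 n49075 = n51164 := rfl
theorem F229097 : act 0 n51164 = n49867 := d7_1 D51164 (iv D49867) (iv F219608)
theorem F229098 : act 1 n51164 = n49077 := d15_1 D51164 (iv D49077) (iv F219609)
theorem F229099 : act 2 n51164 = n49816 := d22_1 D51164 (iv D49816) (iv F219610)
theorem F229100 : act 4 n51164 = n49864 := d33_1 D51164 (iv D49864) (iv F219612)
theorem F229101 : act 5 n51164 = n50194 := d37_1 D51164 (iv D50194) (iv F219613)
theorem F229102 : act 7 n51164 = n51164 := d42_1 D51164 (iv D51164) F219614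
theorem F229103 : act 9 n51164 = n49108 := d44_2 D49075 D51164 (iv D49108) (iv D46918) (iv F209758)
def n51165 : Q := act 8 n49076
theorem D51165 : act 8 n49076 = n51165 := rfl
theorem F229104 : act 0 n51165 = n49765 := d7_1 D51165 (iv D49765) (iv F219615)
theorem F229105 : act 1 n51165 = n49864 := d15_1 D51165 (iv D49864) (iv F219616)
theorem F229106 : act 2 n51165 = n49080 := d22_1 D51165 (iv D49080) (iv F219617)
theorem F229107 : act 3 n51165 = n50634 := d28_1 D51165 (iv D50634) F216537 (iv F212941) (iv F219618)
theorem F229108 : act 4 n51165 = n49077 := d33_1 D51165 (iv D49077) (iv F219619)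
theorem F229109 : act 5 n51165 = n50585 := d37_1 D51165 (iv D50585) (iv F219620)
theorem F229110 : act 7 n51165 = n51165 := d42_1 D51165 (iv D51165) F219621
theorem F229111 : act 9 n51165 = n49111 := d44_2 D49076 D51165 (iv D49111) (iv D46920) (iv F209764)
def n51166 : Q := act 3 n49077
theorem D51166 : act 3 n49077 = n51166 := rfl
theorem F229112 : act 5 n51166 = n50196 := d25_2 (iv F219623) D51166 (iv D50196)
theorem F229113 : act 7 n51166 = n51166 := d27_2 F219624 D51166 (iv D51166)
theorem F229114 : act 8 n51166 = n51166 := d28_2 D49077 D51166 (iv D51166) (iv D49077) F209768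
theorem F229115 : act 9 n51166 = n49112 := d29_2 (iv F219625) D51166 (iv D49112)
def n51167 : Q := act 7 n49078
theorem D51167 : act 7 n49078 = n51167 := rfl
theorem F229116 : act 0 n51167 = n50529 := d6_1 D51167 F225980 (iv F219626)
theorem F229117 : act 1 n51167 = n49820 := d14_1 D51167 (iv D49820) (iv F219627)
theorem F229118 : act 2 n51167 = n50580 := d21_1 D51167 F226158 (iv F219628)
theorem F229119 : act 3 n51167 = n51167 := d27_1 D51167 (iv D51167) F219629
theorem F229120 : act 4 n51167 = n50197 := d32_1 D51167 (iv D50197) (iv F219630)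
theorem F229121 : act 6 n51167 = n51167 := d39_1 D51167 (iv D51167) (iv D49078) F209776 D49078
theorem F229122 : act 8 n51167 = n49113 := d42_2 (iv F219631) D51167 (iv D49113)
def n51168 : Q := act 9 n49078
theorem D51168 : act 9 n49078 = n51168 := rfl
theorem F229123 : act 0 n51168 = n50538 := d8_1 D51168 (iv D50538) (iv F219626)
theorem F229124 : act 1 n51168 = n49821 := d16_1 D51168 (iv D49821) (iv F219627)
theorem F229125 : act 2 n51168 = n50583 := d23_1 D51168 (iv D50583) (iv F219628)
theorem F229126 : act 3 n51168 = n51168 := d29_1 D51168 (iv D51168) F219629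
theorem F229127 : act 4 n51168 = n50198 := d34_1 D51168 (iv D50198) (iv F219630)
theorem F229128 : act 6 n51168 = n49079 := d41_1 D51168 (iv D49079) D49078
def n51169 : Q := act 8 n49079
theorem D51169 : act 8 n49079 = n51169 := rfl
theorem F229129 : act 0 n51169 = n50543 := d7_1 D51169 (iv D50543) (iv F219632)
theorem F229130 : act 1 n51169 = n49822 := d15_1 D51169 (iv D49822) (iv F219633)
theorem F229131 : act 2 n51169 = n50585 := d22_1 D51169 (iv D50585) (iv F219634)
theorem F229132 : act 4 n51169 = n50199 := d33_1 D51169 (iv D50199) (iv F219636)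
theorem F229133 : act 5 n51169 = n49080 := d37_1 D51169 (iv D49080) (iv F219637)
theorem F229134 : act 7 n51169 = n51169 := d42_1 D51169 (iv D51169) F219638
theorem F229135 : act 9 n51169 = n49115 := d44_2 D49079 D51169 (iv D49115) (iv D46923) (iv F209777)
def n51170 : Q := act 3 n49080
theorem D51170 : act 3 n49080 = n51170 := rfl
theorem F229136 : act 1 n51170 = n49823 := d10_1 D51170 (iv D49823) (iv F219639)
theorem F229137 : act 7 n51170 = n51170 := d27_2 F219641 D51170 (iv D51170)
theorem F229138 : act 8 n51170 = n51170 := d28_2 D49080 D51170 (iv D51170) (iv D49080) F209779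
theorem F229139 : act 9 n51170 = n49116 := d29_2 (iv F219642) D51170 (iv D49116)
def n51171 : Q := act 4 n49081
theorem D51171 : act 4 n49081 = n51171 := rfl
theorem F229140 : act 1 n51171 = n49825 := d11_1 D51171 (iv D49825) (iv F219643)
theorem F229141 : act 6 n51171 = n49084 := d31_2 (iv F219645) D51171 (iv D49084)
theorem F229142 : act 7 n51171 = n50201 := d32_2 (iv F219646) D51171 (iv D50201)
def n51172 : Q := act 9 n49081
theorem D51172 : act 9 n49081 = n51172 := rfl
theorem F229143 : act 1 n51172 = n49826 := d16_1 D51172 (iv D49826) (iv F219643)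
theorem F229144 : act 3 n51172 = n49082 := d29_1 D51172 (iv D49082) D49081
theorem F229145 : act 5 n51172 = n51172 := d38_1 D51172 (iv D51172) F219644
theorem F229146 : act 6 n51172 = n49085 := d41_1 D51172 (iv D49085) (iv F219645)
theorem F229147 : act 7 n51172 = n50202 := d43_1 D51172 (iv D50202) (iv F219646)
def n51173 : Q := act 1 n49083
theorem D51173 : act 1 n49083 = n51173 := rfl
theorem F229148 : act 2 n51173 = n49827 := d9_2 D49083 D51173 (iv D49827) (iv D47595) (iv F209791)
theorem F229149 : act 3 n51173 = n49129 := d10_2 (iv F219653) D51173 (iv D49129)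
theorem F229150 : act 5 n51173 = n49092 := d12_2 (iv F219654) D51173 (iv D49092)
theorem F229151 : act 7 n51173 = n49086 := d14_2 (iv F219655) D51173 (iv D49086)
def n51174 : Q := act 4 n49083
theorem D51174 : act 4 n49083 = n51174 := rfl
theorem F229152 : act 0 n51174 = n50662 := d3_1 D51174 F226406 (iv F219652)
theorem F229153 : act 2 n51174 = n49084 := d18_1 D51174 (iv D49084) D49083
theorem F229154 : act 3 n51174 = n50071 := d24_1 D51174 (iv D50071) F214411 (iv F209941) (iv F219653)
theorem F229155 : act 5 n51174 = n50576 := d30_2 (iv F219654) D51174 F226146 F216428 F209811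
theorem F229156 : act 7 n51174 = n49087 := d32_2 (iv F219655) D51174 (iv D49087)
def n51175 : Q := act 9 n49083
theorem D51175 : act 9 n49083 = n51175 := rfl
theorem F229157 : act 0 n51175 = n50805 := d8_1 D51175 (iv D50805) (iv F219652)
theorem F229158 : act 2 n51175 = n49085 := d23_1 D51175 (iv D49085) D49083
theorem F229159 : act 3 n51175 = n49130 := d29_1 D51175 (iv D49130) (iv F219653)
theorem F229160 : act 5 n51175 = n49093 := d38_1 D51175 (iv D49093) (iv F219654)
theorem F229161 : act 7 n51175 = n49088 := d43_1 D51175 (iv D49088) (iv F219655)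
def n51176 : Q := act 5 n49084
theorem D51176 : act 5 n49084 = n51176 := rfl
theorem F229162 : act 0 n51176 = n50428 := d4_1 D51176 (iv F228802) F228799
theorem F229163 : act 1 n51176 = n49830 := d12_1 D51176 (iv D49830) (iv F219656)
theorem F229164 : act 2 n51176 = n50576 := d19_1 D51176 (iv F229155) F229153
theorem F229165 : act 3 n51176 = n50389 := d25_1 D51176 (iv F227953) F227952
theorem F229166 : act 4 n51176 = n49094 := d30_1 D51176 (iv D49094) (iv D46908) (iv F209792) D49084
theorem F229167 : act 7 n51176 = n49089 := d36_2 (iv F219657) D51176 (iv D49089)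
def n51177 : Q := act 9 n49084
theorem D51177 : act 9 n49084 = n51177 := rfl
theorem F229168 : act 1 n51177 = n49831 := d16_1 D51177 (iv D49831) (iv F219656)
theorem F229169 : act 4 n51177 = n49085 := d34_1 D51177 (iv D49085) D49084
theorem F229170 : act 7 n51177 = n49090 := d43_1 D51177 (iv D49090) (iv F219657)
def n51178 : Q := act 8 n49085
theorem D51178 : act 8 n49085 = n51178 := rfl
theorem F229171 : act 1 n51178 = n49832 := d15_1 D51178 (iv D49832) (iv F219658)
theorem F229172 : act 5 n51178 = n49096 := d37_1 D51178 (iv D49096) (iv F219660)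
theorem F229173 : act 7 n51178 = n49091 := d42_1 D51178 (iv D49091) (iv F219661)
def n51179 : Q := act 0 n49086
theorem D51179 : act 0 n49086 = n51179 := rfl
theorem F229174 : act 1 n51179 = n49810 := d0_2 D49086 D51179 F223154 F219382 F219377
theorem F229175 : act 2 n51179 = n49833 := d1_2 (iv F219662) D51179 (iv D49833)
theorem F229176 : act 3 n51179 = n49132 := d2_2 (iv F219663) D51179 (iv D49132)
theorem F229177 : act 5 n51179 = n49097 := d4_2 (iv F219664) D51179 (iv D49097)
theorem F229178 : act 6 n51179 = n50209 := d5_2 (iv F219665) D51179 (iv D50209)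
theorem F229179 : act 8 n51179 = n49853 := d7_2 F229013 D51179 (iv F229008)
def n51180 : Q := act 4 n49086
theorem D51180 : act 4 n49086 = n51180 := rfl
theorem F229180 : act 1 n51180 = n49087 := d11_1 D51180 (iv D49087) D49086
theorem F229181 : act 2 n51180 = n49834 := d18_1 D51180 (iv D49834) (iv F219662)
theorem F229182 : act 6 n51180 = n50210 := d31_2 (iv F219665) D51180 (iv D50210)
def n51181 : Q := act 9 n49086
theorem D51181 : act 9 n49086 = n51181 := rfl
theorem F229183 : act 1 n51181 = n49088 := d16_1 D51181 (iv D49088) D49086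
theorem F229184 : act 2 n51181 = n49835 := d23_1 D51181 (iv D49835) (iv F219662)
theorem F229185 : act 3 n51181 = n49134 := d29_1 D51181 (iv D49134) (iv F219663)
theorem F229186 : act 5 n51181 = n49099 := d38_1 D51181 (iv D49099) (iv F219664)
theorem F229187 : act 6 n51181 = n50211 := d41_1 D51181 (iv D50211) (iv F219665)
def n51182 : Q := act 3 n49087
theorem D51182 : act 3 n49087 = n51182 := rfl
theorem F229188 : act 0 n51182 = n50650 := d2_1 D51182 (iv F228812) F228809
theorem F229189 : act 2 n51182 = n50068 := d17_1 D51182 (iv F227964) F227963 F218619 (iv F219666)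
theorem F229190 : act 4 n51182 = n49135 := d24_2 D49087 D51182 (iv D49135) (iv D46941) (iv F209798)
theorem F229191 : act 6 n51182 = n50212 := d26_2 (iv F219667) D51182 (iv D50212)
theorem F229192 : act 7 n51182 = n50071 := d27_2 F229156 D51182 (iv F229154)
theorem F229193 : act 5 n50569 = n51182 := d36_3 F229192 F224347 (iv F226126)
def n51183 : Q := act 5 n49087
theorem D51183 : act 5 n49087 = n51183 := rfl
theorem F229194 : act 0 n51183 = n50649 := d4_1 D51183 (iv F228813) F228809
theorem F229195 : act 2 n51183 = n49089 := d19_1 D51183 (iv D49089) (iv F219666)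
theorem F229196 : act 3 n51183 = n50569 := d25_1 D51183 F229193 (iv D51182)
theorem F229197 : act 4 n51183 = n49100 := d30_1 D51183 (iv D49100) (iv D46911) (iv F209799) D49087
theorem F229198 : act 7 n51183 = n50576 := d36_2 F229156 D51183 (iv F229155)
def n51184 : Q := act 9 n49087
theorem D51184 : act 9 n49087 = n51184 := rfl
theorem F229199 : act 2 n51184 = n49090 := d23_1 D51184 (iv D49090) (iv F219666)
theorem F229200 : act 4 n51184 = n49088 := d34_1 D51184 (iv D49088) D49087
theorem F229201 : act 6 n51184 = n50214 := d41_1 D51184 (iv D50214) (iv F219667)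
def n51185 : Q := act 8 n49088
theorem D51185 : act 8 n49088 = n51185 := rfl
theorem F229202 : act 2 n51185 = n49091 := d22_1 D51185 (iv D49091) (iv F219668)
theorem F229203 : act 5 n51185 = n49102 := d37_1 D51185 (iv D49102) (iv F219670)
theorem F229204 : act 6 n51185 = n50215 := d40_1 D51185 (iv D50215) (iv F219671)
def n51186 : Q := act 6 n49089
theorem D51186 : act 6 n49089 = n51186 := rfl
theorem F229205 : act 1 n51186 = n49840 := d13_1 D51186 (iv D49840) (iv F219672)
theorem F229206 : act 4 n51186 = n49103 := d31_1 D51186 (iv D49103) (iv F219673)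
theorem F229207 : act 5 n51186 = n50216 := d35_1 D51186 (iv D50216) (iv D48003) (iv F209802) D49089
def n51187 : Q := act 9 n49089
theorem D51187 : act 9 n49089 = n51187 := rfl
theorem F229208 : act 1 n51187 = n49841 := d16_1 D51187 (iv D49841) (iv F219672)
theorem F229209 : act 4 n51187 = n49104 := d34_1 D51187 (iv D49104) (iv F219673)
theorem F229210 : act 5 n51187 = n49090 := d38_1 D51187 (iv D49090) D49089
def n51188 : Q := act 8 n49090
theorem D51188 : act 8 n49090 = n51188 := rfl
theorem F229211 : act 1 n51188 = n49842 := d15_1 D51188 (iv D49842) (iv F219674)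
theorem F229212 : act 4 n51188 = n49091 := d33_1 D51188 (iv D49091) (iv F219675)
theorem F229213 : act 6 n51188 = n50218 := d40_1 D51188 (iv D50218) (iv F219676)
def n51189 : Q := act 0 n49092
theorem D51189 : act 0 n49092 = n51189 := rfl
theorem F229214 : act 1 n51189 = n49804 := d0_2 D49092 D51189 F223130 F216884 (iv F209807)
theorem F229215 : act 2 n51189 = n49843 := d1_2 (iv F219680) D51189 (iv D49843)
theorem F229216 : act 3 n51189 = n49139 := d2_2 (iv F219681) D51189 (iv D49139)
theorem F229217 : act 4 n51189 = n49803 := d3_2 (iv F219682) D51189 F223125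
theorem F229218 : act 6 n51189 = n51189 := d5_2 F219683 D51189 (iv D51189)
theorem F229219 : act 7 n51189 = n49097 := d6_2 (iv F219684) D51189 (iv D49097)
theorem F229220 : act 8 n51189 = n49844 := d7_2 F229037 D51189 (iv F229031)
def n51190 : Q := act 9 n49092
theorem D51190 : act 9 n49092 = n51190 := rfl
theorem F229221 : act 1 n51190 = n49093 := d16_1 D51190 (iv D49093) D49092
theorem F229222 : act 2 n51190 = n49845 := d23_1 D51190 (iv D49845) (iv F219680)
theorem F229223 : act 3 n51190 = n49140 := d29_1 D51190 (iv D49140) (iv F219681)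
theorem F229224 : act 4 n51190 = n50793 := d34_1 D51190 (iv D50793) (iv F219682)
theorem F229225 : act 6 n51190 = n51190 := d41_1 D51190 (iv D51190) F219683
theorem F229226 : act 7 n51190 = n49099 := d43_1 D51190 (iv D49099) (iv F219684)
def n51191 : Q := act 8 n49093
theorem D51191 : act 8 n49093 = n51191 := rfl
theorem F229227 : act 0 n51191 = n50807 := d7_1 D51191 (iv D50807) (iv F219685)
theorem F229228 : act 2 n51191 = n49096 := d22_1 D51191 (iv D49096) (iv F219686)
theorem F229229 : act 4 n51191 = n50795 := d33_1 D51191 (iv D50795) (iv F219688)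
theorem F229230 : act 6 n51191 = n51191 := d40_1 D51191 (iv D51191) F219689
theorem F229231 : act 7 n51191 = n49102 := d42_1 D51191 (iv D49102) (iv F219690)
def n51192 : Q := act 6 n49094
theorem D51192 : act 6 n49094 = n51192 := rfl
theorem F229232 : act 0 n51192 = n49595 := d5_1 D51192 F222140 (iv F219691)
theorem F229233 : act 1 n51192 = n49849 := d13_1 D51192 (iv D49849) (iv F219692)
theorem F229234 : act 2 n51192 = n49783 := d20_1 D51192 F223052 (iv F219693)
theorem F229235 : act 3 n51192 = n49117 := d26_1 D51192 (iv D49117) (iv F219694)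
theorem F229236 : act 5 n51192 = n51192 := d35_1 D51192 (iv D51192) (iv D49094) F209816 D49094
def n51193 : Q := act 9 n49094
theorem D51193 : act 9 n49094 = n51193 := rfl
theorem F229237 : act 0 n51193 = n50469 := d8_1 D51193 (iv D50469) (iv F219691)
theorem F229238 : act 1 n51193 = n49850 := d16_1 D51193 (iv D49850) (iv F219692)
theorem F229239 : act 2 n51193 = n50593 := d23_1 D51193 (iv D50593) (iv F219693)
theorem F229240 : act 3 n51193 = n49118 := d29_1 D51193 (iv D49118) (iv F219694)
theorem F229241 : act 5 n51193 = n49095 := d38_1 D51193 (iv D49095) D49094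
theorem F229242 : act 7 n51193 = n49104 := d43_1 D51193 (iv D49104) (iv F219695)
def n51194 : Q := act 8 n49095
theorem D51194 : act 8 n49095 = n51194 := rfl
theorem F229243 : act 0 n51194 = n50767 := d7_1 D51194 (iv D50767) (iv F219696)
theorem F229244 : act 1 n51194 = n49851 := d15_1 D51194 (iv D49851) (iv F219697)
theorem F229245 : act 2 n51194 = n50795 := d22_1 D51194 (iv D50795) (iv F219698)
theorem F229246 : act 4 n51194 = n49096 := d33_1 D51194 (iv D49096) (iv F219700)
theorem F229247 : act 6 n51194 = n51194 := d40_1 D51194 (iv D51194) F219701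
theorem F229248 : act 7 n51194 = n49105 := d42_1 D51194 (iv D49105) (iv F219702)
def n51195 : Q := act 9 n49097
theorem D51195 : act 9 n49097 = n51195 := rfl
theorem F229249 : act 0 n51195 = n49099 := d8_1 D51195 (iv D49099) D49097
theorem F229250 : act 1 n51195 = n49811 := d16_1 D51195 (iv D49811) (iv F219706)
theorem F229251 : act 2 n51195 = n49852 := d23_1 D51195 (iv D49852) (iv F219707)
theorem F229252 : act 3 n51195 = n49142 := d29_1 D51195 (iv D49142) (iv F219708)
theorem F229253 : act 4 n51195 = n49809 := d34_1 D51195 (iv D49809) F219711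
theorem F229254 : act 6 n51195 = n49106 := d41_1 D51195 (iv D49106) (iv F219709)
def n51196 : Q := act 5 n49098
theorem D51196 : act 5 n49098 = n51196 := rfl
theorem F229255 : act 0 n51196 = n49797 := d4_1 D51196 F223106 (iv F219712)
theorem F229256 : act 1 n51196 = n49100 := d12_1 D51196 (iv D49100) (iv F219713)
theorem F229257 : act 2 n51196 = n49853 := d19_1 D51196 (iv D49853) (iv F219714)
theorem F229258 : act 3 n51196 = n49945 := d25_1 D51196 F223742 (iv F219715)
theorem F229259 : act 6 n51196 = n50608 := d35_2 (iv F219716) D51196 F226248 F216509 F209854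
theorem F229260 : act 7 n51196 = n50590 := d36_2 (iv F219717) D51196 F226195
theorem F229261 : act 8 n51196 = n49833 := d37_2 (iv F219718) D51196 F223239
def n51197 : Q := act 9 n49098
theorem D51197 : act 9 n49098 = n51197 := rfl
theorem F229262 : act 0 n51197 = n49809 := d8_1 D51197 (iv D49809) (iv F219712)
theorem F229263 : act 1 n51197 = n49101 := d16_1 D51197 (iv D49101) (iv F219713)
theorem F229264 : act 2 n51197 = n49854 := d23_1 D51197 (iv D49854) (iv F219714)
theorem F229265 : act 3 n51197 = n49951 := d29_1 D51197 (iv D49951) (iv F219715)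
theorem F229266 : act 4 n51197 = n49099 := d34_1 D51197 (iv D49099) D49098
theorem F229267 : act 6 n51197 = n49107 := d41_1 D51197 (iv D49107) (iv F219716)
theorem F229268 : act 7 n51197 = n50793 := d43_1 D51197 (iv D50793) (iv F219717)
def n51198 : Q := act 8 n49099
theorem D51198 : act 8 n49099 = n51198 := rfl
theorem F229269 : act 1 n51198 = n49102 := d15_1 D51198 (iv D49102) (iv F219719)
theorem F229270 : act 2 n51198 = n49855 := d22_1 D51198 (iv D49855) (iv F219720)
theorem F229271 : act 6 n51198 = n49108 := d40_1 D51198 (iv D49108) (iv F219722)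
def n51199 : Q := act 6 n49100
theorem D51199 : act 6 n49100 = n51199 := rfl
theorem F229272 : act 0 n51199 = n49956 := d5_1 D51199 F223810 (iv F219723)
theorem F229273 : act 1 n51199 = n50608 := d13_1 D51199 (iv F229259) F229256
theorem F229274 : act 2 n51199 = n49103 := d20_1 D51199 (iv D49103) (iv F219724)
theorem F229275 : act 3 n51199 = n49955 := d26_1 D51199 F223807 (iv F219725)
theorem F229276 : act 5 n51199 = n49109 := d35_1 D51199 (iv D49109) (iv D46919) (iv F209828) D49100
theorem F229277 : act 8 n51199 = n50573 := d40_2 F229073 D51199 (iv F229071)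
def n51200 : Q := act 9 n49100
theorem D51200 : act 9 n49100 = n51200 := rfl
theorem F229278 : act 0 n51200 = n50709 := d8_1 D51200 (iv D50709) (iv F219723)
theorem F229279 : act 2 n51200 = n49104 := d23_1 D51200 (iv D49104) (iv F219724)
theorem F229280 : act 3 n51200 = n50588 := d29_1 D51200 (iv D50588) (iv F219725)
theorem F229281 : act 5 n51200 = n49101 := d38_1 D51200 (iv D49101) D49100
theorem F229282 : act 7 n51200 = n50593 := d43_1 D51200 (iv D50593) (iv F219726)
def n51201 : Q := act 8 n49101
theorem D51201 : act 8 n49101 = n51201 := rfl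
theorem F229283 : act 0 n51201 = n50690 := d7_1 D51201 F226484 (iv F219727)
theorem F229284 : act 2 n51201 = n49105 := d22_1 D51201 (iv D49105) (iv F219728)
theorem F229285 : act 3 n51201 = n50686 := d28_1 D51201 (iv D50686) F216638 D48542 (iv F219729)
theorem F229286 : act 4 n51201 = n49102 := d33_1 D51201 (iv D49102) (iv F219730)
theorem F229287 : act 6 n51201 = n49111 := d40_1 D51201 (iv D49111) (iv F219731)
theorem F229288 : act 7 n51201 = n50795 := d42_1 D51201 (iv D50795) (iv F219732)
def n51202 : Q := act 3 n49102
theorem D51202 : act 3 n49102 = n51202 := rfl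
theorem F229289 : act 6 n51202 = n49112 := d26_2 (iv F219734) D51202 (iv D49112)
theorem F229290 : act 8 n51202 = n49144 := d28_2 D49102 D51202 (iv D49144) (iv D46950) (iv F209831)
def n51203 : Q := act 7 n49103
theorem D51203 : act 7 n49103 = n51203 := rfl
theorem F229291 : act 1 n51203 = n49860 := d14_1 D51203 (iv D49860) (iv F219735)
theorem F229292 : act 3 n51203 = n49120 := d27_1 D51203 (iv D49120) (iv F219736)
theorem F229293 : act 5 n51203 = n49113 := d36_1 D51203 (iv D49113) (iv F219737)
def n51204 : Q := act 9 n49103
theorem D51204 : act 9 n49103 = n51204 := rfl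
theorem F229294 : act 1 n51204 = n49861 := d16_1 D51204 (iv D49861) (iv F219735)
theorem F229295 : act 3 n51204 = n49121 := d29_1 D51204 (iv D49121) (iv F219736)
theorem F229296 : act 5 n51204 = n49114 := d38_1 D51204 (iv D49114) (iv F219737)
theorem F229297 : act 6 n51204 = n49104 := d41_1 D51204 (iv D49104) D49103
def n51205 : Q := act 8 n49104
theorem D51205 : act 8 n49104 = n51205 := rfl
theorem F229298 : act 1 n51205 = n49862 := d15_1 D51205 (iv D49862) (iv F219738)
theorem F229299 : act 5 n51205 = n49105 := d37_1 D51205 (iv D49105) (iv F219740)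
def n51206 : Q := act 3 n49105
theorem D51206 : act 3 n49105 = n51206 := rfl
theorem F229300 : act 1 n51206 = n49863 := d10_1 D51206 (iv D49863) (iv F219741)
theorem F229301 : act 6 n51206 = n49116 := d26_2 (iv F219743) D51206 (iv D49116)
theorem F229302 : act 8 n51206 = n49123 := d28_2 D49105 D51206 (iv D49123) (iv D46930) (iv F209836)
def n51207 : Q := act 8 n49106
theorem D51207 : act 8 n49106 = n51207 := rfl
theorem F229303 : act 0 n51207 = n49108 := d7_1 D51207 (iv D49108) (iv F219744)
theorem F229304 : act 1 n51207 = n49819 := d15_1 D51207 (iv D49819) (iv F219745)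
theorem F229305 : act 2 n51207 = n49864 := d22_1 D51207 (iv D49864) (iv F219746)
theorem F229306 : act 4 n51207 = n49816 := d33_1 D51207 (iv D49816) (iv F219748)
theorem F229307 : act 5 n51207 = n50240 := d37_1 D51207 (iv D50240) (iv F219749)
theorem F229308 : act 7 n51207 = n51207 := d42_1 D51207 (iv D51207) F219750
theorem F229309 : act 9 n51207 = n49867 := d44_2 D49106 D51207 (iv D49867) (iv D47621) (iv F209846)
def n51208 : Q := act 8 n49107
theorem D51208 : act 8 n49107 = n51208 := rfl
theorem F229310 : act 0 n51208 = n49816 := d7_1 D51208 (iv D49816) (iv F219751)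
theorem F229311 : act 1 n51208 = n49111 := d15_1 D51208 (iv D49111) (iv F219752)
theorem F229312 : act 2 n51208 = n49867 := d22_1 D51208 (iv D49867) (iv F219753)
theorem F229313 : act 3 n51208 = n50585 := d28_1 D51208 (iv D50585) F216384 (iv F213628) (iv F219754)
theorem F229314 : act 4 n51208 = n49108 := d33_1 D51208 (iv D49108) (iv F219755)
theorem F229315 : act 5 n51208 = n50634 := d37_1 D51208 (iv D50634) (iv F219756)
theorem F229316 : act 7 n51208 = n51208 := d42_1 D51208 (iv D51208) F219757
theorem F229317 : act 9 n51208 = n49864 := d44_2 D49107 D51208 (iv D49864) (iv D47619) (iv F209853)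
def n51209 : Q := act 3 n49108
theorem D51209 : act 3 n49108 = n51209 := rfl
theorem F229318 : act 1 n51209 = n49112 := d10_1 D51209 (iv D49112) (iv F219758)
theorem F229319 : act 5 n51209 = n50244 := d25_2 (iv F219760) D51209 (iv D50244)
theorem F229320 : act 7 n51209 = n51209 := d27_2 F219761 D51209 (iv D51209)
theorem F229321 : act 8 n51209 = n49146 := d28_2 D49108 D51209 (iv D49146) (iv D46952) (iv F209857)
def n51210 : Q := act 7 n49109
theorem D51210 : act 7 n49109 = n51210 := rfl
theorem F229322 : act 0 n51210 = n49963 := d6_1 D51210 F223843 (iv F219762)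
theorem F229323 : act 1 n51210 = n50618 := d14_1 D51210 F226272 (iv F219763)
theorem F229324 : act 2 n51210 = n49113 := d21_1 D51210 (iv D49113) (iv F219764)
theorem F229325 : act 3 n51210 = n49962 := d27_1 D51210 F223840 (iv F219765)
theorem F229326 : act 4 n51210 = n50245 := d32_1 D51210 (iv D50245) (iv F219766)
theorem F229327 : act 6 n51210 = n51210 := d39_1 D51210 (iv D51210) (iv D49109) F209865 D49109
theorem F229328 : act 8 n51210 = n50580 := d42_2 (iv F219767) D51210 F226158
def n51211 : Q := act 9 n49109
theorem D51211 : act 9 n49109 = n51211 := rfl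
theorem F229329 : act 0 n51211 = n49916 := d8_1 D51211 F223567 (iv F219762)
theorem F229330 : act 1 n51211 = n50624 := d16_1 D51211 (iv D50624) (iv F219763)
theorem F229331 : act 2 n51211 = n49114 := d23_1 D51211 (iv D49114) (iv F219764)
theorem F229332 : act 3 n51211 = n49915 := d29_1 D51211 F223564 (iv F219765)
theorem F229333 : act 4 n51211 = n50246 := d34_1 D51211 (iv D50246) (iv F219766)
theorem F229334 : act 6 n51211 = n49110 := d41_1 D51211 (iv D49110) D49109
def n51212 : Q := act 8 n49110
theorem D51212 : act 8 n49110 = n51212 := rfl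
theorem F229335 : act 0 n51212 = n49868 := d7_1 D51212 F223351 (iv F219768)
theorem F229336 : act 1 n51212 = n50634 := d15_1 D51212 (iv D50634) (iv F219769)
theorem F229337 : act 2 n51212 = n49115 := d22_1 D51212 (iv D49115) (iv F219770)
theorem F229338 : act 3 n51212 = n49864 := d28_1 D51212 (iv D49864) F213112 D47664 (iv F219771)
theorem F229339 : act 4 n51212 = n50247 := d33_1 D51212 (iv D50247) (iv F219772)
theorem F229340 : act 5 n51212 = n49111 := d37_1 D51212 (iv D49111) (iv F219773)
theorem F229341 : act 7 n51212 = n51212 := d42_1 D51212 (iv D51212) F219774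
theorem F229342 : act 9 n51212 = n50585 := d44_2 D49110 D51212 (iv D50585) (iv D48420) (iv F209866)
def n51213 : Q := act 4 n49112
theorem D51213 : act 4 n49112 = n51213 := rfl
theorem F229343 : act 0 n51213 = n50702 := d3_1 D51213 (iv F228866) F228863
theorem F229344 : act 3 n51213 = n50698 := d24_1 D51213 F226504 (iv F219777) F219778 D49112
theorem F229345 : act 7 n51213 = n51213 := d32_2 F219781 D51213 (iv D51213)
theorem F229346 : act 8 n51213 = n49147 := d33_2 (iv F219782) D51213 (iv D49147)
def n51214 : Q := act 9 n49113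
theorem D51214 : act 9 n49113 = n51214 := rfl
theorem F229347 : act 1 n51214 = n49874 := d16_1 D51214 (iv D49874) (iv F219783)
theorem F229348 : act 3 n51214 = n49124 := d29_1 D51214 (iv D49124) (iv F219784)
theorem F229349 : act 4 n51214 = n50250 := d34_1 D51214 (iv D50250) (iv F219785)
theorem F229350 : act 6 n51214 = n51214 := d41_1 D51214 (iv D51214) F219786
theorem F229351 : act 7 n51214 = n49114 := d43_1 D51214 (iv D49114) D49113
def n51215 : Q := act 8 n49114
theorem D51215 : act 8 n49114 = n51215 := rfl
theorem F229352 : act 1 n51215 = n49875 := d15_1 D51215 (iv D49875) (iv F219787)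
theorem F229353 : act 4 n51215 = n50251 := d33_1 D51215 (iv D50251) (iv F219789)
theorem F229354 : act 6 n51215 = n49115 := d40_1 D51215 (iv D49115) (iv F219790)
def n51216 : Q := act 3 n49115
theorem D51216 : act 3 n49115 = n51216 := rfl
theorem F229355 : act 1 n51216 = n49876 := d10_1 D51216 (iv D49876) (iv F219791)
theorem F229356 : act 5 n51216 = n49116 := d25_2 (iv F219793) D51216 (iv D49116)
theorem F229357 : act 7 n51216 = n51216 := d27_2 F219794 D51216 (iv D51216)
theorem F229358 : act 8 n51216 = n49126 := d28_2 D49115 D51216 (iv D49126) (iv D46933) (iv F209879)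
def n51217 : Q := act 2 n49116
theorem D51217 : act 2 n49116 = n51217 := rfl
theorem F229359 : act 0 n51217 = n50244 := d1_1 D51217 (iv F228891) F228890
theorem F229360 : act 3 n51217 = n50240 := d17_2 D49116 D51217 F225071 (iv F219777) F219776
theorem F229361 : act 7 n51217 = n51217 := d21_2 F219796 D51217 (iv D51217)
theorem F229362 : act 8 n51217 = n49127 := d22_2 (iv F219797) D51217 (iv D49127)
def n51218 : Q := act 7 n49117
theorem D51218 : act 7 n49117 = n51218 := rfl
theorem F229363 : act 0 n51218 = n49588 := d6_1 D51218 F222107 (iv F219798)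
theorem F229364 : act 1 n51218 = n49878 := d14_1 D51218 (iv D49878) (iv F219799)
theorem F229365 : act 2 n51218 = n49503 := d21_1 D51218 F221787 (iv F219800)
theorem F229366 : act 4 n51218 = n49502 := d32_1 D51218 F221781 (iv F219801)
theorem F229367 : act 5 n51218 = n51218 := d36_1 D51218 (iv D51218) F219802
theorem F229368 : act 6 n51218 = n49120 := d39_1 D51218 (iv D49120) (iv D46928) (iv F209890) D49117
theorem F229369 : act 8 n51218 = n51218 := d42_2 F219803 D51218 (iv D51218)
def n51219 : Q := act 9 n49117
theorem D51219 : act 9 n49117 = n51219 := rfl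
theorem F229370 : act 0 n51219 = n49596 := d8_1 D51219 (iv D49596) (iv F219798)
theorem F229371 : act 1 n51219 = n49879 := d16_1 D51219 (iv D49879) (iv F219799)
theorem F229372 : act 2 n51219 = n49507 := d23_1 D51219 (iv D49507) (iv F219800)
theorem F229373 : act 4 n51219 = n49506 := d34_1 D51219 (iv D49506) (iv F219801)
theorem F229374 : act 5 n51219 = n51219 := d38_1 D51219 (iv D51219) F219802
theorem F229375 : act 6 n51219 = n49118 := d41_1 D51219 (iv D49118) D49117
def n51220 : Q := act 8 n49118
theorem D51220 : act 8 n49118 = n51220 := rfl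
theorem F229376 : act 0 n51220 = n50470 := d7_1 D51220 (iv D50470) (iv F219804)
theorem F229377 : act 1 n51220 = n49880 := d15_1 D51220 (iv D49880) (iv F219805)
theorem F229378 : act 2 n51220 = n50401 := d22_1 D51220 (iv D50401) (iv F219806)
theorem F229379 : act 4 n51220 = n50400 := d33_1 D51220 (iv D50400) (iv F219807)
theorem F229380 : act 5 n51220 = n49119 := d37_1 D51220 (iv D49119) (iv F219808)
theorem F229381 : act 7 n51220 = n49122 := d42_1 D51220 (iv D49122) (iv F219809)
theorem F229382 : act 9 n51220 = n51220 := d44_2 D49118 D51220 (iv D51220) (iv D49118) F209891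
def n51221 : Q := act 3 n49119
theorem D51221 : act 3 n49119 = n51221 := rfl
theorem F229383 : act 0 n51221 = n50768 := d2_1 D51221 (iv D50768) (iv F219810)
theorem F229384 : act 1 n51221 = n49881 := d10_1 D51221 (iv D49881) (iv F219811)
theorem F229385 : act 6 n51221 = n51221 := d26_2 F219814 D51221 (iv D51221)
theorem F229386 : act 7 n51221 = n49123 := d27_2 (iv F219815) D51221 (iv D49123)
theorem F229387 : act 9 n51221 = n51221 := d29_2 F219816 D51221 (iv D51221)
def n51222 : Q := act 9 n49120
theorem D51222 : act 9 n49120 = n51222 := rfl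
theorem F229388 : act 1 n51222 = n49882 := d16_1 D51222 (iv D49882) (iv F219817)
theorem F229389 : act 5 n51222 = n49124 := d38_1 D51222 (iv D49124) (iv F219818)
theorem F229390 : act 7 n51222 = n49121 := d43_1 D51222 (iv D49121) D49120
def n51223 : Q := act 8 n49121
theorem D51223 : act 8 n49121 = n51223 := rfl
theorem F229391 : act 1 n51223 = n49883 := d15_1 D51223 (iv D49883) (iv F219820)
theorem F229392 : act 5 n51223 = n49125 := d37_1 D51223 (iv D49125) (iv F219821)
theorem F229393 : act 6 n51223 = n49122 := d40_1 D51223 (iv D49122) (iv F219822)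
theorem F229394 : act 9 n51223 = n51223 := d44_2 D49121 D51223 (iv D51223) (iv D49121) F209907
def n51224 : Q := act 3 n49122
theorem D51224 : act 3 n49122 = n51224 := rfl
theorem F229395 : act 1 n51224 = n49884 := d10_1 D51224 (iv D49884) (iv F219823)
theorem F229396 : act 5 n51224 = n49123 := d25_2 (iv F219824) D51224 (iv D49123)
theorem F229397 : act 9 n51224 = n51224 := d29_2 F219825 D51224 (iv D51224)
def n51225 : Q := act 2 n49123
theorem D51225 : act 2 n49123 = n51225 := rfl
theorem F229398 : act 0 n51225 = n50272 := d1_1 D51225 (iv F228915) F228914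
theorem F229399 : act 3 n51225 = n50271 := d17_2 D49123 D51225 F225181 (iv F217724) F217723
theorem F229400 : act 6 n51225 = n49127 := d20_2 (iv F219827) D51225 (iv D49127)
theorem F229401 : act 9 n51225 = n51225 := d23_2 F219828 D51225 (iv D51225)
def n51226 : Q := act 8 n49124
theorem D51226 : act 8 n49124 = n51226 := rfl
theorem F229402 : act 1 n51226 = n49886 := d15_1 D51226 (iv D49886) (iv F219829)
theorem F229403 : act 4 n51226 = n49128 := d33_1 D51226 (iv D49128) (iv F219830)
theorem F229404 : act 6 n51226 = n51226 := d40_1 D51226 (iv D51226) F219831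
theorem F229405 : act 7 n51226 = n49125 := d42_1 D51226 (iv D49125) (iv F219832)
theorem F229406 : act 9 n51226 = n51226 := d44_2 D49124 D51226 (iv D51226) (iv D49124) F209917
def n51227 : Q := act 3 n49125
theorem D51227 : act 3 n49125 = n51227 := rfl
theorem F229407 : act 1 n51227 = n49887 := d10_1 D51227 (iv D49887) (iv F219833)
theorem F229408 : act 6 n51227 = n49126 := d26_2 (iv F219835) D51227 (iv D49126)
theorem F229409 : act 9 n51227 = n51227 := d29_2 F219836 D51227 (iv D51227)
def n51228 : Q := act 2 n49126
theorem D51228 : act 2 n49126 = n51228 := rfl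
theorem F229410 : act 0 n51228 = n49146 := d1_1 D51228 (iv F228934) F228932
theorem F229411 : act 1 n51228 = n50095 := d9_1 D51228 F224460 F223421 (iv D49888) (iv F219837)
theorem F229412 : act 3 n51228 = n49145 := d17_2 D49126 D51228 F219935 (iv F217745) F217744
theorem F229413 : act 4 n51228 = n50094 := d18_2 F228701 D51228 (iv F228700)
theorem F229414 : act 5 n51228 = n49127 := d19_2 (iv F219838) D51228 (iv D49127)
theorem F229415 : act 7 n51228 = n51228 := d21_2 F219839 D51228 (iv D51228)
theorem F229416 : act 9 n51228 = n51228 := d23_2 F219840 D51228 (iv D51228)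
def n51229 : Q := act 1 n49127
theorem D51229 : act 1 n49127 = n51229 := rfl
theorem F229417 : act 0 n51229 = n50166 := d0_1 D51229 F224785 F214840 (iv F215163) (iv F219841)
theorem F229418 : act 2 n51229 = n49889 := d9_2 D49127 D51229 (iv D49889) (iv D47641) (iv F209926)
theorem F229419 : act 3 n51229 = n50165 := d10_2 (iv F219842) D51229 F224779
theorem F229420 : act 5 n51229 = n50095 := d12_2 F229414 D51229 (iv F229411)
theorem F229421 : act 7 n51229 = n51229 := d14_2 F219843 D51229 (iv D51229)
theorem F229422 : act 9 n51229 = n51229 := d16_2 F219844 D51229 (iv D51229)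
def n51230 : Q := act 0 n49129
theorem D51230 : act 0 n49129 = n51230 := rfl
theorem F229423 : act 1 n51230 = n50799 := d0_2 D49129 D51230 F226899 F217314 (iv F209940)
theorem F229424 : act 2 n51230 = n49148 := d1_2 (iv F219851) D51230 (iv D49148)
theorem F229425 : act 4 n51230 = n50084 := d3_2 (iv F219852) D51230 (iv D50084)
theorem F229426 : act 5 n51230 = n49139 := d4_2 (iv F219853) D51230 (iv D49139)
theorem F229427 : act 6 n51230 = n50721 := d5_2 F228416 D51230 (iv F228412)
theorem F229428 : act 7 n51230 = n49132 := d6_2 (iv F219854) D51230 (iv D49132)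
theorem F229429 : act 8 n51230 = n51230 := d7_2 F219855 D51230 (iv D51230)
def n51231 : Q := act 9 n49129
theorem D51231 : act 9 n49129 = n51231 := rfl
theorem F229430 : act 1 n51231 = n49130 := d16_1 D51231 (iv D49130) D49129
theorem F229431 : act 2 n51231 = n49149 := d23_1 D51231 (iv D49149) (iv F219851)
theorem F229432 : act 4 n51231 = n50085 := d34_1 D51231 (iv D50085) (iv F219852)
theorem F229433 : act 5 n51231 = n49140 := d38_1 D51231 (iv D49140) (iv F219853)
theorem F229434 : act 7 n51231 = n49134 := d43_1 D51231 (iv D49134) (iv F219854)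
def n51232 : Q := act 8 n49130
theorem D51232 : act 8 n49130 = n51232 := rfl
theorem F229435 : act 0 n51232 = n50809 := d7_1 D51232 (iv D50809) (iv F219856)
theorem F229436 : act 2 n51232 = n49131 := d22_1 D51232 (iv D49131) (iv F219857)
theorem F229437 : act 4 n51232 = n50086 := d33_1 D51232 (iv D50086) (iv F219858)
theorem F229438 : act 5 n51232 = n49141 := d37_1 D51232 (iv D49141) (iv F219859)
theorem F229439 : act 7 n51232 = n49137 := d42_1 D51232 (iv D49137) (iv F219860)
theorem F229440 : act 9 n51232 = n51232 := d44_2 D49130 D51232 (iv D51232) (iv D49130) F209944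
def n51233 : Q := act 4 n49132
theorem D51233 : act 4 n49132 = n51233 := rfl
theorem F229441 : act 0 n51233 = n49133 := d3_1 D51233 (iv D49133) D49132
theorem F229442 : act 1 n51233 = n50815 := d11_1 D51233 F226964 (iv F219867)
theorem F229443 : act 2 n51233 = n49151 := d18_1 D51233 (iv D49151) (iv F219868)
theorem F229444 : act 5 n51233 = n50087 := d30_2 (iv F219869) D51233 F224421 F217210 (iv F209993)
theorem F229445 : act 6 n51233 = n49936 := d31_2 (iv F219870) D51233 F223694
theorem F229446 : act 7 n51233 = n50084 := d32_2 F229428 D51233 (iv F229425)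
theorem F229447 : act 8 n51233 = n51233 := d33_2 F219871 D51233 (iv D51233)
def n51234 : Q := act 9 n49132
theorem D51234 : act 9 n49132 = n51234 := rfl
theorem F229448 : act 0 n51234 = n49134 := d8_1 D51234 (iv D49134) D49132
theorem F229449 : act 1 n51234 = n50798 := d16_1 D51234 F226898 (iv F219867)
theorem F229450 : act 2 n51234 = n49152 := d23_1 D51234 (iv D49152) (iv F219868)
theorem F229451 : act 5 n51234 = n49142 := d38_1 D51234 (iv D49142) (iv F219869)
theorem F229452 : act 6 n51234 = n50260 := d41_1 D51234 (iv D50260) (iv F219870)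
def n51235 : Q := act 3 n49133
theorem D51235 : act 3 n49133 = n51235 := rfl
theorem F229453 : act 1 n51235 = n49135 := d10_1 D51235 (iv D49135) (iv F219872)
theorem F229454 : act 2 n51235 = n50515 := d17_1 D51235 F225944 F216211 F210042 (iv F219873)
theorem F229455 : act 5 n51235 = n50075 := d25_2 (iv F219874) D51235 F224361
theorem F229456 : act 6 n51235 = n50261 := d26_2 (iv F219875) D51235 (iv D50261)
theorem F229457 : act 7 n51235 = n50070 := d27_2 (iv F219876) D51235 F224343
def n51236 : Q := act 9 n49133
theorem D51236 : act 9 n49133 = n51236 := rfl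
theorem F229458 : act 1 n51236 = n49136 := d16_1 D51236 (iv D49136) (iv F219872)
theorem F229459 : act 2 n51236 = n49153 := d23_1 D51236 (iv D49153) (iv F219873)
theorem F229460 : act 4 n51236 = n49134 := d34_1 D51236 (iv D49134) D49133
theorem F229461 : act 5 n51236 = n50088 := d38_1 D51236 (iv D50088) (iv F219874)
theorem F229462 : act 6 n51236 = n50262 := d41_1 D51236 (iv D50262) (iv F219875)
theorem F229463 : act 7 n51236 = n50085 := d43_1 D51236 (iv D50085) (iv F219876)
def n51237 : Q := act 8 n49134
theorem D51237 : act 8 n49134 = n51237 := rfl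
theorem F229464 : act 1 n51237 = n49137 := d15_1 D51237 (iv D49137) (iv F219878)
theorem F229465 : act 2 n51237 = n49154 := d22_1 D51237 (iv D49154) (iv F219879)
theorem F229466 : act 5 n51237 = n49143 := d37_1 D51237 (iv D49143) (iv F219880)
theorem F229467 : act 6 n51237 = n50263 := d40_1 D51237 (iv D50263) (iv F219881)
theorem F229468 : act 9 n51237 = n51237 := d44_2 D49134 D51237 (iv D51237) (iv D49134) F209954
def n51238 : Q := act 8 n49135
theorem D51238 : act 8 n49135 = n51238 := rfl
theorem F229469 : act 0 n51238 = n50168 := d7_1 D51238 F224797 (iv F219882)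
theorem F229470 : act 2 n51238 = n50062 := d22_1 D51238 F224305 (iv F219883)
theorem F229471 : act 3 n51238 = n51238 := d28_1 D51238 (iv D51238) (iv D49135) F209960 D49135
theorem F229472 : act 5 n51238 = n49964 := d37_1 D51238 F223850 (iv F219884)
theorem F229473 : act 6 n51238 = n50264 := d40_1 D51238 (iv D50264) (iv F219885)
theorem F229474 : act 7 n51238 = n49965 := d42_1 D51238 F223854 (iv F219886)
def n51239 : Q := act 9 n49135
theorem D51239 : act 9 n49135 = n51239 := rfl
theorem F229475 : act 0 n51239 = n50678 := d8_1 D51239 (iv D50678) (iv F219882)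
theorem F229476 : act 2 n51239 = n50069 := d23_1 D51239 (iv D50069) (iv F219883)
theorem F229477 : act 3 n51239 = n49136 := d29_1 D51239 (iv D49136) D49135
theorem F229478 : act 5 n51239 = n50076 := d38_1 D51239 (iv D50076) (iv F219884)
theorem F229479 : act 6 n51239 = n50265 := d41_1 D51239 (iv D50265) (iv F219885)
theorem F229480 : act 7 n51239 = n50072 := d43_1 D51239 (iv D50072) (iv F219886)
def n51240 : Q := act 8 n49136
theorem D51240 : act 8 n49136 = n51240 := rfl
theorem F229481 : act 0 n51240 = n50817 := d7_1 D51240 (iv D50817) (iv F219887)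
theorem F229482 : act 2 n51240 = n49138 := d22_1 D51240 (iv D49138) (iv F219888)
theorem F229483 : act 4 n51240 = n49137 := d33_1 D51240 (iv D49137) (iv F219889)
theorem F229484 : act 5 n51240 = n50089 := d37_1 D51240 (iv D50089) (iv F219890)
theorem F229485 : act 6 n51240 = n50266 := d40_1 D51240 (iv D50266) (iv F219891)
theorem F229486 : act 7 n51240 = n50086 := d42_1 D51240 (iv D50086) (iv F219892)
theorem F229487 : act 9 n51240 = n51240 := d44_2 D49136 D51240 (iv D51240) (iv D49136) F209960
def n51241 : Q := act 3 n49137
theorem D51241 : act 3 n49137 = n51241 := rfl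
theorem F229488 : act 5 n51241 = n49144 := d25_2 (iv F219894) D51241 (iv D49144)
theorem F229489 : act 6 n51241 = n50267 := d26_2 (iv F219895) D51241 (iv D50267)
theorem F229490 : act 9 n51241 = n51241 := d29_2 F219896 D51241 (iv D51241)
def n51242 : Q := act 9 n49139
theorem D51242 : act 9 n49139 = n51242 := rfl
theorem F229491 : act 0 n51242 = n49140 := d8_1 D51242 (iv D49140) D49139
theorem F229492 : act 1 n51242 = n50797 := d16_1 D51242 F226895 (iv F219905)
theorem F229493 : act 2 n51242 = n49157 := d23_1 D51242 (iv D49157) (iv F219906)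
theorem F229494 : act 4 n51242 = n50784 := d34_1 D51242 (iv D50784) (iv F219907)
theorem F229495 : act 6 n51242 = n51242 := d41_1 D51242 (iv D51242) F219908
theorem F229496 : act 7 n51242 = n49142 := d43_1 D51242 (iv D49142) (iv F219909)
def n51243 : Q := act 8 n49140
theorem D51243 : act 8 n49140 = n51243 := rfl
theorem F229497 : act 1 n51243 = n49141 := d15_1 D51243 (iv D49141) (iv F219911)
theorem F229498 : act 2 n51243 = n49158 := d22_1 D51243 (iv D49158) (iv F219912)
theorem F229499 : act 4 n51243 = n50785 := d33_1 D51243 (iv D50785) (iv F219913)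
theorem F229500 : act 6 n51243 = n51243 := d40_1 D51243 (iv D51243) F219914
theorem F229501 : act 7 n51243 = n49143 := d42_1 D51243 (iv D49143) (iv F219915)
theorem F229502 : act 9 n51243 = n51243 := d44_2 D49140 D51243 (iv D51243) (iv D49140) F209979
def n51244 : Q := act 3 n49141
theorem D51244 : act 3 n49141 = n51244 := rfl
theorem F229503 : act 0 n51244 = n50810 := d2_1 D51244 (iv D50810) (iv F219916)
theorem F229504 : act 6 n51244 = n51244 := d26_2 F219919 D51244 (iv D51244)
theorem F229505 : act 7 n51244 = n49144 := d27_2 (iv F219920) D51244 (iv D49144)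
theorem F229506 : act 9 n51244 = n51244 := d29_2 F219921 D51244 (iv D51244)
def n51245 : Q := act 8 n49142
theorem D51245 : act 8 n49142 = n51245 := rfl
theorem F229507 : act 0 n51245 = n49143 := d7_1 D51245 (iv D49143) (iv F219922)
theorem F229508 : act 1 n51245 = n50792 := d15_1 D51245 F226876 (iv F219923)
theorem F229509 : act 2 n51245 = n49160 := d22_1 D51245 (iv D49160) (iv F219924)
theorem F229510 : act 4 n51245 = n50791 := d33_1 D51245 F226871 (iv F219925)
theorem F229511 : act 6 n51245 = n49145 := d40_1 D51245 (iv D49145) (iv F219926)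
theorem F229512 : act 9 n51245 = n51245 := d44_2 D49142 D51245 (iv D51245) (iv D49142) F209995
def n51246 : Q := act 3 n49143
theorem D51246 : act 3 n49143 = n51246 := rfl
theorem F229513 : act 1 n51246 = n49144 := d10_1 D51246 (iv D49144) (iv F219927)
theorem F229514 : act 6 n51246 = n49146 := d26_2 (iv F219929) D51246 (iv D49146)
theorem F229515 : act 9 n51246 = n51246 := d29_2 F219930 D51246 (iv D51246)
def n51247 : Q := act 4 n49144
theorem D51247 : act 4 n49144 = n51247 := rfl
theorem F229516 : act 0 n51247 = n50823 := d3_1 D51247 (iv F228957) F228954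
theorem F229517 : act 3 n51247 = n50820 := d24_1 D51247 F226984 (iv F217780) F217781 D49144
theorem F229518 : act 6 n51247 = n49147 := d31_2 (iv F219931) D51247 (iv D49147)
theorem F229519 : act 9 n51247 = n51247 := d34_2 F219932 D51247 (iv D51247)
def n51248 : Q := act 4 n49146
theorem D51248 : act 4 n49146 = n51248 := rfl
theorem F229520 : act 0 n51248 = n50094 := d3_1 D51248 (iv F229413) F229410
theorem F229521 : act 1 n51248 = n49147 := d11_1 D51248 (iv D49147) (iv F219940)
theorem F229522 : act 2 n51248 = n49701 := d18_1 D51248 (iv F228935) F228934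
theorem F229523 : act 3 n51248 = n50093 := d24_1 D51248 F224453 (iv F217789) F217790 D49146
theorem F229524 : act 5 n51248 = n49702 := d30_2 (iv F219941) D51248 F222660 (iv F223418) F223417
theorem F229525 : act 7 n51248 = n51248 := d32_2 F219942 D51248 (iv D51248)
theorem F229526 : act 9 n51248 = n51248 := d34_2 F219943 D51248 (iv D51248)
def n51249 : Q := act 5 n49147
theorem D51249 : act 5 n49147 = n51249 := rfl
theorem F229527 : act 0 n51249 = n50833 := d4_1 D51249 F227037 (iv F219944)
theorem F229528 : act 1 n51249 = n49702 := d12_1 D51249 (iv F229524) F229521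
theorem F229529 : act 3 n51249 = n50830 := d25_1 D51249 F227022 (iv F219945)
theorem F229530 : act 4 n51249 = n49889 := d30_1 D51249 F223423 (iv D48059) (iv F210013) D49147
theorem F229531 : act 7 n51249 = n51249 := d36_2 F219946 D51249 (iv D51249)
theorem F229532 : act 9 n51249 = n51249 := d38_2 F219947 D51249 (iv D51249)
def n51250 : Q := act 9 n49148
theorem D51250 : act 9 n49148 = n51250 := rfl
theorem F229533 : act 0 n51250 = n49149 := d8_1 D51250 (iv D49149) D49148
theorem F229534 : act 1 n51250 = n51250 := d16_1 D51250 (iv D51250) F219948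
theorem F229535 : act 3 n51250 = n49918 := d29_1 D51250 (iv D49918) (iv F219949)
theorem F229536 : act 4 n51250 = n50096 := d34_1 D51250 (iv D50096) (iv F219950)
theorem F229537 : act 5 n51250 = n49157 := d38_1 D51250 (iv D49157) (iv F219951)
theorem F229538 : act 6 n51250 = n50723 := d41_1 D51250 (iv D50723) (iv F219952)
theorem F229539 : act 7 n51250 = n49152 := d43_1 D51250 (iv D49152) (iv F219953)
def n51251 : Q := act 8 n49149
theorem D51251 : act 8 n49149 = n51251 := rfl
theorem F229540 : act 1 n51251 = n49150 := d15_1 D51251 (iv D49150) (iv F219955)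
theorem F229541 : act 4 n51251 = n50097 := d33_1 D51251 (iv D50097) (iv F219957)
theorem F229542 : act 5 n51251 = n49158 := d37_1 D51251 (iv D49158) (iv F219958)
theorem F229543 : act 7 n51251 = n49154 := d42_1 D51251 (iv D49154) (iv F219959)
theorem F229544 : act 9 n51251 = n51251 := d44_2 D49149 D51251 (iv D51251) (iv D49149) F210020
def n51252 : Q := act 3 n49150
theorem D51252 : act 3 n49150 = n51252 := rfl
theorem F229545 : act 0 n51252 = n51252 := d2_1 D51252 (iv D51252) F219960
theorem F229546 : act 2 n51252 = n49438 := d17_1 D51252 (iv F228492) F228491 F219067 (iv F219961)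
theorem F229547 : act 4 n51252 = n49437 := d24_2 (iv F219962) D51252 F221498 F224478 (iv D50098)
theorem F229548 : act 5 n51252 = n49159 := d25_2 (iv F219963) D51252 (iv D49159)
theorem F229549 : act 6 n51252 = n49606 := d26_2 F228516 D51252 (iv F228513)
theorem F229550 : act 7 n51252 = n49156 := d27_2 (iv F219964) D51252 (iv D49156)
theorem F229551 : act 8 n51252 = n49436 := d28_2 D49150 D51252 F221491 F213329 (iv F210023)
theorem F229552 : act 9 n51252 = n51252 := d29_2 F219965 D51252 (iv D51252)
def n51253 : Q := act 9 n49151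
theorem D51253 : act 9 n49151 = n51253 := rfl
theorem F229553 : act 0 n51253 = n49153 := d8_1 D51253 (iv D49153) (iv F219966)
theorem F229554 : act 1 n51253 = n51253 := d16_1 D51253 (iv D51253) F219967
theorem F229555 : act 3 n51253 = n49935 := d29_1 D51253 (iv D49935) (iv F219968)
theorem F229556 : act 4 n51253 = n49152 := d34_1 D51253 (iv D49152) D49151
theorem F229557 : act 5 n51253 = n50099 := d38_1 D51253 (iv D50099) (iv F219969)
theorem F229558 : act 6 n51253 = n49937 := d41_1 D51253 (iv D49937) (iv F219970)
theorem F229559 : act 7 n51253 = n50096 := d43_1 D51253 (iv D50096) (iv F219971)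
def n51254 : Q := act 8 n49152
theorem D51254 : act 8 n49152 = n51254 := rfl
theorem F229560 : act 0 n51254 = n49154 := d7_1 D51254 (iv D49154) (iv F219973)
theorem F229561 : act 1 n51254 = n51254 := d15_1 D51254 (iv D51254) F219974
theorem F229562 : act 5 n51254 = n49160 := d37_1 D51254 (iv D49160) (iv F219976)
theorem F229563 : act 6 n51254 = n50276 := d40_1 D51254 (iv D50276) (iv F219977)
theorem F229564 : act 9 n51254 = n51254 := d44_2 D49152 D51254 (iv D51254) (iv D49152) F210036
def n51255 : Q := act 8 n49153
theorem D51255 : act 8 n49153 = n51255 := rfl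
theorem F229565 : act 1 n51255 = n49155 := d15_1 D51255 (iv D49155) (iv F219978)
theorem F229566 : act 3 n51255 = n50487 := d28_1 D51255 (iv D50487) (iv F225850) F225855 (iv F219979)
theorem F229567 : act 4 n51255 = n49154 := d33_1 D51255 (iv D49154) (iv F219980)
theorem F229568 : act 5 n51255 = n50100 := d37_1 D51255 (iv D50100) (iv F219981)
theorem F229569 : act 6 n51255 = n50277 := d40_1 D51255 (iv D50277) (iv F219982)
theorem F229570 : act 7 n51255 = n50097 := d42_1 D51255 (iv D50097) (iv F219983)
theorem F229571 : act 9 n51255 = n51255 := d44_2 D49153 D51255 (iv D51255) (iv D49153) F210041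
def n51256 : Q := act 3 n49154
theorem D51256 : act 3 n49154 = n51256 := rfl
theorem F229572 : act 1 n51256 = n49156 := d10_1 D51256 (iv D49156) (iv F219984)
theorem F229573 : act 4 n51256 = n50461 := d24_2 F229567 D51256 F225764 (iv F225857) (iv F229566)
theorem F229574 : act 5 n51256 = n49161 := d25_2 (iv F219985) D51256 (iv D49161)
theorem F229575 : act 6 n51256 = n50278 := d26_2 (iv F219986) D51256 (iv D50278)
theorem F229576 : act 8 n51256 = n49922 := d28_2 D49154 D51256 (iv D49922) (iv D47678) (iv F210044)
theorem F229577 : act 9 n51256 = n51256 := d29_2 F219987 D51256 (iv D51256)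
def n51257 : Q := act 8 n49157
theorem D51257 : act 8 n49157 = n51257 := rfl
theorem F229578 : act 0 n51257 = n49158 := d7_1 D51257 (iv D49158) (iv F220002)
theorem F229579 : act 1 n51257 = n51257 := d15_1 D51257 (iv D51257) F220003
theorem F229580 : act 6 n51257 = n51257 := d40_1 D51257 (iv D51257) F220005
theorem F229581 : act 7 n51257 = n49160 := d42_1 D51257 (iv D49160) (iv F220006)
theorem F229582 : act 9 n51257 = n51257 := d44_2 D49157 D51257 (iv D51257) (iv D49157) F210070
def n51258 : Q := act 3 n49158
theorem D51258 : act 3 n49158 = n51258 := rfl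
theorem F229583 : act 1 n51258 = n49159 := d10_1 D51258 (iv D49159) (iv F220007)
theorem F229584 : act 6 n51258 = n51258 := d26_2 F220008 D51258 (iv D51258)
theorem F229585 : act 7 n51258 = n49161 := d27_2 (iv F220009) D51258 (iv D49161)
theorem F229586 : act 8 n51258 = n49924 := d28_2 D49158 D51258 (iv D49924) (iv D47683) (iv F210072)
theorem F229587 : act 9 n51258 = n51258 := d29_2 F220010 D51258 (iv D51258)
def n51259 : Q := act 4 n49159
theorem D51259 : act 4 n49159 = n51259 := rfl
theorem F229588 : act 0 n51259 = n51259 := d3_1 D51259 (iv D51259) F220011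
theorem F229589 : act 2 n51259 = n49323 := d18_1 D51259 F228535 F228529
theorem F229590 : act 3 n51259 = n50782 := d24_1 D51259 F227306 (iv D50874) F217834 D49159
theorem F229591 : act 5 n51259 = n49327 := d30_2 F229548 D51259 F220983 (iv F221499) (iv F229547)
theorem F229592 : act 6 n51259 = n51259 := d31_2 F220012 D51259 (iv D51259)
theorem F229593 : act 7 n51259 = n49162 := d32_2 (iv F220013) D51259 (iv D49162)
theorem F229594 : act 8 n51259 = n49321 := d33_2 (iv F220014) D51259 F220945
theorem F229595 : act 9 n51259 = n51259 := d34_2 F220015 D51259 (iv D51259)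
def n51260 : Q := act 8 n49163
theorem D51260 : act 8 n49163 = n51260 := rfl
theorem F229596 : act 0 n51260 = n49167 := d7_1 D51260 (iv D49167) (iv F220030)
theorem F229597 : act 1 n51260 = n49172 := d15_1 D51260 (iv D49172) (iv F220031)
theorem F229598 : act 2 n51260 = n49195 := d22_1 D51260 (iv D49195) (iv F220032)
theorem F229599 : act 3 n51260 = n51260 := d28_1 D51260 (iv D51260) F220033 F210129 (iv F220033)
theorem F229600 : act 4 n51260 = n49224 := d33_1 D51260 (iv D49224) (iv F220034)
theorem F229601 : act 5 n51260 = n49164 := d37_1 D51260 (iv D49164) (iv F220035)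
theorem F229602 : act 6 n51260 = n49170 := d40_1 D51260 (iv D49170) (iv F220036)
theorem F229603 : act 7 n51260 = n49305 := d42_1 D51260 (iv D49305) (iv F220037)
theorem F229604 : act 9 n51260 = n51260 := d44_2 D49163 D51260 (iv D51260) (iv D49163) F210121
def n51261 : Q := act 8 n49165
theorem D51261 : act 8 n49165 = n51261 := rfl
theorem F229605 : act 0 n51261 = n49170 := d7_1 D51261 (iv D49170) (iv F220046)
theorem F229606 : act 1 n51261 = n51261 := d15_1 D51261 (iv D51261) F220047
theorem F229607 : act 2 n51261 = n49219 := d22_1 D51261 (iv D49219) (iv F220048)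
theorem F229608 : act 3 n51261 = n51261 := d28_1 D51261 (iv D51261) F220049 F210152 (iv F220049)
theorem F229609 : act 4 n51261 = n49201 := d33_1 D51261 (iv D49201) (iv F220050)
theorem F229610 : act 5 n51261 = n51261 := d37_1 D51261 (iv D51261) F220051
theorem F229611 : act 6 n51261 = n49167 := d40_1 D51261 (iv D49167) (iv F220052)
theorem F229612 : act 7 n51261 = n49307 := d42_1 D51261 (iv D49307) (iv F220053)
theorem F229613 : act 9 n51261 = n51261 := d44_2 D49165 D51261 (iv D51261) (iv D49165) F210144
def n51262 : Q := act 8 n49166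
theorem D51262 : act 8 n49166 = n51262 := rfl
theorem F229614 : act 0 n51262 = n49224 := d7_1 D51262 (iv D49224) (iv F220054)
theorem F229615 : act 1 n51262 = n51262 := d15_1 D51262 (iv D51262) F220055
theorem F229616 : act 2 n51262 = n49221 := d22_1 D51262 (iv D49221) (iv F220056)
theorem F229617 : act 3 n51262 = n49260 := d28_1 D51262 (iv D49260) F210696 (iv F210369) (iv F220057)
theorem F229618 : act 4 n51262 = n49167 := d33_1 D51262 (iv D49167) (iv F220058)
theorem F229619 : act 5 n51262 = n50322 := d37_1 D51262 (iv D50322) (iv F220059)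
theorem F229620 : act 6 n51262 = n49201 := d40_1 D51262 (iv D49201) (iv F220060)
theorem F229621 : act 7 n51262 = n49312 := d42_1 D51262 (iv D49312) (iv F220061)
theorem F229622 : act 9 n51262 = n51262 := d44_2 D49166 D51262 (iv D51262) (iv D49166) F210169
def n51263 : Q := act 3 n49168
theorem D51263 : act 3 n49168 = n51263 := rfl
theorem F229623 : act 0 n51263 = n50752 := d2_1 D51263 (iv D50752) (iv F220068)
theorem F229624 : act 1 n51263 = n51263 := d10_1 D51263 (iv D51263) F220069
theorem F229625 : act 2 n51263 = n50746 := d17_1 D51263 (iv D50746) (iv F218027) F218028 (iv F220070)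
theorem F229626 : act 4 n51263 = n51263 := d24_2 (iv F220071) D51263 (iv D51263) F220071 F210185
theorem F229627 : act 5 n51263 = n50754 := d25_2 (iv F220072) D51263 (iv D50754)
theorem F229628 : act 6 n51263 = n51263 := d26_2 F220073 D51263 (iv D51263)
theorem F229629 : act 7 n51263 = n49314 := d27_2 (iv F220074) D51263 (iv D49314)
theorem F229630 : act 8 n51263 = n51263 := d28_2 D49168 D51263 (iv D51263) (iv D49168) F210178
theorem F229631 : act 9 n51263 = n51263 := d29_2 F220075 D51263 (iv D51263)
def n51264 : Q := act 8 n49169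
theorem D51264 : act 8 n49169 = n51264 := rfl
theorem F229632 : act 0 n51264 = n49219 := d7_1 D51264 (iv D49219) (iv F220076)
theorem F229633 : act 1 n51264 = n50747 := d15_1 D51264 F227423 F227416
theorem F229634 : act 2 n51264 = n49170 := d22_1 D51264 (iv D49170) (iv F220077)
theorem F229635 : act 3 n51264 = n49256 := d28_1 D51264 (iv D49256) F210659 (iv F210330) (iv F220078)
theorem F229636 : act 4 n51264 = n49226 := d33_1 D51264 (iv D49226) (iv F220079)
theorem F229637 : act 5 n51264 = n51264 := d37_1 D51264 (iv D51264) F220080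
theorem F229638 : act 6 n51264 = n49195 := d40_1 D51264 (iv D49195) (iv F220081)
theorem F229639 : act 7 n51264 = n49319 := d42_1 D51264 (iv D49319) (iv F220082)
theorem F229640 : act 9 n51264 = n51264 := d44_2 D49169 D51264 (iv D51264) (iv D49169) F210195
def n51265 : Q := act 8 n49173
theorem D51265 : act 8 n49173 = n51265 := rfl
theorem F229641 : act 0 n51265 = n50748 := d7_1 D51265 F227092 F227084
theorem F229642 : act 1 n51265 = n49174 := d15_1 D51265 (iv D49174) (iv F220106)
theorem F229643 : act 2 n51265 = n50747 := d22_1 D51265 F227423 F227417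
theorem F229644 : act 4 n51265 = n49228 := d33_1 D51265 (iv D49228) (iv F220108)
theorem F229645 : act 5 n51265 = n51265 := d37_1 D51265 (iv D51265) F220109
theorem F229646 : act 6 n51265 = n50316 := d40_1 D51265 (iv D50316) (iv F220110)
theorem F229647 : act 7 n51265 = n49329 := d42_1 D51265 (iv D49329) (iv F220111)
theorem F229648 : act 9 n51265 = n51265 := d44_2 D49173 D51265 (iv D51265) (iv D49173) F210237
theorem F229649 : act 3 n50756 = n51265 := d45_89 F229648 (iv D51265) F220107 F220109 F220108 F210549 F177492 (iv F205818) F175222 (iv D28778) (iv D19786) (iv F85113) F85114 (iv D14222) F43914 (iv F43907) F43908 (iv F47356) F47358 (iv F201097) F25074 (iv F201499) F33420 F33419 F33418 F23635 F23636 F195101 (iv D5067) (iv D3506) D3507 F16770 (iv F16944) (iv F23882) (iv F33799) (iv F44247) (iv F62887) D20827 (iv F201386) F63930 (iv F60513) D20013 F201964 (iv F176926) F176927 D46981 D49168 D51263 F229627 (iv F226710) (iv F226671) F226670 (iv D50748) (iv D48586) F206906 (iv D46356) (iv F206854) F206855 (iv F216896) (iv F225317) F225316 F215399 F188199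 (iv D30937) F91471 F201392 D30369 F128858 (iv F201787) F201786 F131027 F131028 (iv F130764) (iv F206184) (iv F213890) F213891 (iv F215249) (iv D48075) F197899 F130943 D30914 D45095 D48102 (iv F220806) F220808 F215471 D48598 F216977 (iv F226720)
def n51266 : Q := act 8 n49175
theorem D51266 : act 8 n49175 = n51266 := rfl
theorem F229650 : act 0 n51266 = n49263 := d7_1 D51266 (iv D49263) (iv F220120)
theorem F229651 : act 1 n51266 = n49187 := d15_1 D51266 (iv D49187) (iv F220121)
theorem F229652 : act 2 n51266 = n51266 := d22_1 D51266 (iv D51266) F220122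
theorem F229653 : act 3 n51266 = n49401 := d28_1 D51266 (iv F227649) F227646 F218344 (iv F220123)
theorem F229654 : act 4 n51266 = n49179 := d33_1 D51266 (iv D49179) (iv F220124)
theorem F229655 : act 5 n51266 = n49235 := d37_1 D51266 (iv D49235) (iv F220125)
theorem F229656 : act 6 n51266 = n49335 := d40_1 D51266 (iv D49335) (iv F220126)
theorem F229657 : act 7 n51266 = n49176 := d42_1 D51266 (iv D49176) D49175
theorem F229658 : act 9 n51266 = n50761 := d44_2 (iv F220127) D51266 (iv D50761) (iv D48614) F210571
def n51267 : Q := act 3 n49176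
theorem D51267 : act 3 n49176 = n51267 := rfl
theorem F229659 : act 0 n51267 = n49264 := d2_1 D51267 (iv D49264) (iv F220128)
theorem F229660 : act 1 n51267 = n49188 := d10_1 D51267 (iv D49188) (iv F220129)
theorem F229661 : act 4 n51267 = n49213 := d24_2 (iv F220131) D51267 F220359 (iv F218014) F218013
theorem F229662 : act 5 n51267 = n49236 := d25_2 (iv F220132) D51267 (iv D49236)
theorem F229663 : act 6 n51267 = n49177 := d26_2 (iv F220133) D51267 (iv D49177)
theorem F229664 : act 7 n51267 = n49401 := d27_2 F229657 D51267 (iv F229653)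
theorem F229665 : act 8 n51267 = n49242 := d28_2 D49176 D51267 (iv D49242) (iv D47061) (iv F210254)
theorem F229666 : act 2 n51267 = n49277 := d46_4 D46995 F210274 (iv F220131) D51267 (iv F227358) F227357 (iv F227349) F227346 (iv D49272) F210737 (iv D47086) (iv F208353) F208352 (iv F208309) F208306 D47756 F213834 F184897 F201337 F130684 (iv D21180) (iv F86301) (iv D19991) F60452 F60451 F42531 F30015 D9491 F42554 F30020 F22350 (iv F31167) (iv F44197) (iv F201522) F32458 (iv F35472) D11359 (iv F71818) F202134 F89325 F62544 D20708 (iv F206248) F121714 F85119 F59659 F41999 F41998 F42002 (iv F59597) F59596 F59595 (iv F85019) F205783 F72562 F51031 (iv F71788) F205428 (iv F71851) (iv F100227) (iv F140188) F206836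
def n51268 : Q := act 9 n49176
theorem D51268 : act 9 n49176 = n51268 := rfl
theorem F229667 : act 0 n51268 = n49265 := d8_1 D51268 (iv D49265) (iv F220128)
theorem F229668 : act 1 n51268 = n49189 := d16_1 D51268 (iv D49189) (iv F220129)
theorem F229669 : act 2 n51268 = n51268 := d23_1 D51268 (iv D51268) F220130
theorem F229670 : act 4 n51268 = n49180 := d34_1 D51268 (iv D49180) (iv F220131)
theorem F229671 : act 5 n51268 = n49237 := d38_1 D51268 (iv D49237) (iv F220132)
theorem F229672 : act 6 n51268 = n49178 := d41_1 D51268 (iv D49178) (iv F220133)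
theorem F229673 : act 7 n51268 = n50761 := d43_1 D51268 (iv F229658) F229657
theorem F229674 : act 8 n51268 = n49232 := d44_1 D51268 (iv D49232) (iv D47052) (iv F210257) D49176
def n51269 : Q := act 9 n49177
theorem D51269 : act 9 n49177 = n51269 := rfl
theorem F229675 : act 0 n51269 = n49980 := d8_1 D51269 (iv D49980) (iv F220134)
theorem F229676 : act 1 n51269 = n49192 := d16_1 D51269 (iv D49192) (iv F220135)
theorem F229677 : act 2 n51269 = n50303 := d23_1 D51269 (iv D50303) F220140
theorem F229678 : act 3 n51269 = n49178 := d29_1 D51269 (iv D49178) D49177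
theorem F229679 : act 4 n51269 = n50302 := d34_1 D51269 (iv D50302) (iv F220136)
theorem F229680 : act 5 n51269 = n49969 := d38_1 D51269 (iv D49969) (iv F220137)
theorem F229681 : act 7 n51269 = n49338 := d43_1 D51269 (iv D49338) (iv F220138)
def n51270 : Q := act 3 n49182
theorem D51270 : act 3 n49182 = n51270 := rfl
theorem F229682 : act 0 n51270 = n49202 := d2_1 D51270 (iv D49202) (iv F220172)
theorem F229683 : act 1 n51270 = n49242 := d10_1 D51270 (iv D49242) (iv F220173)
theorem F229684 : act 5 n51270 = n49231 := d25_2 (iv F220176) D51270 (iv D49231)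
theorem F229685 : act 6 n51270 = n49183 := d26_2 (iv F220177) D51270 (iv D49183)
theorem F229686 : act 7 n51270 = n49383 := d27_2 (iv F220178) D51270 F221277
theorem F229687 : act 8 n51270 = n49188 := d28_2 D49182 D51270 (iv D49188) (iv D47001) (iv F210285)
theorem F229688 : act 2 n51270 = n49205 := d46_4 D47052 (iv F220176) F220175 D51270 (iv F227328) F227327 F220682 (iv D47100) (iv D42446) (iv D29131) F86430 F60563 F42620 (iv D9506) F30064 (iv D4784) F15872 F11287 F8051 F6234 F4923 (iv D680) (iv D467) (iv D317) F1237 F897 F657 (iv D110) F469 F468 F467 F466 (iv F636) (iv F792) D196 F1130 F1129 D287 D421 D613 D885 F4639 F4636 D1272 D1826 D2627 F201265 F15614 F15618 (iv F15540) D4675 D6760 F30959 (iv F43904) (iv F202212) (iv F51026) (iv F71783) D24015 F205600 (iv F175264) (iv F208272) F208271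
theorem F229689 : act 4 n49204 = n51270 := d18_0 F229688 (iv D49205) D49204
def n51271 : Q := act 9 n49182
theorem D51271 : act 9 n49182 = n51271 := rfl
theorem F229690 : act 0 n51271 = n49203 := d8_1 D51271 (iv D49203) (iv F220172)
theorem F229691 : act 1 n51271 = n49243 := d16_1 D51271 (iv D49243) (iv F220173)
theorem F229692 : act 2 n51271 = n51271 := d23_1 D51271 (iv D51271) F220174
theorem F229693 : act 4 n51271 = n51271 := d34_1 D51271 (iv D51271) F220175
theorem F229694 : act 5 n51271 = n49232 := d38_1 D51271 (iv D49232) (iv F220176)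
theorem F229695 : act 6 n51271 = n49184 := d41_1 D51271 (iv D49184) (iv F220177)
theorem F229696 : act 7 n51271 = n50760 := d43_1 D51271 (iv D50760) (iv F220178)
theorem F229697 : act 8 n51271 = n49237 := d44_1 D51271 (iv D49237) (iv D47057) (iv F210288) D49182
def n51272 : Q := act 2 n49183
theorem D51272 : act 2 n49183 = n51272 := rfl
theorem F229698 : act 0 n51272 = n49204 := d1_1 D51272 (iv D49204) (iv F220179)
theorem F229699 : act 1 n51272 = n49287 := d9_1 D51272 F220736 (iv F218088) F218089 (iv F220180)
theorem F229700 : act 3 n51272 = n51272 := d17_2 D49183 D51272 (iv D51272) (iv D49183) F210291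
theorem F229701 : act 5 n51272 = n49285 := d19_2 (iv F220181) D51272 F220725
theorem F229702 : act 6 n51272 = n49205 := d20_2 F229685 D51272 (iv F229688)
theorem F229703 : act 7 n51272 = n49345 := d21_2 (iv F220182) D51272 (iv D49345)
theorem F229704 : act 8 n51272 = n49190 := d22_2 (iv F220183) D51272 (iv D49190)
theorem F229705 : act 4 n49202 = n51272 := d33_3 F229704 (iv F220226) (iv F220304)
def n51273 : Q := act 4 n49183
theorem D51273 : act 4 n49183 = n51273 := rfl
theorem F229706 : act 0 n51273 = n49205 := d3_1 D51273 (iv D49205) (iv F220179)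
theorem F229707 : act 1 n51273 = n49977 := d11_1 D51273 F223914 (iv F220180)
theorem F229708 : act 2 n51273 = n49202 := d18_1 D51273 F229705 (iv D51272)
theorem F229709 : act 3 n51273 = n51273 := d24_1 D51273 (iv D51273) (iv D49183) F210292 D49183
theorem F229710 : act 5 n51273 = n49975 := d30_2 (iv F220181) D51273 (iv D49975) F213891 (iv F215249)
theorem F229711 : act 6 n51273 = n49204 := d31_2 F229685 D51273 F229689
theorem F229712 : act 7 n51273 = n49346 := d32_2 (iv F220182) D51273 (iv D49346)
theorem F229713 : act 8 n51273 = n49191 := d33_2 (iv F220183) D51273 (iv D49191)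
def n51274 : Q := act 9 n49183
theorem D51274 : act 9 n49183 = n51274 := rfl
theorem F229714 : act 0 n51274 = n49206 := d8_1 D51274 (iv D49206) (iv F220179)
theorem F229715 : act 1 n51274 = n50295 := d16_1 D51274 (iv D50295) (iv F220180)
theorem F229716 : act 3 n51274 = n49184 := d29_1 D51274 (iv D49184) D49183
theorem F229717 : act 5 n51274 = n50280 := d38_1 D51274 (iv D50280) (iv F220181)
theorem F229718 : act 7 n51274 = n49347 := d43_1 D51274 (iv D49347) (iv F220182)
def n51275 : Q := act 8 n49185
theorem D51275 : act 8 n49185 = n51275 := rfl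
theorem F229719 : act 0 n51275 = n49207 := d7_1 D51275 (iv D49207) (iv F220191)
theorem F229720 : act 1 n51275 = n49235 := d15_1 D51275 (iv D49235) (iv F220192)
theorem F229721 : act 2 n51275 = n49197 := d22_1 D51275 (iv D49197) (iv F220193)
theorem F229722 : act 3 n51275 = n49403 := d28_1 D51275 F221335 F215853 F210571 (iv F220194)
theorem F229723 : act 4 n51275 = n51275 := d33_1 D51275 (iv D51275) F220195
theorem F229724 : act 5 n51275 = n49187 := d37_1 D51275 (iv D49187) (iv F220196)
theorem F229725 : act 6 n51275 = n49445 := d40_1 D51275 (iv D49445) (iv F220197)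
theorem F229726 : act 7 n51275 = n49186 := d42_1 D51275 (iv D49186) D49185
def n51276 : Q := act 3 n49186
theorem D51276 : act 3 n49186 = n51276 := rfl
theorem F229727 : act 0 n51276 = n49208 := d2_1 D51276 (iv D49208) (iv F220199)
theorem F229728 : act 1 n51276 = n49236 := d10_1 D51276 (iv D49236) (iv F220200)
theorem F229729 : act 2 n51276 = n49215 := d17_1 D51276 F220369 F210456 F210358 (iv F220201)
theorem F229730 : act 5 n51276 = n49188 := d25_2 (iv F220203) D51276 (iv D49188)
theorem F229731 : act 6 n51276 = n49229 := d26_2 (iv F220204) D51276 (iv D49229)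
theorem F229732 : act 7 n51276 = n49403 := d27_2 F229726 D51276 (iv F229722)
theorem F229733 : act 8 n51276 = n49231 := d28_2 D49186 D51276 (iv D49231) (iv D47052) (iv F210298)
theorem F229734 : act 4 n49233 = n51276 := d46_2 F220721 (iv F220473) (iv D51276) F220201 F210354 F210353 (iv D42384) (iv D29090) F86321 F60465 F42540 F42539 F30023 (iv F42504) F42503 F42502 (iv F60407) F60406 (iv F86208) (iv F123300) D42321 F176882 F199570 D42328 F176916 (iv F175142) F202070 F123709 (iv D29138) (iv D20027) (iv D13779) F42591 F30052 F21291 (iv D4544) D4543 D6563 F30063 (iv F42173) (iv F59911) (iv F85462) D28789 F122245 F89948 F62956 (iv F89931) (iv F128768) (iv F201064) F201065 (iv D14572) (iv F60504) F60503 F60502 (iv D13768) F42567 D9499 (iv F60550) (iv F86431) D29131 D42445 D47097 D49284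
def n51277 : Q := act 9 n49186
theorem D51277 : act 9 n49186 = n51277 := rfl
theorem F229735 : act 0 n51277 = n49209 := d8_1 D51277 (iv D49209) (iv F220199)
theorem F229736 : act 1 n51277 = n49237 := d16_1 D51277 (iv D49237) (iv F220200)
theorem F229737 : act 2 n51277 = n49198 := d23_1 D51277 (iv D49198) (iv F220201)
theorem F229738 : act 4 n51277 = n51277 := d34_1 D51277 (iv D51277) F220202
theorem F229739 : act 5 n51277 = n49189 := d38_1 D51277 (iv D49189) (iv F220203)
theorem F229740 : act 6 n51277 = n49230 := d41_1 D51277 (iv D49230) (iv F220204)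
theorem F229741 : act 8 n51277 = n49243 := d44_1 D51277 (iv D49243) (iv D47061) (iv F210301) D49186
def n51278 : Q := act 9 n49187
theorem D51278 : act 9 n49187 = n51278 := rfl
theorem F229742 : act 0 n51278 = n49211 := d8_1 D51278 (iv D49211) (iv F220205)
theorem F229743 : act 1 n51278 = n50761 := d16_1 D51278 (iv F229658) F229651
theorem F229744 : act 2 n51278 = n49199 := d23_1 D51278 (iv D49199) (iv F220206)
theorem F229745 : act 3 n51278 = n49404 := d29_1 D51278 (iv D49404) F220210
theorem F229746 : act 4 n51278 = n49193 := d34_1 D51278 (iv D49193) (iv F220207)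
theorem F229747 : act 6 n51278 = n49353 := d41_1 D51278 (iv D49353) (iv F220208)
theorem F229748 : act 7 n51278 = n49189 := d43_1 D51278 (iv D49189) (iv F220209)
theorem F229749 : act 8 n51278 = n49245 := d44_1 D51278 (iv D49245) (iv D47062) (iv F210306) D49187
def n51279 : Q := act 9 n49188
theorem D51279 : act 9 n49188 = n51279 := rfl
theorem F229750 : act 0 n51279 = n49212 := d8_1 D51279 (iv D49212) (iv F220211)
theorem F229751 : act 2 n51279 = n49216 := d23_1 D51279 (iv D49216) (iv F220212)
theorem F229752 : act 3 n51279 = n49189 := d29_1 D51279 (iv D49189) D49188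
theorem F229753 : act 4 n51279 = n49214 := d34_1 D51279 (iv D49214) (iv F220213)
theorem F229754 : act 6 n51279 = n49192 := d41_1 D51279 (iv D49192) (iv F220214)
theorem F229755 : act 7 n51279 = n49404 := d43_1 D51279 (iv D49404) (iv F220215)
def n51280 : Q := act 9 n49190
theorem D51280 : act 9 n49190 = n51280 := rfl
theorem F229756 : act 0 n51280 = n49214 := d8_1 D51280 (iv D49214) (iv F220221)
theorem F229757 : act 2 n51280 = n49192 := d23_1 D51280 (iv D49192) D49190
theorem F229758 : act 3 n51280 = n49200 := d29_1 D51280 (iv D49200) (iv F220222)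
theorem F229759 : act 4 n51280 = n49212 := d34_1 D51280 (iv D49212) F220226
theorem F229760 : act 5 n51280 = n50282 := d38_1 D51280 (iv D50282) (iv F220223)
theorem F229761 : act 6 n51280 = n49216 := d41_1 D51280 (iv D49216) (iv F220224)
theorem F229762 : act 7 n51280 = n49358 := d43_1 D51280 (iv D49358) (iv F220225)
def n51281 : Q := act 9 n49191
theorem D51281 : act 9 n49191 = n51281 := rfl
theorem F229763 : act 0 n51281 = n49216 := d8_1 D51281 (iv D49216) (iv F220227)
theorem F229764 : act 1 n51281 = n50302 := d16_1 D51281 (iv D50302) (iv F220228)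
theorem F229765 : act 2 n51281 = n49212 := d23_1 D51281 (iv D49212) (iv F220229)
theorem F229766 : act 3 n51281 = n49194 := d29_1 D51281 (iv D49194) (iv F220230)
theorem F229767 : act 4 n51281 = n49192 := d34_1 D51281 (iv D49192) D49191
theorem F229768 : act 5 n51281 = n50305 := d38_1 D51281 (iv D50305) (iv F220231)
theorem F229769 : act 6 n51281 = n49214 := d41_1 D51281 (iv D49214) (iv F220232)
theorem F229770 : act 7 n51281 = n49359 := d43_1 D51281 (iv D49359) (iv F220233)
def n51282 : Q := act 8 n49192
theorem D51282 : act 8 n49192 = n51282 := rfl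
theorem F229771 : act 0 n51282 = n49217 := d7_1 D51282 (iv D49217) (iv F220234)
theorem F229772 : act 3 n51282 = n49253 := d28_1 D51282 (iv D49253) F210640 (iv F210319) (iv F220235)
theorem F229773 : act 5 n51282 = n50283 := d37_1 D51282 (iv D50283) (iv F220236)
theorem F229774 : act 7 n51282 = n49360 := d42_1 D51282 (iv D49360) (iv F220237)
def n51283 : Q := act 8 n49194
theorem D51283 : act 8 n49194 = n51283 := rfl
theorem F229775 : act 0 n51283 = n49221 := d7_1 D51283 (iv D49221) (iv F220246)
theorem F229776 : act 1 n51283 = n50315 := d15_1 D51283 (iv D50315) (iv F220247)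
theorem F229777 : act 2 n51283 = n49224 := d22_1 D51283 (iv D49224) (iv F220248)
theorem F229778 : act 4 n51283 = n49195 := d33_1 D51283 (iv D49195) (iv F220249)
theorem F229779 : act 5 n51283 = n50317 := d37_1 D51283 (iv D50317) (iv F220250)
theorem F229780 : act 6 n51283 = n49226 := d40_1 D51283 (iv D49226) (iv F220251)
theorem F229781 : act 7 n51283 = n49364 := d42_1 D51283 (iv D49364) (iv F220252)
theorem F229782 : act 9 n51283 = n51283 := d44_2 D49194 D51283 (iv D51283) (iv D49194) F210337
def n51284 : Q := act 8 n49200
theorem D51284 : act 8 n49200 = n51284 := rfl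
theorem F229783 : act 0 n51284 = n49226 := d7_1 D51284 (iv D49226) (iv F220288)
theorem F229784 : act 1 n51284 = n50745 := d15_1 D51284 F227390 F227384
theorem F229785 : act 2 n51284 = n49201 := d22_1 D51284 (iv D49201) (iv F220289)
theorem F229786 : act 4 n51284 = n49219 := d33_1 D51284 (iv D49219) (iv F220290)
theorem F229787 : act 5 n51284 = n50285 := d37_1 D51284 (iv D50285) (iv F220291)
theorem F229788 : act 6 n51284 = n49221 := d40_1 D51284 (iv D49221) (iv F220292)
theorem F229789 : act 7 n51284 = n49372 := d42_1 D51284 (iv D49372) (iv F220293)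
theorem F229790 : act 9 n51284 = n51284 := d44_2 D49200 D51284 (iv D51284) (iv D49200) F210375
def n51285 : Q := act 9 n49202
theorem D51285 : act 9 n49202 = n51285 := rfl
theorem F229791 : act 1 n51285 = n50310 := d16_1 D51285 (iv D50310) (iv F220300)
theorem F229792 : act 3 n51285 = n49203 := d29_1 D51285 (iv D49203) D49202
theorem F229793 : act 5 n51285 = n50308 := d38_1 D51285 (iv D50308) (iv F220301)
theorem F229794 : act 6 n51285 = n49206 := d41_1 D51285 (iv D49206) (iv F220302)
theorem F229795 : act 7 n51285 = n50450 := d43_1 D51285 (iv D50450) (iv F220303)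
def n51286 : Q := act 1 n49204
theorem D51286 : act 1 n49204 = n51286 := rfl
theorem F229796 : act 0 n51286 = n49277 := d0_1 D51286 (iv F227358) F227357 (iv F229699) F229698
theorem F229797 : act 2 n51286 = n49264 := d9_2 D49204 D51286 F220625 (iv F217878) F217877
theorem F229798 : act 3 n51286 = n51286 := d10_2 F220312 D51286 (iv D51286)
theorem F229799 : act 4 n51286 = n49242 := d11_2 (iv F229689) D51286 (iv F229683)
theorem F229800 : act 5 n51286 = n49268 := d12_2 (iv F220313) D51286 F220649
theorem F229801 : act 6 n51286 = n49977 := d13_2 F229711 D51286 (iv F229707)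
theorem F229802 : act 7 n51286 = n49382 := d14_2 (iv F220314) D51286 (iv D49382)
theorem F229803 : act 8 n51286 = n49213 := d15_2 (iv F220315) D51286 (iv D49213)
def n51287 : Q := act 9 n49204
theorem D51287 : act 9 n49204 = n51287 := rfl
theorem F229804 : act 2 n51287 = n49206 := d23_1 D51287 (iv D49206) D49204
theorem F229805 : act 3 n51287 = n51287 := d29_1 D51287 (iv D51287) F220312
theorem F229806 : act 5 n51287 = n50286 := d38_1 D51287 (iv D50286) (iv F220313)
theorem F229807 : act 7 n51287 = n49384 := d43_1 D51287 (iv D49384) (iv F220314)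
def n51288 : Q := act 5 n49205
theorem D51288 : act 5 n49205 = n51288 := rfl
theorem F229808 : act 0 n51288 = n49975 := d4_1 D51288 (iv F229710) F229706
theorem F229809 : act 1 n51288 = n49239 := d12_1 D51288 (iv F227331) F227328
theorem F229810 : act 2 n51288 = n49231 := d19_1 D51288 (iv F229684) F229688
theorem F229811 : act 3 n51288 = n51288 := d25_1 D51288 (iv D51288) F220316
theorem F229812 : act 4 n51288 = n49229 := d30_1 D51288 F220450 F215262 (iv F210402) D49205
theorem F229813 : act 6 n51288 = n49233 := d35_2 F229702 D51288 F220473 (iv F220727) (iv F229701)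
theorem F229814 : act 7 n51288 = n49385 := d36_2 (iv F220317) D51288 (iv D49385)
theorem F229815 : act 8 n51288 = n49215 := d37_2 (iv F220318) D51288 (iv D49215)
def n51289 : Q := act 9 n49205
theorem D51289 : act 9 n49205 = n51289 := rfl
theorem F229816 : act 3 n51289 = n51289 := d29_1 D51289 (iv D51289) F220316
theorem F229817 : act 4 n51289 = n49206 := d34_1 D51289 (iv D49206) D49205
theorem F229818 : act 7 n51289 = n49386 := d43_1 D51289 (iv D49386) (iv F220317)
def n51290 : Q := act 8 n49206
theorem D51290 : act 8 n49206 = n51290 := rfl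
theorem F229819 : act 3 n51290 = n49276 := d28_1 D51290 (iv D49276) F210744 (iv F210409) (iv F220319)
theorem F229820 : act 5 n51290 = n50287 := d37_1 D51290 (iv D50287) (iv F220320)
theorem F229821 : act 7 n51290 = n49387 := d42_1 D51290 (iv D49387) (iv F220321)
theorem F229822 : act 9 n51290 = n49217 := d44_2 D49206 D51290 (iv D49217) (iv D47027) (iv F210404)
def n51291 : Q := act 9 n49208
theorem D51291 : act 9 n49208 = n51291 := rfl
theorem F229823 : act 1 n51291 = n49973 := d16_1 D51291 (iv D49973) (iv F220329)
theorem F229824 : act 2 n51291 = n50305 := d23_1 D51291 (iv D50305) (iv F220330)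
theorem F229825 : act 3 n51291 = n49209 := d29_1 D51291 (iv D49209) D49208
theorem F229826 : act 4 n51291 = n50300 := d34_1 D51291 (iv D50300) F220335
theorem F229827 : act 5 n51291 = n49212 := d38_1 D51291 (iv D49212) (iv F220331)
theorem F229828 : act 6 n51291 = n49976 := d41_1 D51291 (iv D49976) (iv F220332)
theorem F229829 : act 7 n51291 = n50413 := d43_1 D51291 (iv D50413) (iv F220333)
def n51292 : Q := act 9 n49210
theorem D51292 : act 9 n49210 = n51292 := rfl
theorem F229830 : act 0 n51292 = n49404 := d8_1 D51292 (iv D49404) (iv F220342)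
theorem F229831 : act 1 n51292 = n49991 := d16_1 D51292 F223980 (iv F220343)
theorem F229832 : act 2 n51292 = n49359 := d23_1 D51292 (iv D49359) (iv F220344)
theorem F229833 : act 3 n51292 = n49211 := d29_1 D51292 (iv D49211) D49210
theorem F229834 : act 4 n51292 = n49358 := d34_1 D51292 (iv D49358) (iv F220345)
theorem F229835 : act 5 n51292 = n50413 := d38_1 D51292 (iv D50413) (iv F220346)
theorem F229836 : act 6 n51292 = n49394 := d41_1 D51292 (iv D49394) (iv F220347)
theorem F229837 : act 7 n51292 = n49212 := d43_1 D51292 (iv D49212) (iv F220348)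
def n51293 : Q := act 8 n49212
theorem D51293 : act 8 n49212 = n51293 := rfl
theorem F229838 : act 3 n51293 = n49283 := d28_1 D51293 (iv D49283) F210777 (iv F210429) (iv F220356)
theorem F229839 : act 6 n51293 = n49217 := d40_1 D51293 (iv D49217) (iv F220357)
def n51294 : Q := act 9 n49213
theorem D51294 : act 9 n49213 = n51294 := rfl
theorem F229840 : act 1 n51294 = n49214 := d16_1 D51294 (iv D49214) D49213
theorem F229841 : act 2 n51294 = n49278 := d23_1 D51294 (iv D49278) (iv F220358)
theorem F229842 : act 3 n51294 = n49225 := d29_1 D51294 (iv D49225) (iv F220359)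
theorem F229843 : act 5 n51294 = n49281 := d38_1 D51294 (iv D49281) (iv F220360)
theorem F229844 : act 6 n51294 = n50302 := d41_1 D51294 (iv D50302) (iv F220361)
theorem F229845 : act 7 n51294 = n49402 := d43_1 D51294 (iv D49402) (iv F220362)
def n51295 : Q := act 8 n49214
theorem D51295 : act 8 n49214 = n51295 := rfl
theorem F229846 : act 2 n51295 = n49217 := d22_1 D51295 (iv D49217) (iv F220363)
theorem F229847 : act 5 n51295 = n50290 := d37_1 D51295 (iv D50290) (iv F220365)
theorem F229848 : act 7 n51295 = n49405 := d42_1 D51295 (iv D49405) (iv F220366)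
def n51296 : Q := act 9 n49215
theorem D51296 : act 9 n49215 = n51296 := rfl
theorem F229849 : act 0 n51296 = n50305 := d8_1 D51296 (iv D50305) (iv F220367)
theorem F229850 : act 1 n51296 = n49252 := d16_1 D51296 (iv D49252) (iv F220368)
theorem F229851 : act 3 n51296 = n49220 := d29_1 D51296 (iv D49220) (iv F220369)
theorem F229852 : act 4 n51296 = n49234 := d34_1 D51296 (iv D49234) (iv F220370)
theorem F229853 : act 5 n51296 = n49216 := d38_1 D51296 (iv D49216) D49215
theorem F229854 : act 6 n51296 = n50307 := d41_1 D51296 (iv D50307) F220372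
theorem F229855 : act 7 n51296 = n49407 := d43_1 D51296 (iv D49407) (iv F220371)
def n51297 : Q := act 8 n49216
theorem D51297 : act 8 n49216 = n51297 := rfl
theorem F229856 : act 4 n51297 = n49217 := d33_1 D51297 (iv D49217) (iv F220374)
theorem F229857 : act 7 n51297 = n49408 := d42_1 D51297 (iv D49408) (iv F220375)
def n51298 : Q := act 8 n49220
theorem D51298 : act 8 n49220 = n51298 := rfl
theorem F229858 : act 0 n51298 = n50317 := d7_1 D51298 (iv D50317) (iv F220394)
theorem F229859 : act 1 n51298 = n49257 := d15_1 D51298 (iv D49257) (iv F220395)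
theorem F229860 : act 2 n51298 = n50322 := d22_1 D51298 (iv D50322) (iv F220396)
theorem F229861 : act 4 n51298 = n49222 := d33_1 D51298 (iv D49222) (iv F220397)
theorem F229862 : act 5 n51298 = n49221 := d37_1 D51298 (iv D49221) (iv F220398)
theorem F229863 : act 6 n51298 = n50319 := d40_1 D51298 (iv D50319) (iv F220399)
theorem F229864 : act 7 n51298 = n49414 := d42_1 D51298 (iv D49414) (iv F220400)
theorem F229865 : act 9 n51298 = n51298 := d44_2 D49220 D51298 (iv D51298) (iv D49220) F210459
def n51299 : Q := act 3 n49221
theorem D51299 : act 3 n49221 = n51299 := rfl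
theorem F229866 : act 4 n51299 = n49297 := d24_2 (iv F220401) D51299 (iv D49297) F210818 (iv F210463)
theorem F229867 : act 7 n51299 = n49415 := d27_2 (iv F220402) D51299 (iv D49415)
theorem F229868 : act 9 n51299 = n51299 := d29_2 F220403 D51299 (iv D51299)
def n51300 : Q := act 8 n49225
theorem D51300 : act 8 n49225 = n51300 := rfl
theorem F229869 : act 0 n51300 = n50749 := d7_1 D51300 F227498 F227491
theorem F229870 : act 1 n51300 = n49226 := d15_1 D51300 (iv D49226) (iv F220426)
theorem F229871 : act 2 n51300 = n49228 := d22_1 D51300 (iv D49228) (iv F220427)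
theorem F229872 : act 4 n51300 = n50747 := d33_1 D51300 F227423 F227419
theorem F229873 : act 5 n51300 = n49298 := d37_1 D51300 (iv D49298) (iv F220428)
theorem F229874 : act 6 n51300 = n50315 := d40_1 D51300 (iv D50315) (iv F220429)
theorem F229875 : act 7 n51300 = n49429 := d42_1 D51300 (iv D49429) (iv F220430)
theorem F229876 : act 9 n51300 = n51300 := d44_2 D49225 D51300 (iv D51300) (iv D49225) F210519
def n51301 : Q := act 3 n49226
theorem D51301 : act 3 n49226 = n51301 := rfl
theorem F229877 : act 2 n51301 = n49301 := d17_1 D51301 (iv D49301) F210861 (iv F210524) (iv F220431)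
theorem F229878 : act 5 n51301 = n50292 := d25_2 (iv F220432) D51301 (iv D50292)
theorem F229879 : act 7 n51301 = n49430 := d27_2 (iv F220433) D51301 (iv D49430)
theorem F229880 : act 9 n51301 = n51301 := d29_2 F220434 D51301 (iv D51301)
def n51302 : Q := act 8 n49227
theorem D51302 : act 8 n49227 = n51302 := rfl
theorem F229881 : act 0 n51302 = n49228 := d7_1 D51302 (iv D49228) (iv F220435)
theorem F229882 : act 1 n51302 = n51302 := d15_1 D51302 (iv D51302) F220436
theorem F229883 : act 2 n51302 = n50749 := d22_1 D51302 F227498 F227493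
theorem F229884 : act 3 n51302 = n50322 := d28_1 D51302 (iv D50322) (iv F220276) F220280 (iv F220437)
theorem F229885 : act 4 n51302 = n50748 := d33_1 D51302 F227092 F227088
theorem F229886 : act 5 n51302 = n49260 := d37_1 D51302 (iv D49260) (iv F220438)
theorem F229887 : act 6 n51302 = n50298 := d40_1 D51302 (iv D50298) (iv F220439)
theorem F229888 : act 7 n51302 = n49442 := d42_1 D51302 (iv D49442) (iv F220440)
theorem F229889 : act 9 n51302 = n51302 := d44_2 D49227 D51302 (iv D51302) (iv D49227) F210547
def n51303 : Q := act 9 n49229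
theorem D51303 : act 9 n49229 = n51303 := rfl
theorem F229890 : act 0 n51303 = n49976 := d8_1 D51303 (iv D49976) (iv F220447)
theorem F229891 : act 1 n51303 = n49240 := d16_1 D51303 (iv D49240) (iv F220448)
theorem F229892 : act 2 n51303 = n50307 := d23_1 D51303 (iv D50307) (iv F220449)
theorem F229893 : act 3 n51303 = n49230 := d29_1 D51303 (iv D49230) D49229
theorem F229894 : act 5 n51303 = n50281 := d38_1 D51303 (iv D50281) (iv F220450)
theorem F229895 : act 7 n51303 = n49448 := d43_1 D51303 (iv D49448) (iv F220451)
def n51304 : Q := act 9 n49231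
theorem D51304 : act 9 n49231 = n51304 := rfl
theorem F229896 : act 0 n51304 = n50308 := d8_1 D51304 (iv D50308) (iv F220460)
theorem F229897 : act 1 n51304 = n49248 := d16_1 D51304 (iv D49248) (iv F220461)
theorem F229898 : act 3 n51304 = n49232 := d29_1 D51304 (iv D49232) D49231
theorem F229899 : act 4 n51304 = n50307 := d34_1 D51304 (iv D50307) (iv F220462)
theorem F229900 : act 6 n51304 = n49234 := d41_1 D51304 (iv D49234) (iv F220463)
theorem F229901 : act 7 n51304 = n50448 := d43_1 D51304 (iv D50448) (iv F220464)
def n51305 : Q := act 1 n49233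
theorem D51305 : act 1 n49233 = n51305 := rfl
theorem F229902 : act 0 n51305 = n49269 := d0_1 D51305 F220654 F215316 D48104 (iv F220471)
theorem F229903 : act 2 n51305 = n49249 := d9_2 D49233 D51305 (iv D49249) (iv D47065) (iv F210578)
theorem F229904 : act 3 n51305 = n51305 := d10_2 F220472 D51305 (iv D51305)
theorem F229905 : act 4 n51305 = n49236 := d11_2 (iv F229734) D51305 (iv F229728)
theorem F229906 : act 5 n51305 = n49280 := d12_2 (iv F220473) D51305 F220700
theorem F229907 : act 6 n51305 = n49239 := d13_2 F229813 D51305 (iv F229809)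
theorem F229908 : act 7 n51305 = n49456 := d14_2 (iv F220474) D51305 (iv D49456)
theorem F229909 : act 8 n51305 = n49247 := d15_2 (iv F220475) D51305 F220538
def n51306 : Q := act 9 n49233
theorem D51306 : act 9 n49233 = n51306 := rfl
theorem F229910 : act 0 n51306 = n50300 := d8_1 D51306 (iv D50300) (iv F220471)
theorem F229911 : act 2 n51306 = n49234 := d23_1 D51306 (iv D49234) D49233
theorem F229912 : act 3 n51306 = n51306 := d29_1 D51306 (iv D51306) F220472
theorem F229913 : act 5 n51306 = n50289 := d38_1 D51306 (iv D50289) (iv F220473)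
theorem F229914 : act 7 n51306 = n49457 := d43_1 D51306 (iv D49457) (iv F220474)
def n51307 : Q := act 8 n49234
theorem D51307 : act 8 n49234 = n51307 := rfl
theorem F229915 : act 1 n51307 = n49253 := d15_1 D51307 (iv D49253) (iv F220476)
theorem F229916 : act 5 n51307 = n50291 := d37_1 D51307 (iv D50291) (iv F220478)
theorem F229917 : act 7 n51307 = n49458 := d42_1 D51307 (iv D49458) (iv F220479)
def n51308 : Q := act 3 n49235
theorem D51308 : act 3 n49235 = n51308 := rfl
theorem F229918 : act 0 n51308 = n49266 := d2_1 D51308 (iv D49266) (iv F220480)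
theorem F229919 : act 1 n51308 = n49403 := d10_1 D51308 (iv F229722) F229720
theorem F229920 : act 5 n51308 = n49401 := d25_2 F229655 D51308 (iv F229653)
theorem F229921 : act 6 n51308 = n49464 := d26_2 (iv F220483) D51308 (iv D49464)
theorem F229922 : act 7 n51308 = n49236 := d27_2 (iv F220484) D51308 (iv D49236)
theorem F229923 : act 8 n51308 = n49244 := d28_2 D49235 D51308 (iv D49244) (iv D47062) (iv F210595)
theorem F229924 : act 2 n51308 = n49490 := d46_4 D51266 F229655 F220482 D51308 F221729 F211647 (iv F211804) (iv F221153) F221152 (iv F217894) F217893 F208241 F175203 (iv D41911) (iv F205803) F174844 F174843 F121933 F206070 F202534 (iv D30208) (iv F121875) (iv D28703) F85221 F85220 F59728 F42046 D13593 F59754 F42053 (iv F44021) (iv F205645) F59627 F59626 F205646 F205468 F59261 F41797 (iv F59370) F205176 F46192 D10380 F46269 F46268 D11414 D16588 (iv F206095) F85268 F85272 F59823 F42102 F31110 F31109 (iv F44110) (iv F206000) (iv F206112) (iv F72156) (iv F103164) (iv F135140) (iv F207027) (iv F210716) (iv F220120)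
theorem F229925 : act 4 n49456 = n51308 := d46_2 F221726 (iv F221595) (iv D51308) F220481 (iv F229720) F229719 (iv D49207) F210414 F177129 F123483 F123482 F86327 F60490 D20006 F86362 (iv F123544) D42395 F206269 (iv F188251) (iv F207799) F207805 (iv D46574) (iv D41583) (iv D28553) F84758 F59410 F41838 (iv D9333) (iv D6448) F20929 (iv D4468) F14864 F10602 F10601 F10605 D2178 (iv F14951) F14950 (iv F21051) (iv F29701) (iv F42072) (iv F59274) (iv D13493) (iv D9311) F29453 F29452 F29451 (iv D6435) F20886 F14943 D3127 D4508 D6509 F29820 (iv F30165) D9539 (iv F60794) (iv F86794) D29266 D42648 D47286 D49489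
def n51309 : Q := act 9 n49235
theorem D51309 : act 9 n49235 = n51309 := rfl
theorem F229926 : act 0 n51309 = n49267 := d8_1 D51309 (iv D49267) (iv F220480)
theorem F229927 : act 2 n51309 = n51309 := d23_1 D51309 (iv D51309) F220481
theorem F229928 : act 4 n51309 = n51309 := d34_1 D51309 (iv D51309) F220482
theorem F229929 : act 5 n51309 = n50761 := d38_1 D51309 (iv F229658) F229655
theorem F229930 : act 6 n51309 = n49465 := d41_1 D51309 (iv D49465) (iv F220483)
theorem F229931 : act 7 n51309 = n49237 := d43_1 D51309 (iv D49237) (iv F220484)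
theorem F229932 : act 8 n51309 = n50760 := d44_1 D51309 (iv D50760) F220171 F220170 D49235
def n51310 : Q := act 2 n49236
theorem D51310 : act 2 n49236 = n51310 := rfl
theorem F229933 : act 0 n51310 = n49268 := d1_1 D51310 (iv D49268) (iv F220485)
theorem F229934 : act 1 n51310 = n49250 := d9_1 D51310 F220549 (iv F220368) (iv F229729) F229728
theorem F229935 : act 3 n51310 = n51310 := d17_2 D49236 D51310 (iv D51310) (iv D49236) F210599
theorem F229936 : act 4 n51310 = n49249 := d18_2 F229905 D51310 (iv F229903)
theorem F229937 : act 5 n51310 = n49277 := d19_2 F229662 D51310 (iv F229666)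
theorem F229938 : act 6 n51310 = n49238 := d20_2 (iv F220486) D51310 (iv D49238)
theorem F229939 : act 7 n51310 = n49490 := d21_2 F229922 D51310 (iv F229924)
theorem F229940 : act 8 n51310 = n49246 := d22_2 (iv F220487) D51310 (iv D49246)
def n51311 : Q := act 9 n49236
theorem D51311 : act 9 n49236 = n51311 := rfl
theorem F229941 : act 0 n51311 = n49270 := d8_1 D51311 (iv D49270) (iv F220485)
theorem F229942 : act 3 n51311 = n49237 := d29_1 D51311 (iv D49237) D49236
theorem F229943 : act 6 n51311 = n49240 := d41_1 D51311 (iv D49240) (iv F220486)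
def n51312 : Q := act 1 n49238
theorem D51312 : act 1 n49238 = n51312 := rfl
theorem F229944 : act 0 n51312 = n49280 := d0_1 D51312 F220700 F220667 (iv D49271) (iv F220492)
theorem F229945 : act 2 n51312 = n49247 := d9_2 D49238 D51312 F220538 (iv F220449) F220448
theorem F229946 : act 3 n51312 = n51312 := d10_2 F220493 D51312 (iv D51312)
theorem F229947 : act 5 n51312 = n49269 := d12_2 (iv F220494) D51312 F220654
theorem F229948 : act 6 n51312 = n49250 := d13_2 F229938 D51312 (iv F229934)
theorem F229949 : act 7 n51312 = n49469 := d14_2 (iv F220495) D51312 (iv D49469)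
theorem F229950 : act 8 n51312 = n49249 := d15_2 (iv F220496) D51312 (iv D49249)
theorem F229951 : act 4 n49246 = n51312 := d33_3 F229950 (iv F229936) F229940
def n51313 : Q := act 4 n49238
theorem D51313 : act 4 n49238 = n51313 := rfl
theorem F229952 : act 0 n51313 = n49272 := d3_1 D51313 (iv D49272) (iv F220492)
theorem F229953 : act 1 n51313 = n49246 := d11_1 D51313 F229951 (iv D51312)
theorem F229954 : act 2 n51313 = n49239 := d18_1 D51313 (iv D49239) D49238
theorem F229955 : act 5 n51313 = n49290 := d30_2 (iv F220494) D51313 F220748 (iv F218045) (iv F218049)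
theorem F229956 : act 6 n51313 = n49249 := d31_2 F229938 D51313 (iv F229936)
theorem F229957 : act 7 n51313 = n49470 := d32_2 (iv F220495) D51313 (iv D49470)
theorem F229958 : act 8 n51313 = n49250 := d33_2 (iv F220496) D51313 (iv D49250)
theorem F229959 : act 3 n51313 = n49258 := d45_5 (iv D48098) (iv F215319) F215317 (iv F220494) D51313 (iv D49258) (iv D47076) (iv D42430) D42431 (iv F210369) (iv F220057) F220059 F215463 F206953 F206952 (iv F210469) F210470 (iv D42408) (iv D29107) F86371 (iv D20008) F60504 F200533 (iv F200475) (iv D5238) (iv D3620) (iv F17240) F17239 D5227 D7576 D10999 F48943 F200454 F200288 F27125 (iv F27055) F27054 (iv F200282) F34507 F34506 F24365 (iv F34485) (iv F48978) (iv F200722) (iv F91197) (iv F200982) (iv D30356) F89932 (iv F85459) D28786 (iv F175249) F206290 F134694 D46361 D48589 D50752 F226691 D50756 F229649 F229642 F220113 F210246 F210250 (iv D46991) F177001 F123396 F123395 F86252 (iv F86335) (iv F123493) (iv F177155) (iv D42379) F123492 (iv D29086) F86309 F60456 D14558 (iv F201104) F44888 F31635 D7121 F32433 (iv F44906)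 (iv F63962) (iv F91427) (iv F131018) F131017 (iv F188133) (iv F215341)
def n51314 : Q := act 9 n49238
theorem D51314 : act 9 n49238 = n51314 := rfl
theorem F229960 : act 0 n51314 = n49273 := d8_1 D51314 (iv D49273) (iv F220492)
theorem F229961 : act 2 n51314 = n49240 := d23_1 D51314 (iv D49240) D49238
theorem F229962 : act 3 n51314 = n51314 := d29_1 D51314 (iv D51314) F220493
theorem F229963 : act 5 n51314 = n50293 := d38_1 D51314 (iv D50293) (iv F220494)
theorem F229964 : act 7 n51314 = n49471 := d43_1 D51314 (iv D49471) (iv F220495)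
def n51315 : Q := act 9 n49239
theorem D51315 : act 9 n49239 = n51315 := rfl
theorem F229965 : act 0 n51315 = n49275 := d8_1 D51315 (iv D49275) (iv F220497)
theorem F229966 : act 3 n51315 = n51315 := d29_1 D51315 (iv D51315) F220498
theorem F229967 : act 4 n51315 = n49240 := d34_1 D51315 (iv D49240) D49239
theorem F229968 : act 7 n51315 = n49472 := d43_1 D51315 (iv D49472) (iv F220499)
def n51316 : Q := act 8 n49240
theorem D51316 : act 8 n49240 = n51316 := rfl
theorem F229969 : act 0 n51316 = n49276 := d7_1 D51316 (iv D49276) (iv F220501)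
theorem F229970 : act 5 n51316 = n50294 := d37_1 D51316 (iv D50294) (iv F220503)
theorem F229971 : act 7 n51316 = n49473 := d42_1 D51316 (iv D49473) (iv F220504)
theorem F229972 : act 9 n51316 = n49253 := d44_2 D49240 D51316 (iv D49253) (iv D47067) (iv F210605)
def n51317 : Q := act 9 n49242
theorem D51317 : act 9 n49242 = n51317 := rfl
theorem F229973 : act 0 n51317 = n49278 := d8_1 D51317 (iv D49278) (iv F220513)
theorem F229974 : act 3 n51317 = n49243 := d29_1 D51317 (iv D49243) D49242
theorem F229975 : act 5 n51317 = n49248 := d38_1 D51317 (iv D49248) (iv F220514)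
theorem F229976 : act 6 n51317 = n50295 := d41_1 D51317 (iv D50295) (iv F220515)
def n51318 : Q := act 9 n49244
theorem D51318 : act 9 n49244 = n51318 := rfl
theorem F229977 : act 0 n51318 = n49279 := d8_1 D51318 (iv D49279) (iv F220521)
theorem F229978 : act 1 n51318 = n50448 := d16_1 D51318 (iv D50448) (iv F220522)
theorem F229979 : act 2 n51318 = n50365 := d23_1 D51318 (iv D50365) (iv F220523)
theorem F229980 : act 3 n51318 = n49245 := d29_1 D51318 (iv D49245) D49244
theorem F229981 : act 4 n51318 = n50395 := d34_1 D51318 (iv D50395) (iv F220524)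
theorem F229982 : act 6 n51318 = n49482 := d41_1 D51318 (iv D49482) (iv F220525)
theorem F229983 : act 7 n51318 = n49248 := d43_1 D51318 (iv D49248) (iv F220526)
def n51319 : Q := act 9 n49246
theorem D51319 : act 9 n49246 = n51319 := rfl
theorem F229984 : act 0 n51319 = n49281 := d8_1 D51319 (iv D49281) (iv F220533)
theorem F229985 : act 2 n51319 = n49248 := d23_1 D51319 (iv D49248) D49246
theorem F229986 : act 3 n51319 = n49259 := d29_1 D51319 (iv D49259) (iv F220534)
theorem F229987 : act 6 n51319 = n49251 := d41_1 D51319 (iv D49251) (iv F220535)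
theorem F229988 : act 7 n51319 = n50365 := d43_1 D51319 (iv D50365) (iv F220536)
def n51320 : Q := act 5 n49247
theorem D51320 : act 5 n49247 = n51320 := rfl
theorem F229989 : act 0 n51320 = n49249 := d4_1 D51320 F220546 (iv F220537)
theorem F229990 : act 1 n51320 = n49284 := d12_1 D51320 F220718 (iv F220538)
theorem F229991 : act 2 n51320 = n49269 := d19_1 D51320 (iv F229947) F229945
theorem F229992 : act 3 n51320 = n49254 := d25_1 D51320 (iv D49254) (iv F220539)
theorem F229993 : act 4 n51320 = n49268 := d30_1 D51320 (iv F229800) F229799 F220514 D49247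
theorem F229994 : act 6 n51320 = n49272 := d35_2 (iv F220540) D51320 (iv F227346) F227347 F217925
theorem F229995 : act 7 n51320 = n49489 := d36_2 (iv F220541) D51320 F221725
theorem F229996 : act 8 n51320 = n49280 := d37_2 F229909 D51320 (iv F229906)
def n51321 : Q := act 9 n49247
theorem D51321 : act 9 n49247 = n51321 := rfl
theorem F229997 : act 0 n51321 = n49282 := d8_1 D51321 (iv D49282) (iv F220537)
theorem F229998 : act 1 n51321 = n50307 := d16_1 D51321 (iv D50307) (iv F220538)
theorem F229999 : act 3 n51321 = n49255 := d29_1 D51321 (iv D49255) (iv F220539)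
theorem F230000 : act 4 n51321 = n49248 := d34_1 D51321 (iv D49248) D49247
theorem F230001 : act 6 n51321 = n49252 := d41_1 D51321 (iv D49252) (iv F220540)
theorem F230002 : act 7 n51321 = n50395 := d43_1 D51321 (iv D50395) (iv F220541)
def n51322 : Q := act 8 n49248
theorem D51322 : act 8 n49248 = n51322 := rfl
theorem F230003 : act 0 n51322 = n49283 := d7_1 D51322 (iv D49283) (iv F220542)
theorem F230004 : act 6 n51322 = n49253 := d40_1 D51322 (iv D49253) (iv F220544)
def n51323 : Q := act 9 n49249
theorem D51323 : act 9 n49249 = n51323 := rfl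
theorem F230005 : act 1 n51323 = n49251 := d16_1 D51323 (iv D49251) D49249
theorem F230006 : act 3 n51323 = n49261 := d29_1 D51323 (iv D49261) (iv F220545)
theorem F230007 : act 5 n51323 = n49282 := d38_1 D51323 (iv D49282) (iv F220546)
theorem F230008 : act 7 n51323 = n49491 := d43_1 D51323 (iv D49491) (iv F220547)
def n51324 : Q := act 9 n49250
theorem D51324 : act 9 n49250 = n51324 := rfl
theorem F230009 : act 0 n51324 = n49288 := d8_1 D51324 (iv D49288) (iv F220548)
theorem F230010 : act 2 n51324 = n49252 := d23_1 D51324 (iv D49252) (iv F220549)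
theorem F230011 : act 3 n51324 = n51324 := d29_1 D51324 (iv D51324) F220550
theorem F230012 : act 4 n51324 = n49251 := d34_1 D51324 (iv D49251) D49250
theorem F230013 : act 7 n51324 = n49492 := d43_1 D51324 (iv D49492) (iv F220551)
def n51325 : Q := act 8 n49251
theorem D51325 : act 8 n49251 = n51325 := rfl
theorem F230014 : act 0 n51325 = n49289 := d7_1 D51325 (iv D49289) (iv F220552)
theorem F230015 : act 2 n51325 = n49253 := d22_1 D51325 (iv D49253) (iv F220553)
theorem F230016 : act 5 n51325 = n50297 := d37_1 D51325 (iv D50297) (iv F220555)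
theorem F230017 : act 7 n51325 = n49493 := d42_1 D51325 (iv D49493) (iv F220556)
def n51326 : Q := act 8 n49252
theorem D51326 : act 8 n49252 = n51326 := rfl
theorem F230018 : act 0 n51326 = n49292 := d7_1 D51326 (iv D49292) (iv F220557)
theorem F230019 : act 4 n51326 = n49253 := d33_1 D51326 (iv D49253) (iv F220559)
theorem F230020 : act 7 n51326 = n49494 := d42_1 D51326 (iv D49494) (iv F220560)
def n51327 : Q := act 9 n49254
theorem D51327 : act 9 n49254 = n51327 := rfl
theorem F230021 : act 0 n51327 = n49261 := d8_1 D51327 (iv D49261) (iv F220564)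
theorem F230022 : act 1 n51327 = n49299 := d16_1 D51327 (iv D49299) (iv F220565)
theorem F230023 : act 2 n51327 = n51327 := d23_1 D51327 (iv D51327) F220566
theorem F230024 : act 4 n51327 = n51327 := d34_1 D51327 (iv D51327) F220567
theorem F230025 : act 5 n51327 = n49255 := d38_1 D51327 (iv D49255) D49254
theorem F230026 : act 6 n51327 = n50284 := d41_1 D51327 (iv D50284) (iv F220568)
theorem F230027 : act 7 n51327 = n49515 := d43_1 D51327 (iv D49515) (iv F220569)
def n51328 : Q := act 8 n49255
theorem D51328 : act 8 n49255 = n51328 := rfl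
theorem F230028 : act 0 n51328 = n49293 := d7_1 D51328 (iv D49293) (iv F220571)
theorem F230029 : act 1 n51328 = n50319 := d15_1 D51328 (iv D50319) (iv F220572)
theorem F230030 : act 2 n51328 = n51328 := d22_1 D51328 (iv D51328) F220573
theorem F230031 : act 4 n51328 = n49256 := d33_1 D51328 (iv D49256) (iv F220574)
theorem F230032 : act 6 n51328 = n49257 := d40_1 D51328 (iv D49257) (iv F220575)
theorem F230033 : act 7 n51328 = n50403 := d42_1 D51328 (iv D50403) (iv F220576)
theorem F230034 : act 9 n51328 = n51328 := d44_2 D49255 D51328 (iv D51328) (iv D49255) F210655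
def n51329 : Q := act 3 n49257
theorem D51329 : act 3 n49257 = n51329 := rfl
theorem F230035 : act 0 n51329 = n49297 := d2_1 D51329 (iv D49297) (iv F220584)
theorem F230036 : act 7 n51329 = n49500 := d27_2 (iv F220587) D51329 (iv D49500)
theorem F230037 : act 9 n51329 = n51329 := d29_2 F220588 D51329 (iv D51329)
def n51330 : Q := act 9 n49258
theorem D51330 : act 9 n49258 = n51330 := rfl
theorem F230038 : act 0 n51330 = n50284 := d8_1 D51330 (iv D50284) (iv F220589)
theorem F230039 : act 1 n51330 = n49259 := d16_1 D51330 (iv D49259) D49258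
theorem F230040 : act 2 n51330 = n51330 := d23_1 D51330 (iv D51330) F220590
theorem F230041 : act 4 n51330 = n51330 := d34_1 D51330 (iv D51330) F220591
theorem F230042 : act 5 n51330 = n49295 := d38_1 D51330 (iv D49295) (iv F220592)
theorem F230043 : act 6 n51330 = n49261 := d41_1 D51330 (iv D49261) (iv F220593)
theorem F230044 : act 7 n51330 = n50341 := d43_1 D51330 (iv D50341) (iv F220594)
theorem F230045 : act 8 n50750 = n51330 := d42_0 F230044 (iv F225450) (iv F226680)
def n51331 : Q := act 8 n49259
theorem D51331 : act 8 n49259 = n51331 := rfl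
theorem F230046 : act 0 n51331 = n49298 := d7_1 D51331 (iv D49298) (iv F220596)
theorem F230047 : act 1 n51331 = n50750 := d15_1 D51331 F230045 F230039
theorem F230048 : act 2 n51331 = n49260 := d22_1 D51331 (iv D49260) (iv F220597)
theorem F230049 : act 4 n51331 = n51331 := d33_1 D51331 (iv D51331) F220598
theorem F230050 : act 5 n51331 = n50749 := d37_1 D51331 F227498 F227495
theorem F230051 : act 6 n51331 = n49262 := d40_1 D51331 (iv D49262) (iv F220599)
theorem F230052 : act 7 n51331 = n50375 := d42_1 D51331 (iv D50375) (iv F220600)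
theorem F230053 : act 9 n51331 = n51331 := d44_2 D49259 D51331 (iv D51331) (iv D49259) F210693
def n51332 : Q := act 8 n49261
theorem D51332 : act 8 n49261 = n51332 := rfl
theorem F230054 : act 1 n51332 = n49262 := d15_1 D51332 (iv D49262) (iv F220607)
theorem F230055 : act 2 n51332 = n51332 := d22_1 D51332 (iv D51332) F220608
theorem F230056 : act 4 n51332 = n51332 := d33_1 D51332 (iv D51332) F220609
theorem F230057 : act 5 n51332 = n49293 := d37_1 D51332 (iv D49293) (iv F220610)
theorem F230058 : act 6 n51332 = n50750 := d40_1 D51332 F230045 F230043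
theorem F230059 : act 7 n51332 = n49516 := d42_1 D51332 (iv D49516) (iv F220611)
theorem F230060 : act 9 n51332 = n51332 := d44_2 D49261 D51332 (iv D51332) (iv D49261) F210704
def n51333 : Q := act 3 n49262
theorem D51333 : act 3 n49262 = n51333 := rfl
theorem F230061 : act 0 n51333 = n49301 := d2_1 D51333 (iv D49301) (iv F220612)
theorem F230062 : act 5 n51333 = n50299 := d25_2 (iv F220615) D51333 (iv D50299)
theorem F230063 : act 7 n51333 = n49517 := d27_2 (iv F220616) D51333 (iv D49517)
theorem F230064 : act 9 n51333 = n51333 := d29_2 F220617 D51333 (iv D51333)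
def n51334 : Q := act 9 n49264
theorem D51334 : act 9 n49264 = n51334 := rfl
theorem F230065 : act 1 n51334 = n50313 := d16_1 D51334 (iv D50313) (iv F220625)
theorem F230066 : act 3 n51334 = n49265 := d29_1 D51334 (iv D49265) D49264
theorem F230067 : act 5 n51334 = n49270 := d38_1 D51334 (iv D49270) (iv F220626)
theorem F230068 : act 6 n51334 = n49980 := d41_1 D51334 (iv D49980) (iv F220627)
theorem F230069 : act 7 n51334 = n50762 := d43_1 D51334 (iv F227547) F227545
def n51335 : Q := act 9 n49266
theorem D51335 : act 9 n49266 = n51335 := rfl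
theorem F230070 : act 1 n51335 = n49985 := d16_1 D51335 (iv D49985) (iv F220636)
theorem F230071 : act 2 n51335 = n50349 := d23_1 D51335 (iv D50349) (iv F220640)
theorem F230072 : act 3 n51335 = n49267 := d29_1 D51335 (iv D49267) D49266
theorem F230073 : act 4 n51335 = n50383 := d34_1 D51335 (iv D50383) F220641
theorem F230074 : act 5 n51335 = n50762 := d38_1 D51335 (iv F227547) F227543
theorem F230075 : act 6 n51335 = n49529 := d41_1 D51335 (iv D49529) (iv F220637)
theorem F230076 : act 7 n51335 = n49270 := d43_1 D51335 (iv D49270) (iv F220638)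
def n51336 : Q := act 9 n49268
theorem D51336 : act 9 n49268 = n51336 := rfl
theorem F230077 : act 1 n51336 = n50286 := d16_1 D51336 (iv D50286) (iv F220649)
theorem F230078 : act 2 n51336 = n49270 := d23_1 D51336 (iv D49270) D49268
theorem F230079 : act 3 n51336 = n51336 := d29_1 D51336 (iv D51336) F220650
theorem F230080 : act 6 n51336 = n49273 := d41_1 D51336 (iv D49273) (iv F220651)
theorem F230081 : act 7 n51336 = n50349 := d43_1 D51336 (iv D50349) (iv F220652)
def n51337 : Q := act 9 n49269
theorem D51337 : act 9 n49269 = n51337 := rfl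
theorem F230082 : act 1 n51337 = n50293 := d16_1 D51337 (iv D50293) (iv F220654)
theorem F230083 : act 3 n51337 = n51337 := d29_1 D51337 (iv D51337) F220655
theorem F230084 : act 4 n51337 = n49270 := d34_1 D51337 (iv D49270) D49269
theorem F230085 : act 6 n51337 = n49275 := d41_1 D51337 (iv D49275) (iv F220656)
theorem F230086 : act 7 n51337 = n50383 := d43_1 D51337 (iv D50383) (iv F220657)
def n51338 : Q := act 8 n49270
theorem D51338 : act 8 n49270 = n51338 := rfl
theorem F230087 : act 6 n51338 = n49276 := d40_1 D51338 (iv D49276) (iv F220660)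
theorem F230088 : act 9 n51338 = n49283 := d44_2 D49270 D51338 (iv D49283) (iv D47096) (iv F210733)
def n51339 : Q := act 9 n49271
theorem D51339 : act 9 n49271 = n51339 := rfl
theorem F230089 : act 0 n51339 = n50289 := d8_1 D51339 (iv D50289) F220667
theorem F230090 : act 1 n51339 = n49273 := d16_1 D51339 (iv D49273) D49271
theorem F230091 : act 2 n51339 = n49968 := d23_1 D51339 (iv D49968) (iv F220661)
theorem F230092 : act 3 n51339 = n51339 := d29_1 D51339 (iv D51339) F220662
theorem F230093 : act 4 n51339 = n50282 := d34_1 D51339 (iv D50282) F220668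
theorem F230094 : act 5 n51339 = n50300 := d38_1 D51339 (iv D50300) (iv F220663)
theorem F230095 : act 6 n51339 = n50286 := d41_1 D51339 (iv D50286) (iv F220664)
theorem F230096 : act 7 n51339 = n49536 := d43_1 D51339 (iv D49536) (iv F220665)
def n51340 : Q := act 9 n49272
theorem D51340 : act 9 n49272 = n51340 := rfl
theorem F230097 : act 1 n51340 = n50282 := d16_1 D51340 (iv D50282) (iv F220669)
theorem F230098 : act 2 n51340 = n49275 := d23_1 D51340 (iv D49275) (iv F220670)
theorem F230099 : act 3 n51340 = n50284 := d29_1 D51340 (iv D50284) F220673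
theorem F230100 : act 4 n51340 = n49273 := d34_1 D51340 (iv D49273) D49272
theorem F230101 : act 7 n51340 = n49537 := d43_1 D51340 (iv D49537) (iv F220671)
def n51341 : Q := act 8 n49273
theorem D51341 : act 8 n49273 = n51341 := rfl
theorem F230102 : act 2 n51341 = n49276 := d22_1 D51341 (iv D49276) (iv F220674)
theorem F230103 : act 5 n51341 = n50301 := d37_1 D51341 (iv D50301) (iv F220676)
theorem F230104 : act 7 n51341 = n49538 := d42_1 D51341 (iv D49538) (iv F220677)
theorem F230105 : act 9 n51341 = n49289 := d44_2 D49273 D51341 (iv D49289) (iv D47099) (iv F210740)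
def n51342 : Q := act 9 n49274
theorem D51342 : act 9 n49274 = n51342 := rfl
theorem F230106 : act 1 n51342 = n50303 := d16_1 D51342 (iv D50303) (iv F220678)
theorem F230107 : act 3 n51342 = n51342 := d29_1 D51342 (iv D51342) F220679
theorem F230108 : act 4 n51342 = n49972 := d34_1 D51342 (iv D49972) (iv F220680)
theorem F230109 : act 5 n51342 = n49275 := d38_1 D51342 (iv D49275) D49274
theorem F230110 : act 7 n51342 = n49540 := d43_1 D51342 (iv D49540) (iv F220681)
def n51343 : Q := act 8 n49275
theorem D51343 : act 8 n49275 = n51343 := rfl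
theorem F230111 : act 4 n51343 = n49276 := d33_1 D51343 (iv D49276) (iv F220684)
theorem F230112 : act 7 n51343 = n49541 := d42_1 D51343 (iv D49541) (iv F220685)
theorem F230113 : act 9 n51343 = n49292 := d44_2 D49275 D51343 (iv D49292) (iv D47101) (iv F210743)
def n51344 : Q := act 9 n49277
theorem D51344 : act 9 n49277 = n51344 := rfl
theorem F230114 : act 3 n51344 = n51344 := d29_1 D51344 (iv D51344) F220689
theorem F230115 : act 4 n51344 = n49278 := d34_1 D51344 (iv D49278) D49277
theorem F230116 : act 6 n51344 = n50303 := d41_1 D51344 (iv D50303) (iv F220690)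
def n51345 : Q := act 8 n49278
theorem D51345 : act 8 n49278 = n51345 := rfl
theorem F230117 : act 5 n51345 = n49283 := d37_1 D51345 (iv D49283) (iv F220692)
theorem F230118 : act 6 n51345 = n50304 := d40_1 D51345 (iv D50304) (iv F220693)
def n51346 : Q := act 8 n49279
theorem D51346 : act 8 n49279 = n51346 := rfl
theorem F230119 : act 1 n51346 = n49990 := d15_1 D51346 (iv D49990) (iv F220694)
theorem F230120 : act 2 n51346 = n50367 := d22_1 D51346 (iv D50367) (iv F220695)
theorem F230121 : act 4 n51346 = n50396 := d33_1 D51346 (iv D50396) (iv F220697)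
theorem F230122 : act 6 n51346 = n49557 := d40_1 D51346 (iv D49557) (iv F220698)
theorem F230123 : act 7 n51346 = n49283 := d42_1 D51346 (iv D49283) (iv F220699)
def n51347 : Q := act 9 n49280
theorem D51347 : act 9 n49280 = n51347 := rfl
theorem F230124 : act 1 n51347 = n50289 := d16_1 D51347 (iv D50289) (iv F220700)
theorem F230125 : act 2 n51347 = n49282 := d23_1 D51347 (iv D49282) (iv F220701)
theorem F230126 : act 3 n51347 = n51347 := d29_1 D51347 (iv D51347) F220702
theorem F230127 : act 4 n51347 = n49281 := d34_1 D51347 (iv D49281) D49280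
theorem F230128 : act 6 n51347 = n49288 := d41_1 D51347 (iv D49288) (iv F220703)
theorem F230129 : act 7 n51347 = n50366 := d43_1 D51347 (iv D50366) (iv F220704)
def n51348 : Q := act 8 n49281
theorem D51348 : act 8 n49281 = n51348 := rfl
theorem F230130 : act 1 n51348 = n50290 := d15_1 D51348 (iv D50290) (iv F220705)
theorem F230131 : act 2 n51348 = n49283 := d22_1 D51348 (iv D49283) (iv F220706)
theorem F230132 : act 6 n51348 = n49289 := d40_1 D51348 (iv D49289) (iv F220708)
theorem F230133 : act 7 n51348 = n50367 := d42_1 D51348 (iv D50367) (iv F220709)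
def n51349 : Q := act 8 n49282
theorem D51349 : act 8 n49282 = n51349 := rfl
theorem F230134 : act 1 n51349 = n50297 := d15_1 D51349 (iv D50297) (iv F220710)
theorem F230135 : act 4 n51349 = n49283 := d33_1 D51349 (iv D49283) (iv F220712)
theorem F230136 : act 6 n51349 = n49292 := d40_1 D51349 (iv D49292) (iv F220713)
theorem F230137 : act 7 n51349 = n50396 := d42_1 D51349 (iv D50396) (iv F220714)
def n51350 : Q := act 9 n49284
theorem D51350 : act 9 n49284 = n51350 := rfl
theorem F230138 : act 0 n51350 = n49286 := d8_1 D51350 (iv D49286) D49284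
theorem F230139 : act 2 n51350 = n50281 := d23_1 D51350 (iv D50281) (iv F220716)
theorem F230140 : act 3 n51350 = n49299 := d29_1 D51350 (iv D49299) (iv F220717)
theorem F230141 : act 4 n51350 = n50286 := d34_1 D51350 (iv D50286) F220722
theorem F230142 : act 5 n51350 = n50307 := d38_1 D51350 (iv D50307) (iv F220718)
theorem F230143 : act 6 n51350 = n50282 := d41_1 D51350 (iv D50282) (iv F220719)
theorem F230144 : act 7 n51350 = n49567 := d43_1 D51350 (iv D49567) (iv F220720)
def n51351 : Q := act 9 n49285
theorem D51351 : act 9 n49285 = n51351 := rfl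
theorem F230145 : act 0 n51351 = n50286 := d8_1 D51351 (iv D50286) (iv F220723)
theorem F230146 : act 1 n51351 = n49288 := d16_1 D51351 (iv D49288) (iv F220724)
theorem F230147 : act 2 n51351 = n50280 := d23_1 D51351 (iv D50280) (iv F220725)
theorem F230148 : act 3 n51351 = n51351 := d29_1 D51351 (iv D51351) F220726
theorem F230149 : act 4 n51351 = n49286 := d34_1 D51351 (iv D49286) D49285
theorem F230150 : act 6 n51351 = n50289 := d41_1 D51351 (iv D50289) (iv F220727)
theorem F230151 : act 7 n51351 = n49568 := d43_1 D51351 (iv D49568) (iv F220728)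
def n51352 : Q := act 8 n49286
theorem D51352 : act 8 n49286 = n51352 := rfl
theorem F230152 : act 1 n51352 = n49289 := d15_1 D51352 (iv D49289) (iv F220730)
theorem F230153 : act 2 n51352 = n50288 := d22_1 D51352 (iv D50288) (iv F220731)
theorem F230154 : act 5 n51352 = n50309 := d37_1 D51352 (iv D50309) (iv F220733)
theorem F230155 : act 6 n51352 = n50290 := d40_1 D51352 (iv D50290) (iv F220734)
theorem F230156 : act 7 n51352 = n49569 := d42_1 D51352 (iv D49569) (iv F220735)
def n51353 : Q := act 9 n49287
theorem D51353 : act 9 n49287 = n51353 := rfl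
theorem F230157 : act 2 n51353 = n49291 := d23_1 D51353 (iv D49291) (iv F220736)
theorem F230158 : act 3 n51353 = n51353 := d29_1 D51353 (iv D51353) F220737
theorem F230159 : act 4 n51353 = n50310 := d34_1 D51353 (iv D50310) (iv F220738)
theorem F230160 : act 5 n51353 = n49288 := d38_1 D51353 (iv D49288) D49287
theorem F230161 : act 7 n51353 = n49571 := d43_1 D51353 (iv D49571) (iv F220739)
def n51354 : Q := act 8 n49288
theorem D51354 : act 8 n49288 = n51354 := rfl
theorem F230162 : act 2 n51354 = n49292 := d22_1 D51354 (iv D49292) (iv F220740)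
theorem F230163 : act 4 n51354 = n49289 := d33_1 D51354 (iv D49289) (iv F220742)
theorem F230164 : act 7 n51354 = n49572 := d42_1 D51354 (iv D49572) (iv F220743)
def n51355 : Q := act 3 n49289
theorem D51355 : act 3 n49289 = n51355 := rfl
theorem F230165 : act 5 n51355 = n50312 := d25_2 (iv F220745) D51355 (iv D50312)
theorem F230166 : act 7 n51355 = n49573 := d27_2 (iv F220746) D51355 (iv D49573)
theorem F230167 : act 8 n51355 = n49301 := d28_2 D49289 D51355 (iv D49301) (iv D47115) (iv F210788)
def n51356 : Q := act 9 n49290
theorem D51356 : act 9 n49290 = n51356 := rfl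
theorem F230168 : act 3 n51356 = n49295 := d29_1 D51356 (iv D49295) (iv F220747)
theorem F230169 : act 4 n51356 = n50313 := d34_1 D51356 (iv D50313) (iv F220748)
theorem F230170 : act 6 n51356 = n49291 := d41_1 D51356 (iv D49291) D49290
theorem F230171 : act 7 n51356 = n50763 := d43_1 D51356 (iv F227557) F227555
def n51357 : Q := act 8 n49291
theorem D51357 : act 8 n49291 = n51357 := rfl
theorem F230172 : act 4 n51357 = n50314 := d33_1 D51357 (iv D50314) (iv F220750)
theorem F230173 : act 5 n51357 = n49292 := d37_1 D51357 (iv D49292) (iv F220751)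
theorem F230174 : act 7 n51357 = n49576 := d42_1 D51357 (iv D49576) (iv F220752)
def n51358 : Q := act 3 n49292
theorem D51358 : act 3 n49292 = n51358 := rfl
theorem F230175 : act 7 n51358 = n49577 := d27_2 (iv F220754) D51358 (iv D49577)
theorem F230176 : act 8 n51358 = n49297 := d28_2 D49292 D51358 (iv D49297) (iv D47107) (iv F210794)
def n51359 : Q := act 3 n49293
theorem D51359 : act 3 n49293 = n51359 := rfl
theorem F230177 : act 1 n51359 = n50299 := d10_1 D51359 (iv D50299) (iv F220755)
theorem F230178 : act 6 n51359 = n49297 := d26_2 (iv F220758) D51359 (iv D49297)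
theorem F230179 : act 7 n51359 = n50404 := d27_2 (iv F220759) D51359 (iv D50404)
theorem F230180 : act 9 n51359 = n51359 := d29_2 F220760 D51359 (iv D51359)
def n51360 : Q := act 3 n49296
theorem D51360 : act 3 n49296 = n51360 := rfl
theorem F230181 : act 4 n51360 = n50318 := d24_2 (iv F220775) D51360 (iv D50318) F215437 (iv F210834)
theorem F230182 : act 5 n51360 = n49297 := d25_2 (iv F220776) D51360 (iv D49297)
theorem F230183 : act 6 n51360 = n50321 := d26_2 (iv F220777) D51360 F225361
theorem F230184 : act 7 n51360 = n49586 := d27_2 (iv F220778) D51360 (iv D49586)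
theorem F230185 : act 9 n51360 = n51360 := d29_2 F220779 D51360 (iv D51360)
def n51361 : Q := act 2 n49297
theorem D51361 : act 2 n49297 = n51361 := rfl
theorem F230186 : act 3 n51361 = n51361 := d17_2 D49297 D51361 (iv D51361) (iv D49297) F210817
theorem F230187 : act 7 n51361 = n49587 := d21_2 (iv F220780) D51361 (iv D49587)
theorem F230188 : act 9 n51361 = n51361 := d23_2 F220781 D51361 (iv D51361)
def n51362 : Q := act 3 n49298
theorem D51362 : act 3 n49298 = n51362 := rfl
theorem F230189 : act 1 n51362 = n50292 := d10_1 D51362 (iv D50292) (iv F220782)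
theorem F230190 : act 6 n51362 = n49301 := d26_2 (iv F220785) D51362 (iv D49301)
theorem F230191 : act 7 n51362 = n50376 := d27_2 (iv F220786) D51362 (iv D50376)
theorem F230192 : act 9 n51362 = n51362 := d29_2 F220787 D51362 (iv D51362)
def n51363 : Q := act 8 n49299
theorem D51363 : act 8 n49299 = n51363 := rfl
theorem F230193 : act 0 n51363 = n49300 := d7_1 D51363 (iv D49300) (iv F220788)
theorem F230194 : act 2 n51363 = n49302 := d22_1 D51363 (iv D49302) (iv F220789)
theorem F230195 : act 4 n51363 = n51363 := d33_1 D51363 (iv D51363) F220790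
theorem F230196 : act 5 n51363 = n50319 := d37_1 D51363 (iv D50319) (iv F220791)
theorem F230197 : act 6 n51363 = n50285 := d40_1 D51363 (iv D50285) (iv F220792)
theorem F230198 : act 7 n51363 = n49603 := d42_1 D51363 (iv D49603) (iv F220793)
theorem F230199 : act 9 n51363 = n51363 := d44_2 D49299 D51363 (iv D51363) (iv D49299) F210854
def n51364 : Q := act 3 n49300
theorem D51364 : act 3 n49300 = n51364 := rfl
theorem F230200 : act 1 n51364 = n49301 := d10_1 D51364 (iv D49301) (iv F220794)
theorem F230201 : act 2 n51364 = n50318 := d17_1 D51364 (iv D50318) F215436 (iv F210874) (iv F220795)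
theorem F230202 : act 5 n51364 = n50320 := d25_2 (iv F220797) D51364 (iv D50320)
theorem F230203 : act 6 n51364 = n50292 := d26_2 (iv F220798) D51364 (iv D50292)
theorem F230204 : act 7 n51364 = n49604 := d27_2 (iv F220799) D51364 (iv D49604)
theorem F230205 : act 9 n51364 = n51364 := d29_2 F220800 D51364 (iv D51364)
def n51365 : Q := act 4 n49301
theorem D51365 : act 4 n49301 = n51365 := rfl
theorem F230206 : act 3 n51365 = n51365 := d24_1 D51365 (iv D51365) (iv D49301) F210862 D49301
theorem F230207 : act 7 n51365 = n49605 := d32_2 (iv F220802) D51365 (iv D49605)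
theorem F230208 : act 9 n51365 = n51365 := d34_2 F220803 D51365 (iv D51365)
def n51366 : Q := act 8 n49304
theorem D51366 : act 8 n49304 = n51366 := rfl
theorem F230209 : act 0 n51366 = n49310 := d7_1 D51366 (iv D49310) (iv F220821)
theorem F230210 : act 1 n51366 = n49325 := d15_1 D51366 (iv D49325) (iv F220822)
theorem F230211 : act 2 n51366 = n49363 := d22_1 D51366 (iv D49363) (iv F220823)
theorem F230212 : act 3 n51366 = n51366 := d28_1 D51366 (iv D51366) F220824 F210902 (iv F220824)
theorem F230213 : act 4 n51366 = n49425 := d33_1 D51366 (iv D49425) (iv F220825)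
theorem F230214 : act 5 n51366 = n49615 := d37_1 D51366 (iv D49615) (iv F220826)
theorem F230215 : act 6 n51366 = n49305 := d40_1 D51366 (iv D49305) (iv F220827)
theorem F230216 : act 7 n51366 = n49317 := d42_1 D51366 (iv D49317) (iv F220828)
theorem F230217 : act 9 n51366 = n51366 := d44_2 D49304 D51366 (iv D51366) (iv D49304) F210894
def n51367 : Q := act 8 n49306
theorem D51367 : act 8 n49306 = n51367 := rfl
theorem F230218 : act 0 n51367 = n49317 := d7_1 D51367 (iv D49317) (iv F220836)
theorem F230219 : act 1 n51367 = n51367 := d15_1 D51367 (iv D51367) F220837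
theorem F230220 : act 2 n51367 = n49409 := d22_1 D51367 (iv D49409) (iv F220838)
theorem F230221 : act 3 n51367 = n51367 := d28_1 D51367 (iv D51367) F220839 F210927 (iv F220839)
theorem F230222 : act 4 n51367 = n49370 := d33_1 D51367 (iv D49370) (iv F220840)
theorem F230223 : act 5 n51367 = n49616 := d37_1 D51367 (iv D49616) (iv F220841)
theorem F230224 : act 6 n51367 = n49307 := d40_1 D51367 (iv D49307) (iv F220842)
theorem F230225 : act 7 n51367 = n49310 := d42_1 D51367 (iv D49310) (iv F220843)
theorem F230226 : act 9 n51367 = n51367 := d44_2 D49306 D51367 (iv D51367) (iv D49306) F210919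
def n51368 : Q := act 9 n49308
theorem D51368 : act 9 n49308 = n51368 := rfl
theorem F230227 : act 0 n51368 = n49419 := d8_1 D51368 (iv D49419) (iv F220851)
theorem F230228 : act 1 n51368 = n51368 := d16_1 D51368 (iv D51368) F220852
theorem F230229 : act 2 n51368 = n49411 := d23_1 D51368 (iv D49411) (iv F220853)
theorem F230230 : act 3 n51368 = n49366 := d29_1 D51368 (iv D49366) (iv F220854)
theorem F230231 : act 4 n51368 = n49618 := d34_1 D51368 (iv D49618) (iv F220855)
theorem F230232 : act 5 n51368 = n49309 := d38_1 D51368 (iv D49309) D49308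
theorem F230233 : act 6 n51368 = n50481 := d41_1 D51368 (iv D50481) (iv F220856)
theorem F230234 : act 7 n51368 = n49368 := d43_1 D51368 (iv D49368) (iv F220857)
def n51369 : Q := act 8 n49309
theorem D51369 : act 8 n49309 = n51369 := rfl
theorem F230235 : act 0 n51369 = n49425 := d7_1 D51369 (iv D49425) (iv F220859)
theorem F230236 : act 1 n51369 = n51369 := d15_1 D51369 (iv D51369) F220860
theorem F230237 : act 2 n51369 = n49412 := d22_1 D51369 (iv D49412) (iv F220861)
theorem F230238 : act 3 n51369 = n49511 := d28_1 D51369 (iv D49511) F211726 (iv F211244) (iv F220862)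
theorem F230239 : act 4 n51369 = n49310 := d33_1 D51369 (iv D49310) (iv F220863)
theorem F230240 : act 6 n51369 = n49312 := d40_1 D51369 (iv D49312) (iv F220864)
theorem F230241 : act 7 n51369 = n49370 := d42_1 D51369 (iv D49370) (iv F220865)
theorem F230242 : act 9 n51369 = n51369 := d44_2 D49309 D51369 (iv D51369) (iv D49309) F210948
def n51370 : Q := act 8 n49311
theorem D51370 : act 8 n49311 = n51370 := rfl
theorem F230243 : act 0 n51370 = n49443 := d7_1 D51370 F221531 (iv F220872)
theorem F230244 : act 1 n51370 = n51370 := d15_1 D51370 (iv D51370) F220873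
theorem F230245 : act 2 n51370 = n49414 := d22_1 D51370 (iv D49414) (iv F220874)
theorem F230246 : act 3 n51370 = n49442 := d28_1 D51370 (iv D49442) (iv F218374) D50941 F227760
theorem F230247 : act 4 n51370 = n49313 := d33_1 D51370 (iv D49313) (iv F220875)
theorem F230248 : act 5 n51370 = n49312 := d37_1 D51370 (iv D49312) (iv F220876)
theorem F230249 : act 6 n51370 = n50488 := d40_1 D51370 (iv D50488) (iv F220877)
theorem F230250 : act 7 n51370 = n50322 := d42_1 D51370 (iv D50322) (iv F220878)
theorem F230251 : act 9 n51370 = n51370 := d44_2 D49311 D51370 (iv D51370) (iv D49311) F210959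
def n51371 : Q := act 8 n49315
theorem D51371 : act 8 n49315 = n51371 := rfl
theorem F230252 : act 0 n51371 = n49616 := d7_1 D51371 (iv D49616) (iv F220900)
theorem F230253 : act 1 n51371 = n49323 := d15_1 D51371 (iv D49323) (iv F220901)
theorem F230254 : act 2 n51371 = n49645 := d22_1 D51371 (iv D49645) (iv F220902)
theorem F230255 : act 3 n51371 = n51371 := d28_1 D51371 (iv D51371) F220903 F210996 (iv F220903)
theorem F230256 : act 4 n51371 = n50843 := d33_1 D51371 (iv D50843) (iv F220904)
theorem F230257 : act 5 n51371 = n49317 := d37_1 D51371 (iv D49317) (iv F220905)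
theorem F230258 : act 6 n51371 = n51371 := d40_1 D51371 (iv D51371) F220906
theorem F230259 : act 7 n51371 = n49615 := d42_1 D51371 (iv D49615) (iv F220907)
theorem F230260 : act 9 n51371 = n51371 := d44_2 D49315 D51371 (iv D51371) (iv D49315) F210988
def n51372 : Q := act 8 n49316
theorem D51372 : act 8 n49316 = n51372 := rfl
theorem F230261 : act 0 n51372 = n49409 := d7_1 D51372 (iv D49409) (iv F220908)
theorem F230262 : act 1 n51372 = n50769 := d15_1 D51372 F227869 F227862
theorem F230263 : act 2 n51372 = n49317 := d22_1 D51372 (iv D49317) (iv F220909)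
theorem F230264 : act 3 n51372 = n49497 := d28_1 D51372 (iv D49497) F211668 (iv F211201) (iv F220910)
theorem F230265 : act 4 n51372 = n49427 := d33_1 D51372 (iv D49427) (iv F220911)
theorem F230266 : act 5 n51372 = n49645 := d37_1 D51372 (iv D49645) (iv F220912)
theorem F230267 : act 6 n51372 = n49319 := d40_1 D51372 (iv D49319) (iv F220913)
theorem F230268 : act 7 n51372 = n49363 := d42_1 D51372 (iv D49363) (iv F220914)
theorem F230269 : act 9 n51372 = n51372 := d44_2 D49316 D51372 (iv D51372) (iv D49316) F211003
def n51373 : Q := act 8 n49326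
theorem D51373 : act 8 n49326 = n51373 := rfl
theorem F230270 : act 0 n51373 = n50770 := d7_1 D51373 F227137 F227129
theorem F230271 : act 1 n51373 = n49327 := d15_1 D51373 (iv D49327) (iv F220977)
theorem F230272 : act 2 n51373 = n50769 := d22_1 D51373 F227869 F227863
theorem F230273 : act 4 n51373 = n49441 := d33_1 D51373 (iv D49441) (iv F220979)
theorem F230274 : act 6 n51373 = n49329 := d40_1 D51373 (iv D49329) (iv F220980)
theorem F230275 : act 7 n51373 = n50491 := d42_1 D51373 F227119 F227118
theorem F230276 : act 9 n51373 = n51373 := d44_2 D49326 D51373 (iv D51373) (iv D49326) F211069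
theorem F230277 : act 3 n50781 = n51373 := d27_3 F230275 F225872 (iv F226819)
def n51374 : Q := act 9 n49331
theorem D51374 : act 9 n49331 = n51374 := rfl
theorem F230278 : act 0 n51374 = n50049 := d8_1 D51374 F224231 (iv F221011)
theorem F230279 : act 1 n51374 = n49344 := d16_1 D51374 (iv D49344) (iv F221012)
theorem F230280 : act 2 n51374 = n50053 := d23_1 D51374 F224251 (iv F221013)
theorem F230281 : act 4 n51374 = n51374 := d34_1 D51374 (iv D51374) F221014
theorem F230282 : act 5 n51374 = n50386 := d38_1 D51374 (iv D50386) (iv F221015)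
theorem F230283 : act 6 n51374 = n49332 := d41_1 D51374 (iv D49332) (iv F221016)
theorem F230284 : act 8 n51374 = n49447 := d44_1 D51374 (iv D49447) (iv D47257) (iv F211100) D49331
def n51375 : Q := act 8 n49333
theorem D51375 : act 8 n49333 = n51375 := rfl
theorem F230285 : act 0 n51375 = n49521 := d7_1 D51375 (iv D49521) (iv F221024)
theorem F230286 : act 1 n51375 = n49349 := d15_1 D51375 (iv D49349) (iv F221025)
theorem F230287 : act 2 n51375 = n51375 := d22_1 D51375 (iv D51375) F221026
theorem F230288 : act 4 n51375 = n49624 := d33_1 D51375 (iv D49624) (iv F221028)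
theorem F230289 : act 5 n51375 = n49335 := d37_1 D51375 (iv D49335) (iv F221029)
theorem F230290 : act 6 n51375 = n49461 := d40_1 D51375 (iv D49461) (iv F221030)
theorem F230291 : act 7 n51375 = n49334 := d42_1 D51375 (iv D49334) D49333
def n51376 : Q := act 3 n49334
theorem D51376 : act 3 n49334 = n51376 := rfl
theorem F230292 : act 0 n51376 = n50030 := d2_1 D51376 F224155 (iv F221032)
theorem F230293 : act 1 n51376 = n49350 := d10_1 D51376 (iv D49350) (iv F221033)
theorem F230294 : act 5 n51376 = n49336 := d25_2 (iv F221036) D51376 (iv D49336)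
theorem F230295 : act 6 n51376 = n49998 := d26_2 (iv F221037) D51376 F224010
theorem F230296 : act 8 n51376 = n50385 := d28_2 D49334 D51376 (iv D50385) (iv D48205) (iv F211110)
def n51377 : Q := act 9 n49334
theorem D51377 : act 9 n49334 = n51377 := rfl
theorem F230297 : act 0 n51377 = n50042 := d8_1 D51377 (iv D50042) (iv F221032)
theorem F230298 : act 1 n51377 = n49351 := d16_1 D51377 (iv D49351) (iv F221033)
theorem F230299 : act 2 n51377 = n51377 := d23_1 D51377 (iv D51377) F221034
theorem F230300 : act 4 n51377 = n49626 := d34_1 D51377 (iv D49626) (iv F221035)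
theorem F230301 : act 5 n51377 = n49337 := d38_1 D51377 (iv D49337) (iv F221036)
theorem F230302 : act 6 n51377 = n50002 := d41_1 D51377 (iv D50002) (iv F221037)
theorem F230303 : act 8 n51377 = n49451 := d44_1 D51377 (iv D49451) (iv D47261) (iv F211113) D49334
def n51378 : Q := act 3 n49335
theorem D51378 : act 3 n49335 = n51378 := rfl
theorem F230304 : act 0 n51378 = n50039 := d2_1 D51378 F224184 (iv F221038)
theorem F230305 : act 1 n51378 = n49352 := d10_1 D51378 (iv D49352) (iv F221039)
theorem F230306 : act 4 n51378 = n49395 := d24_2 (iv F221041) D51378 F221315 (iv F218522) F218521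
theorem F230307 : act 6 n51378 = n49401 := d26_2 F229656 D51378 (iv F229653)
theorem F230308 : act 7 n51378 = n49336 := d27_2 (iv F221042) D51378 (iv D49336)
def n51379 : Q := act 9 n49335
theorem D51379 : act 9 n49335 = n51379 := rfl
theorem F230309 : act 0 n51379 = n50043 := d8_1 D51379 (iv D50043) (iv F221038)
theorem F230310 : act 1 n51379 = n49353 := d16_1 D51379 (iv D49353) (iv F221039)
theorem F230311 : act 2 n51379 = n51379 := d23_1 D51379 (iv D51379) F221040
theorem F230312 : act 4 n51379 = n49339 := d34_1 D51379 (iv D49339) (iv F221041)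
theorem F230313 : act 6 n51379 = n50761 := d41_1 D51379 (iv F229658) F229656
theorem F230314 : act 7 n51379 = n49337 := d43_1 D51379 (iv D49337) (iv F221042)
theorem F230315 : act 8 n51379 = n49453 := d44_1 D51379 (iv D49453) (iv D47262) (iv F211118) D49335
def n51380 : Q := act 9 n49336
theorem D51380 : act 9 n49336 = n51380 := rfl
theorem F230316 : act 0 n51380 = n50040 := d8_1 D51380 (iv D50040) (iv F221043)
theorem F230317 : act 1 n51380 = n49356 := d16_1 D51380 (iv D49356) (iv F221044)
theorem F230318 : act 3 n51380 = n49337 := d29_1 D51380 (iv D49337) D49336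
theorem F230319 : act 6 n51380 = n49338 := d41_1 D51380 (iv D49338) (iv F221045)
def n51381 : Q := act 8 n49338
theorem D51381 : act 8 n49338 = n51381 := rfl
theorem F230320 : act 0 n51381 = n50041 := d7_1 D51381 (iv D50041) (iv F221052)
theorem F230321 : act 1 n51381 = n49360 := d15_1 D51381 (iv D49360) (iv F221053)
theorem F230322 : act 3 n51381 = n49458 := d28_1 D51381 (iv D49458) F211568 (iv F211132) (iv F221054)
theorem F230323 : act 5 n51381 = n50001 := d37_1 D51381 (iv D50001) (iv F221055)
def n51382 : Q := act 8 n49340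
theorem D51382 : act 8 n49340 = n51382 := rfl
theorem F230324 : act 0 n51382 = n49374 := d7_1 D51382 (iv D49374) (iv F221063)
theorem F230325 : act 1 n51382 = n49474 := d15_1 D51382 (iv D49474) (iv F221064)
theorem F230326 : act 2 n51382 = n51382 := d22_1 D51382 (iv D51382) F221065
theorem F230327 : act 4 n51382 = n49718 := d33_1 D51382 (iv D49718) (iv F221067)
theorem F230328 : act 5 n51382 = n49342 := d37_1 D51382 (iv D49342) (iv F221068)
theorem F230329 : act 6 n51382 = n49449 := d40_1 D51382 (iv D49449) (iv F221069)
theorem F230330 : act 7 n51382 = n49341 := d42_1 D51382 (iv D49341) D49340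
def n51383 : Q := act 3 n49341
theorem D51383 : act 3 n49341 = n51383 := rfl
theorem F230331 : act 0 n51383 = n49375 := d2_1 D51383 (iv D49375) (iv F221071)
theorem F230332 : act 1 n51383 = n50385 := d10_1 D51383 (iv D50385) (iv F221072)
theorem F230333 : act 5 n51383 = n49343 := d25_2 (iv F221075) D51383 (iv D49343)
theorem F230334 : act 6 n51383 = n50323 := d26_2 (iv F221076) D51383 (iv D50323)
theorem F230335 : act 8 n51383 = n49350 := d28_2 D49341 D51383 (iv D49350) (iv D47169) (iv F211147)
def n51384 : Q := act 9 n49341
theorem D51384 : act 9 n49341 = n51384 := rfl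
theorem F230336 : act 0 n51384 = n49376 := d8_1 D51384 (iv D49376) (iv F221071)
theorem F230337 : act 1 n51384 = n50386 := d16_1 D51384 (iv D50386) (iv F221072)
theorem F230338 : act 2 n51384 = n51384 := d23_1 D51384 (iv D51384) F221073
theorem F230339 : act 4 n51384 = n50545 := d34_1 D51384 (iv D50545) (iv F221074)
theorem F230340 : act 5 n51384 = n49344 := d38_1 D51384 (iv D49344) (iv F221075)
theorem F230341 : act 6 n51384 = n50324 := d41_1 D51384 (iv D50324) (iv F221076)
theorem F230342 : act 8 n51384 = n49463 := d44_1 D51384 (iv D49463) (iv D47270) (iv F211149) D49341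
def n51385 : Q := act 3 n49342
theorem D51385 : act 3 n49342 = n51385 := rfl
theorem F230343 : act 0 n51385 = n49377 := d2_1 D51385 (iv D49377) (iv F221077)
theorem F230344 : act 6 n51385 = n49383 := d26_2 (iv F221080) D51385 F221277
theorem F230345 : act 7 n51385 = n49343 := d27_2 (iv F221081) D51385 (iv D49343)
theorem F230346 : act 8 n51385 = n49352 := d28_2 D49342 D51385 (iv D49352) (iv D47170) (iv F211153)
theorem F230347 : act 2 n49380 = n51385 := d22_3 F230346 F221128 (iv F221267)
theorem F230348 : act 4 n49379 = n51385 := d33_3 F230346 F221129 (iv F221264)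
def n51386 : Q := act 9 n49342
theorem D51386 : act 9 n49342 = n51386 := rfl
theorem F230349 : act 0 n51386 = n49378 := d8_1 D51386 (iv D49378) (iv F221077)
theorem F230350 : act 2 n51386 = n51386 := d23_1 D51386 (iv D51386) F221078
theorem F230351 : act 4 n51386 = n51386 := d34_1 D51386 (iv D51386) F221079
theorem F230352 : act 6 n51386 = n50760 := d41_1 D51386 (iv D50760) (iv F221080)
theorem F230353 : act 7 n51386 = n49344 := d43_1 D51386 (iv D49344) (iv F221081)
theorem F230354 : act 8 n51386 = n49465 := d44_1 D51386 (iv D49465) (iv D47271) (iv F211155) D49342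
def n51387 : Q := act 2 n49343
theorem D51387 : act 2 n49343 = n51387 := rfl
theorem F230355 : act 0 n51387 = n49379 := d1_1 D51387 (iv D49379) (iv F221082)
theorem F230356 : act 1 n51387 = n49570 := d9_1 D51387 F222046 (iv F218680) (iv F228031) F228030
theorem F230357 : act 3 n51387 = n51387 := d17_2 D49343 D51387 (iv D51387) (iv D49343) F211157
theorem F230358 : act 6 n51387 = n49345 := d20_2 (iv F221083) D51387 (iv D49345)
theorem F230359 : act 7 n51387 = n49380 := d21_2 F230345 D51387 F230347
theorem F230360 : act 8 n51387 = n49354 := d22_2 (iv F221084) D51387 (iv D49354)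
theorem F230361 : act 4 n49377 = n51387 := d33_3 F230360 (iv F221141) (iv F221255)
def n51388 : Q := act 4 n49343
theorem D51388 : act 4 n49343 = n51388 := rfl
theorem F230362 : act 0 n51388 = n49380 := d3_1 D51388 (iv D49380) (iv F221082)
theorem F230363 : act 1 n51388 = n50035 := d11_1 D51388 (iv F228033) F228030
theorem F230364 : act 2 n51388 = n49377 := d18_1 D51388 F230361 (iv D51387)
theorem F230365 : act 3 n51388 = n51388 := d24_1 D51388 (iv D51388) (iv D49343) F211158 D49343
theorem F230366 : act 6 n51388 = n49346 := d31_2 (iv F221083) D51388 (iv D49346)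
theorem F230367 : act 7 n51388 = n49379 := d32_2 F230345 D51388 F230348
theorem F230368 : act 8 n51388 = n49355 := d33_2 (iv F221084) D51388 (iv D49355)
def n51389 : Q := act 9 n49343
theorem D51389 : act 9 n49343 = n51389 := rfl
theorem F230369 : act 0 n51389 = n49381 := d8_1 D51389 (iv D49381) (iv F221082)
theorem F230370 : act 3 n51389 = n49344 := d29_1 D51389 (iv D49344) D49343
theorem F230371 : act 6 n51389 = n49347 := d41_1 D51389 (iv D49347) (iv F221083)
def n51390 : Q := act 9 n49345
theorem D51390 : act 9 n49345 = n51390 := rfl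
theorem F230372 : act 0 n51390 = n49384 := d8_1 D51390 (iv D49384) (iv F221090)
theorem F230373 : act 1 n51390 = n49571 := d16_1 D51390 (iv D49571) (iv F221091)
theorem F230374 : act 2 n51390 = n49347 := d23_1 D51390 (iv D49347) D49345
theorem F230375 : act 3 n51390 = n51390 := d29_1 D51390 (iv D51390) F221092
theorem F230376 : act 4 n51390 = n50450 := d34_1 D51390 (iv D50450) F221095
theorem F230377 : act 5 n51390 = n49568 := d38_1 D51390 (iv D49568) (iv F221093)
def n51391 : Q := act 9 n49346
theorem D51391 : act 9 n49346 = n51391 := rfl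
theorem F230378 : act 0 n51391 = n49386 := d8_1 D51391 (iv D49386) (iv F221096)
theorem F230379 : act 1 n51391 = n50036 := d16_1 D51391 (iv D50036) (iv F221097)
theorem F230380 : act 2 n51391 = n50450 := d23_1 D51391 (iv D50450) (iv F221098)
theorem F230381 : act 3 n51391 = n51391 := d29_1 D51391 (iv D51391) F221099
theorem F230382 : act 4 n51391 = n49347 := d34_1 D51391 (iv D49347) D49346
theorem F230383 : act 5 n51391 = n50033 := d38_1 D51391 (iv D50033) (iv F221100)
def n51392 : Q := act 8 n49347
theorem D51392 : act 8 n49347 = n51392 := rfl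
theorem F230384 : act 0 n51392 = n49387 := d7_1 D51392 (iv D49387) (iv F221102)
theorem F230385 : act 3 n51392 = n49473 := d28_1 D51392 (iv D49473) F211611 (iv F211167) (iv F221103)
theorem F230386 : act 5 n51392 = n50326 := d37_1 D51392 (iv D50326) (iv F221104)
theorem F230387 : act 9 n51392 = n49360 := d44_2 D49347 D51392 (iv D49360) (iv D47175) (iv F211162)
def n51393 : Q := act 8 n49348
theorem D51393 : act 8 n49348 = n51393 := rfl
theorem F230388 : act 0 n51393 = n49388 := d7_1 D51393 (iv D49388) (iv F221105)
theorem F230389 : act 1 n51393 = n49461 := d15_1 D51393 (iv D49461) (iv F221106)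
theorem F230390 : act 2 n51393 = n49365 := d22_1 D51393 (iv D49365) (iv F221107)
theorem F230391 : act 4 n51393 = n49633 := d33_1 D51393 (iv D49633) (iv F221109)
theorem F230392 : act 5 n51393 = n49445 := d37_1 D51393 (iv D49445) (iv F221110)
theorem F230393 : act 6 n51393 = n49349 := d40_1 D51393 (iv D49349) D49348
theorem F230394 : act 7 n51393 = n49444 := d42_1 D51393 (iv D49444) (iv F221111)
def n51394 : Q := act 3 n49349
theorem D51394 : act 3 n49349 = n51394 := rfl
theorem F230395 : act 0 n51394 = n49389 := d2_1 D51394 (iv D49389) (iv F221113)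
theorem F230396 : act 2 n51394 = n49397 := d17_1 D51394 F221320 (iv F220853) F220854 (iv F221114)
theorem F230397 : act 5 n51394 = n49352 := d25_2 (iv F221116) D51394 (iv D49352)
theorem F230398 : act 7 n51394 = n49350 := d27_2 (iv F221117) D51394 (iv D49350)
def n51395 : Q := act 9 n49349
theorem D51395 : act 9 n49349 = n51395 := rfl
theorem F230399 : act 0 n51395 = n49390 := d8_1 D51395 (iv D49390) (iv F221113)
theorem F230400 : act 2 n51395 = n49366 := d23_1 D51395 (iv D49366) (iv F221114)
theorem F230401 : act 4 n51395 = n49635 := d34_1 D51395 (iv D49635) (iv F221115)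
theorem F230402 : act 5 n51395 = n49353 := d38_1 D51395 (iv D49353) (iv F221116)
theorem F230403 : act 7 n51395 = n49351 := d43_1 D51395 (iv D49351) (iv F221117)
theorem F230404 : act 8 n51395 = n49476 := d44_1 D51395 (iv D49476) (iv D47278) (iv F211172) D49349
def n51396 : Q := act 2 n49350
theorem D51396 : act 2 n49350 = n51396 := rfl
theorem F230405 : act 0 n51396 = n49391 := d1_1 D51396 (iv D49391) (iv F221118)
theorem F230406 : act 3 n51396 = n49367 := d17_2 D49350 D51396 (iv D49367) (iv D47183) (iv F211174)
theorem F230407 : act 5 n51396 = n49354 := d19_2 (iv F221119) D51396 (iv D49354)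
theorem F230408 : act 6 n51396 = n50329 := d20_2 (iv F221120) D51396 (iv D50329)
theorem F230409 : act 7 n51396 = n49397 := d21_2 F230398 D51396 (iv F230396)
def n51397 : Q := act 4 n49350
theorem D51397 : act 4 n49350 = n51397 := rfl
theorem F230410 : act 0 n51397 = n49392 := d3_1 D51397 (iv D49392) (iv F221118)
theorem F230411 : act 3 n51397 = n49636 := d24_1 D51397 (iv D49636) (iv D47421) (iv F211175) D49350
theorem F230412 : act 6 n51397 = n50330 := d31_2 (iv F221120) D51397 (iv D50330)
def n51398 : Q := act 9 n49350
theorem D51398 : act 9 n49350 = n51398 := rfl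
theorem F230413 : act 0 n51398 = n49393 := d8_1 D51398 (iv D49393) (iv F221118)
theorem F230414 : act 3 n51398 = n49351 := d29_1 D51398 (iv D49351) D49350
theorem F230415 : act 5 n51398 = n49356 := d38_1 D51398 (iv D49356) (iv F221119)
theorem F230416 : act 6 n51398 = n50331 := d41_1 D51398 (iv D50331) (iv F221120)
def n51399 : Q := act 9 n49352
theorem D51399 : act 9 n49352 = n51399 := rfl
theorem F230417 : act 0 n51399 = n49394 := d8_1 D51399 (iv D49394) (iv F221127)
theorem F230418 : act 2 n51399 = n49398 := d23_1 D51399 (iv D49398) (iv F221128)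
theorem F230419 : act 3 n51399 = n49353 := d29_1 D51399 (iv D49353) D49352
theorem F230420 : act 4 n51399 = n49396 := d34_1 D51399 (iv D49396) (iv F221129)
theorem F230421 : act 6 n51399 = n49404 := d41_1 D51399 (iv D49404) (iv F221130)
theorem F230422 : act 7 n51399 = n49356 := d43_1 D51399 (iv D49356) (iv F221131)
def n51400 : Q := act 9 n49354
theorem D51400 : act 9 n49354 = n51400 := rfl
theorem F230423 : act 0 n51400 = n49396 := d8_1 D51400 (iv D49396) (iv F221137)
theorem F230424 : act 2 n51400 = n49356 := d23_1 D51400 (iv D49356) D49354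
theorem F230425 : act 3 n51400 = n49369 := d29_1 D51400 (iv D49369) (iv F221138)
theorem F230426 : act 4 n51400 = n49394 := d34_1 D51400 (iv D49394) F221141
theorem F230427 : act 6 n51400 = n49358 := d41_1 D51400 (iv D49358) (iv F221139)
theorem F230428 : act 7 n51400 = n49398 := d43_1 D51400 (iv D49398) (iv F221140)
def n51401 : Q := act 5 n49355
theorem D51401 : act 5 n49355 = n51401 := rfl
theorem F230429 : act 0 n51401 = n49397 := d4_1 D51401 (iv D49397) (iv F221142)
theorem F230430 : act 1 n51401 = n50417 := d12_1 D51401 (iv F227830) F227826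
theorem F230431 : act 2 n51401 = n49389 := d19_1 D51401 F221298 (iv F221143)
theorem F230432 : act 3 n51401 = n49361 := d25_1 D51401 (iv D49361) (iv F221144)
theorem F230433 : act 6 n51401 = n50420 := d35_2 (iv F221145) D51401 F225668 (iv F218429) F218428
theorem F230434 : act 7 n51401 = n49391 := d36_2 (iv F221146) D51401 F221306
def n51402 : Q := act 9 n49355
theorem D51402 : act 9 n49355 = n51402 := rfl
theorem F230435 : act 0 n51402 = n49398 := d8_1 D51402 (iv D49398) (iv F221142)
theorem F230436 : act 2 n51402 = n49394 := d23_1 D51402 (iv D49394) (iv F221143)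
theorem F230437 : act 3 n51402 = n49362 := d29_1 D51402 (iv D49362) (iv F221144)
theorem F230438 : act 4 n51402 = n49356 := d34_1 D51402 (iv D49356) D49355
theorem F230439 : act 6 n51402 = n49359 := d41_1 D51402 (iv D49359) (iv F221145)
theorem F230440 : act 7 n51402 = n49396 := d43_1 D51402 (iv D49396) (iv F221146)
def n51403 : Q := act 8 n49356
theorem D51403 : act 8 n49356 = n51403 := rfl
theorem F230441 : act 0 n51403 = n49399 := d7_1 D51403 (iv D49399) (iv F221147)
theorem F230442 : act 3 n51403 = n49488 := d28_1 D51403 (iv D49488) F211643 (iv F211188) (iv F221148)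
theorem F230443 : act 6 n51403 = n49360 := d40_1 D51403 (iv D49360) (iv F221149)
def n51404 : Q := act 9 n49357
theorem D51404 : act 9 n49357 = n51404 := rfl
theorem F230444 : act 0 n51404 = n50763 := d8_1 D51404 (iv F227557) F227549
theorem F230445 : act 1 n51404 = n49358 := d16_1 D51404 (iv D49358) D49357
theorem F230446 : act 2 n51404 = n49540 := d23_1 D51404 (iv D49540) (iv F221150)
theorem F230447 : act 3 n51404 = n49371 := d29_1 D51404 (iv D49371) (iv F221151)
theorem F230448 : act 4 n51404 = n49991 := d34_1 D51404 F223980 (iv F221152)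
theorem F230449 : act 5 n51404 = n49537 := d38_1 D51404 (iv D49537) (iv F221153)
def n51405 : Q := act 8 n49358
theorem D51405 : act 8 n49358 = n51405 := rfl
theorem F230450 : act 0 n51405 = n49405 := d7_1 D51405 (iv D49405) (iv F221155)
theorem F230451 : act 2 n51405 = n49360 := d22_1 D51405 (iv D49360) (iv F221156)
theorem F230452 : act 5 n51405 = n50335 := d37_1 D51405 (iv D50335) (iv F221158)
def n51406 : Q := act 8 n49359
theorem D51406 : act 8 n49359 = n51406 := rfl
theorem F230453 : act 0 n51406 = n49408 := d7_1 D51406 (iv D49408) (iv F221159)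
theorem F230454 : act 4 n51406 = n49360 := d33_1 D51406 (iv D49360) (iv F221161)
def n51407 : Q := act 9 n49361
theorem D51407 : act 9 n49361 = n51407 := rfl
theorem F230455 : act 0 n51407 = n49411 := d8_1 D51407 (iv D49411) (iv F221165)
theorem F230456 : act 1 n51407 = n50460 := d16_1 D51407 (iv D50460) (iv F221166)
theorem F230457 : act 2 n51407 = n49419 := d23_1 D51407 (iv D49419) (iv F221167)
theorem F230458 : act 4 n51407 = n49646 := d34_1 D51407 (iv D49646) (iv F221168)
theorem F230459 : act 5 n51407 = n49362 := d38_1 D51407 (iv D49362) D49361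
theorem F230460 : act 6 n51407 = n50462 := d41_1 D51407 (iv D50462) (iv F221169)
theorem F230461 : act 7 n51407 = n49422 := d43_1 D51407 (iv D49422) (iv F221170)
def n51408 : Q := act 8 n49362
theorem D51408 : act 8 n49362 = n51408 := rfl
theorem F230462 : act 0 n51408 = n49412 := d7_1 D51408 (iv D49412) (iv F221172)
theorem F230463 : act 1 n51408 = n50490 := d15_1 D51408 F227853 F227847
theorem F230464 : act 2 n51408 = n49425 := d22_1 D51408 (iv D49425) (iv F221173)
theorem F230465 : act 4 n51408 = n49363 := d33_1 D51408 (iv D49363) (iv F221174)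
theorem F230466 : act 6 n51408 = n49364 := d40_1 D51408 (iv D49364) (iv F221175)
theorem F230467 : act 7 n51408 = n49427 := d42_1 D51408 (iv D49427) (iv F221176)
theorem F230468 : act 9 n51408 = n51408 := d44_2 D49362 D51408 (iv D51408) (iv D49362) F211206
def n51409 : Q := act 3 n49364
theorem D51409 : act 3 n49364 = n51409 := rfl
theorem F230469 : act 0 n51409 = n49415 := d2_1 D51409 (iv D49415) (iv F221182)
theorem F230470 : act 1 n51409 = n50478 := d10_1 D51409 F225821 (iv F221183)
theorem F230471 : act 2 n51409 = n50376 := d17_1 D51409 (iv D50376) F215654 D48196 (iv F221184)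
theorem F230472 : act 4 n51409 = n49500 := d24_2 (iv F221185) D51409 (iv D49500) F211687 (iv F211214)
theorem F230473 : act 9 n51409 = n51409 := d29_2 F221186 D51409 (iv D51409)
def n51410 : Q := act 9 n49365
theorem D51410 : act 9 n49365 = n51410 := rfl
theorem F230474 : act 0 n51410 = n49417 := d8_1 D51410 (iv D49417) (iv F221187)
theorem F230475 : act 1 n51410 = n51410 := d16_1 D51410 (iv D51410) F221188
theorem F230476 : act 3 n51410 = n50481 := d29_1 D51410 (iv D50481) F221193
theorem F230477 : act 4 n51410 = n49649 := d34_1 D51410 (iv D49649) (iv F221189)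
theorem F230478 : act 5 n51410 = n50052 := d38_1 D51410 (iv D50052) (iv F221190)
theorem F230479 : act 6 n51410 = n49366 := d41_1 D51410 (iv D49366) (iv F221191)
theorem F230480 : act 7 n51410 = n50051 := d43_1 D51410 (iv D50051) (iv F221192)
theorem F230481 : act 8 n51410 = n49501 := d44_1 D51410 (iv D49501) (iv D47297) (iv F211222) D49365
def n51411 : Q := act 9 n49367
theorem D51411 : act 9 n49367 = n51411 := rfl
theorem F230482 : act 0 n51411 = n49422 := d8_1 D51411 (iv D49422) (iv F221200)
theorem F230483 : act 2 n51411 = n49368 := d23_1 D51411 (iv D49368) D49367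
theorem F230484 : act 4 n51411 = n49693 := d34_1 D51411 (iv D49693) (iv F221201)
theorem F230485 : act 5 n51411 = n49369 := d38_1 D51411 (iv D49369) (iv F221202)
theorem F230486 : act 6 n51411 = n50337 := d41_1 D51411 (iv D50337) (iv F221203)
theorem F230487 : act 7 n51411 = n49411 := d43_1 D51411 (iv D49411) (iv F221204)
def n51412 : Q := act 8 n49368
theorem D51412 : act 8 n49368 = n51412 := rfl
theorem F230488 : act 0 n51412 = n49424 := d7_1 D51412 (iv D49424) (iv F221206)
theorem F230489 : act 1 n51412 = n51412 := d15_1 D51412 (iv D51412) F221207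
theorem F230490 : act 3 n51412 = n49508 := d28_1 D51412 (iv D49508) F211716 (iv F211239) (iv F221208)
theorem F230491 : act 4 n51412 = n50716 := d33_1 D51412 (iv D50716) (iv F221209)
theorem F230492 : act 5 n51412 = n49370 := d37_1 D51412 (iv D49370) (iv F221210)
theorem F230493 : act 6 n51412 = n50338 := d40_1 D51412 (iv D50338) (iv F221211)
theorem F230494 : act 9 n51412 = n51412 := d44_2 D49368 D51412 (iv D51412) (iv D49368) F211233
def n51413 : Q := act 8 n49369
theorem D51413 : act 8 n49369 = n51413 := rfl
theorem F230495 : act 0 n51413 = n49427 := d7_1 D51413 (iv D49427) (iv F221212)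
theorem F230496 : act 1 n51413 = n50757 := d15_1 D51413 F227690 F227685
theorem F230497 : act 2 n51413 = n49370 := d22_1 D51413 (iv D49370) (iv F221213)
theorem F230498 : act 4 n51413 = n49409 := d33_1 D51413 (iv D49409) (iv F221214)
theorem F230499 : act 6 n51413 = n49372 := d40_1 D51413 (iv D49372) (iv F221215)
theorem F230500 : act 7 n51413 = n49412 := d42_1 D51413 (iv D49412) (iv F221216)
theorem F230501 : act 9 n51413 = n51413 := d44_2 D49369 D51413 (iv D51413) (iv D49369) F211249
def n51414 : Q := act 3 n49372
theorem D51414 : act 3 n49372 = n51414 := rfl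
theorem F230502 : act 0 n51414 = n49430 := d2_1 D51414 (iv D49430) (iv F221228)
theorem F230503 : act 1 n51414 = n50405 := d10_1 D51414 F225633 (iv F221229)
theorem F230504 : act 2 n51414 = n49517 := d17_1 D51414 (iv D49517) F211753 (iv F211262) (iv F221230)
theorem F230505 : act 4 n51414 = n50404 := d24_2 (iv F221231) D51414 (iv D50404) F215769 D48605
theorem F230506 : act 5 n51414 = n50343 := d25_2 (iv F221232) D51414 (iv D50343)
theorem F230507 : act 9 n51414 = n51414 := d29_2 F221233 D51414 (iv D51414)
def n51415 : Q := act 3 n49373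
theorem D51415 : act 3 n49373 = n51415 := rfl
theorem F230508 : act 0 n51415 = n50534 := d2_1 D51415 F225997 (iv F221234)
theorem F230509 : act 1 n51415 = n50118 := d10_1 D51415 (iv D50118) (iv F221235)
theorem F230510 : act 5 n51415 = n51415 := d25_2 F221238 D51415 (iv D51415)
theorem F230511 : act 6 n51415 = n50104 := d26_2 (iv F221239) D51415 (iv D50104)
theorem F230512 : act 8 n51415 = n49651 := d28_2 D49373 D51415 (iv D49651) (iv D47438) (iv F211268)
def n51416 : Q := act 9 n49373
theorem D51416 : act 9 n49373 = n51416 := rfl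
theorem F230513 : act 0 n51416 = n50545 := d8_1 D51416 (iv D50545) (iv F221234)
theorem F230514 : act 1 n51416 = n50119 := d16_1 D51416 (iv D50119) (iv F221235)
theorem F230515 : act 2 n51416 = n51416 := d23_1 D51416 (iv D51416) F221236
theorem F230516 : act 4 n51416 = n49376 := d34_1 D51416 (iv D49376) (iv F221237)
theorem F230517 : act 5 n51416 = n51416 := d38_1 D51416 (iv D51416) F221238
theorem F230518 : act 6 n51416 = n50105 := d41_1 D51416 (iv D50105) (iv F221239)
theorem F230519 : act 8 n51416 = n49520 := d44_1 D51416 (iv D49520) (iv D47312) (iv F211271) D49373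
def n51417 : Q := act 3 n49374
theorem D51417 : act 3 n49374 = n51417 := rfl
theorem F230520 : act 1 n51417 = n50441 := d10_1 D51417 F225718 (iv F221240)
theorem F230521 : act 5 n51417 = n49377 := d25_2 (iv F221242) D51417 (iv D49377)
theorem F230522 : act 6 n51417 = n50438 := d26_2 (iv F221243) D51417 F225710
theorem F230523 : act 7 n51417 = n49375 := d27_2 (iv F221244) D51417 (iv D49375)
theorem F230524 : act 8 n51417 = n49389 := d28_2 D49374 D51417 (iv D49389) (iv D47201) (iv F211273)
def n51418 : Q := act 9 n49374
theorem D51418 : act 9 n49374 = n51418 := rfl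
theorem F230525 : act 1 n51418 = n50759 := d16_1 D51418 (iv D50759) (iv F221240)
theorem F230526 : act 2 n51418 = n51418 := d23_1 D51418 (iv D51418) F221241
theorem F230527 : act 5 n51418 = n49378 := d38_1 D51418 (iv D49378) (iv F221242)
theorem F230528 : act 6 n51418 = n50758 := d41_1 D51418 (iv D50758) (iv F221243)
theorem F230529 : act 7 n51418 = n49376 := d43_1 D51418 (iv D49376) (iv F221244)
theorem F230530 : act 8 n51418 = n49523 := d44_1 D51418 (iv D49523) (iv D47314) (iv F211275) D49374
def n51419 : Q := act 2 n49375
theorem D51419 : act 2 n49375 = n51419 := rfl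
theorem F230531 : act 3 n51419 = n51419 := d17_2 D49375 D51419 (iv D51419) (iv D49375) F211276
theorem F230532 : act 5 n51419 = n49379 := d19_2 (iv F221245) D51419 (iv D49379)
theorem F230533 : act 6 n51419 = n50344 := d20_2 (iv F221246) D51419 (iv D50344)
theorem F230534 : act 8 n51419 = n49391 := d22_2 (iv F221247) D51419 (iv D49391)
def n51420 : Q := act 4 n49375
theorem D51420 : act 4 n49375 = n51420 := rfl
theorem F230535 : act 6 n51420 = n50345 := d31_2 (iv F221246) D51420 (iv D50345)
theorem F230536 : act 8 n51420 = n49392 := d33_2 (iv F221247) D51420 (iv D49392)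
def n51421 : Q := act 9 n49375
theorem D51421 : act 9 n49375 = n51421 := rfl
theorem F230537 : act 3 n51421 = n49376 := d29_1 D51421 (iv D49376) D49375
theorem F230538 : act 5 n51421 = n49381 := d38_1 D51421 (iv D49381) (iv F221245)
theorem F230539 : act 6 n51421 = n50346 := d41_1 D51421 (iv D50346) (iv F221246)
def n51422 : Q := act 9 n49377
theorem D51422 : act 9 n49377 = n51422 := rfl
theorem F230540 : act 1 n51422 = n50453 := d16_1 D51422 (iv D50453) (iv F221252)
theorem F230541 : act 3 n51422 = n49378 := d29_1 D51422 (iv D49378) D49377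
theorem F230542 : act 6 n51422 = n50450 := d41_1 D51422 (iv D50450) (iv F221253)
theorem F230543 : act 7 n51422 = n49381 := d43_1 D51422 (iv D49381) (iv F221254)
def n51423 : Q := act 1 n49379
theorem D51423 : act 1 n49379 = n51423 := rfl
theorem F230544 : act 2 n51423 = n50039 := d9_2 D49379 D51423 F224183 (iv F218163) F218162
theorem F230545 : act 3 n51423 = n51423 := d10_2 F221262 D51423 (iv D51423)
theorem F230546 : act 6 n51423 = n49382 := d13_2 (iv F221263) D51423 (iv D49382)
theorem F230547 : act 7 n51423 = n50035 := d14_2 F230367 D51423 (iv F230363)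
theorem F230548 : act 8 n51423 = n49395 := d15_2 (iv F221264) D51423 (iv D49395)
def n51424 : Q := act 9 n49379
theorem D51424 : act 9 n49379 = n51424 := rfl
theorem F230549 : act 2 n51424 = n49381 := d23_1 D51424 (iv D49381) D49379
theorem F230550 : act 3 n51424 = n51424 := d29_1 D51424 (iv D51424) F221262
theorem F230551 : act 6 n51424 = n49384 := d41_1 D51424 (iv D49384) (iv F221263)
def n51425 : Q := act 5 n49380
theorem D51425 : act 5 n49380 = n51425 := rfl
theorem F230552 : act 3 n51425 = n51425 := d25_1 D51425 (iv D51425) F221265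
theorem F230553 : act 8 n51425 = n49397 := d37_2 (iv F221267) D51425 (iv D49397)
def n51426 : Q := act 9 n49380
theorem D51426 : act 9 n49380 = n51426 := rfl
theorem F230554 : act 3 n51426 = n51426 := d29_1 D51426 (iv D51426) F221265
theorem F230555 : act 4 n51426 = n49381 := d34_1 D51426 (iv D49381) D49380
theorem F230556 : act 6 n51426 = n49386 := d41_1 D51426 (iv D49386) (iv F221266)
def n51427 : Q := act 8 n49381
theorem D51427 : act 8 n49381 = n51427 := rfl
theorem F230557 : act 3 n51427 = n49535 := d28_1 D51427 (iv D49535) F211794 (iv F211289) (iv F221268)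
theorem F230558 : act 6 n51427 = n49387 := d40_1 D51427 (iv D49387) (iv F221269)
theorem F230559 : act 9 n51427 = n49399 := d44_2 D49381 D51427 (iv D49399) (iv D47208) (iv F211285)
def n51428 : Q := act 9 n49382
theorem D51428 : act 9 n49382 = n51428 := rfl
theorem F230560 : act 1 n51428 = n49384 := d16_1 D51428 (iv D49384) D49382
theorem F230561 : act 2 n51428 = n50762 := d23_1 D51428 (iv F227547) F227541
theorem F230562 : act 3 n51428 = n51428 := d29_1 D51428 (iv D51428) F221270
theorem F230563 : act 5 n51428 = n50349 := d38_1 D51428 (iv D50349) (iv F221271)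
def n51429 : Q := act 9 n49383
theorem D51429 : act 9 n49383 = n51429 := rfl
theorem F230564 : act 0 n51429 = n50450 := d8_1 D51429 (iv D50450) (iv F221273)
theorem F230565 : act 2 n51429 = n49386 := d23_1 D51429 (iv D49386) (iv F221274)
theorem F230566 : act 3 n51429 = n50760 := d29_1 D51429 (iv D50760) (iv F221277)
theorem F230567 : act 4 n51429 = n49384 := d34_1 D51429 (iv D49384) D49383
theorem F230568 : act 5 n51429 = n50448 := d38_1 D51429 (iv D50448) (iv F221275)
def n51430 : Q := act 8 n49384
theorem D51430 : act 8 n49384 = n51430 := rfl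
theorem F230569 : act 2 n51430 = n49387 := d22_1 D51430 (iv D49387) (iv F221278)
theorem F230570 : act 5 n51430 = n50350 := d37_1 D51430 (iv D50350) (iv F221280)
theorem F230571 : act 9 n51430 = n49405 := d44_2 D49384 D51430 (iv D49405) (iv D47211) (iv F211292)
def n51431 : Q := act 6 n49385
theorem D51431 : act 6 n49385 = n51431 := rfl
theorem F230572 : act 0 n51431 = n50025 := d5_1 D51431 F224136 (iv F221281)
theorem F230573 : act 1 n51431 = n49467 := d13_1 D51431 F221642 (iv F221282)
theorem F230574 : act 2 n51431 = n49452 := d20_1 D51431 F221577 (iv F221283)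
theorem F230575 : act 3 n51431 = n51431 := d26_1 D51431 (iv D51431) F221284
theorem F230576 : act 4 n51431 = n49446 := d31_1 D51431 F221548 (iv F221285)
theorem F230577 : act 7 n51431 = n49454 := d39_2 F229814 D51431 F221587 (iv F220474) (iv F229813)
theorem F230578 : act 8 n51431 = n49406 := d40_2 (iv F221286) D51431 (iv D49406)
def n51432 : Q := act 9 n49385
theorem D51432 : act 9 n49385 = n51432 := rfl
theorem F230579 : act 0 n51432 = n50033 := d8_1 D51432 (iv D50033) (iv F221281)
theorem F230580 : act 1 n51432 = n49472 := d16_1 D51432 (iv D49472) (iv F221282)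
theorem F230581 : act 2 n51432 = n50448 := d23_1 D51432 (iv D50448) (iv F221283)
theorem F230582 : act 3 n51432 = n51432 := d29_1 D51432 (iv D51432) F221284
theorem F230583 : act 4 n51432 = n49448 := d34_1 D51432 (iv D49448) (iv F221285)
theorem F230584 : act 5 n51432 = n49386 := d38_1 D51432 (iv D49386) D49385
def n51433 : Q := act 8 n49386
theorem D51433 : act 8 n49386 = n51433 := rfl
theorem F230585 : act 4 n51433 = n49387 := d33_1 D51433 (iv D49387) (iv F221288)
theorem F230586 : act 9 n51433 = n49408 := d44_2 D49386 D51433 (iv D49408) (iv D47213) (iv F211294)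
def n51434 : Q := act 3 n49388
theorem D51434 : act 3 n49388 = n51434 := rfl
theorem F230587 : act 1 n51434 = n50013 := d10_1 D51434 F224086 (iv F221292)
theorem F230588 : act 2 n51434 = n50420 := d17_1 D51434 F225667 F215892 F211373 (iv F221293)
theorem F230589 : act 5 n51434 = n50022 := d25_2 (iv F221295) D51434 F224118
theorem F230590 : act 6 n51434 = n49389 := d26_2 (iv F221296) D51434 (iv D49389)
theorem F230591 : act 7 n51434 = n50016 := d27_2 (iv F221297) D51434 F224100
theorem F230592 : act 8 n51434 = n50438 := d28_2 D49388 D51434 F225710 F218402 F218397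
def n51435 : Q := act 9 n49388
theorem D51435 : act 9 n49388 = n51435 := rfl
theorem F230593 : act 1 n51435 = n50044 := d16_1 D51435 (iv D50044) (iv F221292)
theorem F230594 : act 2 n51435 = n49417 := d23_1 D51435 (iv D49417) (iv F221293)
theorem F230595 : act 4 n51435 = n49665 := d34_1 D51435 (iv D49665) (iv F221294)
theorem F230596 : act 5 n51435 = n50048 := d38_1 D51435 (iv D50048) (iv F221295)
theorem F230597 : act 6 n51435 = n49390 := d41_1 D51435 (iv D49390) (iv F221296)
theorem F230598 : act 7 n51435 = n50045 := d43_1 D51435 (iv D50045) (iv F221297)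
theorem F230599 : act 8 n51435 = n49543 := d44_1 D51435 (iv D49543) (iv D47328) (iv F211300) D49388
def n51436 : Q := act 4 n49389
theorem D51436 : act 4 n49389 = n51436 := rfl
theorem F230600 : act 3 n51436 = n49667 := d24_1 D51436 (iv D49667) (iv D47450) (iv F211302) D49389
theorem F230601 : act 7 n51436 = n49392 := d32_2 (iv F221299) D51436 (iv D49392)
def n51437 : Q := act 9 n49389
theorem D51437 : act 9 n49389 = n51437 := rfl
theorem F230602 : act 3 n51437 = n49390 := d29_1 D51437 (iv D49390) D49389
theorem F230603 : act 5 n51437 = n49394 := d38_1 D51437 (iv D49394) (iv F221298)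
theorem F230604 : act 7 n51437 = n49393 := d43_1 D51437 (iv D49393) (iv F221299)
def n51438 : Q := act 1 n49391
theorem D51438 : act 1 n49391 = n51438 := rfl
theorem F230605 : act 2 n51438 = n49542 := d9_2 D49391 D51438 F227591 (iv D50913) F218208
theorem F230606 : act 3 n51438 = n49420 := d10_2 (iv F221305) D51438 (iv D49420)
theorem F230607 : act 5 n51438 = n49395 := d12_2 (iv F221306) D51438 (iv D49395)
theorem F230608 : act 6 n51438 = n49544 := d13_2 (iv F221307) D51438 F221956
theorem F230609 : act 7 n51438 = n50417 := d14_2 F230434 D51438 (iv F230430)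
def n51439 : Q := act 4 n49391
theorem D51439 : act 4 n49391 = n51439 := rfl
theorem F230610 : act 2 n51439 = n49392 := d18_1 D51439 (iv D49392) D49391
theorem F230611 : act 6 n51439 = n50354 := d31_2 (iv F221307) D51439 (iv D50354)
def n51440 : Q := act 9 n49391
theorem D51440 : act 9 n49391 = n51440 := rfl
theorem F230612 : act 2 n51440 = n49393 := d23_1 D51440 (iv D49393) D49391
theorem F230613 : act 3 n51440 = n49422 := d29_1 D51440 (iv D49422) (iv F221305)
theorem F230614 : act 5 n51440 = n49396 := d38_1 D51440 (iv D49396) (iv F221306)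
theorem F230615 : act 6 n51440 = n50355 := d41_1 D51440 (iv D50355) (iv F221307)
def n51441 : Q := act 5 n49392
theorem D51441 : act 5 n49392 = n51441 := rfl
theorem F230616 : act 3 n51441 = n49672 := d25_1 D51441 (iv D49672) (iv F221308)
theorem F230617 : act 4 n51441 = n49397 := d30_1 D51441 (iv D49397) (iv D47207) (iv F211305) D49392
def n51442 : Q := act 9 n49392
theorem D51442 : act 9 n49392 = n51442 := rfl
theorem F230618 : act 3 n51442 = n49673 := d29_1 D51442 (iv D49673) (iv F221308)
theorem F230619 : act 4 n51442 = n49393 := d34_1 D51442 (iv D49393) D49392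
theorem F230620 : act 6 n51442 = n50357 := d41_1 D51442 (iv D50357) (iv F221309)
def n51443 : Q := act 8 n49393
theorem D51443 : act 8 n49393 = n51443 := rfl
theorem F230621 : act 3 n51443 = n49552 := d28_1 D51443 (iv D49552) F211831 (iv F211311) (iv F221310)
theorem F230622 : act 5 n51443 = n49399 := d37_1 D51443 (iv D49399) (iv F221311)
theorem F230623 : act 6 n51443 = n50358 := d40_1 D51443 (iv D50358) (iv F221312)
def n51444 : Q := act 8 n49394
theorem D51444 : act 8 n49394 = n51444 := rfl
theorem F230624 : act 3 n51444 = n49557 := d28_1 D51444 (iv D49557) F211842 (iv F211316) (iv F221313)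
theorem F230625 : act 7 n51444 = n49399 := d42_1 D51444 (iv D49399) (iv F221314)
def n51445 : Q := act 9 n49395
theorem D51445 : act 9 n49395 = n51445 := rfl
theorem F230626 : act 1 n51445 = n49396 := d16_1 D51445 (iv D49396) D49395
theorem F230627 : act 3 n51445 = n49426 := d29_1 D51445 (iv D49426) (iv F221315)
theorem F230628 : act 6 n51445 = n49402 := d41_1 D51445 (iv D49402) (iv F221316)
def n51446 : Q := act 8 n49396
theorem D51446 : act 8 n49396 = n51446 := rfl
theorem F230629 : act 2 n51446 = n49399 := d22_1 D51446 (iv D49399) (iv F221317)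
theorem F230630 : act 6 n51446 = n49405 := d40_1 D51446 (iv D49405) (iv F221319)
def n51447 : Q := act 6 n49397
theorem D51447 : act 6 n49397 = n51447 := rfl
theorem F230631 : act 0 n51447 = n50420 := d5_1 D51447 (iv F230433) F230429
theorem F230632 : act 1 n51447 = n49486 := d13_1 D51447 (iv F227634) F227632
theorem F230633 : act 3 n51447 = n49410 := d26_1 D51447 (iv D49410) (iv F221320)
theorem F230634 : act 5 n51447 = n49406 := d35_1 D51447 (iv D49406) (iv D47212) (iv F211320) D49397
theorem F230635 : act 7 n50425 = n51447 := d36_0 F230634 F221344 (iv F225682)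
def n51448 : Q := act 9 n49397
theorem D51448 : act 9 n49397 = n51448 := rfl
theorem F230636 : act 3 n51448 = n49411 := d29_1 D51448 (iv D49411) (iv F221320)
theorem F230637 : act 5 n51448 = n49398 := d38_1 D51448 (iv D49398) D49397
def n51449 : Q := act 8 n49398
theorem D51449 : act 8 n49398 = n51449 := rfl
theorem F230638 : act 4 n51449 = n49399 := d33_1 D51449 (iv D49399) (iv F221322)
theorem F230639 : act 6 n51449 = n49408 := d40_1 D51449 (iv D49408) (iv F221323)
def n51450 : Q := act 9 n49400
theorem D51450 : act 9 n49400 = n51450 := rfl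
theorem F230640 : act 0 n51450 = n49402 := d8_1 D51450 (iv D49402) D49400
theorem F230641 : act 1 n51450 = n50763 := d16_1 D51450 (iv F227557) F227550
theorem F230642 : act 3 n51450 = n49428 := d29_1 D51450 (iv D49428) (iv F221326)
theorem F230643 : act 4 n51450 = n50762 := d34_1 D51450 (iv F227547) (iv F227548)
theorem F230644 : act 5 n51450 = n50365 := d38_1 D51450 (iv D50365) (iv F221327)
def n51451 : Q := act 9 n49401
theorem D51451 : act 9 n49401 = n51451 := rfl
theorem F230645 : act 0 n51451 = n50762 := d8_1 D51451 (iv F227547) F227540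
theorem F230646 : act 1 n51451 = n49404 := d16_1 D51451 (iv D49404) (iv F221328)
theorem F230647 : act 3 n51451 = n50761 := d29_1 D51451 (iv F229658) F229653
theorem F230648 : act 4 n51451 = n49402 := d34_1 D51451 (iv D49402) D49401
def n51452 : Q := act 8 n49402
theorem D51452 : act 8 n49402 = n51452 := rfl
theorem F230649 : act 1 n51452 = n49405 := d15_1 D51452 (iv D49405) (iv F221329)
theorem F230650 : act 5 n51452 = n50367 := d37_1 D51452 (iv D50367) (iv F221331)
def n51453 : Q := act 6 n49403
theorem D51453 : act 6 n49403 = n51453 := rfl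
theorem F230651 : act 0 n51453 = n50022 := d5_1 D51453 F224120 (iv F221332)
theorem F230652 : act 1 n51453 = n49464 := d13_1 D51453 (iv F229921) F229919
theorem F230653 : act 2 n51453 = n49406 := d20_1 D51453 (iv D49406) (iv F221333)
theorem F230654 : act 3 n51453 = n49445 := d26_1 D51453 (iv F229725) F229722
theorem F230655 : act 4 n51453 = n49454 := d31_1 D51453 F221587 (iv F221334)
theorem F230656 : act 7 n51453 = n49446 := d39_2 F229732 D51453 F221548 (iv F220451) (iv F229731)
theorem F230657 : act 8 n51453 = n49452 := d40_2 (iv F221335) D51453 F221577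
def n51454 : Q := act 9 n49403
theorem D51454 : act 9 n49403 = n51454 := rfl
theorem F230658 : act 0 n51454 = n50413 := d8_1 D51454 (iv D50413) (iv F221332)
theorem F230659 : act 2 n51454 = n49407 := d23_1 D51454 (iv D49407) (iv F221333)
theorem F230660 : act 4 n51454 = n49457 := d34_1 D51454 (iv D49457) (iv F221334)
theorem F230661 : act 5 n51454 = n49404 := d38_1 D51454 (iv D49404) D49403
def n51455 : Q := act 8 n49404
theorem D51455 : act 8 n49404 = n51455 := rfl
theorem F230662 : act 2 n51455 = n49408 := d22_1 D51455 (iv D49408) (iv F221336)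
theorem F230663 : act 4 n51455 = n49405 := d33_1 D51455 (iv D49405) (iv F221337)
def n51456 : Q := act 3 n49405
theorem D51456 : act 3 n49405 = n51456 := rfl
theorem F230664 : act 2 n51456 = n49573 := d17_1 D51456 (iv D49573) F211878 (iv F211334) (iv F221338)
theorem F230665 : act 5 n51456 = n50369 := d25_2 (iv F221339) D51456 (iv D50369)
theorem F230666 : act 8 n51456 = n49430 := d28_2 D49405 D51456 (iv D49430) (iv D47236) (iv F211327)
def n51457 : Q := act 9 n49406
theorem D51457 : act 9 n49406 = n51457 := rfl
theorem F230667 : act 0 n51457 = n50435 := d8_1 D51457 (iv D50435) (iv F221340)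
theorem F230668 : act 1 n51457 = n49487 := d16_1 D51457 (iv D49487) (iv F221341)
theorem F230669 : act 3 n51457 = n49413 := d29_1 D51457 (iv D49413) (iv F221342)
theorem F230670 : act 4 n51457 = n49455 := d34_1 D51457 (iv D49455) (iv F221343)
theorem F230671 : act 6 n51457 = n49407 := d41_1 D51457 (iv D49407) D49406
theorem F230672 : act 7 n51457 = n50437 := d43_1 D51457 (iv D50437) (iv F221344)
def n51458 : Q := act 8 n49407
theorem D51458 : act 8 n49407 = n51458 := rfl
theorem F230673 : act 1 n51458 = n49494 := d15_1 D51458 (iv D49494) (iv F221345)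
theorem F230674 : act 4 n51458 = n49458 := d33_1 D51458 (iv D49458) (iv F221347)
theorem F230675 : act 5 n51458 = n49408 := d37_1 D51458 (iv D49408) (iv F221348)
def n51459 : Q := act 3 n49408
theorem D51459 : act 3 n49408 = n51459 := rfl
theorem F230676 : act 4 n51459 = n49577 := d24_2 (iv F221349) D51459 (iv D49577) F211885 (iv F211334)
theorem F230677 : act 8 n51459 = n49415 := d28_2 D49408 D51459 (iv D49415) (iv D47221) (iv F211332)
def n51460 : Q := act 9 n49410
theorem D51460 : act 9 n49410 = n51460 := rfl
theorem F230678 : act 0 n51460 = n50462 := d8_1 D51460 (iv D50462) (iv F221356)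
theorem F230679 : act 1 n51460 = n49498 := d16_1 D51460 (iv D49498) (iv F221357)
theorem F230680 : act 2 n51460 = n50481 := d23_1 D51460 (iv D50481) (iv F221358)
theorem F230681 : act 4 n51460 = n49696 := d34_1 D51460 (iv D49696) (iv F221359)
theorem F230682 : act 5 n51460 = n49413 := d38_1 D51460 (iv D49413) (iv F221360)
theorem F230683 : act 6 n51460 = n49411 := d41_1 D51460 (iv D49411) D49410
theorem F230684 : act 7 n51460 = n50464 := d43_1 D51460 (iv D50464) F221362
def n51461 : Q := act 8 n49411
theorem D51461 : act 8 n49411 = n51461 := rfl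
theorem F230685 : act 4 n51461 = n49697 := d33_1 D51461 (iv D49697) (iv F221363)
theorem F230686 : act 5 n51461 = n49412 := d37_1 D51461 (iv D49412) (iv F221364)
theorem F230687 : act 9 n51461 = n51461 := d44_2 D49411 D51461 (iv D51461) (iv D49411) F211340
def n51462 : Q := act 3 n49412
theorem D51462 : act 3 n49412 = n51462 := rfl
theorem F230688 : act 4 n51462 = n49583 := d24_2 (iv F221365) D51462 (iv D49583) F211910 (iv F211343)
theorem F230689 : act 6 n51462 = n49415 := d26_2 (iv F221366) D51462 (iv D49415)
theorem F230690 : act 9 n51462 = n51462 := d29_2 F221367 D51462 (iv D51462)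
def n51463 : Q := act 8 n49413
theorem D51463 : act 8 n49413 = n51463 := rfl
theorem F230691 : act 0 n51463 = n50472 := d7_1 D51463 (iv D50472) (iv F221368)
theorem F230692 : act 1 n51463 = n49499 := d15_1 D51463 (iv D49499) (iv F221369)
theorem F230693 : act 2 n51463 = n50488 := d22_1 D51463 (iv D50488) (iv F221370)
theorem F230694 : act 4 n51463 = n49416 := d33_1 D51463 (iv D49416) (iv F221371)
theorem F230695 : act 6 n51463 = n49414 := d40_1 D51463 (iv D49414) (iv F221372)
theorem F230696 : act 7 n51463 = n50474 := d42_1 D51463 (iv D50474) (iv F221373)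
theorem F230697 : act 9 n51463 = n51463 := d44_2 D49413 D51463 (iv D51463) (iv D49413) F211352
def n51464 : Q := act 3 n49414
theorem D51464 : act 3 n49414 = n51464 := rfl
theorem F230698 : act 1 n51464 = n49500 := d10_1 D51464 (iv D49500) (iv F221374)
theorem F230699 : act 2 n51464 = n50479 := d17_1 D51464 F225824 (iv F221523) (iv F230246) F230245
theorem F230700 : act 4 n51464 = n50478 := d24_2 (iv F221375) D51464 F225821 (iv F218535) F218534
theorem F230701 : act 5 n51464 = n49415 := d25_2 (iv F221376) D51464 (iv D49415)
theorem F230702 : act 9 n51464 = n51464 := d29_2 F221377 D51464 (iv D51464)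
def n51465 : Q := act 2 n49415
theorem D51465 : act 2 n49415 = n51465 := rfl
theorem F230703 : act 0 n51465 = n50376 := d1_1 D51465 (iv F230471) F230469
theorem F230704 : act 3 n51465 = n50375 := d17_2 D49415 D51465 F225539 (iv F220882) F220881
theorem F230705 : act 4 n51465 = n49587 := d18_2 (iv F221378) D51465 (iv D49587)
theorem F230706 : act 5 n51465 = n50479 := d19_2 F230701 D51465 (iv F230699)
theorem F230707 : act 9 n51465 = n51465 := d23_2 F221379 D51465 (iv D51465)
theorem F230708 : act 1 n50480 = n51465 := d12_3 F230706 F225823 D50480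
def n51466 : Q := act 9 n49418
theorem D51466 : act 9 n49418 = n51466 := rfl
theorem F230709 : act 0 n51466 = n49618 := d8_1 D51466 (iv D49618) (iv F221394)
theorem F230710 : act 1 n51466 = n49431 := d16_1 D51466 (iv D49431) (iv F221395)
theorem F230711 : act 2 n51466 = n49646 := d23_1 D51466 (iv D49646) (iv F221396)
theorem F230712 : act 3 n51466 = n49707 := d29_1 D51466 (iv D49707) (iv F221397)
theorem F230713 : act 4 n51466 = n49419 := d34_1 D51466 (iv D49419) D49418
theorem F230714 : act 5 n51466 = n49614 := d38_1 D51466 (iv D49614) (iv F221398)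
theorem F230715 : act 6 n51466 = n50482 := d41_1 D51466 (iv D50482) (iv F221399)
theorem F230716 : act 7 n51466 = n49423 := d43_1 D51466 (iv D49423) (iv F221400)
def n51467 : Q := act 8 n49419
theorem D51467 : act 8 n49419 = n51467 := rfl
theorem F230717 : act 1 n51467 = n49432 := d15_1 D51467 (iv D49432) (iv F221402)
theorem F230718 : act 3 n51467 = n49591 := d28_1 D51467 (iv D49591) F211950 (iv F211383) (iv F221403)
theorem F230719 : act 5 n51467 = n49425 := d37_1 D51467 (iv D49425) (iv F221404)
theorem F230720 : act 6 n51467 = n50483 := d40_1 D51467 (iv D50483) (iv F221405)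
theorem F230721 : act 7 n51467 = n49424 := d42_1 D51467 (iv D49424) (iv F221406)
theorem F230722 : act 9 n51467 = n51467 := d44_2 D49419 D51467 (iv D51467) (iv D49419) F211378
def n51468 : Q := act 9 n49420
theorem D51468 : act 9 n49420 = n51468 := rfl
theorem F230723 : act 1 n51468 = n49422 := d16_1 D51468 (iv D49422) D49420
theorem F230724 : act 2 n51468 = n49435 := d23_1 D51468 (iv D49435) (iv F221407)
theorem F230725 : act 5 n51468 = n49426 := d38_1 D51468 (iv D49426) (iv F221408)
theorem F230726 : act 6 n51468 = n49589 := d41_1 D51468 (iv D49589) (iv F221409)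
theorem F230727 : act 7 n51468 = n50460 := d43_1 D51468 (iv D50460) (iv F221410)
def n51469 : Q := act 3 n49421
theorem D51469 : act 3 n49421 = n51469 := rfl
theorem F230728 : act 0 n51469 = n49676 := d2_1 D51469 F222548 (iv F221412)
theorem F230729 : act 2 n51469 = n49709 := d17_1 D51469 (iv D49709) F212551 (iv F211389) (iv F221413)
theorem F230730 : act 5 n51469 = n49638 := d25_2 (iv F221414) D51469 F222378
theorem F230731 : act 6 n51469 = n50370 := d26_2 (iv F221415) D51469 (iv D50370)
theorem F230732 : act 7 n51469 = n49640 := d27_2 (iv F221416) D51469 F222389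
theorem F230733 : act 8 n50531 = n51469 := d42_0 F230732 F222390 (iv F225987)
def n51470 : Q := act 9 n49421
theorem D51470 : act 9 n49421 = n51470 := rfl
theorem F230734 : act 0 n51470 = n49693 := d8_1 D51470 (iv D49693) (iv F221412)
theorem F230735 : act 2 n51470 = n49423 := d23_1 D51470 (iv D49423) (iv F221413)
theorem F230736 : act 4 n51470 = n49422 := d34_1 D51470 (iv D49422) D49421
theorem F230737 : act 5 n51470 = n49644 := d38_1 D51470 (iv D49644) (iv F221414)
theorem F230738 : act 6 n51470 = n50371 := d41_1 D51470 (iv D50371) (iv F221415)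
theorem F230739 : act 7 n51470 = n49646 := d43_1 D51470 (iv D49646) (iv F221416)
def n51471 : Q := act 8 n49422
theorem D51471 : act 8 n49422 = n51471 := rfl
theorem F230740 : act 2 n51471 = n49424 := d22_1 D51471 (iv D49424) (iv F221418)
theorem F230741 : act 5 n51471 = n49427 := d37_1 D51471 (iv D49427) (iv F221419)
theorem F230742 : act 6 n51471 = n50372 := d40_1 D51471 (iv D50372) (iv F221420)
theorem F230743 : act 9 n51471 = n51471 := d44_2 D49422 D51471 (iv D51471) (iv D49422) F211386
def n51472 : Q := act 8 n49423
theorem D51472 : act 8 n49423 = n51472 := rfl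
theorem F230744 : act 0 n51472 = n50716 := d7_1 D51472 (iv D50716) (iv F221421)
theorem F230745 : act 1 n51472 = n49438 := d15_1 D51472 (iv D49438) (iv F221422)
theorem F230746 : act 3 n51472 = n50718 := d28_1 D51472 (iv D50718) F216796 (iv F212566) (iv F221423)
theorem F230747 : act 4 n51472 = n49424 := d33_1 D51472 (iv D49424) (iv F221424)
theorem F230748 : act 5 n51472 = n50843 := d37_1 D51472 (iv D50843) (iv F221425)
theorem F230749 : act 6 n51472 = n50373 := d40_1 D51472 (iv D50373) (iv F221426)
theorem F230750 : act 9 n51472 = n51472 := d44_2 D49423 D51472 (iv D51472) (iv D49423) F211392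
def n51473 : Q := act 8 n49426
theorem D51473 : act 8 n49426 = n51473 := rfl
theorem F230751 : act 0 n51473 = n50771 := d7_1 D51473 F228096 F228090
theorem F230752 : act 1 n51473 = n49427 := d15_1 D51473 (iv D49427) (iv F221437)
theorem F230753 : act 2 n51473 = n49441 := d22_1 D51473 (iv D49441) (iv F221438)
theorem F230754 : act 4 n51473 = n50769 := d33_1 D51473 F227869 F227865
theorem F230755 : act 6 n51473 = n49429 := d40_1 D51473 (iv D49429) (iv F221439)
theorem F230756 : act 7 n51473 = n50490 := d42_1 D51473 F227853 F227852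
theorem F230757 : act 9 n51473 = n51473 := d44_2 D49426 D51473 (iv D51473) (iv D49426) F211402
def n51474 : Q := act 3 n49427
theorem D51474 : act 3 n49427 = n51474 := rfl
theorem F230758 : act 2 n51474 = n49602 := d17_1 D51474 (iv D49602) F211994 (iv F211406) (iv F221440)
theorem F230759 : act 6 n51474 = n49430 := d26_2 (iv F221441) D51474 (iv D49430)
theorem F230760 : act 9 n51474 = n51474 := d29_2 F221442 D51474 (iv D51474)
def n51475 : Q := act 3 n49429
theorem D51475 : act 3 n49429 = n51475 := rfl
theorem F230761 : act 0 n51475 = n50479 := d2_1 D51475 F225824 (iv F221449)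
theorem F230762 : act 1 n51475 = n49430 := d10_1 D51475 (iv D49430) (iv F221450)
theorem F230763 : act 4 n51475 = n50477 := d24_2 (iv F221452) D51475 (iv D50477) F215951 D48633
theorem F230764 : act 5 n51475 = n50376 := d25_2 (iv F221453) D51475 (iv D50376)
theorem F230765 : act 9 n51475 = n51475 := d29_2 F221454 D51475 (iv D51475)
def n51476 : Q := act 4 n49430
theorem D51476 : act 4 n49430 = n51476 := rfl
theorem F230766 : act 0 n51476 = n50404 := d3_1 D51476 (iv F230505) F230502
theorem F230767 : act 1 n51476 = n50477 := d11_1 D51476 (iv F230763) F230762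
theorem F230768 : act 2 n51476 = n49605 := d18_1 D51476 (iv D49605) (iv F221455)
theorem F230769 : act 3 n51476 = n50403 := d24_1 D51476 F225628 (iv F220930) F220931 D49430
theorem F230770 : act 9 n51476 = n51476 := d34_2 F221457 D51476 (iv D51476)
def n51477 : Q := act 9 n49433
theorem D51477 : act 9 n49433 = n51477 := rfl
theorem F230771 : act 0 n51477 = n49435 := d8_1 D51477 (iv D49435) D49433
theorem F230772 : act 1 n51477 = n51477 := d16_1 D51477 (iv D51477) F221472
theorem F230773 : act 3 n51477 = n49501 := d29_1 D51477 (iv D49501) (iv F221473)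
theorem F230774 : act 5 n51477 = n49440 := d38_1 D51477 (iv D49440) (iv F221474)
theorem F230775 : act 6 n51477 = n49504 := d41_1 D51477 (iv D49504) (iv F221475)
theorem F230776 : act 7 n51477 = n50398 := d43_1 D51477 (iv D50398) (iv F221476)
def n51478 : Q := act 9 n49434
theorem D51478 : act 9 n49434 = n51478 := rfl
theorem F230777 : act 1 n51478 = n49436 := d16_1 D51478 (iv D49436) (iv F221478)
theorem F230778 : act 3 n51478 = n49893 := d29_1 D51478 (iv D49893) (iv F221479)
theorem F230779 : act 4 n51478 = n49435 := d34_1 D51478 (iv D49435) D49434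
theorem F230780 : act 5 n51478 = n49924 := d38_1 D51478 F223615 (iv F221480)
theorem F230781 : act 6 n51478 = n49590 := d41_1 D51478 (iv D49590) (iv F221481)
theorem F230782 : act 7 n51478 = n49922 := d43_1 D51478 F223605 (iv F221482)
def n51479 : Q := act 8 n49435
theorem D51479 : act 8 n49435 = n51479 := rfl
theorem F230783 : act 1 n51479 = n49437 := d15_1 D51479 (iv D49437) (iv F221484)
theorem F230784 : act 3 n51479 = n50483 := d28_1 D51479 (iv D50483) (iv F221388) F221393 (iv F221485)
theorem F230785 : act 5 n51479 = n49441 := d37_1 D51479 (iv D49441) (iv F221486)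
theorem F230786 : act 6 n51479 = n49591 := d40_1 D51479 (iv D49591) (iv F221487)
theorem F230787 : act 7 n51479 = n50461 := d42_1 D51479 (iv D50461) (iv F221488)
theorem F230788 : act 9 n51479 = n51479 := d44_2 D49435 D51479 (iv D51479) (iv D49435) F211443
def n51480 : Q := act 8 n49440
theorem D51480 : act 8 n49440 = n51480 := rfl
theorem F230789 : act 0 n51480 = n49441 := d7_1 D51480 (iv D49441) (iv F221513)
theorem F230790 : act 1 n51480 = n51480 := d15_1 D51480 (iv D51480) F221514
theorem F230791 : act 2 n51480 = n50771 := d22_1 D51480 F228096 F228092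
theorem F230792 : act 3 n51480 = n50488 := d28_1 D51480 (iv D50488) (iv F224243) (iv F227752) F227747
theorem F230793 : act 4 n51480 = n50770 := d33_1 D51480 F227137 F227133
theorem F230794 : act 6 n51480 = n49442 := d40_1 D51480 (iv D49442) (iv F221515)
theorem F230795 : act 7 n51480 = n50489 := d42_1 D51480 F227128 F227127
theorem F230796 : act 9 n51480 = n51480 := d44_2 D49440 D51480 (iv D51480) (iv D49440) F211486
def n51481 : Q := act 3 n49444
theorem D51481 : act 3 n49444 = n51481 := rfl
theorem F230797 : act 0 n51481 = n50016 := d2_1 D51481 F224100 (iv F221534)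
theorem F230798 : act 1 n51481 = n49462 := d10_1 D51481 (iv D49462) (iv F221535)
theorem F230799 : act 2 n51481 = n50425 := d17_1 D51481 F225681 F215908 (iv F214274) (iv F221536)
theorem F230800 : act 5 n51481 = n49446 := d25_2 (iv F221538) D51481 (iv D49446)
theorem F230801 : act 6 n51481 = n50327 := d26_2 (iv F221539) D51481 (iv D50327)
theorem F230802 : act 8 n51481 = n49450 := d28_2 D49444 D51481 (iv D49450) (iv D47261) (iv F211520)
def n51482 : Q := act 9 n49444
theorem D51482 : act 9 n49444 = n51482 := rfl
theorem F230803 : act 0 n51482 = n50045 := d8_1 D51482 (iv D50045) (iv F221534)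
theorem F230804 : act 1 n51482 = n49463 := d16_1 D51482 (iv D49463) (iv F221535)
theorem F230805 : act 2 n51482 = n50051 := d23_1 D51482 (iv D50051) (iv F221536)
theorem F230806 : act 4 n51482 = n50493 := d34_1 D51482 (iv D50493) (iv F221537)
theorem F230807 : act 5 n51482 = n49447 := d38_1 D51482 (iv D49447) (iv F221538)
theorem F230808 : act 6 n51482 = n50328 := d41_1 D51482 (iv D50328) (iv F221539)
theorem F230809 : act 8 n51482 = n50386 := d44_1 D51482 (iv D50386) (iv D48205) (iv F211522) D49444
def n51483 : Q := act 9 n49445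
theorem D51483 : act 9 n49445 = n51483 := rfl
theorem F230810 : act 0 n51483 = n50048 := d8_1 D51483 (iv D50048) (iv F221540)
theorem F230811 : act 1 n51483 = n49465 := d16_1 D51483 (iv D49465) (iv F221541)
theorem F230812 : act 2 n51483 = n50052 := d23_1 D51483 (iv D50052) (iv F221542)
theorem F230813 : act 4 n51483 = n51483 := d34_1 D51483 (iv D51483) F221543
theorem F230814 : act 7 n51483 = n49447 := d43_1 D51483 (iv D49447) (iv F221544)
def n51484 : Q := act 9 n49446
theorem D51484 : act 9 n49446 = n51484 := rfl
theorem F230815 : act 0 n51484 = n50026 := d8_1 D51484 (iv D50026) (iv F221545)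
theorem F230816 : act 1 n51484 = n49468 := d16_1 D51484 (iv D49468) (iv F221546)
theorem F230817 : act 2 n51484 = n50437 := d23_1 D51484 (iv D50437) (iv F221547)
theorem F230818 : act 3 n51484 = n49447 := d29_1 D51484 (iv D49447) D49446
theorem F230819 : act 6 n51484 = n49448 := d41_1 D51484 (iv D49448) (iv F221548)
def n51485 : Q := act 8 n49448
theorem D51485 : act 8 n49448 = n51485 := rfl
theorem F230820 : act 0 n51485 = n50034 := d7_1 D51485 (iv D50034) (iv F221555)
theorem F230821 : act 1 n51485 = n49473 := d15_1 D51485 (iv D49473) (iv F221556)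
theorem F230822 : act 2 n51485 = n50449 := d22_1 D51485 (iv D50449) (iv F221557)
theorem F230823 : act 5 n51485 = n50351 := d37_1 D51485 (iv D50351) (iv F221559)
theorem F230824 : act 9 n51485 = n49458 := d44_2 D49448 D51485 (iv D49458) (iv D47266) (iv F211536)
def n51486 : Q := act 3 n49449
theorem D51486 : act 3 n49449 = n51486 := rfl
theorem F230825 : act 0 n51486 = n50438 := d2_1 D51486 F225710 (iv F221560)
theorem F230826 : act 1 n51486 = n49475 := d10_1 D51486 (iv D49475) (iv F221561)
theorem F230827 : act 5 n51486 = n49452 := d25_2 (iv F221564) D51486 (iv D49452)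
theorem F230828 : act 7 n51486 = n49450 := d27_2 (iv F221565) D51486 (iv D49450)
def n51487 : Q := act 9 n49449
theorem D51487 : act 9 n49449 = n51487 := rfl
theorem F230829 : act 0 n51487 = n50758 := d8_1 D51487 (iv D50758) (iv F221560)
theorem F230830 : act 1 n51487 = n49476 := d16_1 D51487 (iv D49476) (iv F221561)
theorem F230831 : act 2 n51487 = n51487 := d23_1 D51487 (iv D51487) F221562
theorem F230832 : act 4 n51487 = n49720 := d34_1 D51487 (iv D49720) (iv F221563)
theorem F230833 : act 5 n51487 = n49453 := d38_1 D51487 (iv D49453) (iv F221564)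
theorem F230834 : act 7 n51487 = n49451 := d43_1 D51487 (iv D49451) (iv F221565)
def n51488 : Q := act 2 n49450
theorem D51488 : act 2 n49450 = n51488 := rfl
theorem F230835 : act 0 n51488 = n50406 := d1_1 D51488 (iv F227767) F227761
theorem F230836 : act 3 n51488 = n51488 := d17_2 D49450 D51488 (iv D51488) (iv D49450) F211547
theorem F230837 : act 5 n51488 = n49454 := d19_2 (iv F221567) D51488 (iv D49454)
theorem F230838 : act 6 n51488 = n50360 := d20_2 (iv F221568) D51488 F225497
theorem F230839 : act 8 n51488 = n50425 := d22_2 F230802 D51488 (iv F230799)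
def n51489 : Q := act 4 n49450
theorem D51489 : act 4 n49450 = n51489 := rfl
theorem F230840 : act 1 n51489 = n49478 := d11_1 D51489 (iv D49478) (iv F221566)
theorem F230841 : act 3 n51489 = n49722 := d24_1 D51489 (iv D49722) (iv D47509) (iv F211548) D49450
theorem F230842 : act 6 n51489 = n50356 := d31_2 (iv F221568) D51489 F225490
def n51490 : Q := act 9 n49450
theorem D51490 : act 9 n49450 = n51490 := rfl
theorem F230843 : act 1 n51490 = n49479 := d16_1 D51490 (iv D49479) (iv F221566)
theorem F230844 : act 3 n51490 = n49451 := d29_1 D51490 (iv D49451) D49450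
theorem F230845 : act 5 n51490 = n49455 := d38_1 D51490 (iv D49455) (iv F221567)
theorem F230846 : act 6 n51490 = n50363 := d41_1 D51490 (iv D50363) (iv F221568)
def n51491 : Q := act 9 n49452
theorem D51491 : act 9 n49452 = n51491 := rfl
theorem F230847 : act 0 n51491 = n50439 := d8_1 D51491 (iv D50439) (iv F221574)
theorem F230848 : act 1 n51491 = n49482 := d16_1 D51491 (iv D49482) (iv F221575)
theorem F230849 : act 3 n51491 = n49453 := d29_1 D51491 (iv D49453) D49452
theorem F230850 : act 4 n51491 = n50437 := d34_1 D51491 (iv D50437) (iv F221576)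
theorem F230851 : act 6 n51491 = n50448 := d41_1 D51491 (iv D50448) (iv F221577)
theorem F230852 : act 7 n51491 = n49455 := d43_1 D51491 (iv D49455) (iv F221578)
def n51492 : Q := act 1 n49454
theorem D51492 : act 1 n49454 = n51492 := rfl
theorem F230853 : act 0 n51492 = n49528 := d0_1 D51492 F221900 F215679 D48231 (iv F221585)
theorem F230854 : act 2 n51492 = n49483 := d9_2 D49454 D51492 (iv D49483) (iv D47283) (iv F211557)
theorem F230855 : act 3 n51492 = n51492 := d10_2 F221586 D51492 (iv D51492)
theorem F230856 : act 4 n51492 = n49464 := d11_2 F230655 D51492 (iv F230652)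
theorem F230857 : act 6 n51492 = n49456 := d13_2 (iv F221587) D51492 (iv D49456)
theorem F230858 : act 7 n51492 = n49467 := d14_2 F230577 D51492 (iv F230573)
theorem F230859 : act 8 n51492 = n49481 := d15_2 (iv F221588) D51492 F221697
def n51493 : Q := act 9 n49454
theorem D51493 : act 9 n49454 = n51493 := rfl
theorem F230860 : act 0 n51493 = n50411 := d8_1 D51493 (iv D50411) (iv F221585)
theorem F230861 : act 2 n51493 = n49455 := d23_1 D51493 (iv D49455) D49454
theorem F230862 : act 3 n51493 = n51493 := d29_1 D51493 (iv D51493) F221586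
theorem F230863 : act 6 n51493 = n49457 := d41_1 D51493 (iv D49457) (iv F221587)
def n51494 : Q := act 8 n49455
theorem D51494 : act 8 n49455 = n51494 := rfl
theorem F230864 : act 1 n51494 = n49488 := d15_1 D51494 (iv D49488) (iv F221589)
theorem F230865 : act 6 n51494 = n49458 := d40_1 D51494 (iv D49458) (iv F221591)
def n51495 : Q := act 9 n49456
theorem D51495 : act 9 n49456 = n51495 := rfl
theorem F230866 : act 0 n51495 = n50383 := d8_1 D51495 (iv D50383) (iv F221592)
theorem F230867 : act 1 n51495 = n49457 := d16_1 D51495 (iv D49457) D49456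
theorem F230868 : act 2 n51495 = n49491 := d23_1 D51495 (iv D49491) (iv F221593)
theorem F230869 : act 3 n51495 = n51495 := d29_1 D51495 (iv D51495) F221594
theorem F230870 : act 5 n51495 = n50366 := d38_1 D51495 (iv D50366) (iv F221595)
def n51496 : Q := act 8 n49457
theorem D51496 : act 8 n49457 = n51496 := rfl
theorem F230871 : act 0 n51496 = n50414 := d7_1 D51496 (iv D50414) (iv F221597)
theorem F230872 : act 2 n51496 = n49458 := d22_1 D51496 (iv D49458) (iv F221598)
theorem F230873 : act 5 n51496 = n50368 := d37_1 D51496 (iv D50368) (iv F221600)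
theorem F230874 : act 9 n51496 = n50449 := d44_2 D49457 D51496 (iv D50449) (iv D48265) (iv F211566)
def n51497 : Q := act 8 n49459
theorem D51497 : act 8 n49459 = n51497 := rfl
theorem F230875 : act 0 n51497 = n49518 := d7_1 D51497 (iv D49518) (iv F221603)
theorem F230876 : act 1 n51497 = n49633 := d15_1 D51497 (iv D49633) (iv F221604)
theorem F230877 : act 2 n51497 = n51497 := d22_1 D51497 (iv D51497) F221605
theorem F230878 : act 4 n51497 = n49461 := d33_1 D51497 (iv D49461) (iv F221607)
theorem F230879 : act 5 n51497 = n51497 := d37_1 D51497 (iv D51497) F221608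
theorem F230880 : act 6 n51497 = n49624 := d40_1 D51497 (iv D49624) (iv F221609)
theorem F230881 : act 7 n51497 = n49460 := d42_1 D51497 (iv D49460) D49459
def n51498 : Q := act 3 n49460
theorem D51498 : act 3 n49460 = n51498 := rfl
theorem F230882 : act 0 n51498 = n49519 := d2_1 D51498 (iv D49519) (iv F221611)
theorem F230883 : act 1 n51498 = n50492 := d10_1 D51498 (iv D50492) (iv F221612)
theorem F230884 : act 5 n51498 = n51498 := d25_2 F221615 D51498 (iv D51498)
theorem F230885 : act 6 n51498 = n50132 := d26_2 (iv F221616) D51498 F224620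
theorem F230886 : act 8 n51498 = n49730 := d28_2 D49460 D51498 (iv D49730) (iv D47518) (iv F211580)
def n51499 : Q := act 9 n49460
theorem D51499 : act 9 n49460 = n51499 := rfl
theorem F230887 : act 0 n51499 = n49520 := d8_1 D51499 (iv D49520) (iv F221611)
theorem F230888 : act 1 n51499 = n50493 := d16_1 D51499 (iv D50493) (iv F221612)
theorem F230889 : act 2 n51499 = n51499 := d23_1 D51499 (iv D51499) F221613
theorem F230890 : act 4 n51499 = n49463 := d34_1 D51499 (iv D49463) (iv F221614)
theorem F230891 : act 5 n51499 = n51499 := d38_1 D51499 (iv D51499) F221615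
theorem F230892 : act 6 n51499 = n50144 := d41_1 D51499 (iv D50144) (iv F221616)
theorem F230893 : act 8 n51499 = n50545 := d44_1 D51499 (iv D50545) F216199 (iv F211583) D49460
def n51500 : Q := act 3 n49461
theorem D51500 : act 3 n49461 = n51500 := rfl
theorem F230894 : act 0 n51500 = n49522 := d2_1 D51500 (iv D49522) (iv F221617)
theorem F230895 : act 5 n51500 = n49464 := d25_2 (iv F221619) D51500 (iv D49464)
theorem F230896 : act 7 n51500 = n49462 := d27_2 (iv F221620) D51500 (iv D49462)
theorem F230897 : act 8 n51500 = n49475 := d28_2 D49461 D51500 (iv D49475) (iv D47278) (iv F211586)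
def n51501 : Q := act 9 n49461
theorem D51501 : act 9 n49461 = n51501 := rfl
theorem F230898 : act 0 n51501 = n49523 := d8_1 D51501 (iv D49523) (iv F221617)
theorem F230899 : act 2 n51501 = n51501 := d23_1 D51501 (iv D51501) F221618
theorem F230900 : act 5 n51501 = n49465 := d38_1 D51501 (iv D49465) (iv F221619)
theorem F230901 : act 7 n51501 = n49463 := d43_1 D51501 (iv D49463) (iv F221620)
def n51502 : Q := act 2 n49462
theorem D51502 : act 2 n49462 = n51502 := rfl
theorem F230902 : act 0 n51502 = n49524 := d1_1 D51502 (iv D49524) (iv F221621)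
theorem F230903 : act 3 n51502 = n51502 := d17_2 D49462 D51502 (iv D51502) (iv D49462) F211589
theorem F230904 : act 5 n51502 = n49466 := d19_2 (iv F221622) D51502 (iv D49466)
theorem F230905 : act 6 n51502 = n50378 := d20_2 (iv F221623) D51502 (iv D50378)
theorem F230906 : act 8 n51502 = n49477 := d22_2 (iv F221624) D51502 (iv D49477)
def n51503 : Q := act 4 n49462
theorem D51503 : act 4 n49462 = n51503 := rfl
theorem F230907 : act 0 n51503 = n49525 := d3_1 D51503 (iv D49525) (iv F221621)
theorem F230908 : act 6 n51503 = n50379 := d31_2 (iv F221623) D51503 (iv D50379)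
theorem F230909 : act 8 n51503 = n49478 := d33_2 (iv F221624) D51503 (iv D49478)
def n51504 : Q := act 9 n49462
theorem D51504 : act 9 n49462 = n51504 := rfl
theorem F230910 : act 0 n51504 = n49526 := d8_1 D51504 (iv D49526) (iv F221621)
theorem F230911 : act 3 n51504 = n49463 := d29_1 D51504 (iv D49463) D49462
theorem F230912 : act 5 n51504 = n49468 := d38_1 D51504 (iv D49468) (iv F221622)
theorem F230913 : act 6 n51504 = n50380 := d41_1 D51504 (iv D50380) (iv F221623)
def n51505 : Q := act 2 n49464
theorem D51505 : act 2 n49464 = n51505 := rfl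
theorem F230914 : act 0 n51505 = n49527 := d1_1 D51505 (iv D49527) (iv F221629)
theorem F230915 : act 1 n51505 = n49484 := d9_1 D51505 F221707 (iv F221341) (iv F230653) F230652
theorem F230916 : act 3 n51505 = n51505 := d17_2 D49464 D51505 (iv D51505) (iv D49464) F211593
theorem F230917 : act 4 n51505 = n49483 := d18_2 F230856 D51505 (iv F230854)
theorem F230918 : act 6 n51505 = n49490 := d20_2 F229921 D51505 (iv F229924)
theorem F230919 : act 7 n51505 = n49466 := d21_2 (iv F221630) D51505 (iv D49466)
theorem F230920 : act 8 n51505 = n49480 := d22_2 (iv F221631) D51505 (iv D49480)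
def n51506 : Q := act 9 n49464
theorem D51506 : act 9 n49464 = n51506 := rfl
theorem F230921 : act 0 n51506 = n49529 := d8_1 D51506 (iv D49529) (iv F221629)
theorem F230922 : act 3 n51506 = n49465 := d29_1 D51506 (iv D49465) D49464
theorem F230923 : act 7 n51506 = n49468 := d43_1 D51506 (iv D49468) (iv F221630)
def n51507 : Q := act 1 n49466
theorem D51507 : act 1 n49466 = n51507 := rfl
theorem F230924 : act 0 n51507 = n49553 := d0_1 D51507 F221983 F221912 (iv D49530) (iv F221636)
theorem F230925 : act 2 n51507 = n49481 := d9_2 D49466 D51507 F221697 (iv F221547) F221546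
theorem F230926 : act 3 n51507 = n51507 := d10_2 F221637 D51507 (iv D51507)
theorem F230927 : act 6 n51507 = n49469 := d13_2 (iv F221638) D51507 (iv D49469)
theorem F230928 : act 7 n51507 = n49484 := d14_2 F230919 D51507 (iv F230915)
theorem F230929 : act 8 n51507 = n49483 := d15_2 (iv F221639) D51507 (iv D49483)
theorem F230930 : act 4 n49480 = n51507 := d33_3 F230929 (iv F230917) F230920
def n51508 : Q := act 4 n49466
theorem D51508 : act 4 n49466 = n51508 := rfl
theorem F230931 : act 0 n51508 = n49531 := d3_1 D51508 (iv D49531) (iv F221636)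
theorem F230932 : act 1 n51508 = n49480 := d11_1 D51508 F230930 (iv D51507)
theorem F230933 : act 2 n51508 = n49467 := d18_1 D51508 (iv D49467) D49466
theorem F230934 : act 6 n51508 = n49470 := d31_2 (iv F221638) D51508 (iv D49470)
theorem F230935 : act 7 n51508 = n49483 := d32_2 F230919 D51508 (iv F230917)
theorem F230936 : act 8 n51508 = n49484 := d33_2 (iv F221639) D51508 (iv D49484)
theorem F230937 : act 3 n49509 = n51508 := d27_3 F230935 F221704 (iv F221818)
def n51509 : Q := act 9 n49466
theorem D51509 : act 9 n49466 = n51509 := rfl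
theorem F230938 : act 0 n51509 = n49532 := d8_1 D51509 (iv D49532) (iv F221636)
theorem F230939 : act 2 n51509 = n49468 := d23_1 D51509 (iv D49468) D49466
theorem F230940 : act 3 n51509 = n51509 := d29_1 D51509 (iv D51509) F221637
theorem F230941 : act 6 n51509 = n49471 := d41_1 D51509 (iv D49471) (iv F221638)
def n51510 : Q := act 5 n49467
theorem D51510 : act 5 n49467 = n51510 := rfl
theorem F230942 : act 0 n51510 = n49533 := d4_1 D51510 (iv D49533) (iv F221640)
theorem F230943 : act 3 n51510 = n51510 := d25_1 D51510 (iv D51510) F221641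
theorem F230944 : act 8 n51510 = n49486 := d37_2 (iv F221643) D51510 (iv D49486)
def n51511 : Q := act 9 n49467
theorem D51511 : act 9 n49467 = n51511 := rfl
theorem F230945 : act 0 n51511 = n49534 := d8_1 D51511 (iv D49534) (iv F221640)
theorem F230946 : act 3 n51511 = n51511 := d29_1 D51511 (iv D51511) F221641
theorem F230947 : act 4 n51511 = n49468 := d34_1 D51511 (iv D49468) D49467
theorem F230948 : act 6 n51511 = n49472 := d41_1 D51511 (iv D49472) (iv F221642)
def n51512 : Q := act 8 n49468
theorem D51512 : act 8 n49468 = n51512 := rfl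
theorem F230949 : act 0 n51512 = n49535 := d7_1 D51512 (iv D49535) (iv F221644)
theorem F230950 : act 6 n51512 = n49473 := d40_1 D51512 (iv D49473) (iv F221646)
theorem F230951 : act 9 n51512 = n49488 := d44_2 D49468 D51512 (iv D49488) (iv D47285) (iv F211598)
def n51513 : Q := act 9 n49469
theorem D51513 : act 9 n49469 = n51513 := rfl
theorem F230952 : act 0 n51513 = n50366 := d8_1 D51513 (iv D50366) (iv F221647)
theorem F230953 : act 1 n51513 = n49471 := d16_1 D51513 (iv D49471) D49469
theorem F230954 : act 2 n51513 = n50395 := d23_1 D51513 (iv D50395) (iv F221648)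
theorem F230955 : act 3 n51513 = n51513 := d29_1 D51513 (iv D51513) F221649
theorem F230956 : act 4 n51513 = n50365 := d34_1 D51513 (iv D50365) (iv F221652)
theorem F230957 : act 5 n51513 = n50383 := d38_1 D51513 (iv D50383) (iv F221650)
def n51514 : Q := act 9 n49470
theorem D51514 : act 9 n49470 = n51514 := rfl
theorem F230958 : act 0 n51514 = n49537 := d8_1 D51514 (iv D49537) (iv F221653)
theorem F230959 : act 1 n51514 = n50365 := d16_1 D51514 (iv D50365) (iv F221654)
theorem F230960 : act 2 n51514 = n49472 := d23_1 D51514 (iv D49472) (iv F221655)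
theorem F230961 : act 3 n51514 = n50341 := d29_1 D51514 (iv D50341) (iv F221657)
theorem F230962 : act 4 n51514 = n49471 := d34_1 D51514 (iv D49471) D49470
theorem F230963 : act 5 n51514 = n50763 := d38_1 D51514 (iv F227557) F227553
def n51515 : Q := act 8 n49471
theorem D51515 : act 8 n49471 = n51515 := rfl
theorem F230964 : act 0 n51515 = n49538 := d7_1 D51515 (iv D49538) (iv F221658)
theorem F230965 : act 2 n51515 = n49473 := d22_1 D51515 (iv D49473) (iv F221659)
theorem F230966 : act 5 n51515 = n50384 := d37_1 D51515 (iv D50384) (iv F221661)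
theorem F230967 : act 9 n51515 = n49493 := d44_2 D49471 D51515 (iv D49493) (iv D47288) (iv F211606)
def n51516 : Q := act 8 n49472
theorem D51516 : act 8 n49472 = n51516 := rfl
theorem F230968 : act 0 n51516 = n49541 := d7_1 D51516 (iv D49541) (iv F221662)
theorem F230969 : act 4 n51516 = n49473 := d33_1 D51516 (iv D49473) (iv F221664)
theorem F230970 : act 9 n51516 = n49494 := d44_2 D49472 D51516 (iv D49494) (iv D47289) (iv F211609)
def n51517 : Q := act 3 n49474
theorem D51517 : act 3 n49474 = n51517 := rfl
theorem F230971 : act 0 n51517 = n49542 := d2_1 D51517 (iv D49542) (iv F221668)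
theorem F230972 : act 6 n51517 = n49475 := d26_2 (iv F221671) D51517 (iv D49475)
theorem F230973 : act 7 n51517 = n50385 := d27_2 (iv F221672) D51517 (iv D50385)
def n51518 : Q := act 9 n49474
theorem D51518 : act 9 n49474 = n51518 := rfl
theorem F230974 : act 0 n51518 = n49543 := d8_1 D51518 (iv D49543) (iv F221668)
theorem F230975 : act 2 n51518 = n49501 := d23_1 D51518 (iv D49501) (iv F221669)
theorem F230976 : act 4 n51518 = n49744 := d34_1 D51518 (iv D49744) (iv F221670)
theorem F230977 : act 6 n51518 = n49476 := d41_1 D51518 (iv D49476) (iv F221671)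
theorem F230978 : act 7 n51518 = n50386 := d43_1 D51518 (iv D50386) (iv F221672)
def n51519 : Q := act 2 n49475
theorem D51519 : act 2 n49475 = n51519 := rfl
theorem F230979 : act 0 n51519 = n49544 := d1_1 D51519 (iv D49544) (iv F221673)
theorem F230980 : act 3 n51519 = n49502 := d17_2 D49475 D51519 (iv D49502) (iv D47298) (iv F211618)
theorem F230981 : act 5 n51519 = n49480 := d19_2 (iv F221674) D51519 (iv D49480)
theorem F230982 : act 7 n51519 = n49477 := d21_2 (iv F221675) D51519 (iv D49477)
def n51520 : Q := act 4 n49475
theorem D51520 : act 4 n49475 = n51520 := rfl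
theorem F230983 : act 0 n51520 = n49545 := d3_1 D51520 (iv D49545) (iv F221673)
theorem F230984 : act 3 n51520 = n49746 := d24_1 D51520 (iv D49746) (iv D47530) (iv F211619) D49475
theorem F230985 : act 7 n51520 = n49478 := d32_2 (iv F221675) D51520 (iv D49478)
def n51521 : Q := act 9 n49475
theorem D51521 : act 9 n49475 = n51521 := rfl
theorem F230986 : act 0 n51521 = n49546 := d8_1 D51521 (iv D49546) (iv F221673)
theorem F230987 : act 3 n51521 = n49476 := d29_1 D51521 (iv D49476) D49475
theorem F230988 : act 5 n51521 = n49482 := d38_1 D51521 (iv D49482) (iv F221674)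
theorem F230989 : act 7 n51521 = n49479 := d43_1 D51521 (iv D49479) (iv F221675)
def n51522 : Q := act 1 n49477
theorem D51522 : act 1 n49477 = n51522 := rfl
theorem F230990 : act 3 n51522 = n49505 := d10_2 (iv F221682) D51522 (iv D49505)
theorem F230991 : act 5 n51522 = n49483 := d12_2 (iv F221683) D51522 (iv D49483)
theorem F230992 : act 6 n51522 = n49555 := d13_2 (iv F221684) D51522 F221993
def n51523 : Q := act 4 n49477
theorem D51523 : act 4 n49477 = n51523 := rfl
theorem F230993 : act 0 n51523 = n49548 := d3_1 D51523 (iv D49548) (iv F221681)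
theorem F230994 : act 2 n51523 = n49478 := d18_1 D51523 (iv D49478) D49477
theorem F230995 : act 6 n51523 = n50389 := d31_2 (iv F221684) D51523 (iv D50389)
def n51524 : Q := act 9 n49477
theorem D51524 : act 9 n49477 = n51524 := rfl
theorem F230996 : act 0 n51524 = n49549 := d8_1 D51524 (iv D49549) (iv F221681)
theorem F230997 : act 2 n51524 = n49479 := d23_1 D51524 (iv D49479) D49477
theorem F230998 : act 3 n51524 = n49506 := d29_1 D51524 (iv D49506) (iv F221682)
theorem F230999 : act 5 n51524 = n49485 := d38_1 D51524 (iv D49485) (iv F221683)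
theorem F231000 : act 6 n51524 = n50390 := d41_1 D51524 (iv D50390) (iv F221684)
def n51525 : Q := act 5 n49478
theorem D51525 : act 5 n49478 = n51525 := rfl
theorem F231001 : act 0 n51525 = n49550 := d4_1 D51525 (iv D49550) (iv F221685)
theorem F231002 : act 3 n51525 = n49751 := d25_1 D51525 (iv D49751) (iv F221686)
theorem F231003 : act 4 n51525 = n49486 := d30_1 D51525 (iv D49486) (iv D47284) (iv F211623) D49478
def n51526 : Q := act 9 n49478
theorem D51526 : act 9 n49478 = n51526 := rfl
theorem F231004 : act 0 n51526 = n49551 := d8_1 D51526 (iv D49551) (iv F221685)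
theorem F231005 : act 3 n51526 = n49752 := d29_1 D51526 (iv D49752) (iv F221686)
theorem F231006 : act 4 n51526 = n49479 := d34_1 D51526 (iv D49479) D49478
theorem F231007 : act 6 n51526 = n50391 := d41_1 D51526 (iv D50391) (iv F221687)
def n51527 : Q := act 8 n49479
theorem D51527 : act 8 n49479 = n51527 := rfl
theorem F231008 : act 0 n51527 = n49552 := d7_1 D51527 (iv D49552) (iv F221688)
theorem F231009 : act 5 n51527 = n49488 := d37_1 D51527 (iv D49488) (iv F221690)
theorem F231010 : act 6 n51527 = n50392 := d40_1 D51527 (iv D50392) (iv F221691)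
def n51528 : Q := act 9 n49480
theorem D51528 : act 9 n49480 = n51528 := rfl
theorem F231011 : act 0 n51528 = n49554 := d8_1 D51528 (iv D49554) (iv F221692)
theorem F231012 : act 2 n51528 = n49482 := d23_1 D51528 (iv D49482) D49480
theorem F231013 : act 3 n51528 = n49510 := d29_1 D51528 (iv D49510) (iv F221693)
theorem F231014 : act 6 n51528 = n50365 := d41_1 D51528 (iv D50365) (iv F221694)
theorem F231015 : act 7 n51528 = n49485 := d43_1 D51528 (iv D49485) (iv F221695)
def n51529 : Q := act 5 n49481
theorem D51529 : act 5 n49481 = n51529 := rfl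
theorem F231016 : act 0 n51529 = n49555 := d4_1 D51529 (iv D49555) (iv F221696)
theorem F231017 : act 1 n51529 = n50425 := d12_1 D51529 F225682 (iv F221697)
theorem F231018 : act 3 n51529 = n49495 := d25_1 D51529 (iv D49495) (iv F221698)
theorem F231019 : act 7 n51529 = n49486 := d36_2 (iv F221700) D51529 (iv D49486)
def n51530 : Q := act 9 n49481
theorem D51530 : act 9 n49481 = n51530 := rfl
theorem F231020 : act 0 n51530 = n49556 := d8_1 D51530 (iv D49556) (iv F221696)
theorem F231021 : act 1 n51530 = n50437 := d16_1 D51530 (iv D50437) (iv F221697)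
theorem F231022 : act 3 n51530 = n49496 := d29_1 D51530 (iv D49496) (iv F221698)
theorem F231023 : act 4 n51530 = n49482 := d34_1 D51530 (iv D49482) D49481
theorem F231024 : act 6 n51530 = n50395 := d41_1 D51530 (iv D50395) (iv F221699)
theorem F231025 : act 7 n51530 = n49487 := d43_1 D51530 (iv D49487) (iv F221700)
def n51531 : Q := act 8 n49482
theorem D51531 : act 8 n49482 = n51531 := rfl
theorem F231026 : act 0 n51531 = n49557 := d7_1 D51531 (iv D49557) (iv F221701)
theorem F231027 : act 7 n51531 = n49488 := d42_1 D51531 (iv D49488) (iv F221703)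
def n51532 : Q := act 0 n49483
theorem D51532 : act 0 n49483 = n51532 := rfl
theorem F231028 : act 1 n51532 = n49558 := d0_2 D49483 D51532 (iv D49558) (iv D47337) (iv F211636)
theorem F231029 : act 2 n51532 = n49528 := d1_2 F230854 D51532 (iv F230853)
theorem F231030 : act 3 n51532 = n49512 := d2_2 (iv F221704) D51532 (iv D49512)
theorem F231031 : act 4 n51532 = n49527 := d3_2 F230917 D51532 (iv F230914)
theorem F231032 : act 6 n51532 = n49489 := d5_2 (iv F221705) D51532 (iv D49489)
theorem F231033 : act 7 n51532 = n49531 := d6_2 F230935 D51532 (iv F230931)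
theorem F231034 : act 8 n51532 = n49553 := d7_2 F230929 D51532 (iv F230924)
def n51533 : Q := act 9 n49483
theorem D51533 : act 9 n49483 = n51533 := rfl
theorem F231035 : act 1 n51533 = n49485 := d16_1 D51533 (iv D49485) D49483
theorem F231036 : act 3 n51533 = n49513 := d29_1 D51533 (iv D49513) (iv F221704)
theorem F231037 : act 6 n51533 = n49491 := d41_1 D51533 (iv D49491) (iv F221705)
def n51534 : Q := act 5 n49484
theorem D51534 : act 5 n49484 = n51534 := rfl
theorem F231038 : act 0 n51534 = n49561 := d4_1 D51534 (iv D49561) (iv F221706)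
theorem F231039 : act 2 n51534 = n49486 := d19_1 D51534 (iv D49486) (iv F221707)
theorem F231040 : act 3 n51534 = n51534 := d25_1 D51534 (iv D51534) F221708
def n51535 : Q := act 9 n49484
theorem D51535 : act 9 n49484 = n51535 := rfl
theorem F231041 : act 0 n51535 = n49562 := d8_1 D51535 (iv D49562) (iv F221706)
theorem F231042 : act 2 n51535 = n49487 := d23_1 D51535 (iv D49487) (iv F221707)
theorem F231043 : act 3 n51535 = n51535 := d29_1 D51535 (iv D51535) F221708
theorem F231044 : act 4 n51535 = n49485 := d34_1 D51535 (iv D49485) D49484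
theorem F231045 : act 6 n51535 = n49492 := d41_1 D51535 (iv D49492) (iv F221709)
def n51536 : Q := act 8 n49485
theorem D51536 : act 8 n49485 = n51536 := rfl
theorem F231046 : act 0 n51536 = n49563 := d7_1 D51536 (iv D49563) (iv F221710)
theorem F231047 : act 2 n51536 = n49488 := d22_1 D51536 (iv D49488) (iv F221711)
theorem F231048 : act 6 n51536 = n49493 := d40_1 D51536 (iv D49493) (iv F221713)
def n51537 : Q := act 9 n49486
theorem D51537 : act 9 n49486 = n51537 := rfl
theorem F231049 : act 0 n51537 = n49565 := d8_1 D51537 (iv D49565) (iv F221714)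
theorem F231050 : act 3 n51537 = n49498 := d29_1 D51537 (iv D49498) (iv F221715)
theorem F231051 : act 5 n51537 = n49487 := d38_1 D51537 (iv D49487) D49486
def n51538 : Q := act 8 n49487
theorem D51538 : act 8 n49487 = n51538 := rfl
theorem F231052 : act 0 n51538 = n49566 := d7_1 D51538 (iv D49566) (iv F221716)
theorem F231053 : act 4 n51538 = n49488 := d33_1 D51538 (iv D49488) (iv F221718)
theorem F231054 : act 6 n51538 = n49494 := d40_1 D51538 (iv D49494) (iv F221719)
def n51539 : Q := act 9 n49489
theorem D51539 : act 9 n49489 = n51539 := rfl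
theorem F231055 : act 0 n51539 = n49491 := d8_1 D51539 (iv D49491) D49489
theorem F231056 : act 1 n51539 = n49567 := d16_1 D51539 (iv D49567) (iv F221722)
theorem F231057 : act 2 n51539 = n50383 := d23_1 D51539 (iv D50383) (iv F221723)
theorem F231058 : act 3 n51539 = n49515 := d29_1 D51539 (iv D49515) (iv F221724)
theorem F231059 : act 4 n51539 = n50349 := d34_1 D51539 (iv D50349) F221727
theorem F231060 : act 5 n51539 = n50395 := d38_1 D51539 (iv D50395) (iv F221725)
def n51540 : Q := act 9 n49490
theorem D51540 : act 9 n49490 = n51540 := rfl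
theorem F231061 : act 0 n51540 = n50349 := d8_1 D51540 (iv D50349) (iv F221728)
theorem F231062 : act 1 n51540 = n49492 := d16_1 D51540 (iv D49492) (iv F221729)
theorem F231063 : act 3 n51540 = n51540 := d29_1 D51540 (iv D51540) F221730
theorem F231064 : act 4 n51540 = n49491 := d34_1 D51540 (iv D49491) D49490
def n51541 : Q := act 8 n49491
theorem D51541 : act 8 n49491 = n51541 := rfl
theorem F231065 : act 1 n51541 = n49493 := d15_1 D51541 (iv D49493) (iv F221732)
theorem F231066 : act 5 n51541 = n50396 := d37_1 D51541 (iv D50396) (iv F221734)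
def n51542 : Q := act 8 n49492
theorem D51542 : act 8 n49492 = n51542 := rfl
theorem F231067 : act 0 n51542 = n49572 := d7_1 D51542 (iv D49572) (iv F221735)
theorem F231068 : act 2 n51542 = n49494 := d22_1 D51542 (iv D49494) (iv F221736)
theorem F231069 : act 4 n51542 = n49493 := d33_1 D51542 (iv D49493) (iv F221738)
def n51543 : Q := act 3 n49493
theorem D51543 : act 3 n49493 = n51543 := rfl
theorem F231070 : act 0 n51543 = n49573 := d2_1 D51543 (iv D49573) (iv F221739)
theorem F231071 : act 5 n51543 = n50397 := d25_2 (iv F221741) D51543 (iv D50397)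
theorem F231072 : act 8 n51543 = n49517 := d28_2 D49493 D51543 (iv D49517) (iv D47310) (iv F211652)
def n51544 : Q := act 3 n49494
theorem D51544 : act 3 n49494 = n51544 := rfl
theorem F231073 : act 0 n51544 = n49577 := d2_1 D51544 (iv D49577) (iv F221742)
theorem F231074 : act 8 n51544 = n49500 := d28_2 D49494 D51544 (iv D49500) (iv D47296) (iv F211655)
def n51545 : Q := act 6 n49495
theorem D51545 : act 6 n49495 = n51545 := rfl
theorem F231075 : act 0 n51545 = n49505 := d5_1 D51545 F221797 (iv F221744)
theorem F231076 : act 1 n51545 = n49592 := d13_1 D51545 F222124 (iv F221745)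
theorem F231077 : act 2 n51545 = n51545 := d20_1 D51545 (iv D51545) F221746
theorem F231078 : act 4 n51545 = n49768 := d31_1 D51545 (iv D49768) (iv F221747)
theorem F231079 : act 5 n51545 = n49512 := d35_1 D51545 F221834 F211746 (iv F211662) D49495
theorem F231080 : act 7 n51545 = n50336 := d39_2 (iv F221748) D51545 (iv F227681) F227682 F218283
theorem F231081 : act 8 n51545 = n51545 := d40_2 F221749 D51545 (iv D51545)
def n51546 : Q := act 9 n49495
theorem D51546 : act 9 n49495 = n51546 := rfl
theorem F231082 : act 0 n51546 = n49578 := d8_1 D51546 (iv D49578) (iv F221744)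
theorem F231083 : act 1 n51546 = n50464 := d16_1 D51546 (iv D50464) (iv F221745)
theorem F231084 : act 2 n51546 = n51546 := d23_1 D51546 (iv D51546) F221746
theorem F231085 : act 4 n51546 = n49769 := d34_1 D51546 (iv D49769) (iv F221747)
theorem F231086 : act 5 n51546 = n49496 := d38_1 D51546 (iv D49496) D49495
theorem F231087 : act 7 n51546 = n49498 := d43_1 D51546 (iv D49498) (iv F221748)
def n51547 : Q := act 8 n49496
theorem D51547 : act 8 n49496 = n51547 := rfl
theorem F231088 : act 0 n51547 = n49579 := d7_1 D51547 (iv D49579) (iv F221750)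
theorem F231089 : act 1 n51547 = n50474 := d15_1 D51547 (iv D50474) (iv F221751)
theorem F231090 : act 2 n51547 = n51547 := d22_1 D51547 (iv D51547) F221752
theorem F231091 : act 4 n51547 = n49497 := d33_1 D51547 (iv D49497) (iv F221753)
theorem F231092 : act 6 n51547 = n50403 := d40_1 D51547 (iv D50403) (iv F221754)
theorem F231093 : act 7 n51547 = n49499 := d42_1 D51547 (iv D49499) (iv F221755)
theorem F231094 : act 9 n51547 = n51547 := d44_2 D49496 D51547 (iv D51547) (iv D49496) F211664
def n51548 : Q := act 8 n49498
theorem D51548 : act 8 n49498 = n51548 := rfl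
theorem F231095 : act 0 n51548 = n49582 := d7_1 D51548 (iv D49582) (iv F221763)
theorem F231096 : act 2 n51548 = n51548 := d22_1 D51548 (iv D51548) F221764
theorem F231097 : act 4 n51548 = n49771 := d33_1 D51548 (iv D49771) (iv F221765)
theorem F231098 : act 5 n51548 = n49499 := d37_1 D51548 (iv D49499) (iv F221766)
theorem F231099 : act 9 n51548 = n51548 := d44_2 D49498 D51548 (iv D51548) (iv D49498) F211675
def n51549 : Q := act 3 n49499
theorem D51549 : act 3 n49499 = n51549 := rfl
theorem F231100 : act 0 n51549 = n49583 := d2_1 D51549 (iv D49583) (iv F221767)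
theorem F231101 : act 6 n51549 = n49500 := d26_2 (iv F221770) D51549 (iv D49500)
theorem F231102 : act 9 n51549 = n51549 := d29_2 F221771 D51549 (iv D51549)
def n51550 : Q := act 2 n49500
theorem D51550 : act 2 n49500 = n51550 := rfl
theorem F231103 : act 0 n51550 = n49587 := d1_1 D51550 (iv D49587) (iv F221772)
theorem F231104 : act 1 n51550 = n50377 := d9_1 D51550 F225545 (iv F225823) (iv F230699) F230698
theorem F231105 : act 3 n51550 = n51550 := d17_2 D49500 D51550 (iv D51550) (iv D49500) F211686
theorem F231106 : act 4 n51550 = n50376 := d18_2 F230472 D51550 (iv F230471)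
theorem F231107 : act 9 n51550 = n51550 := d23_2 F221773 D51550 (iv D51550)
def n51551 : Q := act 1 n49502
theorem D51551 : act 1 n49502 = n51551 := rfl
theorem F231108 : act 0 n51551 = n50336 := d0_1 D51551 (iv D50336) F215538 (iv F211940) (iv F221779)
theorem F231109 : act 2 n51551 = n51551 := d9_2 D49502 D51551 (iv D51551) (iv D49502) F211695
theorem F231110 : act 4 n51551 = n49878 := d11_2 F229366 D51551 (iv F229364)
theorem F231111 : act 5 n51551 = n49509 := d12_2 (iv F221780) D51551 (iv D49509)
theorem F231112 : act 6 n51551 = n49580 := d13_2 F228070 D51551 (iv F228066)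
theorem F231113 : act 7 n51551 = n49505 := d14_2 (iv F221781) D51551 (iv D49505)
theorem F231114 : act 8 n51551 = n51551 := d15_2 F221782 D51551 (iv D51551)
def n51552 : Q := act 9 n49502
theorem D51552 : act 9 n49502 = n51552 := rfl
theorem F231115 : act 0 n51552 = n49589 := d8_1 D51552 (iv D49589) (iv F221779)
theorem F231116 : act 2 n51552 = n49504 := d23_1 D51552 (iv D49504) D49502
theorem F231117 : act 5 n51552 = n49510 := d38_1 D51552 (iv D49510) (iv F221780)
theorem F231118 : act 7 n51552 = n49506 := d43_1 D51552 (iv D49506) (iv F221781)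
def n51553 : Q := act 9 n49503
theorem D51553 : act 9 n49503 = n51553 := rfl
theorem F231119 : act 0 n51553 = n49590 := d8_1 D51553 (iv D49590) (iv F221783)
theorem F231120 : act 1 n51553 = n51553 := d16_1 D51553 (iv D51553) F221784
theorem F231121 : act 3 n51553 = n49779 := d29_1 D51553 (iv D49779) (iv F221785)
theorem F231122 : act 4 n51553 = n49504 := d34_1 D51553 (iv D49504) D49503
theorem F231123 : act 5 n51553 = n51553 := d38_1 D51553 (iv D51553) F221786
theorem F231124 : act 7 n51553 = n49507 := d43_1 D51553 (iv D49507) (iv F221787)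
def n51554 : Q := act 8 n49504
theorem D51554 : act 8 n49504 = n51554 := rfl
theorem F231125 : act 0 n51554 = n49591 := d7_1 D51554 (iv D49591) (iv F221789)
theorem F231126 : act 1 n51554 = n51554 := d15_1 D51554 (iv D51554) F221790
theorem F231127 : act 5 n51554 = n49511 := d37_1 D51554 (iv D49511) (iv F221792)
theorem F231128 : act 7 n51554 = n49508 := d42_1 D51554 (iv D49508) (iv F221793)
theorem F231129 : act 9 n51554 = n51554 := d44_2 D49504 D51554 (iv D51554) (iv D49504) F211698
def n51555 : Q := act 9 n49505
theorem D51555 : act 9 n49505 = n51555 := rfl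
theorem F231130 : act 1 n51555 = n49506 := d16_1 D51555 (iv D49506) D49505
theorem F231131 : act 2 n51555 = n51555 := d23_1 D51555 (iv D51555) F221794
theorem F231132 : act 4 n51555 = n49879 := d34_1 D51555 (iv D49879) (iv F221795)
theorem F231133 : act 5 n51555 = n49513 := d38_1 D51555 (iv D49513) (iv F221796)
theorem F231134 : act 6 n51555 = n49578 := d41_1 D51555 (iv D49578) (iv F221797)
def n51556 : Q := act 8 n49506
theorem D51556 : act 8 n49506 = n51556 := rfl
theorem F231135 : act 0 n51556 = n49597 := d7_1 D51556 (iv D49597) (iv F221799)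
theorem F231136 : act 2 n51556 = n49508 := d22_1 D51556 (iv D49508) (iv F221800)
theorem F231137 : act 5 n51556 = n49514 := d37_1 D51556 (iv D49514) (iv F221801)
theorem F231138 : act 6 n51556 = n50400 := d40_1 D51556 (iv D50400) (iv F221802)
theorem F231139 : act 9 n51556 = n51556 := d44_2 D49506 D51556 (iv D51556) (iv D49506) F211707
def n51557 : Q := act 8 n49507
theorem D51557 : act 8 n49507 = n51557 := rfl
theorem F231140 : act 0 n51557 = n49598 := d7_1 D51557 (iv D49598) (iv F221803)
theorem F231141 : act 1 n51557 = n51557 := d15_1 D51557 (iv D51557) F221804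
theorem F231142 : act 3 n51557 = n50731 := d28_1 D51557 (iv D50731) F216822 (iv F212915) (iv F221805)
theorem F231143 : act 4 n51557 = n49508 := d33_1 D51557 (iv D49508) (iv F221806)
theorem F231144 : act 5 n51557 = n51557 := d37_1 D51557 (iv D51557) F221807
theorem F231145 : act 6 n51557 = n50401 := d40_1 D51557 (iv D50401) (iv F221808)
theorem F231146 : act 9 n51557 = n51557 := d44_2 D49507 D51557 (iv D51557) (iv D49507) F211713
def n51558 : Q := act 9 n49509
theorem D51558 : act 9 n49509 = n51558 := rfl
theorem F231147 : act 0 n51558 = n50339 := d8_1 D51558 (iv D50339) (iv F221814)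
theorem F231148 : act 1 n51558 = n49510 := d16_1 D51558 (iv D49510) D49509
theorem F231149 : act 2 n51558 = n51558 := d23_1 D51558 (iv D51558) F221815
theorem F231150 : act 4 n51558 = n51558 := d34_1 D51558 (iv D51558) F221816
theorem F231151 : act 6 n51558 = n50341 := d41_1 D51558 (iv D50341) (iv F221817)
theorem F231152 : act 7 n51558 = n49513 := d43_1 D51558 (iv D49513) (iv F221818)
theorem F231153 : act 8 n50773 = n51558 := d40_0 F231151 (iv F225450) D50773
def n51559 : Q := act 8 n49510
theorem D51559 : act 8 n49510 = n51559 := rfl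
theorem F231154 : act 0 n51559 = n49599 := d7_1 D51559 (iv D49599) (iv F221820)
theorem F231155 : act 1 n51559 = n50773 := d15_1 D51559 F231153 F231148
theorem F231156 : act 2 n51559 = n49511 := d22_1 D51559 (iv D49511) (iv F221821)
theorem F231157 : act 4 n51559 = n51559 := d33_1 D51559 (iv D51559) F221822
theorem F231158 : act 6 n51559 = n50375 := d40_1 D51559 (iv D50375) (iv F221823)
theorem F231159 : act 7 n51559 = n49514 := d42_1 D51559 (iv D49514) (iv F221824)
theorem F231160 : act 9 n51559 = n51559 := d44_2 D49510 D51559 (iv D51559) (iv D49510) F211723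
def n51560 : Q := act 9 n49512
theorem D51560 : act 9 n49512 = n51560 := rfl
theorem F231161 : act 0 n51560 = n49513 := d8_1 D51560 (iv D49513) D49512
theorem F231162 : act 1 n51560 = n49600 := d16_1 D51560 (iv D49600) (iv F221831)
theorem F231163 : act 2 n51560 = n51560 := d23_1 D51560 (iv D51560) F221832
theorem F231164 : act 4 n51560 = n51560 := d34_1 D51560 (iv D51560) F221833
theorem F231165 : act 6 n51560 = n49515 := d41_1 D51560 (iv D49515) (iv F221834)
theorem F231166 : act 7 n51560 = n50339 := d43_1 D51560 (iv D50339) (iv F221835)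
def n51561 : Q := act 8 n49513
theorem D51561 : act 8 n49513 = n51561 := rfl
theorem F231167 : act 1 n51561 = n49514 := d15_1 D51561 (iv D49514) (iv F221837)
theorem F231168 : act 2 n51561 = n51561 := d22_1 D51561 (iv D51561) F221838
theorem F231169 : act 4 n51561 = n51561 := d33_1 D51561 (iv D51561) F221839
theorem F231170 : act 6 n51561 = n49516 := d40_1 D51561 (iv D49516) (iv F221840)
theorem F231171 : act 7 n51561 = n50773 := d42_1 D51561 F231153 F231152
theorem F231172 : act 9 n51561 = n51561 := d44_2 D49513 D51561 (iv D51561) (iv D49513) F211733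
def n51562 : Q := act 3 n49514
theorem D51562 : act 3 n49514 = n51562 := rfl
theorem F231173 : act 0 n51562 = n49602 := d2_1 D51562 (iv D49602) (iv F221841)
theorem F231174 : act 6 n51562 = n49517 := d26_2 (iv F221844) D51562 (iv D49517)
theorem F231175 : act 9 n51562 = n51562 := d29_2 F221845 D51562 (iv D51562)
def n51563 : Q := act 8 n49515
theorem D51563 : act 8 n49515 = n51563 := rfl
theorem F231176 : act 0 n51563 = n49516 := d7_1 D51563 (iv D49516) (iv F221846)
theorem F231177 : act 1 n51563 = n49603 := d15_1 D51563 (iv D49603) (iv F221847)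
theorem F231178 : act 2 n51563 = n51563 := d22_1 D51563 (iv D51563) F221848
theorem F231179 : act 4 n51563 = n51563 := d33_1 D51563 (iv D51563) F221849
theorem F231180 : act 5 n51563 = n50403 := d37_1 D51563 (iv D50403) (iv F221850)
theorem F231181 : act 9 n51563 = n51563 := d44_2 D49515 D51563 (iv D51563) (iv D49515) F211747
def n51564 : Q := act 3 n49516
theorem D51564 : act 3 n49516 = n51564 := rfl
theorem F231182 : act 1 n51564 = n49517 := d10_1 D51564 (iv D49517) (iv F221851)
theorem F231183 : act 5 n51564 = n50404 := d25_2 (iv F221854) D51564 (iv D50404)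
theorem F231184 : act 9 n51564 = n51564 := d29_2 F221855 D51564 (iv D51564)
def n51565 : Q := act 4 n49517
theorem D51565 : act 4 n49517 = n51565 := rfl
theorem F231185 : act 0 n51565 = n49605 := d3_1 D51565 (iv D49605) (iv F221856)
theorem F231186 : act 2 n51565 = n50404 := d18_1 D51565 (iv F230505) F230504
theorem F231187 : act 3 n51565 = n51565 := d24_1 D51565 (iv D51565) (iv D49517) F211754 D49517
theorem F231188 : act 9 n51565 = n51565 := d34_2 F221858 D51565 (iv D51565)
def n51566 : Q := act 3 n49518
theorem D51566 : act 3 n49518 = n51566 := rfl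
theorem F231189 : act 1 n51566 = n50681 := d10_1 D51566 F226456 (iv F221859)
theorem F231190 : act 5 n51566 = n51566 := d25_2 F221862 D51566 (iv D51566)
theorem F231191 : act 6 n51566 = n50236 := d26_2 (iv F221863) D51566 F225055
theorem F231192 : act 7 n51566 = n49519 := d27_2 (iv F221864) D51566 (iv D49519)
theorem F231193 : act 8 n51566 = n49787 := d28_2 D49518 D51566 (iv D49787) (iv D47568) (iv F211759)
def n51567 : Q := act 9 n49518
theorem D51567 : act 9 n49518 = n51567 := rfl
theorem F231194 : act 1 n51567 = n50708 := d16_1 D51567 (iv D50708) (iv F221859)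
theorem F231195 : act 2 n51567 = n51567 := d23_1 D51567 (iv D51567) F221860
theorem F231196 : act 4 n51567 = n49523 := d34_1 D51567 (iv D49523) (iv F221861)
theorem F231197 : act 5 n51567 = n51567 := d38_1 D51567 (iv D51567) F221862
theorem F231198 : act 6 n51567 = n50252 := d41_1 D51567 (iv D50252) (iv F221863)
theorem F231199 : act 7 n51567 = n49520 := d43_1 D51567 (iv D49520) (iv F221864)
def n51568 : Q := act 2 n49519
theorem D51568 : act 2 n49519 = n51568 := rfl
theorem F231200 : act 3 n51568 = n51568 := d17_2 D49519 D51568 (iv D51568) (iv D49519) F211764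
theorem F231201 : act 5 n51568 = n51568 := d19_2 F221866 D51568 (iv D51568)
theorem F231202 : act 6 n51568 = n50222 := d20_2 (iv F221867) D51568 F225001
theorem F231203 : act 8 n51568 = n49789 := d22_2 (iv F221868) D51568 (iv D49789)
def n51569 : Q := act 4 n49519
theorem D51569 : act 4 n49519 = n51569 := rfl
theorem F231204 : act 1 n51569 = n50653 := d11_1 D51569 F226386 (iv F221865)
theorem F231205 : act 3 n51569 = n49525 := d24_1 D51569 (iv D49525) (iv D47315) (iv F211765) D49519
theorem F231206 : act 6 n51569 = n50206 := d31_2 (iv F221867) D51569 F224954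
theorem F231207 : act 8 n51569 = n49790 := d33_2 (iv F221868) D51569 (iv D49790)
def n51570 : Q := act 9 n49519
theorem D51570 : act 9 n49519 = n51570 := rfl
theorem F231208 : act 1 n51570 = n50682 := d16_1 D51570 (iv D50682) (iv F221865)
theorem F231209 : act 3 n51570 = n49520 := d29_1 D51570 (iv D49520) D49519
theorem F231210 : act 5 n51570 = n51570 := d38_1 D51570 (iv D51570) F221866
theorem F231211 : act 6 n51570 = n50225 := d41_1 D51570 (iv D50225) (iv F221867)
def n51571 : Q := act 3 n49521
theorem D51571 : act 3 n49521 = n51571 := rfl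
theorem F231212 : act 1 n51571 = n50445 := d10_1 D51571 F225728 (iv F221874)
theorem F231213 : act 5 n51571 = n50039 := d25_2 (iv F221877) D51571 F224184
theorem F231214 : act 6 n51571 = n49522 := d26_2 (iv F221878) D51571 (iv D49522)
theorem F231215 : act 7 n51571 = n50030 := d27_2 (iv F221879) D51571 F224155
theorem F231216 : act 8 n51571 = n49542 := d28_2 D49521 D51571 (iv D49542) (iv D47328) (iv F211770)
def n51572 : Q := act 9 n49521
theorem D51572 : act 9 n49521 = n51572 := rfl
theorem F231217 : act 1 n51572 = n50459 := d16_1 D51572 (iv D50459) (iv F221874)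
theorem F231218 : act 2 n51572 = n51572 := d23_1 D51572 (iv D51572) F221875
theorem F231219 : act 4 n51572 = n50252 := d34_1 D51572 (iv D50252) (iv F221876)
theorem F231220 : act 5 n51572 = n50043 := d38_1 D51572 (iv D50043) (iv F221877)
theorem F231221 : act 6 n51572 = n49523 := d41_1 D51572 (iv D49523) (iv F221878)
theorem F231222 : act 7 n51572 = n50042 := d43_1 D51572 (iv D50042) (iv F221879)
theorem F231223 : act 8 n51572 = n50758 := d44_1 D51572 (iv D50758) F218402 F218401 D49521
def n51573 : Q := act 2 n49522
theorem D51573 : act 2 n49522 = n51573 := rfl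
theorem F231224 : act 1 n51573 = n50344 := d9_1 D51573 (iv D50344) (iv F223934) (iv F227881) F227880
theorem F231225 : act 3 n51573 = n51573 := d17_2 D49522 D51573 (iv D51573) (iv D49522) F211774
theorem F231226 : act 5 n51573 = n49527 := d19_2 (iv F221880) D51573 (iv D49527)
theorem F231227 : act 7 n51573 = n49524 := d21_2 (iv F221881) D51573 (iv D49524)
theorem F231228 : act 8 n51573 = n49544 := d22_2 (iv F221882) D51573 (iv D49544)
def n51574 : Q := act 4 n49522
theorem D51574 : act 4 n49522 = n51574 := rfl
theorem F231229 : act 7 n51574 = n49525 := d32_2 (iv F221881) D51574 (iv D49525)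
theorem F231230 : act 8 n51574 = n49545 := d33_2 (iv F221882) D51574 (iv D49545)
def n51575 : Q := act 9 n49522
theorem D51575 : act 9 n49522 = n51575 := rfl
theorem F231231 : act 3 n51575 = n49523 := d29_1 D51575 (iv D49523) D49522
theorem F231232 : act 5 n51575 = n49529 := d38_1 D51575 (iv D49529) (iv F221880)
theorem F231233 : act 7 n51575 = n49526 := d43_1 D51575 (iv D49526) (iv F221881)
def n51576 : Q := act 1 n49524
theorem D51576 : act 1 n49524 = n51576 := rfl
theorem F231234 : act 2 n51576 = n49992 := d9_2 D49524 D51576 F223982 (iv F218547) F218546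
theorem F231235 : act 3 n51576 = n51576 := d10_2 F221886 D51576 (iv D51576)
theorem F231236 : act 5 n51576 = n49530 := d12_2 (iv F221887) D51576 (iv D49530)
theorem F231237 : act 6 n51576 = n50406 := d13_2 (iv F221888) D51576 (iv D50406)
theorem F231238 : act 7 n51576 = n50344 := d14_2 F231227 D51576 (iv F231224)
theorem F231239 : act 8 n51576 = n49547 := d15_2 (iv F221889) D51576 (iv D49547)
theorem F231240 : act 0 n50360 = n51576 := d5_3 F231237 (iv F230835) F230838
def n51577 : Q := act 4 n49524
theorem D51577 : act 4 n49524 = n51577 := rfl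
theorem F231241 : act 2 n51577 = n49525 := d18_1 D51577 (iv D49525) D49524
theorem F231242 : act 6 n51577 = n50407 := d31_2 (iv F221888) D51577 (iv D50407)
theorem F231243 : act 8 n51577 = n49548 := d33_2 (iv F221889) D51577 (iv D49548)
def n51578 : Q := act 9 n49524
theorem D51578 : act 9 n49524 = n51578 := rfl
theorem F231244 : act 2 n51578 = n49526 := d23_1 D51578 (iv D49526) D49524
theorem F231245 : act 3 n51578 = n51578 := d29_1 D51578 (iv D51578) F221886
theorem F231246 : act 5 n51578 = n49532 := d38_1 D51578 (iv D49532) (iv F221887)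
theorem F231247 : act 6 n51578 = n50408 := d41_1 D51578 (iv D50408) (iv F221888)
def n51579 : Q := act 5 n49525
theorem D51579 : act 5 n49525 = n51579 := rfl
theorem F231248 : act 4 n51579 = n49533 := d30_1 D51579 (iv D49533) (iv D47320) (iv F211777) D49525
theorem F231249 : act 8 n51579 = n49550 := d37_2 (iv F221891) D51579 (iv D49550)
def n51580 : Q := act 9 n49525
theorem D51580 : act 9 n49525 = n51580 := rfl
theorem F231250 : act 4 n51580 = n49526 := d34_1 D51580 (iv D49526) D49525
theorem F231251 : act 6 n51580 = n50409 := d41_1 D51580 (iv D50409) (iv F221890)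
def n51581 : Q := act 8 n49526
theorem D51581 : act 8 n49526 = n51581 := rfl
theorem F231252 : act 5 n51581 = n49535 := d37_1 D51581 (iv D49535) (iv F221893)
theorem F231253 : act 6 n51581 = n50410 := d40_1 D51581 (iv D50410) (iv F221894)
theorem F231254 : act 9 n51581 = n49552 := d44_2 D49526 D51581 (iv D49552) (iv D47333) (iv F211779)
def n51582 : Q := act 9 n49527
theorem D51582 : act 9 n49527 = n51582 := rfl
theorem F231255 : act 1 n51582 = n50347 := d16_1 D51582 (iv D50347) (iv F221895)
theorem F231256 : act 2 n51582 = n49529 := d23_1 D51582 (iv D49529) D49527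
theorem F231257 : act 3 n51582 = n51582 := d29_1 D51582 (iv D51582) F221896
theorem F231258 : act 6 n51582 = n50349 := d41_1 D51582 (iv D50349) (iv F221897)
theorem F231259 : act 7 n51582 = n49532 := d43_1 D51582 (iv D49532) (iv F221898)
def n51583 : Q := act 5 n49528
theorem D51583 : act 5 n49528 = n51583 := rfl
theorem F231260 : act 1 n51583 = n50378 := d12_1 D51583 F225550 (iv F221900)
theorem F231261 : act 3 n51583 = n51583 := d25_1 D51583 (iv D51583) F221901
theorem F231262 : act 7 n51583 = n49533 := d36_2 (iv F221903) D51583 (iv D49533)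
theorem F231263 : act 8 n51583 = n49555 := d37_2 (iv F221904) D51583 (iv D49555)
def n51584 : Q := act 9 n49528
theorem D51584 : act 9 n49528 = n51584 := rfl
theorem F231264 : act 1 n51584 = n50381 := d16_1 D51584 (iv D50381) (iv F221900)
theorem F231265 : act 3 n51584 = n51584 := d29_1 D51584 (iv D51584) F221901
theorem F231266 : act 4 n51584 = n49529 := d34_1 D51584 (iv D49529) D49528
theorem F231267 : act 6 n51584 = n50383 := d41_1 D51584 (iv D50383) (iv F221902)
theorem F231268 : act 7 n51584 = n49534 := d43_1 D51584 (iv D49534) (iv F221903)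
def n51585 : Q := act 8 n49529
theorem D51585 : act 8 n49529 = n51585 := rfl
theorem F231269 : act 7 n51585 = n49535 := d42_1 D51585 (iv D49535) (iv F221906)
theorem F231270 : act 9 n51585 = n49557 := d44_2 D49529 D51585 (iv D49557) (iv D47336) (iv F211784)
def n51586 : Q := act 9 n49530
theorem D51586 : act 9 n49530 = n51586 := rfl
theorem F231271 : act 0 n51586 = n50361 := d8_1 D51586 (iv D50361) F221912
theorem F231272 : act 1 n51586 = n49532 := d16_1 D51586 (iv D49532) D49530
theorem F231273 : act 2 n51586 = n49994 := d23_1 D51586 (iv D49994) (iv F221907)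
theorem F231274 : act 3 n51586 = n51586 := d29_1 D51586 (iv D51586) F221908
theorem F231275 : act 4 n51586 = n50333 := d34_1 D51586 (iv D50333) F221913
theorem F231276 : act 6 n51586 = n49536 := d41_1 D51586 (iv D49536) (iv F221909)
theorem F231277 : act 7 n51586 = n50347 := d43_1 D51586 (iv D50347) (iv F221910)
def n51587 : Q := act 5 n49531
theorem D51587 : act 5 n49531 = n51587 := rfl
theorem F231278 : act 1 n51587 = n50329 := d12_1 D51587 F225404 (iv F221914)
theorem F231279 : act 2 n51587 = n49533 := d19_1 D51587 (iv D49533) (iv F221915)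
theorem F231280 : act 3 n51587 = n50336 := d25_1 D51587 F225426 F221918
theorem F231281 : act 8 n51587 = n49561 := d37_2 (iv F221917) D51587 (iv D49561)
def n51588 : Q := act 9 n49531
theorem D51588 : act 9 n49531 = n51588 := rfl
theorem F231282 : act 1 n51588 = n50333 := d16_1 D51588 (iv D50333) (iv F221914)
theorem F231283 : act 2 n51588 = n49534 := d23_1 D51588 (iv D49534) (iv F221915)
theorem F231284 : act 3 n51588 = n50339 := d29_1 D51588 (iv D50339) F221918
theorem F231285 : act 4 n51588 = n49532 := d34_1 D51588 (iv D49532) D49531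
theorem F231286 : act 6 n51588 = n49537 := d41_1 D51588 (iv D49537) (iv F221916)
def n51589 : Q := act 8 n49532
theorem D51589 : act 8 n49532 = n51589 := rfl
theorem F231287 : act 2 n51589 = n49535 := d22_1 D51589 (iv D49535) (iv F221919)
theorem F231288 : act 6 n51589 = n49538 := d40_1 D51589 (iv D49538) (iv F221921)
theorem F231289 : act 9 n51589 = n49563 := d44_2 D49532 D51589 (iv D49563) (iv D47339) (iv F211790)
def n51590 : Q := act 6 n49533
theorem D51590 : act 6 n49533 = n51590 := rfl
theorem F231290 : act 3 n51590 = n51590 := d26_1 D51590 (iv D51590) F221922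
theorem F231291 : act 5 n51590 = n49539 := d35_1 D51590 (iv D49539) (iv D47325) (iv F211792) D49533
theorem F231292 : act 8 n51590 = n49564 := d40_2 (iv F221923) D51590 (iv D49564)
def n51591 : Q := act 9 n49533
theorem D51591 : act 9 n49533 = n51591 := rfl
theorem F231293 : act 3 n51591 = n51591 := d29_1 D51591 (iv D51591) F221922
theorem F231294 : act 5 n51591 = n49534 := d38_1 D51591 (iv D49534) D49533
def n51592 : Q := act 8 n49534
theorem D51592 : act 8 n49534 = n51592 := rfl
theorem F231295 : act 4 n51592 = n49535 := d33_1 D51592 (iv D49535) (iv F221925)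
theorem F231296 : act 6 n51592 = n49541 := d40_1 D51592 (iv D49541) (iv F221926)
theorem F231297 : act 9 n51592 = n49566 := d44_2 D49534 D51592 (iv D49566) (iv D47341) (iv F211793)
def n51593 : Q := act 8 n49536
theorem D51593 : act 8 n49536 = n51593 := rfl
theorem F231298 : act 0 n51593 = n50368 := d7_1 D51593 (iv D50368) (iv F221929)
theorem F231299 : act 1 n51593 = n49538 := d15_1 D51593 (iv D49538) (iv F221930)
theorem F231300 : act 2 n51593 = n49995 := d22_1 D51593 (iv D49995) (iv F221931)
theorem F231301 : act 4 n51593 = n50335 := d33_1 D51593 (iv D50335) (iv F221933)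
theorem F231302 : act 5 n51593 = n50414 := d37_1 D51593 (iv D50414) (iv F221934)
theorem F231303 : act 9 n51593 = n49569 := d44_2 D49536 D51593 (iv D49569) (iv D47345) (iv F211799)
def n51594 : Q := act 8 n49537
theorem D51594 : act 8 n49537 = n51594 := rfl
theorem F231304 : act 1 n51594 = n50335 := d15_1 D51594 (iv D50335) (iv F221935)
theorem F231305 : act 2 n51594 = n49541 := d22_1 D51594 (iv D49541) (iv F221936)
theorem F231306 : act 4 n51594 = n49538 := d33_1 D51594 (iv D49538) (iv F221938)
theorem F231307 : act 9 n51594 = n49572 := d44_2 D49537 D51594 (iv D49572) (iv D47347) (iv F211804)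
def n51595 : Q := act 3 n49538
theorem D51595 : act 3 n49538 = n51595 := rfl
theorem F231308 : act 5 n51595 = n50416 := d25_2 (iv F221940) D51595 (iv D50416)
theorem F231309 : act 8 n51595 = n51595 := d28_2 D49538 D51595 (iv D51595) (iv D49538) F211807
theorem F231310 : act 9 n51595 = n49573 := d29_2 (iv F221941) D51595 (iv D49573)
def n51596 : Q := act 9 n49539
theorem D51596 : act 9 n49539 = n51596 := rfl
theorem F231311 : act 3 n51596 = n51596 := d29_1 D51596 (iv D51596) F221942
theorem F231312 : act 4 n51596 = n50050 := d34_1 D51596 F224233 (iv F221943)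
theorem F231313 : act 6 n51596 = n49540 := d41_1 D51596 (iv D49540) D49539
def n51597 : Q := act 8 n49540
theorem D51597 : act 8 n49540 = n51597 := rfl
theorem F231314 : act 4 n51597 = n50038 := d33_1 D51597 F224181 (iv F221946)
theorem F231315 : act 5 n51597 = n49541 := d37_1 D51597 (iv D49541) (iv F221947)
theorem F231316 : act 9 n51597 = n49576 := d44_2 D49540 D51597 (iv D49576) (iv D47350) (iv F211811)
def n51598 : Q := act 3 n49541
theorem D51598 : act 3 n49541 = n51598 := rfl
theorem F231317 : act 8 n51598 = n51598 := d28_2 D49541 D51598 (iv D51598) (iv D49541) F211812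
theorem F231318 : act 9 n51598 = n49577 := d29_2 (iv F221949) D51598 (iv D49577)
def n51599 : Q := act 4 n49542
theorem D51599 : act 4 n49542 = n51599 := rfl
theorem F231319 : act 3 n51599 = n49825 := d24_1 D51599 (iv D49825) (iv D47593) (iv F211817) D49542
theorem F231320 : act 6 n51599 = n49545 := d31_2 (iv F221950) D51599 (iv D49545)
theorem F231321 : act 7 n51599 = n50418 := d32_2 (iv F221951) D51599 (iv D50418)
def n51600 : Q := act 9 n49542
theorem D51600 : act 9 n49542 = n51600 := rfl
theorem F231322 : act 3 n51600 = n49543 := d29_1 D51600 (iv D49543) D49542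
theorem F231323 : act 6 n51600 = n49546 := d41_1 D51600 (iv D49546) (iv F221950)
theorem F231324 : act 7 n51600 = n50419 := d43_1 D51600 (iv D50419) (iv F221951)
def n51601 : Q := act 4 n49544
theorem D51601 : act 4 n49544 = n51601 := rfl
theorem F231325 : act 1 n51601 = n50354 := d11_1 D51601 (iv D50354) (iv F221956)
theorem F231326 : act 2 n51601 = n49545 := d18_1 D51601 (iv D49545) D49544
theorem F231327 : act 7 n51601 = n49548 := d32_2 (iv F221959) D51601 (iv D49548)
def n51602 : Q := act 9 n49544
theorem D51602 : act 9 n49544 = n51602 := rfl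
theorem F231328 : act 1 n51602 = n50355 := d16_1 D51602 (iv D50355) (iv F221956)
theorem F231329 : act 2 n51602 = n49546 := d23_1 D51602 (iv D49546) D49544
theorem F231330 : act 3 n51602 = n49589 := d29_1 D51602 (iv D49589) (iv F221957)
theorem F231331 : act 5 n51602 = n49554 := d38_1 D51602 (iv D49554) (iv F221958)
theorem F231332 : act 7 n51602 = n49549 := d43_1 D51602 (iv D49549) (iv F221959)
def n51603 : Q := act 5 n49545
theorem D51603 : act 5 n49545 = n51603 := rfl
theorem F231333 : act 1 n51603 = n50389 := d12_1 D51603 (iv F227953) F227950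
theorem F231334 : act 3 n51603 = n49830 := d25_1 D51603 (iv D49830) (iv F221960)
theorem F231335 : act 4 n51603 = n49555 := d30_1 D51603 (iv D49555) (iv D47335) (iv F211820) D49545
theorem F231336 : act 7 n51603 = n49550 := d36_2 (iv F221961) D51603 (iv D49550)
def n51604 : Q := act 9 n49545
theorem D51604 : act 9 n49545 = n51604 := rfl
theorem F231337 : act 3 n51604 = n49831 := d29_1 D51604 (iv D49831) (iv F221960)
theorem F231338 : act 4 n51604 = n49546 := d34_1 D51604 (iv D49546) D49545
theorem F231339 : act 7 n51604 = n49551 := d43_1 D51604 (iv D49551) (iv F221961)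
def n51605 : Q := act 8 n49546
theorem D51605 : act 8 n49546 = n51605 := rfl
theorem F231340 : act 5 n51605 = n49557 := d37_1 D51605 (iv D49557) (iv F221963)
theorem F231341 : act 7 n51605 = n49552 := d42_1 D51605 (iv D49552) (iv F221964)
def n51606 : Q := act 0 n49547
theorem D51606 : act 0 n49547 = n51606 := rfl
theorem F231342 : act 2 n51606 = n50327 := d1_2 (iv F221965) D51606 F225390
theorem F231343 : act 3 n51606 = n49592 := d2_2 (iv F221966) D51606 (iv D49592)
theorem F231344 : act 5 n51606 = n49558 := d4_2 (iv F221967) D51606 (iv D49558)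
theorem F231345 : act 6 n51606 = n50425 := d5_2 (iv F221968) D51606 (iv D50425)
theorem F231346 : act 7 n51606 = n50329 := d6_2 (iv F221969) D51606 F225402
theorem F231347 : act 8 n51606 = n50360 := d7_2 F231239 D51606 F231240
def n51607 : Q := act 4 n49547
theorem D51607 : act 4 n49547 = n51607 := rfl
theorem F231348 : act 1 n51607 = n49548 := d11_1 D51607 (iv D49548) D49547
theorem F231349 : act 2 n51607 = n50352 := d18_1 D51607 (iv D50352) (iv F221965)
theorem F231350 : act 6 n51607 = n50426 := d31_2 (iv F221968) D51607 (iv D50426)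
theorem F231351 : act 7 n51607 = n50354 := d32_2 (iv F221969) D51607 (iv D50354)
def n51608 : Q := act 9 n49547
theorem D51608 : act 9 n49547 = n51608 := rfl
theorem F231352 : act 1 n51608 = n49549 := d16_1 D51608 (iv D49549) D49547
theorem F231353 : act 2 n51608 = n50353 := d23_1 D51608 (iv D50353) (iv F221965)
theorem F231354 : act 3 n51608 = n49594 := d29_1 D51608 (iv D49594) (iv F221966)
theorem F231355 : act 5 n51608 = n49560 := d38_1 D51608 (iv D49560) (iv F221967)
theorem F231356 : act 6 n51608 = n50427 := d41_1 D51608 (iv D50427) (iv F221968)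
theorem F231357 : act 7 n51608 = n50355 := d43_1 D51608 (iv D50355) (iv F221969)
def n51609 : Q := act 3 n49548
theorem D51609 : act 3 n49548 = n51609 := rfl
theorem F231358 : act 2 n51609 = n49836 := d17_1 D51609 (iv D49836) F213059 (iv F211829) (iv F221970)
theorem F231359 : act 4 n51609 = n49595 := d24_2 D49548 D51609 (iv D49595) (iv D47369) (iv F211826)
theorem F231360 : act 6 n51609 = n50428 := d26_2 (iv F221971) D51609 (iv D50428)
def n51610 : Q := act 5 n49548
theorem D51610 : act 5 n49548 = n51610 := rfl
theorem F231361 : act 2 n51610 = n49550 := d19_1 D51610 (iv D49550) (iv F221970)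
theorem F231362 : act 4 n51610 = n49561 := d30_1 D51610 (iv D49561) (iv D47338) (iv F211827) D49548
def n51611 : Q := act 9 n49548
theorem D51611 : act 9 n49548 = n51611 := rfl
theorem F231363 : act 2 n51611 = n49551 := d23_1 D51611 (iv D49551) (iv F221970)
theorem F231364 : act 4 n51611 = n49549 := d34_1 D51611 (iv D49549) D49548
theorem F231365 : act 6 n51611 = n50430 := d41_1 D51611 (iv D50430) (iv F221971)
def n51612 : Q := act 8 n49549
theorem D51612 : act 8 n49549 = n51612 := rfl
theorem F231366 : act 2 n51612 = n49552 := d22_1 D51612 (iv D49552) (iv F221972)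
theorem F231367 : act 5 n51612 = n49563 := d37_1 D51612 (iv D49563) (iv F221974)
theorem F231368 : act 6 n51612 = n50431 := d40_1 D51612 (iv D50431) (iv F221975)
def n51613 : Q := act 6 n49550
theorem D51613 : act 6 n49550 = n51613 := rfl
theorem F231369 : act 3 n51613 = n49840 := d26_1 D51613 (iv D49840) (iv F221976)
theorem F231370 : act 4 n51613 = n49564 := d31_1 D51613 (iv D49564) (iv F221977)
theorem F231371 : act 5 n51613 = n50432 := d35_1 D51613 (iv D50432) (iv D48249) (iv F211830) D49550
def n51614 : Q := act 9 n49550
theorem D51614 : act 9 n49550 = n51614 := rfl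
theorem F231372 : act 3 n51614 = n49841 := d29_1 D51614 (iv D49841) (iv F221976)
theorem F231373 : act 4 n51614 = n49565 := d34_1 D51614 (iv D49565) (iv F221977)
theorem F231374 : act 5 n51614 = n49551 := d38_1 D51614 (iv D49551) D49550
def n51615 : Q := act 8 n49551
theorem D51615 : act 8 n49551 = n51615 := rfl
theorem F231375 : act 4 n51615 = n49552 := d33_1 D51615 (iv D49552) (iv F221979)
theorem F231376 : act 6 n51615 = n50434 := d40_1 D51615 (iv D50434) (iv F221980)
def n51616 : Q := act 5 n49553
theorem D51616 : act 5 n49553 = n51616 := rfl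
theorem F231377 : act 1 n51616 = n50360 := d12_1 D51616 (iv D50360) (iv F221983)
theorem F231378 : act 2 n51616 = n49555 := d19_1 D51616 (iv D49555) (iv F221984)
theorem F231379 : act 3 n51616 = n51616 := d25_1 D51616 (iv D51616) F221985
theorem F231380 : act 7 n51616 = n49561 := d36_2 (iv F221987) D51616 (iv D49561)
def n51617 : Q := act 9 n49553
theorem D51617 : act 9 n49553 = n51617 := rfl
theorem F231381 : act 1 n51617 = n50361 := d16_1 D51617 (iv D50361) (iv F221983)
theorem F231382 : act 2 n51617 = n49556 := d23_1 D51617 (iv D49556) (iv F221984)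
theorem F231383 : act 3 n51617 = n51617 := d29_1 D51617 (iv D51617) F221985
theorem F231384 : act 4 n51617 = n49554 := d34_1 D51617 (iv D49554) D49553
theorem F231385 : act 6 n51617 = n50366 := d41_1 D51617 (iv D50366) (iv F221986)
theorem F231386 : act 7 n51617 = n49562 := d43_1 D51617 (iv D49562) (iv F221987)
def n51618 : Q := act 8 n49554
theorem D51618 : act 8 n49554 = n51618 := rfl
theorem F231387 : act 1 n51618 = n50362 := d15_1 D51618 (iv D50362) (iv F221988)
theorem F231388 : act 2 n51618 = n49557 := d22_1 D51618 (iv D49557) (iv F221989)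
theorem F231389 : act 6 n51618 = n50367 := d40_1 D51618 (iv D50367) (iv F221991)
theorem F231390 : act 7 n51618 = n49563 := d42_1 D51618 (iv D49563) (iv F221992)
def n51619 : Q := act 9 n49555
theorem D51619 : act 9 n49555 = n51619 := rfl
theorem F231391 : act 1 n51619 = n50390 := d16_1 D51619 (iv D50390) (iv F221993)
theorem F231392 : act 3 n51619 = n49578 := d29_1 D51619 (iv D49578) (iv F221994)
theorem F231393 : act 5 n51619 = n49556 := d38_1 D51619 (iv D49556) D49555
theorem F231394 : act 7 n51619 = n49565 := d43_1 D51619 (iv D49565) (iv F221995)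
def n51620 : Q := act 8 n49556
theorem D51620 : act 8 n49556 = n51620 := rfl
theorem F231395 : act 1 n51620 = n50394 := d15_1 D51620 (iv D50394) (iv F221996)
theorem F231396 : act 4 n51620 = n49557 := d33_1 D51620 (iv D49557) (iv F221998)
theorem F231397 : act 6 n51620 = n50396 := d40_1 D51620 (iv D50396) (iv F221999)
theorem F231398 : act 7 n51620 = n49566 := d42_1 D51620 (iv D49566) (iv F222000)
def n51621 : Q := act 9 n49558
theorem D51621 : act 9 n49558 = n51621 := rfl
theorem F231399 : act 0 n51621 = n49560 := d8_1 D51621 (iv D49560) D49558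
theorem F231400 : act 2 n51621 = n50332 := d23_1 D51621 (iv D50332) (iv F222002)
theorem F231401 : act 3 n51621 = n49600 := d29_1 D51621 (iv D49600) (iv F222003)
theorem F231402 : act 4 n51621 = n50347 := d34_1 D51621 (iv D50347) F222007
theorem F231403 : act 6 n51621 = n49567 := d41_1 D51621 (iv D49567) (iv F222004)
theorem F231404 : act 7 n51621 = n50333 := d43_1 D51621 (iv D50333) (iv F222005)
def n51622 : Q := act 5 n49559
theorem D51622 : act 5 n49559 = n51622 := rfl
theorem F231405 : act 0 n51622 = n50344 := d4_1 D51622 F225461 (iv F222008)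
theorem F231406 : act 1 n51622 = n49561 := d12_1 D51622 (iv D49561) (iv F222009)
theorem F231407 : act 2 n51622 = n50323 := d19_1 D51622 F225371 (iv F222010)
theorem F231408 : act 3 n51622 = n51622 := d25_1 D51622 (iv D51622) F222011
theorem F231409 : act 7 n51622 = n50360 := d36_2 (iv F222013) D51622 (iv D50360)
theorem F231410 : act 8 n51622 = n50329 := d37_2 (iv F222014) D51622 F225404
def n51623 : Q := act 9 n49559
theorem D51623 : act 9 n49559 = n51623 := rfl
theorem F231411 : act 0 n51623 = n50347 := d8_1 D51623 (iv D50347) (iv F222008)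
theorem F231412 : act 1 n51623 = n49562 := d16_1 D51623 (iv D49562) (iv F222009)
theorem F231413 : act 2 n51623 = n50325 := d23_1 D51623 (iv D50325) (iv F222010)
theorem F231414 : act 3 n51623 = n51623 := d29_1 D51623 (iv D51623) F222011
theorem F231415 : act 4 n51623 = n49560 := d34_1 D51623 (iv D49560) D49559
theorem F231416 : act 6 n51623 = n49568 := d41_1 D51623 (iv D49568) (iv F222012)
theorem F231417 : act 7 n51623 = n50361 := d43_1 D51623 (iv D50361) (iv F222013)
def n51624 : Q := act 8 n49560
theorem D51624 : act 8 n49560 = n51624 := rfl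
theorem F231418 : act 1 n51624 = n49563 := d15_1 D51624 (iv D49563) (iv F222015)
theorem F231419 : act 2 n51624 = n50359 := d22_1 D51624 (iv D50359) (iv F222016)
theorem F231420 : act 6 n51624 = n49569 := d40_1 D51624 (iv D49569) (iv F222018)
theorem F231421 : act 7 n51624 = n50362 := d42_1 D51624 (iv D50362) (iv F222019)
def n51625 : Q := act 6 n49561
theorem D51625 : act 6 n49561 = n51625 := rfl
theorem F231422 : act 2 n51625 = n49564 := d20_1 D51625 (iv D49564) (iv F222020)
theorem F231423 : act 3 n51625 = n51625 := d26_1 D51625 (iv D51625) F222021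
theorem F231424 : act 5 n51625 = n49570 := d35_1 D51625 (iv D49570) (iv D47346) (iv F211850) D49561
def n51626 : Q := act 9 n49561
theorem D51626 : act 9 n49561 = n51626 := rfl
theorem F231425 : act 2 n51626 = n49565 := d23_1 D51626 (iv D49565) (iv F222020)
theorem F231426 : act 3 n51626 = n51626 := d29_1 D51626 (iv D51626) F222021
theorem F231427 : act 5 n51626 = n49562 := d38_1 D51626 (iv D49562) D49561
def n51627 : Q := act 8 n49562
theorem D51627 : act 8 n49562 = n51627 := rfl
theorem F231428 : act 2 n51627 = n49566 := d22_1 D51627 (iv D49566) (iv F222022)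
theorem F231429 : act 4 n51627 = n49563 := d33_1 D51627 (iv D49563) (iv F222024)
theorem F231430 : act 6 n51627 = n49572 := d40_1 D51627 (iv D49572) (iv F222025)
def n51628 : Q := act 3 n49563
theorem D51628 : act 3 n49563 = n51628 := rfl
theorem F231431 : act 6 n51628 = n49573 := d26_2 (iv F222027) D51628 (iv D49573)
theorem F231432 : act 8 n51628 = n49602 := d28_2 D49563 D51628 (iv D49602) (iv D47377) (iv F211852)
def n51629 : Q := act 7 n49564
theorem D51629 : act 7 n49564 = n51629 := rfl
theorem F231433 : act 3 n51629 = n49580 := d27_1 D51629 (iv D49580) (iv F222028)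
theorem F231434 : act 5 n51629 = n49574 := d36_1 D51629 (iv D49574) (iv F222029)
def n51630 : Q := act 9 n49564
theorem D51630 : act 9 n49564 = n51630 := rfl
theorem F231435 : act 3 n51630 = n49581 := d29_1 D51630 (iv D49581) (iv F222028)
theorem F231436 : act 5 n51630 = n49575 := d38_1 D51630 (iv D49575) (iv F222029)
theorem F231437 : act 6 n51630 = n49565 := d41_1 D51630 (iv D49565) D49564
def n51631 : Q := act 8 n49565
theorem D51631 : act 8 n49565 = n51631 := rfl
theorem F231438 : act 5 n51631 = n49566 := d37_1 D51631 (iv D49566) (iv F222031)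
def n51632 : Q := act 3 n49566
theorem D51632 : act 3 n49566 = n51632 := rfl
theorem F231439 : act 6 n51632 = n49577 := d26_2 (iv F222033) D51632 (iv D49577)
theorem F231440 : act 8 n51632 = n49583 := d28_2 D49566 D51632 (iv D49583) (iv D47357) (iv F211855)
def n51633 : Q := act 8 n49567
theorem D51633 : act 8 n49567 = n51633 := rfl
theorem F231441 : act 0 n51633 = n49569 := d7_1 D51633 (iv D49569) (iv F222034)
theorem F231442 : act 2 n51633 = n50351 := d22_1 D51633 (iv D50351) (iv F222035)
theorem F231443 : act 4 n51633 = n50350 := d33_1 D51633 (iv D50350) (iv F222037)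
theorem F231444 : act 5 n51633 = n50449 := d37_1 D51633 (iv D50449) (iv F222038)
theorem F231445 : act 9 n51633 = n50368 := d44_2 D49567 D51633 (iv D50368) (iv D48182) (iv F211862)
def n51634 : Q := act 8 n49568
theorem D51634 : act 8 n49568 = n51634 := rfl
theorem F231446 : act 0 n51634 = n50350 := d7_1 D51634 (iv D50350) (iv F222039)
theorem F231447 : act 1 n51634 = n49572 := d15_1 D51634 (iv D49572) (iv F222040)
theorem F231448 : act 2 n51634 = n50326 := d22_1 D51634 (iv D50326) (iv F222041)
theorem F231449 : act 4 n51634 = n49569 := d33_1 D51634 (iv D49569) (iv F222043)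
theorem F231450 : act 9 n51634 = n50335 := d44_2 D49568 D51634 (iv D50335) (iv D48149) (iv F211868)
def n51635 : Q := act 3 n49569
theorem D51635 : act 3 n49569 = n51635 := rfl
theorem F231451 : act 1 n51635 = n49573 := d10_1 D51635 (iv D49573) (iv F222044)
theorem F231452 : act 5 n51635 = n50452 := d25_2 (iv F222045) D51635 (iv D50452)
theorem F231453 : act 8 n51635 = n49604 := d28_2 D49569 D51635 (iv D49604) (iv D47379) (iv F211870)
def n51636 : Q := act 9 n49570
theorem D51636 : act 9 n49570 = n51636 := rfl
theorem F231454 : act 2 n51636 = n49575 := d23_1 D51636 (iv D49575) (iv F222046)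
theorem F231455 : act 3 n51636 = n51636 := d29_1 D51636 (iv D51636) F222047
theorem F231456 : act 4 n51636 = n50453 := d34_1 D51636 (iv D50453) (iv F222048)
theorem F231457 : act 6 n51636 = n49571 := d41_1 D51636 (iv D49571) D49570
def n51637 : Q := act 8 n49571
theorem D51637 : act 8 n49571 = n51637 := rfl
theorem F231458 : act 2 n51637 = n49576 := d22_1 D51637 (iv D49576) (iv F222049)
theorem F231459 : act 4 n51637 = n50454 := d33_1 D51637 (iv D50454) (iv F222051)
theorem F231460 : act 5 n51637 = n49572 := d37_1 D51637 (iv D49572) (iv F222052)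
def n51638 : Q := act 3 n49572
theorem D51638 : act 3 n49572 = n51638 := rfl
theorem F231461 : act 8 n51638 = n51638 := d28_2 D49572 D51638 (iv D51638) (iv D49572) F211876
def n51639 : Q := act 4 n49573
theorem D51639 : act 4 n49573 = n51639 := rfl
theorem F231462 : act 8 n51639 = n49605 := d33_2 (iv F222056) D51639 (iv D49605)
def n51640 : Q := act 9 n49574
theorem D51640 : act 9 n49574 = n51640 := rfl
theorem F231463 : act 3 n51640 = n49584 := d29_1 D51640 (iv D49584) (iv F222057)
theorem F231464 : act 4 n51640 = n50457 := d34_1 D51640 (iv D50457) (iv F222058)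
theorem F231465 : act 6 n51640 = n50763 := d41_1 D51640 (iv F227557) F227554
theorem F231466 : act 7 n51640 = n49575 := d43_1 D51640 (iv D49575) D49574
def n51641 : Q := act 8 n49575
theorem D51641 : act 8 n49575 = n51641 := rfl
theorem F231467 : act 4 n51641 = n50458 := d33_1 D51641 (iv D50458) (iv F222060)
theorem F231468 : act 6 n51641 = n49576 := d40_1 D51641 (iv D49576) (iv F222061)
def n51642 : Q := act 3 n49576
theorem D51642 : act 3 n49576 = n51642 := rfl
theorem F231469 : act 5 n51642 = n49577 := d25_2 (iv F222063) D51642 (iv D49577)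
theorem F231470 : act 8 n51642 = n49586 := d28_2 D49576 D51642 (iv D49586) (iv D47360) (iv F211882)
def n51643 : Q := act 2 n49577
theorem D51643 : act 2 n49577 = n51643 := rfl
theorem F231471 : act 8 n51643 = n49587 := d22_2 (iv F222064) D51643 (iv D49587)
def n51644 : Q := act 8 n49578
theorem D51644 : act 8 n49578 = n51644 := rfl
theorem F231472 : act 1 n51644 = n50400 := d15_1 D51644 (iv D50400) (iv F222065)
theorem F231473 : act 2 n51644 = n51644 := d22_1 D51644 (iv D51644) F222066
theorem F231474 : act 4 n51644 = n49880 := d33_1 D51644 (iv D49880) (iv F222067)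
theorem F231475 : act 5 n51644 = n49579 := d37_1 D51644 (iv D49579) (iv F222068)
theorem F231476 : act 7 n51644 = n49582 := d42_1 D51644 (iv D49582) (iv F222069)
theorem F231477 : act 9 n51644 = n51644 := d44_2 D49578 D51644 (iv D51644) (iv D49578) F211890
def n51645 : Q := act 3 n49579
theorem D51645 : act 3 n49579 = n51645 := rfl
theorem F231478 : act 1 n51645 = n50402 := d10_1 D51645 (iv D50402) (iv F222070)
theorem F231479 : act 6 n51645 = n50404 := d26_2 (iv F222073) D51645 (iv D50404)
theorem F231480 : act 7 n51645 = n49583 := d27_2 (iv F222074) D51645 (iv D49583)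
theorem F231481 : act 9 n51645 = n51645 := d29_2 F222075 D51645 (iv D51645)
def n51646 : Q := act 9 n49580
theorem D51646 : act 9 n49580 = n51646 := rfl
theorem F231482 : act 2 n51646 = n51646 := d23_1 D51646 (iv D51646) F222076
theorem F231483 : act 4 n51646 = n49882 := d34_1 D51646 (iv D49882) (iv F222077)
theorem F231484 : act 5 n51646 = n49584 := d38_1 D51646 (iv D49584) (iv F222078)
theorem F231485 : act 7 n51646 = n49581 := d43_1 D51646 (iv D49581) D49580
theorem F231486 : act 8 n50772 = n51646 := d37_0 F231484 (iv F222094) D50772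
def n51647 : Q := act 8 n49581
theorem D51647 : act 8 n49581 = n51647 := rfl
theorem F231487 : act 2 n51647 = n51647 := d22_1 D51647 (iv D51647) F222080
theorem F231488 : act 4 n51647 = n49883 := d33_1 D51647 (iv D49883) (iv F222081)
theorem F231489 : act 5 n51647 = n49585 := d37_1 D51647 (iv D49585) (iv F222082)
theorem F231490 : act 6 n51647 = n49582 := d40_1 D51647 (iv D49582) (iv F222083)
theorem F231491 : act 7 n51647 = n50772 := d42_1 D51647 F231486 F231485
theorem F231492 : act 9 n51647 = n51647 := d44_2 D49581 D51647 (iv D51647) (iv D49581) F211905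
def n51648 : Q := act 3 n49582
theorem D51648 : act 3 n49582 = n51648 := rfl
theorem F231493 : act 5 n51648 = n49583 := d25_2 (iv F222086) D51648 (iv D49583)
theorem F231494 : act 9 n51648 = n51648 := d29_2 F222087 D51648 (iv D51648)
def n51649 : Q := act 2 n49583
theorem D51649 : act 2 n49583 = n51649 := rfl
theorem F231495 : act 3 n51649 = n51649 := d17_2 D49583 D51649 (iv D51649) (iv D49583) F211909
theorem F231496 : act 6 n51649 = n49587 := d20_2 (iv F222088) D51649 (iv D49587)
theorem F231497 : act 9 n51649 = n51649 := d23_2 F222089 D51649 (iv D51649)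
def n51650 : Q := act 3 n49585
theorem D51650 : act 3 n49585 = n51650 := rfl
theorem F231498 : act 4 n51650 = n50473 := d24_2 (iv F222096) D51650 (iv D50473) F215935 (iv F211931)
theorem F231499 : act 6 n51650 = n49586 := d26_2 (iv F222097) D51650 (iv D49586)
theorem F231500 : act 7 n51650 = n50476 := d27_2 (iv F222098) D51650 F225816
theorem F231501 : act 9 n51650 = n51650 := d29_2 F222099 D51650 (iv D51650)
def n51651 : Q := act 2 n49586
theorem D51651 : act 2 n49586 = n51651 := rfl
theorem F231502 : act 1 n51651 = n49605 := d9_1 D51651 (iv F230768) F230767 (iv F228106) F228105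
theorem F231503 : act 3 n51651 = n51651 := d17_2 D49586 D51651 (iv D51651) (iv D49586) F211919
theorem F231504 : act 4 n51651 = n49604 := d18_2 F227856 D51651 (iv F227855)
theorem F231505 : act 5 n51651 = n49587 := d19_2 (iv F222100) D51651 (iv D49587)
theorem F231506 : act 9 n51651 = n51651 := d23_2 F222101 D51651 (iv D51651)
def n51652 : Q := act 1 n49587
theorem D51652 : act 1 n49587 = n51652 := rfl
theorem F231507 : act 3 n51652 = n51652 := d10_2 F222102 D51652 (iv D51652)
theorem F231508 : act 4 n51652 = n50480 := d11_2 F230705 D51652 F230708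
theorem F231509 : act 5 n51652 = n49605 := d12_2 F231505 D51652 (iv F231502)
theorem F231510 : act 9 n51652 = n51652 := d16_2 F222103 D51652 (iv D51652)
def n51653 : Q := act 3 n49588
theorem D51653 : act 3 n49588 = n51653 := rfl
theorem F231511 : act 1 n51653 = n50370 := d10_1 D51653 (iv D50370) (iv F222104)
theorem F231512 : act 2 n51653 = n49898 := d17_1 D51653 (iv D49898) F213217 (iv F211945) (iv F222105)
theorem F231513 : act 5 n51653 = n51653 := d25_2 F222106 D51653 (iv D51653)
theorem F231514 : act 7 n51653 = n49595 := d27_2 (iv F222107) D51653 (iv D49595)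
def n51654 : Q := act 9 n49588
theorem D51654 : act 9 n49588 = n51654 := rfl
theorem F231515 : act 1 n51654 = n50371 := d16_1 D51654 (iv D50371) (iv F222104)
theorem F231516 : act 2 n51654 = n49590 := d23_1 D51654 (iv D49590) (iv F222105)
theorem F231517 : act 4 n51654 = n49589 := d34_1 D51654 (iv D49589) D49588
theorem F231518 : act 5 n51654 = n51654 := d38_1 D51654 (iv D51654) F222106
theorem F231519 : act 7 n51654 = n49596 := d43_1 D51654 (iv D49596) (iv F222107)
def n51655 : Q := act 8 n49589
theorem D51655 : act 8 n49589 = n51655 := rfl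
theorem F231520 : act 1 n51655 = n50372 := d15_1 D51655 (iv D50372) (iv F222109)
theorem F231521 : act 2 n51655 = n49591 := d22_1 D51655 (iv D49591) (iv F222110)
theorem F231522 : act 5 n51655 = n49599 := d37_1 D51655 (iv D49599) (iv F222111)
theorem F231523 : act 7 n51655 = n49597 := d42_1 D51655 (iv D49597) (iv F222112)
theorem F231524 : act 9 n51655 = n51655 := d44_2 D49589 D51655 (iv D51655) (iv D49589) F211943
def n51656 : Q := act 8 n49590
theorem D51656 : act 8 n49590 = n51656 := rfl
theorem F231525 : act 1 n51656 = n49606 := d15_1 D51656 (iv D49606) (iv F222113)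
theorem F231526 : act 4 n51656 = n49591 := d33_1 D51656 (iv D49591) (iv F222115)
theorem F231527 : act 5 n51656 = n51656 := d37_1 D51656 (iv D51656) F222116
theorem F231528 : act 7 n51656 = n49598 := d42_1 D51656 (iv D49598) (iv F222117)
theorem F231529 : act 9 n51656 = n51656 := d44_2 D49590 D51656 (iv D51656) (iv D49590) F211948
def n51657 : Q := act 4 n49592
theorem D51657 : act 4 n49592 = n51657 := rfl
theorem F231530 : act 0 n51657 = n49593 := d3_1 D51657 (iv D49593) D49592
theorem F231531 : act 1 n51657 = n49768 := d11_1 D51657 (iv F231078) F231076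
theorem F231532 : act 2 n51657 = n49607 := d18_1 D51657 (iv D49607) (iv F222122)
theorem F231533 : act 5 n51657 = n51657 := d30_2 (iv F222123) D51657 (iv D51657) F222123 F211985
theorem F231534 : act 6 n51657 = n49695 := d31_2 (iv F222124) D51657 F222635
theorem F231535 : act 7 n51657 = n49692 := d32_2 (iv F222125) D51657 F222621
theorem F231536 : act 8 n51657 = n51657 := d33_2 F222126 D51657 (iv D51657)
def n51658 : Q := act 9 n49592
theorem D51658 : act 9 n49592 = n51658 := rfl
theorem F231537 : act 0 n51658 = n49594 := d8_1 D51658 (iv D49594) D49592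
theorem F231538 : act 2 n51658 = n49608 := d23_1 D51658 (iv D49608) (iv F222122)
theorem F231539 : act 5 n51658 = n49600 := d38_1 D51658 (iv D49600) (iv F222123)
theorem F231540 : act 6 n51658 = n50464 := d41_1 D51658 (iv D50464) (iv F222124)
theorem F231541 : act 7 n51658 = n50337 := d43_1 D51658 (iv D50337) (iv F222125)
def n51659 : Q := act 3 n49593
theorem D51659 : act 3 n49593 = n51659 := rfl
theorem F231542 : act 1 n51659 = n49595 := d10_1 D51659 (iv D49595) (iv F222127)
theorem F231543 : act 2 n51659 = n50548 := d17_1 D51659 (iv D50548) F216215 (iv F212027) (iv F222128)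
theorem F231544 : act 5 n51659 = n51659 := d25_2 F222129 D51659 (iv D51659)
theorem F231545 : act 6 n51659 = n50465 := d26_2 (iv F222130) D51659 (iv D50465)
theorem F231546 : act 7 n51659 = n50370 := d27_2 (iv F222131) D51659 (iv D50370)
def n51660 : Q := act 9 n49593
theorem D51660 : act 9 n49593 = n51660 := rfl
theorem F231547 : act 1 n51660 = n49596 := d16_1 D51660 (iv D49596) (iv F222127)
theorem F231548 : act 2 n51660 = n49609 := d23_1 D51660 (iv D49609) (iv F222128)
theorem F231549 : act 4 n51660 = n49594 := d34_1 D51660 (iv D49594) D49593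
theorem F231550 : act 5 n51660 = n51660 := d38_1 D51660 (iv D51660) F222129
theorem F231551 : act 6 n51660 = n50466 := d41_1 D51660 (iv D50466) (iv F222130)
theorem F231552 : act 7 n51660 = n50371 := d43_1 D51660 (iv D50371) (iv F222131)
def n51661 : Q := act 8 n49594
theorem D51661 : act 8 n49594 = n51661 := rfl
theorem F231553 : act 1 n51661 = n49597 := d15_1 D51661 (iv D49597) (iv F222133)
theorem F231554 : act 2 n51661 = n49610 := d22_1 D51661 (iv D49610) (iv F222134)
theorem F231555 : act 5 n51661 = n49601 := d37_1 D51661 (iv D49601) (iv F222135)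
theorem F231556 : act 6 n51661 = n50467 := d40_1 D51661 (iv D50467) (iv F222136)
theorem F231557 : act 7 n51661 = n50372 := d42_1 D51661 (iv D50372) (iv F222137)
theorem F231558 : act 9 n51661 = n51661 := d44_2 D49594 D51661 (iv D51661) (iv D49594) F211957
def n51662 : Q := act 8 n49595
theorem D51662 : act 8 n49595 = n51662 := rfl
theorem F231559 : act 2 n51662 = n49907 := d22_1 D51662 (iv D49907) (iv F222138)
theorem F231560 : act 3 n51662 = n51662 := d28_1 D51662 (iv D51662) (iv D49595) F211961 D49595
theorem F231561 : act 5 n51662 = n51662 := d37_1 D51662 (iv D51662) F222139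
theorem F231562 : act 6 n51662 = n50468 := d40_1 D51662 (iv D50468) (iv F222140)
def n51663 : Q := act 9 n49595
theorem D51663 : act 9 n49595 = n51663 := rfl
theorem F231563 : act 2 n51663 = n49908 := d23_1 D51663 (iv D49908) (iv F222138)
theorem F231564 : act 3 n51663 = n49596 := d29_1 D51663 (iv D49596) D49595
theorem F231565 : act 5 n51663 = n51663 := d38_1 D51663 (iv D51663) F222139
theorem F231566 : act 6 n51663 = n50469 := d41_1 D51663 (iv D50469) (iv F222140)
def n51664 : Q := act 8 n49596
theorem D51664 : act 8 n49596 = n51664 := rfl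
theorem F231567 : act 2 n51664 = n49598 := d22_1 D51664 (iv D49598) (iv F222141)
theorem F231568 : act 4 n51664 = n49597 := d33_1 D51664 (iv D49597) (iv F222142)
theorem F231569 : act 5 n51664 = n51664 := d37_1 D51664 (iv D51664) F222143
theorem F231570 : act 6 n51664 = n50470 := d40_1 D51664 (iv D50470) (iv F222144)
theorem F231571 : act 9 n51664 = n51664 := d44_2 D49596 D51664 (iv D51664) (iv D49596) F211961
def n51665 : Q := act 3 n49597
theorem D51665 : act 3 n49597 = n51665 := rfl
theorem F231572 : act 5 n51665 = n49602 := d25_2 (iv F222146) D51665 (iv D49602)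
theorem F231573 : act 6 n51665 = n50471 := d26_2 (iv F222147) D51665 (iv D50471)
theorem F231574 : act 9 n51665 = n51665 := d29_2 F222148 D51665 (iv D51665)
def n51666 : Q := act 3 n49598
theorem D51666 : act 3 n49598 = n51666 := rfl
theorem F231575 : act 0 n51666 = n50731 := d2_1 D51666 (iv F231142) F231140
theorem F231576 : act 1 n51666 = n49612 := d10_1 D51666 (iv D49612) (iv F222149)
theorem F231577 : act 4 n51666 = n50718 := d24_2 (iv F222150) D51666 (iv F230746) F230747 F221428
theorem F231578 : act 5 n51666 = n51666 := d25_2 F222151 D51666 (iv D51666)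
theorem F231579 : act 6 n51666 = n50274 := d26_2 (iv F222152) D51666 F225192
theorem F231580 : act 8 n51666 = n49911 := d28_2 D49598 D51666 (iv D49911) (iv D47657) (iv F211966)
theorem F231581 : act 9 n51666 = n51666 := d29_2 F222153 D51666 (iv D51666)
def n51667 : Q := act 3 n49599
theorem D51667 : act 3 n49599 = n51667 := rfl
theorem F231582 : act 1 n51667 = n50374 := d10_1 D51667 (iv D50374) (iv F222154)
theorem F231583 : act 6 n51667 = n50376 := d26_2 (iv F222157) D51667 (iv D50376)
theorem F231584 : act 7 n51667 = n49602 := d27_2 (iv F222158) D51667 (iv D49602)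
theorem F231585 : act 9 n51667 = n51667 := d29_2 F222159 D51667 (iv D51667)
def n51668 : Q := act 8 n49600
theorem D51668 : act 8 n49600 = n51668 := rfl
theorem F231586 : act 0 n51668 = n49601 := d7_1 D51668 (iv D49601) (iv F222160)
theorem F231587 : act 2 n51668 = n49613 := d22_1 D51668 (iv D49613) (iv F222161)
theorem F231588 : act 4 n51668 = n51668 := d33_1 D51668 (iv D51668) F222162
theorem F231589 : act 6 n51668 = n49603 := d40_1 D51668 (iv D49603) (iv F222163)
theorem F231590 : act 7 n51668 = n50340 := d42_1 D51668 (iv D50340) (iv F222164)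
theorem F231591 : act 9 n51668 = n51668 := d44_2 D49600 D51668 (iv D51668) (iv D49600) F211988
def n51669 : Q := act 3 n49601
theorem D51669 : act 3 n49601 = n51669 := rfl
theorem F231592 : act 1 n51669 = n49602 := d10_1 D51669 (iv D49602) (iv F222165)
theorem F231593 : act 2 n51669 = n50473 := d17_1 D51669 (iv D50473) F215934 (iv F212063) (iv F222166)
theorem F231594 : act 6 n51669 = n49604 := d26_2 (iv F222168) D51669 (iv D49604)
theorem F231595 : act 7 n51669 = n50374 := d27_2 (iv F222169) D51669 (iv D50374)
theorem F231596 : act 9 n51669 = n51669 := d29_2 F222170 D51669 (iv D51669)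
def n51670 : Q := act 4 n49602
theorem D51670 : act 4 n49602 = n51670 := rfl
theorem F231597 : act 3 n51670 = n51670 := d24_1 D51670 (iv D51670) (iv D49602) F211995 D49602
theorem F231598 : act 6 n51670 = n49605 := d31_2 (iv F222171) D51670 (iv D49605)
theorem F231599 : act 9 n51670 = n51670 := d34_2 F222172 D51670 (iv D51670)
def n51671 : Q := act 9 n49607
theorem D51671 : act 9 n49607 = n51671 := rfl
theorem F231600 : act 0 n51671 = n49609 := d8_1 D51671 (iv D49609) (iv F222189)
theorem F231601 : act 1 n51671 = n51671 := d16_1 D51671 (iv D51671) F222190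
theorem F231602 : act 3 n51671 = n49926 := d29_1 D51671 (iv D49926) (iv F222191)
theorem F231603 : act 4 n51671 = n49608 := d34_1 D51671 (iv D49608) D49607
theorem F231604 : act 5 n51671 = n51671 := d38_1 D51671 (iv D51671) F222192
theorem F231605 : act 6 n51671 = n50484 := d41_1 D51671 (iv D50484) (iv F222193)
theorem F231606 : act 7 n51671 = n49927 := d43_1 D51671 (iv D49927) (iv F222194)
def n51672 : Q := act 8 n49608
theorem D51672 : act 8 n49608 = n51672 := rfl
theorem F231607 : act 0 n51672 = n49610 := d7_1 D51672 (iv D49610) (iv F222196)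
theorem F231608 : act 1 n51672 = n51672 := d15_1 D51672 (iv D51672) F222197
theorem F231609 : act 3 n51672 = n50399 := d28_1 D51672 (iv D50399) F215738 (iv F215537) (iv F222198)
theorem F231610 : act 5 n51672 = n49613 := d37_1 D51672 (iv D49613) (iv F222199)
theorem F231611 : act 6 n51672 = n50485 := d40_1 D51672 (iv D50485) (iv F222200)
theorem F231612 : act 7 n51672 = n50338 := d42_1 D51672 (iv D50338) (iv F222201)
theorem F231613 : act 9 n51672 = n51672 := d44_2 D49608 D51672 (iv D51672) (iv D49608) F212025
def n51673 : Q := act 8 n49609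
theorem D51673 : act 8 n49609 = n51673 := rfl
theorem F231614 : act 1 n51673 = n49611 := d15_1 D51673 (iv D49611) (iv F222202)
theorem F231615 : act 3 n51673 = n50277 := d28_1 D51673 (iv D50277) (iv F223644) F223649 (iv F222203)
theorem F231616 : act 4 n51673 = n49610 := d33_1 D51673 (iv D49610) (iv F222204)
theorem F231617 : act 5 n51673 = n51673 := d37_1 D51673 (iv D51673) F222205
theorem F231618 : act 6 n51673 = n50487 := d40_1 D51673 (iv D50487) (iv F222206)
theorem F231619 : act 7 n51673 = n50373 := d42_1 D51673 (iv D50373) (iv F222207)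
theorem F231620 : act 9 n51673 = n51673 := d44_2 D49609 D51673 (iv D51673) (iv D49609) F212031
def n51674 : Q := act 9 n49617
theorem D51674 : act 9 n49617 = n51674 := rfl
theorem F231621 : act 0 n51674 = n50482 := d8_1 D51674 (iv D50482) (iv F222254)
theorem F231622 : act 1 n51674 = n51674 := d16_1 D51674 (iv D51674) F222255
theorem F231623 : act 2 n51674 = n49696 := d23_1 D51674 (iv D49696) (iv F222256)
theorem F231624 : act 3 n51674 = n50555 := d29_1 D51674 F226079 (iv F222257)
theorem F231625 : act 4 n51674 = n50481 := d34_1 D51674 (iv D50481) (iv F222258)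
theorem F231626 : act 5 n51674 = n49620 := d38_1 D51674 (iv D49620) (iv F222259)
theorem F231627 : act 6 n51674 = n49618 := d41_1 D51674 (iv D49618) D49617
theorem F231628 : act 7 n51674 = n50484 := d43_1 D51674 (iv D50484) (iv F222260)
def n51675 : Q := act 8 n49618
theorem D51675 : act 8 n49618 = n51675 := rfl
theorem F231629 : act 1 n51675 = n51675 := d15_1 D51675 (iv D51675) F222262
theorem F231630 : act 2 n51675 = n49697 := d22_1 D51675 (iv D49697) (iv F222263)
theorem F231631 : act 3 n51675 = n50724 := d28_1 D51675 (iv D50724) F216810 (iv F216778) (iv F222264)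
theorem F231632 : act 5 n51675 = n49619 := d37_1 D51675 (iv D49619) (iv F222265)
theorem F231633 : act 7 n51675 = n50716 := d42_1 D51675 (iv D50716) (iv F222266)
theorem F231634 : act 9 n51675 = n51675 := d44_2 D49618 D51675 (iv D51675) (iv D49618) F212135
def n51676 : Q := act 8 n49620
theorem D51676 : act 8 n49620 = n51676 := rfl
theorem F231635 : act 0 n51676 = n50102 := d7_1 D51676 F224496 (iv F222274)
theorem F231636 : act 1 n51676 = n51676 := d15_1 D51676 (iv D51676) F222275
theorem F231637 : act 2 n51676 = n49700 := d22_1 D51676 (iv D49700) (iv F222276)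
theorem F231638 : act 3 n51676 = n50101 := d28_1 D51676 (iv D50101) F214546 D48392 (iv F222277)
theorem F231639 : act 4 n51676 = n49622 := d33_1 D51676 (iv D49622) (iv F222278)
theorem F231640 : act 6 n51676 = n49621 := d40_1 D51676 (iv D49621) (iv F222279)
theorem F231641 : act 7 n51676 = n50775 := d42_1 D51676 (iv D50775) (iv F222280)
theorem F231642 : act 9 n51676 = n51676 := d44_2 D49620 D51676 (iv D51676) (iv D49620) F212152
def n51677 : Q := act 3 n49622
theorem D51677 : act 3 n49622 = n51677 := rfl
theorem F231643 : act 0 n51677 = n50774 := d2_1 D51677 (iv D50774) (iv F222289)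
theorem F231644 : act 1 n51677 = n51677 := d10_1 D51677 (iv D51677) F222290
theorem F231645 : act 2 n51677 = n50783 := d17_1 D51677 F227180 F227175 F219485 (iv F222291)
theorem F231646 : act 5 n51677 = n50779 := d25_2 (iv F222292) D51677 (iv D50779)
theorem F231647 : act 6 n51677 = n49623 := d26_2 (iv F222293) D51677 (iv D49623)
theorem F231648 : act 7 n51677 = n50776 := d27_2 (iv F222294) D51677 (iv D50776)
theorem F231649 : act 8 n51677 = n51677 := d28_2 D49622 D51677 (iv D51677) (iv D49622) F212169
theorem F231650 : act 9 n51677 = n51677 := d29_2 F222295 D51677 (iv D51677)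
def n51678 : Q := act 3 n49624
theorem D51678 : act 3 n49624 = n51678 := rfl
theorem F231651 : act 0 n51678 = n50236 := d2_1 D51678 F225055 (iv F222301)
theorem F231652 : act 1 n51678 = n49634 := d10_1 D51678 (iv D49634) (iv F222302)
theorem F231653 : act 5 n51678 = n49627 := d25_2 (iv F222304) D51678 (iv D49627)
theorem F231654 : act 7 n51678 = n49625 := d27_2 (iv F222305) D51678 (iv D49625)
theorem F231655 : act 8 n51678 = n50515 := d28_2 D49624 D51678 F225944 F216214 (iv F212194)
def n51679 : Q := act 9 n49624
theorem D51679 : act 9 n49624 = n51679 := rfl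
theorem F231656 : act 0 n51679 = n50252 := d8_1 D51679 (iv D50252) (iv F222301)
theorem F231657 : act 1 n51679 = n49635 := d16_1 D51679 (iv D49635) (iv F222302)
theorem F231658 : act 2 n51679 = n51679 := d23_1 D51679 (iv D51679) F222303
theorem F231659 : act 5 n51679 = n49628 := d38_1 D51679 (iv D49628) (iv F222304)
theorem F231660 : act 7 n51679 = n49626 := d43_1 D51679 (iv D49626) (iv F222305)
theorem F231661 : act 8 n51679 = n49720 := d44_1 D51679 (iv D49720) (iv D47508) (iv F212196) D49624
def n51680 : Q := act 2 n49625
theorem D51680 : act 2 n49625 = n51680 := rfl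
theorem F231662 : act 0 n51680 = n50232 := d1_1 D51680 F225043 (iv F222306)
theorem F231663 : act 1 n51680 = n49965 := d9_1 D51680 F223852 F214368 (iv F212247) (iv F222307)
theorem F231664 : act 3 n51680 = n51680 := d17_2 D49625 D51680 (iv D51680) (iv D49625) F212199
theorem F231665 : act 5 n51680 = n49629 := d19_2 (iv F222308) D51680 (iv D49629)
theorem F231666 : act 6 n51680 = n50136 := d20_2 (iv F222309) D51680 F224637
theorem F231667 : act 8 n51680 = n50070 := d22_2 (iv F222310) D51680 F224342
def n51681 : Q := act 4 n49625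
theorem D51681 : act 4 n49625 = n51681 := rfl
theorem F231668 : act 0 n51681 = n50216 := d3_1 D51681 F224980 (iv F222306)
theorem F231669 : act 1 n51681 = n49636 := d11_1 D51681 (iv D49636) (iv F222307)
theorem F231670 : act 6 n51681 = n50126 := d31_2 (iv F222309) D51681 F224598
theorem F231671 : act 8 n51681 = n50521 := d33_2 (iv F222310) D51681 (iv D50521)
def n51682 : Q := act 9 n49625
theorem D51682 : act 9 n49625 = n51682 := rfl
theorem F231672 : act 0 n51682 = n50237 := d8_1 D51682 (iv D50237) (iv F222306)
theorem F231673 : act 1 n51682 = n49637 := d16_1 D51682 (iv D49637) (iv F222307)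
theorem F231674 : act 3 n51682 = n49626 := d29_1 D51682 (iv D49626) D49625
theorem F231675 : act 5 n51682 = n49630 := d38_1 D51682 (iv D49630) (iv F222308)
theorem F231676 : act 6 n51682 = n50139 := d41_1 D51682 (iv D50139) (iv F222309)
def n51683 : Q := act 2 n49627
theorem D51683 : act 2 n49627 = n51683 := rfl
theorem F231677 : act 0 n51683 = n50245 := d1_1 D51683 F225093 (iv F222317)
theorem F231678 : act 1 n51683 = n49964 := d9_1 D51683 F223846 F214377 (iv F212257) (iv F222318)
theorem F231679 : act 3 n51683 = n51683 := d17_2 D49627 D51683 (iv D51683) (iv D49627) F212204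
theorem F231680 : act 4 n51683 = n49963 := d18_2 F228874 D51683 (iv F228872)
theorem F231681 : act 6 n51683 = n51683 := d20_2 F222319 D51683 (iv D51683)
theorem F231682 : act 7 n51683 = n49629 := d21_2 (iv F222320) D51683 (iv D49629)
theorem F231683 : act 8 n51683 = n50075 := d22_2 (iv F222321) D51683 F224360
def n51684 : Q := act 9 n49627
theorem D51684 : act 9 n49627 = n51684 := rfl
theorem F231684 : act 0 n51684 = n50250 := d8_1 D51684 (iv D50250) (iv F222317)
theorem F231685 : act 1 n51684 = n49639 := d16_1 D51684 (iv D49639) (iv F222318)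
theorem F231686 : act 3 n51684 = n49628 := d29_1 D51684 (iv D49628) D49627
theorem F231687 : act 6 n51684 = n51684 := d41_1 D51684 (iv D51684) F222319
theorem F231688 : act 7 n51684 = n49630 := d43_1 D51684 (iv D49630) (iv F222320)
def n51685 : Q := act 9 n49629
theorem D51685 : act 9 n49629 = n51685 := rfl
theorem F231689 : act 0 n51685 = n50246 := d8_1 D51685 (iv D50246) (iv F222329)
theorem F231690 : act 1 n51685 = n49917 := d16_1 D51685 F223572 (iv F222330)
theorem F231691 : act 2 n51685 = n49630 := d23_1 D51685 (iv D49630) D49629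
theorem F231692 : act 3 n51685 = n51685 := d29_1 D51685 (iv D51685) F222331
theorem F231693 : act 4 n51685 = n49916 := d34_1 D51685 F223567 (iv F222332)
theorem F231694 : act 6 n51685 = n49631 := d41_1 D51685 (iv D49631) (iv F222333)
def n51686 : Q := act 8 n49630
theorem D51686 : act 8 n49630 = n51686 := rfl
theorem F231695 : act 0 n51686 = n50251 := d7_1 D51686 (iv D50251) (iv F222335)
theorem F231696 : act 1 n51686 = n49642 := d15_1 D51686 (iv D49642) (iv F222336)
theorem F231697 : act 3 n51686 = n49727 := d28_1 D51686 (iv D49727) F212693 (iv F212217) (iv F222337)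
theorem F231698 : act 6 n51686 = n49632 := d40_1 D51686 (iv D49632) (iv F222338)
theorem F231699 : act 9 n51686 = n50539 := d44_2 D49630 D51686 (iv D50539) (iv D48361) (iv F212211)
def n51687 : Q := act 8 n49631
theorem D51687 : act 8 n49631 = n51687 := rfl
theorem F231700 : act 0 n51687 = n50247 := d7_1 D51687 (iv D50247) (iv F222339)
theorem F231701 : act 1 n51687 = n49873 := d15_1 D51687 F223370 (iv F222340)
theorem F231702 : act 2 n51687 = n49632 := d22_1 D51687 (iv D49632) (iv F222341)
theorem F231703 : act 4 n51687 = n49868 := d33_1 D51687 F223351 (iv F222343)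
theorem F231704 : act 5 n51687 = n50142 := d37_1 D51687 (iv D50142) (iv F222344)
theorem F231705 : act 7 n51687 = n51687 := d42_1 D51687 (iv D51687) F222345
theorem F231706 : act 9 n51687 = n50082 := d44_2 D49631 D51687 (iv D50082) (iv D47888) (iv F212224)
def n51688 : Q := act 3 n49633
theorem D51688 : act 3 n49633 = n51688 := rfl
theorem F231707 : act 0 n51688 = n49664 := d2_1 D51688 (iv D49664) (iv F222352)
theorem F231708 : act 2 n51688 = n50501 := d17_1 D51688 (iv D50501) F216083 (iv F212311) (iv F222353)
theorem F231709 : act 5 n51688 = n51688 := d25_2 F222354 D51688 (iv D51688)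
theorem F231710 : act 6 n51688 = n49634 := d26_2 (iv F222355) D51688 (iv D49634)
theorem F231711 : act 7 n51688 = n50492 := d27_2 (iv F222356) D51688 (iv D50492)
theorem F231712 : act 8 n51688 = n50512 := d28_2 D49633 D51688 F225937 F216206 (iv F212238)
def n51689 : Q := act 9 n49633
theorem D51689 : act 9 n49633 = n51689 := rfl
theorem F231713 : act 0 n51689 = n49665 := d8_1 D51689 (iv D49665) (iv F222352)
theorem F231714 : act 2 n51689 = n49649 := d23_1 D51689 (iv D49649) (iv F222353)
theorem F231715 : act 5 n51689 = n51689 := d38_1 D51689 (iv D51689) F222354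
theorem F231716 : act 6 n51689 = n49635 := d41_1 D51689 (iv D49635) (iv F222355)
theorem F231717 : act 7 n51689 = n50493 := d43_1 D51689 (iv D50493) (iv F222356)
theorem F231718 : act 8 n51689 = n49744 := d44_1 D51689 (iv D49744) (iv D47529) (iv F212241) D49633
def n51690 : Q := act 4 n49634
theorem D51690 : act 4 n49634 = n51690 := rfl
theorem F231719 : act 0 n51690 = n49667 := d3_1 D51690 (iv D49667) (iv F222357)
theorem F231720 : act 2 n51690 = n50503 := d18_1 D51690 (iv D50503) (iv F222358)
theorem F231721 : act 7 n51690 = n49636 := d32_2 (iv F222360) D51690 (iv D49636)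
theorem F231722 : act 8 n51690 = n50516 := d33_2 (iv F222361) D51690 (iv D50516)
def n51691 : Q := act 9 n49634
theorem D51691 : act 9 n49634 = n51691 := rfl
theorem F231723 : act 0 n51691 = n49668 := d8_1 D51691 (iv D49668) (iv F222357)
theorem F231724 : act 2 n51691 = n50504 := d23_1 D51691 (iv D50504) (iv F222358)
theorem F231725 : act 3 n51691 = n49635 := d29_1 D51691 (iv D49635) D49634
theorem F231726 : act 5 n51691 = n49639 := d38_1 D51691 (iv D49639) (iv F222359)
theorem F231727 : act 7 n51691 = n49637 := d43_1 D51691 (iv D49637) (iv F222360)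
def n51692 : Q := act 5 n49636
theorem D51692 : act 5 n49636 = n51692 := rfl
theorem F231728 : act 0 n51692 = n49672 := d4_1 D51692 (iv D49672) (iv F222367)
theorem F231729 : act 2 n51692 = n50505 := d19_1 D51692 (iv D50505) (iv F222368)
theorem F231730 : act 4 n51692 = n49640 := d30_1 D51692 (iv D49640) (iv D47425) (iv F212248) D49636
theorem F231731 : act 8 n51692 = n50524 := d37_2 (iv F222370) D51692 (iv D50524)
def n51693 : Q := act 9 n49636
theorem D51693 : act 9 n49636 = n51693 := rfl
theorem F231732 : act 0 n51693 = n49673 := d8_1 D51693 (iv D49673) (iv F222367)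
theorem F231733 : act 2 n51693 = n50506 := d23_1 D51693 (iv D50506) (iv F222368)
theorem F231734 : act 4 n51693 = n49637 := d34_1 D51693 (iv D49637) D49636
theorem F231735 : act 6 n51693 = n50496 := d41_1 D51693 (iv D50496) (iv F222369)
def n51694 : Q := act 8 n49637
theorem D51694 : act 8 n49637 = n51694 := rfl
theorem F231736 : act 0 n51694 = n49674 := d7_1 D51694 (iv D49674) (iv F222371)
theorem F231737 : act 2 n51694 = n50507 := d22_1 D51694 (iv D50507) (iv F222372)
theorem F231738 : act 3 n51694 = n49753 := d28_1 D51694 (iv D49753) F212787 (iv F212255) (iv F222373)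
theorem F231739 : act 5 n51694 = n49642 := d37_1 D51694 (iv D49642) (iv F222374)
theorem F231740 : act 6 n51694 = n50497 := d40_1 D51694 (iv D50497) (iv F222375)
theorem F231741 : act 9 n51694 = n50526 := d44_2 D49637 D51694 (iv D50526) (iv D48350) (iv F212250)
def n51695 : Q := act 9 n49638
theorem D51695 : act 9 n49638 = n51695 := rfl
theorem F231742 : act 0 n51695 = n49677 := d8_1 D51695 (iv D49677) (iv F222376)
theorem F231743 : act 2 n51695 = n50508 := d23_1 D51695 (iv D50508) (iv F222377)
theorem F231744 : act 3 n51695 = n49644 := d29_1 D51695 (iv D49644) (iv F222378)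
theorem F231745 : act 4 n51695 = n49639 := d34_1 D51695 (iv D49639) D49638
theorem F231746 : act 6 n51695 = n51695 := d41_1 D51695 (iv D51695) F222379
theorem F231747 : act 7 n51695 = n49641 := d43_1 D51695 (iv D49641) (iv F222380)
def n51696 : Q := act 8 n49639
theorem D51696 : act 8 n49639 = n51696 := rfl
theorem F231748 : act 0 n51696 = n49678 := d7_1 D51696 (iv D49678) (iv F222382)
theorem F231749 : act 2 n51696 = n50509 := d22_1 D51696 (iv D50509) (iv F222383)
theorem F231750 : act 3 n51696 = n49758 := d28_1 D51696 (iv D49758) F212801 (iv F212266) (iv F222384)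
theorem F231751 : act 6 n51696 = n51696 := d40_1 D51696 (iv D51696) F222385
theorem F231752 : act 7 n51696 = n49642 := d42_1 D51696 (iv D49642) (iv F222386)
theorem F231753 : act 9 n51696 = n50533 := d44_2 D49639 D51696 (iv D50533) (iv D48356) (iv F212260)
def n51697 : Q := act 9 n49640
theorem D51697 : act 9 n49640 = n51697 := rfl
theorem F231754 : act 0 n51697 = n49684 := d8_1 D51697 (iv D49684) (iv F222387)
theorem F231755 : act 2 n51697 = n50510 := d23_1 D51697 (iv D50510) (iv F222388)
theorem F231756 : act 3 n51697 = n49646 := d29_1 D51697 (iv D49646) (iv F222389)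
theorem F231757 : act 5 n51697 = n49641 := d38_1 D51697 (iv D49641) D49640
def n51698 : Q := act 8 n49641
theorem D51698 : act 8 n49641 = n51698 := rfl
theorem F231758 : act 0 n51698 = n49685 := d7_1 D51698 (iv D49685) (iv F222391)
theorem F231759 : act 2 n51698 = n50511 := d22_1 D51698 (iv D50511) (iv F222392)
theorem F231760 : act 4 n51698 = n49642 := d33_1 D51698 (iv D49642) (iv F222394)
theorem F231761 : act 6 n51698 = n49643 := d40_1 D51698 (iv D49643) (iv F222395)
theorem F231762 : act 9 n51698 = n50541 := d44_2 D49641 D51698 (iv D50541) (iv D48363) (iv F212271)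
def n51699 : Q := act 3 n49643
theorem D51699 : act 3 n49643 = n51699 := rfl
theorem F231763 : act 0 n51699 = n49691 := d2_1 D51699 (iv D49691) (iv F222401)
theorem F231764 : act 4 n51699 = n49767 := d24_2 (iv F222403) D51699 (iv D49767) F212841 (iv F212283)
theorem F231765 : act 7 n51699 = n51699 := d27_2 F222404 D51699 (iv D51699)
theorem F231766 : act 8 n51699 = n49648 := d28_2 D49643 D51699 (iv D49648) (iv D47434) (iv F212278)
theorem F231767 : act 9 n51699 = n50544 := d29_2 (iv F222405) D51699 (iv D50544)
def n51700 : Q := act 8 n49644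
theorem D51700 : act 8 n49644 = n51700 := rfl
theorem F231768 : act 0 n51700 = n49694 := d7_1 D51700 (iv D49694) (iv F222406)
theorem F231769 : act 2 n51700 = n50843 := d22_1 D51700 (iv D50843) (iv F222407)
theorem F231770 : act 4 n51700 = n49645 := d33_1 D51700 (iv D49645) (iv F222408)
theorem F231771 : act 6 n51700 = n51700 := d40_1 D51700 (iv D51700) F222409
theorem F231772 : act 7 n51700 = n49647 := d42_1 D51700 (iv D49647) (iv F222410)
theorem F231773 : act 9 n51700 = n51700 := d44_2 D49644 D51700 (iv D51700) (iv D49644) F212291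
def n51701 : Q := act 8 n49646
theorem D51701 : act 8 n49646 = n51701 := rfl
theorem F231774 : act 0 n51701 = n49697 := d7_1 D51701 (iv D49697) (iv F222416)
theorem F231775 : act 5 n51701 = n49647 := d37_1 D51701 (iv D49647) (iv F222417)
theorem F231776 : act 9 n51701 = n51701 := d44_2 D49646 D51701 (iv D51701) (iv D49646) F212297
def n51702 : Q := act 3 n49647
theorem D51702 : act 3 n49647 = n51702 := rfl
theorem F231777 : act 0 n51702 = n49698 := d2_1 D51702 (iv D49698) (iv F222418)
theorem F231778 : act 4 n51702 = n49772 := d24_2 (iv F222419) D51702 (iv D49772) F212862 (iv F212302)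
theorem F231779 : act 6 n51702 = n49648 := d26_2 (iv F222420) D51702 (iv D49648)
theorem F231780 : act 9 n51702 = n51702 := d29_2 F222421 D51702 (iv D51702)
def n51703 : Q := act 3 n49650
theorem D51703 : act 3 n49650 = n51703 := rfl
theorem F231781 : act 0 n51703 = n50548 := d2_1 D51703 (iv D50548) (iv F222433)
theorem F231782 : act 5 n51703 = n51703 := d25_2 F222436 D51703 (iv D51703)
theorem F231783 : act 7 n51703 = n49651 := d27_2 (iv F222437) D51703 (iv D49651)
def n51704 : Q := act 9 n49650
theorem D51704 : act 9 n49650 = n51704 := rfl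
theorem F231784 : act 0 n51704 = n50549 := d8_1 D51704 (iv D50549) (iv F222433)
theorem F231785 : act 2 n51704 = n49926 := d23_1 D51704 (iv D49926) (iv F222434)
theorem F231786 : act 4 n51704 = n49655 := d34_1 D51704 (iv D49655) (iv F222435)
theorem F231787 : act 5 n51704 = n51704 := d38_1 D51704 (iv D51704) F222436
theorem F231788 : act 7 n51704 = n49652 := d43_1 D51704 (iv D49652) (iv F222437)
theorem F231789 : act 8 n51704 = n49788 := d44_1 D51704 (iv D49788) (iv D47568) (iv F212325) D49650
def n51705 : Q := act 2 n49651
theorem D51705 : act 2 n49651 = n51705 := rfl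
theorem F231790 : act 0 n51705 = n50370 := d1_1 D51705 F225522 (iv F222438)
theorem F231791 : act 3 n51705 = n49692 := d17_2 D49651 D51705 F222620 (iv D47690) (iv F212327)
theorem F231792 : act 5 n51705 = n51705 := d19_2 F222439 D51705 (iv D51705)
theorem F231793 : act 6 n51705 = n49676 := d20_2 (iv F222440) D51705 F222547
def n51706 : Q := act 4 n49651
theorem D51706 : act 4 n49651 = n51706 := rfl
theorem F231794 : act 0 n51706 = n50523 := d3_1 D51706 F225965 (iv F222438)
theorem F231795 : act 3 n51706 = n49656 := d24_1 D51706 (iv D49656) (iv D47441) (iv F212328) D49651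
theorem F231796 : act 6 n51706 = n50499 := d31_2 (iv F222440) D51706 (iv D50499)
def n51707 : Q := act 9 n49651
theorem D51707 : act 9 n49651 = n51707 := rfl
theorem F231797 : act 0 n51707 = n50553 := d8_1 D51707 (iv D50553) (iv F222438)
theorem F231798 : act 3 n51707 = n49652 := d29_1 D51707 (iv D49652) D49651
theorem F231799 : act 5 n51707 = n51707 := d38_1 D51707 (iv D51707) F222439
theorem F231800 : act 6 n51707 = n50500 := d41_1 D51707 (iv D50500) (iv F222440)
def n51708 : Q := act 3 n49653
theorem D51708 : act 3 n49653 = n51708 := rfl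
theorem F231801 : act 0 n51708 = n50512 := d2_1 D51708 F225937 (iv F222447)
theorem F231802 : act 2 n51708 = n50492 := d17_1 D51708 (iv D50492) F216051 (iv F213452) (iv F222448)
theorem F231803 : act 5 n51708 = n51708 := d25_2 F222449 D51708 (iv D51708)
theorem F231804 : act 6 n51708 = n49654 := d26_2 (iv F222450) D51708 (iv D49654)
theorem F231805 : act 7 n51708 = n50501 := d27_2 (iv F222451) D51708 (iv D50501)
theorem F231806 : act 8 n51708 = n49664 := d28_2 D49653 D51708 (iv D49664) (iv D47449) (iv F212333)
def n51709 : Q := act 9 n49653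
theorem D51709 : act 9 n49653 = n51709 := rfl
theorem F231807 : act 0 n51709 = n50546 := d8_1 D51709 (iv D50546) (iv F222447)
theorem F231808 : act 2 n51709 = n49928 := d23_1 D51709 (iv D49928) (iv F222448)
theorem F231809 : act 5 n51709 = n51709 := d38_1 D51709 (iv D51709) F222449
theorem F231810 : act 6 n51709 = n49655 := d41_1 D51709 (iv D49655) (iv F222450)
theorem F231811 : act 7 n51709 = n50502 := d43_1 D51709 (iv D50502) (iv F222451)
theorem F231812 : act 8 n51709 = n49793 := d44_1 D51709 (iv D49793) (iv D47571) (iv F212336) D49653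
def n51710 : Q := act 4 n49654
theorem D51710 : act 4 n49654 = n51710 := rfl
theorem F231813 : act 0 n51710 = n50516 := d3_1 D51710 (iv D50516) (iv F222452)
theorem F231814 : act 2 n51710 = n50494 := d18_1 D51710 (iv D50494) (iv F222453)
theorem F231815 : act 7 n51710 = n49656 := d32_2 (iv F222455) D51710 (iv D49656)
theorem F231816 : act 8 n51710 = n49667 := d33_2 (iv F222456) D51710 (iv D49667)
def n51711 : Q := act 9 n49654
theorem D51711 : act 9 n49654 = n51711 := rfl
theorem F231817 : act 0 n51711 = n50517 := d8_1 D51711 (iv D50517) (iv F222452)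
theorem F231818 : act 2 n51711 = n50495 := d23_1 D51711 (iv D50495) (iv F222453)
theorem F231819 : act 3 n51711 = n49655 := d29_1 D51711 (iv D49655) D49654
theorem F231820 : act 5 n51711 = n49659 := d38_1 D51711 (iv D49659) (iv F222454)
theorem F231821 : act 7 n51711 = n49657 := d43_1 D51711 (iv D49657) (iv F222455)
def n51712 : Q := act 5 n49656
theorem D51712 : act 5 n49656 = n51712 := rfl
theorem F231822 : act 0 n51712 = n50524 := d4_1 D51712 (iv D50524) (iv F222462)
theorem F231823 : act 2 n51712 = n50106 := d19_1 D51712 F224520 (iv F222463)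
theorem F231824 : act 4 n51712 = n49660 := d30_1 D51712 (iv D49660) (iv D47445) (iv F212343) D49656
theorem F231825 : act 8 n51712 = n49672 := d37_2 (iv F222465) D51712 (iv D49672)
def n51713 : Q := act 9 n49656
theorem D51713 : act 9 n49656 = n51713 := rfl
theorem F231826 : act 0 n51713 = n50525 := d8_1 D51713 (iv D50525) (iv F222462)
theorem F231827 : act 2 n51713 = n50496 := d23_1 D51713 (iv D50496) (iv F222463)
theorem F231828 : act 4 n51713 = n49657 := d34_1 D51713 (iv D49657) D49656
theorem F231829 : act 6 n51713 = n50506 := d41_1 D51713 (iv D50506) (iv F222464)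
def n51714 : Q := act 8 n49657
theorem D51714 : act 8 n49657 = n51714 := rfl
theorem F231830 : act 0 n51714 = n50526 := d7_1 D51714 (iv D50526) (iv F222466)
theorem F231831 : act 2 n51714 = n50497 := d22_1 D51714 (iv D50497) (iv F222467)
theorem F231832 : act 3 n51714 = n49802 := d28_1 D51714 (iv D49802) F212976 (iv F212350) (iv F222468)
theorem F231833 : act 5 n51714 = n49662 := d37_1 D51714 (iv D49662) (iv F222469)
theorem F231834 : act 6 n51714 = n50507 := d40_1 D51714 (iv D50507) (iv F222470)
theorem F231835 : act 9 n51714 = n49674 := d44_2 D49657 D51714 (iv D49674) (iv D47454) (iv F212345)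
def n51715 : Q := act 5 n49658
theorem D51715 : act 5 n49658 = n51715 := rfl
theorem F231836 : act 0 n51715 = n50531 := d4_1 D51715 (iv D50531) (iv F222471)
theorem F231837 : act 2 n51715 = n50104 := d19_1 D51715 F224508 (iv F222472)
theorem F231838 : act 3 n51715 = n51715 := d25_1 D51715 (iv D51715) F222473
theorem F231839 : act 7 n51715 = n49660 := d36_2 (iv F222475) D51715 (iv D49660)
theorem F231840 : act 8 n51715 = n49676 := d37_2 (iv F222476) D51715 (iv D49676)
def n51716 : Q := act 9 n49658
theorem D51716 : act 9 n49658 = n51716 := rfl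
theorem F231841 : act 0 n51716 = n50532 := d8_1 D51716 (iv D50532) (iv F222471)
theorem F231842 : act 2 n51716 = n50108 := d23_1 D51716 (iv D50108) (iv F222472)
theorem F231843 : act 3 n51716 = n51716 := d29_1 D51716 (iv D51716) F222473
theorem F231844 : act 4 n51716 = n49659 := d34_1 D51716 (iv D49659) D49658
theorem F231845 : act 6 n51716 = n51716 := d41_1 D51716 (iv D51716) F222474
theorem F231846 : act 7 n51716 = n49661 := d43_1 D51716 (iv D49661) (iv F222475)
def n51717 : Q := act 8 n49659
theorem D51717 : act 8 n49659 = n51717 := rfl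
theorem F231847 : act 0 n51717 = n50533 := d7_1 D51717 (iv D50533) (iv F222477)
theorem F231848 : act 2 n51717 = n50498 := d22_1 D51717 (iv D50498) (iv F222478)
theorem F231849 : act 3 n51717 = n49808 := d28_1 D51717 (iv D49808) F212988 (iv F212361) (iv F222479)
theorem F231850 : act 6 n51717 = n51717 := d40_1 D51717 (iv D51717) F222480
theorem F231851 : act 7 n51717 = n49662 := d42_1 D51717 (iv D49662) (iv F222481)
theorem F231852 : act 9 n51717 = n49678 := d44_2 D49659 D51717 (iv D49678) (iv D47457) (iv F212355)
def n51718 : Q := act 9 n49660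
theorem D51718 : act 9 n49660 = n51718 := rfl
theorem F231853 : act 0 n51718 = n50540 := d8_1 D51718 (iv D50540) (iv F222482)
theorem F231854 : act 2 n51718 = n50107 := d23_1 D51718 (iv D50107) (iv F222483)
theorem F231855 : act 3 n51718 = n51718 := d29_1 D51718 (iv D51718) F222484
theorem F231856 : act 5 n51718 = n49661 := d38_1 D51718 (iv D49661) D49660
def n51719 : Q := act 8 n49661
theorem D51719 : act 8 n49661 = n51719 := rfl
theorem F231857 : act 0 n51719 = n50541 := d7_1 D51719 (iv D50541) (iv F222486)
theorem F231858 : act 2 n51719 = n50109 := d22_1 D51719 (iv D50109) (iv F222487)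
theorem F231859 : act 4 n51719 = n49662 := d33_1 D51719 (iv D49662) (iv F222489)
theorem F231860 : act 6 n51719 = n49663 := d40_1 D51719 (iv D49663) (iv F222490)
theorem F231861 : act 9 n51719 = n49685 := d44_2 D49661 D51719 (iv D49685) (iv D47462) (iv F212366)
def n51720 : Q := act 3 n49663
theorem D51720 : act 3 n49663 = n51720 := rfl
theorem F231862 : act 0 n51720 = n50544 := d2_1 D51720 (iv D50544) (iv F222496)
theorem F231863 : act 2 n51720 = n50248 := d17_1 D51720 (iv D50248) F215053 (iv F214619) (iv F222497)
theorem F231864 : act 4 n51720 = n49823 := d24_2 (iv F222498) D51720 (iv D49823) F213039 (iv F212378)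
theorem F231865 : act 7 n51720 = n51720 := d27_2 F222499 D51720 (iv D51720)
theorem F231866 : act 8 n51720 = n51720 := d28_2 D49663 D51720 (iv D51720) (iv D49663) F212373
theorem F231867 : act 9 n51720 = n49691 := d29_2 (iv F222500) D51720 (iv D49691)
def n51721 : Q := act 2 n49664
theorem D51721 : act 2 n49664 = n51721 := rfl
theorem F231868 : act 0 n51721 = n50501 := d1_1 D51721 (iv F231708) F231707
theorem F231869 : act 3 n51721 = n49704 := d17_2 D49664 D51721 (iv D49704) (iv D47482) (iv F212382)
theorem F231870 : act 5 n51721 = n51721 := d19_2 F222501 D51721 (iv D51721)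
theorem F231871 : act 6 n51721 = n49666 := d20_2 (iv F222502) D51721 (iv D49666)
theorem F231872 : act 7 n51721 = n50512 := d21_2 (iv F222503) D51721 (iv D50512)
theorem F231873 : act 8 n51721 = n50492 := d22_2 F231806 D51721 (iv F231802)
theorem F231874 : act 1 n49730 = n51721 := d15_3 F231873 (iv F230883) F230886
def n51722 : Q := act 4 n49664
theorem D51722 : act 4 n49664 = n51722 := rfl
theorem F231875 : act 6 n51722 = n49667 := d31_2 (iv F222502) D51722 (iv D49667)
theorem F231876 : act 7 n51722 = n50513 := d32_2 (iv F222503) D51722 (iv D50513)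
def n51723 : Q := act 9 n49664
theorem D51723 : act 9 n49664 = n51723 := rfl
theorem F231877 : act 3 n51723 = n49665 := d29_1 D51723 (iv D49665) D49664
theorem F231878 : act 5 n51723 = n51723 := d38_1 D51723 (iv D51723) F222501
theorem F231879 : act 6 n51723 = n49668 := d41_1 D51723 (iv D49668) (iv F222502)
theorem F231880 : act 7 n51723 = n50514 := d43_1 D51723 (iv D50514) (iv F222503)
def n51724 : Q := act 4 n49666
theorem D51724 : act 4 n49666 = n51724 := rfl
theorem F231881 : act 0 n51724 = n50503 := d3_1 D51724 (iv D50503) (iv F222509)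
theorem F231882 : act 1 n51724 = n50558 := d11_1 D51724 (iv D50558) (iv F222514)
theorem F231883 : act 2 n51724 = n49667 := d18_1 D51724 (iv D49667) D49666
theorem F231884 : act 3 n51724 = n50505 := d24_1 D51724 F225914 F216106 F212528 (iv F222510)
theorem F231885 : act 5 n51724 = n50499 := d30_2 (iv F222511) D51724 (iv D50499) F216078 F212407
theorem F231886 : act 7 n51724 = n49670 := d32_2 (iv F222512) D51724 (iv D49670)
theorem F231887 : act 8 n51724 = n50494 := d33_2 (iv F222513) D51724 (iv D50494)
def n51725 : Q := act 9 n49666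
theorem D51725 : act 9 n49666 = n51725 := rfl
theorem F231888 : act 0 n51725 = n50504 := d8_1 D51725 (iv D50504) (iv F222509)
theorem F231889 : act 1 n51725 = n50559 := d16_1 D51725 (iv D50559) (iv F222514)
theorem F231890 : act 2 n51725 = n49668 := d23_1 D51725 (iv D49668) D49666
theorem F231891 : act 3 n51725 = n49706 := d29_1 D51725 (iv D49706) (iv F222510)
theorem F231892 : act 5 n51725 = n49675 := d38_1 D51725 (iv D49675) (iv F222511)
theorem F231893 : act 7 n51725 = n49671 := d43_1 D51725 (iv D49671) (iv F222512)
def n51726 : Q := act 5 n49667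
theorem D51726 : act 5 n49667 = n51726 := rfl
theorem F231894 : act 2 n51726 = n50499 := d19_1 D51726 (iv F231885) F231883
theorem F231895 : act 4 n51726 = n49676 := d30_1 D51726 (iv D49676) (iv D47456) (iv F212386) D49667
theorem F231896 : act 7 n51726 = n49672 := d36_2 (iv F222515) D51726 (iv D49672)
def n51727 : Q := act 9 n49667
theorem D51727 : act 9 n49667 = n51727 := rfl
theorem F231897 : act 4 n51727 = n49668 := d34_1 D51727 (iv D49668) D49667
theorem F231898 : act 7 n51727 = n49673 := d43_1 D51727 (iv D49673) (iv F222515)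
def n51728 : Q := act 8 n49668
theorem D51728 : act 8 n49668 = n51728 := rfl
theorem F231899 : act 3 n51728 = n49832 := d28_1 D51728 (iv D49832) F213053 (iv F212391) (iv F222516)
theorem F231900 : act 5 n51728 = n49678 := d37_1 D51728 (iv D49678) (iv F222517)
theorem F231901 : act 7 n51728 = n49674 := d42_1 D51728 (iv D49674) (iv F222518)
def n51729 : Q := act 4 n49669
theorem D51729 : act 4 n49669 = n51729 := rfl
theorem F231902 : act 0 n51729 = n50179 := d3_1 D51729 F224840 (iv F222519)
theorem F231903 : act 1 n51729 = n49670 := d11_1 D51729 (iv D49670) D49669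
theorem F231904 : act 3 n51729 = n50560 := d24_1 D51729 (iv D50560) (iv D48398) F212548 (iv F222520)
theorem F231905 : act 5 n51729 = n50111 := d30_2 (iv F222521) D51729 (iv D50111) F214623 F212420
theorem F231906 : act 6 n51729 = n50521 := d31_2 (iv F222522) D51729 (iv D50521)
theorem F231907 : act 7 n51729 = n50558 := d32_2 (iv F222523) D51729 (iv D50558)
theorem F231908 : act 8 n51729 = n50126 := d33_2 (iv F222524) D51729 F224598
def n51730 : Q := act 9 n49669
theorem D51730 : act 9 n49669 = n51730 := rfl
theorem F231909 : act 0 n51730 = n50191 := d8_1 D51730 (iv D50191) (iv F222519)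
theorem F231910 : act 1 n51730 = n49671 := d16_1 D51730 (iv D49671) D49669
theorem F231911 : act 3 n51730 = n49708 := d29_1 D51730 (iv D49708) (iv F222520)
theorem F231912 : act 5 n51730 = n49679 := d38_1 D51730 (iv D49679) (iv F222521)
theorem F231913 : act 6 n51730 = n50522 := d41_1 D51730 (iv D50522) (iv F222522)
theorem F231914 : act 7 n51730 = n50559 := d43_1 D51730 (iv D50559) (iv F222523)
def n51731 : Q := act 3 n49670
theorem D51731 : act 3 n49670 = n51731 := rfl
theorem F231915 : act 0 n51731 = n50499 := d2_1 D51731 F225898 (iv F222525)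
theorem F231916 : act 1 n51731 = n50560 := d10_1 D51731 (iv F231904) F231903
theorem F231917 : act 4 n51731 = n49709 := d24_2 D49670 D51731 (iv D49709) (iv D47488) (iv F212393)
theorem F231918 : act 6 n51731 = n50523 := d26_2 (iv F222527) D51731 (iv D50523)
theorem F231919 : act 7 n51731 = n50505 := d27_2 F231886 D51731 (iv F231884)
theorem F231920 : act 5 n50503 = n51731 := d36_3 F231919 (iv D50505) (iv F225908)
theorem F231921 : act 8 n50518 = n51731 := d42_0 F231919 F225915 (iv F225955)
def n51732 : Q := act 5 n49670
theorem D51732 : act 5 n49670 = n51732 := rfl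
theorem F231922 : act 0 n51732 = n50505 := d4_1 D51732 (iv D50505) (iv F222525)
theorem F231923 : act 1 n51732 = n50111 := d12_1 D51732 (iv F231905) F231903
theorem F231924 : act 2 n51732 = n49672 := d19_1 D51732 (iv D49672) (iv F222526)
theorem F231925 : act 3 n51732 = n50503 := d25_1 D51732 F231920 (iv D51731)
theorem F231926 : act 4 n51732 = n49680 := d30_1 D51732 (iv D49680) (iv D47459) (iv F212394) D49670
theorem F231927 : act 7 n51732 = n50499 := d36_2 F231886 D51732 (iv F231885)
theorem F231928 : act 8 n51732 = n50106 := d37_2 (iv F222528) D51732 F224520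
def n51733 : Q := act 9 n49670
theorem D51733 : act 9 n49670 = n51733 := rfl
theorem F231929 : act 0 n51733 = n50506 := d8_1 D51733 (iv D50506) (iv F222525)
theorem F231930 : act 2 n51733 = n49673 := d23_1 D51733 (iv D49673) (iv F222526)
theorem F231931 : act 4 n51733 = n49671 := d34_1 D51733 (iv D49671) D49670
theorem F231932 : act 6 n51733 = n50525 := d41_1 D51733 (iv D50525) (iv F222527)
def n51734 : Q := act 8 n49671
theorem D51734 : act 8 n49671 = n51734 := rfl
theorem F231933 : act 0 n51734 = n50507 := d7_1 D51734 (iv D50507) (iv F222529)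
theorem F231934 : act 2 n51734 = n49674 := d22_1 D51734 (iv D49674) (iv F222530)
theorem F231935 : act 3 n51734 = n50563 := d28_1 D51734 (iv D50563) F216324 (iv F212560) (iv F222531)
theorem F231936 : act 5 n51734 = n49682 := d37_1 D51734 (iv D49682) (iv F222532)
theorem F231937 : act 6 n51734 = n50526 := d40_1 D51734 (iv D50526) (iv F222533)
theorem F231938 : act 9 n51734 = n50497 := d44_2 D49671 D51734 (iv D50497) (iv D48326) (iv F212396)
def n51735 : Q := act 6 n49672
theorem D51735 : act 6 n49672 = n51735 := rfl
theorem F231939 : act 1 n51735 = n49751 := d13_1 D51735 (iv F228267) F228265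
theorem F231940 : act 4 n51735 = n49683 := d31_1 D51735 (iv D49683) (iv F222534)
theorem F231941 : act 5 n51735 = n49722 := d35_1 D51735 F222772 (iv D48351) (iv F212397) D49672
def n51736 : Q := act 9 n49672
theorem D51736 : act 9 n49672 = n51736 := rfl
theorem F231942 : act 4 n51736 = n49684 := d34_1 D51736 (iv D49684) (iv F222534)
theorem F231943 : act 5 n51736 = n49673 := d38_1 D51736 (iv D49673) D49672
def n51737 : Q := act 8 n49673
theorem D51737 : act 8 n49673 = n51737 := rfl
theorem F231944 : act 4 n51737 = n49674 := d33_1 D51737 (iv D49674) (iv F222535)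
theorem F231945 : act 6 n51737 = n50528 := d40_1 D51737 (iv D50528) (iv F222536)
def n51738 : Q := act 8 n49675
theorem D51738 : act 8 n49675 = n51738 := rfl
theorem F231946 : act 0 n51738 = n50509 := d7_1 D51738 (iv D50509) (iv F222540)
theorem F231947 : act 1 n51738 = n50839 := d15_1 D51738 (iv D50839) (iv F222541)
theorem F231948 : act 2 n51738 = n49678 := d22_1 D51738 (iv D49678) (iv F222542)
theorem F231949 : act 3 n51738 = n50564 := d28_1 D51738 (iv D50564) F216327 (iv F212573) (iv F222543)
theorem F231950 : act 4 n51738 = n50837 := d33_1 D51738 (iv D50837) (iv F222544)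
theorem F231951 : act 6 n51738 = n51738 := d40_1 D51738 (iv D51738) F222545
theorem F231952 : act 7 n51738 = n49682 := d42_1 D51738 (iv D49682) (iv F222546)
theorem F231953 : act 9 n51738 = n50498 := d44_2 D49675 D51738 (iv D50498) (iv D48327) (iv F212405)
def n51739 : Q := act 9 n49676
theorem D51739 : act 9 n49676 = n51739 := rfl
theorem F231954 : act 2 n51739 = n50500 := d23_1 D51739 (iv D50500) (iv F222547)
theorem F231955 : act 3 n51739 = n49693 := d29_1 D51739 (iv D49693) (iv F222548)
theorem F231956 : act 5 n51739 = n49677 := d38_1 D51739 (iv D49677) D49676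
theorem F231957 : act 7 n51739 = n49684 := d43_1 D51739 (iv D49684) (iv F222549)
def n51740 : Q := act 8 n49677
theorem D51740 : act 8 n49677 = n51740 := rfl
theorem F231958 : act 2 n51740 = n50837 := d22_1 D51740 (iv D50837) (iv F222550)
theorem F231959 : act 4 n51740 = n49678 := d33_1 D51740 (iv D49678) (iv F222552)
theorem F231960 : act 6 n51740 = n51740 := d40_1 D51740 (iv D51740) F222553
theorem F231961 : act 7 n51740 = n49685 := d42_1 D51740 (iv D49685) (iv F222554)
def n51741 : Q := act 8 n49679
theorem D51741 : act 8 n49679 = n51741 := rfl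
theorem F231962 : act 0 n51741 = n50192 := d7_1 D51741 (iv D50192) (iv F222558)
theorem F231963 : act 1 n51741 = n49682 := d15_1 D51741 (iv D49682) (iv F222559)
theorem F231964 : act 3 n51741 = n50511 := d28_1 D51741 (iv D50511) F216109 (iv F212580) (iv F222560)
theorem F231965 : act 4 n51741 = n50116 := d33_1 D51741 (iv D50116) (iv F222561)
theorem F231966 : act 6 n51741 = n49686 := d40_1 D51741 (iv D49686) (iv F222562)
theorem F231967 : act 7 n51741 = n50839 := d42_1 D51741 (iv D50839) (iv F222563)
theorem F231968 : act 9 n51741 = n50140 := d44_2 D49679 D51741 (iv D50140) (iv D47944) (iv F212419)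
def n51742 : Q := act 9 n49680
theorem D51742 : act 9 n49680 = n51742 := rfl
theorem F231969 : act 0 n51742 = n50510 := d8_1 D51742 (iv D50510) (iv F222564)
theorem F231970 : act 1 n51742 = n50112 := d16_1 D51742 (iv D50112) (iv F222565)
theorem F231971 : act 2 n51742 = n49684 := d23_1 D51742 (iv D49684) (iv F222566)
theorem F231972 : act 3 n51742 = n50103 := d29_1 D51742 (iv D50103) (iv F222567)
theorem F231973 : act 5 n51742 = n49681 := d38_1 D51742 (iv D49681) D49680
theorem F231974 : act 7 n51742 = n50500 := d43_1 D51742 (iv D50500) (iv F222568)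
def n51743 : Q := act 8 n49681
theorem D51743 : act 8 n49681 = n51743 := rfl
theorem F231975 : act 0 n51743 = n50511 := d7_1 D51743 (iv D50511) (iv F222570)
theorem F231976 : act 1 n51743 = n50116 := d15_1 D51743 (iv D50116) (iv F222571)
theorem F231977 : act 2 n51743 = n49685 := d22_1 D51743 (iv D49685) (iv F222572)
theorem F231978 : act 3 n51743 = n50192 := d28_1 D51743 (iv D50192) F214902 (iv F214584) (iv F222573)
theorem F231979 : act 4 n51743 = n49682 := d33_1 D51743 (iv D49682) (iv F222574)
theorem F231980 : act 6 n51743 = n49687 := d40_1 D51743 (iv D49687) (iv F222575)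
theorem F231981 : act 7 n51743 = n50837 := d42_1 D51743 (iv D50837) (iv F222576)
theorem F231982 : act 9 n51743 = n50109 := d44_2 D49681 D51743 (iv D50109) (iv D47921) (iv F212427)
def n51744 : Q := act 7 n49683
theorem D51744 : act 7 n49683 = n51744 := rfl
theorem F231983 : act 0 n51744 = n50465 := d6_1 D51744 (iv F228657) F228652
theorem F231984 : act 1 n51744 = n49756 := d14_1 D51744 F222924 (iv F222582)
theorem F231985 : act 3 n51744 = n49695 := d27_1 D51744 (iv D49695) (iv F222583)
theorem F231986 : act 5 n51744 = n49688 := d36_1 D51744 (iv D49688) (iv F222584)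
def n51745 : Q := act 9 n49683
theorem D51745 : act 9 n49683 = n51745 := rfl
theorem F231987 : act 1 n51745 = n49763 := d16_1 D51745 (iv D49763) (iv F222582)
theorem F231988 : act 3 n51745 = n49696 := d29_1 D51745 (iv D49696) (iv F222583)
theorem F231989 : act 5 n51745 = n49689 := d38_1 D51745 (iv D49689) (iv F222584)
theorem F231990 : act 6 n51745 = n49684 := d41_1 D51745 (iv D49684) D49683
def n51746 : Q := act 8 n49684
theorem D51746 : act 8 n49684 = n51746 := rfl
theorem F231991 : act 5 n51746 = n49685 := d37_1 D51746 (iv D49685) (iv F222586)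
def n51747 : Q := act 3 n49685
theorem D51747 : act 3 n49685 = n51747 := rfl
theorem F231992 : act 4 n51747 = n49863 := d24_2 (iv F222587) D51747 (iv D49863) F213109 (iv F212436)
theorem F231993 : act 6 n51747 = n49691 := d26_2 (iv F222588) D51747 (iv D49691)
theorem F231994 : act 8 n51747 = n49698 := d28_2 D49685 D51747 (iv D49698) (iv D47475) (iv F212433)
def n51748 : Q := act 9 n49688
theorem D51748 : act 9 n49688 = n51748 := rfl
theorem F231995 : act 0 n51748 = n50764 := d8_1 D51748 (iv D50764) (iv F222603)
theorem F231996 : act 1 n51748 = n49757 := d16_1 D51748 (iv D49757) (iv F222604)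
theorem F231997 : act 3 n51748 = n49699 := d29_1 D51748 (iv D49699) (iv F222605)
theorem F231998 : act 4 n51748 = n49725 := d34_1 D51748 (iv D49725) (iv F222606)
theorem F231999 : act 6 n51748 = n51748 := d41_1 D51748 (iv D51748) F222607
theorem F232000 : act 7 n51748 = n49689 := d43_1 D51748 (iv D49689) D49688
def n51749 : Q := act 8 n49689
theorem D51749 : act 8 n49689 = n51749 := rfl
theorem F232001 : act 1 n51749 = n49764 := d15_1 D51749 (iv D49764) (iv F222608)
theorem F232002 : act 4 n51749 = n49727 := d33_1 D51749 (iv D49727) (iv F222610)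
theorem F232003 : act 6 n51749 = n49690 := d40_1 D51749 (iv D49690) (iv F222611)
def n51750 : Q := act 3 n49690
theorem D51750 : act 3 n49690 = n51750 := rfl
theorem F232004 : act 1 n51750 = n49767 := d10_1 D51750 (iv D49767) (iv F222612)
theorem F232005 : act 5 n51750 = n49691 := d25_2 (iv F222614) D51750 (iv D49691)
theorem F232006 : act 7 n51750 = n51750 := d27_2 F222615 D51750 (iv D51750)
theorem F232007 : act 8 n51750 = n49701 := d28_2 D49690 D51750 (iv D49701) (iv D47478) (iv F212460)
def n51751 : Q := act 2 n49691
theorem D51751 : act 2 n49691 = n51751 := rfl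
theorem F232008 : act 3 n51751 = n50195 := d17_2 D49691 D51751 F224912 (iv F222599) F222598
theorem F232009 : act 4 n51751 = n49877 := d18_2 (iv F222616) D51751 (iv D49877)
theorem F232010 : act 7 n51751 = n51751 := d21_2 F222617 D51751 (iv D51751)
theorem F232011 : act 8 n51751 = n49702 := d22_2 (iv F222618) D51751 (iv D49702)
theorem F232012 : act 9 n51751 = n50248 := d23_2 F231867 D51751 (iv F231863)
def n51752 : Q := act 9 n49692
theorem D51752 : act 9 n49692 = n51752 := rfl
theorem F232013 : act 0 n51752 = n50371 := d8_1 D51752 (iv D50371) (iv F222619)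
theorem F232014 : act 2 n51752 = n49927 := d23_1 D51752 (iv D49927) (iv F222620)
theorem F232015 : act 4 n51752 = n50337 := d34_1 D51752 (iv D50337) (iv F222621)
theorem F232016 : act 5 n51752 = n51752 := d38_1 D51752 (iv D51752) F222622
theorem F232017 : act 6 n51752 = n49693 := d41_1 D51752 (iv D49693) D49692
def n51753 : Q := act 8 n49693
theorem D51753 : act 8 n49693 = n51753 := rfl
theorem F232018 : act 2 n51753 = n50716 := d22_1 D51753 (iv D50716) (iv F222624)
theorem F232019 : act 5 n51753 = n49694 := d37_1 D51753 (iv D49694) (iv F222625)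
theorem F232020 : act 7 n51753 = n49697 := d42_1 D51753 (iv D49697) (iv F222626)
theorem F232021 : act 9 n51753 = n51753 := d44_2 D49693 D51753 (iv D51753) (iv D49693) F212468
def n51754 : Q := act 3 n49694
theorem D51754 : act 3 n49694 = n51754 := rfl
theorem F232022 : act 2 n51754 = n50847 := d17_1 D51754 (iv D50847) F217558 (iv F217536) (iv F222627)
theorem F232023 : act 4 n51754 = n49881 := d24_2 (iv F222628) D51754 (iv D49881) F213164 (iv F212473)
theorem F232024 : act 6 n51754 = n51754 := d26_2 F222629 D51754 (iv D51754)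
theorem F232025 : act 7 n51754 = n49698 := d27_2 (iv F222630) D51754 (iv D49698)
theorem F232026 : act 9 n51754 = n51754 := d29_2 F222631 D51754 (iv D51754)
def n51755 : Q := act 9 n49695
theorem D51755 : act 9 n49695 = n51755 := rfl
theorem F232027 : act 0 n51755 = n50466 := d8_1 D51755 (iv D50466) (iv F222632)
theorem F232028 : act 1 n51755 = n49769 := d16_1 D51755 (iv D49769) (iv F222633)
theorem F232029 : act 2 n51755 = n50484 := d23_1 D51755 (iv D50484) (iv F222634)
theorem F232030 : act 4 n51755 = n50464 := d34_1 D51755 (iv D50464) (iv F222635)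
theorem F232031 : act 5 n51755 = n49699 := d38_1 D51755 (iv D49699) (iv F222636)
theorem F232032 : act 7 n51755 = n49696 := d43_1 D51755 (iv D49696) D49695
def n51756 : Q := act 8 n49696
theorem D51756 : act 8 n49696 = n51756 := rfl
theorem F232033 : act 1 n51756 = n49771 := d15_1 D51756 (iv D49771) (iv F222638)
theorem F232034 : act 5 n51756 = n49700 := d37_1 D51756 (iv D49700) (iv F222639)
theorem F232035 : act 6 n51756 = n49697 := d40_1 D51756 (iv D49697) (iv F222640)
theorem F232036 : act 9 n51756 = n51756 := d44_2 D49696 D51756 (iv D51756) (iv D49696) F212479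
def n51757 : Q := act 3 n49697
theorem D51757 : act 3 n49697 = n51757 := rfl
theorem F232037 : act 5 n51757 = n49698 := d25_2 (iv F222641) D51757 (iv D49698)
theorem F232038 : act 9 n51757 = n51757 := d29_2 F222642 D51757 (iv D51757)
def n51758 : Q := act 2 n49698
theorem D51758 : act 2 n49698 = n51758 := rfl
theorem F232039 : act 3 n51758 = n50845 := d17_2 D49698 D51758 F227073 (iv F222269) F222268
theorem F232040 : act 4 n51758 = n49885 := d18_2 (iv F222643) D51758 (iv D49885)
theorem F232041 : act 6 n51758 = n49702 := d20_2 (iv F222644) D51758 (iv D49702)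
theorem F232042 : act 7 n51758 = n50847 := d21_2 F232025 D51758 (iv F232022)
theorem F232043 : act 9 n51758 = n51758 := d23_2 F222645 D51758 (iv D51758)
def n51759 : Q := act 8 n49699
theorem D51759 : act 8 n49699 = n51759 := rfl
theorem F232044 : act 0 n51759 = n50765 := d7_1 D51759 (iv D50765) (iv F222646)
theorem F232045 : act 1 n51759 = n49770 := d15_1 D51759 (iv D49770) (iv F222647)
theorem F232046 : act 2 n51759 = n50775 := d22_1 D51759 (iv D50775) (iv F222648)
theorem F232047 : act 4 n51759 = n49703 := d33_1 D51759 (iv D49703) (iv F222649)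
theorem F232048 : act 6 n51759 = n51759 := d40_1 D51759 (iv D51759) F222650
theorem F232049 : act 7 n51759 = n49700 := d42_1 D51759 (iv D49700) (iv F222651)
theorem F232050 : act 9 n51759 = n51759 := d44_2 D49699 D51759 (iv D51759) (iv D49699) F212489
def n51760 : Q := act 3 n49700
theorem D51760 : act 3 n49700 = n51760 := rfl
theorem F232051 : act 1 n51760 = n49772 := d10_1 D51760 (iv D49772) (iv F222652)
theorem F232052 : act 6 n51760 = n49701 := d26_2 (iv F222654) D51760 (iv D49701)
theorem F232053 : act 9 n51760 = n51760 := d29_2 F222655 D51760 (iv D51760)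
def n51761 : Q := act 9 n49704
theorem D51761 : act 9 n49704 = n51761 := rfl
theorem F232054 : act 0 n51761 = n50502 := d8_1 D51761 (iv D50502) (iv F222670)
theorem F232055 : act 1 n51761 = n49731 := d16_1 D51761 (iv D49731) (iv F222671)
theorem F232056 : act 2 n51761 = n49705 := d23_1 D51761 (iv D49705) D49704
theorem F232057 : act 4 n51761 = n49713 := d34_1 D51761 (iv D49713) (iv F222672)
theorem F232058 : act 5 n51761 = n51761 := d38_1 D51761 (iv D51761) F222673
theorem F232059 : act 6 n51761 = n49706 := d41_1 D51761 (iv D49706) (iv F222674)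
theorem F232060 : act 7 n51761 = n50546 := d43_1 D51761 (iv D50546) (iv F222675)
theorem F232061 : act 8 n51761 = n50552 := d44_1 D51761 (iv D50552) F216237 (iv F212636) (iv F222676)
def n51762 : Q := act 9 n49709
theorem D51762 : act 9 n49709 = n51762 := rfl
theorem F232062 : act 0 n51762 = n50500 := d8_1 D51762 (iv D50500) (iv F222708)
theorem F232063 : act 1 n51762 = n50561 := d16_1 D51762 (iv D50561) (iv F222709)
theorem F232064 : act 3 n51762 = n49710 := d29_1 D51762 (iv D49710) D49709
theorem F232065 : act 5 n51762 = n50508 := d38_1 D51762 (iv D50508) (iv F222710)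
theorem F232066 : act 6 n51762 = n50553 := d41_1 D51762 (iv D50553) (iv F222711)
theorem F232067 : act 7 n51762 = n50510 := d43_1 D51762 (iv D50510) (iv F222712)
def n51763 : Q := act 3 n49711
theorem D51763 : act 3 n49711 = n51763 := rfl
theorem F232068 : act 1 n51763 = n49733 := d10_1 D51763 (iv D49733) (iv F222722)
theorem F232069 : act 2 n51763 = n50465 := d17_1 D51763 (iv D50465) F215912 D48308 (iv F222723)
theorem F232070 : act 5 n51763 = n49714 := d25_2 (iv F222725) D51763 (iv D49714)
theorem F232071 : act 6 n51763 = n50548 := d26_2 (iv F222726) D51763 (iv D50548)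
theorem F232072 : act 7 n51763 = n49712 := d27_2 (iv F222727) D51763 (iv D49712)
theorem F232073 : act 8 n51763 = n49719 := d28_2 D49711 D51763 (iv D49719) (iv D47508) (iv F212640)
def n51764 : Q := act 9 n49711
theorem D51764 : act 9 n49711 = n51764 := rfl
theorem F232074 : act 1 n51764 = n49734 := d16_1 D51764 (iv D49734) (iv F222722)
theorem F232075 : act 2 n51764 = n50486 := d23_1 D51764 (iv D50486) (iv F222723)
theorem F232076 : act 4 n51764 = n50546 := d34_1 D51764 (iv D50546) (iv F222724)
theorem F232077 : act 5 n51764 = n49715 := d38_1 D51764 (iv D49715) (iv F222725)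
theorem F232078 : act 6 n51764 = n50549 := d41_1 D51764 (iv D50549) (iv F222726)
theorem F232079 : act 7 n51764 = n49713 := d43_1 D51764 (iv D49713) (iv F222727)
theorem F232080 : act 8 n51764 = n50547 := d44_1 D51764 (iv D50547) F216214 (iv F212644) D49711
def n51765 : Q := act 4 n49712
theorem D51765 : act 4 n49712 = n51765 := rfl
theorem F232081 : act 1 n51765 = n49735 := d11_1 D51765 (iv D49735) (iv F222728)
theorem F232082 : act 6 n51765 = n50505 := d31_2 (iv F222730) D51765 F225914
theorem F232083 : act 8 n51765 = n49722 := d33_2 (iv F222731) D51765 (iv D49722)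
def n51766 : Q := act 9 n49712
theorem D51766 : act 9 n49712 = n51766 := rfl
theorem F232084 : act 1 n51766 = n49736 := d16_1 D51766 (iv D49736) (iv F222728)
theorem F232085 : act 3 n51766 = n49713 := d29_1 D51766 (iv D49713) D49712
theorem F232086 : act 5 n51766 = n49716 := d38_1 D51766 (iv D49716) (iv F222729)
theorem F232087 : act 6 n51766 = n50510 := d41_1 D51766 (iv D50510) (iv F222730)
def n51767 : Q := act 9 n49714
theorem D51767 : act 9 n49714 = n51767 := rfl
theorem F232088 : act 1 n51767 = n49738 := d16_1 D51767 (iv D49738) (iv F222737)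
theorem F232089 : act 2 n51767 = n50764 := d23_1 D51767 (iv D50764) (iv F222738)
theorem F232090 : act 3 n51767 = n49715 := d29_1 D51767 (iv D49715) D49714
theorem F232091 : act 6 n51767 = n51767 := d41_1 D51767 (iv D51767) F222739
theorem F232092 : act 7 n51767 = n49716 := d43_1 D51767 (iv D49716) (iv F222740)
def n51768 : Q := act 8 n49716
theorem D51768 : act 8 n49716 = n51768 := rfl
theorem F232093 : act 1 n51768 = n49741 := d15_1 D51768 (iv D49741) (iv F222748)
theorem F232094 : act 3 n51768 = n50539 := d28_1 D51768 (iv D50539) F216170 (iv F212661) (iv F222749)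
theorem F232095 : act 6 n51768 = n49717 := d40_1 D51768 (iv D49717) (iv F222750)
theorem F232096 : act 9 n51768 = n49727 := d44_2 D49716 D51768 (iv D49727) (iv D47514) (iv F212656)
def n51769 : Q := act 3 n49718
theorem D51769 : act 3 n49718 = n51769 := rfl
theorem F232097 : act 1 n51769 = n49743 := d10_1 D51769 (iv D49743) (iv F222756)
theorem F232098 : act 5 n51769 = n51769 := d25_2 F222758 D51769 (iv D51769)
theorem F232099 : act 6 n51769 = n49719 := d26_2 (iv F222759) D51769 (iv D49719)
theorem F232100 : act 7 n51769 = n50534 := d27_2 (iv F222760) D51769 F225997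
theorem F232101 : act 8 n51769 = n50548 := d28_2 D49718 D51769 (iv D50548) F216218 (iv F212668)
def n51770 : Q := act 9 n49718
theorem D51770 : act 9 n49718 = n51770 := rfl
theorem F232102 : act 1 n51770 = n49744 := d16_1 D51770 (iv D49744) (iv F222756)
theorem F232103 : act 2 n51770 = n51770 := d23_1 D51770 (iv D51770) F222757
theorem F232104 : act 5 n51770 = n51770 := d38_1 D51770 (iv D51770) F222758
theorem F232105 : act 6 n51770 = n49720 := d41_1 D51770 (iv D49720) (iv F222759)
theorem F232106 : act 7 n51770 = n50545 := d43_1 D51770 (iv D50545) (iv F222760)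
def n51771 : Q := act 2 n49719
theorem D51771 : act 2 n49719 = n51771 := rfl
theorem F232107 : act 1 n51771 = n50468 := d9_1 D51771 F225789 F222880 (iv D49745) (iv F222761)
theorem F232108 : act 3 n51771 = n51771 := d17_2 D49719 D51771 (iv D51771) (iv D49719) F212672
theorem F232109 : act 5 n51771 = n49724 := d19_2 (iv F222762) D51771 (iv D49724)
theorem F232110 : act 7 n51771 = n49721 := d21_2 (iv F222763) D51771 (iv D49721)
theorem F232111 : act 8 n51771 = n50465 := d22_2 F232073 D51771 (iv F232069)
def n51772 : Q := act 4 n49719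
theorem D51772 : act 4 n49719 = n51772 := rfl
theorem F232112 : act 1 n51772 = n49746 := d11_1 D51772 (iv D49746) (iv F222761)
theorem F232113 : act 7 n51772 = n49722 := d32_2 (iv F222763) D51772 (iv D49722)
def n51773 : Q := act 9 n49719
theorem D51773 : act 9 n49719 = n51773 := rfl
theorem F232114 : act 1 n51773 = n49747 := d16_1 D51773 (iv D49747) (iv F222761)
theorem F232115 : act 3 n51773 = n49720 := d29_1 D51773 (iv D49720) D49719
theorem F232116 : act 5 n51773 = n49725 := d38_1 D51773 (iv D49725) (iv F222762)
theorem F232117 : act 7 n51773 = n49723 := d43_1 D51773 (iv D49723) (iv F222763)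
def n51774 : Q := act 4 n49721
theorem D51774 : act 4 n49721 = n51774 := rfl
theorem F232118 : act 2 n51774 = n49722 := d18_1 D51774 (iv D49722) D49721
theorem F232119 : act 6 n51774 = n50524 := d31_2 (iv F222770) D51774 F225967
def n51775 : Q := act 9 n49721
theorem D51775 : act 9 n49721 = n51775 := rfl
theorem F232120 : act 2 n51775 = n49723 := d23_1 D51775 (iv D49723) D49721
theorem F232121 : act 3 n51775 = n51775 := d29_1 D51775 (iv D51775) F222768
theorem F232122 : act 5 n51775 = n49726 := d38_1 D51775 (iv D49726) (iv F222769)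
theorem F232123 : act 6 n51775 = n50540 := d41_1 D51775 (iv D50540) (iv F222770)
def n51776 : Q := act 9 n49722
theorem D51776 : act 9 n49722 = n51776 := rfl
theorem F232124 : act 1 n51776 = n49752 := d16_1 D51776 (iv D49752) (iv F222771)
theorem F232125 : act 4 n51776 = n49723 := d34_1 D51776 (iv D49723) D49722
theorem F232126 : act 6 n51776 = n50527 := d41_1 D51776 (iv D50527) (iv F222772)
def n51777 : Q := act 8 n49723
theorem D51777 : act 8 n49723 = n51777 := rfl
theorem F232127 : act 1 n51777 = n49753 := d15_1 D51777 (iv D49753) (iv F222773)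
theorem F232128 : act 5 n51777 = n49727 := d37_1 D51777 (iv D49727) (iv F222775)
theorem F232129 : act 6 n51777 = n50542 := d40_1 D51777 (iv D50542) (iv F222776)
def n51778 : Q := act 9 n49724
theorem D51778 : act 9 n49724 = n51778 := rfl
theorem F232130 : act 1 n51778 = n50766 := d16_1 D51778 (iv D50766) (iv F222777)
theorem F232131 : act 2 n51778 = n49725 := d23_1 D51778 (iv D49725) D49724
theorem F232132 : act 3 n51778 = n51778 := d29_1 D51778 (iv D51778) F222778
theorem F232133 : act 6 n51778 = n51778 := d41_1 D51778 (iv D51778) F222779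
theorem F232134 : act 7 n51778 = n49726 := d43_1 D51778 (iv D49726) (iv F222780)
def n51779 : Q := act 8 n49725
theorem D51779 : act 8 n49725 = n51779 := rfl
theorem F232135 : act 1 n51779 = n49758 := d15_1 D51779 (iv D49758) (iv F222782)
theorem F232136 : act 6 n51779 = n51779 := d40_1 D51779 (iv D51779) F222784
theorem F232137 : act 7 n51779 = n49727 := d42_1 D51779 (iv D49727) (iv F222785)
def n51780 : Q := act 8 n49726
theorem D51780 : act 8 n49726 = n51780 := rfl
theorem F232138 : act 2 n51780 = n49727 := d22_1 D51780 (iv D49727) (iv F222786)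
theorem F232139 : act 6 n51780 = n49728 := d40_1 D51780 (iv D49728) (iv F222788)
def n51781 : Q := act 3 n49728
theorem D51781 : act 3 n49728 = n51781 := rfl
theorem F232140 : act 5 n51781 = n50544 := d25_2 (iv F222792) D51781 (iv D50544)
theorem F232141 : act 7 n51781 = n51781 := d27_2 F222793 D51781 (iv D51781)
theorem F232142 : act 8 n51781 = n51781 := d28_2 D49728 D51781 (iv D51781) (iv D49728) F212696
def n51782 : Q := act 3 n49729
theorem D51782 : act 3 n49729 = n51782 := rfl
theorem F232143 : act 0 n51782 = n49787 := d2_1 D51782 (iv D49787) (iv F222794)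
theorem F232144 : act 1 n51782 = n50512 := d10_1 D51782 F225937 (iv F222795)
theorem F232145 : act 2 n51782 = n50261 := d17_1 D51782 (iv D50261) F215115 F213468 (iv F222796)
theorem F232146 : act 5 n51782 = n51782 := d25_2 F222798 D51782 (iv D51782)
theorem F232147 : act 6 n51782 = n50515 := d26_2 (iv F222799) D51782 F225944
theorem F232148 : act 7 n51782 = n49730 := d27_2 (iv F222800) D51782 (iv D49730)
def n51783 : Q := act 9 n49729
theorem D51783 : act 9 n49729 = n51783 := rfl
theorem F232149 : act 0 n51783 = n49788 := d8_1 D51783 (iv D49788) (iv F222794)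
theorem F232150 : act 1 n51783 = n50546 := d16_1 D51783 (iv D50546) (iv F222795)
theorem F232151 : act 2 n51783 = n49929 := d23_1 D51783 (iv D49929) (iv F222796)
theorem F232152 : act 4 n51783 = n49734 := d34_1 D51783 (iv D49734) (iv F222797)
theorem F232153 : act 5 n51783 = n51783 := d38_1 D51783 (iv D51783) F222798
theorem F232154 : act 6 n51783 = n50547 := d41_1 D51783 (iv D50547) (iv F222799)
theorem F232155 : act 7 n51783 = n49731 := d43_1 D51783 (iv D49731) (iv F222800)
theorem F232156 : act 8 n51783 = n50549 := d44_1 D51783 (iv D50549) F216218 (iv F212708) D49729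
def n51784 : Q := act 2 n49730
theorem D51784 : act 2 n49730 = n51784 := rfl
theorem F232157 : act 0 n51784 = n49789 := d1_1 D51784 (iv D49789) (iv F222801)
theorem F232158 : act 1 n51784 = n50256 := d9_1 D51784 (iv F228223) F228222 D51721 (iv F231874)
theorem F232159 : act 3 n51784 = n49930 := d17_2 D49730 D51784 (iv D49930) (iv D47695) (iv F212710)
theorem F232160 : act 5 n51784 = n51784 := d19_2 F222802 D51784 (iv D51784)
theorem F232161 : act 6 n51784 = n50557 := d20_2 (iv F222803) D51784 (iv D50557)
theorem F232162 : act 7 n51784 = n50261 := d21_2 F232148 D51784 (iv F232145)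
def n51785 : Q := act 4 n49730
theorem D51785 : act 4 n49730 = n51785 := rfl
theorem F232163 : act 0 n51785 = n49790 := d3_1 D51785 (iv D49790) (iv F222801)
theorem F232164 : act 3 n51785 = n49735 := d24_1 D51785 (iv D49735) (iv D47521) (iv F212711) D49730
theorem F232165 : act 6 n51785 = n50558 := d31_2 (iv F222803) D51785 (iv D50558)
def n51786 : Q := act 9 n49730
theorem D51786 : act 9 n49730 = n51786 := rfl
theorem F232166 : act 0 n51786 = n49791 := d8_1 D51786 (iv D49791) (iv F222801)
theorem F232167 : act 3 n51786 = n49731 := d29_1 D51786 (iv D49731) D49730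
theorem F232168 : act 5 n51786 = n51786 := d38_1 D51786 (iv D51786) F222802
theorem F232169 : act 6 n51786 = n50559 := d41_1 D51786 (iv D50559) (iv F222803)
def n51787 : Q := act 3 n49732
theorem D51787 : act 3 n49732 = n51787 := rfl
theorem F232170 : act 0 n51787 = n49792 := d2_1 D51787 (iv D49792) (iv F222810)
theorem F232171 : act 1 n51787 = n50548 := d10_1 D51787 (iv D50548) (iv F222811)
theorem F232172 : act 2 n51787 = n49904 := d17_1 D51787 (iv D49904) F213239 D47676 (iv F222812)
theorem F232173 : act 5 n51787 = n51787 := d25_2 F222814 D51787 (iv D51787)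
theorem F232174 : act 6 n51787 = n49733 := d26_2 (iv F222815) D51787 (iv D49733)
theorem F232175 : act 7 n51787 = n50551 := d27_2 (iv F222816) D51787 (iv D50551)
theorem F232176 : act 8 n51787 = n49743 := d28_2 D49732 D51787 (iv D49743) (iv D47529) (iv F212717)
def n51788 : Q := act 9 n49732
theorem D51788 : act 9 n49732 = n51788 := rfl
theorem F232177 : act 0 n51788 = n49793 := d8_1 D51788 (iv D49793) (iv F222810)
theorem F232178 : act 1 n51788 = n50549 := d16_1 D51788 (iv D50549) (iv F222811)
theorem F232179 : act 2 n51788 = n49921 := d23_1 D51788 (iv D49921) (iv F222812)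
theorem F232180 : act 4 n51788 = n50547 := d34_1 D51788 (iv D50547) (iv F222813)
theorem F232181 : act 5 n51788 = n51788 := d38_1 D51788 (iv D51788) F222814
theorem F232182 : act 6 n51788 = n49734 := d41_1 D51788 (iv D49734) (iv F222815)
theorem F232183 : act 7 n51788 = n50552 := d43_1 D51788 (iv D50552) (iv F222816)
theorem F232184 : act 8 n51788 = n50546 := d44_1 D51788 (iv D50546) F216206 (iv F212721) D49732
def n51789 : Q := act 4 n49733
theorem D51789 : act 4 n49733 = n51789 := rfl
theorem F232185 : act 0 n51789 = n49795 := d3_1 D51789 (iv D49795) (iv F222817)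
theorem F232186 : act 2 n51789 = n50658 := d18_1 D51789 F226397 (iv F222818)
theorem F232187 : act 7 n51789 = n49735 := d32_2 (iv F222820) D51789 (iv D49735)
theorem F232188 : act 8 n51789 = n49746 := d33_2 (iv F222821) D51789 (iv D49746)
def n51790 : Q := act 9 n49733
theorem D51790 : act 9 n49733 = n51790 := rfl
theorem F232189 : act 0 n51790 = n49796 := d8_1 D51790 (iv D49796) (iv F222817)
theorem F232190 : act 2 n51790 = n50710 := d23_1 D51790 F226544 (iv F222818)
theorem F232191 : act 3 n51790 = n49734 := d29_1 D51790 (iv D49734) D49733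
theorem F232192 : act 5 n51790 = n49738 := d38_1 D51790 (iv D49738) (iv F222819)
theorem F232193 : act 7 n51790 = n49736 := d43_1 D51790 (iv D49736) (iv F222820)
def n51791 : Q := act 5 n49735
theorem D51791 : act 5 n49735 = n51791 := rfl
theorem F232194 : act 0 n51791 = n49800 := d4_1 D51791 (iv D49800) (iv F222827)
theorem F232195 : act 2 n51791 = n50743 := d19_1 D51791 (iv D50743) (iv F222828)
theorem F232196 : act 4 n51791 = n49739 := d30_1 D51791 (iv D49739) (iv D47525) (iv F212728) D49735
theorem F232197 : act 8 n51791 = n49751 := d37_2 (iv F222830) D51791 (iv D49751)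
def n51792 : Q := act 9 n49735
theorem D51792 : act 9 n49735 = n51792 := rfl
theorem F232198 : act 0 n51792 = n49801 := d8_1 D51792 (iv D49801) (iv F222827)
theorem F232199 : act 2 n51792 = n50713 := d23_1 D51792 F226548 (iv F222828)
theorem F232200 : act 4 n51792 = n49736 := d34_1 D51792 (iv D49736) D49735
theorem F232201 : act 6 n51792 = n50562 := d41_1 D51792 (iv D50562) (iv F222829)
def n51793 : Q := act 8 n49736
theorem D51793 : act 8 n49736 = n51793 := rfl
theorem F232202 : act 0 n51793 = n49802 := d7_1 D51793 (iv D49802) (iv F222831)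
theorem F232203 : act 2 n51793 = n50668 := d22_1 D51793 F226418 (iv F222832)
theorem F232204 : act 3 n51793 = n50526 := d28_1 D51793 (iv D50526) F216136 (iv F212735) (iv F222833)
theorem F232205 : act 5 n51793 = n49741 := d37_1 D51793 (iv D49741) (iv F222834)
theorem F232206 : act 6 n51793 = n50563 := d40_1 D51793 (iv D50563) (iv F222835)
theorem F232207 : act 9 n51793 = n49753 := d44_2 D49736 D51793 (iv D49753) (iv D47534) (iv F212730)
def n51794 : Q := act 5 n49737
theorem D51794 : act 5 n49737 = n51794 := rfl
theorem F232208 : act 0 n51794 = n49806 := d4_1 D51794 (iv D49806) (iv F222836)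
theorem F232209 : act 2 n51794 = n50744 := d19_1 D51794 (iv D50744) (iv F222837)
theorem F232210 : act 3 n51794 = n51794 := d25_1 D51794 (iv D51794) F222838
theorem F232211 : act 7 n51794 = n49739 := d36_2 (iv F222840) D51794 (iv D49739)
theorem F232212 : act 8 n51794 = n49756 := d37_2 (iv F222841) D51794 (iv D49756)
def n51795 : Q := act 9 n49737
theorem D51795 : act 9 n49737 = n51795 := rfl
theorem F232213 : act 0 n51795 = n49807 := d8_1 D51795 (iv D49807) (iv F222836)
theorem F232214 : act 2 n51795 = n50714 := d23_1 D51795 F226553 (iv F222837)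
theorem F232215 : act 3 n51795 = n51795 := d29_1 D51795 (iv D51795) F222838
theorem F232216 : act 4 n51795 = n49738 := d34_1 D51795 (iv D49738) D49737
theorem F232217 : act 6 n51795 = n51795 := d41_1 D51795 (iv D51795) F222839
theorem F232218 : act 7 n51795 = n49740 := d43_1 D51795 (iv D49740) (iv F222840)
def n51796 : Q := act 8 n49738
theorem D51796 : act 8 n49738 = n51796 := rfl
theorem F232219 : act 0 n51796 = n49808 := d7_1 D51796 (iv D49808) (iv F222842)
theorem F232220 : act 2 n51796 = n50680 := d22_1 D51796 F226455 (iv F222843)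
theorem F232221 : act 3 n51796 = n50533 := d28_1 D51796 (iv D50533) F216151 (iv F212746) (iv F222844)
theorem F232222 : act 6 n51796 = n51796 := d40_1 D51796 (iv D51796) F222845
theorem F232223 : act 7 n51796 = n49741 := d42_1 D51796 (iv D49741) (iv F222846)
theorem F232224 : act 9 n51796 = n49758 := d44_2 D49738 D51796 (iv D49758) (iv D47537) (iv F212740)
def n51797 : Q := act 9 n49739
theorem D51797 : act 9 n49739 = n51797 := rfl
theorem F232225 : act 0 n51797 = n49814 := d8_1 D51797 (iv D49814) (iv F222847)
theorem F232226 : act 2 n51797 = n50715 := d23_1 D51797 F226555 (iv F222848)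
theorem F232227 : act 3 n51797 = n51797 := d29_1 D51797 (iv D51797) F222849
theorem F232228 : act 5 n51797 = n49740 := d38_1 D51797 (iv D49740) D49739
def n51798 : Q := act 8 n49740
theorem D51798 : act 8 n49740 = n51798 := rfl
theorem F232229 : act 0 n51798 = n49815 := d7_1 D51798 (iv D49815) (iv F222851)
theorem F232230 : act 2 n51798 = n50695 := d22_1 D51798 F226497 (iv F222852)
theorem F232231 : act 4 n51798 = n49741 := d33_1 D51798 (iv D49741) (iv F222854)
theorem F232232 : act 6 n51798 = n49742 := d40_1 D51798 (iv D49742) (iv F222855)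
theorem F232233 : act 9 n51798 = n49764 := d44_2 D49740 D51798 (iv D49764) (iv D47542) (iv F212751)
def n51799 : Q := act 3 n49742
theorem D51799 : act 3 n49742 = n51799 := rfl
theorem F232234 : act 0 n51799 = n49823 := d2_1 D51799 (iv D49823) (iv F222861)
theorem F232235 : act 4 n51799 = n50544 := d24_2 (iv F222863) D51799 (iv D50544) F216194 (iv F212763)
theorem F232236 : act 7 n51799 = n51799 := d27_2 F222864 D51799 (iv D51799)
theorem F232237 : act 8 n51799 = n51799 := d28_2 D49742 D51799 (iv D51799) (iv D49742) F212758
theorem F232238 : act 9 n51799 = n49767 := d29_2 (iv F222865) D51799 (iv D49767)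
def n51800 : Q := act 2 n49743
theorem D51800 : act 2 n49743 = n51800 := rfl
theorem F232239 : act 0 n51800 = n49824 := d1_1 D51800 (iv D49824) (iv F222866)
theorem F232240 : act 3 n51800 = n49774 := d17_2 D49743 D51800 (iv D49774) (iv D47554) (iv F212768)
theorem F232241 : act 5 n51800 = n51800 := d19_2 F222867 D51800 (iv D51800)
theorem F232242 : act 6 n51800 = n49745 := d20_2 (iv F222868) D51800 (iv D49745)
theorem F232243 : act 7 n51800 = n50565 := d21_2 (iv F222869) D51800 (iv D50565)
theorem F232244 : act 8 n51800 = n49904 := d22_2 F232176 D51800 (iv F232172)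
theorem F232245 : act 1 n49907 = n51800 := d15_3 F232244 F223503 D49907
def n51801 : Q := act 4 n49743
theorem D51801 : act 4 n49743 = n51801 := rfl
theorem F232246 : act 0 n51801 = n49825 := d3_1 D51801 (iv D49825) (iv F222866)
theorem F232247 : act 6 n51801 = n49746 := d31_2 (iv F222868) D51801 (iv D49746)
theorem F232248 : act 7 n51801 = n50566 := d32_2 (iv F222869) D51801 (iv D50566)
def n51802 : Q := act 9 n49743
theorem D51802 : act 9 n49743 = n51802 := rfl
theorem F232249 : act 0 n51802 = n49826 := d8_1 D51802 (iv D49826) (iv F222866)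
theorem F232250 : act 3 n51802 = n49744 := d29_1 D51802 (iv D49744) D49743
theorem F232251 : act 5 n51802 = n51802 := d38_1 D51802 (iv D51802) F222867
theorem F232252 : act 6 n51802 = n49747 := d41_1 D51802 (iv D49747) (iv F222868)
theorem F232253 : act 7 n51802 = n50567 := d43_1 D51802 (iv D50567) (iv F222869)
def n51803 : Q := act 4 n49745
theorem D51803 : act 4 n49745 = n51803 := rfl
theorem F232254 : act 0 n51803 = n49828 := d3_1 D51803 (iv D49828) (iv F222875)
theorem F232255 : act 1 n51803 = n50663 := d11_1 D51803 F226407 F222880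
theorem F232256 : act 2 n51803 = n49746 := d18_1 D51803 (iv D49746) D49745
theorem F232257 : act 7 n51803 = n49749 := d32_2 (iv F222878) D51803 (iv D49749)
theorem F232258 : act 8 n51803 = n50658 := d33_2 (iv F222879) D51803 F226397
def n51804 : Q := act 9 n49745
theorem D51804 : act 9 n49745 = n51804 := rfl
theorem F232259 : act 0 n51804 = n49829 := d8_1 D51804 (iv D49829) (iv F222875)
theorem F232260 : act 1 n51804 = n50711 := d16_1 D51804 (iv D50711) F222880
theorem F232261 : act 2 n51804 = n49747 := d23_1 D51804 (iv D49747) D49745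
theorem F232262 : act 3 n51804 = n49778 := d29_1 D51804 (iv D49778) (iv F222876)
theorem F232263 : act 5 n51804 = n49755 := d38_1 D51804 (iv D49755) (iv F222877)
theorem F232264 : act 7 n51804 = n49750 := d43_1 D51804 (iv D49750) (iv F222878)
def n51805 : Q := act 5 n49746
theorem D51805 : act 5 n49746 = n51805 := rfl
theorem F232265 : act 0 n51805 = n49830 := d4_1 D51805 (iv D49830) (iv F222881)
theorem F232266 : act 4 n51805 = n49756 := d30_1 D51805 (iv D49756) (iv D47536) (iv F212773) D49746
theorem F232267 : act 7 n51805 = n49751 := d36_2 (iv F222882) D51805 (iv D49751)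
def n51806 : Q := act 9 n49746
theorem D51806 : act 9 n49746 = n51806 := rfl
theorem F232268 : act 0 n51806 = n49831 := d8_1 D51806 (iv D49831) (iv F222881)
theorem F232269 : act 4 n51806 = n49747 := d34_1 D51806 (iv D49747) D49746
theorem F232270 : act 7 n51806 = n49752 := d43_1 D51806 (iv D49752) (iv F222882)
def n51807 : Q := act 8 n49747
theorem D51807 : act 8 n49747 = n51807 := rfl
theorem F232271 : act 0 n51807 = n49832 := d7_1 D51807 (iv D49832) (iv F222883)
theorem F232272 : act 5 n51807 = n49758 := d37_1 D51807 (iv D49758) (iv F222885)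
theorem F232273 : act 7 n51807 = n49753 := d42_1 D51807 (iv D49753) (iv F222886)
def n51808 : Q := act 4 n49748
theorem D51808 : act 4 n49748 = n51808 := rfl
theorem F232274 : act 1 n51808 = n49749 := d11_1 D51808 (iv D49749) D49748
theorem F232275 : act 6 n51808 = n50574 := d31_2 (iv F222889) D51808 (iv D50574)
theorem F232276 : act 7 n51808 = n50663 := d32_2 (iv F222890) D51808 F226407
theorem F232277 : act 8 n51808 = n50649 := d33_2 (iv F222891) D51808 F226375
def n51809 : Q := act 9 n49748
theorem D51809 : act 9 n49748 = n51809 := rfl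
theorem F232278 : act 1 n51809 = n49750 := d16_1 D51809 (iv D49750) D49748
theorem F232279 : act 3 n51809 = n49782 := d29_1 D51809 (iv D49782) (iv F222887)
theorem F232280 : act 5 n51809 = n49759 := d38_1 D51809 (iv D49759) (iv F222888)
theorem F232281 : act 6 n51809 = n50575 := d41_1 D51809 (iv D50575) (iv F222889)
theorem F232282 : act 7 n51809 = n50711 := d43_1 D51809 (iv D50711) (iv F222890)
def n51810 : Q := act 3 n49749
theorem D51810 : act 3 n49749 = n51810 := rfl
theorem F232283 : act 0 n51810 = n49836 := d2_1 D51810 (iv D49836) (iv F222892)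
theorem F232284 : act 4 n51810 = n49783 := d24_2 D49749 D51810 (iv D49783) (iv D47560) (iv F212780)
theorem F232285 : act 6 n51810 = n50576 := d26_2 (iv F222894) D51810 (iv D50576)
def n51811 : Q := act 5 n49749
theorem D51811 : act 5 n49749 = n51811 := rfl
theorem F232286 : act 0 n51811 = n49837 := d4_1 D51811 (iv D49837) (iv F222892)
theorem F232287 : act 2 n51811 = n49751 := d19_1 D51811 (iv D49751) (iv F222893)
theorem F232288 : act 4 n51811 = n49760 := d30_1 D51811 (iv D49760) (iv D47539) (iv F212781) D49749
theorem F232289 : act 8 n51811 = n50743 := d37_2 (iv F222895) D51811 (iv D50743)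
def n51812 : Q := act 9 n49749
theorem D51812 : act 9 n49749 = n51812 := rfl
theorem F232290 : act 0 n51812 = n49838 := d8_1 D51812 (iv D49838) (iv F222892)
theorem F232291 : act 2 n51812 = n49752 := d23_1 D51812 (iv D49752) (iv F222893)
theorem F232292 : act 4 n51812 = n49750 := d34_1 D51812 (iv D49750) D49749
theorem F232293 : act 6 n51812 = n50577 := d41_1 D51812 (iv D50577) (iv F222894)
def n51813 : Q := act 8 n49750
theorem D51813 : act 8 n49750 = n51813 := rfl
theorem F232294 : act 0 n51813 = n49839 := d7_1 D51813 (iv D49839) (iv F222896)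
theorem F232295 : act 2 n51813 = n49753 := d22_1 D51813 (iv D49753) (iv F222897)
theorem F232296 : act 3 n51813 = n50614 := d28_1 D51813 (iv D50614) F216480 (iv F212909) (iv F222898)
theorem F232297 : act 5 n51813 = n49762 := d37_1 D51813 (iv D49762) (iv F222899)
theorem F232298 : act 6 n51813 = n50578 := d40_1 D51813 (iv D50578) (iv F222900)
theorem F232299 : act 9 n51813 = n50668 := d44_2 D49750 D51813 F226418 F216745 (iv F212783)
def n51814 : Q := act 9 n49751
theorem D51814 : act 9 n49751 = n51814 := rfl
theorem F232300 : act 0 n51814 = n49841 := d8_1 D51814 (iv D49841) (iv F222901)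
theorem F232301 : act 4 n51814 = n49763 := d34_1 D51814 (iv D49763) (iv F222902)
theorem F232302 : act 5 n51814 = n49752 := d38_1 D51814 (iv D49752) D49751
def n51815 : Q := act 8 n49752
theorem D51815 : act 8 n49752 = n51815 := rfl
theorem F232303 : act 0 n51815 = n49842 := d7_1 D51815 (iv D49842) (iv F222903)
theorem F232304 : act 4 n51815 = n49753 := d33_1 D51815 (iv D49753) (iv F222904)
theorem F232305 : act 6 n51815 = n50579 := d40_1 D51815 (iv D50579) (iv F222905)
def n51816 : Q := act 5 n49754
theorem D51816 : act 5 n49754 = n51816 := rfl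
theorem F232306 : act 0 n51816 = n49846 := d4_1 D51816 (iv D49846) (iv F222909)
theorem F232307 : act 1 n51816 = n50804 := d12_1 D51816 F226923 (iv F222910)
theorem F232308 : act 2 n51816 = n49756 := d19_1 D51816 (iv D49756) (iv F222911)
theorem F232309 : act 3 n51816 = n51816 := d25_1 D51816 (iv D51816) F222912
theorem F232310 : act 7 n51816 = n49760 := d36_2 (iv F222914) D51816 (iv D49760)
theorem F232311 : act 8 n51816 = n50744 := d37_2 (iv F222915) D51816 (iv D50744)
def n51817 : Q := act 9 n49754
theorem D51817 : act 9 n49754 = n51817 := rfl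
theorem F232312 : act 0 n51817 = n49847 := d8_1 D51817 (iv D49847) (iv F222909)
theorem F232313 : act 1 n51817 = n50806 := d16_1 D51817 (iv D50806) (iv F222910)
theorem F232314 : act 2 n51817 = n49757 := d23_1 D51817 (iv D49757) (iv F222911)
theorem F232315 : act 3 n51817 = n51817 := d29_1 D51817 (iv D51817) F222912
theorem F232316 : act 4 n51817 = n49755 := d34_1 D51817 (iv D49755) D49754
theorem F232317 : act 6 n51817 = n51817 := d41_1 D51817 (iv D51817) F222913
theorem F232318 : act 7 n51817 = n49761 := d43_1 D51817 (iv D49761) (iv F222914)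
def n51818 : Q := act 8 n49755
theorem D51818 : act 8 n49755 = n51818 := rfl
theorem F232319 : act 0 n51818 = n49848 := d7_1 D51818 (iv D49848) (iv F222916)
theorem F232320 : act 1 n51818 = n50836 := d15_1 D51818 (iv D50836) (iv F222917)
theorem F232321 : act 2 n51818 = n49758 := d22_1 D51818 (iv D49758) (iv F222918)
theorem F232322 : act 3 n51818 = n50622 := d28_1 D51818 (iv D50622) F216497 (iv F212922) (iv F222919)
theorem F232323 : act 6 n51818 = n51818 := d40_1 D51818 (iv D51818) F222920
theorem F232324 : act 7 n51818 = n49762 := d42_1 D51818 (iv D49762) (iv F222921)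
theorem F232325 : act 9 n51818 = n50680 := d44_2 D49755 D51818 F226455 F216755 (iv F212794)
def n51819 : Q := act 6 n49756
theorem D51819 : act 6 n49756 = n51819 := rfl
theorem F232326 : act 0 n51819 = n49849 := d5_1 D51819 (iv D49849) (iv F222922)
theorem F232327 : act 3 n51819 = n49768 := d26_1 D51819 (iv D49768) (iv F222923)
theorem F232328 : act 5 n51819 = n51819 := d35_1 D51819 (iv D51819) (iv D49756) F212798 D49756
def n51820 : Q := act 9 n49756
theorem D51820 : act 9 n49756 = n51820 := rfl
theorem F232329 : act 0 n51820 = n49850 := d8_1 D51820 (iv D49850) (iv F222922)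
theorem F232330 : act 3 n51820 = n49769 := d29_1 D51820 (iv D49769) (iv F222923)
theorem F232331 : act 5 n51820 = n49757 := d38_1 D51820 (iv D49757) D49756
theorem F232332 : act 7 n51820 = n49763 := d43_1 D51820 (iv D49763) (iv F222924)
def n51821 : Q := act 8 n49757
theorem D51821 : act 8 n49757 = n51821 := rfl
theorem F232333 : act 0 n51821 = n49851 := d7_1 D51821 (iv D49851) (iv F222925)
theorem F232334 : act 4 n51821 = n49758 := d33_1 D51821 (iv D49758) (iv F222927)
theorem F232335 : act 6 n51821 = n51821 := d40_1 D51821 (iv D51821) F222928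
theorem F232336 : act 7 n51821 = n49764 := d42_1 D51821 (iv D49764) (iv F222929)
def n51822 : Q := act 8 n49759
theorem D51822 : act 8 n49759 = n51822 := rfl
theorem F232337 : act 1 n51822 = n49762 := d15_1 D51822 (iv D49762) (iv F222933)
theorem F232338 : act 3 n51822 = n50627 := d28_1 D51822 (iv D50627) F216516 (iv F212934) (iv F222934)
theorem F232339 : act 6 n51822 = n49765 := d40_1 D51822 (iv D49765) (iv F222935)
theorem F232340 : act 7 n51822 = n50836 := d42_1 D51822 (iv D50836) (iv F222936)
theorem F232341 : act 9 n51822 = n50690 := d44_2 D49759 D51822 F226484 F216765 (iv F212807)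
def n51823 : Q := act 9 n49760
theorem D51823 : act 9 n49760 = n51823 := rfl
theorem F232342 : act 0 n51823 = n49857 := d8_1 D51823 (iv D49857) (iv F222937)
theorem F232343 : act 2 n51823 = n49763 := d23_1 D51823 (iv D49763) (iv F222938)
theorem F232344 : act 3 n51823 = n51823 := d29_1 D51823 (iv D51823) F222939
theorem F232345 : act 5 n51823 = n49761 := d38_1 D51823 (iv D49761) D49760
def n51824 : Q := act 8 n49761
theorem D51824 : act 8 n49761 = n51824 := rfl
theorem F232346 : act 0 n51824 = n49858 := d7_1 D51824 (iv D49858) (iv F222941)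
theorem F232347 : act 2 n51824 = n49764 := d22_1 D51824 (iv D49764) (iv F222942)
theorem F232348 : act 4 n51824 = n49762 := d33_1 D51824 (iv D49762) (iv F222944)
theorem F232349 : act 6 n51824 = n49766 := d40_1 D51824 (iv D49766) (iv F222945)
theorem F232350 : act 9 n51824 = n50695 := d44_2 D49761 D51824 F226497 F216768 (iv F212812)
def n51825 : Q := act 8 n49763
theorem D51825 : act 8 n49763 = n51825 := rfl
theorem F232351 : act 0 n51825 = n49862 := d7_1 D51825 (iv D49862) (iv F222951)
theorem F232352 : act 5 n51825 = n49764 := d37_1 D51825 (iv D49764) (iv F222953)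
def n51826 : Q := act 3 n49764
theorem D51826 : act 3 n49764 = n51826 := rfl
theorem F232353 : act 0 n51826 = n49863 := d2_1 D51826 (iv D49863) (iv F222954)
theorem F232354 : act 6 n51826 = n49767 := d26_2 (iv F222956) D51826 (iv D49767)
theorem F232355 : act 8 n51826 = n49772 := d28_2 D49764 D51826 (iv D49772) (iv D47552) (iv F212820)
def n51827 : Q := act 3 n49766
theorem D51827 : act 3 n49766 = n51827 := rfl
theorem F232356 : act 0 n51827 = n49872 := d2_1 D51827 (iv D49872) (iv F222962)
theorem F232357 : act 4 n51827 = n50639 := d24_2 (iv F222964) D51827 (iv D50639) F216554 (iv F212836)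
theorem F232358 : act 7 n51827 = n51827 := d27_2 F222965 D51827 (iv D51827)
theorem F232359 : act 8 n51827 = n51827 := d28_2 D49766 D51827 (iv D51827) (iv D49766) F212831
theorem F232360 : act 9 n51827 = n50706 := d29_2 (iv F222966) D51827 F226528
def n51828 : Q := act 2 n49767
theorem D51828 : act 2 n49767 = n51828 := rfl
theorem F232361 : act 0 n51828 = n49877 := d1_1 D51828 (iv D49877) (iv F222967)
theorem F232362 : act 7 n51828 = n51828 := d21_2 F222968 D51828 (iv D51828)
theorem F232363 : act 8 n51828 = n49773 := d22_2 (iv F222969) D51828 (iv D49773)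
def n51829 : Q := act 9 n49768
theorem D51829 : act 9 n49768 = n51829 := rfl
theorem F232364 : act 0 n51829 = n49879 := d8_1 D51829 (iv D49879) (iv F222970)
theorem F232365 : act 2 n51829 = n51829 := d23_1 D51829 (iv D51829) F222971
theorem F232366 : act 5 n51829 = n51829 := d38_1 D51829 (iv D51829) F222972
theorem F232367 : act 6 n51829 = n49769 := d41_1 D51829 (iv D49769) D49768
def n51830 : Q := act 8 n49769
theorem D51830 : act 8 n49769 = n51830 := rfl
theorem F232368 : act 0 n51830 = n49880 := d7_1 D51830 (iv D49880) (iv F222974)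
theorem F232369 : act 2 n51830 = n51830 := d22_1 D51830 (iv D51830) F222975
theorem F232370 : act 5 n51830 = n49770 := d37_1 D51830 (iv D49770) (iv F222976)
theorem F232371 : act 7 n51830 = n49771 := d42_1 D51830 (iv D49771) (iv F222977)
theorem F232372 : act 9 n51830 = n51830 := d44_2 D49769 D51830 (iv D51830) (iv D49769) F212846
def n51831 : Q := act 3 n49770
theorem D51831 : act 3 n49770 = n51831 := rfl
theorem F232373 : act 0 n51831 = n49881 := d2_1 D51831 (iv D49881) (iv F222978)
theorem F232374 : act 6 n51831 = n51831 := d26_2 F222981 D51831 (iv D51831)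
theorem F232375 : act 7 n51831 = n49772 := d27_2 (iv F222982) D51831 (iv D49772)
theorem F232376 : act 9 n51831 = n51831 := d29_2 F222983 D51831 (iv D51831)
def n51832 : Q := act 3 n49771
theorem D51832 : act 3 n49771 = n51832 := rfl
theorem F232377 : act 0 n51832 = n49884 := d2_1 D51832 (iv D49884) (iv F222984)
theorem F232378 : act 5 n51832 = n49772 := d25_2 (iv F222986) D51832 (iv D49772)
theorem F232379 : act 9 n51832 = n51832 := d29_2 F222987 D51832 (iv D51832)
def n51833 : Q := act 2 n49772
theorem D51833 : act 2 n49772 = n51833 := rfl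
theorem F232380 : act 0 n51833 = n49885 := d1_1 D51833 (iv D49885) (iv F222988)
theorem F232381 : act 3 n51833 = n51833 := d17_2 D49772 D51833 (iv D51833) (iv D49772) F212861
theorem F232382 : act 6 n51833 = n49773 := d20_2 (iv F222989) D51833 (iv D49773)
theorem F232383 : act 9 n51833 = n51833 := d23_2 F222990 D51833 (iv D51833)
def n51834 : Q := act 4 n49774
theorem D51834 : act 4 n49774 = n51834 := rfl
theorem F232384 : act 0 n51834 = n49891 := d3_1 D51834 (iv D49891) (iv F222995)
theorem F232385 : act 1 n51834 = n49952 := d11_1 D51834 F223786 F223000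
theorem F232386 : act 2 n51834 = n49775 := d18_1 D51834 (iv D49775) D49774
theorem F232387 : act 6 n51834 = n49777 := d31_2 (iv F222997) D51834 (iv D49777)
theorem F232388 : act 7 n51834 = n49955 := d32_2 (iv F222998) D51834 F223805
theorem F232389 : act 8 n51834 = n49932 := d33_2 (iv F222999) D51834 (iv D49932)
theorem F232390 : act 5 n49962 = n51834 := d37_3 F232389 (iv F223671) D49962
def n51835 : Q := act 9 n49774
theorem D51835 : act 9 n49774 = n51835 := rfl
theorem F232391 : act 0 n51835 = n49892 := d8_1 D51835 (iv D49892) (iv F222995)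
theorem F232392 : act 1 n51835 = n49957 := d16_1 D51835 (iv D49957) F223000
theorem F232393 : act 2 n51835 = n49776 := d23_1 D51835 (iv D49776) D49774
theorem F232394 : act 5 n51835 = n51835 := d38_1 D51835 (iv D51835) F222996
theorem F232395 : act 6 n51835 = n49778 := d41_1 D51835 (iv D49778) (iv F222997)
theorem F232396 : act 7 n51835 = n50586 := d43_1 D51835 (iv D50586) (iv F222998)
theorem F232397 : act 8 n51835 = n50732 := d44_1 D51835 (iv D50732) F216830 (iv F213493) (iv F222999)
def n51836 : Q := act 9 n49775
theorem D51836 : act 9 n49775 = n51836 := rfl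
theorem F232398 : act 0 n51836 = n49893 := d8_1 D51836 (iv D49893) (iv F223001)
theorem F232399 : act 1 n51836 = n51836 := d16_1 D51836 (iv D51836) F223002
theorem F232400 : act 4 n51836 = n49776 := d34_1 D51836 (iv D49776) D49775
theorem F232401 : act 5 n51836 = n49923 := d38_1 D51836 F223611 F223006
theorem F232402 : act 6 n51836 = n49779 := d41_1 D51836 (iv D49779) (iv F223003)
theorem F232403 : act 7 n51836 = n49920 := d43_1 D51836 F223592 (iv F223004)
theorem F232404 : act 8 n51836 = n49918 := d44_1 D51836 (iv D49918) F213342 (iv F213500) (iv F223005)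
def n51837 : Q := act 3 n49777
theorem D51837 : act 3 n49777 = n51837 := rfl
theorem F232405 : act 0 n51837 = n49898 := d2_1 D51837 (iv D49898) (iv F223014)
theorem F232406 : act 1 n51837 = n50739 := d10_1 D51837 F226638 (iv F223015)
theorem F232407 : act 5 n51837 = n51837 := d25_2 F223017 D51837 (iv D51837)
theorem F232408 : act 7 n51837 = n49783 := d27_2 (iv F223018) D51837 (iv D49783)
theorem F232409 : act 8 n51837 = n50737 := d28_2 (iv F223019) D51837 (iv D50737) F216856 (iv F213505)
def n51838 : Q := act 9 n49777
theorem D51838 : act 9 n49777 = n51838 := rfl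
theorem F232410 : act 0 n51838 = n49899 := d8_1 D51838 (iv D49899) (iv F223014)
theorem F232411 : act 1 n51838 = n50742 := d16_1 D51838 (iv D50742) (iv F223015)
theorem F232412 : act 2 n51838 = n49779 := d23_1 D51838 (iv D49779) (iv F223016)
theorem F232413 : act 4 n51838 = n49778 := d34_1 D51838 (iv D49778) D49777
theorem F232414 : act 5 n51838 = n51838 := d38_1 D51838 (iv D51838) F223017
theorem F232415 : act 7 n51838 = n49784 := d43_1 D51838 (iv D49784) (iv F223018)
theorem F232416 : act 8 n51838 = n50735 := d44_1 D51838 (iv D50735) F216842 (iv F213508) (iv F223019)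
def n51839 : Q := act 4 n49780
theorem D51839 : act 4 n49780 = n51839 := rfl
theorem F232417 : act 0 n51839 = n49781 := d3_1 D51839 (iv D49781) D49780
theorem F232418 : act 1 n51839 = n49902 := d11_1 D51839 (iv D49902) (iv F223032)
theorem F232419 : act 2 n51839 = n51839 := d18_1 D51839 (iv D51839) F223033
theorem F232420 : act 5 n51839 = n51839 := d30_2 (iv F223034) D51839 (iv D51839) F223034 F212925
theorem F232421 : act 6 n51839 = n49943 := d31_2 (iv F223035) D51839 F223730
theorem F232422 : act 7 n51839 = n49958 := d32_2 (iv F223036) D51839 F223818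
theorem F232423 : act 8 n51839 = n49933 := d33_2 (iv F223037) D51839 (iv D49933)
def n51840 : Q := act 9 n49780
theorem D51840 : act 9 n49780 = n51840 := rfl
theorem F232424 : act 0 n51840 = n49782 := d8_1 D51840 (iv D49782) D49780
theorem F232425 : act 1 n51840 = n49903 := d16_1 D51840 (iv D49903) (iv F223032)
theorem F232426 : act 2 n51840 = n51840 := d23_1 D51840 (iv D51840) F223033
theorem F232427 : act 5 n51840 = n49785 := d38_1 D51840 (iv D49785) (iv F223034)
theorem F232428 : act 6 n51840 = n50589 := d41_1 D51840 (iv D50589) (iv F223035)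
theorem F232429 : act 7 n51840 = n50719 := d43_1 D51840 (iv D50719) (iv F223036)
theorem F232430 : act 8 n51840 = n50736 := d44_1 D51840 (iv D50736) F216852 (iv F213515) (iv F223037)
def n51841 : Q := act 3 n49781
theorem D51841 : act 3 n49781 = n51841 := rfl
theorem F232431 : act 1 n51841 = n49783 := d10_1 D51841 (iv D49783) (iv F223038)
theorem F232432 : act 5 n51841 = n51841 := d25_2 F223040 D51841 (iv D51841)
theorem F232433 : act 6 n51841 = n50590 := d26_2 (iv F223041) D51841 (iv D50590)
theorem F232434 : act 7 n51841 = n50739 := d27_2 (iv F223042) D51841 F226638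
theorem F232435 : act 8 n51841 = n50734 := d28_2 (iv F223043) D51841 (iv D50734) F216842 (iv F213518)
def n51842 : Q := act 9 n49781
theorem D51842 : act 9 n49781 = n51842 := rfl
theorem F232436 : act 1 n51842 = n49784 := d16_1 D51842 (iv D49784) (iv F223038)
theorem F232437 : act 2 n51842 = n51842 := d23_1 D51842 (iv D51842) F223039
theorem F232438 : act 4 n51842 = n49782 := d34_1 D51842 (iv D49782) D49781
theorem F232439 : act 5 n51842 = n51842 := d38_1 D51842 (iv D51842) F223040
theorem F232440 : act 6 n51842 = n50591 := d41_1 D51842 (iv D50591) (iv F223041)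
theorem F232441 : act 7 n51842 = n50742 := d43_1 D51842 (iv D50742) (iv F223042)
theorem F232442 : act 8 n51842 = n50738 := d44_1 D51842 (iv D50738) F216856 (iv F213522) (iv F223043)
def n51843 : Q := act 8 n49783
theorem D51843 : act 8 n49783 = n51843 := rfl
theorem F232443 : act 0 n51843 = n49907 := d7_1 D51843 (iv D49907) (iv F223050)
theorem F232444 : act 1 n51843 = n50734 := d15_1 D51843 (iv F232435) F232431
theorem F232445 : act 3 n51843 = n49934 := d28_1 D51843 (iv D49934) (iv D47703) (iv F212904) D49783
theorem F232446 : act 5 n51843 = n51843 := d37_1 D51843 (iv D51843) F223051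
theorem F232447 : act 6 n51843 = n50592 := d40_1 D51843 (iv D50592) (iv F223052)
theorem F232448 : act 7 n51843 = n50737 := d42_1 D51843 (iv F232409) F232408
def n51844 : Q := act 9 n49783
theorem D51844 : act 9 n49783 = n51844 := rfl
theorem F232449 : act 0 n51844 = n49908 := d8_1 D51844 (iv D49908) (iv F223050)
theorem F232450 : act 3 n51844 = n49784 := d29_1 D51844 (iv D49784) D49783
theorem F232451 : act 5 n51844 = n51844 := d38_1 D51844 (iv D51844) F223051
theorem F232452 : act 6 n51844 = n50593 := d41_1 D51844 (iv D50593) (iv F223052)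
def n51845 : Q := act 3 n49786
theorem D51845 : act 3 n49786 = n51845 := rfl
theorem F232453 : act 0 n51845 = n50515 := d2_1 D51845 F225944 (iv F223066)
theorem F232454 : act 1 n51845 = n50631 := d10_1 D51845 F226322 (iv F223067)
theorem F232455 : act 5 n51845 = n50197 := d25_2 (iv F223070) D51845 F224921
theorem F232456 : act 6 n51845 = n49787 := d26_2 (iv F223071) D51845 (iv D49787)
theorem F232457 : act 7 n51845 = n50190 := d27_2 (iv F223072) D51845 F224889
theorem F232458 : act 8 n51845 = n50236 := d28_2 D49786 D51845 F225055 F215075 (iv F212945)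
def n51846 : Q := act 9 n49786
theorem D51846 : act 9 n49786 = n51846 := rfl
theorem F232459 : act 0 n51846 = n50547 := d8_1 D51846 (iv D50547) (iv F223066)
theorem F232460 : act 1 n51846 = n50842 := d16_1 D51846 (iv D50842) (iv F223067)
theorem F232461 : act 2 n51846 = n49935 := d23_1 D51846 (iv D49935) (iv F223068)
theorem F232462 : act 4 n51846 = n49793 := d34_1 D51846 (iv D49793) (iv F223069)
theorem F232463 : act 5 n51846 = n50554 := d38_1 D51846 (iv D50554) (iv F223070)
theorem F232464 : act 6 n51846 = n49788 := d41_1 D51846 (iv D49788) (iv F223071)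
theorem F232465 : act 7 n51846 = n50550 := d43_1 D51846 (iv D50550) (iv F223072)
def n51847 : Q := act 2 n49787
theorem D51847 : act 2 n49787 = n51847 := rfl
theorem F232466 : act 0 n51847 = n50261 := d1_1 D51847 (iv F232145) F232143
theorem F232467 : act 3 n51847 = n49936 := d17_2 D49787 D51847 (iv D49936) (iv D47705) (iv F212949)
theorem F232468 : act 5 n51847 = n51847 := d19_2 F223073 D51847 (iv D51847)
theorem F232469 : act 7 n51847 = n49789 := d21_2 (iv F223074) D51847 (iv D49789)
def n51848 : Q := act 4 n49787
theorem D51848 : act 4 n49787 = n51848 := rfl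
theorem F232470 : act 3 n51848 = n49795 := d24_1 D51848 (iv D49795) (iv D47572) (iv F212950) D49787
theorem F232471 : act 7 n51848 = n49790 := d32_2 (iv F223074) D51848 (iv D49790)
def n51849 : Q := act 9 n49787
theorem D51849 : act 9 n49787 = n51849 := rfl
theorem F232472 : act 3 n51849 = n49788 := d29_1 D51849 (iv D49788) D49787
theorem F232473 : act 5 n51849 = n51849 := d38_1 D51849 (iv D51849) F223073
theorem F232474 : act 7 n51849 = n49791 := d43_1 D51849 (iv D49791) (iv F223074)
def n51850 : Q := act 1 n49789
theorem D51850 : act 1 n49789 = n51850 := rfl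
theorem F232475 : act 3 n51850 = n49938 := d10_2 (iv F223079) D51850 (iv D49938)
theorem F232476 : act 5 n51850 = n51850 := d12_2 F223080 D51850 (iv D51850)
theorem F232477 : act 6 n51850 = n50595 := d13_2 (iv F223081) D51850 (iv D50595)
def n51851 : Q := act 4 n49789
theorem D51851 : act 4 n49789 = n51851 := rfl
theorem F232478 : act 2 n51851 = n49790 := d18_1 D51851 (iv D49790) D49789
theorem F232479 : act 6 n51851 = n50596 := d31_2 (iv F223081) D51851 (iv D50596)
def n51852 : Q := act 9 n49789
theorem D51852 : act 9 n49789 = n51852 := rfl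
theorem F232480 : act 2 n51852 = n49791 := d23_1 D51852 (iv D49791) D49789
theorem F232481 : act 3 n51852 = n49940 := d29_1 D51852 (iv D49940) (iv F223079)
theorem F232482 : act 5 n51852 = n51852 := d38_1 D51852 (iv D51852) F223080
theorem F232483 : act 6 n51852 = n50597 := d41_1 D51852 (iv D50597) (iv F223081)
def n51853 : Q := act 5 n49790
theorem D51853 : act 5 n49790 = n51853 := rfl
theorem F232484 : act 3 n51853 = n49800 := d25_1 D51853 (iv D49800) (iv F223082)
theorem F232485 : act 4 n51853 = n51853 := d30_1 D51853 (iv D51853) (iv D49790) F212953 D49790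
def n51854 : Q := act 9 n49790
theorem D51854 : act 9 n49790 = n51854 := rfl
theorem F232486 : act 3 n51854 = n49801 := d29_1 D51854 (iv D49801) (iv F223082)
theorem F232487 : act 4 n51854 = n49791 := d34_1 D51854 (iv D49791) D49790
theorem F232488 : act 6 n51854 = n50598 := d41_1 D51854 (iv D50598) (iv F223083)
def n51855 : Q := act 8 n49791
theorem D51855 : act 8 n49791 = n51855 := rfl
theorem F232489 : act 5 n51855 = n51855 := d37_1 D51855 (iv D51855) F223085
theorem F232490 : act 6 n51855 = n50599 := d40_1 D51855 (iv D50599) (iv F223086)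
def n51856 : Q := act 2 n49792
theorem D51856 : act 2 n49792 = n51856 := rfl
theorem F232491 : act 0 n51856 = n49904 := d1_1 D51856 (iv F232172) F232170
theorem F232492 : act 3 n51856 = n49902 := d17_2 D49792 D51856 F223494 (iv F213360) (iv F212959)
theorem F232493 : act 5 n51856 = n51856 := d19_2 F223087 D51856 (iv D51856)
theorem F232494 : act 6 n51856 = n49794 := d20_2 (iv F223088) D51856 (iv D49794)
theorem F232495 : act 7 n51856 = n50600 := d21_2 (iv F223089) D51856 (iv D50600)
theorem F232496 : act 8 n51856 = n49824 := d22_2 (iv F223090) D51856 (iv D49824)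
def n51857 : Q := act 4 n49792
theorem D51857 : act 4 n49792 = n51857 := rfl
theorem F232497 : act 6 n51857 = n49795 := d31_2 (iv F223088) D51857 (iv D49795)
theorem F232498 : act 7 n51857 = n50601 := d32_2 (iv F223089) D51857 (iv D50601)
theorem F232499 : act 8 n51857 = n49825 := d33_2 (iv F223090) D51857 (iv D49825)
def n51858 : Q := act 9 n49792
theorem D51858 : act 9 n49792 = n51858 := rfl
theorem F232500 : act 3 n51858 = n49793 := d29_1 D51858 (iv D49793) D49792
theorem F232501 : act 5 n51858 = n51858 := d38_1 D51858 (iv D51858) F223087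
theorem F232502 : act 6 n51858 = n49796 := d41_1 D51858 (iv D49796) (iv F223088)
theorem F232503 : act 7 n51858 = n50602 := d43_1 D51858 (iv D50602) (iv F223089)
def n51859 : Q := act 1 n49794
theorem D51859 : act 1 n49794 = n51859 := rfl
theorem F232504 : act 0 n51859 = n50590 := d0_1 D51859 F226194 F216427 (iv F216737) (iv F223095)
theorem F232505 : act 3 n51859 = n49943 := d10_2 (iv F223096) D51859 (iv D49943)
theorem F232506 : act 5 n51859 = n49803 := d12_2 (iv F223097) D51859 (iv D49803)
theorem F232507 : act 7 n51859 = n49797 := d14_2 (iv F223098) D51859 (iv D49797)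
theorem F232508 : act 8 n51859 = n49827 := d15_2 (iv F223099) D51859 (iv D49827)
def n51860 : Q := act 4 n49794
theorem D51860 : act 4 n49794 = n51860 := rfl
theorem F232509 : act 0 n51860 = n50658 := d3_1 D51860 F226397 (iv F223095)
theorem F232510 : act 2 n51860 = n49795 := d18_1 D51860 (iv D49795) D49794
theorem F232511 : act 3 n51860 = n50656 := d24_1 D51860 (iv D50656) F216587 (iv F213566) (iv F223096)
theorem F232512 : act 7 n51860 = n49798 := d32_2 (iv F223098) D51860 (iv D49798)
theorem F232513 : act 8 n51860 = n49828 := d33_2 (iv F223099) D51860 (iv D49828)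
def n51861 : Q := act 9 n49794
theorem D51861 : act 9 n49794 = n51861 := rfl
theorem F232514 : act 0 n51861 = n50710 := d8_1 D51861 F226544 (iv F223095)
theorem F232515 : act 2 n51861 = n49796 := d23_1 D51861 (iv D49796) D49794
theorem F232516 : act 3 n51861 = n49944 := d29_1 D51861 (iv D49944) (iv F223096)
theorem F232517 : act 5 n51861 = n49805 := d38_1 D51861 (iv D49805) (iv F223097)
theorem F232518 : act 7 n51861 = n49799 := d43_1 D51861 (iv D49799) (iv F223098)
def n51862 : Q := act 5 n49795
theorem D51862 : act 5 n49795 = n51862 := rfl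
theorem F232519 : act 4 n51862 = n49806 := d30_1 D51862 (iv D49806) (iv D47578) (iv F212963) D49795
theorem F232520 : act 7 n51862 = n49800 := d36_2 (iv F223100) D51862 (iv D49800)
theorem F232521 : act 8 n51862 = n49830 := d37_2 (iv F223101) D51862 (iv D49830)
def n51863 : Q := act 9 n49795
theorem D51863 : act 9 n49795 = n51863 := rfl
theorem F232522 : act 4 n51863 = n49796 := d34_1 D51863 (iv D49796) D49795
theorem F232523 : act 7 n51863 = n49801 := d43_1 D51863 (iv D49801) (iv F223100)
def n51864 : Q := act 8 n49796
theorem D51864 : act 8 n49796 = n51864 := rfl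
theorem F232524 : act 5 n51864 = n49808 := d37_1 D51864 (iv D49808) (iv F223103)
theorem F232525 : act 7 n51864 = n49802 := d42_1 D51864 (iv D49802) (iv F223104)
theorem F232526 : act 9 n51864 = n49832 := d44_2 D49796 D51864 (iv D49832) (iv D47597) (iv F212965)
def n51865 : Q := act 4 n49797
theorem D51865 : act 4 n49797 = n51865 := rfl
theorem F232527 : act 1 n51865 = n49798 := d11_1 D51865 (iv D49798) D49797
theorem F232528 : act 6 n51865 = n50609 := d31_2 (iv F223107) D51865 (iv D50609)
theorem F232529 : act 8 n51865 = n49834 := d33_2 (iv F223108) D51865 (iv D49834)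
def n51866 : Q := act 9 n49797
theorem D51866 : act 9 n49797 = n51866 := rfl
theorem F232530 : act 1 n51866 = n49799 := d16_1 D51866 (iv D49799) D49797
theorem F232531 : act 3 n51866 = n49947 := d29_1 D51866 (iv D49947) (iv F223105)
theorem F232532 : act 5 n51866 = n49809 := d38_1 D51866 (iv D49809) (iv F223106)
theorem F232533 : act 6 n51866 = n50610 := d41_1 D51866 (iv D50610) (iv F223107)
def n51867 : Q := act 3 n49798
theorem D51867 : act 3 n49798 = n51867 := rfl
theorem F232534 : act 0 n51867 = n50647 := d2_1 D51867 F226368 (iv F223109)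
theorem F232535 : act 4 n51867 = n49948 := d24_2 D49798 D51867 (iv D49948) (iv D47714) (iv F212970)
theorem F232536 : act 6 n51867 = n50611 := d26_2 (iv F223111) D51867 (iv D50611)
theorem F232537 : act 7 n51867 = n50656 := d27_2 F232512 D51867 (iv F232511)
def n51868 : Q := act 5 n49798
theorem D51868 : act 5 n49798 = n51868 := rfl
theorem F232538 : act 0 n51868 = n50743 := d4_1 D51868 (iv D50743) (iv F223109)
theorem F232539 : act 2 n51868 = n49800 := d19_1 D51868 (iv D49800) (iv F223110)
theorem F232540 : act 4 n51868 = n49810 := d30_1 D51868 (iv D49810) (iv D47581) (iv F212971) D49798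
theorem F232541 : act 8 n51868 = n49837 := d37_2 (iv F223112) D51868 (iv D49837)
def n51869 : Q := act 9 n49798
theorem D51869 : act 9 n49798 = n51869 := rfl
theorem F232542 : act 0 n51869 = n50713 := d8_1 D51869 F226548 (iv F223109)
theorem F232543 : act 2 n51869 = n49801 := d23_1 D51869 (iv D49801) (iv F223110)
theorem F232544 : act 4 n51869 = n49799 := d34_1 D51869 (iv D49799) D49798
theorem F232545 : act 6 n51869 = n50613 := d41_1 D51869 (iv D50613) (iv F223111)
def n51870 : Q := act 8 n49799
theorem D51870 : act 8 n49799 = n51870 := rfl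
theorem F232546 : act 0 n51870 = n50668 := d7_1 D51870 F226418 (iv F223113)
theorem F232547 : act 2 n51870 = n49802 := d22_1 D51870 (iv D49802) (iv F223114)
theorem F232548 : act 3 n51870 = n50578 := d28_1 D51870 (iv D50578) F216356 (iv F213591) (iv F223115)
theorem F232549 : act 5 n51870 = n49812 := d37_1 D51870 (iv D49812) (iv F223116)
theorem F232550 : act 6 n51870 = n50614 := d40_1 D51870 (iv D50614) (iv F223117)
theorem F232551 : act 9 n51870 = n49839 := d44_2 D49799 D51870 (iv D49839) (iv D47600) (iv F212973)
def n51871 : Q := act 6 n49800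
theorem D51871 : act 6 n49800 = n51871 := rfl
theorem F232552 : act 4 n51871 = n49813 := d31_1 D51871 (iv D49813) (iv F223118)
theorem F232553 : act 5 n51871 = n50615 := d35_1 D51871 (iv D50615) (iv D48448) (iv F212974) D49800
theorem F232554 : act 8 n51871 = n49840 := d40_2 (iv F223119) D51871 (iv D49840)
def n51872 : Q := act 9 n49800
theorem D51872 : act 9 n49800 = n51872 := rfl
theorem F232555 : act 4 n51872 = n49814 := d34_1 D51872 (iv D49814) (iv F223118)
theorem F232556 : act 5 n51872 = n49801 := d38_1 D51872 (iv D49801) D49800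
def n51873 : Q := act 8 n49801
theorem D51873 : act 8 n49801 = n51873 := rfl
theorem F232557 : act 4 n51873 = n49802 := d33_1 D51873 (iv D49802) (iv F223120)
theorem F232558 : act 6 n51873 = n50617 := d40_1 D51873 (iv D50617) (iv F223121)
theorem F232559 : act 9 n51873 = n49842 := d44_2 D49801 D51873 (iv D49842) (iv D47602) (iv F212975)
def n51874 : Q := act 9 n49803
theorem D51874 : act 9 n49803 = n51874 := rfl
theorem F232560 : act 0 n51874 = n50793 := d8_1 D51874 (iv D50793) (iv F223125)
theorem F232561 : act 1 n51874 = n49805 := d16_1 D51874 (iv D49805) D49803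
theorem F232562 : act 3 n51874 = n49950 := d29_1 D51874 (iv D49950) (iv F223126)
theorem F232563 : act 6 n51874 = n51874 := d41_1 D51874 (iv D51874) F223127
theorem F232564 : act 7 n51874 = n49809 := d43_1 D51874 (iv D49809) (iv F223128)
def n51875 : Q := act 5 n49804
theorem D51875 : act 5 n49804 = n51875 := rfl
theorem F232565 : act 0 n51875 = n50744 := d4_1 D51875 (iv D50744) (iv F223130)
theorem F232566 : act 2 n51875 = n49806 := d19_1 D51875 (iv D49806) (iv F223131)
theorem F232567 : act 3 n51875 = n50799 := d25_1 D51875 (iv D50799) (iv F223132)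
theorem F232568 : act 7 n51875 = n49810 := d36_2 (iv F223134) D51875 (iv D49810)
theorem F232569 : act 8 n51875 = n49846 := d37_2 (iv F223135) D51875 (iv D49846)
def n51876 : Q := act 9 n49804
theorem D51876 : act 9 n49804 = n51876 := rfl
theorem F232570 : act 0 n51876 = n50714 := d8_1 D51876 F226553 (iv F223130)
theorem F232571 : act 2 n51876 = n49807 := d23_1 D51876 (iv D49807) (iv F223131)
theorem F232572 : act 3 n51876 = n50797 := d29_1 D51876 F226895 (iv F223132)
theorem F232573 : act 4 n51876 = n49805 := d34_1 D51876 (iv D49805) D49804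
theorem F232574 : act 6 n51876 = n51876 := d41_1 D51876 (iv D51876) F223133
theorem F232575 : act 7 n51876 = n49811 := d43_1 D51876 (iv D49811) (iv F223134)
def n51877 : Q := act 8 n49805
theorem D51877 : act 8 n49805 = n51877 := rfl
theorem F232576 : act 0 n51877 = n50680 := d7_1 D51877 F226455 (iv F223136)
theorem F232577 : act 2 n51877 = n49808 := d22_1 D51877 (iv D49808) (iv F223137)
theorem F232578 : act 3 n51877 = n50582 := d28_1 D51877 (iv D50582) F216367 (iv F213610) (iv F223138)
theorem F232579 : act 6 n51877 = n51877 := d40_1 D51877 (iv D51877) F223139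
theorem F232580 : act 7 n51877 = n49812 := d42_1 D51877 (iv D49812) (iv F223140)
theorem F232581 : act 9 n51877 = n49848 := d44_2 D49805 D51877 (iv D49848) (iv D47606) (iv F212983)
def n51878 : Q := act 6 n49806
theorem D51878 : act 6 n49806 = n51878 := rfl
theorem F232582 : act 3 n51878 = n51878 := d26_1 D51878 (iv D51878) F223141
theorem F232583 : act 5 n51878 = n51878 := d35_1 D51878 (iv D51878) (iv D49806) F212985 D49806
theorem F232584 : act 8 n51878 = n49849 := d40_2 (iv F223143) D51878 (iv D49849)
def n51879 : Q := act 9 n49806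
theorem D51879 : act 9 n49806 = n51879 := rfl
theorem F232585 : act 3 n51879 = n51879 := d29_1 D51879 (iv D51879) F223141
theorem F232586 : act 5 n51879 = n49807 := d38_1 D51879 (iv D49807) D49806
theorem F232587 : act 7 n51879 = n49814 := d43_1 D51879 (iv D49814) (iv F223142)
def n51880 : Q := act 8 n49807
theorem D51880 : act 8 n49807 = n51880 := rfl
theorem F232588 : act 4 n51880 = n49808 := d33_1 D51880 (iv D49808) (iv F223145)
theorem F232589 : act 6 n51880 = n51880 := d40_1 D51880 (iv D51880) F223146
theorem F232590 : act 7 n51880 = n49815 := d42_1 D51880 (iv D49815) (iv F223147)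
theorem F232591 : act 9 n51880 = n49851 := d44_2 D49807 D51880 (iv D49851) (iv D47608) (iv F212987)
def n51881 : Q := act 8 n49809
theorem D51881 : act 8 n49809 = n51881 := rfl
theorem F232592 : act 1 n51881 = n49812 := d15_1 D51881 (iv D49812) (iv F223151)
theorem F232593 : act 3 n51881 = n50584 := d28_1 D51881 (iv D50584) F216377 (iv F213621) (iv F223152)
theorem F232594 : act 6 n51881 = n49816 := d40_1 D51881 (iv D49816) (iv F223153)
theorem F232595 : act 9 n51881 = n49855 := d44_2 D49809 D51881 (iv D49855) (iv D47612) (iv F212993)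
def n51882 : Q := act 6 n49810
theorem D51882 : act 6 n49810 = n51882 := rfl
theorem F232596 : act 0 n51882 = n50123 := d5_1 D51882 F224589 (iv F223154)
theorem F232597 : act 1 n51882 = n50209 := d13_1 D51882 (iv F229178) F229174
theorem F232598 : act 2 n51882 = n49813 := d20_1 D51882 (iv D49813) (iv F223155)
theorem F232599 : act 3 n51882 = n50152 := d26_1 D51882 F224717 (iv F223156)
theorem F232600 : act 5 n51882 = n49817 := d35_1 D51882 (iv D49817) (iv D47587) (iv F212997) D49810
theorem F232601 : act 8 n51882 = n49856 := d40_2 (iv F223157) D51882 (iv D49856)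
def n51883 : Q := act 9 n49810
theorem D51883 : act 9 n49810 = n51883 := rfl
theorem F232602 : act 0 n51883 = n50715 := d8_1 D51883 F226555 (iv F223154)
theorem F232603 : act 2 n51883 = n49814 := d23_1 D51883 (iv D49814) (iv F223155)
theorem F232604 : act 3 n51883 = n50798 := d29_1 D51883 F226898 (iv F223156)
theorem F232605 : act 5 n51883 = n49811 := d38_1 D51883 (iv D49811) D49810
def n51884 : Q := act 8 n49811
theorem D51884 : act 8 n49811 = n51884 := rfl
theorem F232606 : act 0 n51884 = n50695 := d7_1 D51884 F226497 (iv F223158)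
theorem F232607 : act 2 n51884 = n49815 := d22_1 D51884 (iv D49815) (iv F223159)
theorem F232608 : act 4 n51884 = n49812 := d33_1 D51884 (iv D49812) (iv F223161)
theorem F232609 : act 6 n51884 = n49819 := d40_1 D51884 (iv D49819) (iv F223162)
theorem F232610 : act 9 n51884 = n49858 := d44_2 D49811 D51884 (iv D49858) (iv D47614) (iv F212998)
def n51885 : Q := act 7 n49813
theorem D51885 : act 7 n49813 = n51885 := rfl
theorem F232611 : act 3 n51885 = n51885 := d27_1 D51885 (iv D51885) F223168
theorem F232612 : act 5 n51885 = n49820 := d36_1 D51885 (iv D49820) (iv F223169)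
theorem F232613 : act 8 n51885 = n49860 := d42_2 (iv F223170) D51885 (iv D49860)
def n51886 : Q := act 9 n49813
theorem D51886 : act 9 n49813 = n51886 := rfl
theorem F232614 : act 3 n51886 = n51886 := d29_1 D51886 (iv D51886) F223168
theorem F232615 : act 5 n51886 = n49821 := d38_1 D51886 (iv D49821) (iv F223169)
theorem F232616 : act 6 n51886 = n49814 := d41_1 D51886 (iv D49814) D49813
def n51887 : Q := act 8 n49814
theorem D51887 : act 8 n49814 = n51887 := rfl
theorem F232617 : act 5 n51887 = n49815 := d37_1 D51887 (iv D49815) (iv F223172)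
theorem F232618 : act 9 n51887 = n49862 := d44_2 D49814 D51887 (iv D49862) (iv D47617) (iv F213004)
def n51888 : Q := act 3 n49815
theorem D51888 : act 3 n49815 = n51888 := rfl
theorem F232619 : act 6 n51888 = n49823 := d26_2 (iv F223174) D51888 (iv D49823)
theorem F232620 : act 8 n51888 = n51888 := d28_2 D49815 D51888 (iv D51888) (iv D49815) F213005
theorem F232621 : act 9 n51888 = n49863 := d29_2 (iv F223175) D51888 (iv D49863)
def n51889 : Q := act 7 n49817
theorem D51889 : act 7 n49817 = n51889 := rfl
theorem F232622 : act 0 n51889 = n50129 := d6_1 D51889 F224606 (iv F223181)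
theorem F232623 : act 1 n51889 = n50219 := d14_1 D51889 F224989 (iv F223182)
theorem F232624 : act 2 n51889 = n49820 := d21_1 D51889 (iv D49820) (iv F223183)
theorem F232625 : act 3 n51889 = n50159 := d27_1 D51889 F224751 (iv F223184)
theorem F232626 : act 4 n51889 = n50636 := d32_1 D51889 (iv D50636) (iv F223185)
theorem F232627 : act 6 n51889 = n51889 := d39_1 D51889 (iv D51889) (iv D49817) F213019 D49817
theorem F232628 : act 8 n51889 = n49869 := d42_2 (iv F223186) D51889 (iv D49869)
def n51890 : Q := act 9 n49817
theorem D51890 : act 9 n49817 = n51890 := rfl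
theorem F232629 : act 0 n51890 = n50135 := d8_1 D51890 (iv D50135) (iv F223181)
theorem F232630 : act 1 n51890 = n50228 := d16_1 D51890 (iv D50228) (iv F223182)
theorem F232631 : act 2 n51890 = n49821 := d23_1 D51890 (iv D49821) (iv F223183)
theorem F232632 : act 3 n51890 = n50162 := d29_1 D51890 (iv D50162) (iv F223184)
theorem F232633 : act 4 n51890 = n50637 := d34_1 D51890 (iv D50637) (iv F223185)
theorem F232634 : act 6 n51890 = n49818 := d41_1 D51890 (iv D49818) D49817
def n51891 : Q := act 8 n49818
theorem D51891 : act 8 n49818 = n51891 := rfl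
theorem F232635 : act 0 n51891 = n50141 := d7_1 D51891 (iv D50141) (iv F223187)
theorem F232636 : act 1 n51891 = n50240 := d15_1 D51891 (iv D50240) (iv F223188)
theorem F232637 : act 2 n51891 = n49822 := d22_1 D51891 (iv D49822) (iv F223189)
theorem F232638 : act 4 n51891 = n50638 := d33_1 D51891 (iv D50638) (iv F223191)
theorem F232639 : act 5 n51891 = n49819 := d37_1 D51891 (iv D49819) (iv F223192)
theorem F232640 : act 7 n51891 = n51891 := d42_1 D51891 (iv D51891) F223193
theorem F232641 : act 9 n51891 = n49871 := d44_2 D49818 D51891 (iv D49871) (iv D47624) (iv F213020)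
def n51892 : Q := act 3 n49819
theorem D51892 : act 3 n49819 = n51892 := rfl
theorem F232642 : act 0 n51892 = n50706 := d2_1 D51892 F226528 (iv F223194)
theorem F232643 : act 4 n51892 = n50083 := d24_2 (iv F223196) D51892 (iv D50083) F214459 (iv F213028)
theorem F232644 : act 7 n51892 = n51892 := d27_2 F223197 D51892 (iv D51892)
theorem F232645 : act 8 n51892 = n50095 := d28_2 D49819 D51892 F224461 F217248 (iv F213023)
theorem F232646 : act 9 n51892 = n49872 := d29_2 (iv F223198) D51892 (iv D49872)
theorem F232647 : act 2 n50249 = n51892 := d22_3 F232645 F224460 (iv F225105)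
def n51893 : Q := act 9 n49820
theorem D51893 : act 9 n49820 = n51893 := rfl
theorem F232648 : act 3 n51893 = n51893 := d29_1 D51893 (iv D51893) F223199
theorem F232649 : act 4 n51893 = n50640 := d34_1 D51893 (iv D50640) (iv F223200)
theorem F232650 : act 6 n51893 = n51893 := d41_1 D51893 (iv D51893) F223201
theorem F232651 : act 7 n51893 = n49821 := d43_1 D51893 (iv D49821) D49820
def n51894 : Q := act 8 n49821
theorem D51894 : act 8 n49821 = n51894 := rfl
theorem F232652 : act 4 n51894 = n50641 := d33_1 D51894 (iv D50641) (iv F223204)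
theorem F232653 : act 6 n51894 = n49822 := d40_1 D51894 (iv D49822) (iv F223205)
theorem F232654 : act 9 n51894 = n49875 := d44_2 D49821 D51894 (iv D49875) (iv D47628) (iv F213034)
def n51895 : Q := act 3 n49822
theorem D51895 : act 3 n49822 = n51895 := rfl
theorem F232655 : act 5 n51895 = n49823 := d25_2 (iv F223207) D51895 (iv D49823)
theorem F232656 : act 7 n51895 = n51895 := d27_2 F223208 D51895 (iv D51895)
theorem F232657 : act 8 n51895 = n51895 := d28_2 D49822 D51895 (iv D51895) (iv D49822) F213035
theorem F232658 : act 9 n51895 = n49876 := d29_2 (iv F223209) D51895 (iv D49876)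
def n51896 : Q := act 2 n49823
theorem D51896 : act 2 n49823 = n51896 := rfl
theorem F232659 : act 3 n51896 = n50249 := d17_2 D49823 D51896 F232647 (iv D51892) F223195
theorem F232660 : act 4 n51896 = n50248 := d18_2 F231864 D51896 (iv F231863)
theorem F232661 : act 7 n51896 = n51896 := d21_2 F223210 D51896 (iv D51896)
theorem F232662 : act 8 n51896 = n51896 := d22_2 F223211 D51896 (iv D51896)
theorem F232663 : act 9 n51896 = n49877 := d23_2 (iv F223212) D51896 (iv D49877)
def n51897 : Q := act 1 n49824
theorem D51897 : act 1 n49824 = n51897 := rfl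
theorem F232664 : act 0 n51897 = n50734 := d0_1 D51897 (iv F232444) F232443 F232245 F232239
theorem F232665 : act 3 n51897 = n49890 := d10_2 (iv F223213) D51897 (iv D49890)
theorem F232666 : act 5 n51897 = n51897 := d12_2 F223214 D51897 (iv D51897)
theorem F232667 : act 6 n51897 = n49827 := d13_2 (iv F223215) D51897 (iv D49827)
theorem F232668 : act 7 n51897 = n49959 := d14_2 (iv F223216) D51897 F223822
def n51898 : Q := act 4 n49824
theorem D51898 : act 4 n49824 = n51898 := rfl
theorem F232669 : act 2 n51898 = n49825 := d18_1 D51898 (iv D49825) D49824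
theorem F232670 : act 6 n51898 = n49828 := d31_2 (iv F223215) D51898 (iv D49828)
theorem F232671 : act 7 n51898 = n50642 := d32_2 (iv F223216) D51898 (iv D50642)
def n51899 : Q := act 9 n49824
theorem D51899 : act 9 n49824 = n51899 := rfl
theorem F232672 : act 2 n51899 = n49826 := d23_1 D51899 (iv D49826) D49824
theorem F232673 : act 3 n51899 = n49892 := d29_1 D51899 (iv D49892) (iv F223213)
theorem F232674 : act 5 n51899 = n51899 := d38_1 D51899 (iv D51899) F223214
theorem F232675 : act 6 n51899 = n49829 := d41_1 D51899 (iv D49829) (iv F223215)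
theorem F232676 : act 7 n51899 = n50643 := d43_1 D51899 (iv D50643) (iv F223216)
def n51900 : Q := act 5 n49825
theorem D51900 : act 5 n49825 = n51900 := rfl
theorem F232677 : act 4 n51900 = n51900 := d30_1 D51900 (iv D51900) (iv D49825) F213042 D49825
theorem F232678 : act 7 n51900 = n50644 := d36_2 (iv F223218) D51900 (iv D50644)
def n51901 : Q := act 9 n49825
theorem D51901 : act 9 n49825 = n51901 := rfl
theorem F232679 : act 4 n51901 = n49826 := d34_1 D51901 (iv D49826) D49825
theorem F232680 : act 6 n51901 = n49831 := d41_1 D51901 (iv D49831) (iv F223217)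
theorem F232681 : act 7 n51901 = n50645 := d43_1 D51901 (iv D50645) (iv F223218)
def n51902 : Q := act 8 n49826
theorem D51902 : act 8 n49826 = n51902 := rfl
theorem F232682 : act 5 n51902 = n51902 := d37_1 D51902 (iv D51902) F223220
theorem F232683 : act 6 n51902 = n49832 := d40_1 D51902 (iv D49832) (iv F223221)
theorem F232684 : act 7 n51902 = n50646 := d42_1 D51902 (iv D50646) (iv F223222)
def n51903 : Q := act 0 n49827
theorem D51903 : act 0 n49827 = n51903 := rfl
theorem F232685 : act 1 n51903 = n50592 := d0_2 D49827 D51903 F226200 F222880 F222875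
theorem F232686 : act 3 n51903 = n49895 := d2_2 (iv F223223) D51903 (iv D49895)
theorem F232687 : act 5 n51903 = n49843 := d4_2 (iv F223224) D51903 (iv D49843)
theorem F232688 : act 6 n51903 = n50734 := d5_2 F232667 D51903 (iv F232664)
theorem F232689 : act 7 n51903 = n49833 := d6_2 (iv F223225) D51903 (iv D49833)
theorem F232690 : act 8 n51903 = n50590 := d7_2 F232508 D51903 (iv F232504)
def n51904 : Q := act 4 n49827
theorem D51904 : act 4 n49827 = n51904 := rfl
theorem F232691 : act 1 n51904 = n49828 := d11_1 D51904 (iv D49828) D49827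
theorem F232692 : act 7 n51904 = n49834 := d32_2 (iv F223225) D51904 (iv D49834)
def n51905 : Q := act 9 n49827
theorem D51905 : act 9 n49827 = n51905 := rfl
theorem F232693 : act 1 n51905 = n49829 := d16_1 D51905 (iv D49829) D49827
theorem F232694 : act 3 n51905 = n49897 := d29_1 D51905 (iv D49897) (iv F223223)
theorem F232695 : act 5 n51905 = n49845 := d38_1 D51905 (iv D49845) (iv F223224)
theorem F232696 : act 7 n51905 = n49835 := d43_1 D51905 (iv D49835) (iv F223225)
def n51906 : Q := act 3 n49828
theorem D51906 : act 3 n49828 = n51906 := rfl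
theorem F232697 : act 4 n51906 = n49898 := d24_2 D49828 D51906 (iv D49898) (iv D47647) (iv F213049)
theorem F232698 : act 7 n51906 = n49836 := d27_2 (iv F223227) D51906 (iv D49836)
def n51907 : Q := act 5 n49828
theorem D51907 : act 5 n49828 = n51907 := rfl
theorem F232699 : act 2 n51907 = n49830 := d19_1 D51907 (iv D49830) (iv F223226)
theorem F232700 : act 4 n51907 = n49846 := d30_1 D51907 (iv D49846) (iv D47605) (iv F213050) D49828
theorem F232701 : act 7 n51907 = n49837 := d36_2 (iv F223227) D51907 (iv D49837)
def n51908 : Q := act 9 n49828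
theorem D51908 : act 9 n49828 = n51908 := rfl
theorem F232702 : act 2 n51908 = n49831 := d23_1 D51908 (iv D49831) (iv F223226)
theorem F232703 : act 4 n51908 = n49829 := d34_1 D51908 (iv D49829) D49828
theorem F232704 : act 7 n51908 = n49838 := d43_1 D51908 (iv D49838) (iv F223227)
def n51909 : Q := act 8 n49829
theorem D51909 : act 8 n49829 = n51909 := rfl
theorem F232705 : act 2 n51909 = n49832 := d22_1 D51909 (iv D49832) (iv F223228)
theorem F232706 : act 5 n51909 = n49848 := d37_1 D51909 (iv D49848) (iv F223230)
theorem F232707 : act 7 n51909 = n49839 := d42_1 D51909 (iv D49839) (iv F223231)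
def n51910 : Q := act 6 n49830
theorem D51910 : act 6 n49830 = n51910 := rfl
theorem F232708 : act 4 n51910 = n49849 := d31_1 D51910 (iv D49849) (iv F223232)
def n51911 : Q := act 9 n49830
theorem D51911 : act 9 n49830 = n51911 := rfl
theorem F232709 : act 4 n51911 = n49850 := d34_1 D51911 (iv D49850) (iv F223232)
theorem F232710 : act 5 n51911 = n49831 := d38_1 D51911 (iv D49831) D49830
theorem F232711 : act 7 n51911 = n49841 := d43_1 D51911 (iv D49841) (iv F223233)
def n51912 : Q := act 8 n49831
theorem D51912 : act 8 n49831 = n51912 := rfl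
theorem F232712 : act 4 n51912 = n49832 := d33_1 D51912 (iv D49832) (iv F223234)
theorem F232713 : act 7 n51912 = n49842 := d42_1 D51912 (iv D49842) (iv F223235)
def n51913 : Q := act 4 n49833
theorem D51913 : act 4 n49833 = n51913 := rfl
theorem F232714 : act 0 n51913 = n49834 := d3_1 D51913 (iv D49834) D49833
theorem F232715 : act 6 n51913 = n50656 := d31_2 (iv F223240) D51913 (iv D50656)
def n51914 : Q := act 9 n49833
theorem D51914 : act 9 n49833 = n51914 := rfl
theorem F232716 : act 0 n51914 = n49835 := d8_1 D51914 (iv D49835) D49833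
theorem F232717 : act 3 n51914 = n49903 := d29_1 D51914 (iv D49903) (iv F223238)
theorem F232718 : act 5 n51914 = n49852 := d38_1 D51914 (iv D49852) (iv F223239)
theorem F232719 : act 6 n51914 = n50657 := d41_1 D51914 (iv D50657) (iv F223240)
def n51915 : Q := act 3 n49834
theorem D51915 : act 3 n49834 = n51915 := rfl
theorem F232720 : act 1 n51915 = n49836 := d10_1 D51915 (iv D49836) (iv F223241)
theorem F232721 : act 4 n51915 = n49904 := d24_2 D49834 D51915 (iv D49904) (iv D47652) (iv F213056)
theorem F232722 : act 6 n51915 = n50658 := d26_2 (iv F223242) D51915 (iv D50658)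
def n51916 : Q := act 5 n49834
theorem D51916 : act 5 n49834 = n51916 := rfl
theorem F232723 : act 1 n51916 = n49837 := d12_1 D51916 (iv D49837) (iv F223241)
theorem F232724 : act 4 n51916 = n49853 := d30_1 D51916 (iv D49853) (iv D47611) (iv F213057) D49834
def n51917 : Q := act 9 n49834
theorem D51917 : act 9 n49834 = n51917 := rfl
theorem F232725 : act 1 n51917 = n49838 := d16_1 D51917 (iv D49838) (iv F223241)
theorem F232726 : act 4 n51917 = n49835 := d34_1 D51917 (iv D49835) D49834
theorem F232727 : act 6 n51917 = n50660 := d41_1 D51917 (iv D50660) (iv F223242)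
def n51918 : Q := act 8 n49835
theorem D51918 : act 8 n49835 = n51918 := rfl
theorem F232728 : act 1 n51918 = n49839 := d15_1 D51918 (iv D49839) (iv F223243)
theorem F232729 : act 5 n51918 = n49855 := d37_1 D51918 (iv D49855) (iv F223245)
theorem F232730 : act 6 n51918 = n50661 := d40_1 D51918 (iv D50661) (iv F223246)
def n51919 : Q := act 5 n49836
theorem D51919 : act 5 n49836 = n51919 := rfl
theorem F232731 : act 3 n51919 = n49837 := d25_1 D51919 (iv D49837) D49836
theorem F232732 : act 4 n51919 = n51919 := d30_1 D51919 (iv D51919) F223247 F213247 (iv F223247)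
def n51920 : Q := act 8 n49836
theorem D51920 : act 8 n49836 = n51920 := rfl
theorem F232733 : act 4 n51920 = n49907 := d33_1 D51920 (iv D49907) (iv F223247)
theorem F232734 : act 6 n51920 = n50663 := d40_1 D51920 (iv D50663) (iv F223248)
def n51921 : Q := act 9 n49836
theorem D51921 : act 9 n49836 = n51921 := rfl
theorem F232735 : act 3 n51921 = n49838 := d29_1 D51921 (iv D49838) D49836
theorem F232736 : act 4 n51921 = n49908 := d34_1 D51921 (iv D49908) (iv F223247)
theorem F232737 : act 6 n51921 = n50664 := d41_1 D51921 (iv D50664) (iv F223248)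
def n51922 : Q := act 6 n49837
theorem D51922 : act 6 n49837 = n51922 := rfl
theorem F232738 : act 2 n51922 = n49840 := d20_1 D51922 (iv D49840) (iv F223249)
theorem F232739 : act 4 n51922 = n49856 := d31_1 D51922 (iv D49856) (iv F223250)
theorem F232740 : act 5 n51922 = n50665 := d35_1 D51922 (iv D50665) (iv D48487) (iv F213060) D49837
def n51923 : Q := act 9 n49837
theorem D51923 : act 9 n49837 = n51923 := rfl
theorem F232741 : act 2 n51923 = n49841 := d23_1 D51923 (iv D49841) (iv F223249)
theorem F232742 : act 4 n51923 = n49857 := d34_1 D51923 (iv D49857) (iv F223250)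
theorem F232743 : act 5 n51923 = n49838 := d38_1 D51923 (iv D49838) D49837
def n51924 : Q := act 8 n49838
theorem D51924 : act 8 n49838 = n51924 := rfl
theorem F232744 : act 2 n51924 = n49842 := d22_1 D51924 (iv D49842) (iv F223251)
theorem F232745 : act 4 n51924 = n49839 := d33_1 D51924 (iv D49839) (iv F223252)
theorem F232746 : act 6 n51924 = n50667 := d40_1 D51924 (iv D50667) (iv F223253)
def n51925 : Q := act 3 n49839
theorem D51925 : act 3 n49839 = n51925 := rfl
theorem F232747 : act 0 n51925 = n50614 := d2_1 D51925 (iv F232296) F232294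
theorem F232748 : act 2 n51925 = n50563 := d17_1 D51925 (iv F231935) F231934 F222537 (iv F223254)
theorem F232749 : act 5 n51925 = n49859 := d25_2 (iv F223255) D51925 (iv D49859)
theorem F232750 : act 6 n51925 = n50668 := d26_2 (iv F223256) D51925 (iv D50668)
theorem F232751 : act 8 n51925 = n49910 := d28_2 D49839 D51925 (iv D49910) (iv D47656) (iv F213062)
theorem F232752 : act 9 n51925 = n50578 := d29_2 F232551 D51925 (iv F232548)
def n51926 : Q := act 7 n49840
theorem D51926 : act 7 n49840 = n51926 := rfl
theorem F232753 : act 4 n51926 = n49860 := d32_1 D51926 (iv D49860) (iv F223257)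
theorem F232754 : act 5 n51926 = n50669 := d36_1 D51926 (iv D50669) (iv F223258)
def n51927 : Q := act 9 n49840
theorem D51927 : act 9 n49840 = n51927 := rfl
theorem F232755 : act 4 n51927 = n49861 := d34_1 D51927 (iv D49861) (iv F223257)
theorem F232756 : act 5 n51927 = n50670 := d38_1 D51927 (iv D50670) (iv F223258)
theorem F232757 : act 6 n51927 = n49841 := d41_1 D51927 (iv D49841) D49840
def n51928 : Q := act 8 n49841
theorem D51928 : act 8 n49841 = n51928 := rfl
theorem F232758 : act 4 n51928 = n49862 := d33_1 D51928 (iv D49862) (iv F223259)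
theorem F232759 : act 5 n51928 = n49842 := d37_1 D51928 (iv D49842) (iv F223260)
def n51929 : Q := act 3 n49842
theorem D51929 : act 3 n49842 = n51929 := rfl
theorem F232760 : act 6 n51929 = n50672 := d26_2 (iv F223262) D51929 (iv D50672)
def n51930 : Q := act 9 n49843
theorem D51930 : act 9 n49843 = n51930 := rfl
theorem F232761 : act 0 n51930 = n49845 := d8_1 D51930 (iv D49845) D49843
theorem F232762 : act 1 n51930 = n50794 := d16_1 D51930 (iv D50794) (iv F223263)
theorem F232763 : act 3 n51930 = n49912 := d29_1 D51930 (iv D49912) (iv F223264)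
theorem F232764 : act 6 n51930 = n51930 := d41_1 D51930 (iv D51930) F223265
theorem F232765 : act 7 n51930 = n49852 := d43_1 D51930 (iv D49852) (iv F223266)
def n51931 : Q := act 5 n49844
theorem D51931 : act 5 n49844 = n51931 := rfl
theorem F232766 : act 1 n51931 = n49846 := d12_1 D51931 (iv D49846) (iv F223268)
theorem F232767 : act 2 n51931 = n50590 := d19_1 D51931 F226195 (iv F223269)
theorem F232768 : act 3 n51931 = n51931 := d25_1 D51931 (iv D51931) F223270
theorem F232769 : act 7 n51931 = n49853 := d36_2 (iv F223272) D51931 (iv D49853)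
def n51932 : Q := act 9 n49844
theorem D51932 : act 9 n49844 = n51932 := rfl
theorem F232770 : act 1 n51932 = n49847 := d16_1 D51932 (iv D49847) (iv F223268)
theorem F232771 : act 2 n51932 = n50793 := d23_1 D51932 (iv D50793) (iv F223269)
theorem F232772 : act 3 n51932 = n51932 := d29_1 D51932 (iv D51932) F223270
theorem F232773 : act 4 n51932 = n49845 := d34_1 D51932 (iv D49845) D49844
theorem F232774 : act 6 n51932 = n51932 := d41_1 D51932 (iv D51932) F223271
theorem F232775 : act 7 n51932 = n49854 := d43_1 D51932 (iv D49854) (iv F223272)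
def n51933 : Q := act 8 n49845
theorem D51933 : act 8 n49845 = n51933 := rfl
theorem F232776 : act 1 n51933 = n49848 := d15_1 D51933 (iv D49848) (iv F223273)
theorem F232777 : act 6 n51933 = n51933 := d40_1 D51933 (iv D51933) F223275
theorem F232778 : act 7 n51933 = n49855 := d42_1 D51933 (iv D49855) (iv F223276)
def n51934 : Q := act 6 n49846
theorem D51934 : act 6 n49846 = n51934 := rfl
theorem F232779 : act 2 n51934 = n49849 := d20_1 D51934 (iv D49849) (iv F223277)
theorem F232780 : act 3 n51934 = n51934 := d26_1 D51934 (iv D51934) F223278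
theorem F232781 : act 5 n51934 = n51934 := d35_1 D51934 (iv D51934) (iv D49846) F213075 D49846
def n51935 : Q := act 9 n49846
theorem D51935 : act 9 n49846 = n51935 := rfl
theorem F232782 : act 2 n51935 = n49850 := d23_1 D51935 (iv D49850) (iv F223277)
theorem F232783 : act 3 n51935 = n51935 := d29_1 D51935 (iv D51935) F223278
theorem F232784 : act 5 n51935 = n49847 := d38_1 D51935 (iv D49847) D49846
theorem F232785 : act 7 n51935 = n49857 := d43_1 D51935 (iv D49857) (iv F223279)
def n51936 : Q := act 8 n49847
theorem D51936 : act 8 n49847 = n51936 := rfl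
theorem F232786 : act 2 n51936 = n49851 := d22_1 D51936 (iv D49851) (iv F223280)
theorem F232787 : act 4 n51936 = n49848 := d33_1 D51936 (iv D49848) (iv F223282)
theorem F232788 : act 6 n51936 = n51936 := d40_1 D51936 (iv D51936) F223283
theorem F232789 : act 7 n51936 = n49858 := d42_1 D51936 (iv D49858) (iv F223284)
def n51937 : Q := act 3 n49848
theorem D51937 : act 3 n49848 = n51937 := rfl
theorem F232790 : act 0 n51937 = n50622 := d2_1 D51937 (iv F232322) F232319
theorem F232791 : act 2 n51937 = n50564 := d17_1 D51937 (iv F231949) F231948 F222555 (iv F223285)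
theorem F232792 : act 6 n51937 = n51937 := d26_2 F223286 D51937 (iv D51937)
theorem F232793 : act 7 n51937 = n49859 := d27_2 (iv F223287) D51937 (iv D49859)
theorem F232794 : act 8 n51937 = n49914 := d28_2 D49848 D51937 (iv D49914) (iv D47660) (iv F213078)
theorem F232795 : act 9 n51937 = n50582 := d29_2 F232581 D51937 (iv F232578)
def n51938 : Q := act 7 n49849
theorem D51938 : act 7 n49849 = n51938 := rfl
theorem F232796 : act 3 n51938 = n49878 := d27_1 D51938 (iv D49878) (iv F223288)
theorem F232797 : act 5 n51938 = n51938 := d36_1 D51938 (iv D51938) F223289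
theorem F232798 : act 6 n51938 = n49860 := d39_1 D51938 (iv D49860) (iv D47616) (iv F213082) D49849
def n51939 : Q := act 9 n49849
theorem D51939 : act 9 n49849 = n51939 := rfl
theorem F232799 : act 3 n51939 = n49879 := d29_1 D51939 (iv D49879) (iv F223288)
theorem F232800 : act 5 n51939 = n51939 := d38_1 D51939 (iv D51939) F223289
theorem F232801 : act 6 n51939 = n49850 := d41_1 D51939 (iv D49850) D49849
def n51940 : Q := act 8 n49850
theorem D51940 : act 8 n49850 = n51940 := rfl
theorem F232802 : act 5 n51940 = n49851 := d37_1 D51940 (iv D49851) (iv F223291)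
theorem F232803 : act 7 n51940 = n49862 := d42_1 D51940 (iv D49862) (iv F223292)
def n51941 : Q := act 3 n49851
theorem D51941 : act 3 n49851 = n51941 := rfl
theorem F232804 : act 6 n51941 = n51941 := d26_2 F223294 D51941 (iv D51941)
theorem F232805 : act 7 n51941 = n49863 := d27_2 (iv F223295) D51941 (iv D49863)
theorem F232806 : act 8 n51941 = n49881 := d28_2 D49851 D51941 (iv D49881) (iv D47633) (iv F213083)
def n51942 : Q := act 8 n49852
theorem D51942 : act 8 n49852 = n51942 := rfl
theorem F232807 : act 0 n51942 = n49855 := d7_1 D51942 (iv D49855) (iv F223296)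
theorem F232808 : act 6 n51942 = n49864 := d40_1 D51942 (iv D49864) (iv F223298)
def n51943 : Q := act 6 n49853
theorem D51943 : act 6 n49853 = n51943 := rfl
theorem F232809 : act 0 n51943 = n50176 := d5_1 D51943 (iv F229012) F229008
theorem F232810 : act 1 n51943 = n49856 := d13_1 D51943 (iv D49856) (iv F223299)
theorem F232811 : act 2 n51943 = n50608 := d20_1 D51943 (iv F229259) F229257
theorem F232812 : act 3 n51943 = n51943 := d26_1 D51943 (iv D51943) F223300
theorem F232813 : act 5 n51943 = n49865 := d35_1 D51943 (iv D49865) (iv D47620) (iv F213093) D49853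
theorem F232814 : act 8 n51943 = n50209 := d40_2 F229179 D51943 (iv F229178)
def n51944 : Q := act 9 n49853
theorem D51944 : act 9 n49853 = n51944 := rfl
theorem F232815 : act 1 n51944 = n49857 := d16_1 D51944 (iv D49857) (iv F223299)
theorem F232816 : act 3 n51944 = n51944 := d29_1 D51944 (iv D51944) F223300
theorem F232817 : act 5 n51944 = n49854 := d38_1 D51944 (iv D49854) D49853
def n51945 : Q := act 8 n49854
theorem D51945 : act 8 n49854 = n51945 := rfl
theorem F232818 : act 1 n51945 = n49858 := d15_1 D51945 (iv D49858) (iv F223301)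
theorem F232819 : act 4 n51945 = n49855 := d33_1 D51945 (iv D49855) (iv F223303)
theorem F232820 : act 6 n51945 = n49867 := d40_1 D51945 (iv D49867) (iv F223304)
def n51946 : Q := act 3 n49855
theorem D51946 : act 3 n49855 = n51946 := rfl
theorem F232821 : act 1 n51946 = n49859 := d10_1 D51946 (iv D49859) (iv F223305)
theorem F232822 : act 6 n51946 = n49868 := d26_2 (iv F223306) D51946 (iv D49868)
theorem F232823 : act 8 n51946 = n49916 := d28_2 D49855 D51946 (iv D49916) (iv D47662) (iv F213095)
theorem F232824 : act 9 n51946 = n50584 := d29_2 F232595 D51946 (iv F232593)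
def n51947 : Q := act 7 n49856
theorem D51947 : act 7 n49856 = n51947 := rfl
theorem F232825 : act 2 n51947 = n49860 := d21_1 D51947 (iv D49860) (iv F223307)
theorem F232826 : act 3 n51947 = n51947 := d27_1 D51947 (iv D51947) F223308
theorem F232827 : act 5 n51947 = n49869 := d36_1 D51947 (iv D49869) (iv F223309)
def n51948 : Q := act 9 n49856
theorem D51948 : act 9 n49856 = n51948 := rfl
theorem F232828 : act 2 n51948 = n49861 := d23_1 D51948 (iv D49861) (iv F223307)
theorem F232829 : act 3 n51948 = n51948 := d29_1 D51948 (iv D51948) F223308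
theorem F232830 : act 5 n51948 = n49870 := d38_1 D51948 (iv D49870) (iv F223309)
theorem F232831 : act 6 n51948 = n49857 := d41_1 D51948 (iv D49857) D49856
def n51949 : Q := act 8 n49857
theorem D51949 : act 8 n49857 = n51949 := rfl
theorem F232832 : act 2 n51949 = n49862 := d22_1 D51949 (iv D49862) (iv F223310)
theorem F232833 : act 5 n51949 = n49858 := d37_1 D51949 (iv D49858) (iv F223312)
def n51950 : Q := act 3 n49858
theorem D51950 : act 3 n49858 = n51950 := rfl
theorem F232834 : act 6 n51950 = n49872 := d26_2 (iv F223315) D51950 (iv D49872)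
theorem F232835 : act 8 n51950 = n51950 := d28_2 D49858 D51950 (iv D51950) (iv D49858) F213100
def n51951 : Q := act 4 n49859
theorem D51951 : act 4 n49859 = n51951 := rfl
theorem F232836 : act 0 n51951 = n50630 := d3_1 D51951 F226319 (iv F223316)
theorem F232837 : act 2 n51951 = n50067 := d18_1 D51951 F224330 (iv F223317)
theorem F232838 : act 6 n51951 = n49873 := d31_2 (iv F223318) D51951 (iv D49873)
theorem F232839 : act 8 n51951 = n49917 := d33_2 (iv F223319) D51951 (iv D49917)
theorem F232840 : act 9 n51951 = n50080 := d34_2 (iv F223320) D51951 F224390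
def n51952 : Q := act 9 n49860
theorem D51952 : act 9 n49860 = n51952 := rfl
theorem F232841 : act 3 n51952 = n49882 := d29_1 D51952 (iv D49882) (iv F223321)
theorem F232842 : act 5 n51952 = n49874 := d38_1 D51952 (iv D49874) (iv F223322)
theorem F232843 : act 7 n51952 = n49861 := d43_1 D51952 (iv D49861) D49860
def n51953 : Q := act 8 n49861
theorem D51953 : act 8 n49861 = n51953 := rfl
theorem F232844 : act 5 n51953 = n49875 := d37_1 D51953 (iv D49875) (iv F223324)
theorem F232845 : act 6 n51953 = n49862 := d40_1 D51953 (iv D49862) (iv F223325)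
def n51954 : Q := act 3 n49862
theorem D51954 : act 3 n49862 = n51954 := rfl
theorem F232846 : act 5 n51954 = n49863 := d25_2 (iv F223326) D51954 (iv D49863)
theorem F232847 : act 8 n51954 = n49884 := d28_2 D49862 D51954 (iv D49884) (iv D47636) (iv F213107)
def n51955 : Q := act 2 n49863
theorem D51955 : act 2 n49863 = n51955 := rfl
theorem F232848 : act 6 n51955 = n49877 := d20_2 (iv F223327) D51955 (iv D49877)
theorem F232849 : act 8 n51955 = n49885 := d22_2 (iv F223328) D51955 (iv D49885)
def n51956 : Q := act 7 n49865
theorem D51956 : act 7 n49865 = n51956 := rfl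
theorem F232850 : act 0 n51956 = n50182 := d6_1 D51956 F224852 (iv F223332)
theorem F232851 : act 1 n51956 = n49869 := d14_1 D51956 (iv D49869) (iv F223333)
theorem F232852 : act 2 n51956 = n50618 := d21_1 D51956 F226272 (iv F223334)
theorem F232853 : act 3 n51956 = n51956 := d27_1 D51956 (iv D51956) F223335
theorem F232854 : act 4 n51956 = n50699 := d32_1 D51956 (iv D50699) (iv F223336)
theorem F232855 : act 6 n51956 = n51956 := d39_1 D51956 (iv D51956) (iv D49865) F213120 D49865
theorem F232856 : act 8 n51956 = n50219 := d42_2 (iv F223337) D51956 F224989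
def n51957 : Q := act 9 n49865
theorem D51957 : act 9 n49865 = n51957 := rfl
theorem F232857 : act 0 n51957 = n50186 := d8_1 D51957 (iv D50186) (iv F223332)
theorem F232858 : act 1 n51957 = n49870 := d16_1 D51957 (iv D49870) (iv F223333)
theorem F232859 : act 2 n51957 = n50624 := d23_1 D51957 (iv D50624) (iv F223334)
theorem F232860 : act 3 n51957 = n51957 := d29_1 D51957 (iv D51957) F223335
theorem F232861 : act 4 n51957 = n50700 := d34_1 D51957 (iv D50700) (iv F223336)
theorem F232862 : act 6 n51957 = n49866 := d41_1 D51957 (iv D49866) D49865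
def n51958 : Q := act 8 n49866
theorem D51958 : act 8 n49866 = n51958 := rfl
theorem F232863 : act 0 n51958 = n50194 := d7_1 D51958 (iv D50194) (iv F223338)
theorem F232864 : act 1 n51958 = n49871 := d15_1 D51958 (iv D49871) (iv F223339)
theorem F232865 : act 2 n51958 = n50634 := d22_1 D51958 (iv D50634) (iv F223340)
theorem F232866 : act 4 n51958 = n50701 := d33_1 D51958 (iv D50701) (iv F223342)
theorem F232867 : act 5 n51958 = n49867 := d37_1 D51958 (iv D49867) (iv F223343)
theorem F232868 : act 7 n51958 = n51958 := d42_1 D51958 (iv D51958) F223344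
theorem F232869 : act 9 n51958 = n50240 := d44_2 D49866 D51958 (iv D50240) (iv D48022) (iv F213121)
def n51959 : Q := act 3 n49867
theorem D51959 : act 3 n49867 = n51959 := rfl
theorem F232870 : act 1 n51959 = n49872 := d10_1 D51959 (iv D49872) (iv F223345)
theorem F232871 : act 7 n51959 = n51959 := d27_2 F223347 D51959 (iv D51959)
theorem F232872 : act 8 n51959 = n51959 := d28_2 D49867 D51959 (iv D51959) (iv D49867) F213123
def n51960 : Q := act 9 n49869
theorem D51960 : act 9 n49869 = n51960 := rfl
theorem F232873 : act 2 n51960 = n49874 := d23_1 D51960 (iv D49874) (iv F223353)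
theorem F232874 : act 3 n51960 = n51960 := d29_1 D51960 (iv D51960) F223354
theorem F232875 : act 4 n51960 = n50703 := d34_1 D51960 (iv D50703) (iv F223355)
theorem F232876 : act 6 n51960 = n51960 := d41_1 D51960 (iv D51960) F223356
theorem F232877 : act 7 n51960 = n49870 := d43_1 D51960 (iv D49870) D49869
def n51961 : Q := act 8 n49870
theorem D51961 : act 8 n49870 = n51961 := rfl
theorem F232878 : act 2 n51961 = n49875 := d22_1 D51961 (iv D49875) (iv F223357)
theorem F232879 : act 4 n51961 = n50704 := d33_1 D51961 (iv D50704) (iv F223359)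
theorem F232880 : act 6 n51961 = n49871 := d40_1 D51961 (iv D49871) (iv F223360)
def n51962 : Q := act 3 n49871
theorem D51962 : act 3 n49871 = n51962 := rfl
theorem F232881 : act 5 n51962 = n49872 := d25_2 (iv F223363) D51962 (iv D49872)
theorem F232882 : act 7 n51962 = n51962 := d27_2 F223364 D51962 (iv D51962)
theorem F232883 : act 8 n51962 = n51962 := d28_2 D49871 D51962 (iv D51962) (iv D49871) F213133
def n51963 : Q := act 2 n49872
theorem D51963 : act 2 n49872 = n51963 := rfl
theorem F232884 : act 3 n51963 = n49877 := d17_2 D49872 D51963 (iv D49877) (iv D47630) (iv F213137)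
theorem F232885 : act 7 n51963 = n51963 := d21_2 F223365 D51963 (iv D51963)
theorem F232886 : act 8 n51963 = n51963 := d22_2 F223366 D51963 (iv D51963)
theorem F232887 : act 9 n51963 = n50249 := d23_2 F232646 D51963 F232647
theorem F232888 : act 4 n50196 = n51963 := d34_3 F232887 (iv D50249) (iv F224918)
def n51964 : Q := act 4 n49872
theorem D51964 : act 4 n49872 = n51964 := rfl
theorem F232889 : act 0 n51964 = n50639 := d3_1 D51964 (iv F232357) F232356
theorem F232890 : act 2 n51964 = n50196 := d18_1 D51964 F232888 (iv D51963)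
theorem F232891 : act 3 n51964 = n49873 := d24_1 D51964 (iv D49873) (iv D47626) (iv F213138) D49872
theorem F232892 : act 7 n51964 = n51964 := d32_2 F223365 D51964 (iv D51964)
theorem F232893 : act 8 n51964 = n51964 := d33_2 F223366 D51964 (iv D51964)
theorem F232894 : act 9 n51964 = n50083 := d34_2 F232646 D51964 (iv F232643)
def n51965 : Q := act 8 n49874
theorem D51965 : act 8 n49874 = n51965 := rfl
theorem F232895 : act 4 n51965 = n50707 := d33_1 D51965 (iv D50707) (iv F223373)
theorem F232896 : act 6 n51965 = n51965 := d40_1 D51965 (iv D51965) F223374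
theorem F232897 : act 7 n51965 = n49875 := d42_1 D51965 (iv D49875) (iv F223375)
def n51966 : Q := act 3 n49875
theorem D51966 : act 3 n49875 = n51966 := rfl
theorem F232898 : act 6 n51966 = n49876 := d26_2 (iv F223377) D51966 (iv D49876)
theorem F232899 : act 8 n51966 = n49887 := d28_2 D49875 D51966 (iv D49887) (iv D47639) (iv F213149)
def n51967 : Q := act 2 n49876
theorem D51967 : act 2 n49876 = n51967 := rfl
theorem F232900 : act 4 n51967 = n50244 := d18_2 F228892 D51967 (iv F228891)
theorem F232901 : act 5 n51967 = n49877 := d19_2 (iv F223378) D51967 (iv D49877)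
theorem F232902 : act 7 n51967 = n51967 := d21_2 F223379 D51967 (iv D51967)
theorem F232903 : act 8 n51967 = n49888 := d22_2 (iv F223380) D51967 (iv D49888)
theorem F232904 : act 1 n50249 = n51967 := d15_3 F232903 (iv F223421) (iv F225105)
def n51968 : Q := act 1 n49877
theorem D51968 : act 1 n49877 = n51968 := rfl
theorem F232905 : act 5 n51968 = n50249 := d12_2 F232901 D51968 F232904
theorem F232906 : act 7 n51968 = n51968 := d14_2 F223381 D51968 (iv D51968)
theorem F232907 : act 8 n51968 = n49889 := d15_2 (iv F223382) D51968 (iv D49889)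
def n51969 : Q := act 9 n49878
theorem D51969 : act 9 n49878 = n51969 := rfl
theorem F232908 : act 2 n51969 = n51969 := d23_1 D51969 (iv D51969) F223383
theorem F232909 : act 5 n51969 = n51969 := d38_1 D51969 (iv D51969) F223384
theorem F232910 : act 6 n51969 = n49882 := d41_1 D51969 (iv D49882) (iv F223385)
theorem F232911 : act 7 n51969 = n49879 := d43_1 D51969 (iv D49879) D49878
def n51970 : Q := act 8 n49879
theorem D51970 : act 8 n49879 = n51970 := rfl
theorem F232912 : act 2 n51970 = n51970 := d22_1 D51970 (iv D51970) F223387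
theorem F232913 : act 5 n51970 = n51970 := d37_1 D51970 (iv D51970) F223388
theorem F232914 : act 6 n51970 = n49880 := d40_1 D51970 (iv D49880) (iv F223389)
theorem F232915 : act 9 n51970 = n51970 := d44_2 D49879 D51970 (iv D51970) (iv D49879) F213159
def n51971 : Q := act 3 n49880
theorem D51971 : act 3 n49880 = n51971 := rfl
theorem F232916 : act 5 n51971 = n49881 := d25_2 (iv F223391) D51971 (iv D49881)
theorem F232917 : act 7 n51971 = n49884 := d27_2 (iv F223392) D51971 (iv D49884)
theorem F232918 : act 9 n51971 = n51971 := d29_2 F223393 D51971 (iv D51971)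
def n51972 : Q := act 2 n49881
theorem D51972 : act 2 n49881 = n51972 := rfl
theorem F232919 : act 3 n51972 = n51972 := d17_2 D49881 D51972 (iv D51972) (iv D49881) F213163
theorem F232920 : act 4 n51972 = n50847 := d18_2 F232023 D51972 (iv F232022)
theorem F232921 : act 6 n51972 = n51972 := d20_2 F223394 D51972 (iv D51972)
theorem F232922 : act 7 n51972 = n49885 := d21_2 (iv F223395) D51972 (iv D49885)
theorem F232923 : act 9 n51972 = n51972 := d23_2 F223396 D51972 (iv D51972)
def n51973 : Q := act 8 n49882
theorem D51973 : act 8 n49882 = n51973 := rfl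
theorem F232924 : act 2 n51973 = n51973 := d22_1 D51973 (iv D51973) F223397
theorem F232925 : act 4 n51973 = n50772 := d33_1 D51973 F231486 F231483
theorem F232926 : act 5 n51973 = n49886 := d37_1 D51973 (iv D49886) (iv F223398)
theorem F232927 : act 7 n51973 = n49883 := d42_1 D51973 (iv D49883) (iv F223399)
theorem F232928 : act 9 n51973 = n51973 := d44_2 D49882 D51973 (iv D51973) (iv D49882) F213170
def n51974 : Q := act 3 n49883
theorem D51974 : act 3 n49883 = n51974 := rfl
theorem F232929 : act 5 n51974 = n49887 := d25_2 (iv F223401) D51974 (iv D49887)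
theorem F232930 : act 6 n51974 = n49884 := d26_2 (iv F223402) D51974 (iv D49884)
theorem F232931 : act 9 n51974 = n51974 := d29_2 F223403 D51974 (iv D51974)
def n51975 : Q := act 2 n49884
theorem D51975 : act 2 n49884 = n51975 := rfl
theorem F232932 : act 3 n51975 = n51975 := d17_2 D49884 D51975 (iv D51975) (iv D49884) F213174
theorem F232933 : act 5 n51975 = n49885 := d19_2 (iv F223404) D51975 (iv D49885)
theorem F232934 : act 9 n51975 = n51975 := d23_2 F223405 D51975 (iv D51975)
def n51976 : Q := act 4 n49884
theorem D51976 : act 4 n49884 = n51976 := rfl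
theorem F232935 : act 9 n51976 = n51976 := d34_2 F223405 D51976 (iv D51976)
def n51977 : Q := act 1 n49885
theorem D51977 : act 1 n49885 = n51977 := rfl
theorem F232936 : act 3 n51977 = n51977 := d10_2 F223406 D51977 (iv D51977)
theorem F232937 : act 6 n51977 = n49889 := d13_2 (iv F223407) D51977 (iv D49889)
theorem F232938 : act 9 n51977 = n51977 := d16_2 F223408 D51977 (iv D51977)
def n51978 : Q := act 3 n49886
theorem D51978 : act 3 n49886 = n51978 := rfl
theorem F232939 : act 4 n51978 = n50768 := d24_2 (iv F223410) D51978 (iv D50768) F217079 (iv F213194)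
theorem F232940 : act 6 n51978 = n51978 := d26_2 F223411 D51978 (iv D51978)
theorem F232941 : act 7 n51978 = n49887 := d27_2 (iv F223412) D51978 (iv D49887)
theorem F232942 : act 9 n51978 = n51978 := d29_2 F223413 D51978 (iv D51978)
def n51979 : Q := act 2 n49887
theorem D51979 : act 2 n49887 = n51979 := rfl
theorem F232943 : act 3 n51979 = n51979 := d17_2 D49887 D51979 (iv D51979) (iv D49887) F213183
theorem F232944 : act 4 n51979 = n50272 := d18_2 F228916 D51979 (iv F228915)
theorem F232945 : act 6 n51979 = n49888 := d20_2 (iv F223414) D51979 (iv D49888)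
theorem F232946 : act 9 n51979 = n51979 := d23_2 F223415 D51979 (iv D51979)
theorem F232947 : act 1 n50273 = n51979 := d13_3 F232945 (iv F223421) (iv F225189)
def n51980 : Q := act 0 n49889
theorem D51980 : act 0 n49889 = n51980 := rfl
theorem F232948 : act 1 n51980 = n50834 := d0_2 D49889 D51980 (iv F228483) F228484 F222991
theorem F232949 : act 2 n51980 = n50166 := d1_2 F229418 D51980 (iv F229417)
theorem F232950 : act 3 n51980 = n51980 := d2_2 F223422 D51980 (iv D51980)
theorem F232951 : act 4 n51980 = n50833 := d3_2 F229530 D51980 (iv F229527)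
theorem F232952 : act 5 n51980 = n50167 := d4_2 (iv F223423) D51980 F224789
theorem F232953 : act 7 n51980 = n51980 := d6_2 F223424 D51980 (iv D51980)
theorem F232954 : act 9 n51980 = n51980 := d8_2 F223425 D51980 (iv D51980)
def n51981 : Q := act 9 n49890
theorem D51981 : act 9 n49890 = n51981 := rfl
theorem F232955 : act 0 n51981 = n50735 := d8_1 D51981 (iv D50735) (iv F223431)
theorem F232956 : act 1 n51981 = n49892 := d16_1 D51981 (iv D49892) D49890
theorem F232957 : act 2 n51981 = n49901 := d23_1 D51981 F223492 (iv F223426)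
theorem F232958 : act 4 n51981 = n49900 := d34_1 D51981 F223485 F223432
theorem F232959 : act 5 n51981 = n51981 := d38_1 D51981 (iv D51981) F223427
theorem F232960 : act 6 n51981 = n49897 := d41_1 D51981 (iv D49897) (iv F223428)
theorem F232961 : act 7 n51981 = n49909 := d43_1 D51981 F223530 (iv F223429)
theorem F232962 : act 8 n51981 = n49899 := d44_1 D51981 (iv D49899) F213220 F213671 (iv F223430)
def n51982 : Q := act 3 n49891
theorem D51982 : act 3 n49891 = n51982 := rfl
theorem F232963 : act 1 n51982 = n49954 := d10_1 D51982 (iv D49954) (iv F223433)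
theorem F232964 : act 5 n51982 = n49963 := d25_2 F223438 D51982 (iv D49963)
theorem F232965 : act 6 n51982 = n49898 := d26_2 (iv F223435) D51982 (iv D49898)
theorem F232966 : act 7 n51982 = n49956 := d27_2 (iv F223436) D51982 (iv D49956)
theorem F232967 : act 8 n51982 = n50568 := d28_2 (iv F223437) D51982 F226121 F216400 (iv F213674)
def n51983 : Q := act 9 n49891
theorem D51983 : act 9 n49891 = n51983 := rfl
theorem F232968 : act 1 n51983 = n49900 := d16_1 D51983 F223485 (iv F223433)
theorem F232969 : act 2 n51983 = n49893 := d23_1 D51983 (iv D49893) (iv F223434)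
theorem F232970 : act 4 n51983 = n49892 := d34_1 D51983 (iv D49892) D49891
theorem F232971 : act 5 n51983 = n49913 := d38_1 D51983 F223553 F223438
theorem F232972 : act 6 n51983 = n49899 := d41_1 D51983 (iv D49899) (iv F223435)
theorem F232973 : act 7 n51983 = n49906 := d43_1 D51983 F223517 (iv F223436)
theorem F232974 : act 8 n51983 = n49897 := d44_1 D51983 (iv D49897) F213216 F213678 (iv F223437)
def n51984 : Q := act 8 n49892
theorem D51984 : act 8 n49892 = n51984 := rfl
theorem F232975 : act 0 n51984 = n50732 := d7_1 D51984 (iv F232397) F232391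
theorem F232976 : act 1 n51984 = n49899 := d15_1 D51984 (iv F232962) F232956
theorem F232977 : act 2 n51984 = n49894 := d22_1 D51984 (iv D49894) (iv F223439)
theorem F232978 : act 4 n51984 = n49897 := d33_1 D51984 (iv F232974) F232970
theorem F232979 : act 5 n51984 = n51984 := d37_1 D51984 (iv D51984) F223440
theorem F232980 : act 6 n51984 = n49900 := d40_1 D51984 (iv D49900) (iv F223441)
theorem F232981 : act 7 n51984 = n49905 := d42_1 D51984 F223511 (iv F223442)
theorem F232982 : act 9 n51984 = n49896 := d44_2 D49892 D51984 F223470 (iv D47729) (iv F213202)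
def n51985 : Q := act 9 n49895
theorem D51985 : act 9 n49895 = n51985 := rfl
theorem F232983 : act 0 n51985 = n49897 := d8_1 D51985 (iv D49897) D49895
theorem F232984 : act 1 n51985 = n50719 := d16_1 D51985 (iv D50719) (iv F223457)
theorem F232985 : act 2 n51985 = n49918 := d23_1 D51985 (iv D49918) (iv F223458)
theorem F232986 : act 4 n51985 = n50732 := d34_1 D51985 (iv D50732) F223463
theorem F232987 : act 5 n51985 = n49912 := d38_1 D51985 (iv D49912) (iv F223459)
theorem F232988 : act 6 n51985 = n50735 := d41_1 D51985 (iv D50735) (iv F223460)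
theorem F232989 : act 7 n51985 = n49903 := d43_1 D51985 (iv D49903) (iv F223461)
def n51986 : Q := act 3 n49896
theorem D51986 : act 3 n49896 = n51986 := rfl
theorem F232990 : act 0 n51986 = n50600 := d2_1 D51986 F226222 (iv F223464)
theorem F232991 : act 1 n51986 = n49898 := d10_1 D51986 (iv D49898) (iv F223465)
theorem F232992 : act 2 n51986 = n50551 := d17_1 D51986 (iv D50551) F216234 (iv F213346) (iv F223466)
theorem F232993 : act 5 n51986 = n51986 := d25_2 F223467 D51986 (iv D51986)
theorem F232994 : act 6 n51986 = n49954 := d26_2 (iv F223468) D51986 (iv D49954)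
theorem F232995 : act 7 n51986 = n49904 := d27_2 (iv F223469) D51986 (iv D49904)
theorem F232996 : act 8 n51986 = n50565 := d28_2 (iv F223470) D51986 F226112 F216391 (iv F213682)
def n51987 : Q := act 8 n49898
theorem D51987 : act 8 n49898 = n51987 := rfl
theorem F232997 : act 0 n51987 = n50737 := d7_1 D51987 (iv F232409) F232405
theorem F232998 : act 1 n51987 = n50565 := d15_1 D51987 (iv F232996) F232991
theorem F232999 : act 3 n51987 = n49953 := d28_1 D51987 (iv D49953) (iv D47731) (iv F213220) D49898
theorem F233000 : act 5 n51987 = n51987 := d37_1 D51987 (iv D51987) F223475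
theorem F233001 : act 6 n51987 = n50568 := d40_1 D51987 (iv F232967) F232965
theorem F233002 : act 7 n51987 = n49907 := d42_1 D51987 (iv D49907) (iv F223476)
def n51988 : Q := act 9 n49898
theorem D51988 : act 9 n49898 = n51988 := rfl
theorem F233003 : act 3 n51988 = n49899 := d29_1 D51988 (iv D49899) D49898
theorem F233004 : act 5 n51988 = n51988 := d38_1 D51988 (iv D51988) F223475
theorem F233005 : act 7 n51988 = n49908 := d43_1 D51988 (iv D49908) (iv F223476)
def n51989 : Q := act 3 n49900
theorem D51989 : act 3 n49900 = n51989 := rfl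
theorem F233006 : act 0 n51989 = n50605 := d2_1 D51989 F226239 (iv F223481)
theorem F233007 : act 2 n51989 = n50561 := d17_1 D51989 F226099 F216318 (iv F213230) (iv F223482)
theorem F233008 : act 5 n51989 = n49914 := d25_2 (iv F223483) D51989 (iv D49914)
theorem F233009 : act 7 n51989 = n49910 := d27_2 (iv F223484) D51989 (iv D49910)
theorem F233010 : act 9 n51989 = n49954 := d29_2 (iv F223485) D51989 (iv D49954)

end Cfsg.Agent.Helper17.Fi23TC
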