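import Cfsg.Agent.Helper17.Fi23TC.Facts12

set_option autoImplicit false
set_option linter.all false

noncomputable section

namespace Cfsg.Agent.Helper17.Fi23TC

def n51990 : Q := act 9 n49902
theorem D51990 : act 9 n49902 = n51990 := rfl
theorem F233011 : act 0 n51990 = n49905 := d8_1 D51990 (iv D49905) (iv F223493)
theorem F233012 : act 2 n51990 = n49919 := d23_1 D51990 (iv D49919) (iv F223494)
theorem F233013 : act 4 n51990 = n49903 := d34_1 D51990 (iv D49903) D49902
theorem F233014 : act 5 n51990 = n51990 := d38_1 D51990 (iv D51990) F223495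
theorem F233015 : act 6 n51990 = n49944 := d41_1 D51990 (iv D49944) (iv F223496)
theorem F233016 : act 7 n51990 = n50732 := d43_1 D51990 (iv D50732) (iv F223497)
theorem F233017 : act 8 n51990 = n50586 := d44_1 D51990 (iv D50586) F216391 (iv F213635) (iv F223498)
def n51991 : Q := act 8 n49903
theorem D51991 : act 8 n49903 = n51991 := rfl
theorem F233018 : act 0 n51991 = n49906 := d7_1 D51991 (iv D49906) (iv F223499)
theorem F233019 : act 1 n51991 = n50736 := d15_1 D51991 (iv F232430) F232425
theorem F233020 : act 2 n51991 = n49920 := d22_1 D51991 (iv D49920) (iv F223500)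
theorem F233021 : act 4 n51991 = n50586 := d33_1 D51991 (iv F233017) F233013
theorem F233022 : act 5 n51991 = n49915 := d37_1 D51991 (iv D49915) (iv F223501)
theorem F233023 : act 6 n51991 = n50588 := d40_1 D51991 F226189 (iv F223502)
theorem F233024 : act 9 n51991 = n49955 := d44_2 D49903 D51991 (iv D49955) (iv D47733) (iv F213237)
def n51992 : Q := act 9 n49904
theorem D51992 : act 9 n49904 = n51992 := rfl
theorem F233025 : act 1 n51992 = n49908 := d16_1 D51992 (iv D49908) (iv F223503)
theorem F233026 : act 3 n51992 = n49905 := d29_1 D51992 (iv D49905) D49904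
theorem F233027 : act 5 n51992 = n51992 := d38_1 D51992 (iv D51992) F223504
theorem F233028 : act 6 n51992 = n50710 := d41_1 D51992 F226544 (iv F223505)
def n51993 : Q := act 3 n49906
theorem D51993 : act 3 n49906 = n51993 := rfl
theorem F233029 : act 1 n51993 = n49910 := d10_1 D51993 (iv D49910) (iv F223512)
theorem F233030 : act 5 n51993 = n49916 := d25_2 (iv F223515) D51993 (iv D49916)
theorem F233031 : act 6 n51993 = n50709 := d26_2 (iv F223516) D51993 F226538
theorem F233032 : act 9 n51993 = n49956 := d29_2 (iv F223517) D51993 (iv D49956)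
def n51994 : Q := act 9 n49907
theorem D51994 : act 9 n49907 = n51994 := rfl
theorem F233033 : act 3 n51994 = n49957 := d29_1 D51994 (iv D49957) (iv F223518)
theorem F233034 : act 5 n51994 = n51994 := d38_1 D51994 (iv D51994) F223519
theorem F233035 : act 6 n51994 = n50711 := d41_1 D51994 (iv D50711) (iv F223520)
def n51995 : Q := act 8 n49908
theorem D51995 : act 8 n49908 = n51995 := rfl
theorem F233036 : act 5 n51995 = n51995 := d37_1 D51995 (iv D51995) F223522
theorem F233037 : act 6 n51995 = n50712 := d40_1 D51995 (iv D50712) (iv F223523)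
def n51996 : Q := act 3 n49909
theorem D51996 : act 3 n49909 = n51996 := rfl
theorem F233038 : act 0 n51996 = n50740 := d2_1 D51996 F226640 (iv F223524)
theorem F233039 : act 1 n51996 = n50643 := d10_1 D51996 F226359 (iv F223525)
theorem F233040 : act 5 n51996 = n51996 := d25_2 F223528 D51996 (iv D51996)
theorem F233041 : act 6 n51996 = n50648 := d26_2 (iv F223529) D51996 F226371
theorem F233042 : act 9 n51996 = n49959 := d29_2 (iv F223530) D51996 (iv D49959)
def n51997 : Q := act 4 n49910
theorem D51997 : act 4 n49910 = n51997 := rfl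
theorem F233043 : act 0 n51997 = n50613 := d3_1 D51997 F226260 (iv F223531)
theorem F233044 : act 2 n51997 = n50562 := d18_1 D51997 F226103 (iv F223532)
theorem F233045 : act 6 n51997 = n50713 := d31_2 (iv F223534) D51997 (iv D50713)
theorem F233046 : act 9 n51997 = n49960 := d34_2 (iv F223535) D51997 (iv D49960)
def n51998 : Q := act 2 n49911
theorem D51998 : act 2 n49911 = n51998 := rfl
theorem F233047 : act 0 n51998 = n50729 := d1_1 D51998 F226605 (iv F223536)
theorem F233048 : act 1 n51998 = n50253 := d9_1 D51998 F225116 F215088 (iv F213396) (iv F223537)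
theorem F233049 : act 4 n51998 = n50717 := d18_2 (iv F223538) D51998 F226561
theorem F233050 : act 5 n51998 = n51998 := d19_2 F223539 D51998 (iv D51998)
theorem F233051 : act 6 n51998 = n50255 := d20_2 (iv F223540) D51998 F225125
theorem F233052 : act 9 n51998 = n49961 := d23_2 (iv F223541) D51998 (iv D49961)
def n51999 : Q := act 8 n49912
theorem D51999 : act 8 n49912 = n51999 := rfl
theorem F233053 : act 0 n51999 = n49913 := d7_1 D51999 (iv D49913) (iv F223542)
theorem F233054 : act 1 n51999 = n50741 := d15_1 D51999 F226647 (iv F223543)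
theorem F233055 : act 2 n51999 = n49923 := d22_1 D51999 (iv D49923) (iv F223544)
theorem F233056 : act 4 n51999 = n51999 := d33_1 D51999 (iv D51999) F223545
theorem F233057 : act 6 n51999 = n51999 := d40_1 D51999 (iv D51999) F223546
theorem F233058 : act 7 n51999 = n49915 := d42_1 D51999 (iv D49915) (iv F223547)
theorem F233059 : act 9 n51999 = n49962 := d44_2 D49912 D51999 (iv D49962) (iv D47740) (iv F213269)
def n52000 : Q := act 3 n49913
theorem D52000 : act 3 n49913 = n52000 := rfl
theorem F233060 : act 1 n52000 = n49914 := d10_1 D52000 (iv D49914) (iv F223548)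
theorem F233061 : act 6 n52000 = n52000 := d26_2 F223551 D52000 (iv D52000)
theorem F233062 : act 7 n52000 = n49916 := d27_2 (iv F223552) D52000 (iv D49916)
theorem F233063 : act 9 n52000 = n49963 := d29_2 (iv F223553) D52000 (iv D49963)
def n52001 : Q := act 4 n49914
theorem D52001 : act 4 n49914 = n52001 := rfl
theorem F233064 : act 0 n52001 = n50621 := d3_1 D52001 F226286 (iv F223554)
theorem F233065 : act 2 n52001 = n50066 := d18_1 D52001 F224324 (iv F223555)
theorem F233066 : act 3 n52001 = n52001 := d24_1 D52001 (iv D52001) (iv D49914) F213277 D49914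
theorem F233067 : act 6 n52001 = n52001 := d31_2 F223556 D52001 (iv D52001)
theorem F233068 : act 7 n52001 = n49917 := d32_2 (iv F223557) D52001 (iv D49917)
theorem F233069 : act 9 n52001 = n49964 := d34_2 (iv F223558) D52001 (iv D49964)
def n52002 : Q := act 5 n49917
theorem D52002 : act 5 n49917 = n52002 := rfl
theorem F233070 : act 0 n52002 = n50629 := d4_1 D52002 F226317 (iv F223568)
theorem F233071 : act 2 n52002 = n50065 := d19_1 D52002 F224320 (iv F223569)
theorem F233072 : act 3 n52002 = n52002 := d25_1 D52002 (iv D52002) F223570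
theorem F233073 : act 9 n52002 = n49965 := d38_2 (iv F223572) D52002 (iv D49965)
def n52003 : Q := act 9 n49925
theorem D52003 : act 9 n49925 = n52003 := rfl
theorem F233074 : act 0 n52003 = n50486 := d8_1 D52003 (iv D50486) (iv F223616)
theorem F233075 : act 1 n52003 = n52003 := d16_1 D52003 (iv D52003) F223617
theorem F233076 : act 3 n52003 = n50484 := d29_1 D52003 (iv D50484) F223622
theorem F233077 : act 4 n52003 = n49928 := d34_1 D52003 (iv D49928) (iv F223618)
theorem F233078 : act 5 n52003 = n50556 := d38_1 D52003 F226085 (iv F223619)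
theorem F233079 : act 6 n52003 = n49926 := d41_1 D52003 (iv D49926) (iv F223620)
theorem F233080 : act 7 n52003 = n50555 := d43_1 D52003 F226079 (iv F223621)
theorem F233081 : act 8 n52003 = n49935 := d44_1 D52003 (iv D49935) (iv D47704) (iv F213431) D49925
def n52004 : Q := act 8 n49927
theorem D52004 : act 8 n49927 = n52004 := rfl
theorem F233082 : act 0 n52004 = n50373 := d7_1 D52004 (iv D50373) (iv F223629)
theorem F233083 : act 1 n52004 = n52004 := d15_1 D52004 (iv D52004) F223630
theorem F233084 : act 3 n52004 = n49942 := d28_1 D52004 (iv D49942) F213558 (iv F213449) (iv F223631)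
theorem F233085 : act 4 n52004 = n50338 := d33_1 D52004 (iv D50338) (iv F223632)
theorem F233086 : act 5 n52004 = n52004 := d37_1 D52004 (iv D52004) F223633
theorem F233087 : act 6 n52004 = n50716 := d40_1 D52004 (iv D50716) (iv F223634)
theorem F233088 : act 9 n52004 = n52004 := d44_2 D49927 D52004 (iv D52004) (iv D49927) F213443
def n52005 : Q := act 9 n49930
theorem D52005 : act 9 n49930 = n52005 := rfl
theorem F233089 : act 0 n52005 = n49940 := d8_1 D52005 (iv D49940) (iv F223650)
theorem F233090 : act 1 n52005 = n50257 := d16_1 D52005 (iv D50257) (iv F223651)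
theorem F233091 : act 2 n52005 = n49931 := d23_1 D52005 (iv D49931) D49930
theorem F233092 : act 4 n52005 = n50255 := d34_1 D52005 (iv D50255) (iv F223652)
theorem F233093 : act 5 n52005 = n52005 := d38_1 D52005 (iv D52005) F223653
theorem F233094 : act 6 n52005 = n50717 := d41_1 D52005 (iv D50717) (iv F223654)
theorem F233095 : act 7 n52005 = n50262 := d43_1 D52005 (iv D50262) (iv F223655)
def n52006 : Q := act 8 n49931
theorem D52006 : act 8 n49931 = n52006 := rfl
theorem F233096 : act 0 n52006 = n49942 := d7_1 D52006 (iv D49942) (iv F223657)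
theorem F233097 : act 1 n52006 = n50275 := d15_1 D52006 (iv D50275) (iv F223658)
theorem F233098 : act 3 n52006 = n50373 := d28_1 D52006 (iv D50373) F215639 (iv F213481) (iv F223659)
theorem F233099 : act 4 n52006 = n50274 := d33_1 D52006 (iv D50274) (iv F223660)
theorem F233100 : act 5 n52006 = n52006 := d37_1 D52006 (iv D52006) F223661
theorem F233101 : act 6 n52006 = n50718 := d40_1 D52006 (iv D50718) (iv F223662)
theorem F233102 : act 7 n52006 = n50277 := d42_1 D52006 (iv D50277) (iv F223663)
theorem F233103 : act 9 n52006 = n52006 := d44_2 D49931 D52006 (iv D52006) (iv D49931) F213475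
def n52007 : Q := act 9 n49934
theorem D52007 : act 9 n49934 = n52007 := rfl
theorem F233104 : act 0 n52007 = n49957 := d8_1 D52007 (iv D49957) (iv F223680)
theorem F233105 : act 1 n52007 = n50735 := d16_1 D52007 (iv D50735) (iv F223681)
theorem F233106 : act 2 n52007 = n52007 := d23_1 D52007 (iv D52007) F223682
theorem F233107 : act 4 n52007 = n50733 := d34_1 D52007 (iv D50733) (iv F223683)
theorem F233108 : act 5 n52007 = n52007 := d38_1 D52007 (iv D52007) F223684
theorem F233109 : act 6 n52007 = n50719 := d41_1 D52007 (iv D50719) (iv F223685)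
theorem F233110 : act 7 n52007 = n50738 := d43_1 D52007 (iv D50738) (iv F223686)
theorem F233111 : act 8 n52007 = n50742 := d44_1 D52007 (iv D50742) (iv D48575) (iv F213530) D49934
def n52008 : Q := act 1 n49936
theorem D52008 : act 1 n49936 = n52008 := rfl
theorem F233112 : act 0 n52008 = n50153 := d0_1 D52008 F224719 F214778 (iv F215114) (iv F223693)
theorem F233113 : act 2 n52008 = n52008 := d9_2 D49936 D52008 (iv D52008) (iv D49936) F213538
theorem F233114 : act 4 n52008 = n50152 := d11_2 (iv F223694) D52008 F224714
theorem F233115 : act 5 n52008 = n52008 := d12_2 F223695 D52008 (iv D52008)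
theorem F233116 : act 6 n52008 = n50815 := d13_2 F229445 D52008 (iv F229442)
theorem F233117 : act 7 n52008 = n49938 := d14_2 (iv F223696) D52008 (iv D49938)
theorem F233118 : act 8 n52008 = n52008 := d15_2 F223697 D52008 (iv D52008)
def n52009 : Q := act 9 n49936
theorem D52009 : act 9 n49936 = n52009 := rfl
theorem F233119 : act 0 n52009 = n50262 := d8_1 D52009 (iv D50262) (iv F223693)
theorem F233120 : act 2 n52009 = n49937 := d23_1 D52009 (iv D49937) D49936
theorem F233121 : act 4 n52009 = n50260 := d34_1 D52009 (iv D50260) (iv F223694)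
theorem F233122 : act 5 n52009 = n52009 := d38_1 D52009 (iv D52009) F223695
theorem F233123 : act 7 n52009 = n49940 := d43_1 D52009 (iv D49940) (iv F223696)
def n52010 : Q := act 8 n49937
theorem D52010 : act 8 n49937 = n52010 := rfl
theorem F233124 : act 0 n52010 = n50277 := d7_1 D52010 (iv D50277) (iv F223698)
theorem F233125 : act 1 n52010 = n52010 := d15_1 D52010 (iv D52010) F223699
theorem F233126 : act 4 n52010 = n50276 := d33_1 D52010 (iv D50276) (iv F223701)
theorem F233127 : act 5 n52010 = n52010 := d37_1 D52010 (iv D52010) F223702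
theorem F233128 : act 7 n52010 = n49942 := d42_1 D52010 (iv D49942) (iv F223703)
theorem F233129 : act 9 n52010 = n52010 := d44_2 D49937 D52010 (iv D52010) (iv D49937) F213542
def n52011 : Q := act 0 n49938
theorem D52011 : act 0 n49938 = n52011 := rfl
theorem F233130 : act 1 n52011 = n50148 := d0_2 D49938 D52011 F224691 (iv F223651) F223650
theorem F233131 : act 2 n52011 = n52011 := d1_2 F223704 D52011 (iv D52011)
theorem F233132 : act 5 n52011 = n52011 := d4_2 F223705 D52011 (iv D52011)
theorem F233133 : act 6 n52011 = n50725 := d5_2 (iv F223706) D52011 (iv D50725)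
theorem F233134 : act 7 n52011 = n50153 := d6_2 F233117 D52011 (iv F233112)
theorem F233135 : act 8 n52011 = n52011 := d7_2 F223707 D52011 (iv D52011)
theorem F233136 : act 4 n50147 = n52011 := d32_3 F233134 (iv D50153) (iv F224689)
def n52012 : Q := act 4 n49938
theorem D52012 : act 4 n49938 = n52012 := rfl
theorem F233137 : act 0 n52012 = n50147 := d3_1 D52012 F233136 (iv D52011)
theorem F233138 : act 1 n52012 = n49939 := d11_1 D52012 (iv D49939) D49938
theorem F233139 : act 2 n52012 = n52012 := d18_1 D52012 (iv D52012) F223704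
theorem F233140 : act 6 n52012 = n50726 := d31_2 (iv F223706) D52012 (iv D50726)
theorem F233141 : act 7 n52012 = n50152 := d32_2 F233117 D52012 (iv F233114)
theorem F233142 : act 8 n52012 = n52012 := d33_2 F223707 D52012 (iv D52012)
theorem F233143 : act 5 n50159 = n52012 := d36_3 F233141 F224716 (iv F224751)
def n52013 : Q := act 9 n49938
theorem D52013 : act 9 n49938 = n52013 := rfl
theorem F233144 : act 1 n52013 = n49940 := d16_1 D52013 (iv D49940) D49938
theorem F233145 : act 2 n52013 = n52013 := d23_1 D52013 (iv D52013) F223704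
theorem F233146 : act 5 n52013 = n52013 := d38_1 D52013 (iv D52013) F223705
theorem F233147 : act 6 n52013 = n50727 := d41_1 D52013 (iv D50727) (iv F223706)
def n52014 : Q := act 3 n49939
theorem D52014 : act 3 n49939 = n52014 := rfl
theorem F233148 : act 0 n52014 = n50203 := d2_1 D52014 F224943 (iv F223708)
theorem F233149 : act 2 n52014 = n49948 := d17_1 D52014 (iv D49948) F213582 (iv F213552) (iv F223709)
theorem F233150 : act 5 n52014 = n50219 := d25_2 F223713 D52014 F224987
theorem F233151 : act 6 n52014 = n50728 := d26_2 (iv F223710) D52014 (iv D50728)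
theorem F233152 : act 7 n52014 = n50209 := d27_2 (iv F223711) D52014 F224964
def n52015 : Q := act 9 n49939
theorem D52015 : act 9 n49939 = n52015 := rfl
theorem F233153 : act 0 n52015 = n50255 := d8_1 D52015 (iv D50255) (iv F223708)
theorem F233154 : act 2 n52015 = n49941 := d23_1 D52015 (iv D49941) (iv F223709)
theorem F233155 : act 4 n52015 = n49940 := d34_1 D52015 (iv D49940) D49939
theorem F233156 : act 5 n52015 = n50268 := d38_1 D52015 (iv D50268) F223713
theorem F233157 : act 6 n52015 = n50729 := d41_1 D52015 (iv D50729) (iv F223710)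
theorem F233158 : act 7 n52015 = n50260 := d43_1 D52015 (iv D50260) (iv F223711)
def n52016 : Q := act 8 n49940
theorem D52016 : act 8 n49940 = n52016 := rfl
theorem F233159 : act 2 n52016 = n49942 := d22_1 D52016 (iv D49942) (iv F223714)
theorem F233160 : act 5 n52016 = n52016 := d37_1 D52016 (iv D52016) F223715
theorem F233161 : act 6 n52016 = n50730 := d40_1 D52016 (iv D50730) (iv F223716)
theorem F233162 : act 9 n52016 = n52016 := d44_2 D49940 D52016 (iv D52016) (iv D49940) F213549
def n52017 : Q := act 8 n49941
theorem D52017 : act 8 n49941 = n52017 := rfl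
theorem F233163 : act 0 n52017 = n50274 := d7_1 D52017 (iv D50274) (iv F223717)
theorem F233164 : act 1 n52017 = n52017 := d15_1 D52017 (iv D52017) F223718
theorem F233165 : act 3 n52017 = n50401 := d28_1 D52017 (iv D50401) F215746 (iv F213598) (iv F223719)
theorem F233166 : act 4 n52017 = n49942 := d33_1 D52017 (iv D49942) (iv F223720)
theorem F233167 : act 5 n52017 = n50279 := d37_1 D52017 (iv D50279) (iv F223721)
theorem F233168 : act 6 n52017 = n50731 := d40_1 D52017 (iv D50731) (iv F223722)
theorem F233169 : act 7 n52017 = n50276 := d42_1 D52017 (iv D50276) (iv F223723)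
theorem F233170 : act 9 n52017 = n52017 := d44_2 D49941 D52017 (iv D52017) (iv D49941) F213555
def n52018 : Q := act 9 n49943
theorem D52018 : act 9 n49943 = n52018 := rfl
theorem F233171 : act 0 n52018 = n50591 := d8_1 D52018 (iv D50591) (iv F223728)
theorem F233172 : act 1 n52018 = n49944 := d16_1 D52018 (iv D49944) D49943
theorem F233173 : act 2 n52018 = n52018 := d23_1 D52018 (iv D52018) F223729
theorem F233174 : act 4 n52018 = n50589 := d34_1 D52018 (iv D50589) (iv F223730)
theorem F233175 : act 5 n52018 = n49950 := d38_1 D52018 (iv D49950) (iv F223731)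
theorem F233176 : act 7 n52018 = n49947 := d43_1 D52018 (iv D49947) (iv F223732)
theorem F233177 : act 8 n52018 = n50587 := d44_1 D52018 (iv D50587) F216400 (iv F213642) (iv F223733)
def n52019 : Q := act 9 n49945
theorem D52019 : act 9 n49945 = n52019 := rfl
theorem F233178 : act 0 n52019 = n49947 := d8_1 D52019 (iv D49947) D49945
theorem F233179 : act 1 n52019 = n50588 := d16_1 D52019 (iv D50588) (iv F223740)
theorem F233180 : act 2 n52019 = n52019 := d23_1 D52019 (iv D52019) F223741
theorem F233181 : act 4 n52019 = n50587 := d34_1 D52019 (iv D50587) F223746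
theorem F233182 : act 5 n52019 = n49951 := d38_1 D52019 (iv D49951) (iv F223742)
theorem F233183 : act 6 n52019 = n50736 := d41_1 D52019 (iv D50736) (iv F223743)
theorem F233184 : act 7 n52019 = n50591 := d43_1 D52019 (iv D50591) (iv F223744)
theorem F233185 : act 8 n52019 = n50589 := d44_1 D52019 (iv D50589) F216419 (iv F213649) (iv F223745)
def n52020 : Q := act 3 n49946
theorem D52020 : act 3 n49946 = n52020 := rfl
theorem F233186 : act 0 n52020 = n50568 := d2_1 D52020 F226121 (iv F223747)
theorem F233187 : act 1 n52020 = n49948 := d10_1 D52020 (iv D49948) (iv F223748)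
theorem F233188 : act 5 n52020 = n50580 := d25_2 (iv F223750) D52020 F226156
theorem F233189 : act 6 n52020 = n50737 := d26_2 (iv F223751) D52020 (iv D50737)
theorem F233190 : act 7 n52020 = n50573 := d27_2 (iv F223752) D52020 F226139
def n52021 : Q := act 9 n49946
theorem D52021 : act 9 n49946 = n52021 := rfl
theorem F233191 : act 0 n52021 = n50587 := d8_1 D52021 (iv D50587) (iv F223747)
theorem F233192 : act 1 n52021 = n49949 := d16_1 D52021 (iv D49949) (iv F223748)
theorem F233193 : act 2 n52021 = n52021 := d23_1 D52021 (iv D52021) F223749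
theorem F233194 : act 4 n52021 = n49947 := d34_1 D52021 (iv D49947) D49946
theorem F233195 : act 5 n52021 = n50594 := d38_1 D52021 (iv D50594) (iv F223750)
theorem F233196 : act 6 n52021 = n50738 := d41_1 D52021 (iv D50738) (iv F223751)
theorem F233197 : act 7 n52021 = n50589 := d43_1 D52021 (iv D50589) (iv F223752)
theorem F233198 : act 8 n52021 = n50591 := d44_1 D52021 (iv D50591) F216423 (iv F213657) (iv F223753)
def n52022 : Q := act 8 n49948
theorem D52022 : act 8 n49948 = n52022 := rfl
theorem F233199 : act 0 n52022 = n50603 := d7_1 D52022 F226234 (iv F223759)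
theorem F233200 : act 3 n52022 = n49952 := d28_1 D52022 (iv D49952) (iv D47726) (iv F213586) D49948
theorem F233201 : act 5 n52022 = n50618 := d37_1 D52022 F226273 (iv F223760)
theorem F233202 : act 6 n52022 = n50739 := d40_1 D52022 (iv D50739) (iv F223761)
theorem F233203 : act 7 n52022 = n50608 := d42_1 D52022 F226249 (iv F223762)
def n52023 : Q := act 9 n49948
theorem D52023 : act 9 n49948 = n52023 := rfl
theorem F233204 : act 0 n52023 = n50648 := d8_1 D52023 (iv D50648) (iv F223759)
theorem F233205 : act 3 n52023 = n49949 := d29_1 D52023 (iv D49949) D49948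
theorem F233206 : act 5 n52023 = n50674 := d38_1 D52023 (iv D50674) (iv F223760)
theorem F233207 : act 6 n52023 = n50740 := d41_1 D52023 (iv D50740) (iv F223761)
theorem F233208 : act 7 n52023 = n50657 := d43_1 D52023 (iv D50657) (iv F223762)
def n52024 : Q := act 9 n49952
theorem D52024 : act 9 n49952 = n52024 := rfl
theorem F233209 : act 0 n52024 = n50733 := d8_1 D52024 (iv D50733) (iv F223784)
theorem F233210 : act 2 n52024 = n52024 := d23_1 D52024 (iv D52024) F223785
theorem F233211 : act 4 n52024 = n49957 := d34_1 D52024 (iv D49957) (iv F223786)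
theorem F233212 : act 5 n52024 = n50741 := d38_1 D52024 (iv D50741) (iv F223787)
theorem F233213 : act 6 n52024 = n50742 := d41_1 D52024 (iv D50742) (iv F223788)
theorem F233214 : act 7 n52024 = n50736 := d43_1 D52024 (iv D50736) (iv F223789)
theorem F233215 : act 8 n52024 = n50719 := d44_1 D52024 (iv D50719) (iv D48552) (iv F213664) D49952
def n52025 : Q := act 9 n49953
theorem D52025 : act 9 n49953 = n52025 := rfl
theorem F233216 : act 0 n52025 = n50738 := d8_1 D52025 (iv D50738) (iv F223790)
theorem F233217 : act 1 n52025 = n50586 := d16_1 D52025 (iv D50586) (iv F223791)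
theorem F233218 : act 2 n52025 = n52025 := d23_1 D52025 (iv D52025) F223792
theorem F233219 : act 4 n52025 = n50736 := d34_1 D52025 (iv D50736) (iv F223793)
theorem F233220 : act 5 n52025 = n52025 := d38_1 D52025 (iv D52025) F223794
theorem F233221 : act 6 n52025 = n50587 := d41_1 D52025 (iv D50587) (iv F223795)
theorem F233222 : act 7 n52025 = n49957 := d43_1 D52025 (iv D49957) (iv F223796)
def n52026 : Q := act 4 n49954
theorem D52026 : act 4 n49954 = n52026 := rfl
theorem F233223 : act 0 n52026 = n50604 := d3_1 D52026 (iv D50604) (iv F223797)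
theorem F233224 : act 2 n52026 = n50560 := d18_1 D52026 (iv D50560) (iv F223798)
theorem F233225 : act 7 n52026 = n49960 := d32_2 (iv F223800) D52026 (iv D49960)
theorem F233226 : act 8 n52026 = n50569 := d33_2 (iv F223801) D52026 (iv D50569)
def n52027 : Q := act 4 n49956
theorem D52027 : act 4 n49956 = n52027 := rfl
theorem F233227 : act 1 n52027 = n49960 := d11_1 D52027 (iv D49960) (iv F223808)
theorem F233228 : act 3 n52027 = n50642 := d24_1 D52027 (iv D50642) F216565 (iv F213714) D49956
theorem F233229 : act 6 n52027 = n50649 := d31_2 (iv F223810) D52027 F226375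
theorem F233230 : act 8 n52027 = n50574 := d33_2 (iv F223811) D52027 (iv D50574)
def n52028 : Q := act 8 n49957
theorem D52028 : act 8 n49957 = n52028 := rfl
theorem F233231 : act 0 n52028 = n50742 := d7_1 D52028 (iv F233111) F233104
theorem F233232 : act 1 n52028 = n50732 := d15_1 D52028 (iv F232397) F232392
theorem F233233 : act 2 n52028 = n52028 := d22_1 D52028 (iv D52028) F223812
theorem F233234 : act 4 n52028 = n50719 := d33_1 D52028 (iv F233215) F233211
theorem F233235 : act 5 n52028 = n52028 := d37_1 D52028 (iv D52028) F223813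
theorem F233236 : act 6 n52028 = n50733 := d40_1 D52028 F226622 (iv F223814)
theorem F233237 : act 9 n52028 = n49958 := d44_2 D49957 D52028 (iv D49958) (iv D47736) D47735
def n52029 : Q := act 3 n49958
theorem D52029 : act 3 n49958 = n52029 := rfl
theorem F233238 : act 0 n52029 = n50739 := d2_1 D52029 F226638 (iv F223815)
theorem F233239 : act 1 n52029 = n50600 := d10_1 D52029 F226222 (iv F223816)
theorem F233240 : act 5 n52029 = n52029 := d25_2 F223819 D52029 (iv D52029)
theorem F233241 : act 6 n52029 = n50603 := d26_2 (iv F223820) D52029 F226231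
theorem F233242 : act 8 n52029 = n49959 := d28_2 D49958 D52029 (iv D49959) (iv D47737) (iv F213723)
def n52030 : Q := act 2 n49959
theorem D52030 : act 2 n49959 = n52030 := rfl
theorem F233243 : act 0 n52030 = n50728 := d1_1 D52030 F226603 (iv F223821)
theorem F233244 : act 1 n52030 = n50200 := d9_1 D52030 (iv D50200) F214939 D48474 (iv F223822)
theorem F233245 : act 3 n52030 = n49961 := d17_2 D49959 D52030 (iv D49961) (iv D47739) (iv F213729)
theorem F233246 : act 5 n52030 = n52030 := d19_2 F223823 D52030 (iv D52030)
theorem F233247 : act 6 n52030 = n50203 := d20_2 (iv F223824) D52030 F224942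
def n52031 : Q := act 4 n49959
theorem D52031 : act 4 n49959 = n52031 := rfl
theorem F233248 : act 0 n52031 = n50611 := d3_1 D52031 F226255 (iv F223821)
theorem F233249 : act 1 n52031 = n50642 := d11_1 D52031 (iv D50642) (iv F223822)
theorem F233250 : act 3 n52031 = n49960 := d24_1 D52031 (iv D49960) (iv D47738) (iv F213730) D49959
theorem F233251 : act 6 n52031 = n50647 := d31_2 (iv F223824) D52031 (iv D50647)
def n52032 : Q := act 5 n49960
theorem D52032 : act 5 n49960 = n52032 := rfl
theorem F233252 : act 0 n52032 = n50612 := d4_1 D52032 (iv D50612) (iv F223825)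
theorem F233253 : act 2 n52032 = n50064 := d19_1 D52032 F224315 (iv F223826)
theorem F233254 : act 4 n52032 = n49965 := d30_1 D52032 (iv D49965) (iv D47745) (iv F213735) D49960
theorem F233255 : act 8 n52032 = n50071 := d37_2 (iv F223828) D52032 F224347
def n52033 : Q := act 8 n49966
theorem D52033 : act 8 n49966 = n52033 := rfl
theorem F233256 : act 0 n52033 = n49974 := d7_1 D52033 (iv D49974) (iv F223855)
theorem F233257 : act 1 n52033 = n50287 := d15_1 D52033 (iv D50287) (iv F223856)
theorem F233258 : act 3 n52033 = n49971 := d28_1 D52033 (iv D49971) F213865 (iv F213813) (iv F223857)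
theorem F233259 : act 4 n52033 = n50294 := d33_1 D52033 (iv D50294) (iv F223858)
theorem F233260 : act 6 n52033 = n49970 := d40_1 D52033 (iv D49970) (iv F223859)
theorem F233261 : act 7 n52033 = n49986 := d42_1 D52033 (iv D49986) (iv F223860)
theorem F233262 : act 9 n52033 = n49967 := d44_2 D49966 D52033 (iv D49967) (iv D47753) (iv F213806)
def n52034 : Q := act 8 n49968
theorem D52034 : act 8 n49968 = n52034 := rfl
theorem F233263 : act 0 n52034 = n50291 := d7_1 D52034 (iv D50291) (iv F223866)
theorem F233264 : act 1 n52034 = n49970 := d15_1 D52034 (iv D49970) (iv F223867)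
theorem F233265 : act 3 n52034 = n49981 := d28_1 D52034 (iv D49981) F213906 (iv F213831) (iv F223868)
theorem F233266 : act 4 n52034 = n50283 := d33_1 D52034 (iv D50283) (iv F223869)
theorem F233267 : act 6 n52034 = n50287 := d40_1 D52034 (iv D50287) (iv F223870)
theorem F233268 : act 7 n52034 = n49995 := d42_1 D52034 (iv D49995) (iv F223871)
theorem F233269 : act 9 n52034 = n50288 := d44_2 D49968 D52034 (iv D50288) (iv D48086) (iv F213824)
def n52035 : Q := act 8 n49969
theorem D52035 : act 8 n49969 = n52035 := rfl
theorem F233270 : act 0 n52035 = n49981 := d7_1 D52035 (iv D49981) (iv F223872)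
theorem F233271 : act 1 n52035 = n50283 := d15_1 D52035 (iv D50283) (iv F223873)
theorem F233272 : act 3 n52035 = n50291 := d28_1 D52035 (iv D50291) F215307 (iv F213847) (iv F223874)
theorem F233273 : act 4 n52035 = n49970 := d33_1 D52035 (iv D49970) (iv F223875)
theorem F233274 : act 6 n52035 = n50294 := d40_1 D52035 (iv D50294) (iv F223876)
theorem F233275 : act 7 n52035 = n50001 := d42_1 D52035 (iv D50001) (iv F223877)
theorem F233276 : act 9 n52035 = n50296 := d44_2 D49969 D52035 (iv D50296) (iv D48097) (iv F213837)
def n52036 : Q := act 8 n49972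
theorem D52036 : act 8 n49972 = n52036 := rfl
theorem F233277 : act 1 n52036 = n50304 := d15_1 D52036 (iv D50304) (iv F223886)
theorem F233278 : act 3 n52036 = n49979 := d28_1 D52036 (iv D49979) F213899 (iv F213878) (iv F223887)
theorem F233279 : act 5 n52036 = n49974 := d37_1 D52036 (iv D49974) (iv F223888)
theorem F233280 : act 7 n52036 = n50038 := d42_1 D52036 F224181 (iv F223889)
theorem F233281 : act 9 n52036 = n50314 := d44_2 D49972 D52036 (iv D50314) (iv D48121) (iv F213872)
def n52037 : Q := act 8 n49973
theorem D52037 : act 8 n49973 = n52037 := rfl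
theorem F233282 : act 2 n52037 = n49974 := d22_1 D52037 (iv D49974) (iv F223890)
theorem F233283 : act 4 n52037 = n50301 := d33_1 D52037 (iv D50301) (iv F223892)
theorem F233284 : act 6 n52037 = n49979 := d40_1 D52037 (iv D49979) (iv F223893)
theorem F233285 : act 7 n52037 = n50415 := d42_1 D52037 (iv D50415) (iv F223894)
theorem F233286 : act 9 n52037 = n50311 := d44_2 D49973 D52037 (iv D50311) (iv D48118) (iv F213883)
def n52038 : Q := act 9 n49975
theorem D52038 : act 9 n49975 = n52038 := rfl
theorem F233287 : act 1 n52038 = n49978 := d16_1 D52038 (iv D49978) (iv F223900)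
theorem F233288 : act 2 n52038 = n50308 := d23_1 D52038 (iv D50308) (iv F223901)
theorem F233289 : act 3 n52038 = n52038 := d29_1 D52038 (iv D52038) F223902
theorem F233290 : act 4 n52038 = n49976 := d34_1 D52038 (iv D49976) D49975
theorem F233291 : act 6 n52038 = n50300 := d41_1 D52038 (iv D50300) (iv F223903)
theorem F233292 : act 7 n52038 = n50033 := d43_1 D52038 (iv D50033) (iv F223904)
def n52039 : Q := act 8 n49976
theorem D52039 : act 8 n49976 = n52039 := rfl
theorem F233293 : act 1 n52039 = n49979 := d15_1 D52039 (iv D49979) (iv F223906)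
theorem F233294 : act 2 n52039 = n50309 := d22_1 D52039 (iv D50309) (iv F223907)
theorem F233295 : act 3 n52039 = n50304 := d28_1 D52039 (iv D50304) F215380 (iv F213942) (iv F223908)
theorem F233296 : act 5 n52039 = n50288 := d37_1 D52039 (iv D50288) (iv F223909)
theorem F233297 : act 7 n52039 = n50034 := d42_1 D52039 (iv D50034) (iv F223910)
def n52040 : Q := act 9 n49977
theorem D52040 : act 9 n49977 = n52040 := rfl
theorem F233298 : act 0 n52040 = n50303 := d8_1 D52040 (iv D50303) (iv F223911)
theorem F233299 : act 2 n52040 = n49980 := d23_1 D52040 (iv D49980) (iv F223912)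
theorem F233300 : act 3 n52040 = n52040 := d29_1 D52040 (iv D52040) F223913
theorem F233301 : act 4 n52040 = n50295 := d34_1 D52040 (iv D50295) (iv F223914)
theorem F233302 : act 5 n52040 = n49978 := d38_1 D52040 (iv D49978) D49977
theorem F233303 : act 7 n52040 = n50036 := d43_1 D52040 (iv D50036) (iv F223915)
def n52041 : Q := act 8 n49978
theorem D52041 : act 8 n49978 = n52041 := rfl
theorem F233304 : act 2 n52041 = n49981 := d22_1 D52041 (iv D49981) (iv F223917)
theorem F233305 : act 4 n52041 = n49979 := d33_1 D52041 (iv D49979) (iv F223919)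
theorem F233306 : act 6 n52041 = n50301 := d40_1 D52041 (iv D50301) (iv F223920)
theorem F233307 : act 7 n52041 = n50037 := d42_1 D52041 (iv D50037) (iv F223921)
theorem F233308 : act 9 n52041 = n50306 := d44_2 D49978 D52041 (iv D50306) (iv D48112) (iv F213897)
def n52042 : Q := act 8 n49980
theorem D52042 : act 8 n49980 = n52042 := rfl
theorem F233309 : act 1 n52042 = n50314 := d15_1 D52042 (iv D50314) (iv F223924)
theorem F233310 : act 5 n52042 = n49981 := d37_1 D52042 (iv D49981) (iv F223926)
theorem F233311 : act 7 n52042 = n50041 := d42_1 D52042 (iv D50041) (iv F223927)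
theorem F233312 : act 9 n52042 = n50304 := d44_2 D49980 D52042 (iv D50304) (iv D48110) (iv F213904)
def n52043 : Q := act 4 n49982
theorem D52043 : act 4 n49982 = n52043 := rfl
theorem F233313 : act 0 n52043 = n50014 := d3_1 D52043 (iv D50014) (iv F223933)
theorem F233314 : act 1 n52043 = n50345 := d11_1 D52043 (iv D50345) (iv F223934)
theorem F233315 : act 3 n52043 = n50121 := d24_1 D52043 (iv D50121) (iv D47932) (iv F213953) D49982
theorem F233316 : act 5 n52043 = n50379 := d30_2 (iv F223935) D52043 (iv D50379) F215674 (iv F213958)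
theorem F233317 : act 7 n52043 = n49996 := d32_2 (iv F223936) D52043 (iv D49996)
theorem F233318 : act 8 n52043 = n49987 := d33_2 (iv F223937) D52043 (iv D49987)
def n52044 : Q := act 9 n49982
theorem D52044 : act 9 n49982 = n52044 := rfl
theorem F233319 : act 0 n52044 = n50015 := d8_1 D52044 (iv D50015) (iv F223933)
theorem F233320 : act 1 n52044 = n50346 := d16_1 D52044 (iv D50346) (iv F223934)
theorem F233321 : act 3 n52044 = n49983 := d29_1 D52044 (iv D49983) D49982
theorem F233322 : act 5 n52044 = n49984 := d38_1 D52044 (iv D49984) (iv F223935)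
theorem F233323 : act 7 n52044 = n49997 := d43_1 D52044 (iv D49997) (iv F223936)
def n52045 : Q := act 8 n49984
theorem D52045 : act 8 n49984 = n52045 := rfl
theorem F233324 : act 0 n52045 = n50024 := d7_1 D52045 (iv D50024) (iv F223945)
theorem F233325 : act 1 n52045 = n50348 := d15_1 D52045 (iv D50348) (iv F223946)
theorem F233326 : act 3 n52045 = n50007 := d28_1 D52045 (iv D50007) F214109 (iv F213968) (iv F223947)
theorem F233327 : act 4 n52045 = n50382 := d33_1 D52045 (iv D50382) (iv F223948)
theorem F233328 : act 6 n52045 = n49986 := d40_1 D52045 (iv D49986) (iv F223949)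
theorem F233329 : act 7 n52045 = n50000 := d42_1 D52045 (iv D50000) (iv F223950)
theorem F233330 : act 9 n52045 = n49989 := d44_2 D49984 D52045 (iv D49989) (iv D47786) (iv F213961)
def n52046 : Q := act 8 n49985
theorem D52046 : act 8 n49985 = n52046 := rfl
theorem F233331 : act 0 n52046 = n50415 := d7_1 D52046 (iv D50415) (iv F223951)
theorem F233332 : act 2 n52046 = n49986 := d22_1 D52046 (iv D49986) (iv F223952)
theorem F233333 : act 3 n52046 = n50454 := d28_1 D52046 (iv D50454) F215865 D48620 (iv F223953)
theorem F233334 : act 4 n52046 = n50384 := d33_1 D52046 (iv D50384) (iv F223954)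
theorem F233335 : act 5 n52046 = n50455 := d37_1 D52046 F225750 (iv F223955)
theorem F233336 : act 9 n52046 = n49990 := d44_2 D49985 D52046 (iv D49990) (iv D47787) (iv F213971)
def n52047 : Q := act 9 n49987
theorem D52047 : act 9 n49987 = n52047 := rfl
theorem F233337 : act 0 n52047 = n50433 := d8_1 D52047 (iv D50433) (iv F223961)
theorem F233338 : act 1 n52047 = n50357 := d16_1 D52047 (iv D50357) (iv F223962)
theorem F233339 : act 3 n52047 = n50073 := d29_1 D52047 (iv D50073) (iv F223963)
theorem F233340 : act 4 n52047 = n49988 := d34_1 D52047 (iv D49988) D49987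
theorem F233341 : act 5 n52047 = n50391 := d38_1 D52047 (iv D50391) (iv F223964)
def n52048 : Q := act 8 n49988
theorem D52048 : act 8 n49988 = n52048 := rfl
theorem F233342 : act 0 n52048 = n50447 := d7_1 D52048 (iv D50447) (iv F223965)
theorem F233343 : act 1 n52048 = n50358 := d15_1 D52048 (iv D50358) (iv F223966)
theorem F233344 : act 3 n52048 = n50021 := d28_1 D52048 (iv D50021) F214143 (iv F213984) (iv F223967)
theorem F233345 : act 5 n52048 = n49989 := d37_1 D52048 (iv D49989) (iv F223968)
def n52049 : Q := act 3 n49990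
theorem D52049 : act 3 n49990 = n52049 := rfl
theorem F233346 : act 0 n52049 = n50455 := d2_1 D52049 (iv D50455) (iv F223974)
theorem F233347 : act 2 n52049 = n50038 := d17_1 D52049 (iv D50038) F214188 (iv F213996) (iv F223975)
theorem F233348 : act 5 n52049 = n50415 := d25_2 F227671 D52049 (iv F227670)
theorem F233349 : act 8 n52049 = n49991 := d28_2 D49990 D52049 (iv D49991) (iv D47789) (iv F213992)
theorem F233350 : act 9 n52049 = n50454 := d29_2 F233336 D52049 (iv F233333)
def n52050 : Q := act 4 n49992
theorem D52050 : act 4 n49992 = n52050 := rfl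
theorem F233351 : act 0 n52050 = n50356 := d3_1 D52050 F225490 (iv F223981)
theorem F233352 : act 1 n52050 = n49996 := d11_1 D52050 (iv D49996) (iv F223982)
theorem F233353 : act 3 n52050 = n50106 := d24_1 D52050 (iv D50106) (iv D47917) (iv F214004) D49992
theorem F233354 : act 5 n52050 = n50330 := d30_2 (iv F223983) D52050 (iv D50330) F215502 (iv F214009)
theorem F233355 : act 7 n52050 = n50345 := d32_2 (iv F223984) D52050 (iv D50345)
theorem F233356 : act 8 n52050 = n50352 := d33_2 (iv F223985) D52050 (iv D50352)
def n52051 : Q := act 9 n49992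
theorem D52051 : act 9 n49992 = n52051 := rfl
theorem F233357 : act 0 n52051 = n50363 := d8_1 D52051 (iv D50363) (iv F223981)
theorem F233358 : act 1 n52051 = n49997 := d16_1 D52051 (iv D49997) (iv F223982)
theorem F233359 : act 3 n52051 = n49993 := d29_1 D52051 (iv D49993) D49992
theorem F233360 : act 5 n52051 = n49994 := d38_1 D52051 (iv D49994) (iv F223983)
theorem F233361 : act 7 n52051 = n50346 := d43_1 D52051 (iv D50346) (iv F223984)
def n52052 : Q := act 8 n49994
theorem D52052 : act 8 n49994 = n52052 := rfl
theorem F233362 : act 0 n52052 = n50364 := d7_1 D52052 (iv D50364) (iv F223993)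
theorem F233363 : act 1 n52052 = n50000 := d15_1 D52052 (iv D50000) (iv F223994)
theorem F233364 : act 3 n52052 = n50032 := d28_1 D52052 (iv D50032) F214171 (iv F214019) (iv F223995)
theorem F233365 : act 4 n52052 = n50334 := d33_1 D52052 (iv D50334) (iv F223996)
theorem F233366 : act 6 n52052 = n49995 := d40_1 D52052 (iv D49995) (iv F223997)
theorem F233367 : act 7 n52052 = n50348 := d42_1 D52052 (iv D50348) (iv F223998)
theorem F233368 : act 9 n52052 = n50359 := d44_2 D49994 D52052 (iv D50359) (iv D48173) (iv F214012)
def n52053 : Q := act 5 n49996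
theorem D52053 : act 5 n49996 = n52053 := rfl
theorem F233369 : act 0 n52053 = n50019 := d4_1 D52053 (iv D50019) (iv F224003)
theorem F233370 : act 1 n52053 = n50330 := d12_1 D52053 (iv F233354) F233352
theorem F233371 : act 3 n52053 = n50126 := d25_1 D52053 (iv D50126) (iv F224004)
theorem F233372 : act 4 n52053 = n49998 := d30_1 D52053 (iv D49998) (iv D47796) (iv F214025) D49996
theorem F233373 : act 7 n52053 = n50379 := d36_2 F233317 D52053 (iv F233316)
theorem F233374 : act 8 n52053 = n50387 := d37_2 F227968 D52053 (iv F227965)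
def n52054 : Q := act 9 n49996
theorem D52054 : act 9 n49996 = n52054 := rfl
theorem F233375 : act 0 n52054 = n50020 := d8_1 D52054 (iv D50020) (iv F224003)
theorem F233376 : act 3 n52054 = n50127 := d29_1 D52054 (iv D50127) (iv F224004)
theorem F233377 : act 4 n52054 = n49997 := d34_1 D52054 (iv D49997) D49996
def n52055 : Q := act 8 n49997
theorem D52055 : act 8 n49997 = n52055 := rfl
theorem F233378 : act 0 n52055 = n50021 := d7_1 D52055 (iv D50021) (iv F224005)
theorem F233379 : act 3 n52055 = n50447 := d28_1 D52055 (iv D50447) F215848 (iv F214030) (iv F224006)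
theorem F233380 : act 5 n52055 = n50000 := d37_1 D52055 (iv D50000) (iv F224007)
def n52056 : Q := act 9 n49998
theorem D52056 : act 9 n49998 = n52056 := rfl
theorem F233381 : act 0 n52056 = n50031 := d8_1 D52056 (iv D50031) (iv F224008)
theorem F233382 : act 1 n52056 = n50331 := d16_1 D52056 (iv D50331) (iv F224009)
theorem F233383 : act 3 n52056 = n50002 := d29_1 D52056 (iv D50002) (iv F224010)
theorem F233384 : act 5 n52056 = n49999 := d38_1 D52056 (iv D49999) D49998
theorem F233385 : act 7 n52056 = n50380 := d43_1 D52056 (iv D50380) (iv F224011)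
def n52057 : Q := act 8 n49999
theorem D52057 : act 8 n49999 = n52057 := rfl
theorem F233386 : act 0 n52057 = n50032 := d7_1 D52057 (iv D50032) (iv F224013)
theorem F233387 : act 1 n52057 = n50334 := d15_1 D52057 (iv D50334) (iv F224014)
theorem F233388 : act 3 n52057 = n50364 := d28_1 D52057 (iv D50364) F215612 (iv F214058) (iv F224015)
theorem F233389 : act 4 n52057 = n50000 := d33_1 D52057 (iv D50000) (iv F224016)
theorem F233390 : act 6 n52057 = n50001 := d40_1 D52057 (iv D50001) (iv F224017)
theorem F233391 : act 7 n52057 = n50382 := d42_1 D52057 (iv D50382) (iv F224018)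
theorem F233392 : act 9 n52057 = n50393 := d44_2 D49999 D52057 (iv D50393) (iv D48211) (iv F214036)
def n52058 : Q := act 9 n50005
theorem D52058 : act 9 n50005 = n52058 := rfl
theorem F233393 : act 1 n52058 = n50409 := d16_1 D52058 (iv D50409) (iv F224049)
theorem F233394 : act 3 n52058 = n50654 := d29_1 D52058 (iv D50654) (iv F224050)
theorem F233395 : act 4 n52058 = n50006 := d34_1 D52058 (iv D50006) D50005
theorem F233396 : act 5 n52058 = n50423 := d38_1 D52058 (iv D50423) (iv F224051)
theorem F233397 : act 7 n52058 = n50433 := d43_1 D52058 (iv D50433) (iv F224052)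
def n52059 : Q := act 8 n50006
theorem D52059 : act 8 n50006 = n52059 := rfl
theorem F233398 : act 1 n52059 = n50410 := d15_1 D52059 (iv D50410) (iv F224054)
theorem F233399 : act 5 n52059 = n50007 := d37_1 D52059 (iv D50007) (iv F224056)
theorem F233400 : act 7 n52059 = n50447 := d42_1 D52059 (iv D50447) (iv F224057)
theorem F233401 : act 9 n52059 = n50021 := d44_2 D50006 D52059 (iv D50021) (iv D47819) (iv F214102)
def n52060 : Q := act 9 n50008
theorem D52060 : act 9 n50008 = n52060 := rfl
theorem F233402 : act 1 n52060 = n50050 := d16_1 D52060 F224233 (iv F224063)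
theorem F233403 : act 3 n52060 = n50049 := d29_1 D52060 F224231 (iv F224064)
theorem F233404 : act 5 n52060 = n50419 := d38_1 D52060 (iv D50419) (iv F224065)
theorem F233405 : act 6 n52060 = n50009 := d41_1 D52060 (iv D50009) D50008
def n52061 : Q := act 8 n50009
theorem D52061 : act 8 n50009 = n52061 := rfl
theorem F233406 : act 1 n52061 = n50038 := d15_1 D52061 F224181 (iv F224067)
theorem F233407 : act 3 n52061 = n50034 := d28_1 D52061 (iv D50034) F214182 D47852 (iv F224068)
theorem F233408 : act 5 n52061 = n50010 := d37_1 D52061 (iv D50010) (iv F224069)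
theorem F233409 : act 7 n52061 = n50304 := d42_1 D52061 (iv D50304) (iv F224070)
theorem F233410 : act 9 n52061 = n50041 := d44_2 D50009 D52061 (iv D50041) (iv D47834) (iv F214116)
def n52062 : Q := act 4 n50011
theorem D52062 : act 4 n50011 = n52062 := rfl
theorem F233411 : act 1 n52062 = n50418 := d11_1 D52062 (iv D50418) (iv F224076)
theorem F233412 : act 3 n52062 = n50201 := d24_1 D52062 (iv D50201) (iv D47995) (iv F214126) D50011
theorem F233413 : act 6 n52062 = n50014 := d31_2 (iv F224078) D52062 (iv D50014)
theorem F233414 : act 8 n52062 = n50432 := d33_2 (iv F224079) D52062 F225696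
def n52063 : Q := act 9 n50011
theorem D52063 : act 9 n50011 = n52063 := rfl
theorem F233415 : act 1 n52063 = n50419 := d16_1 D52063 (iv D50419) (iv F224076)
theorem F233416 : act 3 n52063 = n50012 := d29_1 D52063 (iv D50012) D50011
theorem F233417 : act 5 n52063 = n50050 := d38_1 D52063 F224233 (iv F224077)
theorem F233418 : act 6 n52063 = n50015 := d41_1 D52063 (iv D50015) (iv F224078)
def n52064 : Q := act 4 n50013
theorem D52064 : act 4 n50013 = n52064 := rfl
theorem F233419 : act 2 n52064 = n50014 := d18_1 D52064 (iv D50014) D50013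
theorem F233420 : act 5 n52064 = n50407 := d30_2 (iv F224087) D52064 (iv D50407) F215774 (iv F214146)
theorem F233421 : act 7 n52064 = n50017 := d32_2 (iv F224088) D52064 (iv D50017)
theorem F233422 : act 8 n52064 = n50429 := d33_2 (iv F224089) D52064 F225690
def n52065 : Q := act 9 n50013
theorem D52065 : act 9 n50013 = n52065 := rfl
theorem F233423 : act 2 n52065 = n50015 := d23_1 D52065 (iv D50015) D50013
theorem F233424 : act 3 n52065 = n50044 := d29_1 D52065 (iv D50044) (iv F224086)
theorem F233425 : act 5 n52065 = n50023 := d38_1 D52065 (iv D50023) (iv F224087)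
theorem F233426 : act 7 n52065 = n50018 := d43_1 D52065 (iv D50018) (iv F224088)
def n52066 : Q := act 9 n50014
theorem D52066 : act 9 n50014 = n52066 := rfl
theorem F233427 : act 1 n52066 = n50423 := d16_1 D52066 (iv D50423) (iv F224090)
theorem F233428 : act 3 n52066 = n50207 := d29_1 D52066 (iv D50207) (iv F224091)
theorem F233429 : act 4 n52066 = n50015 := d34_1 D52066 (iv D50015) D50014
theorem F233430 : act 5 n52066 = n50409 := d38_1 D52066 (iv D50409) (iv F224092)
theorem F233431 : act 7 n52066 = n50020 := d43_1 D52066 (iv D50020) (iv F224093)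
def n52067 : Q := act 8 n50015
theorem D52067 : act 8 n50015 = n52067 := rfl
theorem F233432 : act 1 n52067 = n50424 := d15_1 D52067 (iv D50424) (iv F224095)
theorem F233433 : act 5 n52067 = n50024 := d37_1 D52067 (iv D50024) (iv F224097)
theorem F233434 : act 7 n52067 = n50021 := d42_1 D52067 (iv D50021) (iv F224098)
theorem F233435 : act 9 n52067 = n50447 := d44_2 D50015 D52067 (iv D50447) (iv D48262) (iv F214132)
def n52068 : Q := act 4 n50016
theorem D52068 : act 4 n50016 = n52068 := rfl
theorem F233436 : act 1 n52068 = n50017 := d11_1 D52068 (iv D50017) D50016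
theorem F233437 : act 2 n52068 = n50426 := d18_1 D52068 (iv D50426) (iv F224099)
theorem F233438 : act 3 n52068 = n50513 := d24_1 D52068 (iv D50513) (iv D48343) F214235 (iv F224100)
theorem F233439 : act 6 n52068 = n50352 := d31_2 (iv F224102) D52068 (iv D50352)
def n52069 : Q := act 9 n50016
theorem D52069 : act 9 n50016 = n52069 := rfl
theorem F233440 : act 1 n52069 = n50018 := d16_1 D52069 (iv D50018) D50016
theorem F233441 : act 2 n52069 = n50427 := d23_1 D52069 (iv D50427) (iv F224099)
theorem F233442 : act 3 n52069 = n50045 := d29_1 D52069 (iv D50045) (iv F224100)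
theorem F233443 : act 5 n52069 = n50026 := d38_1 D52069 (iv D50026) (iv F224101)
theorem F233444 : act 6 n52069 = n50353 := d41_1 D52069 (iv D50353) (iv F224102)
def n52070 : Q := act 3 n50017
theorem D52070 : act 3 n50017 = n52070 := rfl
theorem F233445 : act 0 n52070 = n50653 := d2_1 D52070 (iv F227897) F227894
theorem F233446 : act 1 n52070 = n50513 := d10_1 D52070 (iv F233438) F233436
theorem F233447 : act 2 n52070 = n50212 := d17_1 D52070 (iv D50212) F214958 (iv F214141) (iv F224103)
theorem F233448 : act 4 n52070 = n50046 := d24_2 D50017 D52070 (iv D50046) (iv D47845) (iv F214138)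
theorem F233449 : act 6 n52070 = n50068 := d26_2 F227966 D52070 (iv F227964)
def n52071 : Q := act 5 n50017
theorem D52071 : act 5 n50017 = n52071 := rfl
theorem F233450 : act 2 n52071 = n50019 := d19_1 D52071 (iv D50019) (iv F224103)
theorem F233451 : act 4 n52071 = n50027 := d30_1 D52071 (iv D50027) (iv D47823) (iv F214139) D50017
theorem F233452 : act 7 n52071 = n50407 := d36_2 F233421 D52071 (iv F233420)
theorem F233453 : act 8 n52071 = n50421 := d37_2 F227811 D52071 (iv F227808)
def n52072 : Q := act 9 n50017
theorem D52072 : act 9 n50017 = n52072 := rfl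
theorem F233454 : act 2 n52072 = n50020 := d23_1 D52072 (iv D50020) (iv F224103)
theorem F233455 : act 4 n52072 = n50018 := d34_1 D52072 (iv D50018) D50017
def n52073 : Q := act 8 n50018
theorem D52073 : act 8 n50018 = n52073 := rfl
theorem F233456 : act 2 n52073 = n50021 := d22_1 D52073 (iv D50021) (iv F224104)
theorem F233457 : act 5 n52073 = n50029 := d37_1 D52073 (iv D50029) (iv F224106)
def n52074 : Q := act 6 n50019
theorem D52074 : act 6 n50019 = n52074 := rfl
theorem F233458 : act 1 n52074 = n50432 := d13_1 D52074 (iv D50432) (iv F224107)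
theorem F233459 : act 3 n52074 = n50216 := d26_1 D52074 (iv D50216) (iv F224108)
theorem F233460 : act 4 n52074 = n50030 := d31_1 D52074 (iv D50030) (iv F224109)
theorem F233461 : act 8 n52074 = n50418 := d40_2 (iv F224111) D52074 F225664
def n52075 : Q := act 9 n50019
theorem D52075 : act 9 n50019 = n52075 := rfl
theorem F233462 : act 1 n52075 = n50433 := d16_1 D52075 (iv D50433) (iv F224107)
theorem F233463 : act 3 n52075 = n50217 := d29_1 D52075 (iv D50217) (iv F224108)
theorem F233464 : act 4 n52075 = n50031 := d34_1 D52075 (iv D50031) (iv F224109)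
theorem F233465 : act 5 n52075 = n50020 := d38_1 D52075 (iv D50020) D50019
theorem F233466 : act 7 n52075 = n50409 := d43_1 D52075 (iv D50409) (iv F224110)
def n52076 : Q := act 8 n50020
theorem D52076 : act 8 n50020 = n52076 := rfl
theorem F233467 : act 1 n52076 = n50434 := d15_1 D52076 (iv D50434) (iv F224112)
theorem F233468 : act 4 n52076 = n50021 := d33_1 D52076 (iv D50021) (iv F224114)
def n52077 : Q := act 9 n50022
theorem D52077 : act 9 n50022 = n52077 := rfl
theorem F233469 : act 1 n52077 = n50023 := d16_1 D52077 (iv D50023) D50022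
theorem F233470 : act 2 n52077 = n50435 := d23_1 D52077 (iv D50435) (iv F224117)
theorem F233471 : act 3 n52077 = n50048 := d29_1 D52077 (iv D50048) (iv F224118)
theorem F233472 : act 4 n52077 = n50411 := d34_1 D52077 (iv D50411) (iv F224119)
theorem F233473 : act 6 n52077 = n50413 := d41_1 D52077 (iv D50413) (iv F224120)
theorem F233474 : act 7 n52077 = n50026 := d43_1 D52077 (iv D50026) (iv F224121)
def n52078 : Q := act 8 n50023
theorem D52078 : act 8 n50023 = n52078 := rfl
theorem F233475 : act 2 n52078 = n50024 := d22_1 D52078 (iv D50024) (iv F224123)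
theorem F233476 : act 4 n52078 = n50412 := d33_1 D52078 (iv D50412) (iv F224125)
theorem F233477 : act 6 n52078 = n50415 := d40_1 D52078 (iv D50415) (iv F224126)
theorem F233478 : act 7 n52078 = n50029 := d42_1 D52078 (iv D50029) (iv F224127)
theorem F233479 : act 9 n52078 = n50443 := d44_2 D50023 D52078 (iv D50443) (iv D48259) (iv F214149)
def n52079 : Q := act 5 n50025
theorem D52079 : act 5 n50025 = n52079 := rfl
theorem F233480 : act 1 n52079 = n50027 := d12_1 D52079 (iv D50027) (iv F224133)
theorem F233481 : act 2 n52079 = n50438 := d19_1 D52079 (iv D50438) (iv F224134)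
theorem F233482 : act 3 n52079 = n52079 := d25_1 D52079 (iv D52079) F224135
theorem F233483 : act 7 n52079 = n50406 := d36_2 (iv F224137) D52079 F225636
theorem F233484 : act 8 n52079 = n50420 := d37_2 (iv F224138) D52079 F225668
def n52080 : Q := act 9 n50025
theorem D52080 : act 9 n50025 = n52080 := rfl
theorem F233485 : act 1 n52080 = n50028 := d16_1 D52080 (iv D50028) (iv F224133)
theorem F233486 : act 2 n52080 = n50439 := d23_1 D52080 (iv D50439) (iv F224134)
theorem F233487 : act 3 n52080 = n52080 := d29_1 D52080 (iv D52080) F224135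
theorem F233488 : act 4 n52080 = n50026 := d34_1 D52080 (iv D50026) D50025
theorem F233489 : act 6 n52080 = n50033 := d41_1 D52080 (iv D50033) (iv F224136)
theorem F233490 : act 7 n52080 = n50411 := d43_1 D52080 (iv D50411) (iv F224137)
def n52081 : Q := act 8 n50026
theorem D52081 : act 8 n50026 = n52081 := rfl
theorem F233491 : act 1 n52081 = n50029 := d15_1 D52081 (iv D50029) (iv F224139)
theorem F233492 : act 2 n52081 = n50440 := d22_1 D52081 (iv D50440) (iv F224140)
theorem F233493 : act 6 n52081 = n50034 := d40_1 D52081 (iv D50034) (iv F224142)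
def n52082 : Q := act 6 n50027
theorem D52082 : act 6 n50027 = n52082 := rfl
theorem F233494 : act 2 n52082 = n50030 := d20_1 D52082 (iv D50030) (iv F224143)
theorem F233495 : act 3 n52082 = n52082 := d26_1 D52082 (iv D52082) F224144
theorem F233496 : act 5 n52082 = n50035 := d35_1 D52082 (iv D50035) (iv D47830) (iv F214160) D50027
theorem F233497 : act 8 n52082 = n50417 := d40_2 (iv F224146) D52082 F225662
def n52083 : Q := act 9 n50027
theorem D52083 : act 9 n50027 = n52083 := rfl
theorem F233498 : act 2 n52083 = n50031 := d23_1 D52083 (iv D50031) (iv F224143)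
theorem F233499 : act 3 n52083 = n52083 := d29_1 D52083 (iv D52083) F224144
theorem F233500 : act 5 n52083 = n50028 := d38_1 D52083 (iv D50028) D50027
theorem F233501 : act 7 n52083 = n50408 := d43_1 D52083 (iv D50408) (iv F224145)
def n52084 : Q := act 8 n50028
theorem D52084 : act 8 n50028 = n52084 := rfl
theorem F233502 : act 2 n52084 = n50032 := d22_1 D52084 (iv D50032) (iv F224147)
theorem F233503 : act 4 n52084 = n50029 := d33_1 D52084 (iv D50029) (iv F224149)
theorem F233504 : act 6 n52084 = n50037 := d40_1 D52084 (iv D50037) (iv F224150)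
theorem F233505 : act 7 n52084 = n50412 := d42_1 D52084 (iv D50412) (iv F224151)
theorem F233506 : act 9 n52084 = n50436 := d44_2 D50028 D52084 (iv D50436) (iv D48253) (iv F214162)
def n52085 : Q := act 3 n50029
theorem D52085 : act 3 n50029 = n52085 := rfl
theorem F233507 : act 6 n52085 = n50038 := d26_2 (iv F224153) D52085 (iv D50038)
theorem F233508 : act 8 n52085 = n50050 := d28_2 D50029 D52085 (iv D50050) (iv D47851) (iv F214164)
theorem F233509 : act 9 n52085 = n50458 := d29_2 F227824 D52085 (iv F227820)
def n52086 : Q := act 9 n50030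
theorem D52086 : act 9 n50030 = n52086 := rfl
theorem F233510 : act 1 n52086 = n50446 := d16_1 D52086 (iv D50446) (iv F224154)
theorem F233511 : act 3 n52086 = n50042 := d29_1 D52086 (iv D50042) (iv F224155)
theorem F233512 : act 5 n52086 = n50040 := d38_1 D52086 (iv D50040) (iv F224156)
theorem F233513 : act 6 n52086 = n50031 := d41_1 D52086 (iv D50031) D50030
def n52087 : Q := act 8 n50031
theorem D52087 : act 8 n50031 = n52087 := rfl
theorem F233514 : act 1 n52087 = n50447 := d15_1 D52087 (iv D50447) (iv F224158)
theorem F233515 : act 5 n52087 = n50032 := d37_1 D52087 (iv D50032) (iv F224160)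
theorem F233516 : act 7 n52087 = n50410 := d42_1 D52087 (iv D50410) (iv F224161)
theorem F233517 : act 9 n52087 = n50424 := d44_2 D50031 D52087 (iv D50424) (iv D48245) (iv F214169)
def n52088 : Q := act 8 n50033
theorem D52088 : act 8 n50033 = n52088 := rfl
theorem F233518 : act 1 n52088 = n50037 := d15_1 D52088 (iv D50037) (iv F224167)
theorem F233519 : act 2 n52088 = n50451 := d22_1 D52088 (iv D50451) (iv F224168)
theorem F233520 : act 4 n52088 = n50034 := d33_1 D52088 (iv D50034) (iv F224170)
def n52089 : Q := act 9 n50035
theorem D52089 : act 9 n50035 = n52089 := rfl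
theorem F233521 : act 2 n52089 = n50040 := d23_1 D52089 (iv D50040) (iv F224173)
theorem F233522 : act 3 n52089 = n52089 := d29_1 D52089 (iv D52089) F224174
theorem F233523 : act 6 n52089 = n50036 := d41_1 D52089 (iv D50036) D50035
def n52090 : Q := act 8 n50036
theorem D52090 : act 8 n50036 = n52090 := rfl
theorem F233524 : act 2 n52090 = n50041 := d22_1 D52090 (iv D50041) (iv F224175)
theorem F233525 : act 5 n52090 = n50037 := d37_1 D52090 (iv D50037) (iv F224177)
def n52091 : Q := act 3 n50037
theorem D52091 : act 3 n50037 = n52091 := rfl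
theorem F233526 : act 8 n52091 = n52091 := d28_2 D50037 D52091 (iv D52091) (iv D50037) F214186
def n52092 : Q := act 9 n50039
theorem D52092 : act 9 n50039 = n52092 := rfl
theorem F233527 : act 1 n52092 = n50457 := d16_1 D52092 (iv D50457) (iv F224183)
theorem F233528 : act 3 n52092 = n50043 := d29_1 D52092 (iv D50043) (iv F224184)
theorem F233529 : act 6 n52092 = n50762 := d41_1 D52092 (iv F227547) F227544
theorem F233530 : act 7 n52092 = n50040 := d43_1 D52092 (iv D50040) D50039
def n52093 : Q := act 8 n50040
theorem D52093 : act 8 n50040 = n52093 := rfl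
theorem F233531 : act 1 n52093 = n50458 := d15_1 D52093 (iv D50458) (iv F224185)
theorem F233532 : act 6 n52093 = n50041 := d40_1 D52093 (iv D50041) (iv F224187)
def n52094 : Q := act 9 n50046
theorem D52094 : act 9 n50046 = n52094 := rfl
theorem F233533 : act 0 n52094 = n50682 := d8_1 D52094 (iv D50682) (iv F224210)
theorem F233534 : act 1 n52094 = n50514 := d16_1 D52094 (iv D50514) (iv F224211)
theorem F233535 : act 2 n52094 = n50265 := d23_1 D52094 (iv D50265) (iv F224212)
theorem F233536 : act 3 n52094 = n50047 := d29_1 D52094 (iv D50047) D50046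
theorem F233537 : act 5 n52094 = n52094 := d38_1 D52094 (iv D52094) F224213
theorem F233538 : act 6 n52094 = n50069 := d41_1 D52094 (iv D50069) (iv F224214)
def n52095 : Q := act 8 n50054
theorem D52095 : act 8 n50054 = n52095 := rfl
theorem F233539 : act 0 n52095 = n50055 := d7_1 D52095 (iv D50055) (iv F224252)
theorem F233540 : act 1 n52095 = n52095 := d15_1 D52095 (iv D52095) F224253
theorem F233541 : act 2 n52095 = n50790 := d22_1 D52095 (iv D50790) (iv F224254)
theorem F233542 : act 4 n52095 = n50101 := d33_1 D52095 (iv D50101) (iv F224256)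
theorem F233543 : act 6 n52095 = n50057 := d40_1 D52095 (iv D50057) (iv F224257)
theorem F233544 : act 9 n52095 = n52095 := d44_2 D50054 D52095 (iv D52095) (iv D50054) F214325
def n52096 : Q := act 3 n50055
theorem D52096 : act 3 n50055 = n52096 := rfl
theorem F233545 : act 1 n52096 = n50056 := d10_1 D52096 (iv D50056) (iv F224258)
theorem F233546 : act 4 n52096 = n50774 := d24_2 (iv F224260) D52096 (iv D50774) F224498 (iv D50102)
theorem F233547 : act 6 n52096 = n50058 := d26_2 (iv F224261) D52096 (iv D50058)
theorem F233548 : act 7 n52096 = n50778 := d27_2 F227281 D52096 F227283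
theorem F233549 : act 8 n52096 = n52096 := d28_2 D50055 D52096 (iv D52096) (iv D50055) F214328
theorem F233550 : act 9 n52096 = n52096 := d29_2 F224262 D52096 (iv D52096)
def n52097 : Q := act 2 n50060
theorem D52097 : act 2 n50060 = n52097 := rfl
theorem F233551 : act 0 n52097 = n50173 := d1_1 D52097 (iv D50173) (iv F224289)
theorem F233552 : act 3 n52097 = n52097 := d17_2 D50060 D52097 (iv D52097) (iv D50060) F214357
theorem F233553 : act 5 n52097 = n50113 := d19_2 (iv F224291) D52097 (iv D50113)
theorem F233554 : act 7 n52097 = n50110 := d21_2 (iv F224292) D52097 (iv D50110)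
theorem F233555 : act 8 n52097 = n50120 := d22_2 (iv F224293) D52097 (iv D50120)
def n52098 : Q := act 4 n50060
theorem D52098 : act 4 n50060 = n52098 := rfl
theorem F233556 : act 0 n52098 = n50174 := d3_1 D52098 (iv D50174) (iv F224289)
theorem F233557 : act 1 n52098 = n50499 := d11_1 D52098 (iv D50499) (iv F224290)
theorem F233558 : act 3 n52098 = n50064 := d24_1 D52098 (iv D50064) (iv D47871) (iv F214358) D50060
theorem F233559 : act 5 n52098 = n50558 := d30_2 (iv F224291) D52098 (iv D50558) F216308 (iv F214631)
theorem F233560 : act 7 n52098 = n50111 := d32_2 (iv F224292) D52098 (iv D50111)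
theorem F233561 : act 8 n52098 = n50121 := d33_2 (iv F224293) D52098 (iv D50121)
def n52099 : Q := act 9 n50060
theorem D52099 : act 9 n50060 = n52099 := rfl
theorem F233562 : act 0 n52099 = n50175 := d8_1 D52099 (iv D50175) (iv F224289)
theorem F233563 : act 1 n52099 = n50500 := d16_1 D52099 (iv D50500) (iv F224290)
theorem F233564 : act 3 n52099 = n50061 := d29_1 D52099 (iv D50061) D50060
theorem F233565 : act 5 n52099 = n50114 := d38_1 D52099 (iv D50114) (iv F224291)
theorem F233566 : act 7 n52099 = n50112 := d43_1 D52099 (iv D50112) (iv F224292)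
def n52100 : Q := act 4 n50062
theorem D52100 : act 4 n50062 = n52100 := rfl
theorem F233567 : act 0 n52100 = n50169 := d3_1 D52100 (iv D50169) (iv F224301)
theorem F233568 : act 1 n52100 = n50503 := d11_1 D52100 (iv D50503) (iv F224302)
theorem F233569 : act 3 n52100 = n50111 := d24_1 D52100 (iv D50111) (iv D47923) (iv F214364) D50062
theorem F233570 : act 5 n52100 = n50560 := d30_2 (iv F224303) D52100 (iv D50560) F216314 (iv F214378)
theorem F233571 : act 7 n52100 = n50064 := d32_2 (iv F224304) D52100 (iv D50064)
theorem F233572 : act 8 n52100 = n50068 := d33_2 (iv F224305) D52100 (iv D50068)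
def n52101 : Q := act 9 n50062
theorem D52101 : act 9 n50062 = n52101 := rfl
theorem F233573 : act 0 n52101 = n50170 := d8_1 D52101 (iv D50170) (iv F224301)
theorem F233574 : act 1 n52101 = n50504 := d16_1 D52101 (iv D50504) (iv F224302)
theorem F233575 : act 3 n52101 = n50063 := d29_1 D52101 (iv D50063) D50062
theorem F233576 : act 5 n52101 = n50066 := d38_1 D52101 (iv D50066) (iv F224303)
theorem F233577 : act 7 n52101 = n50065 := d43_1 D52101 (iv D50065) (iv F224304)
def n52102 : Q := act 9 n50064
theorem D52102 : act 9 n50064 = n52102 := rfl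
theorem F233578 : act 0 n52102 = n50616 := d8_1 D52102 (iv D50616) (iv F224313)
theorem F233579 : act 1 n52102 = n50506 := d16_1 D52102 (iv D50506) (iv F224314)
theorem F233580 : act 4 n52102 = n50065 := d34_1 D52102 (iv D50065) D50064
theorem F233581 : act 5 n52102 = n50562 := d38_1 D52102 (iv D50562) (iv F224315)
def n52103 : Q := act 8 n50065
theorem D52103 : act 8 n50065 = n52103 := rfl
theorem F233582 : act 0 n52103 = n50633 := d7_1 D52103 (iv D50633) (iv F224317)
theorem F233583 : act 1 n52103 = n50507 := d15_1 D52103 (iv D50507) (iv F224318)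
theorem F233584 : act 3 n52103 = n50181 := d28_1 D52103 (iv D50181) F214873 (iv F214375) (iv F224319)
theorem F233585 : act 5 n52103 = n50067 := d37_1 D52103 (iv D50067) (iv F224320)
theorem F233586 : act 9 n52103 = n50074 := d44_2 D50065 D52103 (iv D50074) (iv D47881) (iv F214370)
def n52104 : Q := act 8 n50066
theorem D52104 : act 8 n50066 = n52104 := rfl
theorem F233587 : act 0 n52104 = n50623 := d7_1 D52104 (iv D50623) (iv F224321)
theorem F233588 : act 1 n52104 = n50509 := d15_1 D52104 (iv D50509) (iv F224322)
theorem F233589 : act 3 n52104 = n50184 := d28_1 D52104 (iv D50184) F214881 (iv F214388) (iv F224323)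
theorem F233590 : act 4 n52104 = n50564 := d33_1 D52104 (iv D50564) (iv F224324)
theorem F233591 : act 6 n52104 = n52104 := d40_1 D52104 (iv D52104) F224325
theorem F233592 : act 7 n52104 = n50067 := d42_1 D52104 (iv D50067) (iv F224326)
theorem F233593 : act 9 n52104 = n50077 := d44_2 D50066 D52104 (iv D50077) (iv D47883) (iv F214381)
def n52105 : Q := act 9 n50068
theorem D52105 : act 9 n50068 = n52105 := rfl
theorem F233594 : act 0 n52105 = n50654 := d8_1 D52105 (iv D50654) (iv F224333)
theorem F233595 : act 1 n52105 = n50519 := d16_1 D52105 (iv D50519) (iv F224334)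
theorem F233596 : act 4 n52105 = n50069 := d34_1 D52105 (iv D50069) D50068
theorem F233597 : act 5 n52105 = n50571 := d38_1 D52105 (iv D50571) (iv F224335)
theorem F233598 : act 7 n52105 = n50073 := d43_1 D52105 (iv D50073) (iv F224336)
def n52106 : Q := act 8 n50069
theorem D52106 : act 8 n50069 = n52106 := rfl
theorem F233599 : act 0 n52106 = n50683 := d7_1 D52106 (iv D50683) (iv F224337)
theorem F233600 : act 1 n52106 = n50520 := d15_1 D52106 (iv D50520) (iv F224338)
theorem F233601 : act 3 n52106 = n50208 := d28_1 D52106 (iv D50208) F214952 (iv F214409) (iv F224339)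
theorem F233602 : act 5 n52106 = n50077 := d37_1 D52106 (iv D50077) (iv F224340)
theorem F233603 : act 7 n52106 = n50074 := d42_1 D52106 (iv D50074) (iv F224341)
def n52107 : Q := act 0 n50070
theorem D52107 : act 0 n50070 = n52107 := rfl
theorem F233604 : act 1 n52107 = n50684 := d0_2 D50070 D52107 F226464 F216640 (iv F214410)
theorem F233605 : act 2 n52107 = n50190 := d1_2 (iv F224342) D52107 F224887
theorem F233606 : act 3 n52107 = n50084 := d2_2 (iv F224343) D52107 (iv D50084)
theorem F233607 : act 5 n52107 = n50078 := d4_2 (iv F224344) D52107 (iv D50078)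
theorem F233608 : act 6 n52107 = n50187 := d5_2 F228252 D52107 F228255
theorem F233609 : act 8 n52107 = n50232 := d7_2 F231667 D52107 (iv F231662)
def n52108 : Q := act 4 n50070
theorem D52108 : act 4 n50070 = n52108 := rfl
theorem F233610 : act 1 n52108 = n50071 := d11_1 D52108 (iv D50071) D50070
theorem F233611 : act 2 n52108 = n50521 := d18_1 D52108 (iv D50521) (iv F224342)
theorem F233612 : act 5 n52108 = n50574 := d30_2 (iv F224344) D52108 (iv D50574) F216351 (iv F214433)
def n52109 : Q := act 9 n50070
theorem D52109 : act 9 n50070 = n52109 := rfl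
theorem F233613 : act 1 n52109 = n50072 := d16_1 D52109 (iv D50072) D50070
theorem F233614 : act 2 n52109 = n50522 := d23_1 D52109 (iv D50522) (iv F224342)
theorem F233615 : act 3 n52109 = n50085 := d29_1 D52109 (iv D50085) (iv F224343)
theorem F233616 : act 5 n52109 = n50079 := d38_1 D52109 (iv D50079) (iv F224344)
def n52110 : Q := act 9 n50071
theorem D52110 : act 9 n50071 = n52110 := rfl
theorem F233617 : act 0 n52110 = n50666 := d8_1 D52110 (iv D50666) (iv F224345)
theorem F233618 : act 2 n52110 = n50073 := d23_1 D52110 (iv D50073) (iv F224346)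
theorem F233619 : act 4 n52110 = n50072 := d34_1 D52110 (iv D50072) D50071
theorem F233620 : act 5 n52110 = n50577 := d38_1 D52110 (iv D50577) (iv F224347)
def n52111 : Q := act 8 n50072
theorem D52111 : act 8 n50072 = n52111 := rfl
theorem F233621 : act 0 n52111 = n50693 := d7_1 D52111 (iv D50693) (iv F224348)
theorem F233622 : act 2 n52111 = n50074 := d22_1 D52111 (iv D50074) (iv F224349)
theorem F233623 : act 5 n52111 = n50080 := d37_1 D52111 (iv D50080) (iv F224351)
def n52112 : Q := act 8 n50073
theorem D52112 : act 8 n50073 = n52112 := rfl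
theorem F233624 : act 0 n52112 = n50671 := d7_1 D52112 (iv D50671) (iv F224352)
theorem F233625 : act 1 n52112 = n50528 := d15_1 D52112 (iv D50528) (iv F224353)
theorem F233626 : act 4 n52112 = n50074 := d33_1 D52112 (iv D50074) (iv F224354)
theorem F233627 : act 5 n52112 = n50579 := d37_1 D52112 (iv D50579) (iv F224355)
def n52113 : Q := act 0 n50075
theorem D52113 : act 0 n50075 = n52113 := rfl
theorem F233628 : act 1 n52113 = n50673 := d0_2 D50075 D52113 F226424 F216607 (iv F214420)
theorem F233629 : act 2 n52113 = n50197 := d1_2 (iv F224360) D52113 F224919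
theorem F233630 : act 3 n52113 = n50087 := d2_2 (iv F224361) D52113 (iv D50087)
theorem F233631 : act 4 n52113 = n50580 := d3_2 (iv F224362) D52113 (iv D50580)
theorem F233632 : act 6 n52113 = n52113 := d5_2 F224363 D52113 (iv D52113)
theorem F233633 : act 7 n52113 = n50078 := d6_2 (iv F224364) D52113 (iv D50078)
theorem F233634 : act 8 n52113 = n50245 := d7_2 F231683 D52113 (iv F231677)
def n52114 : Q := act 9 n50075
theorem D52114 : act 9 n50075 = n52114 := rfl
theorem F233635 : act 1 n52114 = n50076 := d16_1 D52114 (iv D50076) D50075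
theorem F233636 : act 2 n52114 = n50530 := d23_1 D52114 (iv D50530) (iv F224360)
theorem F233637 : act 3 n52114 = n50088 := d29_1 D52114 (iv D50088) (iv F224361)
theorem F233638 : act 4 n52114 = n50581 := d34_1 D52114 (iv D50581) (iv F224362)
theorem F233639 : act 6 n52114 = n52114 := d41_1 D52114 (iv D52114) F224363
theorem F233640 : act 7 n52114 = n50079 := d43_1 D52114 (iv D50079) (iv F224364)
def n52115 : Q := act 8 n50076
theorem D52115 : act 8 n50076 = n52115 := rfl
theorem F233641 : act 0 n52115 = n50679 := d7_1 D52115 (iv D50679) (iv F224365)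
theorem F233642 : act 2 n52115 = n50077 := d22_1 D52115 (iv D50077) (iv F224366)
theorem F233643 : act 4 n52115 = n50582 := d33_1 D52115 (iv D50582) (iv F224368)
theorem F233644 : act 6 n52115 = n52115 := d40_1 D52115 (iv D52115) F224369
theorem F233645 : act 7 n52115 = n50080 := d42_1 D52115 (iv D50080) (iv F224370)
def n52116 : Q := act 9 n50078
theorem D52116 : act 9 n50078 = n52116 := rfl
theorem F233646 : act 0 n52116 = n50079 := d8_1 D52116 (iv D50079) D50078
theorem F233647 : act 1 n52116 = n50685 := d16_1 D52116 (iv D50685) (iv F224377)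
theorem F233648 : act 2 n52116 = n50198 := d23_1 D52116 (iv D50198) (iv F224378)
theorem F233649 : act 3 n52116 = n50090 := d29_1 D52116 (iv D50090) (iv F224379)
theorem F233650 : act 4 n52116 = n50583 := d34_1 D52116 (iv D50583) (iv F224380)
theorem F233651 : act 6 n52116 = n50081 := d41_1 D52116 (iv D50081) (iv F224381)
def n52117 : Q := act 8 n50079
theorem D52117 : act 8 n50079 = n52117 := rfl
theorem F233652 : act 1 n52117 = n50080 := d15_1 D52117 (iv D50080) (iv F224383)
theorem F233653 : act 2 n52117 = n50539 := d22_1 D52117 (iv D50539) (iv F224384)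
theorem F233654 : act 4 n52117 = n50584 := d33_1 D52117 (iv D50584) (iv F224386)
theorem F233655 : act 6 n52117 = n50082 := d40_1 D52117 (iv D50082) (iv F224387)
def n52118 : Q := act 3 n50080
theorem D52118 : act 3 n50080 = n52118 := rfl
theorem F233656 : act 0 n52118 = n50694 := d2_1 D52118 (iv D50694) (iv F224388)
theorem F233657 : act 2 n52118 = n50235 := d17_1 D52118 (iv D50235) F215010 (iv F214442) (iv F224389)
theorem F233658 : act 6 n52118 = n50083 := d26_2 (iv F224391) D52118 (iv D50083)
theorem F233659 : act 8 n52118 = n50092 := d28_2 D50080 D52118 (iv D50092) (iv D47898) (iv F214437)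
def n52119 : Q := act 8 n50081
theorem D52119 : act 8 n50081 = n52119 := rfl
theorem F233660 : act 0 n52119 = n50082 := d7_1 D52119 (iv D50082) (iv F224392)
theorem F233661 : act 1 n52119 = n50698 := d15_1 D52119 (iv D50698) (iv F224393)
theorem F233662 : act 2 n52119 = n50199 := d22_1 D52119 (iv D50199) (iv F224394)
theorem F233663 : act 4 n52119 = n50585 := d33_1 D52119 (iv D50585) (iv F224396)
theorem F233664 : act 5 n52119 = n50195 := d37_1 D52119 (iv D50195) (iv F224397)
theorem F233665 : act 7 n52119 = n52119 := d42_1 D52119 (iv D52119) F224398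
theorem F233666 : act 9 n52119 = n50247 := d44_2 D50081 D52119 (iv D50247) (iv D48027) (iv F214451)
def n52120 : Q := act 3 n50082
theorem D52120 : act 3 n50082 = n52120 := rfl
theorem F233667 : act 1 n52120 = n50083 := d10_1 D52120 (iv D50083) (iv F224399)
theorem F233668 : act 7 n52120 = n52120 := d27_2 F224402 D52120 (iv D52120)
theorem F233669 : act 8 n52120 = n50094 := d28_2 D50082 D52120 (iv D50094) (iv D47900) (iv F214454)
def n52121 : Q := act 9 n50084
theorem D52121 : act 9 n50084 = n52121 := rfl
theorem F233670 : act 0 n52121 = n50085 := d8_1 D52121 (iv D50085) D50084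
theorem F233671 : act 1 n52121 = n50819 := d16_1 D52121 (iv D50819) (iv F224407)
theorem F233672 : act 2 n52121 = n50096 := d23_1 D52121 (iv D50096) (iv F224408)
theorem F233673 : act 5 n52121 = n50090 := d38_1 D52121 (iv D50090) (iv F224409)
theorem F233674 : act 6 n52121 = n50722 := d41_1 D52121 (iv D50722) (iv F224410)
def n52122 : Q := act 8 n50085
theorem D52122 : act 8 n50085 = n52122 := rfl
theorem F233675 : act 1 n52122 = n50086 := d15_1 D52122 (iv D50086) (iv F224412)
theorem F233676 : act 2 n52122 = n50097 := d22_1 D52122 (iv D50097) (iv F224413)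
theorem F233677 : act 5 n52122 = n50091 := d37_1 D52122 (iv D50091) (iv F224414)
theorem F233678 : act 9 n52122 = n52122 := d44_2 D50085 D52122 (iv D52122) (iv D50085) F214463
def n52123 : Q := act 3 n50086
theorem D52123 : act 3 n50086 = n52123 := rfl
theorem F233679 : act 0 n52123 = n50826 := d2_1 D52123 (iv D50826) (iv F224415)
theorem F233680 : act 2 n52123 = n50267 := d17_1 D52123 (iv D50267) F215125 (iv F214469) (iv F224416)
theorem F233681 : act 5 n52123 = n50092 := d25_2 (iv F224417) D52123 (iv D50092)
theorem F233682 : act 9 n52123 = n52123 := d29_2 F224418 D52123 (iv D52123)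
def n52124 : Q := act 9 n50087
theorem D52124 : act 9 n50087 = n52124 := rfl
theorem F233683 : act 0 n52124 = n50088 := d8_1 D52124 (iv D50088) D50087
theorem F233684 : act 1 n52124 = n50796 := d16_1 D52124 F226890 (iv F224419)
theorem F233685 : act 2 n52124 = n50099 := d23_1 D52124 (iv D50099) (iv F224420)
theorem F233686 : act 4 n52124 = n50787 := d34_1 D52124 (iv D50787) (iv F224421)
theorem F233687 : act 6 n52124 = n52124 := d41_1 D52124 (iv D52124) F224422
theorem F233688 : act 7 n52124 = n50090 := d43_1 D52124 (iv D50090) (iv F224423)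
def n52125 : Q := act 8 n50088
theorem D52125 : act 8 n50088 = n52125 := rfl
theorem F233689 : act 1 n52125 = n50089 := d15_1 D52125 (iv D50089) (iv F224425)
theorem F233690 : act 2 n52125 = n50100 := d22_1 D52125 (iv D50100) (iv F224426)
theorem F233691 : act 4 n52125 = n50788 := d33_1 D52125 (iv D50788) (iv F224427)
theorem F233692 : act 6 n52125 = n52125 := d40_1 D52125 (iv D52125) F224428
theorem F233693 : act 7 n52125 = n50091 := d42_1 D52125 (iv D50091) (iv F224429)
theorem F233694 : act 9 n52125 = n52125 := d44_2 D50088 D52125 (iv D52125) (iv D50088) F214476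
def n52126 : Q := act 3 n50089
theorem D52126 : act 3 n50089 = n52126 := rfl
theorem F233695 : act 0 n52126 = n50818 := d2_1 D52126 (iv D50818) (iv F224430)
theorem F233696 : act 2 n52126 = n50270 := d17_1 D52126 (iv D50270) F215142 (iv F214484) (iv F224431)
theorem F233697 : act 6 n52126 = n52126 := d26_2 F224433 D52126 (iv D52126)
theorem F233698 : act 7 n52126 = n50092 := d27_2 (iv F224434) D52126 (iv D50092)
theorem F233699 : act 9 n52126 = n52126 := d29_2 F224435 D52126 (iv D52126)
def n52127 : Q := act 8 n50090
theorem D52127 : act 8 n50090 = n52127 := rfl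
theorem F233700 : act 0 n52127 = n50091 := d7_1 D52127 (iv D50091) (iv F224436)
theorem F233701 : act 1 n52127 = n50820 := d15_1 D52127 (iv D50820) (iv F224437)
theorem F233702 : act 2 n52127 = n50101 := d22_1 D52127 (iv D50101) (iv F224438)
theorem F233703 : act 4 n52127 = n50790 := d33_1 D52127 (iv D50790) (iv F224439)
theorem F233704 : act 6 n52127 = n50093 := d40_1 D52127 (iv D50093) (iv F224440)
theorem F233705 : act 9 n52127 = n52127 := d44_2 D50090 D52127 (iv D52127) (iv D50090) F214493
def n52128 : Q := act 3 n50091
theorem D52128 : act 3 n50091 = n52128 := rfl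
theorem F233706 : act 1 n52128 = n50092 := d10_1 D52128 (iv D50092) (iv F224441)
theorem F233707 : act 6 n52128 = n50094 := d26_2 (iv F224444) D52128 (iv D50094)
theorem F233708 : act 9 n52128 = n52128 := d29_2 F224445 D52128 (iv D52128)
def n52129 : Q := act 4 n50092
theorem D52129 : act 4 n50092 = n52129 := rfl
theorem F233709 : act 0 n52129 = n50827 := d3_1 D52129 (iv D50827) (iv F224446)
theorem F233710 : act 2 n52129 = n50273 := d18_1 D52129 (iv D50273) (iv F224447)
theorem F233711 : act 3 n52129 = n50792 := d24_1 D52129 (iv D50792) (iv D48664) (iv F214500) D50092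
theorem F233712 : act 6 n52129 = n50095 := d31_2 (iv F224448) D52129 (iv D50095)
theorem F233713 : act 9 n52129 = n52129 := d34_2 F224449 D52129 (iv D52129)
def n52130 : Q := act 8 n50096
theorem D52130 : act 8 n50096 = n52130 := rfl
theorem F233714 : act 0 n52130 = n50097 := d7_1 D52130 (iv D50097) (iv F224464)
theorem F233715 : act 1 n52130 = n52130 := d15_1 D52130 (iv D52130) F224465
theorem F233716 : act 5 n52130 = n50101 := d37_1 D52130 (iv D50101) (iv F224467)
theorem F233717 : act 6 n52130 = n50724 := d40_1 D52130 (iv D50724) (iv F224468)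
theorem F233718 : act 9 n52130 = n52130 := d44_2 D50096 D52130 (iv D52130) (iv D50096) F214521
def n52131 : Q := act 3 n50097
theorem D52131 : act 3 n50097 = n52131 := rfl
theorem F233719 : act 1 n52131 = n50098 := d10_1 D52131 (iv D50098) (iv F224469)
theorem F233720 : act 5 n52131 = n50102 := d25_2 (iv F224470) D52131 (iv D50102)
theorem F233721 : act 7 n52131 = n50487 := d27_2 F229570 D52131 (iv F229566)
theorem F233722 : act 8 n52131 = n50482 := d28_2 D50097 D52131 F225833 (iv D48389) (iv F214523)
theorem F233723 : act 9 n52131 = n52131 := d29_2 F224471 D52131 (iv D52131)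
theorem F233724 : act 4 n50483 = n52131 := d33_3 F233722 F225834 D50483
def n52132 : Q := act 8 n50099
theorem D52132 : act 8 n50099 = n52132 := rfl
theorem F233725 : act 0 n52132 = n50100 := d7_1 D52132 (iv D50100) (iv F224479)
theorem F233726 : act 1 n52132 = n52132 := d15_1 D52132 (iv D52132) F224480
theorem F233727 : act 3 n52132 = n50775 := d28_1 D52132 (iv D50775) F226086 (iv D50556) (iv F224481)
theorem F233728 : act 6 n52132 = n52132 := d40_1 D52132 (iv D52132) F224482
theorem F233729 : act 7 n52132 = n50101 := d42_1 D52132 (iv D50101) (iv F224483)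
theorem F233730 : act 9 n52132 = n52132 := d44_2 D50099 D52132 (iv D52132) (iv D50099) F214533
def n52133 : Q := act 4 n50104
theorem D52133 : act 4 n50104 = n52133 := rfl
theorem F233731 : act 0 n52133 = n50518 := d3_1 D52133 F225954 (iv F224506)
theorem F233732 : act 1 n52133 = n50121 := d11_1 D52133 (iv D50121) (iv F224507)
theorem F233733 : act 3 n52133 = n50345 := d24_1 D52133 (iv D50345) (iv D48160) (iv F214588) D50104
theorem F233734 : act 5 n52133 = n50494 := d30_2 (iv F224508) D52133 (iv D50494) F216055 (iv F214601)
theorem F233735 : act 7 n52133 = n50106 := d32_2 (iv F224509) D52133 (iv D50106)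
theorem F233736 : act 8 n52133 = n50499 := d33_2 (iv F224510) D52133 (iv D50499)
def n52134 : Q := act 9 n50104
theorem D52134 : act 9 n50104 = n52134 := rfl
theorem F233737 : act 0 n52134 = n50535 := d8_1 D52134 (iv D50535) (iv F224506)
theorem F233738 : act 1 n52134 = n50122 := d16_1 D52134 (iv D50122) (iv F224507)
theorem F233739 : act 3 n52134 = n50105 := d29_1 D52134 (iv D50105) D50104
theorem F233740 : act 5 n52134 = n50108 := d38_1 D52134 (iv D50108) (iv F224508)
theorem F233741 : act 7 n52134 = n50107 := d43_1 D52134 (iv D50107) (iv F224509)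
def n52135 : Q := act 9 n50106
theorem D52135 : act 9 n50106 = n52135 := rfl
theorem F233742 : act 0 n52135 = n50527 := d8_1 D52135 (iv D50527) (iv F224518)
theorem F233743 : act 1 n52135 = n50127 := d16_1 D52135 (iv D50127) (iv F224519)
theorem F233744 : act 4 n52135 = n50107 := d34_1 D52135 (iv D50107) D50106
theorem F233745 : act 5 n52135 = n50496 := d38_1 D52135 (iv D50496) (iv F224520)
def n52136 : Q := act 8 n50107
theorem D52136 : act 8 n50107 = n52136 := rfl
theorem F233746 : act 0 n52136 = n50542 := d7_1 D52136 (iv D50542) (iv F224521)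
theorem F233747 : act 1 n52136 = n50128 := d15_1 D52136 (iv D50128) (iv F224522)
theorem F233748 : act 3 n52136 = n50238 := d28_1 D52136 (iv D50238) F215016 (iv F214598) (iv F224523)
theorem F233749 : act 5 n52136 = n50109 := d37_1 D52136 (iv D50109) (iv F224524)
def n52137 : Q := act 8 n50108
theorem D52137 : act 8 n50108 = n52137 := rfl
theorem F233750 : act 0 n52137 = n50536 := d7_1 D52137 (iv D50536) (iv F224525)
theorem F233751 : act 1 n52137 = n50134 := d15_1 D52137 (iv D50134) (iv F224526)
theorem F233752 : act 3 n52137 = n50226 := d28_1 D52137 (iv D50226) F214986 (iv F214611) (iv F224527)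
theorem F233753 : act 4 n52137 = n50498 := d33_1 D52137 (iv D50498) (iv F224528)
theorem F233754 : act 6 n52137 = n52137 := d40_1 D52137 (iv D52137) F224529
theorem F233755 : act 7 n52137 = n50109 := d42_1 D52137 (iv D50109) (iv F224530)
theorem F233756 : act 9 n52137 = n50837 := d44_2 D50108 D52137 (iv D50837) (iv D48730) (iv F214604)
def n52138 : Q := act 4 n50110
theorem D52138 : act 4 n50110 = n52138 := rfl
theorem F233757 : act 0 n52138 = n50177 := d3_1 D52138 (iv D50177) (iv F224536)
theorem F233758 : act 2 n52138 = n50111 := d18_1 D52138 (iv D50111) D50110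
theorem F233759 : act 8 n52138 = n50124 := d33_2 (iv F224539) D52138 (iv D50124)
def n52139 : Q := act 9 n50110
theorem D52139 : act 9 n50110 = n52139 := rfl
theorem F233760 : act 0 n52139 = n50178 := d8_1 D52139 (iv D50178) (iv F224536)
theorem F233761 : act 2 n52139 = n50112 := d23_1 D52139 (iv D50112) D50110
theorem F233762 : act 3 n52139 = n52139 := d29_1 D52139 (iv D52139) F224537
theorem F233763 : act 5 n52139 = n50115 := d38_1 D52139 (iv D50115) (iv F224538)
def n52140 : Q := act 9 n50111
theorem D52140 : act 9 n50111 = n52140 := rfl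
theorem F233764 : act 0 n52140 = n50180 := d8_1 D52140 (iv D50180) (iv F224540)
theorem F233765 : act 4 n52140 = n50112 := d34_1 D52140 (iv D50112) D50111
def n52141 : Q := act 8 n50112
theorem D52141 : act 8 n50112 = n52141 := rfl
theorem F233766 : act 0 n52141 = n50181 := d7_1 D52141 (iv D50181) (iv F224542)
theorem F233767 : act 3 n52141 = n50633 := d28_1 D52141 (iv D50633) F216531 (iv F214628) (iv F224543)
theorem F233768 : act 5 n52141 = n50116 := d37_1 D52141 (iv D50116) (iv F224544)
theorem F233769 : act 9 n52141 = n50128 := d44_2 D50112 D52141 (iv D50128) (iv D47936) (iv F214624)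
def n52142 : Q := act 9 n50113
theorem D52142 : act 9 n50113 = n52142 := rfl
theorem F233770 : act 0 n52142 = n50183 := d8_1 D52142 (iv D50183) (iv F224545)
theorem F233771 : act 2 n52142 = n50114 := d23_1 D52142 (iv D50114) D50113
theorem F233772 : act 3 n52142 = n52142 := d29_1 D52142 (iv D52142) F224546
theorem F233773 : act 4 n52142 = n50838 := d34_1 D52142 (iv D50838) (iv F224547)
theorem F233774 : act 6 n52142 = n52142 := d41_1 D52142 (iv D52142) F224548
theorem F233775 : act 7 n52142 = n50115 := d43_1 D52142 (iv D50115) (iv F224549)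
def n52143 : Q := act 8 n50114
theorem D52143 : act 8 n50114 = n52143 := rfl
theorem F233776 : act 0 n52143 = n50184 := d7_1 D52143 (iv D50184) (iv F224551)
theorem F233777 : act 1 n52143 = n50837 := d15_1 D52143 (iv D50837) (iv F224552)
theorem F233778 : act 3 n52143 = n50623 := d28_1 D52143 (iv D50623) F216501 (iv F214641) (iv F224553)
theorem F233779 : act 4 n52143 = n50839 := d33_1 D52143 (iv D50839) (iv F224554)
theorem F233780 : act 6 n52143 = n52143 := d40_1 D52143 (iv D52143) F224555
theorem F233781 : act 7 n52143 = n50116 := d42_1 D52143 (iv D50116) (iv F224556)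
theorem F233782 : act 9 n52143 = n50134 := d44_2 D50114 D52143 (iv D50134) (iv D47939) (iv F214634)
def n52144 : Q := act 8 n50115
theorem D52144 : act 8 n50115 = n52144 := rfl
theorem F233783 : act 0 n52144 = n50189 := d7_1 D52144 (iv D50189) (iv F224557)
theorem F233784 : act 2 n52144 = n50116 := d22_1 D52144 (iv D50116) (iv F224558)
theorem F233785 : act 6 n52144 = n50117 := d40_1 D52144 (iv D50117) (iv F224560)
theorem F233786 : act 9 n52144 = n50138 := d44_2 D50115 D52144 (iv D50138) (iv D47942) (iv F214645)
def n52145 : Q := act 3 n50117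
theorem D52145 : act 3 n50117 = n52145 := rfl
theorem F233787 : act 0 n52145 = n50196 := d2_1 D52145 (iv D50196) (iv F224565)
theorem F233788 : act 2 n52145 = n50639 := d17_1 D52145 (iv D50639) F216553 (iv F214654) (iv F224566)
theorem F233789 : act 7 n52145 = n52145 := d27_2 F224567 D52145 (iv D52145)
theorem F233790 : act 8 n52145 = n52145 := d28_2 D50117 D52145 (iv D52145) (iv D50117) F214651
theorem F233791 : act 9 n52145 = n50143 := d29_2 (iv F224568) D52145 (iv D50143)
def n52146 : Q := act 2 n50118
theorem D52146 : act 2 n50118 = n52146 := rfl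
theorem F233792 : act 0 n52146 = n50200 := d1_1 D52146 (iv D50200) (iv F224569)
theorem F233793 : act 3 n52146 = n50145 := d17_2 D50118 D52146 (iv D50145) (iv D47953) (iv F214658)
theorem F233794 : act 5 n52146 = n52146 := d19_2 F224570 D52146 (iv D52146)
theorem F233795 : act 6 n52146 = n50120 := d20_2 (iv F224571) D52146 (iv D50120)
theorem F233796 : act 7 n52146 = n50803 := d21_2 F228791 D52146 (iv F228788)
def n52147 : Q := act 4 n50118
theorem D52147 : act 4 n50118 = n52147 := rfl
theorem F233797 : act 0 n52147 = n50201 := d3_1 D52147 (iv D50201) (iv F224569)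
theorem F233798 : act 6 n52147 = n50121 := d31_2 (iv F224571) D52147 (iv D50121)
def n52148 : Q := act 9 n50118
theorem D52148 : act 9 n50118 = n52148 := rfl
theorem F233799 : act 0 n52148 = n50202 := d8_1 D52148 (iv D50202) (iv F224569)
theorem F233800 : act 3 n52148 = n50119 := d29_1 D52148 (iv D50119) D50118
theorem F233801 : act 5 n52148 = n52148 := d38_1 D52148 (iv D52148) F224570
theorem F233802 : act 6 n52148 = n50122 := d41_1 D52148 (iv D50122) (iv F224571)
def n52149 : Q := act 1 n50120
theorem D52149 : act 1 n50120 = n52149 := rfl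
theorem F233803 : act 3 n52149 = n50147 := d10_2 (iv F224578) D52149 (iv D50147)
theorem F233804 : act 5 n52149 = n50129 := d12_2 (iv F224579) D52149 (iv D50129)
theorem F233805 : act 7 n52149 = n50123 := d14_2 (iv F224580) D52149 (iv D50123)
def n52150 : Q := act 4 n50120
theorem D52150 : act 4 n50120 = n52150 := rfl
theorem F233806 : act 0 n52150 = n50204 := d3_1 D52150 (iv D50204) (iv F224577)
theorem F233807 : act 2 n52150 = n50121 := d18_1 D52150 (iv D50121) D50120
theorem F233808 : act 7 n52150 = n50124 := d32_2 (iv F224580) D52150 (iv D50124)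
def n52151 : Q := act 9 n50120
theorem D52151 : act 9 n50120 = n52151 := rfl
theorem F233809 : act 0 n52151 = n50205 := d8_1 D52151 (iv D50205) (iv F224577)
theorem F233810 : act 2 n52151 = n50122 := d23_1 D52151 (iv D50122) D50120
theorem F233811 : act 3 n52151 = n50149 := d29_1 D52151 (iv D50149) (iv F224578)
theorem F233812 : act 5 n52151 = n50131 := d38_1 D52151 (iv D50131) (iv F224579)
theorem F233813 : act 7 n52151 = n50125 := d43_1 D52151 (iv D50125) (iv F224580)
def n52152 : Q := act 5 n50121
theorem D52152 : act 5 n50121 = n52152 := rfl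
theorem F233814 : act 0 n52152 = n50206 := d4_1 D52152 (iv D50206) (iv F224581)
theorem F233815 : act 1 n52152 = n50494 := d12_1 D52152 (iv F233734) F233732
theorem F233816 : act 3 n52152 = n50379 := d25_1 D52152 (iv F233316) F233315
theorem F233817 : act 4 n52152 = n50132 := d30_1 D52152 (iv D50132) (iv D47938) (iv F214662) D50121
theorem F233818 : act 7 n52152 = n50126 := d36_2 (iv F224582) D52152 (iv D50126)
theorem F233819 : act 8 n52152 = n50558 := d37_2 F233561 D52152 (iv F233559)
def n52153 : Q := act 9 n50121
theorem D52153 : act 9 n50121 = n52153 := rfl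
theorem F233820 : act 0 n52153 = n50207 := d8_1 D52153 (iv D50207) (iv F224581)
theorem F233821 : act 4 n52153 = n50122 := d34_1 D52153 (iv D50122) D50121
theorem F233822 : act 7 n52153 = n50127 := d43_1 D52153 (iv D50127) (iv F224582)
def n52154 : Q := act 8 n50122
theorem D52154 : act 8 n50122 = n52154 := rfl
theorem F233823 : act 0 n52154 = n50208 := d7_1 D52154 (iv D50208) (iv F224583)
theorem F233824 : act 3 n52154 = n50683 := d28_1 D52154 (iv D50683) F216628 (iv F214668) (iv F224584)
theorem F233825 : act 5 n52154 = n50134 := d37_1 D52154 (iv D50134) (iv F224585)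
theorem F233826 : act 7 n52154 = n50128 := d42_1 D52154 (iv D50128) (iv F224586)
def n52155 : Q := act 4 n50123
theorem D52155 : act 4 n50123 = n52155 := rfl
theorem F233827 : act 1 n52155 = n50124 := d11_1 D52155 (iv D50124) D50123
theorem F233828 : act 6 n52155 = n50743 := d31_2 (iv F224589) D52155 F226651
def n52156 : Q := act 9 n50123
theorem D52156 : act 9 n50123 = n52156 := rfl
theorem F233829 : act 1 n52156 = n50125 := d16_1 D52156 (iv D50125) D50123
theorem F233830 : act 3 n52156 = n50154 := d29_1 D52156 (iv D50154) (iv F224587)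
theorem F233831 : act 5 n52156 = n50135 := d38_1 D52156 (iv D50135) (iv F224588)
theorem F233832 : act 6 n52156 = n50715 := d41_1 D52156 F226555 (iv F224589)
def n52157 : Q := act 3 n50124
theorem D52157 : act 3 n50124 = n52157 := rfl
theorem F233833 : act 0 n52157 = n50212 := d2_1 D52157 (iv D50212) (iv F224590)
theorem F233834 : act 2 n52157 = n50653 := d17_1 D52157 (iv F227897) F227896 F224004 (iv F224591)
theorem F233835 : act 4 n52157 = n50155 := d24_2 D50124 D52157 (iv D50155) (iv D47959) (iv F214670)
theorem F233836 : act 6 n52157 = n50650 := d26_2 F228814 D52157 (iv F228812)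
def n52158 : Q := act 5 n50124
theorem D52158 : act 5 n50124 = n52158 := rfl
theorem F233837 : act 0 n52158 = n50213 := d4_1 D52158 (iv D50213) (iv F224590)
theorem F233838 : act 2 n52158 = n50126 := d19_1 D52158 (iv D50126) (iv F224591)
theorem F233839 : act 4 n52158 = n50136 := d30_1 D52158 (iv D50136) (iv D47941) (iv F214671) D50124
def n52159 : Q := act 9 n50124
theorem D52159 : act 9 n50124 = n52159 := rfl
theorem F233840 : act 0 n52159 = n50214 := d8_1 D52159 (iv D50214) (iv F224590)
theorem F233841 : act 2 n52159 = n50127 := d23_1 D52159 (iv D50127) (iv F224591)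
theorem F233842 : act 4 n52159 = n50125 := d34_1 D52159 (iv D50125) D50124
def n52160 : Q := act 8 n50125
theorem D52160 : act 8 n50125 = n52160 := rfl
theorem F233843 : act 0 n52160 = n50215 := d7_1 D52160 (iv D50215) (iv F224592)
theorem F233844 : act 2 n52160 = n50128 := d22_1 D52160 (iv D50128) (iv F224593)
theorem F233845 : act 5 n52160 = n50138 := d37_1 D52160 (iv D50138) (iv F224595)
def n52161 : Q := act 9 n50126
theorem D52161 : act 9 n50126 = n52161 := rfl
theorem F233846 : act 0 n52161 = n50217 := d8_1 D52161 (iv D50217) (iv F224596)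
theorem F233847 : act 1 n52161 = n50496 := d16_1 D52161 (iv D50496) (iv F224597)
theorem F233848 : act 4 n52161 = n50139 := d34_1 D52161 (iv D50139) (iv F224598)
theorem F233849 : act 5 n52161 = n50127 := d38_1 D52161 (iv D50127) D50126
def n52162 : Q := act 8 n50127
theorem D52162 : act 8 n50127 = n52162 := rfl
theorem F233850 : act 0 n52162 = n50218 := d7_1 D52162 (iv D50218) (iv F224599)
theorem F233851 : act 4 n52162 = n50128 := d33_1 D52162 (iv D50128) (iv F224600)
def n52163 : Q := act 9 n50129
theorem D52163 : act 9 n50129 = n52163 := rfl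
theorem F233852 : act 1 n52163 = n50131 := d16_1 D52163 (iv D50131) D50129
theorem F233853 : act 3 n52163 = n50160 := d29_1 D52163 (iv D50160) (iv F224604)
theorem F233854 : act 6 n52163 = n52163 := d41_1 D52163 (iv D52163) F224605
theorem F233855 : act 7 n52163 = n50135 := d43_1 D52163 (iv D50135) (iv F224606)
def n52164 : Q := act 5 n50130
theorem D52164 : act 5 n50130 = n52164 := rfl
theorem F233856 : act 0 n52164 = n50222 := d4_1 D52164 (iv D50222) (iv F224607)
theorem F233857 : act 2 n52164 = n50132 := d19_1 D52164 (iv D50132) (iv F224608)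
theorem F233858 : act 3 n52164 = n52164 := d25_1 D52164 (iv D52164) F224609
theorem F233859 : act 7 n52164 = n50136 := d36_2 (iv F224611) D52164 (iv D50136)
theorem F233860 : act 8 n52164 = n50557 := d37_2 (iv F224612) D52164 F226089
def n52165 : Q := act 9 n50130
theorem D52165 : act 9 n50130 = n52165 := rfl
theorem F233861 : act 0 n52165 = n50223 := d8_1 D52165 (iv D50223) (iv F224607)
theorem F233862 : act 2 n52165 = n50133 := d23_1 D52165 (iv D50133) (iv F224608)
theorem F233863 : act 3 n52165 = n52165 := d29_1 D52165 (iv D52165) F224609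
theorem F233864 : act 4 n52165 = n50131 := d34_1 D52165 (iv D50131) D50130
theorem F233865 : act 6 n52165 = n52165 := d41_1 D52165 (iv D52165) F224610
theorem F233866 : act 7 n52165 = n50137 := d43_1 D52165 (iv D50137) (iv F224611)
def n52166 : Q := act 8 n50131
theorem D52166 : act 8 n50131 = n52166 := rfl
theorem F233867 : act 0 n52166 = n50224 := d7_1 D52166 (iv D50224) (iv F224613)
theorem F233868 : act 2 n52166 = n50134 := d22_1 D52166 (iv D50134) (iv F224614)
theorem F233869 : act 6 n52166 = n52166 := d40_1 D52166 (iv D52166) F224616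
theorem F233870 : act 7 n52166 = n50138 := d42_1 D52166 (iv D50138) (iv F224617)
def n52167 : Q := act 9 n50132
theorem D52167 : act 9 n50132 = n52167 := rfl
theorem F233871 : act 0 n52167 = n50225 := d8_1 D52167 (iv D50225) (iv F224618)
theorem F233872 : act 1 n52167 = n50495 := d16_1 D52167 (iv D50495) (iv F224619)
theorem F233873 : act 3 n52167 = n50144 := d29_1 D52167 (iv D50144) (iv F224620)
theorem F233874 : act 5 n52167 = n50133 := d38_1 D52167 (iv D50133) D50132
theorem F233875 : act 7 n52167 = n50139 := d43_1 D52167 (iv D50139) (iv F224621)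
def n52168 : Q := act 8 n50133
theorem D52168 : act 8 n50133 = n52168 := rfl
theorem F233876 : act 0 n52168 = n50226 := d7_1 D52168 (iv D50226) (iv F224623)
theorem F233877 : act 1 n52168 = n50498 := d15_1 D52168 (iv D50498) (iv F224624)
theorem F233878 : act 3 n52168 = n50536 := d28_1 D52168 (iv D50536) F216158 (iv F214740) (iv F224625)
theorem F233879 : act 4 n52168 = n50134 := d33_1 D52168 (iv D50134) (iv F224626)
theorem F233880 : act 6 n52168 = n52168 := d40_1 D52168 (iv D52168) F224627
theorem F233881 : act 7 n52168 = n50140 := d42_1 D52168 (iv D50140) (iv F224628)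
theorem F233882 : act 9 n52168 = n50839 := d44_2 D50133 D52168 (iv D50839) (iv D48732) (iv F214685)
def n52169 : Q := act 8 n50135
theorem D52169 : act 8 n50135 = n52169 := rfl
theorem F233883 : act 1 n52169 = n50138 := d15_1 D52169 (iv D50138) (iv F224633)
theorem F233884 : act 6 n52169 = n50141 := d40_1 D52169 (iv D50141) (iv F224635)
def n52170 : Q := act 9 n50136
theorem D52170 : act 9 n50136 = n52170 := rfl
theorem F233885 : act 0 n52170 = n50233 := d8_1 D52170 (iv D50233) (iv F224636)
theorem F233886 : act 2 n52170 = n50139 := d23_1 D52170 (iv D50139) (iv F224637)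
theorem F233887 : act 3 n52170 = n52170 := d29_1 D52170 (iv D52170) F224638
theorem F233888 : act 5 n52170 = n50137 := d38_1 D52170 (iv D50137) D50136
def n52171 : Q := act 8 n50137
theorem D52171 : act 8 n50137 = n52171 := rfl
theorem F233889 : act 0 n52171 = n50234 := d7_1 D52171 (iv D50234) (iv F224639)
theorem F233890 : act 2 n52171 = n50140 := d22_1 D52171 (iv D50140) (iv F224640)
theorem F233891 : act 4 n52171 = n50138 := d33_1 D52171 (iv D50138) (iv F224642)
theorem F233892 : act 6 n52171 = n50142 := d40_1 D52171 (iv D50142) (iv F224643)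
def n52172 : Q := act 3 n50138
theorem D52172 : act 3 n50138 = n52172 := rfl
theorem F233893 : act 0 n52172 = n50235 := d2_1 D52172 (iv D50235) (iv F224644)
theorem F233894 : act 2 n52172 = n50694 := d17_1 D52172 (iv D50694) F216654 (iv F214709) (iv F224645)
theorem F233895 : act 6 n52172 = n50143 := d26_2 (iv F224646) D52172 (iv D50143)
theorem F233896 : act 8 n52172 = n50164 := d28_2 D50138 D52172 (iv D50164) (iv D47968) (iv F214698)
def n52173 : Q := act 8 n50139
theorem D52173 : act 8 n50139 = n52173 := rfl
theorem F233897 : act 0 n52173 = n50238 := d7_1 D52173 (iv D50238) (iv F224647)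
theorem F233898 : act 1 n52173 = n50497 := d15_1 D52173 (iv D50497) (iv F224648)
theorem F233899 : act 3 n52173 = n50542 := d28_1 D52173 (iv D50542) F216181 (iv F214745) (iv F224649)
theorem F233900 : act 5 n52173 = n50140 := d37_1 D52173 (iv D50140) (iv F224650)
def n52174 : Q := act 3 n50141
theorem D52174 : act 3 n50141 = n52174 := rfl
theorem F233901 : act 1 n52174 = n50143 := d10_1 D52174 (iv D50143) (iv F224656)
theorem F233902 : act 5 n52174 = n50706 := d25_2 (iv F224657) D52174 F226528
theorem F233903 : act 7 n52174 = n52174 := d27_2 F224658 D52174 (iv D52174)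
theorem F233904 : act 8 n52174 = n50166 := d28_2 D50141 D52174 (iv D50166) (iv D47970) (iv F214712)
def n52175 : Q := act 3 n50142
theorem D52175 : act 3 n50142 = n52175 := rfl
theorem F233905 : act 0 n52175 = n50248 := d2_1 D52175 (iv D50248) (iv F224659)
theorem F233906 : act 2 n52175 = n50544 := d17_1 D52175 (iv D50544) F216193 (iv F214725) (iv F224660)
theorem F233907 : act 7 n52175 = n52175 := d27_2 F224662 D52175 (iv D52175)
theorem F233908 : act 8 n52175 = n52175 := d28_2 D50142 D52175 (iv D52175) (iv D50142) F214717
def n52176 : Q := act 4 n50143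
theorem D52176 : act 4 n50143 = n52176 := rfl
theorem F233909 : act 0 n52176 = n50249 := d3_1 D52176 (iv D50249) (iv F224663)
theorem F233910 : act 2 n52176 = n50706 := d18_1 D52176 (iv D50706) (iv F224664)
theorem F233911 : act 7 n52176 = n52176 := d32_2 F224665 D52176 (iv D52176)
theorem F233912 : act 8 n52176 = n50167 := d33_2 (iv F224666) D52176 (iv D50167)
def n52177 : Q := act 1 n50145
theorem D52177 : act 1 n50145 = n52177 := rfl
theorem F233913 : act 0 n52177 = n50726 := d0_1 D52177 F226596 (iv F223829) F223830 (iv F224674)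
theorem F233914 : act 2 n52177 = n52177 := d9_2 D50145 D52177 (iv D52177) (iv D50145) F214747
theorem F233915 : act 4 n52177 = n50725 := d11_2 (iv F224675) D52177 F226591
theorem F233916 : act 5 n52177 = n52177 := d12_2 F224676 D52177 (iv D52177)
theorem F233917 : act 6 n52177 = n50147 := d13_2 (iv F224677) D52177 (iv D50147)
theorem F233918 : act 7 n52177 = n50800 := d14_2 (iv F224678) D52177 F226904
theorem F233919 : act 8 n52177 = n52177 := d15_2 F224679 D52177 (iv D52177)
def n52178 : Q := act 9 n50145
theorem D52178 : act 9 n50145 = n52178 := rfl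
theorem F233920 : act 0 n52178 = n50253 := d8_1 D52178 (iv D50253) (iv F224674)
theorem F233921 : act 2 n52178 = n50146 := d23_1 D52178 (iv D50146) D50145
theorem F233922 : act 4 n52178 = n50824 := d34_1 D52178 (iv D50824) (iv F224675)
theorem F233923 : act 5 n52178 = n52178 := d38_1 D52178 (iv D52178) F224676
theorem F233924 : act 6 n52178 = n50149 := d41_1 D52178 (iv D50149) (iv F224677)
theorem F233925 : act 7 n52178 = n50808 := d43_1 D52178 (iv D50808) (iv F224678)
def n52179 : Q := act 8 n50146
theorem D52179 : act 8 n50146 = n52179 := rfl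
theorem F233926 : act 0 n52179 = n50254 := d7_1 D52179 (iv D50254) (iv F224680)
theorem F233927 : act 1 n52179 = n52179 := d15_1 D52179 (iv D52179) F224681
theorem F233928 : act 3 n52179 = n50158 := d28_1 D52179 (iv D50158) F214788 (iv F214757) (iv F224682)
theorem F233929 : act 4 n52179 = n50813 := d33_1 D52179 F226955 (iv F224683)
theorem F233930 : act 5 n52179 = n52179 := d37_1 D52179 (iv D52179) F224684
theorem F233931 : act 6 n52179 = n50151 := d40_1 D52179 (iv D50151) (iv F224685)
theorem F233932 : act 7 n52179 = n50812 := d42_1 D52179 (iv D50812) (iv F224686)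
theorem F233933 : act 9 n52179 = n52179 := d44_2 D50146 D52179 (iv D52179) (iv D50146) F214752
def n52180 : Q := act 9 n50147
theorem D52180 : act 9 n50147 = n52180 := rfl
theorem F233934 : act 1 n52180 = n50149 := d16_1 D52180 (iv D50149) D50147
theorem F233935 : act 2 n52180 = n52180 := d23_1 D52180 (iv D52180) F224687
theorem F233936 : act 5 n52180 = n50160 := d38_1 D52180 (iv D50160) (iv F224688)
theorem F233937 : act 7 n52180 = n50154 := d43_1 D52180 (iv D50154) (iv F224689)
def n52181 : Q := act 3 n50148
theorem D52181 : act 3 n50148 = n52181 := rfl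
theorem F233938 : act 0 n52181 = n50256 := d2_1 D52181 (iv D50256) (iv F224691)
theorem F233939 : act 2 n52181 = n50681 := d17_1 D52181 F226456 F216700 (iv F214764) (iv F224692)
theorem F233940 : act 5 n52181 = n52181 := d25_2 F224693 D52181 (iv D52181)
theorem F233941 : act 6 n52181 = n50691 := d26_2 (iv F224694) D52181 F226486
theorem F233942 : act 7 n52181 = n50155 := d27_2 (iv F224695) D52181 (iv D50155)
def n52182 : Q := act 9 n50148
theorem D52182 : act 9 n50148 = n52182 := rfl
theorem F233943 : act 0 n52182 = n50257 := d8_1 D52182 (iv D50257) (iv F224691)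
theorem F233944 : act 2 n52182 = n50150 := d23_1 D52182 (iv D50150) (iv F224692)
theorem F233945 : act 4 n52182 = n50149 := d34_1 D52182 (iv D50149) D50148
theorem F233946 : act 5 n52182 = n52182 := d38_1 D52182 (iv D52182) F224693
theorem F233947 : act 6 n52182 = n50824 := d41_1 D52182 (iv D50824) (iv F224694)
theorem F233948 : act 7 n52182 = n50156 := d43_1 D52182 (iv D50156) (iv F224695)
def n52183 : Q := act 8 n50149
theorem D52183 : act 8 n50149 = n52183 := rfl
theorem F233949 : act 0 n52183 = n50258 := d7_1 D52183 (iv D50258) (iv F224697)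
theorem F233950 : act 2 n52183 = n50151 := d22_1 D52183 (iv D50151) (iv F224698)
theorem F233951 : act 5 n52183 = n50161 := d37_1 D52183 (iv D50161) (iv F224699)
theorem F233952 : act 7 n52183 = n50157 := d42_1 D52183 (iv D50157) (iv F224700)
theorem F233953 : act 9 n52183 = n52183 := d44_2 D50149 D52183 (iv D52183) (iv D50149) F214761
def n52184 : Q := act 8 n50150
theorem D52184 : act 8 n50150 = n52184 := rfl
theorem F233954 : act 0 n52184 = n50259 := d7_1 D52184 (iv D50259) (iv F224701)
theorem F233955 : act 1 n52184 = n52184 := d15_1 D52184 (iv D52184) F224702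
theorem F233956 : act 3 n52184 = n50812 := d28_1 D52184 (iv D50812) (iv F219490) F219495 (iv F224703)
theorem F233957 : act 4 n52184 = n50151 := d33_1 D52184 (iv D50151) (iv F224704)
theorem F233958 : act 5 n52184 = n52184 := d37_1 D52184 (iv D52184) F224705
theorem F233959 : act 6 n52184 = n50813 := d40_1 D52184 F226955 (iv F224706)
theorem F233960 : act 7 n52184 = n50158 := d42_1 D52184 (iv D50158) (iv F224707)
theorem F233961 : act 9 n52184 = n52184 := d44_2 D50150 D52184 (iv D52184) (iv D50150) F214768
def n52185 : Q := act 9 n50152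
theorem D52185 : act 9 n50152 = n52185 := rfl
theorem F233962 : act 0 n52185 = n50154 := d8_1 D52185 (iv D50154) D50152
theorem F233963 : act 1 n52185 = n50260 := d16_1 D52185 (iv D50260) (iv F224714)
theorem F233964 : act 2 n52185 = n52185 := d23_1 D52185 (iv D52185) F224715
theorem F233965 : act 5 n52185 = n50162 := d38_1 D52185 (iv D50162) (iv F224716)
theorem F233966 : act 6 n52185 = n50798 := d41_1 D52185 F226898 (iv F224717)
def n52186 : Q := act 3 n50153
theorem D52186 : act 3 n50153 = n52186 := rfl
theorem F233967 : act 1 n52186 = n50155 := d10_1 D52186 (iv D50155) (iv F224719)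
theorem F233968 : act 5 n52186 = n52186 := d25_2 F224721 D52186 (iv D52186)
theorem F233969 : act 6 n52186 = n50675 := d26_2 (iv F224722) D52186 F226433
def n52187 : Q := act 9 n50153
theorem D52187 : act 9 n50153 = n52187 := rfl
theorem F233970 : act 1 n52187 = n50156 := d16_1 D52187 (iv D50156) (iv F224719)
theorem F233971 : act 2 n52187 = n52187 := d23_1 D52187 (iv D52187) F224720
theorem F233972 : act 4 n52187 = n50154 := d34_1 D52187 (iv D50154) D50153
theorem F233973 : act 5 n52187 = n52187 := d38_1 D52187 (iv D52187) F224721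
theorem F233974 : act 6 n52187 = n50816 := d41_1 D52187 (iv D50816) (iv F224722)
def n52188 : Q := act 8 n50154
theorem D52188 : act 8 n50154 = n52188 := rfl
theorem F233975 : act 1 n52188 = n50157 := d15_1 D52188 (iv D50157) (iv F224724)
theorem F233976 : act 2 n52188 = n52188 := d22_1 D52188 (iv D52188) F224725
theorem F233977 : act 5 n52188 = n50163 := d37_1 D52188 (iv D50163) (iv F224726)
theorem F233978 : act 6 n52188 = n50828 := d40_1 D52188 F227011 (iv F224727)
theorem F233979 : act 9 n52188 = n52188 := d44_2 D50154 D52188 (iv D52188) (iv D50154) F214777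
def n52189 : Q := act 9 n50155
theorem D52189 : act 9 n50155 = n52189 := rfl
theorem F233980 : act 0 n52189 = n50265 := d8_1 D52189 (iv D50265) (iv F224728)
theorem F233981 : act 2 n52189 = n50682 := d23_1 D52189 (iv D50682) (iv F224729)
theorem F233982 : act 3 n52189 = n50156 := d29_1 D52189 (iv D50156) D50155
theorem F233983 : act 5 n52189 = n52189 := d38_1 D52189 (iv D52189) F224730
theorem F233984 : act 6 n52189 = n50678 := d41_1 D52189 (iv D50678) (iv F224731)
def n52190 : Q := act 8 n50156
theorem D52190 : act 8 n50156 = n52190 := rfl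
theorem F233985 : act 0 n52190 = n50266 := d7_1 D52190 (iv D50266) (iv F224732)
theorem F233986 : act 2 n52190 = n50158 := d22_1 D52190 (iv D50158) (iv F224733)
theorem F233987 : act 4 n52190 = n50157 := d33_1 D52190 (iv D50157) (iv F224734)
theorem F233988 : act 5 n52190 = n52190 := d37_1 D52190 (iv D52190) F224735
theorem F233989 : act 6 n52190 = n50817 := d40_1 D52190 (iv D50817) (iv F224736)
theorem F233990 : act 9 n52190 = n52190 := d44_2 D50156 D52190 (iv D52190) (iv D50156) F214782
def n52191 : Q := act 3 n50157
theorem D52191 : act 3 n50157 = n52191 := rfl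
theorem F233991 : act 0 n52191 = n50267 := d2_1 D52191 (iv D50267) (iv F224737)
theorem F233992 : act 2 n52191 = n50826 := d17_1 D52191 (iv D50826) F217426 (iv F214794) (iv F224738)
theorem F233993 : act 5 n52191 = n50164 := d25_2 (iv F224739) D52191 (iv D50164)
theorem F233994 : act 9 n52191 = n52191 := d29_2 F224740 D52191 (iv D52191)
def n52192 : Q := act 9 n50159
theorem D52192 : act 9 n50159 = n52192 := rfl
theorem F233995 : act 0 n52192 = n50160 := d8_1 D52192 (iv D50160) D50159
theorem F233996 : act 1 n52192 = n50268 := d16_1 D52192 (iv D50268) (iv F224747)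
theorem F233997 : act 2 n52192 = n52192 := d23_1 D52192 (iv D52192) F224748
theorem F233998 : act 4 n52192 = n52192 := d34_1 D52192 (iv D52192) F224749
theorem F233999 : act 6 n52192 = n52192 := d41_1 D52192 (iv D52192) F224750
theorem F234000 : act 7 n52192 = n50162 := d43_1 D52192 (iv D50162) (iv F224751)
def n52193 : Q := act 8 n50160
theorem D52193 : act 8 n50160 = n52193 := rfl
theorem F234001 : act 1 n52193 = n50161 := d15_1 D52193 (iv D50161) (iv F224753)
theorem F234002 : act 2 n52193 = n52193 := d22_1 D52193 (iv D52193) F224754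
theorem F234003 : act 4 n52193 = n52193 := d33_1 D52193 (iv D52193) F224755
theorem F234004 : act 6 n52193 = n52193 := d40_1 D52193 (iv D52193) F224756
theorem F234005 : act 7 n52193 = n50163 := d42_1 D52193 (iv D50163) (iv F224757)
theorem F234006 : act 9 n52193 = n52193 := d44_2 D50160 D52193 (iv D52193) (iv D50160) F214801
def n52194 : Q := act 3 n50161
theorem D52194 : act 3 n50161 = n52194 := rfl
theorem F234007 : act 0 n52194 = n50270 := d2_1 D52194 (iv D50270) (iv F224758)
theorem F234008 : act 2 n52194 = n50818 := d17_1 D52194 (iv D50818) F217388 (iv F214809) (iv F224759)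
theorem F234009 : act 6 n52194 = n52194 := d26_2 F224761 D52194 (iv D52194)
theorem F234010 : act 7 n52194 = n50164 := d27_2 (iv F224762) D52194 (iv D50164)
theorem F234011 : act 9 n52194 = n52194 := d29_2 F224763 D52194 (iv D52194)
def n52195 : Q := act 8 n50162
theorem D52195 : act 8 n50162 = n52195 := rfl
theorem F234012 : act 0 n52195 = n50163 := d7_1 D52195 (iv D50163) (iv F224764)
theorem F234013 : act 1 n52195 = n50271 := d15_1 D52195 (iv D50271) (iv F224765)
theorem F234014 : act 2 n52195 = n52195 := d22_1 D52195 (iv D52195) F224766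
theorem F234015 : act 4 n52195 = n52195 := d33_1 D52195 (iv D52195) F224767
theorem F234016 : act 6 n52195 = n50165 := d40_1 D52195 (iv D50165) (iv F224768)
theorem F234017 : act 9 n52195 = n52195 := d44_2 D50162 D52195 (iv D52195) (iv D50162) F214818
def n52196 : Q := act 3 n50163
theorem D52196 : act 3 n50163 = n52196 := rfl
theorem F234018 : act 1 n52196 = n50164 := d10_1 D52196 (iv D50164) (iv F224769)
theorem F234019 : act 6 n52196 = n50166 := d26_2 (iv F224772) D52196 (iv D50166)
theorem F234020 : act 9 n52196 = n52196 := d29_2 F224773 D52196 (iv D52196)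
def n52197 : Q := act 4 n50164
theorem D52197 : act 4 n50164 = n52197 := rfl
theorem F234021 : act 0 n52197 = n50273 := d3_1 D52197 (iv D50273) (iv F224774)
theorem F234022 : act 2 n52197 = n50827 := d18_1 D52197 (iv D50827) (iv F224775)
theorem F234023 : act 3 n52197 = n52197 := d24_1 D52197 (iv D52197) (iv D50164) F214825 D50164
theorem F234024 : act 6 n52197 = n50167 := d31_2 (iv F224776) D52197 (iv D50167)
theorem F234025 : act 9 n52197 = n52197 := d34_2 F224777 D52197 (iv D52197)
def n52198 : Q := act 4 n50166
theorem D52198 : act 4 n50166 = n52198 := rfl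
theorem F234026 : act 1 n52198 = n50167 := d11_1 D52198 (iv D50167) (iv F224785)
theorem F234027 : act 2 n52198 = n50833 := d18_1 D52198 (iv F232951) F232949
theorem F234028 : act 3 n52198 = n52198 := d24_1 D52198 (iv D52198) (iv D50166) F214836 D50166
theorem F234029 : act 5 n52198 = n50834 := d30_2 (iv F224786) D52198 F227041 F217486 D48723
theorem F234030 : act 7 n52198 = n52198 := d32_2 F224787 D52198 (iv D52198)
theorem F234031 : act 9 n52198 = n52198 := d34_2 F224788 D52198 (iv D52198)
def n52199 : Q := act 1 n50168
theorem D52199 : act 1 n50168 = n52199 := rfl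
theorem F234032 : act 2 n52199 = n50595 := d9_2 D50168 D52199 (iv D50595) (iv D48437) (iv F214844)
theorem F234033 : act 3 n52199 = n52199 := d10_2 F224794 D52199 (iv D52199)
theorem F234034 : act 5 n52199 = n50619 := d12_2 (iv F224795) D52199 F226274
theorem F234035 : act 7 n52199 = n50625 := d14_2 (iv F224796) D52199 F226301
theorem F234036 : act 8 n52199 = n50675 := d15_2 (iv F224797) D52199 F226432
def n52200 : Q := act 4 n50168
theorem D52200 : act 4 n50168 = n52200 := rfl
theorem F234037 : act 2 n52200 = n50169 := d18_1 D52200 (iv D50169) D50168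
theorem F234038 : act 5 n52200 = n50604 := d30_2 (iv F224795) D52200 (iv D50604) F216466 D48452
theorem F234039 : act 7 n52200 = n50612 := d32_2 (iv F224796) D52200 F226257
theorem F234040 : act 8 n52200 = n50650 := d33_2 (iv F224797) D52200 F226378
def n52201 : Q := act 9 n50168
theorem D52201 : act 9 n50168 = n52201 := rfl
theorem F234041 : act 2 n52201 = n50170 := d23_1 D52201 (iv D50170) D50168
theorem F234042 : act 3 n52201 = n52201 := d29_1 D52201 (iv D52201) F224794
theorem F234043 : act 5 n52201 = n50621 := d38_1 D52201 (iv D50621) (iv F224795)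
theorem F234044 : act 7 n52201 = n50629 := d43_1 D52201 (iv D50629) (iv F224796)
def n52202 : Q := act 9 n50169
theorem D52202 : act 9 n50169 = n52202 := rfl
theorem F234045 : act 1 n52202 = n50598 := d16_1 D52202 (iv D50598) (iv F224798)
theorem F234046 : act 3 n52202 = n50180 := d29_1 D52202 (iv D50180) (iv F224799)
theorem F234047 : act 4 n52202 = n50170 := d34_1 D52202 (iv D50170) D50169
theorem F234048 : act 5 n52202 = n50606 := d38_1 D52202 (iv D50606) (iv F224800)
theorem F234049 : act 7 n52202 = n50616 := d43_1 D52202 (iv D50616) (iv F224801)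
def n52203 : Q := act 8 n50170
theorem D52203 : act 8 n50170 = n52203 := rfl
theorem F234050 : act 1 n52203 = n50599 := d15_1 D52203 (iv D50599) (iv F224803)
theorem F234051 : act 5 n52203 = n50623 := d37_1 D52203 (iv D50623) (iv F224805)
theorem F234052 : act 7 n52203 = n50633 := d42_1 D52203 (iv D50633) (iv F224806)
theorem F234053 : act 9 n52203 = n50683 := d44_2 D50170 D52203 (iv D50683) (iv D48500) (iv F214847)
def n52204 : Q := act 2 n50171
theorem D52204 : act 2 n50171 = n52204 := rfl
theorem F234054 : act 3 n52204 = n52204 := d17_2 D50171 D52204 (iv D52204) (iv D50171) F214854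
theorem F234055 : act 5 n52204 = n52204 := d19_2 F224808 D52204 (iv D52204)
theorem F234056 : act 6 n52204 = n50173 := d20_2 (iv F224809) D52204 (iv D50173)
theorem F234057 : act 8 n52204 = n50200 := d22_2 (iv F224810) D52204 (iv D50200)
def n52205 : Q := act 4 n50171
theorem D52205 : act 4 n50171 = n52205 := rfl
theorem F234058 : act 1 n52205 = n50601 := d11_1 D52205 (iv D50601) (iv F224807)
theorem F234059 : act 3 n52205 = n50615 := d24_1 D52205 F226264 F216528 (iv F214855) D50171
theorem F234060 : act 6 n52205 = n50174 := d31_2 (iv F224809) D52205 (iv D50174)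
theorem F234061 : act 8 n52205 = n50201 := d33_2 (iv F224810) D52205 (iv D50201)
def n52206 : Q := act 9 n50171
theorem D52206 : act 9 n50171 = n52206 := rfl
theorem F234062 : act 1 n52206 = n50602 := d16_1 D52206 (iv D50602) (iv F224807)
theorem F234063 : act 3 n52206 = n50172 := d29_1 D52206 (iv D50172) D50171
theorem F234064 : act 5 n52206 = n52206 := d38_1 D52206 (iv D52206) F224808
theorem F234065 : act 6 n52206 = n50175 := d41_1 D52206 (iv D50175) (iv F224809)
def n52207 : Q := act 1 n50173
theorem D52207 : act 1 n50173 = n52207 := rfl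
theorem F234066 : act 2 n52207 = n50603 := d9_2 D50173 D52207 (iv D50603) (iv D48442) (iv F214858)
theorem F234067 : act 3 n52207 = n52207 := d10_2 F224816 D52207 (iv D52207)
theorem F234068 : act 5 n52207 = n50182 := d12_2 (iv F224817) D52207 (iv D50182)
theorem F234069 : act 7 n52207 = n50176 := d14_2 (iv F224818) D52207 (iv D50176)
theorem F234070 : act 8 n52207 = n50203 := d15_2 (iv F224819) D52207 (iv D50203)
def n52208 : Q := act 4 n50173
theorem D52208 : act 4 n50173 = n52208 := rfl
theorem F234071 : act 2 n52208 = n50174 := d18_1 D52208 (iv D50174) D50173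
theorem F234072 : act 5 n52208 = n50596 := d30_2 (iv F224817) D52208 (iv D50596) F216455 (iv F214876)
theorem F234073 : act 7 n52208 = n50177 := d32_2 (iv F224818) D52208 (iv D50177)
theorem F234074 : act 8 n52208 = n50204 := d33_2 (iv F224819) D52208 (iv D50204)
def n52209 : Q := act 9 n50173
theorem D52209 : act 9 n50173 = n52209 := rfl
theorem F234075 : act 2 n52209 = n50175 := d23_1 D52209 (iv D50175) D50173
theorem F234076 : act 3 n52209 = n52209 := d29_1 D52209 (iv D52209) F224816
theorem F234077 : act 5 n52209 = n50183 := d38_1 D52209 (iv D50183) (iv F224817)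
theorem F234078 : act 7 n52209 = n50178 := d43_1 D52209 (iv D50178) (iv F224818)
def n52210 : Q := act 9 n50174
theorem D52210 : act 9 n50174 = n52210 := rfl
theorem F234079 : act 1 n52210 = n50606 := d16_1 D52210 (iv D50606) (iv F224820)
theorem F234080 : act 3 n52210 = n50616 := d29_1 D52210 (iv D50616) (iv F224821)
theorem F234081 : act 4 n52210 = n50175 := d34_1 D52210 (iv D50175) D50174
theorem F234082 : act 5 n52210 = n50598 := d38_1 D52210 (iv D50598) (iv F224822)
theorem F234083 : act 7 n52210 = n50180 := d43_1 D52210 (iv D50180) (iv F224823)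
def n52211 : Q := act 8 n50175
theorem D52211 : act 8 n50175 = n52211 := rfl
theorem F234084 : act 1 n52211 = n50607 := d15_1 D52211 (iv D50607) (iv F224825)
theorem F234085 : act 5 n52211 = n50184 := d37_1 D52211 (iv D50184) (iv F224827)
theorem F234086 : act 7 n52211 = n50181 := d42_1 D52211 (iv D50181) (iv F224828)
theorem F234087 : act 9 n52211 = n50208 := d44_2 D50175 D52211 (iv D50208) (iv D47999) (iv F214861)
def n52212 : Q := act 4 n50176
theorem D52212 : act 4 n50176 = n52212 := rfl
theorem F234088 : act 1 n52212 = n50177 := d11_1 D52212 (iv D50177) D50176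
theorem F234089 : act 2 n52212 = n50609 := d18_1 D52212 (iv D50609) (iv F224829)
theorem F234090 : act 8 n52212 = n50210 := d33_2 (iv F224832) D52212 (iv D50210)
def n52213 : Q := act 9 n50176
theorem D52213 : act 9 n50176 = n52213 := rfl
theorem F234091 : act 1 n52213 = n50178 := d16_1 D52213 (iv D50178) D50176
theorem F234092 : act 2 n52213 = n50610 := d23_1 D52213 (iv D50610) (iv F224829)
theorem F234093 : act 3 n52213 = n52213 := d29_1 D52213 (iv D52213) F224830
theorem F234094 : act 5 n52213 = n50186 := d38_1 D52213 (iv D50186) (iv F224831)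
def n52214 : Q := act 3 n50177
theorem D52214 : act 3 n50177 = n52214 := rfl
theorem F234095 : act 4 n52214 = n52214 := d24_2 D50177 D52214 (iv D52214) (iv D50177) F214867
def n52215 : Q := act 5 n50177
theorem D52215 : act 5 n50177 = n52215 := rfl
theorem F234096 : act 2 n52215 = n50179 := d19_1 D52215 (iv D50179) (iv F224833)
theorem F234097 : act 4 n52215 = n50187 := d30_1 D52215 (iv D50187) (iv D47983) (iv F214868) D50177
theorem F234098 : act 7 n52215 = n50596 := d36_2 F234073 D52215 (iv F234072)
theorem F234099 : act 8 n52215 = n50213 := d37_2 (iv F224834) D52215 (iv D50213)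
def n52216 : Q := act 9 n50177
theorem D52216 : act 9 n50177 = n52216 := rfl
theorem F234100 : act 2 n52216 = n50180 := d23_1 D52216 (iv D50180) (iv F224833)
theorem F234101 : act 4 n52216 = n50178 := d34_1 D52216 (iv D50178) D50177
def n52217 : Q := act 8 n50178
theorem D52217 : act 8 n50178 = n52217 := rfl
theorem F234102 : act 2 n52217 = n50181 := d22_1 D52217 (iv D50181) (iv F224835)
theorem F234103 : act 5 n52217 = n50189 := d37_1 D52217 (iv D50189) (iv F224837)
theorem F234104 : act 9 n52217 = n50215 := d44_2 D50178 D52217 (iv D50215) (iv D48002) (iv F214869)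
def n52218 : Q := act 6 n50179
theorem D52218 : act 6 n50179 = n52218 := rfl
theorem F234105 : act 0 n52218 = n50521 := d5_1 D52218 (iv F231906) F231902
theorem F234106 : act 1 n52218 = n50615 := d13_1 D52218 (iv D50615) (iv F224838)
theorem F234107 : act 3 n52218 = n50601 := d26_1 D52218 F226226 (iv F224839)
theorem F234108 : act 4 n52218 = n50190 := d31_1 D52218 (iv D50190) (iv F224840)
theorem F234109 : act 8 n52218 = n50216 := d40_2 (iv F224842) D52218 (iv D50216)
def n52219 : Q := act 9 n50179
theorem D52219 : act 9 n50179 = n52219 := rfl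
theorem F234110 : act 1 n52219 = n50616 := d16_1 D52219 (iv D50616) (iv F224838)
theorem F234111 : act 3 n52219 = n50606 := d29_1 D52219 (iv D50606) (iv F224839)
theorem F234112 : act 4 n52219 = n50191 := d34_1 D52219 (iv D50191) (iv F224840)
theorem F234113 : act 5 n52219 = n50180 := d38_1 D52219 (iv D50180) D50179
theorem F234114 : act 7 n52219 = n50598 := d43_1 D52219 (iv D50598) (iv F224841)
def n52220 : Q := act 8 n50180
theorem D52220 : act 8 n50180 = n52220 := rfl
theorem F234115 : act 1 n52220 = n50617 := d15_1 D52220 (iv D50617) (iv F224843)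
theorem F234116 : act 4 n52220 = n50181 := d33_1 D52220 (iv D50181) (iv F224844)
theorem F234117 : act 9 n52220 = n50218 := d44_2 D50180 D52220 (iv D50218) (iv D48004) (iv F214871)
def n52221 : Q := act 9 n50182
theorem D52221 : act 9 n50182 = n52221 := rfl
theorem F234118 : act 1 n52221 = n50183 := d16_1 D52221 (iv D50183) D50182
theorem F234119 : act 2 n52221 = n50620 := d23_1 D52221 (iv D50620) (iv F224848)
theorem F234120 : act 3 n52221 = n52221 := d29_1 D52221 (iv D52221) F224849
theorem F234121 : act 4 n52221 = n50840 := d34_1 D52221 (iv D50840) (iv F224850)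
theorem F234122 : act 6 n52221 = n52221 := d41_1 D52221 (iv D52221) F224851
theorem F234123 : act 7 n52221 = n50186 := d43_1 D52221 (iv D50186) (iv F224852)
def n52222 : Q := act 8 n50183
theorem D52222 : act 8 n50183 = n52222 := rfl
theorem F234124 : act 2 n52222 = n50184 := d22_1 D52222 (iv D50184) (iv F224854)
theorem F234125 : act 4 n52222 = n50841 := d33_1 D52222 (iv D50841) (iv F224856)
theorem F234126 : act 6 n52222 = n52222 := d40_1 D52222 (iv D52222) F224857
theorem F234127 : act 7 n52222 = n50189 := d42_1 D52222 (iv D50189) (iv F224858)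
theorem F234128 : act 9 n52222 = n50224 := d44_2 D50183 D52222 (iv D50224) (iv D48008) (iv F214879)
def n52223 : Q := act 5 n50185
theorem D52223 : act 5 n50185 = n52223 := rfl
theorem F234129 : act 0 n52223 = n50687 := d4_1 D52223 F226474 (iv F224864)
theorem F234130 : act 1 n52223 = n50187 := d12_1 D52223 (iv D50187) (iv F224865)
theorem F234131 : act 2 n52223 = n50625 := d19_1 D52223 (iv D50625) (iv F224866)
theorem F234132 : act 3 n52223 = n50720 := d25_1 D52223 F226571 F224870
theorem F234133 : act 6 n52223 = n50684 := d35_2 (iv F224867) D52223 (iv D50684) F216636 (iv F214912)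
theorem F234134 : act 7 n52223 = n50595 := d36_2 (iv F224868) D52223 F226214
theorem F234135 : act 8 n52223 = n50229 := d37_2 (iv F224869) D52223 (iv D50229)
def n52224 : Q := act 9 n50185
theorem D52224 : act 9 n50185 = n52224 := rfl
theorem F234136 : act 0 n52224 = n50700 := d8_1 D52224 (iv D50700) (iv F224864)
theorem F234137 : act 1 n52224 = n50188 := d16_1 D52224 (iv D50188) (iv F224865)
theorem F234138 : act 2 n52224 = n50626 := d23_1 D52224 (iv D50626) (iv F224866)
theorem F234139 : act 3 n52224 = n50829 := d29_1 D52224 (iv D50829) F224870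
theorem F234140 : act 4 n52224 = n50186 := d34_1 D52224 (iv D50186) D50185
theorem F234141 : act 6 n52224 = n50193 := d41_1 D52224 (iv D50193) (iv F224867)
theorem F234142 : act 7 n52224 = n50840 := d43_1 D52224 (iv D50840) (iv F224868)
def n52225 : Q := act 8 n50186
theorem D52225 : act 8 n50186 = n52225 := rfl
theorem F234143 : act 1 n52225 = n50189 := d15_1 D52225 (iv D50189) (iv F224871)
theorem F234144 : act 2 n52225 = n50627 := d22_1 D52225 (iv D50627) (iv F224872)
theorem F234145 : act 6 n52225 = n50194 := d40_1 D52225 (iv D50194) (iv F224874)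
theorem F234146 : act 9 n52225 = n50231 := d44_2 D50186 D52225 (iv D50231) (iv D48014) (iv F214888)
def n52226 : Q := act 9 n50187
theorem D52226 : act 9 n50187 = n52226 := rfl
theorem F234147 : act 2 n52226 = n50191 := d23_1 D52226 (iv D50191) (iv F224875)
theorem F234148 : act 3 n52226 = n50722 := d29_1 D52226 (iv D50722) (iv F224876)
theorem F234149 : act 5 n52226 = n50188 := d38_1 D52226 (iv D50188) D50187
theorem F234150 : act 7 n52226 = n50597 := d43_1 D52226 (iv D50597) (iv F224877)
def n52227 : Q := act 8 n50188
theorem D52227 : act 8 n50188 = n52227 := rfl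
theorem F234151 : act 2 n52227 = n50192 := d22_1 D52227 (iv D50192) (iv F224879)
theorem F234152 : act 4 n52227 = n50189 := d33_1 D52227 (iv D50189) (iv F224881)
theorem F234153 : act 6 n52227 = n50195 := d40_1 D52227 (iv D50195) (iv F224882)
theorem F234154 : act 7 n52227 = n50841 := d42_1 D52227 (iv D50841) (iv F224883)
theorem F234155 : act 9 n52227 = n50234 := d44_2 D50188 D52227 (iv D50234) (iv D48016) (iv F214892)
def n52228 : Q := act 3 n50189
theorem D52228 : act 3 n50189 = n52228 := rfl
theorem F234156 : act 6 n52228 = n50196 := d26_2 (iv F224885) D52228 (iv D50196)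
theorem F234157 : act 8 n52228 = n52228 := d28_2 D50189 D52228 (iv D52228) (iv D50189) F214895
theorem F234158 : act 9 n52228 = n50235 := d29_2 (iv F224886) D52228 (iv D50235)
def n52229 : Q := act 9 n50190
theorem D52229 : act 9 n50190 = n52229 := rfl
theorem F234159 : act 0 n52229 = n50522 := d8_1 D52229 (iv D50522) (iv F224887)
theorem F234160 : act 1 n52229 = n50632 := d16_1 D52229 (iv D50632) (iv F224888)
theorem F234161 : act 3 n52229 = n50550 := d29_1 D52229 (iv D50550) (iv F224889)
theorem F234162 : act 5 n52229 = n50198 := d38_1 D52229 (iv D50198) (iv F224890)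
theorem F234163 : act 6 n52229 = n50191 := d41_1 D52229 (iv D50191) D50190
def n52230 : Q := act 8 n50191
theorem D52230 : act 8 n50191 = n52230 := rfl
theorem F234164 : act 1 n52230 = n50633 := d15_1 D52230 (iv D50633) (iv F224892)
theorem F234165 : act 5 n52230 = n50192 := d37_1 D52230 (iv D50192) (iv F224894)
theorem F234166 : act 7 n52230 = n50599 := d42_1 D52230 (iv D50599) (iv F224895)
theorem F234167 : act 9 n52230 = n50238 := d44_2 D50191 D52230 (iv D50238) (iv D48019) (iv F214900)
def n52231 : Q := act 8 n50193
theorem D52231 : act 8 n50193 = n52231 := rfl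
theorem F234168 : act 0 n52231 = n50701 := d7_1 D52231 (iv D50701) (iv F224901)
theorem F234169 : act 1 n52231 = n50195 := d15_1 D52231 (iv D50195) (iv F224902)
theorem F234170 : act 2 n52231 = n50635 := d22_1 D52231 (iv D50635) (iv F224903)
theorem F234171 : act 4 n52231 = n50194 := d33_1 D52231 (iv D50194) (iv F224905)
theorem F234172 : act 5 n52231 = n50698 := d37_1 D52231 (iv D50698) (iv F224906)
theorem F234173 : act 7 n52231 = n52231 := d42_1 D52231 (iv D52231) F224907
theorem F234174 : act 9 n52231 = n50243 := d44_2 D50193 D52231 (iv D50243) (iv D48024) (iv F214914)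
def n52232 : Q := act 3 n50194
theorem D52232 : act 3 n50194 = n52232 := rfl
theorem F234175 : act 1 n52232 = n50196 := d10_1 D52232 (iv D50196) (iv F224908)
theorem F234176 : act 7 n52232 = n52232 := d27_2 F224910 D52232 (iv D52232)
theorem F234177 : act 8 n52232 = n52232 := d28_2 D50194 D52232 (iv D52232) (iv D50194) F214918
theorem F234178 : act 9 n52232 = n50244 := d29_2 (iv F224911) D52232 (iv D50244)
def n52233 : Q := act 9 n50197
theorem D52233 : act 9 n50197 = n52233 := rfl
theorem F234179 : act 0 n52233 = n50530 := d8_1 D52233 (iv D50530) (iv F224919)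
theorem F234180 : act 1 n52233 = n50640 := d16_1 D52233 (iv D50640) (iv F224920)
theorem F234181 : act 3 n52233 = n50554 := d29_1 D52233 (iv D50554) (iv F224921)
theorem F234182 : act 6 n52233 = n52233 := d41_1 D52233 (iv D52233) F224922
theorem F234183 : act 7 n52233 = n50198 := d43_1 D52233 (iv D50198) D50197
def n52234 : Q := act 8 n50198
theorem D52234 : act 8 n50198 = n52234 := rfl
theorem F234184 : act 0 n52234 = n50539 := d7_1 D52234 (iv D50539) (iv F224924)
theorem F234185 : act 1 n52234 = n50641 := d15_1 D52234 (iv D50641) (iv F224925)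
theorem F234186 : act 6 n52234 = n50199 := d40_1 D52234 (iv D50199) (iv F224927)
theorem F234187 : act 9 n52234 = n50251 := d44_2 D50198 D52234 (iv D50251) (iv D48031) (iv F214929)
def n52235 : Q := act 4 n50200
theorem D52235 : act 4 n50200 = n52235 := rfl
theorem F234188 : act 2 n52235 = n50201 := d18_1 D52235 (iv D50201) D50200
theorem F234189 : act 6 n52235 = n50204 := d31_2 (iv F224935) D52235 (iv D50204)
def n52236 : Q := act 9 n50200
theorem D52236 : act 9 n50200 = n52236 := rfl
theorem F234190 : act 2 n52236 = n50202 := d23_1 D52236 (iv D50202) D50200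
theorem F234191 : act 3 n52236 = n50253 := d29_1 D52236 (iv D50253) (iv F224933)
theorem F234192 : act 5 n52236 = n52236 := d38_1 D52236 (iv D52236) F224934
theorem F234193 : act 6 n52236 = n50205 := d41_1 D52236 (iv D50205) (iv F224935)
def n52237 : Q := act 5 n50201
theorem D52237 : act 5 n50201 = n52237 := rfl
theorem F234194 : act 1 n52237 = n50644 := d12_1 D52237 (iv D50644) (iv F224936)
theorem F234195 : act 4 n52237 = n52237 := d30_1 D52237 (iv D52237) (iv D50201) F214940 D50201
def n52238 : Q := act 9 n50201
theorem D52238 : act 9 n50201 = n52238 := rfl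
theorem F234196 : act 1 n52238 = n50645 := d16_1 D52238 (iv D50645) (iv F224936)
theorem F234197 : act 4 n52238 = n50202 := d34_1 D52238 (iv D50202) D50201
theorem F234198 : act 6 n52238 = n50207 := d41_1 D52238 (iv D50207) (iv F224937)
def n52239 : Q := act 8 n50202
theorem D52239 : act 8 n50202 = n52239 := rfl
theorem F234199 : act 1 n52239 = n50646 := d15_1 D52239 (iv D50646) (iv F224938)
theorem F234200 : act 5 n52239 = n52239 := d37_1 D52239 (iv D52239) F224940
theorem F234201 : act 6 n52239 = n50208 := d40_1 D52239 (iv D50208) (iv F224941)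
def n52240 : Q := act 4 n50203
theorem D52240 : act 4 n50203 = n52240 := rfl
theorem F234202 : act 1 n52240 = n50204 := d11_1 D52240 (iv D50204) D50203
theorem F234203 : act 2 n52240 = n50647 := d18_1 D52240 (iv D50647) (iv F224942)
theorem F234204 : act 7 n52240 = n50210 := d32_2 (iv F224945) D52240 (iv D50210)
def n52241 : Q := act 9 n50203
theorem D52241 : act 9 n50203 = n52241 := rfl
theorem F234205 : act 1 n52241 = n50205 := d16_1 D52241 (iv D50205) D50203
theorem F234206 : act 2 n52241 = n50648 := d23_1 D52241 (iv D50648) (iv F224942)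
theorem F234207 : act 3 n52241 = n50255 := d29_1 D52241 (iv D50255) (iv F224943)
theorem F234208 : act 5 n52241 = n50221 := d38_1 D52241 (iv D50221) (iv F224944)
theorem F234209 : act 7 n52241 = n50211 := d43_1 D52241 (iv D50211) (iv F224945)
def n52242 : Q := act 3 n50204
theorem D52242 : act 3 n50204 = n52242 := rfl
theorem F234210 : act 4 n52242 = n50256 := d24_2 D50204 D52242 (iv D50256) (iv D48040) (iv F214946)
theorem F234211 : act 7 n52242 = n50212 := d27_2 (iv F224947) D52242 (iv D50212)
def n52243 : Q := act 5 n50204
theorem D52243 : act 5 n50204 = n52243 := rfl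
theorem F234212 : act 2 n52243 = n50206 := d19_1 D52243 (iv D50206) (iv F224946)
theorem F234213 : act 4 n52243 = n50222 := d30_1 D52243 (iv D50222) (iv D48007) (iv F214947) D50204
theorem F234214 : act 7 n52243 = n50213 := d36_2 (iv F224947) D52243 (iv D50213)
theorem F234215 : act 8 n52243 = n50596 := d37_2 F234074 D52243 (iv F234072)
def n52244 : Q := act 9 n50204
theorem D52244 : act 9 n50204 = n52244 := rfl
theorem F234216 : act 2 n52244 = n50207 := d23_1 D52244 (iv D50207) (iv F224946)
theorem F234217 : act 4 n52244 = n50205 := d34_1 D52244 (iv D50205) D50204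
theorem F234218 : act 7 n52244 = n50214 := d43_1 D52244 (iv D50214) (iv F224947)
def n52245 : Q := act 8 n50205
theorem D52245 : act 8 n50205 = n52245 := rfl
theorem F234219 : act 2 n52245 = n50208 := d22_1 D52245 (iv D50208) (iv F224948)
theorem F234220 : act 5 n52245 = n50224 := d37_1 D52245 (iv D50224) (iv F224950)
theorem F234221 : act 7 n52245 = n50215 := d42_1 D52245 (iv D50215) (iv F224951)
def n52246 : Q := act 9 n50206
theorem D52246 : act 9 n50206 = n52246 := rfl
theorem F234222 : act 1 n52246 = n50654 := d16_1 D52246 (iv D50654) (iv F224952)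
theorem F234223 : act 3 n52246 = n50409 := d29_1 D52246 (iv D50409) (iv F224953)
theorem F234224 : act 4 n52246 = n50225 := d34_1 D52246 (iv D50225) (iv F224954)
theorem F234225 : act 5 n52246 = n50207 := d38_1 D52246 (iv D50207) D50206
theorem F234226 : act 7 n52246 = n50217 := d43_1 D52246 (iv D50217) (iv F224955)
def n52247 : Q := act 8 n50207
theorem D52247 : act 8 n50207 = n52247 := rfl
theorem F234227 : act 1 n52247 = n50655 := d15_1 D52247 (iv D50655) (iv F224957)
theorem F234228 : act 4 n52247 = n50208 := d33_1 D52247 (iv D50208) (iv F224958)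
theorem F234229 : act 7 n52247 = n50218 := d42_1 D52247 (iv D50218) (iv F224959)
def n52248 : Q := act 4 n50209
theorem D52248 : act 4 n50209 = n52248 := rfl
theorem F234230 : act 0 n52248 = n50210 := d3_1 D52248 (iv D50210) D50209
theorem F234231 : act 2 n52248 = n50656 := d18_1 D52248 (iv D50656) (iv F224963)
def n52249 : Q := act 9 n50209
theorem D52249 : act 9 n50209 = n52249 := rfl
theorem F234232 : act 0 n52249 = n50211 := d8_1 D52249 (iv D50211) D50209
theorem F234233 : act 2 n52249 = n50657 := d23_1 D52249 (iv D50657) (iv F224963)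
theorem F234234 : act 3 n52249 = n50260 := d29_1 D52249 (iv D50260) (iv F224964)
theorem F234235 : act 5 n52249 = n50228 := d38_1 D52249 (iv D50228) (iv F224965)
def n52250 : Q := act 3 n50210
theorem D52250 : act 3 n50210 = n52250 := rfl
theorem F234236 : act 1 n52250 = n50212 := d10_1 D52250 (iv D50212) (iv F224966)
theorem F234237 : act 4 n52250 = n50261 := d24_2 D50210 D52250 (iv D50261) (iv D48045) (iv F214956)
def n52251 : Q := act 5 n50210
theorem D52251 : act 5 n50210 = n52251 := rfl
theorem F234238 : act 1 n52251 = n50213 := d12_1 D52251 (iv D50213) (iv F224966)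
theorem F234239 : act 2 n52251 = n50659 := d19_1 D52251 (iv D50659) (iv F224967)
theorem F234240 : act 4 n52251 = n50229 := d30_1 D52251 (iv D50229) (iv D48013) (iv F214957) D50210
def n52252 : Q := act 9 n50210
theorem D52252 : act 9 n50210 = n52252 := rfl
theorem F234241 : act 1 n52252 = n50214 := d16_1 D52252 (iv D50214) (iv F224966)
theorem F234242 : act 2 n52252 = n50660 := d23_1 D52252 (iv D50660) (iv F224967)
theorem F234243 : act 4 n52252 = n50211 := d34_1 D52252 (iv D50211) D50210
def n52253 : Q := act 8 n50211
theorem D52253 : act 8 n50211 = n52253 := rfl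
theorem F234244 : act 1 n52253 = n50215 := d15_1 D52253 (iv D50215) (iv F224968)
theorem F234245 : act 2 n52253 = n50661 := d22_1 D52253 (iv D50661) (iv F224969)
theorem F234246 : act 5 n52253 = n50231 := d37_1 D52253 (iv D50231) (iv F224971)
def n52254 : Q := act 5 n50212
theorem D52254 : act 5 n50212 = n52254 := rfl
theorem F234247 : act 3 n52254 = n50213 := d25_1 D52254 (iv D50213) D50212
theorem F234248 : act 4 n52254 = n52254 := d30_1 D52254 (iv D52254) F224972 F215121 (iv F224972)
def n52255 : Q := act 8 n50212
theorem D52255 : act 8 n50212 = n52255 := rfl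
theorem F234249 : act 4 n52255 = n50264 := d33_1 D52255 (iv D50264) (iv F224972)
def n52256 : Q := act 9 n50212
theorem D52256 : act 9 n50212 = n52256 := rfl
theorem F234250 : act 3 n52256 = n50214 := d29_1 D52256 (iv D50214) D50212
theorem F234251 : act 4 n52256 = n50265 := d34_1 D52256 (iv D50265) (iv F224972)
def n52257 : Q := act 6 n50213
theorem D52257 : act 6 n50213 = n52257 := rfl
theorem F234252 : act 2 n52257 = n50216 := d20_1 D52257 (iv D50216) (iv F224973)
theorem F234253 : act 4 n52257 = n50232 := d31_1 D52257 (iv D50232) (iv F224974)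
def n52258 : Q := act 9 n50213
theorem D52258 : act 9 n50213 = n52258 := rfl
theorem F234254 : act 2 n52258 = n50217 := d23_1 D52258 (iv D50217) (iv F224973)
theorem F234255 : act 4 n52258 = n50233 := d34_1 D52258 (iv D50233) (iv F224974)
theorem F234256 : act 5 n52258 = n50214 := d38_1 D52258 (iv D50214) D50213
def n52259 : Q := act 8 n50214
theorem D52259 : act 8 n50214 = n52259 := rfl
theorem F234257 : act 2 n52259 = n50218 := d22_1 D52259 (iv D50218) (iv F224975)
theorem F234258 : act 4 n52259 = n50215 := d33_1 D52259 (iv D50215) (iv F224976)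
def n52260 : Q := act 3 n50215
theorem D52260 : act 3 n50215 = n52260 := rfl
theorem F234259 : act 5 n52260 = n50235 := d25_2 (iv F224978) D52260 (iv D50235)
theorem F234260 : act 8 n52260 = n50267 := d28_2 D50215 D52260 (iv D50267) (iv D48049) (iv F214960)
def n52261 : Q := act 7 n50216
theorem D52261 : act 7 n50216 = n52261 := rfl
theorem F234261 : act 1 n52261 = n50669 := d14_1 D52261 (iv D50669) (iv F224979)
theorem F234262 : act 4 n52261 = n50236 := d32_1 D52261 (iv D50236) (iv F224980)
def n52262 : Q := act 9 n50216
theorem D52262 : act 9 n50216 = n52262 := rfl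
theorem F234263 : act 1 n52262 = n50670 := d16_1 D52262 (iv D50670) (iv F224979)
theorem F234264 : act 4 n52262 = n50237 := d34_1 D52262 (iv D50237) (iv F224980)
theorem F234265 : act 6 n52262 = n50217 := d41_1 D52262 (iv D50217) D50216
def n52263 : Q := act 8 n50217
theorem D52263 : act 8 n50217 = n52263 := rfl
theorem F234266 : act 1 n52263 = n50671 := d15_1 D52263 (iv D50671) (iv F224981)
theorem F234267 : act 4 n52263 = n50238 := d33_1 D52263 (iv D50238) (iv F224982)
theorem F234268 : act 5 n52263 = n50218 := d37_1 D52263 (iv D50218) (iv F224983)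
def n52264 : Q := act 3 n50218
theorem D52264 : act 3 n50218 = n52264 := rfl
theorem F234269 : act 1 n52264 = n50672 := d10_1 D52264 (iv D50672) (iv F224984)
def n52265 : Q := act 4 n50219
theorem D52265 : act 4 n50219 = n52265 := rfl
theorem F234270 : act 0 n52265 = n50220 := d3_1 D52265 (iv D50220) D50219
theorem F234271 : act 1 n52265 = n50636 := d11_1 D52265 (iv F232626) F232623
theorem F234272 : act 2 n52265 = n50673 := d18_1 D52265 (iv D50673) (iv F224986)
theorem F234273 : act 3 n52265 = n52265 := d24_1 D52265 (iv D52265) F224987 F215133 (iv F224987)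
theorem F234274 : act 6 n52265 = n52265 := d31_2 F224988 D52265 (iv D52265)
theorem F234275 : act 7 n52265 = n50227 := d32_2 (iv F224989) D52265 (iv D50227)
theorem F234276 : act 8 n52265 = n50699 := d33_2 F232856 D52265 (iv F232854)
def n52266 : Q := act 9 n50219
theorem D52266 : act 9 n50219 = n52266 := rfl
theorem F234277 : act 0 n52266 = n50221 := d8_1 D52266 (iv D50221) D50219
theorem F234278 : act 2 n52266 = n50674 := d23_1 D52266 (iv D50674) (iv F224986)
theorem F234279 : act 3 n52266 = n50268 := d29_1 D52266 (iv D50268) (iv F224987)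
theorem F234280 : act 6 n52266 = n52266 := d41_1 D52266 (iv D52266) F224988
theorem F234281 : act 7 n52266 = n50228 := d43_1 D52266 (iv D50228) (iv F224989)
def n52267 : Q := act 5 n50220
theorem D52267 : act 5 n50220 = n52267 := rfl
theorem F234282 : act 1 n52267 = n50222 := d12_1 D52267 (iv D50222) (iv F224990)
theorem F234283 : act 2 n52267 = n50675 := d19_1 D52267 (iv D50675) (iv F224991)
theorem F234284 : act 3 n52267 = n52267 := d25_1 D52267 (iv D52267) F224992
theorem F234285 : act 7 n52267 = n50229 := d36_2 (iv F224994) D52267 (iv D50229)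
theorem F234286 : act 8 n52267 = n50595 := d37_2 (iv F224995) D52267 F226214
def n52268 : Q := act 9 n50220
theorem D52268 : act 9 n50220 = n52268 := rfl
theorem F234287 : act 1 n52268 = n50223 := d16_1 D52268 (iv D50223) (iv F224990)
theorem F234288 : act 2 n52268 = n50676 := d23_1 D52268 (iv D50676) (iv F224991)
theorem F234289 : act 3 n52268 = n52268 := d29_1 D52268 (iv D52268) F224992
theorem F234290 : act 4 n52268 = n50221 := d34_1 D52268 (iv D50221) D50220
theorem F234291 : act 6 n52268 = n52268 := d41_1 D52268 (iv D52268) F224993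
theorem F234292 : act 7 n52268 = n50230 := d43_1 D52268 (iv D50230) (iv F224994)
def n52269 : Q := act 8 n50221
theorem D52269 : act 8 n50221 = n52269 := rfl
theorem F234293 : act 1 n52269 = n50224 := d15_1 D52269 (iv D50224) (iv F224996)
theorem F234294 : act 2 n52269 = n50677 := d22_1 D52269 (iv D50677) (iv F224997)
theorem F234295 : act 6 n52269 = n52269 := d40_1 D52269 (iv D52269) F224999
theorem F234296 : act 7 n52269 = n50231 := d42_1 D52269 (iv D50231) (iv F225000)
def n52270 : Q := act 9 n50222
theorem D52270 : act 9 n50222 = n52270 := rfl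
theorem F234297 : act 2 n52270 = n50225 := d23_1 D52270 (iv D50225) (iv F225001)
theorem F234298 : act 3 n52270 = n52270 := d29_1 D52270 (iv D52270) F225002
theorem F234299 : act 5 n52270 = n50223 := d38_1 D52270 (iv D50223) D50222
theorem F234300 : act 7 n52270 = n50233 := d43_1 D52270 (iv D50233) (iv F225003)
def n52271 : Q := act 8 n50223
theorem D52271 : act 8 n50223 = n52271 := rfl
theorem F234301 : act 2 n52271 = n50226 := d22_1 D52271 (iv D50226) (iv F225005)
theorem F234302 : act 4 n52271 = n50224 := d33_1 D52271 (iv D50224) (iv F225007)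
theorem F234303 : act 6 n52271 = n52271 := d40_1 D52271 (iv D52271) F225008
theorem F234304 : act 7 n52271 = n50234 := d42_1 D52271 (iv D50234) (iv F225009)
theorem F234305 : act 9 n52271 = n50841 := d44_2 D50223 D52271 (iv D50841) (iv D48734) (iv F214976)
def n52272 : Q := act 3 n50224
theorem D52272 : act 3 n50224 = n52272 := rfl
theorem F234306 : act 6 n52272 = n52272 := d26_2 F225011 D52272 (iv D52272)
theorem F234307 : act 7 n52272 = n50235 := d27_2 (iv F225012) D52272 (iv D50235)
theorem F234308 : act 8 n52272 = n50270 := d28_2 D50224 D52272 (iv D50270) (iv D48053) (iv F214978)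
def n52273 : Q := act 8 n50225
theorem D52273 : act 8 n50225 = n52273 := rfl
theorem F234309 : act 1 n52273 = n50683 := d15_1 D52273 (iv D50683) (iv F225013)
theorem F234310 : act 5 n52273 = n50226 := d37_1 D52273 (iv D50226) (iv F225015)
theorem F234311 : act 7 n52273 = n50238 := d42_1 D52273 (iv D50238) (iv F225016)
theorem F234312 : act 9 n52273 = n50599 := d44_2 D50225 D52273 (iv D50599) (iv D48439) (iv F214984)
def n52274 : Q := act 5 n50227
theorem D52274 : act 5 n50227 = n52274 := rfl
theorem F234313 : act 0 n52274 = n50229 := d4_1 D52274 (iv D50229) (iv F225022)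
theorem F234314 : act 1 n52274 = n50628 := d12_1 D52274 F226313 (iv F225023)
theorem F234315 : act 2 n52274 = n50684 := d19_1 D52274 (iv D50684) (iv F225024)
theorem F234316 : act 3 n52274 = n52274 := d25_1 D52274 (iv D52274) F225025
theorem F234317 : act 6 n52274 = n50625 := d35_2 (iv F225026) D52274 (iv D50625) F216513 (iv F215025)
theorem F234318 : act 8 n52274 = n50687 := d37_2 (iv F225027) D52274 F226474
def n52275 : Q := act 9 n50227
theorem D52275 : act 9 n50227 = n52275 := rfl
theorem F234319 : act 0 n52275 = n50230 := d8_1 D52275 (iv D50230) (iv F225022)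
theorem F234320 : act 1 n52275 = n50637 := d16_1 D52275 (iv D50637) (iv F225023)
theorem F234321 : act 2 n52275 = n50685 := d23_1 D52275 (iv D50685) (iv F225024)
theorem F234322 : act 3 n52275 = n52275 := d29_1 D52275 (iv D52275) F225025
theorem F234323 : act 4 n52275 = n50228 := d34_1 D52275 (iv D50228) D50227
theorem F234324 : act 6 n52275 = n50239 := d41_1 D52275 (iv D50239) (iv F225026)
def n52276 : Q := act 8 n50228
theorem D52276 : act 8 n50228 = n52276 := rfl
theorem F234325 : act 0 n52276 = n50231 := d7_1 D52276 (iv D50231) (iv F225028)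
theorem F234326 : act 2 n52276 = n50686 := d22_1 D52276 (iv D50686) (iv F225029)
theorem F234327 : act 6 n52276 = n50240 := d40_1 D52276 (iv D50240) (iv F225031)
def n52277 : Q := act 6 n50229
theorem D52277 : act 6 n50229 = n52277 := rfl
theorem F234328 : act 0 n52277 = n50625 := d5_1 D52277 (iv F234317) F234313
theorem F234329 : act 1 n52277 = n50232 := d13_1 D52277 (iv D50232) (iv F225032)
theorem F234330 : act 2 n52277 = n50687 := d20_1 D52277 (iv D50687) (iv F225033)
theorem F234331 : act 3 n52277 = n52277 := d26_1 D52277 (iv D52277) F225034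
theorem F234332 : act 5 n52277 = n50241 := d35_1 D52277 (iv D50241) (iv D48023) (iv F214999) D50229
theorem F234333 : act 8 n52277 = n50684 := d40_2 F234135 D52277 (iv F234133)
def n52278 : Q := act 9 n50229
theorem D52278 : act 9 n50229 = n52278 := rfl
theorem F234334 : act 1 n52278 = n50233 := d16_1 D52278 (iv D50233) (iv F225032)
theorem F234335 : act 2 n52278 = n50688 := d23_1 D52278 (iv D50688) (iv F225033)
theorem F234336 : act 3 n52278 = n52278 := d29_1 D52278 (iv D52278) F225034
theorem F234337 : act 5 n52278 = n50230 := d38_1 D52278 (iv D50230) D50229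
def n52279 : Q := act 8 n50230
theorem D52279 : act 8 n50230 = n52279 := rfl
theorem F234338 : act 1 n52279 = n50234 := d15_1 D52279 (iv D50234) (iv F225035)
theorem F234339 : act 2 n52279 = n50689 := d22_1 D52279 (iv D50689) (iv F225036)
theorem F234340 : act 4 n52279 = n50231 := d33_1 D52279 (iv D50231) (iv F225038)
theorem F234341 : act 6 n52279 = n50243 := d40_1 D52279 (iv D50243) (iv F225039)
def n52280 : Q := act 3 n50231
theorem D52280 : act 3 n50231 = n52280 := rfl
theorem F234342 : act 1 n52280 = n50235 := d10_1 D52280 (iv D50235) (iv F225040)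
theorem F234343 : act 6 n52280 = n50244 := d26_2 (iv F225042) D52280 (iv D50244)
theorem F234344 : act 8 n52280 = n50272 := d28_2 D50231 D52280 (iv D50272) (iv D48055) (iv F215002)
def n52281 : Q := act 7 n50232
theorem D52281 : act 7 n50232 = n52281 := rfl
theorem F234345 : act 2 n52281 = n50236 := d21_1 D52281 (iv D50236) (iv F225043)
theorem F234346 : act 3 n52281 = n52281 := d27_1 D52281 (iv D52281) F225044
theorem F234347 : act 5 n52281 = n50245 := d36_1 D52281 (iv D50245) (iv F225045)
def n52282 : Q := act 9 n50232
theorem D52282 : act 9 n50232 = n52282 := rfl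
theorem F234348 : act 2 n52282 = n50237 := d23_1 D52282 (iv D50237) (iv F225043)
theorem F234349 : act 3 n52282 = n52282 := d29_1 D52282 (iv D52282) F225044
theorem F234350 : act 5 n52282 = n50246 := d38_1 D52282 (iv D50246) (iv F225045)
theorem F234351 : act 6 n52282 = n50233 := d41_1 D52282 (iv D50233) D50232
def n52283 : Q := act 8 n50233
theorem D52283 : act 8 n50233 = n52283 := rfl
theorem F234352 : act 2 n52283 = n50238 := d22_1 D52283 (iv D50238) (iv F225046)
theorem F234353 : act 5 n52283 = n50234 := d37_1 D52283 (iv D50234) (iv F225048)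
def n52284 : Q := act 3 n50234
theorem D52284 : act 3 n50234 = n52284 := rfl
theorem F234354 : act 6 n52284 = n50248 := d26_2 (iv F225051) D52284 (iv D50248)
theorem F234355 : act 8 n52284 = n52284 := d28_2 D50234 D52284 (iv D52284) (iv D50234) F215007
def n52285 : Q := act 4 n50235
theorem D52285 : act 4 n50235 = n52285 := rfl
theorem F234356 : act 6 n52285 = n50249 := d31_2 (iv F225052) D52285 (iv D50249)
theorem F234357 : act 8 n52285 = n50273 := d33_2 (iv F225053) D52285 (iv D50273)
def n52286 : Q := act 9 n50236
theorem D52286 : act 9 n50236 = n52286 := rfl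
theorem F234358 : act 1 n52286 = n50696 := d16_1 D52286 (iv D50696) (iv F225054)
theorem F234359 : act 3 n52286 = n50252 := d29_1 D52286 (iv D50252) (iv F225055)
theorem F234360 : act 5 n52286 = n50250 := d38_1 D52286 (iv D50250) (iv F225056)
theorem F234361 : act 7 n52286 = n50237 := d43_1 D52286 (iv D50237) D50236
def n52287 : Q := act 8 n50237
theorem D52287 : act 8 n50237 = n52287 := rfl
theorem F234362 : act 1 n52287 = n50697 := d15_1 D52287 (iv D50697) (iv F225057)
theorem F234363 : act 5 n52287 = n50251 := d37_1 D52287 (iv D50251) (iv F225059)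
theorem F234364 : act 6 n52287 = n50238 := d40_1 D52287 (iv D50238) (iv F225060)
def n52288 : Q := act 8 n50239
theorem D52288 : act 8 n50239 = n52288 := rfl
theorem F234365 : act 0 n52288 = n50243 := d7_1 D52288 (iv D50243) (iv F225063)
theorem F234366 : act 1 n52288 = n50638 := d15_1 D52288 (iv D50638) (iv F225064)
theorem F234367 : act 2 n52288 = n50698 := d22_1 D52288 (iv D50698) (iv F225065)
theorem F234368 : act 4 n52288 = n50240 := d33_1 D52288 (iv D50240) (iv F225067)
theorem F234369 : act 5 n52288 = n50635 := d37_1 D52288 (iv D50635) (iv F225068)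
theorem F234370 : act 7 n52288 = n52288 := d42_1 D52288 (iv D52288) F225069
theorem F234371 : act 9 n52288 = n50701 := d44_2 D50239 D52288 (iv D50701) (iv D48517) (iv F215027)
def n52289 : Q := act 7 n50241
theorem D52289 : act 7 n50241 = n52289 := rfl
theorem F234372 : act 0 n52289 = n50619 := d6_1 D52289 F226278 (iv F225073)
theorem F234373 : act 1 n52289 = n50245 := d14_1 D52289 (iv D50245) (iv F225074)
theorem F234374 : act 2 n52289 = n50699 := d21_1 D52289 (iv D50699) (iv F225075)
theorem F234375 : act 3 n52289 = n52289 := d27_1 D52289 (iv D52289) F225076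
theorem F234376 : act 4 n52289 = n50618 := d32_1 D52289 F226272 (iv F225077)
theorem F234377 : act 6 n52289 = n52289 := d39_1 D52289 (iv D52289) (iv D50241) F215037 D50241
theorem F234378 : act 8 n52289 = n50673 := d42_2 (iv F225078) D52289 F226427
def n52290 : Q := act 9 n50241
theorem D52290 : act 9 n50241 = n52290 := rfl
theorem F234379 : act 0 n52290 = n50626 := d8_1 D52290 (iv D50626) (iv F225073)
theorem F234380 : act 1 n52290 = n50246 := d16_1 D52290 (iv D50246) (iv F225074)
theorem F234381 : act 2 n52290 = n50700 := d23_1 D52290 (iv D50700) (iv F225075)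
theorem F234382 : act 3 n52290 = n52290 := d29_1 D52290 (iv D52290) F225076
theorem F234383 : act 4 n52290 = n50624 := d34_1 D52290 (iv D50624) (iv F225077)
theorem F234384 : act 6 n52290 = n50242 := d41_1 D52290 (iv D50242) D50241
def n52291 : Q := act 8 n50242
theorem D52291 : act 8 n50242 = n52291 := rfl
theorem F234385 : act 0 n52291 = n50635 := d7_1 D52291 (iv D50635) (iv F225079)
theorem F234386 : act 1 n52291 = n50247 := d15_1 D52291 (iv D50247) (iv F225080)
theorem F234387 : act 2 n52291 = n50701 := d22_1 D52291 (iv D50701) (iv F225081)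
theorem F234388 : act 4 n52291 = n50634 := d33_1 D52291 (iv D50634) (iv F225083)
theorem F234389 : act 5 n52291 = n50243 := d37_1 D52291 (iv D50243) (iv F225084)
theorem F234390 : act 7 n52291 = n52291 := d42_1 D52291 (iv D52291) F225085
theorem F234391 : act 9 n52291 = n50698 := d44_2 D50242 D52291 (iv D50698) (iv D48514) (iv F215038)
def n52292 : Q := act 3 n50243
theorem D52292 : act 3 n50243 = n52292 := rfl
theorem F234392 : act 1 n52292 = n50248 := d10_1 D52292 (iv D50248) (iv F225086)
theorem F234393 : act 7 n52292 = n52292 := d27_2 F225089 D52292 (iv D52292)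
theorem F234394 : act 8 n52292 = n52292 := d28_2 D50243 D52292 (iv D52292) (iv D50243) F215041
def n52293 : Q := act 9 n50245
theorem D52293 : act 9 n50245 = n52293 := rfl
theorem F234395 : act 2 n52293 = n50250 := d23_1 D52293 (iv D50250) (iv F225093)
theorem F234396 : act 3 n52293 = n52293 := d29_1 D52293 (iv D52293) F225094
theorem F234397 : act 6 n52293 = n52293 := d41_1 D52293 (iv D52293) F225095
theorem F234398 : act 7 n52293 = n50246 := d43_1 D52293 (iv D50246) D50245
def n52294 : Q := act 8 n50246
theorem D52294 : act 8 n50246 = n52294 := rfl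
theorem F234399 : act 2 n52294 = n50251 := d22_1 D52294 (iv D50251) (iv F225096)
theorem F234400 : act 6 n52294 = n50247 := d40_1 D52294 (iv D50247) (iv F225098)
def n52295 : Q := act 3 n50247
theorem D52295 : act 3 n50247 = n52295 := rfl
theorem F234401 : act 5 n52295 = n50248 := d25_2 (iv F225100) D52295 (iv D50248)
theorem F234402 : act 7 n52295 = n52295 := d27_2 F225101 D52295 (iv D52295)
theorem F234403 : act 8 n52295 = n52295 := d28_2 D50247 D52295 (iv D52295) (iv D50247) F215050
def n52296 : Q := act 8 n50250
theorem D52296 : act 8 n50250 = n52296 := rfl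
theorem F234404 : act 1 n52296 = n50707 := d15_1 D52296 (iv D50707) (iv F225106)
theorem F234405 : act 6 n52296 = n52296 := d40_1 D52296 (iv D52296) F225108
theorem F234406 : act 7 n52296 = n50251 := d42_1 D52296 (iv D50251) (iv F225109)
def n52297 : Q := act 8 n50253
theorem D52297 : act 8 n50253 = n52297 := rfl
theorem F234407 : act 2 n52297 = n50254 := d22_1 D52297 (iv D50254) (iv F225116)
theorem F234408 : act 5 n52297 = n52297 := d37_1 D52297 (iv D52297) F225117
theorem F234409 : act 6 n52297 = n50258 := d40_1 D52297 (iv D50258) (iv F225118)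
theorem F234410 : act 9 n52297 = n52297 := d44_2 D50253 D52297 (iv D52297) (iv D50253) F215087
def n52298 : Q := act 8 n50255
theorem D52298 : act 8 n50255 = n52298 := rfl
theorem F234411 : act 1 n52298 = n50258 := d15_1 D52298 (iv D50258) (iv F225124)
theorem F234412 : act 2 n52298 = n50274 := d22_1 D52298 (iv D50274) (iv F225125)
theorem F234413 : act 5 n52298 = n50269 := d37_1 D52298 (iv D50269) (iv F225126)
theorem F234414 : act 7 n52298 = n50263 := d42_1 D52298 (iv D50263) (iv F225127)
theorem F234415 : act 9 n52298 = n52298 := d44_2 D50255 D52298 (iv D52298) (iv D50255) F215095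
def n52299 : Q := act 8 n50256
theorem D52299 : act 8 n50256 = n52299 := rfl
theorem F234416 : act 3 n52299 = n52299 := d28_1 D52299 (iv D52299) (iv D50256) F215099 D50256
theorem F234417 : act 5 n52299 = n52299 := d37_1 D52299 (iv D52299) F225128
theorem F234418 : act 7 n52299 = n50264 := d42_1 D52299 (iv D50264) (iv F225129)
def n52300 : Q := act 9 n50256
theorem D52300 : act 9 n50256 = n52300 := rfl
theorem F234419 : act 3 n52300 = n50257 := d29_1 D52300 (iv D50257) D50256
theorem F234420 : act 5 n52300 = n52300 := d38_1 D52300 (iv D52300) F225128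
theorem F234421 : act 7 n52300 = n50265 := d43_1 D52300 (iv D50265) (iv F225129)
def n52301 : Q := act 8 n50257
theorem D52301 : act 8 n50257 = n52301 := rfl
theorem F234422 : act 2 n52301 = n50259 := d22_1 D52301 (iv D50259) (iv F225130)
theorem F234423 : act 4 n52301 = n50258 := d33_1 D52301 (iv D50258) (iv F225131)
theorem F234424 : act 5 n52301 = n52301 := d37_1 D52301 (iv D52301) F225132
theorem F234425 : act 7 n52301 = n50266 := d42_1 D52301 (iv D50266) (iv F225133)
theorem F234426 : act 9 n52301 = n52301 := d44_2 D50257 D52301 (iv D52301) (iv D50257) F215099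
def n52302 : Q := act 3 n50258
theorem D52302 : act 3 n50258 = n52302 := rfl
theorem F234427 : act 5 n52302 = n50270 := d25_2 (iv F225135) D52302 (iv D50270)
theorem F234428 : act 7 n52302 = n50267 := d27_2 (iv F225136) D52302 (iv D50267)
theorem F234429 : act 9 n52302 = n52302 := d29_2 F225137 D52302 (iv D52302)
def n52303 : Q := act 8 n50260
theorem D52303 : act 8 n50260 = n52303 := rfl
theorem F234430 : act 0 n52303 = n50263 := d7_1 D52303 (iv D50263) (iv F225143)
theorem F234431 : act 2 n52303 = n50276 := d22_1 D52303 (iv D50276) (iv F225144)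
theorem F234432 : act 5 n52303 = n50271 := d37_1 D52303 (iv D50271) (iv F225145)
theorem F234433 : act 9 n52303 = n52303 := d44_2 D50260 D52303 (iv D52303) (iv D50260) F215113
def n52304 : Q := act 8 n50261
theorem D52304 : act 8 n50261 = n52304 := rfl
theorem F234434 : act 1 n52304 = n50264 := d15_1 D52304 (iv D50264) (iv F225146)
theorem F234435 : act 3 n52304 = n52304 := d28_1 D52304 (iv D52304) (iv D50261) F215117 D50261
theorem F234436 : act 5 n52304 = n52304 := d37_1 D52304 (iv D52304) F225147
def n52305 : Q := act 9 n50261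
theorem D52305 : act 9 n50261 = n52305 := rfl
theorem F234437 : act 1 n52305 = n50265 := d16_1 D52305 (iv D50265) (iv F225146)
theorem F234438 : act 3 n52305 = n50262 := d29_1 D52305 (iv D50262) D50261
theorem F234439 : act 5 n52305 = n52305 := d38_1 D52305 (iv D52305) F225147
def n52306 : Q := act 8 n50262
theorem D52306 : act 8 n50262 = n52306 := rfl
theorem F234440 : act 1 n52306 = n50266 := d15_1 D52306 (iv D50266) (iv F225148)
theorem F234441 : act 2 n52306 = n50277 := d22_1 D52306 (iv D50277) (iv F225149)
theorem F234442 : act 4 n52306 = n50263 := d33_1 D52306 (iv D50263) (iv F225150)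
theorem F234443 : act 5 n52306 = n52306 := d37_1 D52306 (iv D52306) F225151
theorem F234444 : act 9 n52306 = n52306 := d44_2 D50262 D52306 (iv D52306) (iv D50262) F215117
def n52307 : Q := act 3 n50263
theorem D52307 : act 3 n50263 = n52307 := rfl
theorem F234445 : act 1 n52307 = n50267 := d10_1 D52307 (iv D50267) (iv F225152)
theorem F234446 : act 5 n52307 = n50272 := d25_2 (iv F225154) D52307 (iv D50272)
theorem F234447 : act 9 n52307 = n52307 := d29_2 F225155 D52307 (iv D52307)
def n52308 : Q := act 9 n50264
theorem D52308 : act 9 n50264 = n52308 := rfl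
theorem F234448 : act 3 n52308 = n52308 := d29_1 D52308 (iv D52308) F225156
theorem F234449 : act 5 n52308 = n52308 := d38_1 D52308 (iv D52308) F225157
def n52309 : Q := act 8 n50265
theorem D52309 : act 8 n50265 = n52309 := rfl
theorem F234450 : act 5 n52309 = n52309 := d37_1 D52309 (iv D52309) F225159
def n52310 : Q := act 3 n50266
theorem D52310 : act 3 n50266 = n52310 := rfl
theorem F234451 : act 5 n52310 = n52310 := d25_2 F225162 D52310 (iv D52310)
theorem F234452 : act 9 n52310 = n52310 := d29_2 F225163 D52310 (iv D52310)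
def n52311 : Q := act 4 n50267
theorem D52311 : act 4 n50267 = n52311 := rfl
theorem F234453 : act 9 n52311 = n52311 := d34_2 F225165 D52311 (iv D52311)
def n52312 : Q := act 8 n50268
theorem D52312 : act 8 n50268 = n52312 := rfl
theorem F234454 : act 0 n52312 = n50269 := d7_1 D52312 (iv D50269) (iv F225166)
theorem F234455 : act 2 n52312 = n50279 := d22_1 D52312 (iv D50279) (iv F225167)
theorem F234456 : act 4 n52312 = n52312 := d33_1 D52312 (iv D52312) F225168
theorem F234457 : act 6 n52312 = n52312 := d40_1 D52312 (iv D52312) F225169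
theorem F234458 : act 7 n52312 = n50271 := d42_1 D52312 (iv D50271) (iv F225170)
theorem F234459 : act 9 n52312 = n52312 := d44_2 D50268 D52312 (iv D52312) (iv D50268) F215136
def n52313 : Q := act 3 n50269
theorem D52313 : act 3 n50269 = n52313 := rfl
theorem F234460 : act 1 n52313 = n50270 := d10_1 D52313 (iv D50270) (iv F225171)
theorem F234461 : act 2 n52313 = n50768 := d17_1 D52313 (iv D50768) F217078 (iv F215231) (iv F225172)
theorem F234462 : act 6 n52313 = n52313 := d26_2 F225174 D52313 (iv D52313)
theorem F234463 : act 7 n52313 = n50272 := d27_2 (iv F225175) D52313 (iv D50272)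
theorem F234464 : act 9 n52313 = n52313 := d29_2 F225176 D52313 (iv D52313)
def n52314 : Q := act 4 n50270
theorem D52314 : act 4 n50270 = n52314 := rfl
theorem F234465 : act 3 n52314 = n52314 := d24_1 D52314 (iv D52314) (iv D50270) F215143 D50270
theorem F234466 : act 6 n52314 = n52314 := d31_2 F225177 D52314 (iv D52314)
theorem F234467 : act 7 n52314 = n50273 := d32_2 (iv F225178) D52314 (iv D50273)
theorem F234468 : act 9 n52314 = n52314 := d34_2 F225179 D52314 (iv D52314)
def n52315 : Q := act 5 n50273
theorem D52315 : act 5 n50273 = n52315 := rfl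
theorem F234469 : act 3 n52315 = n52315 := d25_1 D52315 (iv D52315) F225188
theorem F234470 : act 9 n52315 = n52315 := d38_2 F225190 D52315 (iv D52315)
def n52316 : Q := act 8 n50280
theorem D52316 : act 8 n50280 = n52316 := rfl
theorem F234471 : act 0 n52316 = n50287 := d7_1 D52316 (iv D50287) (iv F225224)
theorem F234472 : act 1 n52316 = n50296 := d15_1 D52316 (iv D50296) (iv F225225)
theorem F234473 : act 3 n52316 = n50294 := d28_1 D52316 (iv D50294) F215321 (iv F215259) (iv F225226)
theorem F234474 : act 4 n52316 = n50288 := d33_1 D52316 (iv D50288) (iv F225227)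
theorem F234475 : act 6 n52316 = n50291 := d40_1 D52316 (iv D50291) (iv F225228)
theorem F234476 : act 7 n52316 = n50326 := d42_1 D52316 (iv D50326) (iv F225229)
theorem F234477 : act 9 n52316 = n50283 := d44_2 D50280 D52316 (iv D50283) (iv D48080) (iv F215252)
def n52317 : Q := act 8 n50281
theorem D52317 : act 8 n50281 = n52317 := rfl
theorem F234478 : act 0 n52317 = n50288 := d7_1 D52317 (iv D50288) (iv F225230)
theorem F234479 : act 1 n52317 = n50294 := d15_1 D52317 (iv D50294) (iv F225231)
theorem F234480 : act 3 n52317 = n50296 := d28_1 D52317 (iv D50296) F215337 (iv F215272) (iv F225232)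
theorem F234481 : act 4 n52317 = n50287 := d33_1 D52317 (iv D50287) (iv F225233)
theorem F234482 : act 6 n52317 = n50283 := d40_1 D52317 (iv D50283) (iv F225234)
theorem F234483 : act 7 n52317 = n50351 := d42_1 D52317 (iv D50351) (iv F225235)
theorem F234484 : act 9 n52317 = n50291 := d44_2 D50281 D52317 (iv D50291) (iv D48089) (iv F215265)
def n52318 : Q := act 8 n50282
theorem D52318 : act 8 n50282 = n52318 := rfl
theorem F234485 : act 0 n52318 = n50290 := d7_1 D52318 (iv D50290) (iv F225236)
theorem F234486 : act 2 n52318 = n50283 := d22_1 D52318 (iv D50283) (iv F225237)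
theorem F234487 : act 7 n52318 = n50335 := d42_1 D52318 (iv D50335) (iv F225239)
def n52319 : Q := act 8 n50284
theorem D52319 : act 8 n50284 = n52319 := rfl
theorem F234488 : act 0 n52319 = n50750 := d7_1 D52319 F230045 F230038
theorem F234489 : act 1 n52319 = n50285 := d15_1 D52319 (iv D50285) (iv F225243)
theorem F234490 : act 2 n52319 = n52319 := d22_1 D52319 (iv D52319) F225244
theorem F234491 : act 4 n52319 = n52319 := d33_1 D52319 (iv D52319) F225245
theorem F234492 : act 5 n52319 = n50745 := d37_1 D52319 F227390 F227387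
theorem F234493 : act 7 n52319 = n50342 := d42_1 D52319 (iv D50342) (iv F225246)
theorem F234494 : act 9 n52319 = n52319 := d44_2 D50284 D52319 (iv D52319) (iv D50284) F215282
def n52320 : Q := act 3 n50285
theorem D52320 : act 3 n50285 = n52320 := rfl
theorem F234495 : act 0 n52320 = n50292 := d2_1 D52320 (iv D50292) (iv F225247)
theorem F234496 : act 2 n52320 = n50299 := d17_1 D52320 (iv D50299) F215360 (iv F215289) (iv F225248)
theorem F234497 : act 7 n52320 = n50343 := d27_2 (iv F225250) D52320 (iv D50343)
theorem F234498 : act 9 n52320 = n52320 := d29_2 F225251 D52320 (iv D52320)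
def n52321 : Q := act 8 n50286
theorem D52321 : act 8 n50286 = n52321 := rfl
theorem F234499 : act 2 n52321 = n50287 := d22_1 D52321 (iv D50287) (iv F225252)
theorem F234500 : act 7 n52321 = n50350 := d42_1 D52321 (iv D50350) (iv F225254)
theorem F234501 : act 9 n52321 = n50290 := d44_2 D50286 D52321 (iv D50290) (iv D48088) (iv F215295)
def n52322 : Q := act 8 n50289
theorem D52322 : act 8 n50289 = n52322 := rfl
theorem F234502 : act 2 n52322 = n50291 := d22_1 D52322 (iv D50291) (iv F225260)
theorem F234503 : act 4 n52322 = n50290 := d33_1 D52322 (iv D50290) (iv F225262)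
theorem F234504 : act 7 n52322 = n50368 := d42_1 D52322 (iv D50368) (iv F225263)
def n52323 : Q := act 3 n50290
theorem D52323 : act 3 n50290 = n52323 := rfl
theorem F234505 : act 2 n52323 = n50312 := d17_1 D52323 (iv D50312) F215403 (iv F215310) (iv F225264)
theorem F234506 : act 7 n52323 = n50369 := d27_2 (iv F225265) D52323 (iv D50369)
theorem F234507 : act 8 n52323 = n50292 := d28_2 D50290 D52323 (iv D50292) (iv D48091) (iv F215304)
def n52324 : Q := act 4 n50292
theorem D52324 : act 4 n50292 = n52324 := rfl
theorem F234508 : act 2 n52324 = n50321 := d18_1 D52324 (iv D50321) (iv F225269)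
theorem F234509 : act 3 n52324 = n52324 := d24_1 D52324 (iv D52324) (iv D50292) F215313 D50292
theorem F234510 : act 7 n52324 = n50377 := d32_2 (iv F225270) D52324 (iv D50377)
theorem F234511 : act 9 n52324 = n52324 := d34_2 F225271 D52324 (iv D52324)
def n52325 : Q := act 8 n50293
theorem D52325 : act 8 n50293 = n52325 := rfl
theorem F234512 : act 0 n52325 = n50301 := d7_1 D52325 (iv D50301) (iv F225272)
theorem F234513 : act 2 n52325 = n50294 := d22_1 D52325 (iv D50294) (iv F225273)
theorem F234514 : act 7 n52325 = n50384 := d42_1 D52325 (iv D50384) (iv F225275)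
theorem F234515 : act 9 n52325 = n50297 := d44_2 D50293 D52325 (iv D50297) (iv D48098) (iv F215319)
def n52326 : Q := act 8 n50295
theorem D52326 : act 8 n50295 = n52326 := rfl
theorem F234516 : act 0 n52326 = n50304 := d7_1 D52326 (iv D50304) (iv F225279)
theorem F234517 : act 5 n52326 = n50296 := d37_1 D52326 (iv D50296) (iv F225281)
def n52327 : Q := act 3 n50297
theorem D52327 : act 3 n50297 = n52327 := rfl
theorem F234518 : act 0 n52327 = n50312 := d2_1 D52327 (iv D50312) (iv F225284)
theorem F234519 : act 7 n52327 = n50397 := d27_2 (iv F225286) D52327 (iv D50397)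
theorem F234520 : act 8 n52327 = n50299 := d28_2 D50297 D52327 (iv D50299) (iv D48103) (iv F215341)
def n52328 : Q := act 4 n50299
theorem D52328 : act 4 n50299 = n52328 := rfl
theorem F234521 : act 0 n52328 = n50321 := d3_1 D52328 (iv D50321) (iv F225293)
theorem F234522 : act 3 n52328 = n50745 := d24_1 D52328 (iv D50745) (iv D48580) (iv F215361) D50299
theorem F234523 : act 7 n52328 = n50405 := d32_2 (iv F225294) D52328 (iv D50405)
theorem F234524 : act 9 n52328 = n52328 := d34_2 F225295 D52328 (iv D52328)
def n52329 : Q := act 8 n50300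
theorem D52329 : act 8 n50300 = n52329 := rfl
theorem F234525 : act 1 n52329 = n50301 := d15_1 D52329 (iv D50301) (iv F225296)
theorem F234526 : act 7 n52329 = n50414 := d42_1 D52329 (iv D50414) (iv F225298)
theorem F234527 : act 9 n52329 = n50309 := d44_2 D50300 D52329 (iv D50309) (iv D48116) (iv F215366)
def n52330 : Q := act 3 n50301
theorem D52330 : act 3 n50301 = n52330 := rfl
theorem F234528 : act 7 n52330 = n50416 := d27_2 (iv F225300) D52330 (iv D50416)
theorem F234529 : act 8 n52330 = n52330 := d28_2 D50301 D52330 (iv D52330) (iv D50301) F215368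
theorem F234530 : act 9 n52330 = n50312 := d29_2 (iv F225301) D52330 (iv D50312)
def n52331 : Q := act 8 n50302
theorem D52331 : act 8 n50302 = n52331 := rfl
theorem F234531 : act 2 n52331 = n50304 := d22_1 D52331 (iv D50304) (iv F225302)
theorem F234532 : act 5 n52331 = n50306 := d37_1 D52331 (iv D50306) (iv F225304)
def n52332 : Q := act 8 n50303
theorem D52332 : act 8 n50303 = n52332 := rfl
theorem F234533 : act 4 n52332 = n50304 := d33_1 D52332 (iv D50304) (iv F225306)
def n52333 : Q := act 8 n50305
theorem D52333 : act 8 n50305 = n52333 := rfl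
theorem F234534 : act 1 n52333 = n50306 := d15_1 D52333 (iv D50306) (iv F225308)
theorem F234535 : act 6 n52333 = n50309 := d40_1 D52333 (iv D50309) (iv F225310)
def n52334 : Q := act 3 n50306
theorem D52334 : act 3 n50306 = n52334 := rfl
theorem F234536 : act 6 n52334 = n50312 := d26_2 (iv F225312) D52334 (iv D50312)
theorem F234537 : act 8 n52334 = n50318 := d28_2 D50306 D52334 (iv D50318) (iv D48129) (iv F215385)
def n52335 : Q := act 8 n50307
theorem D52335 : act 8 n50307 = n52335 := rfl
theorem F234538 : act 0 n52335 = n50309 := d7_1 D52335 (iv D50309) (iv F225313)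
theorem F234539 : act 7 n52335 = n50449 := d42_1 D52335 (iv D50449) (iv F225315)
def n52336 : Q := act 8 n50308
theorem D52336 : act 8 n50308 = n52336 := rfl
theorem F234540 : act 1 n52336 = n50311 := d15_1 D52336 (iv D50311) (iv F225316)
theorem F234541 : act 4 n52336 = n50309 := d33_1 D52336 (iv D50309) (iv F225318)
theorem F234542 : act 7 n52336 = n50451 := d42_1 D52336 (iv D50451) (iv F225319)
def n52337 : Q := act 3 n50309
theorem D52337 : act 3 n50309 = n52337 := rfl
theorem F234543 : act 1 n52337 = n50312 := d10_1 D52337 (iv D50312) (iv F225320)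
theorem F234544 : act 7 n52337 = n50452 := d27_2 (iv F225321) D52337 (iv D50452)
theorem F234545 : act 8 n52337 = n50320 := d28_2 D50309 D52337 (iv D50320) (iv D48131) (iv F215394)
def n52338 : Q := act 8 n50310
theorem D52338 : act 8 n50310 = n52338 := rfl
theorem F234546 : act 2 n52338 = n50314 := d22_1 D52338 (iv D50314) (iv F225322)
theorem F234547 : act 5 n52338 = n50311 := d37_1 D52338 (iv D50311) (iv F225324)
theorem F234548 : act 7 n52338 = n50454 := d42_1 D52338 (iv D50454) (iv F225325)
def n52339 : Q := act 3 n50311
theorem D52339 : act 3 n50311 = n52339 := rfl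
theorem F234549 : act 6 n52339 = n50314 := d26_2 F227412 D52339 (iv F227409)
theorem F234550 : act 7 n52339 = n50455 := d27_2 (iv F225328) D52339 (iv D50455)
theorem F234551 : act 8 n52339 = n50313 := d28_2 D50311 D52339 F225331 F215420 (iv F215400)
def n52340 : Q := act 4 n50312
theorem D52340 : act 4 n50312 = n52340 := rfl
theorem F234552 : act 7 n52340 = n50456 := d32_2 (iv F225329) D52340 (iv D50456)
theorem F234553 : act 8 n52340 = n50321 := d33_2 (iv F225330) D52340 (iv D50321)
def n52341 : Q := act 3 n50315
theorem D52341 : act 3 n50315 = n52341 := rfl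
theorem F234554 : act 2 n52341 = n50320 := d17_1 D52341 (iv D50320) F215445 (iv F215428) (iv F225336)
theorem F234555 : act 5 n52341 = n50318 := d25_2 (iv F225337) D52341 (iv D50318)
theorem F234556 : act 7 n52341 = n50478 := d27_2 (iv F225338) D52341 F225821
theorem F234557 : act 9 n52341 = n52341 := d29_2 F225339 D52341 (iv D52341)
def n52342 : Q := act 3 n50317
theorem D52342 : act 3 n50317 = n52342 := rfl
theorem F234558 : act 1 n52342 = n50318 := d10_1 D52342 (iv D50318) (iv F225346)
theorem F234559 : act 6 n52342 = n50320 := d26_2 (iv F225349) D52342 (iv D50320)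
theorem F234560 : act 9 n52342 = n52342 := d29_2 F225350 D52342 (iv D52342)
def n52343 : Q := act 3 n50319
theorem D52343 : act 3 n50319 = n52343 := rfl
theorem F234561 : act 0 n52343 = n50320 := d2_1 D52343 (iv D50320) (iv F225353)
theorem F234562 : act 7 n52343 = n50477 := d27_2 (iv F225356) D52343 (iv D50477)
theorem F234563 : act 9 n52343 = n52343 := d29_2 F225357 D52343 (iv D52343)
def n52344 : Q := act 4 n50320
theorem D52344 : act 4 n50320 = n52344 := rfl
theorem F234564 : act 1 n52344 = n50321 := d11_1 D52344 (iv D50321) (iv F225358)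
theorem F234565 : act 3 n52344 = n50749 := d24_1 D52344 (iv D50749) (iv D48586) (iv F215446) D50320
theorem F234566 : act 7 n52344 = n50479 := d32_2 (iv F225359) D52344 (iv D50479)
theorem F234567 : act 9 n52344 = n52344 := d34_2 F225360 D52344 (iv D52344)
def n52345 : Q := act 5 n50321
theorem D52345 : act 5 n50321 = n52345 := rfl
theorem F234568 : act 3 n52345 = n50750 := d25_1 D52345 (iv D50750) (iv F225361)
theorem F234569 : act 7 n52345 = n50480 := d36_2 (iv F225362) D52345 (iv D50480)
theorem F234570 : act 9 n52345 = n52345 := d38_2 F225363 D52345 (iv D52345)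
def n52346 : Q := act 4 n50323
theorem D52346 : act 4 n50323 = n52346 := rfl
theorem F234571 : act 0 n52346 = n50345 := d3_1 D52346 (iv D50345) (iv F225369)
theorem F234572 : act 1 n52346 = n50387 := d11_1 D52346 (iv D50387) (iv F225370)
theorem F234573 : act 3 n52346 = n50518 := d24_1 D52346 F225954 F216155 (iv F215477) D50323
theorem F234574 : act 5 n52346 = n50352 := d30_2 (iv F225371) D52346 (iv D50352) F215589 (iv F215482)
theorem F234575 : act 7 n52346 = n50356 := d32_2 (iv F225372) D52346 F225490
theorem F234576 : act 8 n52346 = n50330 := d33_2 (iv F225373) D52346 (iv D50330)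
def n52347 : Q := act 9 n50323
theorem D52347 : act 9 n50323 = n52347 := rfl
theorem F234577 : act 0 n52347 = n50346 := d8_1 D52347 (iv D50346) (iv F225369)
theorem F234578 : act 1 n52347 = n50388 := d16_1 D52347 (iv D50388) (iv F225370)
theorem F234579 : act 3 n52347 = n50324 := d29_1 D52347 (iv D50324) D50323
theorem F234580 : act 5 n52347 = n50325 := d38_1 D52347 (iv D50325) (iv F225371)
theorem F234581 : act 7 n52347 = n50363 := d43_1 D52347 (iv D50363) (iv F225372)
def n52348 : Q := act 8 n50325
theorem D52348 : act 8 n50325 = n52348 := rfl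
theorem F234582 : act 0 n52348 = n50348 := d7_1 D52348 (iv D50348) (iv F225381)
theorem F234583 : act 1 n52348 = n50393 := d15_1 D52348 (iv D50393) (iv F225382)
theorem F234584 : act 3 n52348 = n50382 := d28_1 D52348 (iv D50382) F215684 (iv F215492) (iv F225383)
theorem F234585 : act 4 n52348 = n50359 := d33_1 D52348 (iv D50359) (iv F225384)
theorem F234586 : act 6 n52348 = n50326 := d40_1 D52348 (iv D50326) (iv F225385)
theorem F234587 : act 7 n52348 = n50364 := d42_1 D52348 (iv D50364) (iv F225386)
theorem F234588 : act 9 n52348 = n50334 := d44_2 D50325 D52348 (iv D50334) (iv D48148) (iv F215485)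
def n52349 : Q := act 4 n50327
theorem D52349 : act 4 n50327 = n52349 := rfl
theorem F234589 : act 0 n52349 = n50352 := d3_1 D52349 (iv D50352) (iv F225390)
theorem F234590 : act 1 n52349 = n50379 := d11_1 D52349 (iv D50379) (iv F225391)
theorem F234591 : act 3 n52349 = n50494 := d24_1 D52349 (iv D50494) (iv D48323) (iv F215498) D50327
theorem F234592 : act 5 n52349 = n50345 := d30_2 (iv F225392) D52349 (iv D50345) F215570 (iv F215510)
theorem F234593 : act 7 n52349 = n50330 := d32_2 (iv F225393) D52349 (iv D50330)
theorem F234594 : act 8 n52349 = n50356 := d33_2 (iv F225394) D52349 F225490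
def n52350 : Q := act 9 n50327
theorem D52350 : act 9 n50327 = n52350 := rfl
theorem F234595 : act 0 n52350 = n50353 := d8_1 D52350 (iv D50353) (iv F225390)
theorem F234596 : act 1 n52350 = n50380 := d16_1 D52350 (iv D50380) (iv F225391)
theorem F234597 : act 3 n52350 = n50328 := d29_1 D52350 (iv D50328) D50327
theorem F234598 : act 5 n52350 = n50332 := d38_1 D52350 (iv D50332) (iv F225392)
theorem F234599 : act 7 n52350 = n50331 := d43_1 D52350 (iv D50331) (iv F225393)
def n52351 : Q := act 4 n50329
theorem D52351 : act 4 n50329 = n52351 := rfl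
theorem F234600 : act 0 n52351 = n50354 := d3_1 D52351 (iv D50354) (iv F225402)
theorem F234601 : act 2 n52351 = n50330 := d18_1 D52351 (iv D50330) D50329
def n52352 : Q := act 9 n50329
theorem D52352 : act 9 n50329 = n52352 := rfl
theorem F234602 : act 0 n52352 = n50355 := d8_1 D52352 (iv D50355) (iv F225402)
theorem F234603 : act 2 n52352 = n50331 := d23_1 D52352 (iv D50331) D50329
theorem F234604 : act 3 n52352 = n50337 := d29_1 D52352 (iv D50337) (iv F225403)
theorem F234605 : act 5 n52352 = n50333 := d38_1 D52352 (iv D50333) (iv F225404)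
def n52353 : Q := act 9 n50330
theorem D52353 : act 9 n50330 = n52353 := rfl
theorem F234606 : act 0 n52353 = n50357 := d8_1 D52353 (iv D50357) (iv F225405)
theorem F234607 : act 3 n52353 = n50496 := d29_1 D52353 (iv D50496) (iv F225406)
theorem F234608 : act 4 n52353 = n50331 := d34_1 D52353 (iv D50331) D50330
def n52354 : Q := act 8 n50331
theorem D52354 : act 8 n50331 = n52354 := rfl
theorem F234609 : act 0 n52354 = n50358 := d7_1 D52354 (iv D50358) (iv F225407)
theorem F234610 : act 3 n52354 = n50392 := d28_1 D52354 (iv D50392) F215711 (iv F215507) (iv F225408)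
theorem F234611 : act 5 n52354 = n50334 := d37_1 D52354 (iv D50334) (iv F225409)
def n52355 : Q := act 8 n50332
theorem D52355 : act 8 n50332 = n52355 := rfl
theorem F234612 : act 0 n52355 = n50359 := d7_1 D52355 (iv D50359) (iv F225410)
theorem F234613 : act 1 n52355 = n50382 := d15_1 D52355 (iv D50382) (iv F225411)
theorem F234614 : act 3 n52355 = n50393 := d28_1 D52355 (iv D50393) F215714 (iv F215520) (iv F225412)
theorem F234615 : act 4 n52355 = n50348 := d33_1 D52355 (iv D50348) (iv F225413)
theorem F234616 : act 6 n52355 = n50351 := d40_1 D52355 (iv D50351) (iv F225414)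
theorem F234617 : act 7 n52355 = n50334 := d42_1 D52355 (iv D50334) (iv F225415)
theorem F234618 : act 9 n52355 = n50364 := d44_2 D50332 D52355 (iv D50364) (iv D48177) (iv F215513)
def n52356 : Q := act 8 n50333
theorem D52356 : act 8 n50333 = n52356 := rfl
theorem F234619 : act 0 n52356 = n50362 := d7_1 D52356 (iv D50362) (iv F225416)
theorem F234620 : act 2 n52356 = n50334 := d22_1 D52356 (iv D50334) (iv F225417)
theorem F234621 : act 6 n52356 = n50335 := d40_1 D52356 (iv D50335) (iv F225419)
def n52357 : Q := act 3 n50335
theorem D52357 : act 3 n50335 = n52357 := rfl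
theorem F234622 : act 0 n52357 = n50369 := d2_1 D52357 (iv D50369) (iv F225423)
theorem F234623 : act 2 n52357 = n50397 := d17_1 D52357 (iv D50397) F215727 (iv F215531) (iv F225424)
theorem F234624 : act 8 n52357 = n50343 := d28_2 D50335 D52357 (iv D50343) (iv D48159) (iv F215529)
def n52358 : Q := act 9 n50336
theorem D52358 : act 9 n50336 = n52358 := rfl
theorem F234625 : act 1 n52358 = n50337 := d16_1 D52358 (iv D50337) D50336
theorem F234626 : act 2 n52358 = n52358 := d23_1 D52358 (iv D52358) F225425
theorem F234627 : act 5 n52358 = n50339 := d38_1 D52358 (iv D50339) (iv F225426)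
def n52359 : Q := act 8 n50337
theorem D52359 : act 8 n50337 = n52359 := rfl
theorem F234628 : act 0 n52359 = n50372 := d7_1 D52359 (iv D50372) (iv F225428)
theorem F234629 : act 2 n52359 = n50338 := d22_1 D52359 (iv D50338) (iv F225429)
theorem F234630 : act 5 n52359 = n50340 := d37_1 D52359 (iv D50340) (iv F225430)
theorem F234631 : act 9 n52359 = n52359 := d44_2 D50337 D52359 (iv D52359) (iv D50337) F215540
def n52360 : Q := act 8 n50339
theorem D52360 : act 8 n50339 = n52360 := rfl
theorem F234632 : act 0 n52360 = n50773 := d7_1 D52360 F231153 F231147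
theorem F234633 : act 1 n52360 = n50340 := d15_1 D52360 (iv D50340) (iv F225436)
theorem F234634 : act 2 n52360 = n52360 := d22_1 D52360 (iv D52360) F225437
theorem F234635 : act 4 n52360 = n52360 := d33_1 D52360 (iv D52360) F225438
theorem F234636 : act 6 n52360 = n50342 := d40_1 D52360 (iv D50342) (iv F225439)
theorem F234637 : act 9 n52360 = n52360 := d44_2 D50339 D52360 (iv D52360) (iv D50339) F215548
def n52361 : Q := act 3 n50340
theorem D52361 : act 3 n50340 = n52361 := rfl
theorem F234638 : act 0 n52361 = n50374 := d2_1 D52361 (iv D50374) (iv F225440)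
theorem F234639 : act 2 n52361 = n50402 := d17_1 D52361 (iv D50402) F215759 (iv F215555) (iv F225441)
theorem F234640 : act 6 n52361 = n50343 := d26_2 (iv F225443) D52361 (iv D50343)
theorem F234641 : act 9 n52361 = n52361 := d29_2 F225444 D52361 (iv D52361)
def n52362 : Q := act 3 n50342
theorem D52362 : act 3 n50342 = n52362 := rfl
theorem F234642 : act 0 n52362 = n50480 := d2_1 D52362 F225826 (iv F225451)
theorem F234643 : act 1 n52362 = n50343 := d10_1 D52362 (iv D50343) (iv F225452)
theorem F234644 : act 5 n52362 = n50405 := d25_2 (iv F225455) D52362 F225633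
theorem F234645 : act 9 n52362 = n52362 := d29_2 F225456 D52362 (iv D52362)
def n52363 : Q := act 4 n50343
theorem D52363 : act 4 n50343 = n52363 := rfl
theorem F234646 : act 0 n52363 = n50377 := d3_1 D52363 (iv D50377) (iv F225457)
theorem F234647 : act 2 n52363 = n50405 := d18_1 D52363 (iv D50405) (iv F225458)
theorem F234648 : act 3 n52363 = n52363 := d24_1 D52363 (iv D52363) (iv D50343) F215568 D50343
theorem F234649 : act 9 n52363 = n52363 := d34_2 F225459 D52363 (iv D52363)
def n52364 : Q := act 4 n50344
theorem D52364 : act 4 n50344 = n52364 := rfl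
theorem F234650 : act 2 n52364 = n50345 := d18_1 D52364 (iv D50345) D50344
theorem F234651 : act 8 n52364 = n50354 := d33_2 (iv F225462) D52364 (iv D50354)
def n52365 : Q := act 9 n50344
theorem D52365 : act 9 n50344 = n52365 := rfl
theorem F234652 : act 2 n52365 = n50346 := d23_1 D52365 (iv D50346) D50344
theorem F234653 : act 3 n52365 = n52365 := d29_1 D52365 (iv D52365) F225460
theorem F234654 : act 5 n52365 = n50347 := d38_1 D52365 (iv D50347) (iv F225461)
def n52366 : Q := act 9 n50345
theorem D52366 : act 9 n50345 = n52366 := rfl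
theorem F234655 : act 4 n52366 = n50346 := d34_1 D52366 (iv D50346) D50345
def n52367 : Q := act 8 n50346
theorem D52367 : act 8 n50346 = n52367 := rfl
theorem F234656 : act 3 n52367 = n50410 := d28_1 D52367 (iv D50410) F215777 (iv F215574) (iv F225464)
theorem F234657 : act 5 n52367 = n50348 := d37_1 D52367 (iv D50348) (iv F225465)
theorem F234658 : act 9 n52367 = n50358 := d44_2 D50346 D52367 (iv D50358) (iv D48172) (iv F215571)
def n52368 : Q := act 8 n50347
theorem D52368 : act 8 n50347 = n52368 := rfl
theorem F234659 : act 2 n52368 = n50348 := d22_1 D52368 (iv D50348) (iv F225466)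
theorem F234660 : act 6 n52368 = n50350 := d40_1 D52368 (iv D50350) (iv F225468)
theorem F234661 : act 9 n52368 = n50362 := d44_2 D50347 D52368 (iv D50362) (iv D48175) (iv F215577)
def n52369 : Q := act 8 n50349
theorem D52369 : act 8 n50349 = n52369 := rfl
theorem F234662 : act 1 n52369 = n50350 := d15_1 D52369 (iv D50350) (iv F225472)
theorem F234663 : act 9 n52369 = n50367 := d44_2 D50349 D52369 (iv D50367) (iv D48181) (iv F215581)
def n52370 : Q := act 3 n50350
theorem D52370 : act 3 n50350 = n52370 := rfl
theorem F234664 : act 2 n52370 = n50416 := d17_1 D52370 (iv D50416) F215795 (iv F215587) (iv F225474)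
theorem F234665 : act 8 n52370 = n52370 := d28_2 D50350 D52370 (iv D52370) (iv D50350) F215583
theorem F234666 : act 9 n52370 = n50369 := d29_2 (iv F225475) D52370 (iv D50369)
def n52371 : Q := act 9 n50352
theorem D52371 : act 9 n50352 = n52371 := rfl
theorem F234667 : act 3 n52371 = n50519 := d29_1 D52371 (iv D50519) (iv F225479)
theorem F234668 : act 4 n52371 = n50353 := d34_1 D52371 (iv D50353) D50352
theorem F234669 : act 7 n52371 = n50357 := d43_1 D52371 (iv D50357) (iv F225480)
def n52372 : Q := act 8 n50353
theorem D52372 : act 8 n50353 = n52372 := rfl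
theorem F234670 : act 3 n52372 = n50424 := d28_1 D52372 (iv D50424) F215810 (iv F215595) (iv F225481)
theorem F234671 : act 5 n52372 = n50359 := d37_1 D52372 (iv D50359) (iv F225482)
theorem F234672 : act 7 n52372 = n50358 := d42_1 D52372 (iv D50358) (iv F225483)
def n52373 : Q := act 3 n50354
theorem D52373 : act 3 n50354 = n52373 := rfl
theorem F234673 : act 2 n52373 = n50523 := d17_1 D52373 (iv D50523) F216134 (iv F215598) (iv F225484)
theorem F234674 : act 4 n52373 = n50370 := d24_2 D50354 D52373 (iv D50370) (iv D48186) (iv F215596)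
def n52374 : Q := act 5 n50354
theorem D52374 : act 5 n50354 = n52374 := rfl
theorem F234675 : act 2 n52374 = n50356 := d19_1 D52374 (iv D50356) (iv F225484)
theorem F234676 : act 4 n52374 = n50360 := d30_1 D52374 (iv D50360) (iv D48174) (iv F215597) D50354
def n52375 : Q := act 9 n50354
theorem D52375 : act 9 n50354 = n52375 := rfl
theorem F234677 : act 2 n52375 = n50357 := d23_1 D52375 (iv D50357) (iv F225484)
theorem F234678 : act 4 n52375 = n50355 := d34_1 D52375 (iv D50355) D50354
def n52376 : Q := act 8 n50355
theorem D52376 : act 8 n50355 = n52376 := rfl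
theorem F234679 : act 2 n52376 = n50358 := d22_1 D52376 (iv D50358) (iv F225485)
theorem F234680 : act 5 n52376 = n50362 := d37_1 D52376 (iv D50362) (iv F225487)
def n52377 : Q := act 9 n50356
theorem D52377 : act 9 n50356 = n52377 := rfl
theorem F234681 : act 1 n52377 = n50391 := d16_1 D52377 (iv D50391) (iv F225488)
theorem F234682 : act 3 n52377 = n50527 := d29_1 D52377 (iv D50527) (iv F225489)
theorem F234683 : act 4 n52377 = n50363 := d34_1 D52377 (iv D50363) (iv F225490)
theorem F234684 : act 5 n52377 = n50357 := d38_1 D52377 (iv D50357) D50356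
def n52378 : Q := act 8 n50357
theorem D52378 : act 8 n50357 = n52378 := rfl
theorem F234685 : act 4 n52378 = n50358 := d33_1 D52378 (iv D50358) (iv F225492)
def n52379 : Q := act 9 n50360
theorem D52379 : act 9 n50360 = n52379 := rfl
theorem F234686 : act 2 n52379 = n50363 := d23_1 D52379 (iv D50363) (iv F225497)
theorem F234687 : act 3 n52379 = n52379 := d29_1 D52379 (iv D52379) F225498
theorem F234688 : act 5 n52379 = n50361 := d38_1 D52379 (iv D50361) D50360
def n52380 : Q := act 8 n50361
theorem D52380 : act 8 n50361 = n52380 := rfl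
theorem F234689 : act 2 n52380 = n50364 := d22_1 D52380 (iv D50364) (iv F225499)
theorem F234690 : act 4 n52380 = n50362 := d33_1 D52380 (iv D50362) (iv F225501)
theorem F234691 : act 6 n52380 = n50368 := d40_1 D52380 (iv D50368) (iv F225502)
def n52381 : Q := act 3 n50362
theorem D52381 : act 3 n50362 = n52381 := rfl
theorem F234692 : act 2 n52381 = n50444 := d17_1 D52381 (iv D50444) F215844 (iv F215615) (iv F225503)
theorem F234693 : act 6 n52381 = n50369 := d26_2 (iv F225504) D52381 (iv D50369)
theorem F234694 : act 8 n52381 = n50374 := d28_2 D50362 D52381 (iv D50374) (iv D48190) (iv F215607)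
def n52382 : Q := act 8 n50363
theorem D52382 : act 8 n50363 = n52382 := rfl
theorem F234695 : act 1 n52382 = n50392 := d15_1 D52382 (iv D50392) (iv F225505)
theorem F234696 : act 5 n52382 = n50364 := d37_1 D52382 (iv D50364) (iv F225507)
def n52383 : Q := act 8 n50365
theorem D52383 : act 8 n50365 = n52383 := rfl
theorem F234697 : act 0 n52383 = n50367 := d7_1 D52383 (iv D50367) (iv F225511)
def n52384 : Q := act 8 n50366
theorem D52384 : act 8 n50366 = n52384 := rfl
theorem F234698 : act 1 n52384 = n50368 := d15_1 D52384 (iv D50368) (iv F225513)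
theorem F234699 : act 2 n52384 = n50396 := d22_1 D52384 (iv D50396) (iv F225514)
theorem F234700 : act 4 n52384 = n50367 := d33_1 D52384 (iv D50367) (iv F225516)
def n52385 : Q := act 3 n50367
theorem D52385 : act 3 n50367 = n52385 := rfl
theorem F234701 : act 1 n52385 = n50369 := d10_1 D52385 (iv D50369) (iv F225517)
theorem F234702 : act 8 n52385 = n50376 := d28_2 D50367 D52385 (iv D50376) (iv D48192) (iv F215622)
def n52386 : Q := act 3 n50368
theorem D52386 : act 3 n50368 = n52386 := rfl
theorem F234703 : act 8 n52386 = n52386 := d28_2 D50368 D52386 (iv D52386) (iv D50368) F215624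
def n52387 : Q := act 4 n50369
theorem D52387 : act 4 n50369 = n52387 := rfl
theorem F234704 : act 2 n52387 = n50456 := d18_1 D52387 (iv D50456) (iv F225520)
theorem F234705 : act 8 n52387 = n50377 := d33_2 (iv F225521) D52387 (iv D50377)
def n52388 : Q := act 8 n50370
theorem D52388 : act 8 n50370 = n52388 := rfl
theorem F234706 : act 2 n52388 = n50534 := d22_1 D52388 F225999 (iv F225522)
theorem F234707 : act 3 n52388 = n52388 := d28_1 D52388 (iv D52388) (iv D50370) F215635 D50370
theorem F234708 : act 5 n52388 = n52388 := d37_1 D52388 (iv D52388) F225523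
theorem F234709 : act 6 n52388 = n50531 := d40_1 D52388 F230733 F230731
def n52389 : Q := act 9 n50370
theorem D52389 : act 9 n50370 = n52389 := rfl
theorem F234710 : act 2 n52389 = n50553 := d23_1 D52389 (iv D50553) (iv F225522)
theorem F234711 : act 3 n52389 = n50371 := d29_1 D52389 (iv D50371) D50370
theorem F234712 : act 5 n52389 = n52389 := d38_1 D52389 (iv D52389) F225523
def n52390 : Q := act 8 n50371
theorem D52390 : act 8 n50371 = n52390 := rfl
theorem F234713 : act 2 n52390 = n50373 := d22_1 D52390 (iv D50373) (iv F225524)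
theorem F234714 : act 4 n52390 = n50372 := d33_1 D52390 (iv D50372) (iv F225525)
theorem F234715 : act 5 n52390 = n52390 := d37_1 D52390 (iv D52390) F225526
theorem F234716 : act 9 n52390 = n52390 := d44_2 D50371 D52390 (iv D52390) (iv D50371) F215635
def n52391 : Q := act 3 n50372
theorem D52391 : act 3 n50372 = n52391 := rfl
theorem F234717 : act 2 n52391 = n50471 := d17_1 D52391 (iv D50471) F215923 (iv F215643) (iv F225527)
theorem F234718 : act 5 n52391 = n50374 := d25_2 (iv F225528) D52391 (iv D50374)
theorem F234719 : act 9 n52391 = n52391 := d29_2 F225529 D52391 (iv D52391)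
def n52392 : Q := act 4 n50374
theorem D52392 : act 4 n50374 = n52392 := rfl
theorem F234720 : act 2 n52392 = n50476 := d18_1 D52392 (iv D50476) (iv F225534)
theorem F234721 : act 3 n52392 = n52392 := d24_1 D52392 (iv D52392) (iv D50374) F215647 D50374
theorem F234722 : act 6 n52392 = n50377 := d31_2 (iv F225535) D52392 (iv D50377)
theorem F234723 : act 9 n52392 = n52392 := d34_2 F225536 D52392 (iv D52392)
def n52393 : Q := act 5 n50377
theorem D52393 : act 5 n50377 = n52393 := rfl
theorem F234724 : act 2 n52393 = n50480 := d19_1 D52393 (iv D50480) (iv F225545)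
theorem F234725 : act 3 n52393 = n52393 := d25_1 D52393 (iv D52393) F225546
theorem F234726 : act 9 n52393 = n52393 := d38_2 F225547 D52393 (iv D52393)
def n52394 : Q := act 4 n50378
theorem D52394 : act 4 n50378 = n52394 := rfl
theorem F234727 : act 0 n52394 = n50407 := d3_1 D52394 (iv D50407) (iv F225548)
theorem F234728 : act 2 n52394 = n50379 := d18_1 D52394 (iv D50379) D50378
theorem F234729 : act 8 n52394 = n50389 := d33_2 (iv F225551) D52394 (iv D50389)
def n52395 : Q := act 9 n50378
theorem D52395 : act 9 n50378 = n52395 := rfl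
theorem F234730 : act 0 n52395 = n50408 := d8_1 D52395 (iv D50408) (iv F225548)
theorem F234731 : act 2 n52395 = n50380 := d23_1 D52395 (iv D50380) D50378
theorem F234732 : act 3 n52395 = n52395 := d29_1 D52395 (iv D52395) F225549
theorem F234733 : act 5 n52395 = n50381 := d38_1 D52395 (iv D50381) (iv F225550)
def n52396 : Q := act 9 n50379
theorem D52396 : act 9 n50379 = n52396 := rfl
theorem F234734 : act 0 n52396 = n50409 := d8_1 D52396 (iv D50409) (iv F225552)
theorem F234735 : act 4 n52396 = n50380 := d34_1 D52396 (iv D50380) D50379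
def n52397 : Q := act 8 n50380
theorem D52397 : act 8 n50380 = n52397 := rfl
theorem F234736 : act 0 n52397 = n50410 := d7_1 D52397 (iv D50410) (iv F225554)
theorem F234737 : act 5 n52397 = n50382 := d37_1 D52397 (iv D50382) (iv F225556)
theorem F234738 : act 9 n52397 = n50392 := d44_2 D50380 D52397 (iv D50392) (iv D48210) (iv F215675)
def n52398 : Q := act 8 n50381
theorem D52398 : act 8 n50381 = n52398 := rfl
theorem F234739 : act 0 n52398 = n50412 := d7_1 D52398 (iv D50412) (iv F225557)
theorem F234740 : act 2 n52398 = n50382 := d22_1 D52398 (iv D50382) (iv F225558)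
theorem F234741 : act 6 n52398 = n50384 := d40_1 D52398 (iv D50384) (iv F225560)
theorem F234742 : act 9 n52398 = n50394 := d44_2 D50381 D52398 (iv D50394) (iv D48212) (iv F215682)
def n52399 : Q := act 8 n50383
theorem D52399 : act 8 n50383 = n52399 := rfl
theorem F234743 : act 1 n52399 = n50384 := d15_1 D52399 (iv D50384) (iv F225564)
theorem F234744 : act 9 n52399 = n50396 := d44_2 D50383 D52399 (iv D50396) (iv D48215) (iv F215687)
def n52400 : Q := act 3 n50384
theorem D52400 : act 3 n50384 = n52400 := rfl
theorem F234745 : act 0 n52400 = n50416 := d2_1 D52400 (iv D50416) (iv F225566)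
theorem F234746 : act 8 n52400 = n52400 := d28_2 D50384 D52400 (iv D52400) (iv D50384) F215690
theorem F234747 : act 9 n52400 = n50397 := d29_2 (iv F225568) D52400 (iv D50397)
def n52401 : Q := act 4 n50385
theorem D52401 : act 4 n50385 = n52401 := rfl
theorem F234748 : act 0 n52401 = n50418 := d3_1 D52401 (iv D50418) (iv F225569)
theorem F234749 : act 3 n52401 = n50566 := d24_1 D52401 (iv D50566) (iv D48404) (iv F215695) D50385
theorem F234750 : act 6 n52401 = n50387 := d31_2 (iv F225570) D52401 (iv D50387)
def n52402 : Q := act 9 n50385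
theorem D52402 : act 9 n50385 = n52402 := rfl
theorem F234751 : act 0 n52402 = n50419 := d8_1 D52402 (iv D50419) (iv F225569)
theorem F234752 : act 3 n52402 = n50386 := d29_1 D52402 (iv D50386) D50385
theorem F234753 : act 6 n52402 = n50388 := d41_1 D52402 (iv D50388) (iv F225570)
def n52403 : Q := act 9 n50387
theorem D52403 : act 9 n50387 = n52403 := rfl
theorem F234754 : act 0 n52403 = n50423 := d8_1 D52403 (iv D50423) (iv F225575)
theorem F234755 : act 3 n52403 = n50571 := d29_1 D52403 (iv D50571) (iv F225576)
theorem F234756 : act 4 n52403 = n50388 := d34_1 D52403 (iv D50388) D50387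
theorem F234757 : act 7 n52403 = n50391 := d43_1 D52403 (iv D50391) (iv F225577)
def n52404 : Q := act 8 n50388
theorem D52404 : act 8 n50388 = n52404 := rfl
theorem F234758 : act 0 n52404 = n50424 := d7_1 D52404 (iv D50424) (iv F225578)
theorem F234759 : act 5 n52404 = n50393 := d37_1 D52404 (iv D50393) (iv F225580)
theorem F234760 : act 7 n52404 = n50392 := d42_1 D52404 (iv D50392) (iv F225581)
def n52405 : Q := act 9 n50389
theorem D52405 : act 9 n50389 = n52405 := rfl
theorem F234761 : act 0 n52405 = n50430 := d8_1 D52405 (iv D50430) (iv F225582)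
theorem F234762 : act 2 n52405 = n50391 := d23_1 D52405 (iv D50391) (iv F225583)
theorem F234763 : act 4 n52405 = n50390 := d34_1 D52405 (iv D50390) D50389
def n52406 : Q := act 8 n50390
theorem D52406 : act 8 n50390 = n52406 := rfl
theorem F234764 : act 0 n52406 = n50431 := d7_1 D52406 (iv D50431) (iv F225584)
theorem F234765 : act 2 n52406 = n50392 := d22_1 D52406 (iv D50392) (iv F225585)
theorem F234766 : act 5 n52406 = n50394 := d37_1 D52406 (iv D50394) (iv F225587)
def n52407 : Q := act 8 n50391
theorem D52407 : act 8 n50391 = n52407 := rfl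
theorem F234767 : act 0 n52407 = n50434 := d7_1 D52407 (iv D50434) (iv F225588)
theorem F234768 : act 4 n52407 = n50392 := d33_1 D52407 (iv D50392) (iv F225590)
def n52408 : Q := act 3 n50394
theorem D52408 : act 3 n50394 = n52408 := rfl
theorem F234769 : act 0 n52408 = n50444 := d2_1 D52408 (iv D50444) (iv F225595)
theorem F234770 : act 6 n52408 = n50397 := d26_2 (iv F225597) D52408 (iv D50397)
theorem F234771 : act 8 n52408 = n50402 := d28_2 D50394 D52408 (iv D50402) (iv D48224) (iv F215718)
def n52409 : Q := act 8 n50395
theorem D52409 : act 8 n50395 = n52409 := rfl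
theorem F234772 : act 0 n52409 = n50396 := d7_1 D52409 (iv D50396) (iv F225598)
theorem F234773 : act 1 n52409 = n50449 := d15_1 D52409 (iv D50449) (iv F225599)
def n52410 : Q := act 3 n50396
theorem D52410 : act 3 n50396 = n52410 := rfl
theorem F234774 : act 1 n52410 = n50397 := d10_1 D52410 (iv D50397) (iv F225601)
theorem F234775 : act 8 n52410 = n50404 := d28_2 D50396 D52410 (iv D50404) (iv D48226) (iv F215725)
def n52411 : Q := act 4 n50397
theorem D52411 : act 4 n50397 = n52411 := rfl
theorem F234776 : act 0 n52411 = n50456 := d3_1 D52411 (iv D50456) (iv F225602)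
theorem F234777 : act 8 n52411 = n50405 := d33_2 (iv F225603) D52411 (iv D50405)
def n52412 : Q := act 8 n50398
theorem D52412 : act 8 n50398 = n52412 := rfl
theorem F234778 : act 0 n52412 = n50461 := d7_1 D52412 (iv D50461) (iv F225604)
theorem F234779 : act 1 n52412 = n52412 := d15_1 D52412 (iv D52412) F225605
theorem F234780 : act 3 n52412 = n50485 := d28_1 D52412 (iv D50485) (iv F224236) F224240 (iv F225606)
theorem F234781 : act 5 n52412 = n50489 := d37_1 D52412 F227128 F227125
theorem F234782 : act 6 n52412 = n50399 := d40_1 D52412 (iv D50399) (iv F225607)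
theorem F234783 : act 9 n52412 = n52412 := d44_2 D50398 D52412 (iv D52412) (iv D50398) F215731
def n52413 : Q := act 3 n50400
theorem D52413 : act 3 n50400 = n52413 := rfl
theorem F234784 : act 0 n52413 = n50471 := d2_1 D52413 (iv D50471) (iv F225613)
theorem F234785 : act 5 n52413 = n50402 := d25_2 (iv F225615) D52413 (iv D50402)
theorem F234786 : act 9 n52413 = n52413 := d29_2 F225616 D52413 (iv D52413)
def n52414 : Q := act 4 n50402
theorem D52414 : act 4 n50402 = n52414 := rfl
theorem F234787 : act 0 n52414 = n50476 := d3_1 D52414 (iv D50476) (iv F225622)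
theorem F234788 : act 3 n52414 = n50757 := d24_1 D52414 (iv D50757) (iv D48603) (iv F215760) D50402
theorem F234789 : act 6 n52414 = n50405 := d31_2 (iv F225623) D52414 (iv D50405)
theorem F234790 : act 9 n52414 = n52414 := d34_2 F225624 D52414 (iv D52414)
def n52415 : Q := act 4 n50406
theorem D52415 : act 4 n50406 = n52415 := rfl
theorem F234791 : act 1 n52415 = n50407 := d11_1 D52415 (iv D50407) D50406
theorem F234792 : act 8 n52415 = n50426 := d33_2 (iv F225637) D52415 (iv D50426)
def n52416 : Q := act 9 n50406
theorem D52416 : act 9 n50406 = n52416 := rfl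
theorem F234793 : act 1 n52416 = n50408 := d16_1 D52416 (iv D50408) D50406
theorem F234794 : act 3 n52416 = n52416 := d29_1 D52416 (iv D52416) F225635
theorem F234795 : act 5 n52416 = n50411 := d38_1 D52416 (iv D50411) (iv F225636)
def n52417 : Q := act 3 n50407
theorem D52417 : act 3 n50407 = n52417 := rfl
theorem F234796 : act 4 n52417 = n52417 := d24_2 D50407 D52417 (iv D52417) (iv D50407) F215773
def n52418 : Q := act 9 n50407
theorem D52418 : act 9 n50407 = n52418 := rfl
theorem F234797 : act 2 n52418 = n50409 := d23_1 D52418 (iv D50409) (iv F225638)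
theorem F234798 : act 4 n52418 = n50408 := d34_1 D52418 (iv D50408) D50407
def n52419 : Q := act 8 n50408
theorem D52419 : act 8 n50408 = n52419 := rfl
theorem F234799 : act 2 n52419 = n50410 := d22_1 D52419 (iv D50410) (iv F225640)
theorem F234800 : act 5 n52419 = n50412 := d37_1 D52419 (iv D50412) (iv F225642)
theorem F234801 : act 9 n52419 = n50431 := d44_2 D50408 D52419 (iv D50431) (iv D48248) (iv F215775)
def n52420 : Q := act 8 n50409
theorem D52420 : act 8 n50409 = n52420 := rfl
theorem F234802 : act 4 n52420 = n50410 := d33_1 D52420 (iv D50410) (iv F225643)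
theorem F234803 : act 9 n52420 = n50434 := d44_2 D50409 D52420 (iv D50434) (iv D48250) (iv F215776)
def n52421 : Q := act 8 n50411
theorem D52421 : act 8 n50411 = n52421 := rfl
theorem F234804 : act 1 n52421 = n50412 := d15_1 D52421 (iv D50412) (iv F225646)
theorem F234805 : act 6 n52421 = n50414 := d40_1 D52421 (iv D50414) (iv F225648)
theorem F234806 : act 9 n52421 = n50440 := d44_2 D50411 D52421 (iv D50440) (iv D48257) (iv F215781)
def n52422 : Q := act 3 n50412
theorem D52422 : act 3 n50412 = n52422 := rfl
theorem F234807 : act 6 n52422 = n50416 := d26_2 (iv F225650) D52422 (iv D50416)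
theorem F234808 : act 8 n52422 = n52422 := d28_2 D50412 D52422 (iv D52422) (iv D50412) F215783
theorem F234809 : act 9 n52422 = n50444 := d29_2 (iv F225651) D52422 (iv D50444)
def n52423 : Q := act 8 n50413
theorem D52423 : act 8 n50413 = n52423 := rfl
theorem F234810 : act 1 n52423 = n50415 := d15_1 D52423 (iv D50415) (iv F225652)
theorem F234811 : act 4 n52423 = n50414 := d33_1 D52423 (iv D50414) (iv F225653)
theorem F234812 : act 9 n52423 = n50451 := d44_2 D50413 D52423 (iv D50451) (iv D48267) (iv F215788)
def n52424 : Q := act 3 n50414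
theorem D52424 : act 3 n50414 = n52424 := rfl
theorem F234813 : act 1 n52424 = n50416 := d10_1 D52424 (iv D50416) (iv F225654)
theorem F234814 : act 8 n52424 = n52424 := d28_2 D50414 D52424 (iv D52424) (iv D50414) F215790
theorem F234815 : act 9 n52424 = n50452 := d29_2 (iv F225655) D52424 (iv D50452)
def n52425 : Q := act 4 n50416
theorem D52425 : act 4 n50416 = n52425 := rfl
theorem F234816 : act 8 n52425 = n52425 := d33_2 F225659 D52425 (iv D52425)
theorem F234817 : act 9 n52425 = n50456 := d34_2 (iv F225660) D52425 (iv D50456)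
def n52426 : Q := act 4 n50417
theorem D52426 : act 4 n50417 = n52426 := rfl
theorem F234818 : act 2 n52426 = n50418 := d18_1 D52426 (iv D50418) D50417
theorem F234819 : act 6 n52426 = n50421 := d31_2 (iv F225662) D52426 (iv D50421)
def n52427 : Q := act 9 n50417
theorem D52427 : act 9 n50417 = n52427 := rfl
theorem F234820 : act 2 n52427 = n50419 := d23_1 D52427 (iv D50419) D50417
theorem F234821 : act 3 n52427 = n50460 := d29_1 D52427 (iv D50460) (iv F225661)
theorem F234822 : act 6 n52427 = n50422 := d41_1 D52427 (iv D50422) (iv F225662)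
def n52428 : Q := act 5 n50418
theorem D52428 : act 5 n50418 = n52428 := rfl
theorem F234823 : act 3 n52428 = n50644 := d25_1 D52428 (iv D50644) (iv F225663)
def n52429 : Q := act 9 n50418
theorem D52429 : act 9 n50418 = n52429 := rfl
theorem F234824 : act 3 n52429 = n50645 := d29_1 D52429 (iv D50645) (iv F225663)
theorem F234825 : act 4 n52429 = n50419 := d34_1 D52429 (iv D50419) D50418
theorem F234826 : act 6 n52429 = n50423 := d41_1 D52429 (iv D50423) (iv F225664)
def n52430 : Q := act 8 n50419
theorem D52430 : act 8 n50419 = n52430 := rfl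
theorem F234827 : act 6 n52430 = n50424 := d40_1 D52430 (iv D50424) (iv F225666)
def n52431 : Q := act 4 n50420
theorem D52431 : act 4 n50420 = n52431 := rfl
theorem F234828 : act 1 n52431 = n50421 := d11_1 D52431 (iv D50421) D50420
theorem F234829 : act 7 n52431 = n50426 := d32_2 (iv F225669) D52431 (iv D50426)
def n52432 : Q := act 9 n50420
theorem D52432 : act 9 n50420 = n52432 := rfl
theorem F234830 : act 1 n52432 = n50422 := d16_1 D52432 (iv D50422) D50420
theorem F234831 : act 3 n52432 = n50462 := d29_1 D52432 (iv D50462) (iv F225667)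
theorem F234832 : act 5 n52432 = n50435 := d38_1 D52432 (iv D50435) (iv F225668)
theorem F234833 : act 7 n52432 = n50427 := d43_1 D52432 (iv D50427) (iv F225669)
def n52433 : Q := act 9 n50421
theorem D52433 : act 9 n50421 = n52433 := rfl
theorem F234834 : act 2 n52433 = n50423 := d23_1 D52433 (iv D50423) (iv F225670)
theorem F234835 : act 4 n52433 = n50422 := d34_1 D52433 (iv D50422) D50421
theorem F234836 : act 7 n52433 = n50430 := d43_1 D52433 (iv D50430) (iv F225671)
def n52434 : Q := act 8 n50422
theorem D52434 : act 8 n50422 = n52434 := rfl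
theorem F234837 : act 2 n52434 = n50424 := d22_1 D52434 (iv D50424) (iv F225672)
theorem F234838 : act 5 n52434 = n50436 := d37_1 D52434 (iv D50436) (iv F225674)
theorem F234839 : act 7 n52434 = n50431 := d42_1 D52434 (iv D50431) (iv F225675)
def n52435 : Q := act 8 n50423
theorem D52435 : act 8 n50423 = n52435 := rfl
theorem F234840 : act 4 n52435 = n50424 := d33_1 D52435 (iv D50424) (iv F225677)
theorem F234841 : act 7 n52435 = n50434 := d42_1 D52435 (iv D50434) (iv F225678)
def n52436 : Q := act 4 n50425
theorem D52436 : act 4 n50425 = n52436 := rfl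
theorem F234842 : act 0 n52436 = n50426 := d3_1 D52436 (iv D50426) D50425
def n52437 : Q := act 9 n50425
theorem D52437 : act 9 n50425 = n52437 := rfl
theorem F234843 : act 0 n52437 = n50427 := d8_1 D52437 (iv D50427) D50425
theorem F234844 : act 3 n52437 = n50464 := d29_1 D52437 (iv D50464) (iv F225681)
theorem F234845 : act 5 n52437 = n50437 := d38_1 D52437 (iv D50437) (iv F225682)
def n52438 : Q := act 3 n50426
theorem D52438 : act 3 n50426 = n52438 := rfl
theorem F234846 : act 1 n52438 = n50428 := d10_1 D52438 (iv D50428) (iv F225683)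
theorem F234847 : act 4 n52438 = n50465 := d24_2 D50426 D52438 (iv D50465) (iv D48286) (iv F215813)
def n52439 : Q := act 5 n50426
theorem D52439 : act 5 n50426 = n52439 := rfl
theorem F234848 : act 1 n52439 = n50429 := d12_1 D52439 (iv D50429) (iv F225683)
theorem F234849 : act 4 n52439 = n50438 := d30_1 D52439 (iv D50438) (iv D48256) (iv F215814) D50426
def n52440 : Q := act 9 n50426
theorem D52440 : act 9 n50426 = n52440 := rfl
theorem F234850 : act 1 n52440 = n50430 := d16_1 D52440 (iv D50430) (iv F225683)
theorem F234851 : act 4 n52440 = n50427 := d34_1 D52440 (iv D50427) D50426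
def n52441 : Q := act 8 n50427
theorem D52441 : act 8 n50427 = n52441 := rfl
theorem F234852 : act 1 n52441 = n50431 := d15_1 D52441 (iv D50431) (iv F225684)
theorem F234853 : act 5 n52441 = n50440 := d37_1 D52441 (iv D50440) (iv F225686)
def n52442 : Q := act 8 n50428
theorem D52442 : act 8 n50428 = n52442 := rfl
theorem F234854 : act 2 n52442 = n50663 := d22_1 D52442 (iv D50663) (iv F225687)
theorem F234855 : act 4 n52442 = n50468 := d33_1 D52442 (iv D50468) (iv F225688)
def n52443 : Q := act 9 n50428
theorem D52443 : act 9 n50428 = n52443 := rfl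
theorem F234856 : act 2 n52443 = n50664 := d23_1 D52443 (iv D50664) (iv F225687)
theorem F234857 : act 3 n52443 = n50430 := d29_1 D52443 (iv D50430) D50428
theorem F234858 : act 4 n52443 = n50469 := d34_1 D52443 (iv D50469) (iv F225688)
def n52444 : Q := act 6 n50429
theorem D52444 : act 6 n50429 = n52444 := rfl
theorem F234859 : act 2 n52444 = n50432 := d20_1 D52444 (iv D50432) (iv F225689)
theorem F234860 : act 4 n52444 = n50441 := d31_1 D52444 (iv D50441) (iv F225690)
def n52445 : Q := act 9 n50429
theorem D52445 : act 9 n50429 = n52445 := rfl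
theorem F234861 : act 2 n52445 = n50433 := d23_1 D52445 (iv D50433) (iv F225689)
theorem F234862 : act 4 n52445 = n50442 := d34_1 D52445 (iv D50442) (iv F225690)
theorem F234863 : act 5 n52445 = n50430 := d38_1 D52445 (iv D50430) D50429
def n52446 : Q := act 8 n50430
theorem D52446 : act 8 n50430 = n52446 := rfl
theorem F234864 : act 2 n52446 = n50434 := d22_1 D52446 (iv D50434) (iv F225691)
theorem F234865 : act 4 n52446 = n50431 := d33_1 D52446 (iv D50431) (iv F225692)
def n52447 : Q := act 3 n50431
theorem D52447 : act 3 n50431 = n52447 := rfl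
theorem F234866 : act 5 n52447 = n50444 := d25_2 (iv F225694) D52447 (iv D50444)
theorem F234867 : act 8 n52447 = n50471 := d28_2 D50431 D52447 (iv D50471) (iv D48290) (iv F215817)
def n52448 : Q := act 7 n50432
theorem D52448 : act 7 n50432 = n52448 := rfl
theorem F234868 : act 3 n52448 = n50669 := d27_1 D52448 (iv D50669) (iv F225695)
theorem F234869 : act 4 n52448 = n50445 := d32_1 D52448 (iv D50445) (iv F225696)
def n52449 : Q := act 9 n50432
theorem D52449 : act 9 n50432 = n52449 := rfl
theorem F234870 : act 3 n52449 = n50670 := d29_1 D52449 (iv D50670) (iv F225695)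
theorem F234871 : act 4 n52449 = n50446 := d34_1 D52449 (iv D50446) (iv F225696)
theorem F234872 : act 6 n52449 = n50433 := d41_1 D52449 (iv D50433) D50432
def n52450 : Q := act 8 n50433
theorem D52450 : act 8 n50433 = n52450 := rfl
theorem F234873 : act 4 n52450 = n50447 := d33_1 D52450 (iv D50447) (iv F225698)
theorem F234874 : act 5 n52450 = n50434 := d37_1 D52450 (iv D50434) (iv F225699)
def n52451 : Q := act 3 n50434
theorem D52451 : act 3 n50434 = n52451 := rfl
theorem F234875 : act 8 n52451 = n50672 := d28_2 D50434 D52451 (iv D50672) (iv D48492) (iv F215821)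
def n52452 : Q := act 8 n50435
theorem D52452 : act 8 n50435 = n52452 := rfl
theorem F234876 : act 1 n52452 = n50436 := d15_1 D52452 (iv D50436) (iv F225701)
theorem F234877 : act 7 n52452 = n50440 := d42_1 D52452 (iv D50440) (iv F225703)
def n52453 : Q := act 3 n50436
theorem D52453 : act 3 n50436 = n52453 := rfl
theorem F234878 : act 7 n52453 = n50444 := d27_2 (iv F225705) D52453 (iv D50444)
theorem F234879 : act 8 n52453 = n50473 := d28_2 D50436 D52453 (iv D50473) (iv D48293) (iv F215827)
def n52454 : Q := act 8 n50437
theorem D52454 : act 8 n50437 = n52454 := rfl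
theorem F234880 : act 0 n52454 = n50440 := d7_1 D52454 (iv D50440) (iv F225706)
theorem F234881 : act 6 n52454 = n50449 := d40_1 D52454 (iv D50449) (iv F225708)
def n52455 : Q := act 9 n50438
theorem D52455 : act 9 n50438 = n52455 := rfl
theorem F234882 : act 1 n52455 = n50442 := d16_1 D52455 (iv D50442) (iv F225709)
theorem F234883 : act 3 n52455 = n50758 := d29_1 D52455 (iv D50758) (iv F225710)
theorem F234884 : act 5 n52455 = n50439 := d38_1 D52455 (iv D50439) D50438
def n52456 : Q := act 8 n50439
theorem D52456 : act 8 n50439 = n52456 := rfl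
theorem F234885 : act 1 n52456 = n50443 := d15_1 D52456 (iv D50443) (iv F225711)
theorem F234886 : act 4 n52456 = n50440 := d33_1 D52456 (iv D50440) (iv F225713)
theorem F234887 : act 6 n52456 = n50451 := d40_1 D52456 (iv D50451) (iv F225714)
def n52457 : Q := act 3 n50440
theorem D52457 : act 3 n50440 = n52457 := rfl
theorem F234888 : act 1 n52457 = n50444 := d10_1 D52457 (iv D50444) (iv F225715)
theorem F234889 : act 6 n52457 = n50452 := d26_2 (iv F225716) D52457 (iv D50452)
theorem F234890 : act 8 n52457 = n50475 := d28_2 D50440 D52457 (iv D50475) (iv D48295) (iv F215836)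
def n52458 : Q := act 9 n50441
theorem D52458 : act 9 n50441 = n52458 := rfl
theorem F234891 : act 2 n52458 = n50446 := d23_1 D52458 (iv D50446) (iv F225717)
theorem F234892 : act 3 n52458 = n50759 := d29_1 D52458 (iv D50759) (iv F225718)
theorem F234893 : act 5 n52458 = n50453 := d38_1 D52458 (iv D50453) (iv F225719)
theorem F234894 : act 6 n52458 = n50442 := d41_1 D52458 (iv D50442) D50441
def n52459 : Q := act 8 n50442
theorem D52459 : act 8 n50442 = n52459 := rfl
theorem F234895 : act 2 n52459 = n50447 := d22_1 D52459 (iv D50447) (iv F225720)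
theorem F234896 : act 5 n52459 = n50443 := d37_1 D52459 (iv D50443) (iv F225722)
def n52460 : Q := act 3 n50443
theorem D52460 : act 3 n50443 = n52460 := rfl
theorem F234897 : act 6 n52460 = n50455 := d26_2 (iv F225725) D52460 (iv D50455)
theorem F234898 : act 7 n52460 = n50458 := d27_2 F227823 D52460 (iv F227820)
theorem F234899 : act 8 n52460 = n50457 := d28_2 D50443 D52460 F225752 F215886 (iv F215841)
def n52461 : Q := act 4 n50444
theorem D52461 : act 4 n50444 = n52461 := rfl
theorem F234900 : act 6 n52461 = n50456 := d31_2 (iv F225726) D52461 (iv D50456)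
theorem F234901 : act 8 n52461 = n50476 := d33_2 (iv F225727) D52461 (iv D50476)
def n52462 : Q := act 9 n50445
theorem D52462 : act 9 n50445 = n52462 := rfl
theorem F234902 : act 3 n52462 = n50459 := d29_1 D52462 (iv D50459) (iv F225728)
theorem F234903 : act 5 n52462 = n50457 := d38_1 D52462 (iv D50457) (iv F225729)
theorem F234904 : act 7 n52462 = n50446 := d43_1 D52462 (iv D50446) D50445
def n52463 : Q := act 8 n50446
theorem D52463 : act 8 n50446 = n52463 := rfl
theorem F234905 : act 5 n52463 = n50458 := d37_1 D52463 (iv D50458) (iv F225731)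
theorem F234906 : act 6 n52463 = n50447 := d40_1 D52463 (iv D50447) (iv F225732)
def n52464 : Q := act 8 n50448
theorem D52464 : act 8 n50448 = n52464 := rfl
theorem F234907 : act 0 n52464 = n50451 := d7_1 D52464 (iv D50451) (iv F225734)
theorem F234908 : act 4 n52464 = n50449 := d33_1 D52464 (iv D50449) (iv F225736)
def n52465 : Q := act 3 n50449
theorem D52465 : act 3 n50449 = n52465 := rfl
theorem F234909 : act 0 n52465 = n50452 := d2_1 D52465 (iv D50452) (iv F225737)
theorem F234910 : act 8 n52465 = n50477 := d28_2 D50449 D52465 (iv D50477) (iv D48297) (iv F215855)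
def n52466 : Q := act 8 n50450
theorem D52466 : act 8 n50450 = n52466 := rfl
theorem F234911 : act 1 n52466 = n50454 := d15_1 D52466 (iv D50454) (iv F225738)
theorem F234912 : act 5 n52466 = n50451 := d37_1 D52466 (iv D50451) (iv F225740)
def n52467 : Q := act 3 n50451
theorem D52467 : act 3 n50451 = n52467 := rfl
theorem F234913 : act 1 n52467 = n50455 := d10_1 D52467 (iv D50455) (iv F225741)
theorem F234914 : act 8 n52467 = n50762 := d28_2 D50451 D52467 (iv D50762) (iv D48617) (iv F215859)
def n52468 : Q := act 2 n50452
theorem D52468 : act 2 n50452 = n52468 := rfl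
theorem F234915 : act 8 n52468 = n50478 := d22_2 (iv F225744) D52468 (iv D50478)
def n52469 : Q := act 4 n50452
theorem D52469 : act 4 n50452 = n52469 := rfl
theorem F234916 : act 1 n52469 = n50456 := d11_1 D52469 (iv D50456) (iv F225743)
theorem F234917 : act 8 n52469 = n50479 := d33_2 (iv F225744) D52469 (iv D50479)
def n52470 : Q := act 8 n50453
theorem D52470 : act 8 n50453 = n52470 := rfl
theorem F234918 : act 2 n52470 = n50458 := d22_1 D52470 (iv D50458) (iv F225745)
theorem F234919 : act 6 n52470 = n50454 := d40_1 D52470 (iv D50454) (iv F225747)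
def n52471 : Q := act 4 n50455
theorem D52471 : act 4 n50455 = n52471 := rfl
theorem F234920 : act 3 n52471 = n50456 := d24_1 D52471 (iv D50456) (iv D48272) (iv F215868) D50455
theorem F234921 : act 8 n52471 = n50763 := d33_2 (iv F225750) D52471 (iv D50763)
def n52472 : Q := act 5 n50456
theorem D52472 : act 5 n50456 = n52472 := rfl
theorem F234922 : act 8 n52472 = n50480 := d37_2 (iv F225751) D52472 (iv D50480)
def n52473 : Q := act 8 n50460
theorem D52473 : act 8 n50460 = n52473 := rfl
theorem F234923 : act 2 n52473 = n50461 := d22_1 D52473 (iv D50461) (iv F225761)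
theorem F234924 : act 5 n52473 = n50490 := d37_1 D52473 F227853 F227850
theorem F234925 : act 6 n52473 = n50463 := d40_1 D52473 (iv D50463) (iv F225762)
theorem F234926 : act 9 n52473 = n52473 := d44_2 D50460 D52473 (iv D52473) (iv D50460) F215888
def n52474 : Q := act 8 n50462
theorem D52474 : act 8 n50462 = n52474 := rfl
theorem F234927 : act 1 n52474 = n50463 := d15_1 D52474 (iv D50463) (iv F225768)
theorem F234928 : act 2 n52474 = n50483 := d22_1 D52474 (iv D50483) (iv F225769)
theorem F234929 : act 5 n52474 = n50472 := d37_1 D52474 (iv D50472) (iv F225770)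
theorem F234930 : act 7 n52474 = n50467 := d42_1 D52474 (iv D50467) (iv F225771)
theorem F234931 : act 9 n52474 = n52474 := d44_2 D50462 D52474 (iv D52474) (iv D50462) F215895
def n52475 : Q := act 3 n50463
theorem D52475 : act 3 n50463 = n52475 := rfl
theorem F234932 : act 5 n52475 = n50473 := d25_2 (iv F225773) D52475 (iv D50473)
theorem F234933 : act 7 n52475 = n50471 := d27_2 (iv F225774) D52475 (iv D50471)
theorem F234934 : act 9 n52475 = n52475 := d29_2 F225775 D52475 (iv D52475)
def n52476 : Q := act 8 n50464
theorem D52476 : act 8 n50464 = n52476 := rfl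
theorem F234935 : act 0 n52476 = n50467 := d7_1 D52476 (iv D50467) (iv F225776)
theorem F234936 : act 2 n52476 = n50485 := d22_1 D52476 (iv D50485) (iv F225777)
theorem F234937 : act 5 n52476 = n50474 := d37_1 D52476 (iv D50474) (iv F225778)
theorem F234938 : act 9 n52476 = n52476 := d44_2 D50464 D52476 (iv D52476) (iv D50464) F215910
def n52477 : Q := act 9 n50465
theorem D52477 : act 9 n50465 = n52477 := rfl
theorem F234939 : act 1 n52477 = n50469 := d16_1 D52477 (iv D50469) (iv F225779)
theorem F234940 : act 3 n52477 = n50466 := d29_1 D52477 (iv D50466) D50465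
theorem F234941 : act 5 n52477 = n50764 := d38_1 D52477 (iv D50764) (iv F225780)
def n52478 : Q := act 8 n50466
theorem D52478 : act 8 n50466 = n52478 := rfl
theorem F234942 : act 1 n52478 = n50470 := d15_1 D52478 (iv D50470) (iv F225781)
theorem F234943 : act 2 n52478 = n50487 := d22_1 D52478 (iv D50487) (iv F225782)
theorem F234944 : act 4 n52478 = n50467 := d33_1 D52478 (iv D50467) (iv F225783)
theorem F234945 : act 5 n52478 = n50765 := d37_1 D52478 (iv D50765) (iv F225784)
theorem F234946 : act 9 n52478 = n52478 := d44_2 D50466 D52478 (iv D52478) (iv D50466) F215914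
def n52479 : Q := act 3 n50467
theorem D52479 : act 3 n50467 = n52479 := rfl
theorem F234947 : act 1 n52479 = n50471 := d10_1 D52479 (iv D50471) (iv F225785)
theorem F234948 : act 5 n52479 = n50475 := d25_2 (iv F225787) D52479 (iv D50475)
theorem F234949 : act 9 n52479 = n52479 := d29_2 F225788 D52479 (iv D52479)
def n52480 : Q := act 9 n50468
theorem D52480 : act 9 n50468 = n52480 := rfl
theorem F234950 : act 2 n52480 = n50711 := d23_1 D52480 (iv D50711) (iv F225789)
theorem F234951 : act 3 n52480 = n52480 := d29_1 D52480 (iv D52480) F225790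
theorem F234952 : act 5 n52480 = n50766 := d38_1 D52480 (iv D50766) (iv F225791)
def n52481 : Q := act 8 n50469
theorem D52481 : act 8 n50469 = n52481 := rfl
theorem F234953 : act 2 n52481 = n50712 := d22_1 D52481 (iv D50712) (iv F225792)
theorem F234954 : act 5 n52481 = n50767 := d37_1 D52481 (iv D50767) (iv F225794)
def n52482 : Q := act 3 n50470
theorem D52482 : act 3 n50470 = n52482 := rfl
theorem F234955 : act 5 n52482 = n50768 := d25_2 (iv F225797) D52482 (iv D50768)
theorem F234956 : act 9 n52482 = n52482 := d29_2 F225798 D52482 (iv D52482)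
def n52483 : Q := act 4 n50471
theorem D52483 : act 4 n50471 = n52483 := rfl
theorem F234957 : act 9 n52483 = n52483 := d34_2 F225800 D52483 (iv D52483)
def n52484 : Q := act 3 n50472
theorem D52484 : act 3 n50472 = n52484 := rfl
theorem F234958 : act 1 n52484 = n50473 := d10_1 D52484 (iv D50473) (iv F225801)
theorem F234959 : act 7 n52484 = n50475 := d27_2 (iv F225804) D52484 (iv D50475)
theorem F234960 : act 9 n52484 = n52484 := d29_2 F225805 D52484 (iv D52484)
def n52485 : Q := act 3 n50474
theorem D52485 : act 3 n50474 = n52485 := rfl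
theorem F234961 : act 0 n52485 = n50475 := d2_1 D52485 (iv D50475) (iv F225808)
theorem F234962 : act 6 n52485 = n50477 := d26_2 (iv F225811) D52485 (iv D50477)
theorem F234963 : act 9 n52485 = n52485 := d29_2 F225812 D52485 (iv D52485)
def n52486 : Q := act 2 n50475
theorem D52486 : act 2 n50475 = n52486 := rfl
theorem F234964 : act 3 n52486 = n50490 := d17_2 D50475 D52486 (iv D50490) (iv D48316) (iv F215943)
theorem F234965 : act 6 n52486 = n50478 := d20_2 (iv F225814) D52486 (iv D50478)
theorem F234966 : act 9 n52486 = n52486 := d23_2 F225815 D52486 (iv D52486)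
def n52487 : Q := act 4 n50475
theorem D52487 : act 4 n50475 = n52487 := rfl
theorem F234967 : act 1 n52487 = n50476 := d11_1 D52487 (iv D50476) (iv F225813)
theorem F234968 : act 3 n52487 = n50771 := d24_1 D52487 (iv D50771) (iv D48631) (iv F215944) D50475
theorem F234969 : act 6 n52487 = n50479 := d31_2 (iv F225814) D52487 (iv D50479)
theorem F234970 : act 9 n52487 = n52487 := d34_2 F225815 D52487 (iv D52487)
def n52488 : Q := act 5 n50476
theorem D52488 : act 5 n50476 = n52488 := rfl
theorem F234971 : act 3 n52488 = n50772 := d25_1 D52488 (iv D50772) (iv F225816)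
theorem F234972 : act 9 n52488 = n52488 := d38_2 F225818 D52488 (iv D52488)
def n52489 : Q := act 6 n50480
theorem D52489 : act 6 n50480 = n52489 := rfl
theorem F234973 : act 3 n52489 = n50773 := d26_1 D52489 (iv D50773) (iv F225826)
theorem F234974 : act 9 n52489 = n52489 := d41_2 F225827 D52489 (iv D52489)
def n52490 : Q := act 8 n50481
theorem D52490 : act 8 n50481 = n52490 := rfl
theorem F234975 : act 0 n52490 = n50483 := d7_1 D52490 (iv D50483) (iv F225828)
theorem F234976 : act 1 n52490 = n52490 := d15_1 D52490 (iv D52490) F225829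
theorem F234977 : act 5 n52490 = n50488 := d37_1 D52490 (iv D50488) (iv F225830)
theorem F234978 : act 7 n52490 = n50485 := d42_1 D52490 (iv D50485) (iv F225831)
theorem F234979 : act 9 n52490 = n52490 := d44_2 D50481 D52490 (iv D52490) (iv D50481) F215965
def n52491 : Q := act 8 n50484
theorem D52491 : act 8 n50484 = n52491 := rfl
theorem F234980 : act 0 n52491 = n50487 := d7_1 D52491 (iv D50487) (iv F225841)
theorem F234981 : act 1 n52491 = n52491 := d15_1 D52491 (iv D52491) F225842
theorem F234982 : act 4 n52491 = n50485 := d33_1 D52491 (iv D50485) (iv F225843)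
theorem F234983 : act 5 n52491 = n50775 := d37_1 D52491 (iv D50775) (iv F225844)
theorem F234984 : act 9 n52491 = n52491 := d44_2 D50484 D52491 (iv D52491) (iv D50484) F215988
def n52492 : Q := act 4 n50492
theorem D52492 : act 4 n50492 = n52492 := rfl
theorem F234985 : act 0 n52492 = n50513 := d3_1 D52492 (iv D50513) (iv F225875)
theorem F234986 : act 6 n52492 = n50494 := d31_2 (iv F225877) D52492 (iv D50494)
def n52493 : Q := act 9 n50492
theorem D52493 : act 9 n50492 = n52493 := rfl
theorem F234987 : act 0 n52493 = n50514 := d8_1 D52493 (iv D50514) (iv F225875)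
theorem F234988 : act 3 n52493 = n50493 := d29_1 D52493 (iv D50493) D50492
theorem F234989 : act 5 n52493 = n52493 := d38_1 D52493 (iv D52493) F225876
theorem F234990 : act 6 n52493 = n50495 := d41_1 D52493 (iv D50495) (iv F225877)
def n52494 : Q := act 9 n50494
theorem D52494 : act 9 n50494 = n52494 := rfl
theorem F234991 : act 0 n52494 = n50519 := d8_1 D52494 (iv D50519) (iv F225883)
theorem F234992 : act 4 n52494 = n50495 := d34_1 D52494 (iv D50495) D50494
theorem F234993 : act 7 n52494 = n50496 := d43_1 D52494 (iv D50496) (iv F225884)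
def n52495 : Q := act 8 n50495
theorem D52495 : act 8 n50495 = n52495 := rfl
theorem F234994 : act 0 n52495 = n50520 := d7_1 D52495 (iv D50520) (iv F225885)
theorem F234995 : act 3 n52495 = n50572 := d28_1 D52495 (iv D50572) F216347 (iv F216061) (iv F225886)
theorem F234996 : act 5 n52495 = n50498 := d37_1 D52495 (iv D50498) (iv F225887)
theorem F234997 : act 7 n52495 = n50497 := d42_1 D52495 (iv D50497) (iv F225888)
def n52496 : Q := act 8 n50496
theorem D52496 : act 8 n50496 = n52496 := rfl
theorem F234998 : act 0 n52496 = n50528 := d7_1 D52496 (iv D50528) (iv F225889)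
theorem F234999 : act 4 n52496 = n50497 := d33_1 D52496 (iv D50497) (iv F225890)
def n52497 : Q := act 9 n50499
theorem D52497 : act 9 n50499 = n52497 := rfl
theorem F235000 : act 3 n52497 = n50506 := d29_1 D52497 (iv D50506) (iv F225898)
theorem F235001 : act 4 n52497 = n50500 := d34_1 D52497 (iv D50500) D50499
def n52498 : Q := act 8 n50500
theorem D52498 : act 8 n50500 = n52498 := rfl
theorem F235002 : act 3 n52498 = n50599 := d28_1 D52498 (iv D50599) F216457 (iv F216082) (iv F225899)
theorem F235003 : act 5 n52498 = n50837 := d37_1 D52498 (iv D50837) (iv F225900)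
def n52499 : Q := act 4 n50501
theorem D52499 : act 4 n50501 = n52499 := rfl
theorem F235004 : act 6 n52499 = n50503 := d31_2 (iv F225902) D52499 (iv D50503)
theorem F235005 : act 8 n52499 = n50513 := d33_2 (iv F225903) D52499 (iv D50513)
def n52500 : Q := act 9 n50501
theorem D52500 : act 9 n50501 = n52500 := rfl
theorem F235006 : act 3 n52500 = n50502 := d29_1 D52500 (iv D50502) D50501
theorem F235007 : act 5 n52500 = n52500 := d38_1 D52500 (iv D52500) F225901
theorem F235008 : act 6 n52500 = n50504 := d41_1 D52500 (iv D50504) (iv F225902)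
def n52501 : Q := act 9 n50503
theorem D52501 : act 9 n50503 = n52501 := rfl
theorem F235009 : act 4 n52501 = n50504 := d34_1 D52501 (iv D50504) D50503
theorem F235010 : act 7 n52501 = n50506 := d43_1 D52501 (iv D50506) (iv F225908)
def n52502 : Q := act 8 n50504
theorem D52502 : act 8 n50504 = n52502 := rfl
theorem F235011 : act 3 n52502 = n50607 := d28_1 D52502 (iv D50607) F216471 (iv F216092) (iv F225910)
theorem F235012 : act 5 n52502 = n50509 := d37_1 D52502 (iv D50509) (iv F225911)
theorem F235013 : act 7 n52502 = n50507 := d42_1 D52502 (iv D50507) (iv F225912)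
theorem F235014 : act 9 n52502 = n50520 := d44_2 D50504 D52502 (iv D50520) (iv D48347) (iv F216088)
def n52503 : Q := act 9 n50505
theorem D52503 : act 9 n50505 = n52503 := rfl
theorem F235015 : act 1 n52503 = n50562 := d16_1 D52503 (iv D50562) (iv F225913)
theorem F235016 : act 4 n52503 = n50510 := d34_1 D52503 (iv D50510) (iv F225914)
theorem F235017 : act 5 n52503 = n50506 := d38_1 D52503 (iv D50506) D50505
def n52504 : Q := act 8 n50506
theorem D52504 : act 8 n50506 = n52504 := rfl
theorem F235018 : act 4 n52504 = n50507 := d33_1 D52504 (iv D50507) (iv F225916)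
theorem F235019 : act 9 n52504 = n50528 := d44_2 D50506 D52504 (iv D50528) (iv D48352) (iv F216093)
def n52505 : Q := act 8 n50508
theorem D52505 : act 8 n50508 = n52505 := rfl
theorem F235020 : act 0 n52505 = n50837 := d7_1 D52505 (iv D50837) (iv F225920)
theorem F235021 : act 1 n52505 = n50564 := d15_1 D52505 (iv D50564) (iv F225921)
theorem F235022 : act 3 n52505 = n50839 := d28_1 D52505 (iv D50839) F217514 (iv F216306) (iv F225922)
theorem F235023 : act 4 n52505 = n50509 := d33_1 D52505 (iv D50509) (iv F225923)
theorem F235024 : act 6 n52505 = n52505 := d40_1 D52505 (iv D52505) F225924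
theorem F235025 : act 7 n52505 = n50511 := d42_1 D52505 (iv D50511) (iv F225925)
theorem F235026 : act 9 n52505 = n50536 := d44_2 D50508 D52505 (iv D50536) (iv D48358) (iv F216101)
def n52506 : Q := act 8 n50510
theorem D52506 : act 8 n50510 = n52506 := rfl
theorem F235027 : act 1 n52506 = n50563 := d15_1 D52506 (iv D50563) (iv F225930)
theorem F235028 : act 5 n52506 = n50511 := d37_1 D52506 (iv D50511) (iv F225932)
theorem F235029 : act 9 n52506 = n50542 := d44_2 D50510 D52506 (iv D50542) (iv D48365) (iv F216107)
def n52507 : Q := act 4 n50512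
theorem D52507 : act 4 n50512 = n52507 := rfl
theorem F235030 : act 2 n52507 = n50513 := d18_1 D52507 (iv D50513) D50512
theorem F235031 : act 6 n52507 = n50516 := d31_2 (iv F225939) D52507 (iv D50516)
def n52508 : Q := act 9 n50512
theorem D52508 : act 9 n50512 = n52508 := rfl
theorem F235032 : act 2 n52508 = n50514 := d23_1 D52508 (iv D50514) D50512
theorem F235033 : act 3 n52508 = n50546 := d29_1 D52508 (iv D50546) (iv F225937)
theorem F235034 : act 5 n52508 = n52508 := d38_1 D52508 (iv D52508) F225938
theorem F235035 : act 6 n52508 = n50517 := d41_1 D52508 (iv D50517) (iv F225939)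
def n52509 : Q := act 5 n50513
theorem D52509 : act 5 n50513 = n52509 := rfl
theorem F235036 : act 4 n52509 = n52509 := d30_1 D52509 (iv D52509) (iv D50513) F216119 D50513
def n52510 : Q := act 9 n50513
theorem D52510 : act 9 n50513 = n52510 := rfl
theorem F235037 : act 4 n52510 = n50514 := d34_1 D52510 (iv D50514) D50513
theorem F235038 : act 6 n52510 = n50519 := d41_1 D52510 (iv D50519) (iv F225940)
def n52511 : Q := act 8 n50514
theorem D52511 : act 8 n50514 = n52511 := rfl
theorem F235039 : act 3 n52511 = n50646 := d28_1 D52511 (iv D50646) F216569 (iv F216124) (iv F225941)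
theorem F235040 : act 5 n52511 = n52511 := d37_1 D52511 (iv D52511) F225942
theorem F235041 : act 6 n52511 = n50520 := d40_1 D52511 (iv D50520) (iv F225943)
def n52512 : Q := act 4 n50515
theorem D52512 : act 4 n50515 = n52512 := rfl
theorem F235042 : act 1 n52512 = n50516 := d11_1 D52512 (iv D50516) D50515
theorem F235043 : act 7 n52512 = n50521 := d32_2 (iv F225946) D52512 (iv D50521)
def n52513 : Q := act 9 n50515
theorem D52513 : act 9 n50515 = n52513 := rfl
theorem F235044 : act 1 n52513 = n50517 := d16_1 D52513 (iv D50517) D50515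
theorem F235045 : act 3 n52513 = n50547 := d29_1 D52513 (iv D50547) (iv F225944)
theorem F235046 : act 5 n52513 = n50530 := d38_1 D52513 (iv D50530) (iv F225945)
theorem F235047 : act 7 n52513 = n50522 := d43_1 D52513 (iv D50522) (iv F225946)
def n52514 : Q := act 3 n50516
theorem D52514 : act 3 n50516 = n52514 := rfl
theorem F235048 : act 4 n52514 = n50548 := d24_2 D50516 D52514 (iv D50548) (iv D48375) (iv F216125)
theorem F235049 : act 7 n52514 = n50523 := d27_2 (iv F225948) D52514 (iv D50523)
def n52515 : Q := act 5 n50516
theorem D52515 : act 5 n50516 = n52515 := rfl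
theorem F235050 : act 2 n52515 = n50518 := d19_1 D52515 (iv D50518) (iv F225947)
theorem F235051 : act 4 n52515 = n50531 := d30_1 D52515 (iv D50531) (iv D48355) (iv F216126) D50516
theorem F235052 : act 7 n52515 = n50524 := d36_2 (iv F225948) D52515 (iv D50524)
def n52516 : Q := act 9 n50516
theorem D52516 : act 9 n50516 = n52516 := rfl
theorem F235053 : act 2 n52516 = n50519 := d23_1 D52516 (iv D50519) (iv F225947)
theorem F235054 : act 4 n52516 = n50517 := d34_1 D52516 (iv D50517) D50516
theorem F235055 : act 7 n52516 = n50525 := d43_1 D52516 (iv D50525) (iv F225948)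
def n52517 : Q := act 8 n50517
theorem D52517 : act 8 n50517 = n52517 := rfl
theorem F235056 : act 2 n52517 = n50520 := d22_1 D52517 (iv D50520) (iv F225949)
theorem F235057 : act 5 n52517 = n50533 := d37_1 D52517 (iv D50533) (iv F225951)
theorem F235058 : act 7 n52517 = n50526 := d42_1 D52517 (iv D50526) (iv F225952)
def n52518 : Q := act 6 n50518
theorem D52518 : act 6 n50518 = n52518 := rfl
theorem F235059 : act 1 n52518 = n50566 := d13_1 D52518 F226116 (iv F225953)
theorem F235060 : act 4 n52518 = n50534 := d31_1 D52518 (iv D50534) (iv F225954)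
theorem F235061 : act 8 n52518 = n50523 := d40_2 (iv F231921) D52518 (iv F231918)
def n52519 : Q := act 9 n50518
theorem D52519 : act 9 n50518 = n52519 := rfl
theorem F235062 : act 1 n52519 = n50571 := d16_1 D52519 (iv D50571) (iv F225953)
theorem F235063 : act 4 n52519 = n50535 := d34_1 D52519 (iv D50535) (iv F225954)
theorem F235064 : act 5 n52519 = n50519 := d38_1 D52519 (iv D50519) D50518
theorem F235065 : act 7 n52519 = n50527 := d43_1 D52519 (iv D50527) (iv F225955)
def n52520 : Q := act 8 n50519
theorem D52520 : act 8 n50519 = n52520 := rfl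
theorem F235066 : act 4 n52520 = n50520 := d33_1 D52520 (iv D50520) (iv F225956)
theorem F235067 : act 7 n52520 = n50528 := d42_1 D52520 (iv D50528) (iv F225957)
def n52521 : Q := act 3 n50521
theorem D52521 : act 3 n50521 = n52521 := rfl
theorem F235068 : act 0 n52521 = n50601 := d2_1 D52521 (iv F234107) F234105
theorem F235069 : act 1 n52521 = n50523 := d10_1 D52521 (iv D50523) (iv F225961)
theorem F235070 : act 4 n52521 = n50551 := d24_2 D50521 D52521 (iv D50551) (iv D48379) (iv F216132)
theorem F235071 : act 6 n52521 = n50560 := d26_2 F231906 D52521 (iv F231904)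
theorem F235072 : act 8 n50566 = n52521 := d40_0 F235071 F226097 (iv F226116)
def n52522 : Q := act 5 n50521
theorem D52522 : act 5 n50521 = n52522 := rfl
theorem F235073 : act 1 n52522 = n50524 := d12_1 D52522 (iv D50524) (iv F225961)
theorem F235074 : act 2 n52522 = n50574 := d19_1 D52522 (iv F233612) F233611
theorem F235075 : act 4 n52522 = n50537 := d30_1 D52522 (iv D50537) (iv D48360) (iv F216133) D50521
def n52523 : Q := act 9 n50521
theorem D52523 : act 9 n50521 = n52523 := rfl
theorem F235076 : act 1 n52523 = n50525 := d16_1 D52523 (iv D50525) (iv F225961)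
theorem F235077 : act 4 n52523 = n50522 := d34_1 D52523 (iv D50522) D50521
def n52524 : Q := act 8 n50522
theorem D52524 : act 8 n50522 = n52524 := rfl
theorem F235078 : act 1 n52524 = n50526 := d15_1 D52524 (iv D50526) (iv F225962)
theorem F235079 : act 5 n52524 = n50539 := d37_1 D52524 (iv D50539) (iv F225964)
def n52525 : Q := act 5 n50523
theorem D52525 : act 5 n50523 = n52525 := rfl
theorem F235080 : act 3 n52525 = n50524 := d25_1 D52525 (iv D50524) D50523
theorem F235081 : act 4 n52525 = n52525 := d30_1 D52525 (iv D52525) F225965 F216241 (iv F225965)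
def n52526 : Q := act 9 n50523
theorem D52526 : act 9 n50523 = n52526 := rfl
theorem F235082 : act 3 n52526 = n50525 := d29_1 D52526 (iv D50525) D50523
theorem F235083 : act 4 n52526 = n50553 := d34_1 D52526 (iv D50553) (iv F225965)
def n52527 : Q := act 9 n50524
theorem D52527 : act 9 n50524 = n52527 := rfl
theorem F235084 : act 2 n52527 = n50527 := d23_1 D52527 (iv D50527) (iv F225966)
theorem F235085 : act 4 n52527 = n50540 := d34_1 D52527 (iv D50540) (iv F225967)
theorem F235086 : act 5 n52527 = n50525 := d38_1 D52527 (iv D50525) D50524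
def n52528 : Q := act 8 n50525
theorem D52528 : act 8 n50525 = n52528 := rfl
theorem F235087 : act 2 n52528 = n50528 := d22_1 D52528 (iv D50528) (iv F225968)
theorem F235088 : act 4 n52528 = n50526 := d33_1 D52528 (iv D50526) (iv F225969)
def n52529 : Q := act 8 n50527
theorem D52529 : act 8 n50527 = n52529 := rfl
theorem F235089 : act 1 n52529 = n50579 := d15_1 D52529 (iv D50579) (iv F225972)
theorem F235090 : act 4 n52529 = n50542 := d33_1 D52529 (iv D50542) (iv F225973)
theorem F235091 : act 5 n52529 = n50528 := d37_1 D52529 (iv D50528) (iv F225974)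
def n52530 : Q := act 3 n50528
theorem D52530 : act 3 n50528 = n52530 := rfl
theorem F235092 : act 4 n52530 = n50672 := d24_2 (iv F225975) D52530 (iv D50672) F216603 (iv F216141)
def n52531 : Q := act 5 n50529
theorem D52531 : act 5 n50529 = n52531 := rfl
theorem F235093 : act 1 n52531 = n50531 := d12_1 D52531 (iv D50531) (iv F225976)
theorem F235094 : act 2 n52531 = n50568 := d19_1 D52531 F226122 (iv F225977)
theorem F235095 : act 3 n52531 = n52531 := d25_1 D52531 (iv D52531) F225978
theorem F235096 : act 7 n52531 = n50537 := d36_2 (iv F225980) D52531 (iv D50537)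
def n52532 : Q := act 9 n50529
theorem D52532 : act 9 n50529 = n52532 := rfl
theorem F235097 : act 1 n52532 = n50532 := d16_1 D52532 (iv D50532) (iv F225976)
theorem F235098 : act 2 n52532 = n50581 := d23_1 D52532 (iv D50581) (iv F225977)
theorem F235099 : act 3 n52532 = n52532 := d29_1 D52532 (iv D52532) F225978
theorem F235100 : act 4 n52532 = n50530 := d34_1 D52532 (iv D50530) D50529
theorem F235101 : act 6 n52532 = n52532 := d41_1 D52532 (iv D52532) F225979
theorem F235102 : act 7 n52532 = n50538 := d43_1 D52532 (iv D50538) (iv F225980)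
def n52533 : Q := act 8 n50530
theorem D52533 : act 8 n50530 = n52533 := rfl
theorem F235103 : act 1 n52533 = n50533 := d15_1 D52533 (iv D50533) (iv F225981)
theorem F235104 : act 6 n52533 = n52533 := d40_1 D52533 (iv D52533) F225983
theorem F235105 : act 7 n52533 = n50539 := d42_1 D52533 (iv D50539) (iv F225984)
def n52534 : Q := act 9 n50531
theorem D52534 : act 9 n50531 = n52534 := rfl
theorem F235106 : act 2 n52534 = n50535 := d23_1 D52534 (iv D50535) (iv F225985)
theorem F235107 : act 3 n52534 = n52534 := d29_1 D52534 (iv D52534) F225986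
theorem F235108 : act 5 n52534 = n50532 := d38_1 D52534 (iv D50532) D50531
theorem F235109 : act 7 n52534 = n50540 := d43_1 D52534 (iv D50540) (iv F225987)
def n52535 : Q := act 8 n50532
theorem D52535 : act 8 n50532 = n52535 := rfl
theorem F235110 : act 2 n52535 = n50536 := d22_1 D52535 (iv D50536) (iv F225988)
theorem F235111 : act 4 n52535 = n50533 := d33_1 D52535 (iv D50533) (iv F225990)
theorem F235112 : act 6 n52535 = n52535 := d40_1 D52535 (iv D52535) F225991
theorem F235113 : act 7 n52535 = n50541 := d42_1 D52535 (iv D50541) (iv F225992)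
def n52536 : Q := act 9 n50534
theorem D52536 : act 9 n50534 = n52536 := rfl
theorem F235114 : act 1 n52536 = n50567 := d16_1 D52536 (iv D50567) (iv F225996)
theorem F235115 : act 3 n52536 = n50545 := d29_1 D52536 (iv D50545) (iv F225997)
theorem F235116 : act 5 n52536 = n52536 := d38_1 D52536 (iv D52536) F225998
theorem F235117 : act 6 n52536 = n50535 := d41_1 D52536 (iv D50535) D50534
def n52537 : Q := act 8 n50535
theorem D52537 : act 8 n50535 = n52537 := rfl
theorem F235118 : act 1 n52537 = n50572 := d15_1 D52537 (iv D50572) (iv F226000)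
theorem F235119 : act 5 n52537 = n50536 := d37_1 D52537 (iv D50536) (iv F226002)
theorem F235120 : act 7 n52537 = n50542 := d42_1 D52537 (iv D50542) (iv F226003)
def n52538 : Q := act 9 n50537
theorem D52538 : act 9 n50537 = n52538 := rfl
theorem F235121 : act 1 n52538 = n50540 := d16_1 D52538 (iv D50540) (iv F226008)
theorem F235122 : act 2 n52538 = n50575 := d23_1 D52538 (iv D50575) (iv F226009)
theorem F235123 : act 3 n52538 = n52538 := d29_1 D52538 (iv D52538) F226010
theorem F235124 : act 5 n52538 = n50538 := d38_1 D52538 (iv D50538) D50537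
def n52539 : Q := act 8 n50538
theorem D52539 : act 8 n50538 = n52539 := rfl
theorem F235125 : act 1 n52539 = n50541 := d15_1 D52539 (iv D50541) (iv F226011)
theorem F235126 : act 2 n52539 = n50584 := d22_1 D52539 (iv D50584) (iv F226012)
theorem F235127 : act 4 n52539 = n50539 := d33_1 D52539 (iv D50539) (iv F226014)
theorem F235128 : act 6 n52539 = n50543 := d40_1 D52539 (iv D50543) (iv F226015)
def n52540 : Q := act 8 n50540
theorem D52540 : act 8 n50540 = n52540 := rfl
theorem F235129 : act 2 n52540 = n50542 := d22_1 D52540 (iv D50542) (iv F226018)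
theorem F235130 : act 5 n52540 = n50541 := d37_1 D52540 (iv D50541) (iv F226020)
def n52541 : Q := act 3 n50541
theorem D52541 : act 3 n50541 = n52541 := rfl
theorem F235131 : act 6 n52541 = n50544 := d26_2 (iv F226023) D52541 (iv D50544)
theorem F235132 : act 8 n52541 = n52541 := d28_2 D50541 D52541 (iv D52541) (iv D50541) F216175
def n52542 : Q := act 3 n50543
theorem D52542 : act 3 n50543 = n52542 := rfl
theorem F235133 : act 1 n52542 = n50544 := d10_1 D52542 (iv D50544) (iv F226026)
theorem F235134 : act 7 n52542 = n52542 := d27_2 F226029 D52542 (iv D52542)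
theorem F235135 : act 8 n52542 = n52542 := d28_2 D50543 D52542 (iv D52542) (iv D50543) F216188
def n52543 : Q := act 9 n50548
theorem D52543 : act 9 n50548 = n52543 := rfl
theorem F235136 : act 3 n52543 = n50549 := d29_1 D52543 (iv D50549) D50548
theorem F235137 : act 5 n52543 = n52543 := d38_1 D52543 (iv D52543) F226043
theorem F235138 : act 7 n52543 = n50553 := d43_1 D52543 (iv D50553) (iv F226044)
def n52544 : Q := act 9 n50551
theorem D52544 : act 9 n50551 = n52544 := rfl
theorem F235139 : act 0 n52544 = n50602 := d8_1 D52544 (iv D50602) (iv F226055)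
theorem F235140 : act 1 n52544 = n50553 := d16_1 D52544 (iv D50553) (iv F226056)
theorem F235141 : act 3 n52544 = n50552 := d29_1 D52544 (iv D50552) D50551
theorem F235142 : act 5 n52544 = n52544 := d38_1 D52544 (iv D52544) F226057
theorem F235143 : act 6 n52544 = n50561 := d41_1 D52544 (iv D50561) (iv F226058)
def n52545 : Q := act 8 n50553
theorem D52545 : act 8 n50553 = n52545 := rfl
theorem F235144 : act 5 n52545 = n52545 := d37_1 D52545 (iv D52545) F226067
def n52546 : Q := act 4 n50557
theorem D52546 : act 4 n50557 = n52546 := rfl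
theorem F235145 : act 0 n52546 = n50596 := d3_1 D52546 (iv D50596) (iv F226087)
theorem F235146 : act 2 n52546 = n50558 := d18_1 D52546 (iv D50558) D50557
def n52547 : Q := act 9 n50557
theorem D52547 : act 9 n50557 = n52547 := rfl
theorem F235147 : act 0 n52547 = n50597 := d8_1 D52547 (iv D50597) (iv F226087)
theorem F235148 : act 2 n52547 = n50559 := d23_1 D52547 (iv D50559) D50557
theorem F235149 : act 3 n52547 = n50717 := d29_1 D52547 (iv D50717) (iv F226088)
theorem F235150 : act 5 n52547 = n50838 := d38_1 D52547 (iv D50838) (iv F226089)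
def n52548 : Q := act 9 n50558
theorem D52548 : act 9 n50558 = n52548 := rfl
theorem F235151 : act 0 n52548 = n50598 := d8_1 D52548 (iv D50598) (iv F226090)
theorem F235152 : act 3 n52548 = n50562 := d29_1 D52548 (iv D50562) (iv F226091)
theorem F235153 : act 4 n52548 = n50559 := d34_1 D52548 (iv D50559) D50558
def n52549 : Q := act 8 n50559
theorem D52549 : act 8 n50559 = n52549 := rfl
theorem F235154 : act 0 n52549 = n50599 := d7_1 D52549 (iv D50599) (iv F226092)
theorem F235155 : act 5 n52549 = n50839 := d37_1 D52549 (iv D50839) (iv F226094)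
def n52550 : Q := act 9 n50560
theorem D52550 : act 9 n50560 = n52550 := rfl
theorem F235156 : act 0 n52550 = n50606 := d8_1 D52550 (iv D50606) (iv F226095)
theorem F235157 : act 4 n52550 = n50561 := d34_1 D52550 (iv D50561) D50560
theorem F235158 : act 7 n52550 = n50562 := d43_1 D52550 (iv D50562) (iv F226096)
def n52551 : Q := act 8 n50561
theorem D52551 : act 8 n50561 = n52551 := rfl
theorem F235159 : act 0 n52551 = n50607 := d7_1 D52551 (iv D50607) (iv F226098)
theorem F235160 : act 5 n52551 = n50564 := d37_1 D52551 (iv D50564) (iv F226100)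
theorem F235161 : act 7 n52551 = n50563 := d42_1 D52551 (iv D50563) (iv F226101)
theorem F235162 : act 9 n52551 = n50572 := d44_2 D50561 D52551 (iv D50572) (iv D48408) (iv F216316)
def n52552 : Q := act 8 n50562
theorem D52552 : act 8 n50562 = n52552 := rfl
theorem F235163 : act 0 n52552 = n50617 := d7_1 D52552 (iv D50617) (iv F226102)
theorem F235164 : act 4 n52552 = n50563 := d33_1 D52552 (iv D50563) (iv F226103)
theorem F235165 : act 9 n52552 = n50579 := d44_2 D50562 D52552 (iv D50579) (iv D48412) (iv F216322)
def n52553 : Q := act 4 n50565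
theorem D52553 : act 4 n50565 = n52553 := rfl
theorem F235166 : act 0 n52553 = n50642 := d3_1 D52553 (iv D50642) (iv F226111)
theorem F235167 : act 2 n52553 = n50566 := d18_1 D52553 (iv D50566) D50565
theorem F235168 : act 6 n52553 = n50569 := d31_2 (iv F226114) D52553 (iv D50569)
def n52554 : Q := act 9 n50565
theorem D52554 : act 9 n50565 = n52554 := rfl
theorem F235169 : act 0 n52554 = n50643 := d8_1 D52554 (iv D50643) (iv F226111)
theorem F235170 : act 2 n52554 = n50567 := d23_1 D52554 (iv D50567) D50565
theorem F235171 : act 3 n52554 = n50586 := d29_1 D52554 (iv D50586) (iv F226112)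
theorem F235172 : act 5 n52554 = n52554 := d38_1 D52554 (iv D52554) F226113
theorem F235173 : act 6 n52554 = n50570 := d41_1 D52554 (iv D50570) (iv F226114)
def n52555 : Q := act 5 n50566
theorem D52555 : act 5 n50566 = n52555 := rfl
theorem F235174 : act 0 n52555 = n50644 := d4_1 D52555 (iv D50644) (iv F226115)
theorem F235175 : act 4 n52555 = n52555 := d30_1 D52555 (iv D52555) (iv D50566) F216334 D50566
def n52556 : Q := act 9 n50566
theorem D52556 : act 9 n50566 = n52556 := rfl
theorem F235176 : act 0 n52556 = n50645 := d8_1 D52556 (iv D50645) (iv F226115)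
theorem F235177 : act 4 n52556 = n50567 := d34_1 D52556 (iv D50567) D50566
theorem F235178 : act 6 n52556 = n50571 := d41_1 D52556 (iv D50571) (iv F226116)
def n52557 : Q := act 8 n50567
theorem D52557 : act 8 n50567 = n52557 := rfl
theorem F235179 : act 0 n52557 = n50646 := d7_1 D52557 (iv D50646) (iv F226117)
theorem F235180 : act 5 n52557 = n52557 := d37_1 D52557 (iv D52557) F226119
theorem F235181 : act 6 n52557 = n50572 := d40_1 D52557 (iv D50572) (iv F226120)
def n52558 : Q := act 4 n50568
theorem D52558 : act 4 n50568 = n52558 := rfl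
theorem F235182 : act 1 n52558 = n50569 := d11_1 D52558 (iv D50569) D50568
theorem F235183 : act 7 n52558 = n50574 := d32_2 (iv F226123) D52558 (iv D50574)
def n52559 : Q := act 9 n50568
theorem D52559 : act 9 n50568 = n52559 := rfl
theorem F235184 : act 1 n52559 = n50570 := d16_1 D52559 (iv D50570) D50568
theorem F235185 : act 3 n52559 = n50587 := d29_1 D52559 (iv D50587) (iv F226121)
theorem F235186 : act 5 n52559 = n50581 := d38_1 D52559 (iv D50581) (iv F226122)
theorem F235187 : act 7 n52559 = n50575 := d43_1 D52559 (iv D50575) (iv F226123)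
def n52560 : Q := act 9 n50569
theorem D52560 : act 9 n50569 = n52560 := rfl
theorem F235188 : act 0 n52560 = n50651 := d8_1 D52560 (iv D50651) (iv F226124)
theorem F235189 : act 2 n52560 = n50571 := d23_1 D52560 (iv D50571) (iv F226125)
theorem F235190 : act 4 n52560 = n50570 := d34_1 D52560 (iv D50570) D50569
theorem F235191 : act 7 n52560 = n50577 := d43_1 D52560 (iv D50577) (iv F226126)
def n52561 : Q := act 8 n50570
theorem D52561 : act 8 n50570 = n52561 := rfl
theorem F235192 : act 0 n52561 = n50652 := d7_1 D52561 (iv D50652) (iv F226127)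
theorem F235193 : act 2 n52561 = n50572 := d22_1 D52561 (iv D50572) (iv F226128)
theorem F235194 : act 5 n52561 = n50582 := d37_1 D52561 (iv D50582) (iv F226130)
theorem F235195 : act 7 n52561 = n50578 := d42_1 D52561 (iv D50578) (iv F226131)
def n52562 : Q := act 8 n50571
theorem D52562 : act 8 n50571 = n52562 := rfl
theorem F235196 : act 0 n52562 = n50655 := d7_1 D52562 (iv D50655) (iv F226132)
theorem F235197 : act 4 n52562 = n50572 := d33_1 D52562 (iv D50572) (iv F226133)
theorem F235198 : act 7 n52562 = n50579 := d42_1 D52562 (iv D50579) (iv F226134)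
def n52563 : Q := act 4 n50573
theorem D52563 : act 4 n50573 = n52563 := rfl
theorem F235199 : act 0 n52563 = n50574 := d3_1 D52563 (iv D50574) D50573
theorem F235200 : act 1 n52563 = n50656 := d11_1 D52563 (iv D50656) (iv F226138)
def n52564 : Q := act 9 n50573
theorem D52564 : act 9 n50573 = n52564 := rfl
theorem F235201 : act 0 n52564 = n50575 := d8_1 D52564 (iv D50575) D50573
theorem F235202 : act 1 n52564 = n50657 := d16_1 D52564 (iv D50657) (iv F226138)
theorem F235203 : act 3 n52564 = n50589 := d29_1 D52564 (iv D50589) (iv F226139)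
theorem F235204 : act 5 n52564 = n50583 := d38_1 D52564 (iv D50583) (iv F226140)
def n52565 : Q := act 3 n50574
theorem D52565 : act 3 n50574 = n52565 := rfl
theorem F235205 : act 1 n52565 = n50576 := d10_1 D52565 (iv D50576) (iv F226141)
theorem F235206 : act 4 n52565 = n50590 := d24_2 D50574 D52565 (iv D50590) (iv D48429) (iv F216350)
def n52566 : Q := act 9 n50574
theorem D52566 : act 9 n50574 = n52566 := rfl
theorem F235207 : act 1 n52566 = n50577 := d16_1 D52566 (iv D50577) (iv F226141)
theorem F235208 : act 4 n52566 = n50575 := d34_1 D52566 (iv D50575) D50574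
def n52567 : Q := act 8 n50575
theorem D52567 : act 8 n50575 = n52567 := rfl
theorem F235209 : act 1 n52567 = n50578 := d15_1 D52567 (iv D50578) (iv F226142)
theorem F235210 : act 5 n52567 = n50584 := d37_1 D52567 (iv D50584) (iv F226144)
def n52568 : Q := act 8 n50576
theorem D52568 : act 8 n50576 = n52568 := rfl
theorem F235211 : act 0 n52568 = n50663 := d7_1 D52568 (iv D50663) (iv F226145)
theorem F235212 : act 4 n52568 = n50592 := d33_1 D52568 (iv D50592) (iv F226146)
def n52569 : Q := act 9 n50576
theorem D52569 : act 9 n50576 = n52569 := rfl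
theorem F235213 : act 0 n52569 = n50664 := d8_1 D52569 (iv D50664) (iv F226145)
theorem F235214 : act 3 n52569 = n50577 := d29_1 D52569 (iv D50577) D50576
theorem F235215 : act 4 n52569 = n50593 := d34_1 D52569 (iv D50593) (iv F226146)
def n52570 : Q := act 8 n50577
theorem D52570 : act 8 n50577 = n52570 := rfl
theorem F235216 : act 0 n52570 = n50667 := d7_1 D52570 (iv D50667) (iv F226147)
theorem F235217 : act 2 n52570 = n50579 := d22_1 D52570 (iv D50579) (iv F226148)
theorem F235218 : act 4 n52570 = n50578 := d33_1 D52570 (iv D50578) (iv F226149)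
def n52571 : Q := act 3 n50579
theorem D52571 : act 3 n50579 = n52571 := rfl
theorem F235219 : act 0 n52571 = n50672 := d2_1 D52571 (iv D50672) (iv F226153)
def n52572 : Q := act 9 n50580
theorem D52572 : act 9 n50580 = n52572 := rfl
theorem F235220 : act 0 n52572 = n50581 := d8_1 D52572 (iv D50581) D50580
theorem F235221 : act 1 n52572 = n50674 := d16_1 D52572 (iv D50674) (iv F226155)
theorem F235222 : act 3 n52572 = n50594 := d29_1 D52572 (iv D50594) (iv F226156)
theorem F235223 : act 6 n52572 = n52572 := d41_1 D52572 (iv D52572) F226157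
theorem F235224 : act 7 n52572 = n50583 := d43_1 D52572 (iv D50583) (iv F226158)
def n52573 : Q := act 8 n50581
theorem D52573 : act 8 n50581 = n52573 := rfl
theorem F235225 : act 1 n52573 = n50582 := d15_1 D52573 (iv D50582) (iv F226159)
theorem F235226 : act 6 n52573 = n52573 := d40_1 D52573 (iv D52573) F226161
theorem F235227 : act 7 n52573 = n50584 := d42_1 D52573 (iv D50584) (iv F226162)
def n52574 : Q := act 8 n50583
theorem D52574 : act 8 n50583 = n52574 := rfl
theorem F235228 : act 0 n52574 = n50584 := d7_1 D52574 (iv D50584) (iv F226167)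
theorem F235229 : act 1 n52574 = n50686 := d15_1 D52574 (iv D50686) (iv F226168)
theorem F235230 : act 6 n52574 = n50585 := d40_1 D52574 (iv D50585) (iv F226170)
def n52575 : Q := act 9 n50590
theorem D52575 : act 9 n50590 = n52575 := rfl
theorem F235231 : act 1 n52575 = n50593 := d16_1 D52575 (iv D50593) (iv F226194)
theorem F235232 : act 3 n52575 = n50591 := d29_1 D52575 (iv D50591) D50590
theorem F235233 : act 5 n52575 = n50793 := d38_1 D52575 (iv D50793) (iv F226195)
def n52576 : Q := act 9 n50592
theorem D52576 : act 9 n50592 = n52576 := rfl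
theorem F235234 : act 0 n52576 = n50711 := d8_1 D52576 (iv D50711) (iv F226200)
theorem F235235 : act 3 n52576 = n50719 := d29_1 D52576 (iv D50719) (iv F226201)
theorem F235236 : act 5 n52576 = n50794 := d38_1 D52576 (iv D50794) (iv F226202)
def n52577 : Q := act 8 n50593
theorem D52577 : act 8 n50593 = n52577 := rfl
theorem F235237 : act 0 n52577 = n50712 := d7_1 D52577 (iv D50712) (iv F226203)
theorem F235238 : act 5 n52577 = n50795 := d37_1 D52577 (iv D50795) (iv F226205)
def n52578 : Q := act 0 n50595
theorem D52578 : act 0 n50595 = n52578 := rfl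
theorem F235239 : act 1 n52578 = n50691 := d0_2 D50595 D52578 (iv F228235) F228236 F226087
theorem F235240 : act 3 n52578 = n50725 := d2_2 (iv F226213) D52578 (iv D50725)
theorem F235241 : act 5 n52578 = n50699 := d4_2 (iv F226214) D52578 F226506
theorem F235242 : act 7 n52578 = n50687 := d6_2 F234134 D52578 (iv F234129)
def n52579 : Q := act 4 n50595
theorem D52579 : act 4 n50595 = n52579 := rfl
theorem F235243 : act 1 n52579 = n50596 := d11_1 D52579 (iv D50596) D50595
def n52580 : Q := act 9 n50595
theorem D52580 : act 9 n50595 = n52580 := rfl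
theorem F235244 : act 1 n52580 = n50597 := d16_1 D52580 (iv D50597) D50595
theorem F235245 : act 3 n52580 = n50727 := d29_1 D52580 (iv D50727) (iv F226213)
theorem F235246 : act 5 n52580 = n50840 := d38_1 D52580 (iv D50840) (iv F226214)
def n52581 : Q := act 3 n50596
theorem D52581 : act 3 n50596 = n52581 := rfl
theorem F235247 : act 2 n52581 = n50611 := d17_1 D52581 (iv D50611) F216477 (iv F216456) (iv F226215)
theorem F235248 : act 4 n52581 = n50728 := d24_2 D50596 D52581 (iv D50728) (iv D48557) (iv F216454)
def n52582 : Q := act 9 n50596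
theorem D52582 : act 9 n50596 = n52582 := rfl
theorem F235249 : act 2 n52582 = n50598 := d23_1 D52582 (iv D50598) (iv F226215)
theorem F235250 : act 4 n52582 = n50597 := d34_1 D52582 (iv D50597) D50596
def n52583 : Q := act 8 n50597
theorem D52583 : act 8 n50597 = n52583 := rfl
theorem F235251 : act 2 n52583 = n50599 := d22_1 D52583 (iv D50599) (iv F226216)
theorem F235252 : act 5 n52583 = n50841 := d37_1 D52583 (iv D50841) (iv F226218)
def n52584 : Q := act 8 n50598
theorem D52584 : act 8 n50598 = n52584 := rfl
theorem F235253 : act 4 n52584 = n50599 := d33_1 D52584 (iv D50599) (iv F226220)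
def n52585 : Q := act 4 n50600
theorem D52585 : act 4 n50600 = n52585 := rfl
theorem F235254 : act 2 n52585 = n50601 := d18_1 D52585 (iv D50601) D50600
theorem F235255 : act 6 n52585 = n50604 := d31_2 (iv F226224) D52585 (iv D50604)
theorem F235256 : act 8 n52585 = n50642 := d33_2 (iv F226225) D52585 (iv D50642)
def n52586 : Q := act 9 n50600
theorem D52586 : act 9 n50600 = n52586 := rfl
theorem F235257 : act 2 n52586 = n50602 := d23_1 D52586 (iv D50602) D50600
theorem F235258 : act 3 n52586 = n50732 := d29_1 D52586 (iv D50732) (iv F226222)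
theorem F235259 : act 5 n52586 = n52586 := d38_1 D52586 (iv D52586) F226223
theorem F235260 : act 6 n52586 = n50605 := d41_1 D52586 (iv D50605) (iv F226224)
def n52587 : Q := act 5 n50601
theorem D52587 : act 5 n50601 = n52587 := rfl
theorem F235261 : act 4 n52587 = n52587 := d30_1 D52587 (iv D52587) (iv D50601) F216459 D50601
theorem F235262 : act 8 n52587 = n50644 := d37_2 (iv F226227) D52587 (iv D50644)
def n52588 : Q := act 9 n50601
theorem D52588 : act 9 n50601 = n52588 := rfl
theorem F235263 : act 4 n52588 = n50602 := d34_1 D52588 (iv D50602) D50601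
theorem F235264 : act 6 n52588 = n50606 := d41_1 D52588 (iv D50606) (iv F226226)
def n52589 : Q := act 8 n50602
theorem D52589 : act 8 n50602 = n52589 := rfl
theorem F235265 : act 5 n52589 = n52589 := d37_1 D52589 (iv D52589) F226229
theorem F235266 : act 6 n52589 = n50607 := d40_1 D52589 (iv D50607) (iv F226230)
theorem F235267 : act 9 n52589 = n50646 := d44_2 D50602 D52589 (iv D50646) (iv D48476) (iv F216461)
def n52590 : Q := act 4 n50603
theorem D52590 : act 4 n50603 = n52590 := rfl
theorem F235268 : act 1 n52590 = n50604 := d11_1 D52590 (iv D50604) D50603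
theorem F235269 : act 7 n52590 = n50609 := d32_2 (iv F226233) D52590 (iv D50609)
theorem F235270 : act 8 n52590 = n50647 := d33_2 (iv F226234) D52590 (iv D50647)
def n52591 : Q := act 9 n50603
theorem D52591 : act 9 n50603 = n52591 := rfl
theorem F235271 : act 1 n52591 = n50605 := d16_1 D52591 (iv D50605) D50603
theorem F235272 : act 3 n52591 = n50733 := d29_1 D52591 (iv D50733) (iv F226231)
theorem F235273 : act 5 n52591 = n50620 := d38_1 D52591 (iv D50620) (iv F226232)
theorem F235274 : act 7 n52591 = n50610 := d43_1 D52591 (iv D50610) (iv F226233)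
def n52592 : Q := act 3 n50604
theorem D52592 : act 3 n50604 = n52592 := rfl
theorem F235275 : act 4 n52592 = n50734 := d24_2 D50604 D52592 (iv D50734) (iv D48564) (iv F216465)
theorem F235276 : act 7 n52592 = n50611 := d27_2 (iv F226236) D52592 (iv D50611)
def n52593 : Q := act 9 n50604
theorem D52593 : act 9 n50604 = n52593 := rfl
theorem F235277 : act 2 n52593 = n50606 := d23_1 D52593 (iv D50606) (iv F226235)
theorem F235278 : act 4 n52593 = n50605 := d34_1 D52593 (iv D50605) D50604
theorem F235279 : act 7 n52593 = n50613 := d43_1 D52593 (iv D50613) (iv F226236)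
def n52594 : Q := act 8 n50605
theorem D52594 : act 8 n50605 = n52594 := rfl
theorem F235280 : act 2 n52594 = n50607 := d22_1 D52594 (iv D50607) (iv F226238)
theorem F235281 : act 5 n52594 = n50622 := d37_1 D52594 (iv D50622) (iv F226240)
theorem F235282 : act 7 n52594 = n50614 := d42_1 D52594 (iv D50614) (iv F226241)
theorem F235283 : act 9 n52594 = n50652 := d44_2 D50605 D52594 (iv D50652) (iv D48479) (iv F216468)
def n52595 : Q := act 8 n50606
theorem D52595 : act 8 n50606 = n52595 := rfl
theorem F235284 : act 4 n52595 = n50607 := d33_1 D52595 (iv D50607) (iv F226242)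
theorem F235285 : act 7 n52595 = n50617 := d42_1 D52595 (iv D50617) (iv F226243)
theorem F235286 : act 9 n52595 = n50655 := d44_2 D50606 D52595 (iv D50655) (iv D48481) (iv F216470)
def n52596 : Q := act 4 n50608
theorem D52596 : act 4 n50608 = n52596 := rfl
theorem F235287 : act 0 n52596 = n50609 := d3_1 D52596 (iv D50609) D50608
theorem F235288 : act 8 n52596 = n50656 := d33_2 (iv F226249) D52596 (iv D50656)
def n52597 : Q := act 9 n50608
theorem D52597 : act 9 n50608 = n52597 := rfl
theorem F235289 : act 0 n52597 = n50610 := d8_1 D52597 (iv D50610) D50608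
theorem F235290 : act 3 n52597 = n50736 := d29_1 D52597 (iv D50736) (iv F226247)
theorem F235291 : act 5 n52597 = n50624 := d38_1 D52597 (iv D50624) (iv F226248)
def n52598 : Q := act 3 n50609
theorem D52598 : act 3 n50609 = n52598 := rfl
theorem F235292 : act 1 n52598 = n50611 := d10_1 D52598 (iv D50611) (iv F226250)
theorem F235293 : act 4 n52598 = n50737 := d24_2 D50609 D52598 (iv D50737) (iv D48568) (iv F216474)
def n52599 : Q := act 5 n50609
theorem D52599 : act 5 n50609 = n52599 := rfl
theorem F235294 : act 1 n52599 = n50612 := d12_1 D52599 (iv D50612) (iv F226250)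
theorem F235295 : act 4 n52599 = n50625 := d30_1 D52599 (iv D50625) (iv D48457) (iv F216475) D50609
theorem F235296 : act 8 n52599 = n50659 := d37_2 (iv F226251) D52599 (iv D50659)
def n52600 : Q := act 9 n50609
theorem D52600 : act 9 n50609 = n52600 := rfl
theorem F235297 : act 1 n52600 = n50613 := d16_1 D52600 (iv D50613) (iv F226250)
theorem F235298 : act 4 n52600 = n50610 := d34_1 D52600 (iv D50610) D50609
def n52601 : Q := act 8 n50610
theorem D52601 : act 8 n50610 = n52601 := rfl
theorem F235299 : act 1 n52601 = n50614 := d15_1 D52601 (iv D50614) (iv F226252)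
theorem F235300 : act 5 n52601 = n50627 := d37_1 D52601 (iv D50627) (iv F226254)
theorem F235301 : act 9 n52601 = n50661 := d44_2 D50610 D52601 (iv D50661) (iv D48485) (iv F216476)
def n52602 : Q := act 5 n50611
theorem D52602 : act 5 n50611 = n52602 := rfl
theorem F235302 : act 3 n52602 = n50612 := d25_1 D52602 (iv D50612) D50611
theorem F235303 : act 4 n52602 = n52602 := d30_1 D52602 (iv D52602) F226255 F216860 (iv F226255)
def n52603 : Q := act 8 n50611
theorem D52603 : act 8 n50611 = n52603 := rfl
theorem F235304 : act 3 n52603 = n50663 := d28_1 D52603 (iv D50663) (iv D48486) (iv F216478) D50611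
theorem F235305 : act 4 n52603 = n50739 := d33_1 D52603 (iv D50739) (iv F226255)
def n52604 : Q := act 9 n50611
theorem D52604 : act 9 n50611 = n52604 := rfl
theorem F235306 : act 3 n52604 = n50613 := d29_1 D52604 (iv D50613) D50611
theorem F235307 : act 4 n52604 = n50740 := d34_1 D52604 (iv D50740) (iv F226255)
def n52605 : Q := act 6 n50612
theorem D52605 : act 6 n50612 = n52605 := rfl
theorem F235308 : act 2 n52605 = n50615 := d20_1 D52605 (iv D50615) (iv F226256)
theorem F235309 : act 4 n52605 = n50628 := d31_1 D52605 (iv D50628) (iv F226257)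
theorem F235310 : act 8 n52605 = n50665 := d40_2 (iv F226258) D52605 (iv D50665)
def n52606 : Q := act 9 n50612
theorem D52606 : act 9 n50612 = n52606 := rfl
theorem F235311 : act 2 n52606 = n50616 := d23_1 D52606 (iv D50616) (iv F226256)
theorem F235312 : act 4 n52606 = n50629 := d34_1 D52606 (iv D50629) (iv F226257)
theorem F235313 : act 5 n52606 = n50613 := d38_1 D52606 (iv D50613) D50612
def n52607 : Q := act 8 n50613
theorem D52607 : act 8 n50613 = n52607 := rfl
theorem F235314 : act 2 n52607 = n50617 := d22_1 D52607 (iv D50617) (iv F226259)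
theorem F235315 : act 4 n52607 = n50614 := d33_1 D52607 (iv D50614) (iv F226260)
theorem F235316 : act 9 n52607 = n50667 := d44_2 D50613 D52607 (iv D50667) (iv D48488) (iv F216478)
def n52608 : Q := act 7 n50615
theorem D52608 : act 7 n50615 = n52608 := rfl
theorem F235317 : act 4 n52608 = n50631 := d32_1 D52608 (iv D50631) (iv F226264)
theorem F235318 : act 8 n52608 = n50669 := d42_2 (iv F226265) D52608 (iv D50669)
def n52609 : Q := act 9 n50615
theorem D52609 : act 9 n50615 = n52609 := rfl
theorem F235319 : act 4 n52609 = n50632 := d34_1 D52609 (iv D50632) (iv F226264)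
theorem F235320 : act 6 n52609 = n50616 := d41_1 D52609 (iv D50616) D50615
def n52610 : Q := act 8 n50616
theorem D52610 : act 8 n50616 = n52610 := rfl
theorem F235321 : act 4 n52610 = n50633 := d33_1 D52610 (iv D50633) (iv F226266)
theorem F235322 : act 5 n52610 = n50617 := d37_1 D52610 (iv D50617) (iv F226267)
theorem F235323 : act 9 n52610 = n50671 := d44_2 D50616 D52610 (iv D50671) (iv D48491) (iv F216483)
def n52611 : Q := act 3 n50617
theorem D52611 : act 3 n50617 = n52611 := rfl
theorem F235324 : act 9 n52611 = n50672 := d29_2 (iv F226269) D52611 (iv D50672)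
def n52612 : Q := act 9 n50618
theorem D52612 : act 9 n50618 = n52612 := rfl
theorem F235325 : act 0 n52612 = n50620 := d8_1 D52612 (iv D50620) D50618
theorem F235326 : act 3 n52612 = n50741 := d29_1 D52612 (iv D50741) (iv F226270)
theorem F235327 : act 6 n52612 = n52612 := d41_1 D52612 (iv D52612) F226271
theorem F235328 : act 7 n52612 = n50624 := d43_1 D52612 (iv D50624) (iv F226272)
def n52613 : Q := act 9 n50619
theorem D52613 : act 9 n50619 = n52613 := rfl
theorem F235329 : act 1 n52613 = n50621 := d16_1 D52613 (iv D50621) (iv F226274)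
theorem F235330 : act 2 n52613 = n50840 := d23_1 D52613 (iv D50840) (iv F226275)
theorem F235331 : act 3 n52613 = n52613 := d29_1 D52613 (iv D52613) F226276
theorem F235332 : act 4 n52613 = n50620 := d34_1 D52613 (iv D50620) D50619
theorem F235333 : act 6 n52613 = n52613 := d41_1 D52613 (iv D52613) F226277
theorem F235334 : act 7 n52613 = n50626 := d43_1 D52613 (iv D50626) (iv F226278)
def n52614 : Q := act 8 n50620
theorem D52614 : act 8 n50620 = n52614 := rfl
theorem F235335 : act 1 n52614 = n50622 := d15_1 D52614 (iv D50622) (iv F226280)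
theorem F235336 : act 3 n52614 = n50836 := d28_1 D52614 (iv D50836) F217496 (iv F216874) (iv F226281)
theorem F235337 : act 6 n52614 = n52614 := d40_1 D52614 (iv D52614) F226282
theorem F235338 : act 7 n52614 = n50627 := d42_1 D52614 (iv D50627) (iv F226283)
theorem F235339 : act 9 n52614 = n50677 := d44_2 D50620 D52614 (iv D50677) (iv D48495) (iv F216490)
def n52615 : Q := act 8 n50621
theorem D52615 : act 8 n50621 = n52615 := rfl
theorem F235340 : act 2 n52615 = n50623 := d22_1 D52615 (iv D50623) (iv F226284)
theorem F235341 : act 4 n52615 = n50622 := d33_1 D52615 (iv D50622) (iv F226286)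
theorem F235342 : act 6 n52615 = n52615 := d40_1 D52615 (iv D52615) F226287
theorem F235343 : act 7 n52615 = n50630 := d42_1 D52615 (iv D50630) (iv F226288)
theorem F235344 : act 9 n52615 = n50679 := d44_2 D50621 D52615 (iv D50679) (iv D48497) (iv F216495)
def n52616 : Q := act 8 n50624
theorem D52616 : act 8 n50624 = n52616 := rfl
theorem F235345 : act 0 n52616 = n50627 := d7_1 D52616 (iv D50627) (iv F226298)
theorem F235346 : act 6 n52616 = n50634 := d40_1 D52616 (iv D50634) (iv F226300)
theorem F235347 : act 9 n52616 = n50686 := d44_2 D50624 D52616 (iv D50686) (iv D48503) (iv F216510)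
def n52617 : Q := act 9 n50625
theorem D52617 : act 9 n50625 = n52617 := rfl
theorem F235348 : act 1 n52617 = n50629 := d16_1 D52617 (iv D50629) (iv F226301)
theorem F235349 : act 3 n52617 = n52617 := d29_1 D52617 (iv D52617) F226302
theorem F235350 : act 5 n52617 = n50626 := d38_1 D52617 (iv D50626) D50625
def n52618 : Q := act 8 n50626
theorem D52618 : act 8 n50626 = n52618 := rfl
theorem F235351 : act 1 n52618 = n50630 := d15_1 D52618 (iv D50630) (iv F226304)
theorem F235352 : act 4 n52618 = n50627 := d33_1 D52618 (iv D50627) (iv F226306)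
theorem F235353 : act 6 n52618 = n50635 := d40_1 D52618 (iv D50635) (iv F226307)
theorem F235354 : act 9 n52618 = n50689 := d44_2 D50626 D52618 (iv D50689) (iv D48505) (iv F216514)
def n52619 : Q := act 7 n50628
theorem D52619 : act 7 n50628 = n52619 := rfl
theorem F235355 : act 2 n52619 = n50631 := d21_1 D52619 (iv D50631) (iv F226311)
theorem F235356 : act 3 n52619 = n52619 := d27_1 D52619 (iv D52619) F226312
theorem F235357 : act 5 n52619 = n50636 := d36_1 D52619 (iv D50636) (iv F226313)
theorem F235358 : act 8 n52619 = n50691 := d42_2 (iv F226314) D52619 (iv D50691)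
def n52620 : Q := act 9 n50628
theorem D52620 : act 9 n50628 = n52620 := rfl
theorem F235359 : act 2 n52620 = n50632 := d23_1 D52620 (iv D50632) (iv F226311)
theorem F235360 : act 3 n52620 = n52620 := d29_1 D52620 (iv D52620) F226312
theorem F235361 : act 5 n52620 = n50637 := d38_1 D52620 (iv D50637) (iv F226313)
theorem F235362 : act 6 n52620 = n50629 := d41_1 D52620 (iv D50629) D50628
def n52621 : Q := act 8 n50629
theorem D52621 : act 8 n50629 = n52621 := rfl
theorem F235363 : act 2 n52621 = n50633 := d22_1 D52621 (iv D50633) (iv F226315)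
theorem F235364 : act 5 n52621 = n50630 := d37_1 D52621 (iv D50630) (iv F226317)
theorem F235365 : act 9 n52621 = n50693 := d44_2 D50629 D52621 (iv D50693) (iv D48508) (iv F216520)
def n52622 : Q := act 3 n50630
theorem D52622 : act 3 n50630 = n52622 := rfl
theorem F235366 : act 6 n52622 = n50639 := d26_2 (iv F226320) D52622 (iv D50639)
theorem F235367 : act 8 n52622 = n52622 := d28_2 D50630 D52622 (iv D52622) (iv D50630) F216522
theorem F235368 : act 9 n52622 = n50694 := d29_2 (iv F226321) D52622 (iv D50694)
def n52623 : Q := act 9 n50631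
theorem D52623 : act 9 n50631 = n52623 := rfl
theorem F235369 : act 3 n52623 = n50842 := d29_1 D52623 (iv D50842) (iv F226322)
theorem F235370 : act 5 n52623 = n50640 := d38_1 D52623 (iv D50640) (iv F226323)
theorem F235371 : act 7 n52623 = n50632 := d43_1 D52623 (iv D50632) D50631
def n52624 : Q := act 8 n50632
theorem D52624 : act 8 n50632 = n52624 := rfl
theorem F235372 : act 5 n52624 = n50641 := d37_1 D52624 (iv D50641) (iv F226326)
theorem F235373 : act 6 n52624 = n50633 := d40_1 D52624 (iv D50633) (iv F226327)
theorem F235374 : act 9 n52624 = n50697 := d44_2 D50632 D52624 (iv D50697) (iv D48512) (iv F216530)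
def n52625 : Q := act 3 n50635
theorem D52625 : act 3 n50635 = n52625 := rfl
theorem F235375 : act 1 n52625 = n50639 := d10_1 D52625 (iv D50639) (iv F226333)
theorem F235376 : act 7 n52625 = n52625 := d27_2 F226335 D52625 (iv D52625)
theorem F235377 : act 8 n52625 = n52625 := d28_2 D50635 D52625 (iv D52625) (iv D50635) F216540
theorem F235378 : act 9 n52625 = n50702 := d29_2 (iv F226336) D52625 (iv D50702)
def n52626 : Q := act 9 n50636
theorem D52626 : act 9 n50636 = n52626 := rfl
theorem F235379 : act 2 n52626 = n50640 := d23_1 D52626 (iv D50640) (iv F226337)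
theorem F235380 : act 3 n52626 = n52626 := d29_1 D52626 (iv D52626) F226338
theorem F235381 : act 6 n52626 = n52626 := d41_1 D52626 (iv D52626) F226339
theorem F235382 : act 7 n52626 = n50637 := d43_1 D52626 (iv D50637) D50636
def n52627 : Q := act 8 n50637
theorem D52627 : act 8 n50637 = n52627 := rfl
theorem F235383 : act 2 n52627 = n50641 := d22_1 D52627 (iv D50641) (iv F226341)
theorem F235384 : act 6 n52627 = n50638 := d40_1 D52627 (iv D50638) (iv F226343)
theorem F235385 : act 9 n52627 = n50704 := d44_2 D50637 D52627 (iv D50704) (iv D48521) (iv F216548)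
def n52628 : Q := act 3 n50638
theorem D52628 : act 3 n50638 = n52628 := rfl
theorem F235386 : act 5 n52628 = n50639 := d25_2 (iv F226345) D52628 (iv D50639)
theorem F235387 : act 7 n52628 = n52628 := d27_2 F226346 D52628 (iv D52628)
theorem F235388 : act 8 n52628 = n52628 := d28_2 D50638 D52628 (iv D52628) (iv D50638) F216550
theorem F235389 : act 9 n52628 = n50705 := d29_2 (iv F226347) D52628 (iv D50705)
def n52629 : Q := act 8 n50640
theorem D52629 : act 8 n50640 = n52629 := rfl
theorem F235390 : act 6 n52629 = n52629 := d40_1 D52629 (iv D52629) F226352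
theorem F235391 : act 7 n52629 = n50641 := d42_1 D52629 (iv D50641) (iv F226353)
theorem F235392 : act 9 n52629 = n50707 := d44_2 D50640 D52629 (iv D50707) (iv D48525) (iv F216559)
def n52630 : Q := act 5 n50642
theorem D52630 : act 5 n50642 = n52630 := rfl
theorem F235393 : act 2 n52630 = n50644 := d19_1 D52630 (iv D50644) (iv F226356)
theorem F235394 : act 4 n52630 = n52630 := d30_1 D52630 (iv D52630) (iv D50642) F216566 D50642
def n52631 : Q := act 9 n50642
theorem D52631 : act 9 n50642 = n52631 := rfl
theorem F235395 : act 2 n52631 = n50645 := d23_1 D52631 (iv D50645) (iv F226356)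
theorem F235396 : act 4 n52631 = n50643 := d34_1 D52631 (iv D50643) D50642
theorem F235397 : act 6 n52631 = n50651 := d41_1 D52631 (iv D50651) (iv F226357)
def n52632 : Q := act 8 n50643
theorem D52632 : act 8 n50643 = n52632 := rfl
theorem F235398 : act 2 n52632 = n50646 := d22_1 D52632 (iv D50646) (iv F226358)
theorem F235399 : act 5 n52632 = n52632 := d37_1 D52632 (iv D52632) F226360
theorem F235400 : act 6 n52632 = n50652 := d40_1 D52632 (iv D50652) (iv F226361)
def n52633 : Q := act 6 n50644
theorem D52633 : act 6 n50644 = n52633 := rfl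
theorem F235401 : act 4 n52633 = n52633 := d31_1 D52633 (iv D52633) F226362
theorem F235402 : act 5 n52633 = n50653 := d35_1 D52633 (iv D50653) (iv D48480) (iv F216568) D50644
def n52634 : Q := act 9 n50644
theorem D52634 : act 9 n50644 = n52634 := rfl
theorem F235403 : act 4 n52634 = n52634 := d34_1 D52634 (iv D52634) F226362
theorem F235404 : act 5 n52634 = n50645 := d38_1 D52634 (iv D50645) D50644
def n52635 : Q := act 8 n50645
theorem D52635 : act 8 n50645 = n52635 := rfl
theorem F235405 : act 4 n52635 = n50646 := d33_1 D52635 (iv D50646) (iv F226363)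
theorem F235406 : act 6 n52635 = n50655 := d40_1 D52635 (iv D50655) (iv F226364)
def n52636 : Q := act 5 n50647
theorem D52636 : act 5 n50647 = n52636 := rfl
theorem F235407 : act 1 n52636 = n50650 := d12_1 D52636 (iv D50650) (iv F226367)
theorem F235408 : act 3 n52636 = n50743 := d25_1 D52636 (iv D50743) (iv F226368)
theorem F235409 : act 4 n52636 = n50675 := d30_1 D52636 (iv D50675) (iv D48494) (iv F216573) D50647
theorem F235410 : act 7 n52636 = n50659 := d36_2 (iv F226369) D52636 (iv D50659)
def n52637 : Q := act 9 n50647
theorem D52637 : act 9 n50647 = n52637 := rfl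
theorem F235411 : act 1 n52637 = n50651 := d16_1 D52637 (iv D50651) (iv F226367)
theorem F235412 : act 3 n52637 = n50713 := d29_1 D52637 F226548 (iv F226368)
theorem F235413 : act 4 n52637 = n50648 := d34_1 D52637 (iv D50648) D50647
theorem F235414 : act 7 n52637 = n50660 := d43_1 D52637 (iv D50660) (iv F226369)
def n52638 : Q := act 8 n50648
theorem D52638 : act 8 n50648 = n52638 := rfl
theorem F235415 : act 1 n52638 = n50652 := d15_1 D52638 (iv D50652) (iv F226370)
theorem F235416 : act 3 n52638 = n50712 := d28_1 D52638 (iv D50712) F216742 (iv F216718) (iv F226371)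
theorem F235417 : act 5 n52638 = n50677 := d37_1 D52638 (iv D50677) (iv F226372)
theorem F235418 : act 7 n52638 = n50661 := d42_1 D52638 (iv D50661) (iv F226373)
def n52639 : Q := act 9 n50649
theorem D52639 : act 9 n50649 = n52639 := rfl
theorem F235419 : act 1 n52639 = n50713 := d16_1 D52639 F226548 (iv F226374)
theorem F235420 : act 3 n52639 = n50651 := d29_1 D52639 (iv D50651) D50649
theorem F235421 : act 4 n52639 = n50709 := d34_1 D52639 (iv D50709) (iv F226375)
theorem F235422 : act 7 n52639 = n50664 := d43_1 D52639 (iv D50664) (iv F226376)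
def n52640 : Q := act 9 n50650
theorem D52640 : act 9 n50650 = n52640 := rfl
theorem F235423 : act 2 n52640 = n50654 := d23_1 D52640 (iv D50654) (iv F226377)
theorem F235424 : act 4 n52640 = n50678 := d34_1 D52640 (iv D50678) (iv F226378)
theorem F235425 : act 5 n52640 = n50651 := d38_1 D52640 (iv D50651) D50650
theorem F235426 : act 7 n52640 = n50666 := d43_1 D52640 (iv D50666) (iv F226379)
def n52641 : Q := act 8 n50651
theorem D52641 : act 8 n50651 = n52641 := rfl
theorem F235427 : act 2 n52641 = n50655 := d22_1 D52641 (iv D50655) (iv F226380)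
theorem F235428 : act 4 n52641 = n50652 := d33_1 D52641 (iv D50652) (iv F226381)
theorem F235429 : act 7 n52641 = n50667 := d42_1 D52641 (iv D50667) (iv F226382)
def n52642 : Q := act 3 n50652
theorem D52642 : act 3 n50652 = n52642 := rfl
theorem F235430 : act 1 n52642 = n50712 := d10_1 D52642 (iv F235416) F235415
theorem F235431 : act 5 n52642 = n50680 := d25_2 (iv F226384) D52642 (iv D50680)
theorem F235432 : act 7 n52642 = n50668 := d27_2 (iv F226385) D52642 (iv D50668)
theorem F235433 : act 8 n52642 = n50710 := d28_2 D50652 D52642 (iv D50710) (iv D48534) (iv F216578)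
def n52643 : Q := act 7 n50653
theorem D52643 : act 7 n50653 = n52643 := rfl
theorem F235434 : act 4 n52643 = n50681 := d32_1 D52643 (iv D50681) (iv F226386)
theorem F235435 : act 6 n52643 = n50669 := d39_1 D52643 (iv D50669) (iv D48490) (iv F216582) D50653
def n52644 : Q := act 9 n50653
theorem D52644 : act 9 n50653 = n52644 := rfl
theorem F235436 : act 4 n52644 = n50682 := d34_1 D52644 (iv D50682) (iv F226386)
theorem F235437 : act 6 n52644 = n50654 := d41_1 D52644 (iv D50654) D50653
def n52645 : Q := act 8 n50654
theorem D52645 : act 8 n50654 = n52645 := rfl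
theorem F235438 : act 4 n52645 = n50683 := d33_1 D52645 (iv D50683) (iv F226387)
theorem F235439 : act 5 n52645 = n50655 := d37_1 D52645 (iv D50655) (iv F226388)
theorem F235440 : act 7 n52645 = n50671 := d42_1 D52645 (iv D50671) (iv F226389)
def n52646 : Q := act 3 n50655
theorem D52646 : act 3 n50655 = n52646 := rfl
theorem F235441 : act 7 n52646 = n50672 := d27_2 (iv F226391) D52646 (iv D50672)
def n52647 : Q := act 5 n50656
theorem D52647 : act 5 n50656 = n52647 := rfl
theorem F235442 : act 0 n52647 = n50659 := d4_1 D52647 (iv D50659) (iv F226392)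
theorem F235443 : act 4 n52647 = n50684 := d30_1 D52647 (iv D50684) (iv D48502) (iv F216588) D50656
def n52648 : Q := act 9 n50656
theorem D52648 : act 9 n50656 = n52648 := rfl
theorem F235444 : act 0 n52648 = n50660 := d8_1 D52648 (iv D50660) (iv F226392)
theorem F235445 : act 4 n52648 = n50657 := d34_1 D52648 (iv D50657) D50656
def n52649 : Q := act 8 n50657
theorem D52649 : act 8 n50657 = n52649 := rfl
theorem F235446 : act 0 n52649 = n50661 := d7_1 D52649 (iv D50661) (iv F226393)
theorem F235447 : act 5 n52649 = n50686 := d37_1 D52649 (iv D50686) (iv F226395)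
def n52650 : Q := act 5 n50658
theorem D52650 : act 5 n50658 = n52650 := rfl
theorem F235448 : act 1 n52650 = n50662 := d12_1 D52650 (iv D50662) (iv F226396)
theorem F235449 : act 3 n52650 = n50659 := d25_1 D52650 (iv D50659) D50658
theorem F235450 : act 4 n52650 = n50744 := d30_1 D52650 (iv D50744) (iv D48578) (iv F216738) (iv F226397)
theorem F235451 : act 7 n52650 = n50743 := d36_2 (iv F226398) D52650 (iv D50743)
def n52651 : Q := act 9 n50658
theorem D52651 : act 9 n50658 = n52651 := rfl
theorem F235452 : act 1 n52651 = n50664 := d16_1 D52651 (iv D50664) (iv F226396)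
theorem F235453 : act 3 n52651 = n50660 := d29_1 D52651 (iv D50660) D50658
theorem F235454 : act 4 n52651 = n50710 := d34_1 D52651 F226544 (iv F226397)
theorem F235455 : act 7 n52651 = n50713 := d43_1 D52651 F226548 (iv F226398)
def n52652 : Q := act 6 n50659
theorem D52652 : act 6 n50659 = n52652 := rfl
theorem F235456 : act 1 n52652 = n50665 := d13_1 D52652 (iv D50665) (iv F226399)
theorem F235457 : act 4 n52652 = n50687 := d31_1 D52652 (iv D50687) (iv F226400)
def n52653 : Q := act 9 n50659
theorem D52653 : act 9 n50659 = n52653 := rfl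
theorem F235458 : act 1 n52653 = n50666 := d16_1 D52653 (iv D50666) (iv F226399)
theorem F235459 : act 4 n52653 = n50688 := d34_1 D52653 (iv D50688) (iv F226400)
theorem F235460 : act 5 n52653 = n50660 := d38_1 D52653 (iv D50660) D50659
def n52654 : Q := act 8 n50660
theorem D52654 : act 8 n50660 = n52654 := rfl
theorem F235461 : act 1 n52654 = n50667 := d15_1 D52654 (iv D50667) (iv F226401)
theorem F235462 : act 4 n52654 = n50661 := d33_1 D52654 (iv D50661) (iv F226402)
def n52655 : Q := act 3 n50661
theorem D52655 : act 3 n50661 = n52655 := rfl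
theorem F235463 : act 1 n52655 = n50668 := d10_1 D52655 (iv D50668) (iv F226403)
theorem F235464 : act 5 n52655 = n50690 := d25_2 (iv F226404) D52655 (iv D50690)
theorem F235465 : act 7 n52655 = n50712 := d27_2 F235418 D52655 (iv F235416)
theorem F235466 : act 8 n52655 = n50709 := d28_2 D50661 D52655 F226538 F216727 (iv F216591)
def n52656 : Q := act 6 n50662
theorem D52656 : act 6 n50662 = n52656 := rfl
theorem F235467 : act 3 n52656 = n50665 := d26_1 D52656 (iv D50665) (iv F226405)
theorem F235468 : act 4 n52656 = n50803 := d31_1 D52656 (iv D50803) (iv F226406)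
def n52657 : Q := act 8 n50662
theorem D52657 : act 8 n50662 = n52657 := rfl
theorem F235469 : act 4 n52657 = n50804 := d33_1 D52657 (iv D50804) (iv F226406)
theorem F235470 : act 5 n52657 = n50663 := d37_1 D52657 (iv D50663) D50662
def n52658 : Q := act 9 n50662
theorem D52658 : act 9 n50662 = n52658 := rfl
theorem F235471 : act 3 n52658 = n50666 := d29_1 D52658 (iv D50666) (iv F226405)
theorem F235472 : act 4 n52658 = n50805 := d34_1 D52658 (iv D50805) (iv F226406)
theorem F235473 : act 5 n52658 = n50664 := d38_1 D52658 (iv D50664) D50662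
def n52659 : Q := act 9 n50663
theorem D52659 : act 9 n50663 = n52659 := rfl
theorem F235474 : act 4 n52659 = n50711 := d34_1 D52659 (iv D50711) (iv F226407)
def n52660 : Q := act 8 n50664
theorem D52660 : act 8 n50664 = n52660 := rfl
theorem F235475 : act 4 n52660 = n50712 := d33_1 D52660 (iv D50712) (iv F226409)
def n52661 : Q := act 7 n50665
theorem D52661 : act 7 n50665 = n52661 := rfl
theorem F235476 : act 2 n52661 = n50669 := d21_1 D52661 (iv D50669) (iv F226410)
theorem F235477 : act 4 n52661 = n50691 := d32_1 D52661 (iv D50691) (iv F226411)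
def n52662 : Q := act 9 n50665
theorem D52662 : act 9 n50665 = n52662 := rfl
theorem F235478 : act 2 n52662 = n50670 := d23_1 D52662 (iv D50670) (iv F226410)
theorem F235479 : act 4 n52662 = n50692 := d34_1 D52662 (iv D50692) (iv F226411)
theorem F235480 : act 6 n52662 = n50666 := d41_1 D52662 (iv D50666) D50665
def n52663 : Q := act 8 n50666
theorem D52663 : act 8 n50666 = n52663 := rfl
theorem F235481 : act 2 n52663 = n50671 := d22_1 D52663 (iv D50671) (iv F226412)
theorem F235482 : act 4 n52663 = n50693 := d33_1 D52663 (iv D50693) (iv F226413)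
theorem F235483 : act 5 n52663 = n50667 := d37_1 D52663 (iv D50667) (iv F226414)
def n52664 : Q := act 3 n50667
theorem D52664 : act 3 n50667 = n52664 := rfl
def n52665 : Q := act 4 n50668
theorem D52665 : act 4 n50668 = n52665 := rfl
theorem F235484 : act 8 n52665 = n50713 := d33_2 (iv F226418) D52665 (iv D50713)
def n52666 : Q := act 9 n50669
theorem D52666 : act 9 n50669 = n52666 := rfl
theorem F235485 : act 4 n52666 = n50696 := d34_1 D52666 (iv D50696) (iv F226419)
theorem F235486 : act 7 n52666 = n50670 := d43_1 D52666 (iv D50670) D50669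
def n52667 : Q := act 8 n50670
theorem D52667 : act 8 n50670 = n52667 := rfl
theorem F235487 : act 4 n52667 = n50697 := d33_1 D52667 (iv D50697) (iv F226420)
theorem F235488 : act 6 n52667 = n50671 := d40_1 D52667 (iv D50671) (iv F226421)
def n52668 : Q := act 3 n50671
theorem D52668 : act 3 n50671 = n52668 := rfl
theorem F235489 : act 5 n52668 = n50672 := d25_2 (iv F226423) D52668 (iv D50672)
def n52669 : Q := act 2 n50672
theorem D52669 : act 2 n50672 = n52669 := rfl
def n52670 : Q := act 5 n50673
theorem D52670 : act 5 n50673 = n52670 := rfl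
theorem F235490 : act 0 n52670 = n50675 := d4_1 D52670 (iv D50675) (iv F226424)
theorem F235491 : act 3 n52670 = n50815 := d25_1 D52670 (iv D50815) (iv F226425)
theorem F235492 : act 7 n52670 = n50684 := d36_2 (iv F226427) D52670 (iv D50684)
def n52671 : Q := act 9 n50673
theorem D52671 : act 9 n50673 = n52671 := rfl
theorem F235493 : act 0 n52671 = n50676 := d8_1 D52671 (iv D50676) (iv F226424)
theorem F235494 : act 3 n52671 = n50796 := d29_1 D52671 F226890 (iv F226425)
theorem F235495 : act 4 n52671 = n50674 := d34_1 D52671 (iv D50674) D50673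
theorem F235496 : act 6 n52671 = n52671 := d41_1 D52671 (iv D52671) F226426
theorem F235497 : act 7 n52671 = n50685 := d43_1 D52671 (iv D50685) (iv F226427)
def n52672 : Q := act 8 n50674
theorem D52672 : act 8 n50674 = n52672 := rfl
theorem F235498 : act 0 n52672 = n50677 := d7_1 D52672 (iv D50677) (iv F226428)
theorem F235499 : act 3 n52672 = n50795 := d28_1 D52672 (iv D50795) F217281 (iv F216751) (iv F226429)
theorem F235500 : act 6 n52672 = n52672 := d40_1 D52672 (iv D52672) F226430
theorem F235501 : act 7 n52672 = n50686 := d42_1 D52672 (iv D50686) (iv F226431)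
def n52673 : Q := act 9 n50675
theorem D52673 : act 9 n50675 = n52673 := rfl
theorem F235502 : act 1 n52673 = n50678 := d16_1 D52673 (iv D50678) (iv F226432)
theorem F235503 : act 3 n52673 = n50816 := d29_1 D52673 (iv D50816) (iv F226433)
theorem F235504 : act 5 n52673 = n50676 := d38_1 D52673 (iv D50676) D50675
theorem F235505 : act 7 n52673 = n50688 := d43_1 D52673 (iv D50688) (iv F226434)
def n52674 : Q := act 8 n50676
theorem D52674 : act 8 n50676 = n52674 := rfl
theorem F235506 : act 1 n52674 = n50679 := d15_1 D52674 (iv D50679) (iv F226435)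
theorem F235507 : act 4 n52674 = n50677 := d33_1 D52674 (iv D50677) (iv F226437)
theorem F235508 : act 6 n52674 = n52674 := d40_1 D52674 (iv D52674) F226438
theorem F235509 : act 7 n52674 = n50689 := d42_1 D52674 (iv D50689) (iv F226439)
def n52675 : Q := act 8 n50678
theorem D52675 : act 8 n50678 = n52675 := rfl
theorem F235510 : act 2 n52675 = n50683 := d22_1 D52675 (iv D50683) (iv F226444)
theorem F235511 : act 5 n52675 = n50679 := d37_1 D52675 (iv D50679) (iv F226446)
theorem F235512 : act 7 n52675 = n50693 := d42_1 D52675 (iv D50693) (iv F226447)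
def n52676 : Q := act 3 n50679
theorem D52676 : act 3 n50679 = n52676 := rfl
theorem F235513 : act 6 n52676 = n52676 := d26_2 F226450 D52676 (iv D52676)
theorem F235514 : act 7 n52676 = n50694 := d27_2 (iv F226451) D52676 (iv D50694)
theorem F235515 : act 8 n52676 = n50818 := d28_2 D50679 D52676 (iv D50818) (iv D48698) (iv F216619)
def n52677 : Q := act 4 n50680
theorem D52677 : act 4 n50680 = n52677 := rfl
theorem F235516 : act 1 n52677 = n50807 := d11_1 D52677 F226929 (iv F226452)
theorem F235517 : act 6 n52677 = n52677 := d31_2 F226453 D52677 (iv D52677)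
theorem F235518 : act 7 n52677 = n50695 := d32_2 (iv F226454) D52677 (iv D50695)
theorem F235519 : act 8 n52677 = n50714 := d33_2 (iv F226455) D52677 (iv D50714)
def n52678 : Q := act 9 n50681
theorem D52678 : act 9 n50681 = n52678 := rfl
theorem F235520 : act 3 n52678 = n50708 := d29_1 D52678 (iv D50708) (iv F226456)
theorem F235521 : act 5 n52678 = n52678 := d38_1 D52678 (iv D52678) F226457
theorem F235522 : act 6 n52678 = n50696 := d41_1 D52678 (iv D50696) (iv F226458)
theorem F235523 : act 7 n52678 = n50682 := d43_1 D52678 (iv D50682) D50681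
def n52679 : Q := act 8 n50682
theorem D52679 : act 8 n50682 = n52679 := rfl
theorem F235524 : act 5 n52679 = n52679 := d37_1 D52679 (iv D52679) F226460
theorem F235525 : act 6 n52679 = n50683 := d40_1 D52679 (iv D50683) (iv F226461)
def n52680 : Q := act 9 n50684
theorem D52680 : act 9 n50684 = n52680 := rfl
theorem F235526 : act 0 n52680 = n50688 := d8_1 D52680 (iv D50688) (iv F226464)
theorem F235527 : act 3 n52680 = n50819 := d29_1 D52680 (iv D50819) (iv F226465)
theorem F235528 : act 5 n52680 = n50685 := d38_1 D52680 (iv D50685) D50684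
def n52681 : Q := act 8 n50685
theorem D52681 : act 8 n50685 = n52681 := rfl
theorem F235529 : act 0 n52681 = n50689 := d7_1 D52681 (iv D50689) (iv F226466)
theorem F235530 : act 4 n52681 = n50686 := d33_1 D52681 (iv D50686) (iv F226468)
theorem F235531 : act 6 n52681 = n50698 := d40_1 D52681 (iv D50698) (iv F226469)
def n52682 : Q := act 9 n50687
theorem D52682 : act 9 n50687 = n52682 := rfl
theorem F235532 : act 1 n52682 = n50692 := d16_1 D52682 (iv D50692) (iv F226472)
theorem F235533 : act 3 n52682 = n50821 := d29_1 D52682 (iv D50821) (iv F226473)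
theorem F235534 : act 5 n52682 = n50700 := d38_1 D52682 (iv D50700) (iv F226474)
theorem F235535 : act 6 n52682 = n50688 := d41_1 D52682 (iv D50688) D50687
def n52683 : Q := act 8 n50688
theorem D52683 : act 8 n50688 = n52683 := rfl
theorem F235536 : act 1 n52683 = n50693 := d15_1 D52683 (iv D50693) (iv F226475)
theorem F235537 : act 5 n52683 = n50689 := d37_1 D52683 (iv D50689) (iv F226477)
def n52684 : Q := act 3 n50689
theorem D52684 : act 3 n50689 = n52684 := rfl
theorem F235538 : act 1 n52684 = n50694 := d10_1 D52684 (iv D50694) (iv F226478)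
theorem F235539 : act 6 n52684 = n50702 := d26_2 (iv F226480) D52684 (iv D50702)
theorem F235540 : act 8 n52684 = n50823 := d28_2 D50689 D52684 (iv D50823) (iv D48705) (iv F216643)
def n52685 : Q := act 9 n50691
theorem D52685 : act 9 n50691 = n52685 := rfl
theorem F235541 : act 2 n52685 = n50696 := d23_1 D52685 (iv D50696) (iv F226485)
theorem F235542 : act 3 n52685 = n50824 := d29_1 D52685 (iv D50824) (iv F226486)
theorem F235543 : act 5 n52685 = n50703 := d38_1 D52685 (iv D50703) (iv F226487)
theorem F235544 : act 7 n52685 = n50692 := d43_1 D52685 (iv D50692) D50691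
def n52686 : Q := act 8 n50692
theorem D52686 : act 8 n50692 = n52686 := rfl
theorem F235545 : act 2 n52686 = n50697 := d22_1 D52686 (iv D50697) (iv F226488)
theorem F235546 : act 5 n52686 = n50704 := d37_1 D52686 (iv D50704) (iv F226490)
theorem F235547 : act 6 n52686 = n50693 := d40_1 D52686 (iv D50693) (iv F226491)
def n52687 : Q := act 3 n50693
theorem D52687 : act 3 n50693 = n52687 := rfl
theorem F235548 : act 5 n52687 = n50694 := d25_2 (iv F226493) D52687 (iv D50694)
theorem F235549 : act 8 n52687 = n50826 := d28_2 D50693 D52687 (iv D50826) (iv D48708) (iv F216652)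
def n52688 : Q := act 4 n50694
theorem D52688 : act 4 n50694 = n52688 := rfl
theorem F235550 : act 3 n52688 = n50695 := d24_1 D52688 (iv D50695) (iv D48510) (iv F216655) D50694
theorem F235551 : act 6 n52688 = n50706 := d31_2 (iv F226494) D52688 (iv D50706)
theorem F235552 : act 8 n52688 = n50827 := d33_2 (iv F226495) D52688 (iv D50827)
def n52689 : Q := act 5 n50695
theorem D52689 : act 5 n50695 = n52689 := rfl
theorem F235553 : act 8 n52689 = n50715 := d37_2 (iv F226497) D52689 (iv D50715)
def n52690 : Q := act 8 n50696
theorem D52690 : act 8 n50696 = n52690 := rfl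
theorem F235554 : act 5 n52690 = n50707 := d37_1 D52690 (iv D50707) (iv F226499)
theorem F235555 : act 7 n52690 = n50697 := d42_1 D52690 (iv D50697) (iv F226500)
def n52691 : Q := act 9 n50699
theorem D52691 : act 9 n50699 = n52691 := rfl
theorem F235556 : act 0 n52691 = n50840 := d8_1 D52691 (iv D50840) (iv F226506)
theorem F235557 : act 1 n52691 = n50703 := d16_1 D52691 (iv D50703) (iv F226507)
theorem F235558 : act 3 n52691 = n50831 := d29_1 D52691 (iv D50831) (iv F226508)
theorem F235559 : act 6 n52691 = n52691 := d41_1 D52691 (iv D52691) F226509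
theorem F235560 : act 7 n52691 = n50700 := d43_1 D52691 (iv D50700) D50699
def n52692 : Q := act 8 n50700
theorem D52692 : act 8 n50700 = n52692 := rfl
theorem F235561 : act 1 n52692 = n50704 := d15_1 D52692 (iv D50704) (iv F226510)
theorem F235562 : act 6 n52692 = n50701 := d40_1 D52692 (iv D50701) (iv F226512)
def n52693 : Q := act 3 n50701
theorem D52693 : act 3 n50701 = n52693 := rfl
theorem F235563 : act 1 n52693 = n50705 := d10_1 D52693 (iv D50705) (iv F226513)
theorem F235564 : act 5 n52693 = n50702 := d25_2 (iv F226514) D52693 (iv D50702)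
theorem F235565 : act 7 n52693 = n52693 := d27_2 F226515 D52693 (iv D52693)
theorem F235566 : act 8 n52693 = n50833 := d28_2 D50701 D52693 (iv D50833) (iv D48718) (iv F216674)
def n52694 : Q := act 2 n50702
theorem D52694 : act 2 n50702 = n52694 := rfl
theorem F235567 : act 4 n52694 = n50705 := d18_2 F228866 D52694 (iv F228865)
theorem F235568 : act 7 n52694 = n52694 := d21_2 F226517 D52694 (iv D52694)
theorem F235569 : act 8 n52694 = n50834 := d22_2 (iv F226518) D52694 (iv D50834)
def n52695 : Q := act 8 n50703
theorem D52695 : act 8 n50703 = n52695 := rfl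
theorem F235570 : act 2 n52695 = n50707 := d22_1 D52695 (iv D50707) (iv F226519)
theorem F235571 : act 6 n52695 = n52695 := d40_1 D52695 (iv D52695) F226521
theorem F235572 : act 7 n52695 = n50704 := d42_1 D52695 (iv D50704) (iv F226522)
def n52696 : Q := act 3 n50704
theorem D52696 : act 3 n50704 = n52696 := rfl
theorem F235573 : act 6 n52696 = n50705 := d26_2 (iv F226524) D52696 (iv D50705)
theorem F235574 : act 8 n52696 = n50835 := d28_2 D50704 D52696 (iv D50835) (iv D48721) (iv F216687)
def n52697 : Q := act 8 n50711
theorem D52697 : act 8 n50711 = n52697 := rfl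
theorem F235575 : act 5 n52697 = n50836 := d37_1 D52697 (iv D50836) (iv F226546)
theorem F235576 : act 9 n52697 = n50712 := d44_2 D50711 D52697 (iv D50712) (iv D48538) D48537
def n52698 : Q := act 5 n50713
theorem D52698 : act 5 n50713 = n52698 := rfl
theorem F235577 : act 4 n52698 = n50715 := d30_1 D52698 (iv D50715) (iv D48544) (iv F216744) D50713
theorem F235578 : act 9 n52698 = n50743 := d38_2 (iv F226548) D52698 (iv D50743)
def n52699 : Q := act 5 n50714
theorem D52699 : act 5 n50714 = n52699 := rfl
theorem F235579 : act 1 n52699 = n50805 := d12_1 D52699 F226925 (iv F226549)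
theorem F235580 : act 3 n52699 = n50801 := d25_1 D52699 F226912 (iv F226550)
theorem F235581 : act 7 n52699 = n50715 := d36_2 (iv F226552) D52699 (iv D50715)
theorem F235582 : act 9 n52699 = n50744 := d38_2 (iv F226553) D52699 (iv D50744)
def n52700 : Q := act 8 n50717
theorem D52700 : act 8 n50717 = n52700 := rfl
theorem F235583 : act 0 n52700 = n50730 := d7_1 D52700 (iv D50730) (iv F226560)
theorem F235584 : act 2 n52700 = n50718 := d22_1 D52700 (iv D50718) (iv F226561)
theorem F235585 : act 5 n52700 = n50844 := d37_1 D52700 (iv D50844) (iv F226562)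
theorem F235586 : act 9 n52700 = n52700 := d44_2 D50717 D52700 (iv D52700) (iv D50717) F216794
def n52701 : Q := act 4 n50720
theorem D52701 : act 4 n50720 = n52701 := rfl
theorem F235587 : act 0 n52701 = n50800 := d3_1 D52701 F226906 (iv F226569)
theorem F235588 : act 1 n52701 = n50721 := d11_1 D52701 (iv D50721) D50720
theorem F235589 : act 2 n52701 = n52701 := d18_1 D52701 (iv D52701) F226570
theorem F235590 : act 5 n52701 = n52701 := d30_2 (iv F226571) D52701 (iv D52701) F226571 F217446
theorem F235591 : act 6 n52701 = n50799 := d31_2 (iv F226572) D52701 F226901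
theorem F235592 : act 7 n52701 = n50726 := d32_2 (iv F226573) D52701 (iv D50726)
theorem F235593 : act 8 n52701 = n52701 := d33_2 F226574 D52701 (iv D52701)
def n52702 : Q := act 9 n50720
theorem D52702 : act 9 n50720 = n52702 := rfl
theorem F235594 : act 0 n52702 = n50821 := d8_1 D52702 (iv D50821) (iv F226569)
theorem F235595 : act 1 n52702 = n50722 := d16_1 D52702 (iv D50722) D50720
theorem F235596 : act 2 n52702 = n52702 := d23_1 D52702 (iv D52702) F226570
theorem F235597 : act 5 n52702 = n50829 := d38_1 D52702 (iv D50829) (iv F226571)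
theorem F235598 : act 6 n52702 = n50819 := d41_1 D52702 (iv D50819) (iv F226572)
theorem F235599 : act 7 n52702 = n50727 := d43_1 D52702 (iv D50727) (iv F226573)
def n52703 : Q := act 3 n50721
theorem D52703 : act 3 n50721 = n52703 := rfl
theorem F235600 : act 2 n52703 = n50734 := d17_1 D52703 (iv D50734) F216839 (iv F216805) (iv F226575)
theorem F235601 : act 5 n52703 = n52703 := d25_2 F226576 D52703 (iv D52703)
theorem F235602 : act 7 n52703 = n50728 := d27_2 (iv F226577) D52703 (iv D50728)
def n52704 : Q := act 9 n50721
theorem D52704 : act 9 n50721 = n52704 := rfl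
theorem F235603 : act 2 n52704 = n50723 := d23_1 D52704 (iv D50723) (iv F226575)
theorem F235604 : act 4 n52704 = n50722 := d34_1 D52704 (iv D50722) D50721
theorem F235605 : act 5 n52704 = n52704 := d38_1 D52704 (iv D52704) F226576
theorem F235606 : act 7 n52704 = n50729 := d43_1 D52704 (iv D50729) (iv F226577)
def n52705 : Q := act 8 n50722
theorem D52705 : act 8 n50722 = n52705 := rfl
theorem F235607 : act 2 n52705 = n50724 := d22_1 D52705 (iv D50724) (iv F226579)
theorem F235608 : act 5 n52705 = n50845 := d37_1 D52705 (iv D50845) (iv F226580)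
theorem F235609 : act 7 n52705 = n50730 := d42_1 D52705 (iv D50730) (iv F226581)
theorem F235610 : act 9 n52705 = n52705 := d44_2 D50722 D52705 (iv D52705) (iv D50722) F216803
def n52706 : Q := act 8 n50723
theorem D52706 : act 8 n50723 = n52706 := rfl
theorem F235611 : act 1 n52706 = n52706 := d15_1 D52706 (iv D52706) F226582
theorem F235612 : act 4 n52706 = n50724 := d33_1 D52706 (iv D50724) (iv F226584)
theorem F235613 : act 5 n52706 = n52706 := d37_1 D52706 (iv D52706) F226585
theorem F235614 : act 7 n52706 = n50731 := d42_1 D52706 (iv D50731) (iv F226586)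
theorem F235615 : act 9 n52706 = n52706 := d44_2 D50723 D52706 (iv D52706) (iv D50723) F216808
def n52707 : Q := act 9 n50725
theorem D52707 : act 9 n50725 = n52707 := rfl
theorem F235616 : act 0 n52707 = n50727 := d8_1 D52707 (iv D50727) D50725
theorem F235617 : act 1 n52707 = n50824 := d16_1 D52707 (iv D50824) (iv F226591)
theorem F235618 : act 2 n52707 = n52707 := d23_1 D52707 (iv D52707) F226592
theorem F235619 : act 5 n52707 = n50831 := d38_1 D52707 (iv D50831) (iv F226593)
theorem F235620 : act 7 n52707 = n50821 := d43_1 D52707 (iv D50821) (iv F226594)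
def n52708 : Q := act 3 n50726
theorem D52708 : act 3 n50726 = n52708 := rfl
theorem F235621 : act 1 n52708 = n50728 := d10_1 D52708 (iv D50728) (iv F226596)
theorem F235622 : act 5 n52708 = n52708 := d25_2 F226598 D52708 (iv D52708)
def n52709 : Q := act 9 n50726
theorem D52709 : act 9 n50726 = n52709 := rfl
theorem F235623 : act 1 n52709 = n50729 := d16_1 D52709 (iv D50729) (iv F226596)
theorem F235624 : act 2 n52709 = n52709 := d23_1 D52709 (iv D52709) F226597
theorem F235625 : act 4 n52709 = n50727 := d34_1 D52709 (iv D50727) D50726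
theorem F235626 : act 5 n52709 = n52709 := d38_1 D52709 (iv D52709) F226598
def n52710 : Q := act 8 n50727
theorem D52710 : act 8 n50727 = n52710 := rfl
theorem F235627 : act 1 n52710 = n50730 := d15_1 D52710 (iv D50730) (iv F226600)
theorem F235628 : act 2 n52710 = n52710 := d22_1 D52710 (iv D52710) F226601
theorem F235629 : act 5 n52710 = n50846 := d37_1 D52710 (iv D50846) (iv F226602)
theorem F235630 : act 9 n52710 = n52710 := d44_2 D50727 D52710 (iv D52710) (iv D50727) F216815
def n52711 : Q := act 8 n50728
theorem D52711 : act 8 n50728 = n52711 := rfl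
theorem F235631 : act 2 n52711 = n50739 := d22_1 D52711 (iv D50739) (iv F226603)
theorem F235632 : act 3 n52711 = n52711 := d28_1 D52711 (iv D52711) (iv D50728) F216818 D50728
theorem F235633 : act 5 n52711 = n52711 := d37_1 D52711 (iv D52711) F226604
def n52712 : Q := act 9 n50728
theorem D52712 : act 9 n50728 = n52712 := rfl
theorem F235634 : act 2 n52712 = n50740 := d23_1 D52712 (iv D50740) (iv F226603)
theorem F235635 : act 3 n52712 = n50729 := d29_1 D52712 (iv D50729) D50728
theorem F235636 : act 5 n52712 = n52712 := d38_1 D52712 (iv D52712) F226604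
def n52713 : Q := act 8 n50729
theorem D52713 : act 8 n50729 = n52713 := rfl
theorem F235637 : act 2 n52713 = n50731 := d22_1 D52713 (iv D50731) (iv F226605)
theorem F235638 : act 4 n52713 = n50730 := d33_1 D52713 (iv D50730) (iv F226606)
theorem F235639 : act 5 n52713 = n52713 := d37_1 D52713 (iv D52713) F226607
theorem F235640 : act 9 n52713 = n52713 := d44_2 D50729 D52713 (iv D52713) (iv D50729) F216818
def n52714 : Q := act 3 n50730
theorem D52714 : act 3 n50730 = n52714 := rfl
theorem F235641 : act 5 n52714 = n50847 := d25_2 (iv F226609) D52714 (iv D50847)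
theorem F235642 : act 9 n52714 = n52714 := d29_2 F226610 D52714 (iv D52714)
def n52715 : Q := act 9 n50734
theorem D52715 : act 9 n50734 = n52715 := rfl
theorem F235643 : act 3 n52715 = n50735 := d29_1 D52715 (iv D50735) D50734
theorem F235644 : act 5 n52715 = n52715 := d38_1 D52715 (iv D52715) F226623
theorem F235645 : act 7 n52715 = n50740 := d43_1 D52715 (iv D50740) (iv F226624)
def n52716 : Q := act 2 n50737
theorem D52716 : act 2 n50737 = n52716 := rfl
theorem F235646 : act 3 n52716 = n52716 := d17_2 D50737 D52716 (iv D52716) (iv D50737) F216854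
theorem F235647 : act 5 n52716 = n52716 := d19_2 F226633 D52716 (iv D52716)
def n52717 : Q := act 9 n50737
theorem D52717 : act 9 n50737 = n52717 := rfl
theorem F235648 : act 1 n52717 = n50740 := d16_1 D52717 (iv D50740) (iv F226632)
theorem F235649 : act 3 n52717 = n50738 := d29_1 D52717 (iv D50738) D50737
theorem F235650 : act 5 n52717 = n52717 := d38_1 D52717 (iv D52717) F226633
def n52718 : Q := act 9 n50739
theorem D52718 : act 9 n50739 = n52718 := rfl
theorem F235651 : act 3 n52718 = n50742 := d29_1 D52718 (iv D50742) (iv F226638)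
theorem F235652 : act 5 n52718 = n52718 := d38_1 D52718 (iv D52718) F226639
def n52719 : Q := act 8 n50740
theorem D52719 : act 8 n50740 = n52719 := rfl
theorem F235653 : act 5 n52719 = n52719 := d37_1 D52719 (iv D52719) F226641
def n52720 : Q := act 6 n50744
theorem D52720 : act 6 n50744 = n52720 := rfl
theorem F235654 : act 1 n52720 = n50803 := d13_1 D52720 (iv D50803) (iv F226652)
theorem F235655 : act 3 n52720 = n50800 := d26_1 D52720 (iv D50800) (iv F226653)
theorem F235656 : act 5 n52720 = n52720 := d35_1 D52720 (iv D52720) (iv D50744) F216886 D50744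
def n52721 : Q := act 5 n50757
theorem D52721 : act 5 n50757 = n52721 := rfl
theorem F235657 : act 0 n52721 = n50772 := d4_1 D52721 (iv D50772) (iv F226726)
theorem F235658 : act 2 n52721 = n52721 := d19_1 D52721 (iv D52721) F226727
theorem F235659 : act 9 n52721 = n52721 := d38_2 F226729 D52721 (iv D52721)
def n52722 : Q := act 8 n50764
theorem D52722 : act 8 n50764 = n52722 := rfl
theorem F235660 : act 1 n52722 = n50767 := d15_1 D52722 (iv D50767) (iv F226745)
theorem F235661 : act 6 n52722 = n52722 := d40_1 D52722 (iv D52722) F226747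
def n52723 : Q := act 3 n50765
theorem D52723 : act 3 n50765 = n52723 := rfl
theorem F235662 : act 1 n52723 = n50768 := d10_1 D52723 (iv D50768) (iv F226748)
theorem F235663 : act 6 n52723 = n52723 := d26_2 F226751 D52723 (iv D52723)
theorem F235664 : act 9 n52723 = n52723 := d29_2 F226752 D52723 (iv D52723)
def n52724 : Q := act 8 n50766
theorem D52724 : act 8 n50766 = n52724 := rfl
theorem F235665 : act 2 n52724 = n50836 := d22_1 D52724 (iv D50836) (iv F226753)
theorem F235666 : act 6 n52724 = n52724 := d40_1 D52724 (iv D52724) F226755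
theorem F235667 : act 9 n52724 = n50767 := d44_2 D50766 D52724 (iv D50767) (iv D48627) D48626
def n52725 : Q := act 3 n50767
theorem D52725 : act 3 n50767 = n52725 := rfl
theorem F235668 : act 6 n52725 = n52725 := d26_2 F226757 D52725 (iv D52725)
theorem F235669 : act 8 n52725 = n50768 := d28_2 D50767 D52725 (iv D50768) (iv D48628) (iv F217076)
def n52726 : Q := act 5 n50771
theorem D52726 : act 5 n50771 = n52726 := rfl
theorem F235670 : act 1 n52726 = n50772 := d12_1 D52726 (iv D50772) (iv F226767)
theorem F235671 : act 9 n52726 = n52726 := d38_2 F226769 D52726 (iv D52726)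
def n52727 : Q := act 6 n50772
theorem D52727 : act 6 n50772 = n52727 := rfl
theorem F235672 : act 2 n52727 = n52727 := d20_1 D52727 (iv D52727) F226770
theorem F235673 : act 5 n52727 = n50773 := d35_1 D52727 (iv D50773) (iv D48636) (iv F217094) D50772
theorem F235674 : act 9 n52727 = n52727 := d41_2 F226771 D52727 (iv D52727)
def n52728 : Q := act 2 n50776
theorem D52728 : act 2 n50776 = n52728 := rfl
theorem F235675 : act 0 n52728 = n50777 := d1_1 D52728 (iv D50777) (iv F226785)
theorem F235676 : act 5 n52728 = n50781 := d19_2 (iv F226787) D52728 F226817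
theorem F235677 : act 6 n52728 = n52728 := d20_2 F226788 D52728 (iv D52728)
theorem F235678 : act 7 n52728 = n50783 := d21_2 F231648 D52728 (iv F231645)
theorem F235679 : act 8 n52728 = n52728 := d22_2 F226789 D52728 (iv D52728)
theorem F235680 : act 9 n52728 = n52728 := d23_2 F226790 D52728 (iv D52728)
theorem F235681 : act 1 n50782 = n52728 := d14_3 F235678 F226828 (iv F226825)
def n52729 : Q := act 4 n50776
theorem D52729 : act 4 n50776 = n52729 := rfl
theorem F235682 : act 0 n52729 = n50778 := d3_1 D52729 (iv D50778) (iv F226785)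
theorem F235683 : act 1 n52729 = n52729 := d11_1 D52729 (iv D52729) F226786
theorem F235684 : act 6 n52729 = n52729 := d31_2 F226788 D52729 (iv D52729)
theorem F235685 : act 8 n52729 = n52729 := d33_2 F226789 D52729 (iv D52729)
theorem F235686 : act 9 n52729 = n52729 := d34_2 F226790 D52729 (iv D52729)
def n52730 : Q := act 4 n50777
theorem D52730 : act 4 n50777 = n52730 := rfl
theorem F235687 : act 1 n52730 = n52730 := d11_1 D52730 (iv D52730) F226791
theorem F235688 : act 2 n52730 = n50778 := d18_1 D52730 (iv D50778) D50777
theorem F235689 : act 6 n52730 = n52730 := d31_2 F226793 D52730 (iv D52730)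
theorem F235690 : act 8 n52730 = n52730 := d33_2 F226794 D52730 (iv D52730)
theorem F235691 : act 9 n52730 = n52730 := d34_2 F226795 D52730 (iv D52730)
def n52731 : Q := act 8 n50784
theorem D52731 : act 8 n50784 = n52731 := rfl
theorem F235692 : act 0 n52731 = n50785 := d7_1 D52731 (iv D50785) (iv F226831)
theorem F235693 : act 1 n52731 = n50789 := d15_1 D52731 F226863 (iv F226832)
theorem F235694 : act 3 n52731 = n50788 := d28_1 D52731 (iv D50788) F217215 (iv F217263) (iv F226833)
theorem F235695 : act 5 n52731 = n50790 := d37_1 D52731 (iv D50790) (iv F226834)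
theorem F235696 : act 6 n52731 = n52731 := d40_1 D52731 (iv D52731) F226835
theorem F235697 : act 7 n52731 = n50791 := d42_1 D52731 F226871 (iv F226836)
theorem F235698 : act 9 n52731 = n52731 := d44_2 D50784 D52731 (iv D52731) (iv D50784) F217198
def n52732 : Q := act 3 n50785
theorem D52732 : act 3 n50785 = n52732 := rfl
theorem F235699 : act 0 n52732 = n50788 := d2_1 D52732 (iv F235694) F235692
theorem F235700 : act 1 n52732 = n50786 := d10_1 D52732 (iv D50786) (iv F226837)
theorem F235701 : act 5 n52732 = n50791 := d25_2 (iv F226838) D52732 (iv D50791)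
theorem F235702 : act 6 n52732 = n52732 := d26_2 F226839 D52732 (iv D52732)
theorem F235703 : act 7 n52732 = n50790 := d27_2 F227266 D52732 (iv F227262)
theorem F235704 : act 8 n52732 = n50787 := d28_2 D50785 D52732 F226850 (iv D48672) (iv F217200)
theorem F235705 : act 9 n52732 = n52732 := d29_2 F226840 D52732 (iv D52732)
def n52733 : Q := act 4 n50786
theorem D52733 : act 4 n50786 = n52733 := rfl
theorem F235706 : act 0 n52733 = n50811 := d3_1 D52733 (iv D50811) (iv F226841)
theorem F235707 : act 2 n52733 = n52733 := d18_1 D52733 (iv D52733) F226842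
theorem F235708 : act 6 n52733 = n52733 := d31_2 F226844 D52733 (iv D52733)
theorem F235709 : act 7 n52733 = n50820 := d32_2 (iv F226845) D52733 F226984
theorem F235710 : act 8 n52733 = n50796 := d33_2 (iv F226846) D52733 (iv D50796)
theorem F235711 : act 9 n52733 = n52733 := d34_2 F226847 D52733 (iv D52733)
def n52734 : Q := act 4 n50789
theorem D52734 : act 4 n50789 = n52734 := rfl
theorem F235712 : act 0 n52734 = n50802 := d3_1 D52734 F226916 (iv F226858)
theorem F235713 : act 2 n52734 = n52734 := d18_1 D52734 (iv D52734) F226859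
theorem F235714 : act 6 n52734 = n52734 := d31_2 F226861 D52734 (iv D52734)
theorem F235715 : act 7 n52734 = n50792 := d32_2 (iv F226862) D52734 (iv D50792)
theorem F235716 : act 8 n52734 = n50797 := d33_2 (iv F226863) D52734 (iv D50797)
theorem F235717 : act 9 n52734 = n52734 := d34_2 F226864 D52734 (iv D52734)
def n52735 : Q := act 5 n50792
theorem D52735 : act 5 n50792 = n52735 := rfl
theorem F235718 : act 0 n52735 = n50828 := d4_1 D52735 (iv D50828) (iv F226873)
theorem F235719 : act 2 n52735 = n52735 := d19_1 D52735 (iv D52735) F226874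
theorem F235720 : act 8 n52735 = n50798 := d37_2 (iv F226876) D52735 (iv D50798)
theorem F235721 : act 9 n52735 = n52735 := d38_2 F226877 D52735 (iv D52735)
def n52736 : Q := act 8 n50793
theorem D52736 : act 8 n50793 = n52736 := rfl
theorem F235722 : act 1 n52736 = n50795 := d15_1 D52736 (iv D50795) (iv F226878)
theorem F235723 : act 6 n52736 = n52736 := d40_1 D52736 (iv D52736) F226880
def n52737 : Q := act 8 n50794
theorem D52737 : act 8 n50794 = n52737 := rfl
theorem F235724 : act 0 n52737 = n50836 := d7_1 D52737 (iv D50836) (iv F226881)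
theorem F235725 : act 6 n52737 = n52737 := d40_1 D52737 (iv D52737) F226883
theorem F235726 : act 9 n52737 = n50795 := d44_2 D50794 D52737 (iv D50795) (iv D48674) D48673
def n52738 : Q := act 5 n50796
theorem D52738 : act 5 n50796 = n52738 := rfl
theorem F235727 : act 0 n52738 = n50816 := d4_1 D52738 F226970 (iv F226886)
theorem F235728 : act 2 n52738 = n52738 := d19_1 D52738 (iv D52738) F226887
theorem F235729 : act 4 n52738 = n50798 := d30_1 D52738 (iv D50798) (iv D48678) (iv F217285) D50796
theorem F235730 : act 7 n52738 = n50819 := d36_2 (iv F226889) D52738 F226981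
theorem F235731 : act 9 n52738 = n50815 := d38_2 (iv F226890) D52738 (iv D50815)
def n52739 : Q := act 5 n50797
theorem D52739 : act 5 n50797 = n52739 := rfl
theorem F235732 : act 0 n52739 = n50801 := d4_1 D52739 F226912 (iv F226891)
theorem F235733 : act 2 n52739 = n52739 := d19_1 D52739 (iv D52739) F226892
theorem F235734 : act 4 n52739 = n50819 := d30_1 D52739 F226981 F217402 (iv F217291) D50797
theorem F235735 : act 7 n52739 = n50798 := d36_2 (iv F226894) D52739 (iv D50798)
theorem F235736 : act 9 n52739 = n50799 := d38_2 (iv F226895) D52739 (iv D50799)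
def n52740 : Q := act 9 n50800
theorem D52740 : act 9 n50800 = n52740 := rfl
theorem F235737 : act 1 n52740 = n50808 := d16_1 D52740 (iv D50808) (iv F226904)
theorem F235738 : act 2 n52740 = n52740 := d23_1 D52740 (iv D52740) F226905
theorem F235739 : act 4 n52740 = n50821 := d34_1 D52740 (iv D50821) (iv F226906)
theorem F235740 : act 5 n52740 = n52740 := d38_1 D52740 (iv D52740) F226907
theorem F235741 : act 6 n52740 = n50801 := d41_1 D52740 (iv D50801) D50800
def n52741 : Q := act 8 n50801
theorem D52741 : act 8 n50801 = n52741 := rfl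
theorem F235742 : act 1 n52741 = n50809 := d15_1 D52741 (iv D50809) (iv F226909)
theorem F235743 : act 2 n52741 = n52741 := d22_1 D52741 (iv D52741) F226910
theorem F235744 : act 4 n52741 = n50822 := d33_1 D52741 (iv D50822) (iv F226911)
theorem F235745 : act 5 n52741 = n50802 := d37_1 D52741 (iv D50802) (iv F226912)
theorem F235746 : act 7 n52741 = n50828 := d42_1 D52741 F227011 (iv F226913)
theorem F235747 : act 9 n52741 = n52741 := d44_2 D50801 D52741 (iv D52741) (iv D50801) F217318
def n52742 : Q := act 3 n50802
theorem D52742 : act 3 n50802 = n52742 := rfl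
theorem F235748 : act 1 n52742 = n50810 := d10_1 D52742 (iv D50810) (iv F226914)
theorem F235749 : act 4 n52742 = n50818 := d24_2 (iv F226916) D52742 (iv D50818) F217389 (iv F217326)
theorem F235750 : act 6 n52742 = n52742 := d26_2 F226917 D52742 (iv D52742)
theorem F235751 : act 7 n52742 = n50827 := d27_2 (iv F226918) D52742 F227007
theorem F235752 : act 9 n52742 = n52742 := d29_2 F226919 D52742 (iv D52742)
def n52743 : Q := act 8 n50803
theorem D52743 : act 8 n50803 = n52743 := rfl
theorem F235753 : act 3 n52743 = n52743 := d28_1 D52743 (iv D52743) F226920 F217341 (iv F226920)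
theorem F235754 : act 5 n52743 = n52743 := d37_1 D52743 (iv D52743) F226921
theorem F235755 : act 6 n52743 = n50804 := d40_1 D52743 (iv D50804) D50803
def n52744 : Q := act 9 n50803
theorem D52744 : act 9 n50803 = n52744 := rfl
theorem F235756 : act 3 n52744 = n50808 := d29_1 D52744 (iv D50808) (iv F226920)
theorem F235757 : act 5 n52744 = n52744 := d38_1 D52744 (iv D52744) F226921
theorem F235758 : act 6 n52744 = n50805 := d41_1 D52744 (iv D50805) D50803
def n52745 : Q := act 9 n50804
theorem D52745 : act 9 n50804 = n52745 := rfl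
theorem F235759 : act 3 n52745 = n52745 := d29_1 D52745 (iv D52745) F226922
theorem F235760 : act 5 n52745 = n50806 := d38_1 D52745 (iv D50806) (iv F226923)
def n52746 : Q := act 8 n50805
theorem D52746 : act 8 n50805 = n52746 := rfl
theorem F235761 : act 5 n52746 = n50807 := d37_1 D52746 (iv D50807) (iv F226925)
def n52747 : Q := act 8 n50806
theorem D52747 : act 8 n50806 = n52747 := rfl
theorem F235762 : act 4 n52747 = n50836 := d33_1 D52747 (iv D50836) (iv F226927)
theorem F235763 : act 6 n52747 = n52747 := d40_1 D52747 (iv D52747) F226928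
theorem F235764 : act 9 n52747 = n50807 := d44_2 D50806 D52747 (iv D50807) (iv D48686) D48685
def n52748 : Q := act 3 n50807
theorem D52748 : act 3 n50807 = n52748 := rfl
theorem F235765 : act 6 n52748 = n52748 := d26_2 F226930 D52748 (iv D52748)
theorem F235766 : act 8 n52748 = n50810 := d28_2 D50807 D52748 (iv D50810) (iv D48689) (iv F217335)
def n52749 : Q := act 8 n50808
theorem D52749 : act 8 n50808 = n52749 := rfl
theorem F235767 : act 2 n52749 = n50812 := d22_1 D52749 (iv D50812) (iv F226931)
theorem F235768 : act 4 n52749 = n50825 := d33_1 D52749 (iv D50825) (iv F226932)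
theorem F235769 : act 5 n52749 = n52749 := d37_1 D52749 (iv D52749) F226933
theorem F235770 : act 6 n52749 = n50809 := d40_1 D52749 (iv D50809) (iv F226934)
theorem F235771 : act 9 n52749 = n52749 := d44_2 D50808 D52749 (iv D52749) (iv D50808) F217341
def n52750 : Q := act 3 n50809
theorem D52750 : act 3 n50809 = n52750 := rfl
theorem F235772 : act 5 n52750 = n50810 := d25_2 (iv F226937) D52750 (iv D50810)
theorem F235773 : act 9 n52750 = n52750 := d29_2 F226938 D52750 (iv D52750)
def n52751 : Q := act 2 n50810
theorem D52751 : act 2 n50810 = n52751 := rfl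
theorem F235774 : act 3 n52751 = n50814 := d17_2 D50810 D52751 (iv D50814) (iv D48693) (iv F217345)
theorem F235775 : act 6 n52751 = n52751 := d20_2 F226939 D52751 (iv D52751)
theorem F235776 : act 7 n52751 = n50835 := d21_2 F228959 D52751 (iv F228956)
theorem F235777 : act 9 n52751 = n52751 := d23_2 F226940 D52751 (iv D52751)
def n52752 : Q := act 4 n50810
theorem D52752 : act 4 n50810 = n52752 := rfl
theorem F235778 : act 1 n52752 = n50818 := d11_1 D52752 (iv F235749) F235748
theorem F235779 : act 3 n52752 = n50811 := d24_1 D52752 (iv D50811) (iv D48690) (iv F217346) D50810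
theorem F235780 : act 6 n52752 = n52752 := d31_2 F226939 D52752 (iv D52752)
theorem F235781 : act 7 n52752 = n50823 := d32_2 F228959 D52752 (iv F228957)
theorem F235782 : act 9 n52752 = n52752 := d34_2 F226940 D52752 (iv D52752)
def n52753 : Q := act 5 n50811
theorem D52753 : act 5 n50811 = n52753 := rfl
theorem F235783 : act 1 n52753 = n50817 := d12_1 D52753 F226973 (iv F226941)
theorem F235784 : act 2 n52753 = n52753 := d19_1 D52753 (iv D52753) F226942
theorem F235785 : act 4 n52753 = n50828 := d30_1 D52753 (iv D50828) (iv D48710) (iv F217351) D50811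
theorem F235786 : act 7 n52753 = n50822 := d36_2 (iv F226944) D52753 F226993
theorem F235787 : act 8 n52753 = n50816 := d37_2 (iv F226945) D52753 F226970
theorem F235788 : act 9 n52753 = n52753 := d38_2 F226946 D52753 (iv D52753)
def n52754 : Q := act 2 n50813
theorem D52754 : act 2 n50813 = n52754 := rfl
theorem F235789 : act 5 n52754 = n50814 := d19_2 (iv F226953) D52754 (iv D50814)
theorem F235790 : act 7 n52754 = n50825 := d21_2 (iv F226954) D52754 F227001
theorem F235791 : act 8 n52754 = n50824 := d22_2 (iv F226955) D52754 F226998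
theorem F235792 : act 9 n52754 = n52754 := d23_2 F226956 D52754 (iv D52754)
def n52755 : Q := act 1 n50814
theorem D52755 : act 1 n50814 = n52755 := rfl
theorem F235793 : act 0 n52755 = n50846 := d0_1 D52755 F227077 (iv F227068) (iv F228450) F228449
theorem F235794 : act 2 n52755 = n52755 := d9_2 D50814 D52755 (iv D52755) (iv D50814) F217364
theorem F235795 : act 4 n52755 = n52755 := d11_2 F226957 D52755 (iv D52755)
theorem F235796 : act 6 n52755 = n52755 := d13_2 F226958 D52755 (iv D52755)
theorem F235797 : act 7 n52755 = n50832 := d14_2 (iv F226959) D52755 F227031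
theorem F235798 : act 8 n52755 = n50831 := d15_2 (iv F226960) D52755 F227026
theorem F235799 : act 9 n52755 = n52755 := d16_2 F226961 D52755 (iv D52755)
def n52756 : Q := act 3 n50817
theorem D52756 : act 3 n50817 = n52756 := rfl
theorem F235800 : act 5 n52756 = n50818 := d25_2 (iv F226973) D52756 (iv D50818)
theorem F235801 : act 7 n52756 = n50826 := d27_2 (iv F226974) D52756 (iv D50826)
theorem F235802 : act 9 n52756 = n52756 := d29_2 F226975 D52756 (iv D52756)
def n52757 : Q := act 8 n50819
theorem D52757 : act 8 n50819 = n52757 := rfl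
theorem F235803 : act 0 n52757 = n50822 := d7_1 D52757 (iv D50822) (iv F226979)
theorem F235804 : act 2 n52757 = n52757 := d22_1 D52757 (iv D52757) F226980
theorem F235805 : act 5 n52757 = n50820 := d37_1 D52757 (iv D50820) (iv F226981)
theorem F235806 : act 9 n52757 = n52757 := d44_2 D50819 D52757 (iv D52757) (iv D50819) F217399
def n52758 : Q := act 8 n50821
theorem D52758 : act 8 n50821 = n52758 := rfl
theorem F235807 : act 1 n52758 = n50825 := d15_1 D52758 (iv D50825) (iv F226987)
theorem F235808 : act 2 n52758 = n52758 := d22_1 D52758 (iv D52758) F226988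
theorem F235809 : act 5 n52758 = n50832 := d37_1 D52758 (iv D50832) (iv F226989)
theorem F235810 : act 6 n52758 = n50822 := d40_1 D52758 (iv D50822) (iv F226990)
theorem F235811 : act 9 n52758 = n52758 := d44_2 D50821 D52758 (iv D52758) (iv D50821) F217411
def n52759 : Q := act 3 n50822
theorem D52759 : act 3 n50822 = n52759 := rfl
theorem F235812 : act 1 n52759 = n50826 := d10_1 D52759 (iv D50826) (iv F226991)
theorem F235813 : act 5 n52759 = n50823 := d25_2 (iv F226993) D52759 (iv D50823)
theorem F235814 : act 9 n52759 = n52759 := d29_2 F226994 D52759 (iv D52759)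
def n52760 : Q := act 2 n50823
theorem D52760 : act 2 n50823 = n52760 := rfl
theorem F235815 : act 3 n52760 = n52760 := d17_2 D50823 D52760 (iv D52760) (iv D50823) F217416
theorem F235816 : act 4 n52760 = n50835 := d18_2 F228957 D52760 (iv F228956)
theorem F235817 : act 6 n52760 = n50834 := d20_2 (iv F226996) D52760 (iv D50834)
theorem F235818 : act 9 n52760 = n52760 := d23_2 F226997 D52760 (iv D52760)
def n52761 : Q := act 3 n50825
theorem D52761 : act 3 n50825 = n52761 := rfl
theorem F235819 : act 5 n52761 = n50835 := d25_2 (iv F227002) D52761 (iv D50835)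
theorem F235820 : act 6 n52761 = n50826 := d26_2 (iv F227003) D52761 (iv D50826)
theorem F235821 : act 9 n52761 = n52761 := d29_2 F227004 D52761 (iv D52761)
def n52762 : Q := act 4 n50826
theorem D52762 : act 4 n50826 = n52762 := rfl
theorem F235822 : act 9 n52762 = n52762 := d34_2 F227006 D52762 (iv D52762)
def n52763 : Q := act 5 n50827
theorem D52763 : act 5 n50827 = n52763 := rfl
theorem F235823 : act 3 n52763 = n50828 := d25_1 D52763 (iv D50828) (iv F227007)
theorem F235824 : act 9 n52763 = n52763 := d38_2 F227009 D52763 (iv D52763)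
def n52764 : Q := act 8 n50829
theorem D52764 : act 8 n50829 = n52764 := rfl
theorem F235825 : act 0 n52764 = n50832 := d7_1 D52764 (iv D50832) (iv F227013)
theorem F235826 : act 1 n52764 = n50845 := d15_1 D52764 (iv D50845) (iv F227014)
theorem F235827 : act 2 n52764 = n52764 := d22_1 D52764 (iv D52764) F227015
theorem F235828 : act 4 n52764 = n52764 := d33_1 D52764 (iv D52764) F227016
theorem F235829 : act 6 n52764 = n50830 := d40_1 D52764 (iv D50830) (iv F227017)
theorem F235830 : act 7 n52764 = n50846 := d42_1 D52764 (iv D50846) (iv F227018)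
theorem F235831 : act 9 n52764 = n52764 := d44_2 D50829 D52764 (iv D52764) (iv D50829) F217447
def n52765 : Q := act 3 n50832
theorem D52765 : act 3 n50832 = n52765 := rfl
theorem F235832 : act 1 n52765 = n50835 := d10_1 D52765 (iv D50835) (iv F227031)
theorem F235833 : act 6 n52765 = n50833 := d26_2 (iv F227034) D52765 (iv D50833)
theorem F235834 : act 9 n52765 = n52765 := d29_2 F227035 D52765 (iv D52765)
def n52766 : Q := act 8 n50838
theorem D52766 : act 8 n50838 = n52766 := rfl
theorem F235835 : act 0 n52766 = n50841 := d7_1 D52766 (iv D50841) (iv F227050)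
theorem F235836 : act 2 n52766 = n50839 := d22_1 D52766 (iv D50839) (iv F227051)
theorem F235837 : act 6 n52766 = n52766 := d40_1 D52766 (iv D52766) F227053
def n52767 : Q := act 8 n50840
theorem D52767 : act 8 n50840 = n52767 := rfl
theorem F235838 : act 1 n52767 = n50841 := d15_1 D52767 (iv D50841) (iv F227056)
theorem F235839 : act 6 n52767 = n52767 := d40_1 D52767 (iv D52767) F227058
def n52768 : Q := act 3 n50841
theorem D52768 : act 3 n50841 = n52768 := rfl
theorem F235840 : act 6 n52768 = n52768 := d26_2 F227060 D52768 (iv D52768)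
theorem F235841 : act 8 n52768 = n50847 := d28_2 D50841 D52768 (iv D50847) (iv D48746) (iv F217519)
def n52769 : Q := act 3 n50844
theorem D52769 : act 3 n50844 = n52769 := rfl
theorem F235842 : act 0 n52769 = n50847 := d2_1 D52769 (iv D50847) (iv F227068)
theorem F235843 : act 6 n52769 = n52769 := d26_2 F227071 D52769 (iv D52769)
theorem F235844 : act 9 n52769 = n52769 := d29_2 F227072 D52769 (iv D52769)
def n52770 : Q := act 3 n50846
theorem D52770 : act 3 n50846 = n52770 := rfl
theorem F235845 : act 1 n52770 = n50847 := d10_1 D52770 (iv D50847) (iv F227077)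
theorem F235846 : act 6 n52770 = n52770 := d26_2 F227080 D52770 (iv D52770)
theorem F235847 : act 9 n52770 = n52770 := d29_2 F227081 D52770 (iv D52770)
def n52771 : Q := act 8 n50857
theorem D52771 : act 8 n50857 = n52771 := rfl
theorem F235848 : act 0 n52771 = n50865 := d7_1 D52771 (iv D50865) (iv F227165)
theorem F235849 : act 1 n52771 = n51259 := d15_1 D52771 F229594 (iv F227166)
theorem F235850 : act 2 n52771 = n51133 := d22_1 D52771 (iv D51133) (iv F227167)
theorem F235851 : act 4 n52771 = n51258 := d33_1 D52771 F229586 (iv F227169)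
theorem F235852 : act 5 n52771 = n51373 := d37_1 D52771 (iv D51373) (iv F227170)
theorem F235853 : act 6 n52771 = n52771 := d40_1 D52771 (iv D52771) F227171
theorem F235854 : act 7 n52771 = n50858 := d42_1 D52771 (iv D50858) (iv F227172)
theorem F235855 : act 9 n52771 = n52771 := d44_2 D50857 D52771 (iv D52771) (iv D50857) F217685
theorem F235856 : act 3 n52728 = n52771 := d27_3 F235854 (iv F227180) (iv F235678)
def n52772 : Q := act 9 n50860
theorem D52772 : act 9 n50860 = n52772 := rfl
theorem F235857 : act 0 n52772 = n51478 := d8_1 D52772 (iv D51478) (iv F227190)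
theorem F235858 : act 1 n52772 = n52772 := d16_1 D52772 (iv D52772) F227191
theorem F235859 : act 2 n52772 = n51222 := d23_1 D52772 (iv D51222) (iv F227192)
theorem F235860 : act 3 n52772 = n51836 := d29_1 D52772 (iv D51836) (iv F227193)
theorem F235861 : act 4 n52772 = n51477 := d34_1 D52772 (iv D51477) (iv F227194)
theorem F235862 : act 5 n52772 = n50863 := d38_1 D52772 (iv D50863) (iv F227195)
theorem F235863 : act 6 n52772 = n51553 := d41_1 D52772 (iv D51553) (iv F227196)
theorem F235864 : act 7 n52772 = n50861 := d43_1 D52772 (iv D50861) D50860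
def n52773 : Q := act 8 n50861
theorem D52773 : act 8 n50861 = n52773 := rfl
theorem F235865 : act 0 n52773 = n51256 := d7_1 D52773 F229576 (iv F227198)
theorem F235866 : act 1 n52773 = n52773 := d15_1 D52773 (iv D52773) F227199
theorem F235867 : act 2 n52773 = n51223 := d22_1 D52773 (iv D51223) (iv F227200)
theorem F235868 : act 3 n52773 = n51254 := d28_1 D52773 (iv D51254) F219975 D49920 (iv F227201)
theorem F235869 : act 4 n52773 = n52412 := d33_1 D52773 (iv D52412) (iv F227202)
theorem F235870 : act 5 n52773 = n50864 := d37_1 D52773 (iv D50864) (iv F227203)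
theorem F235871 : act 6 n52773 = n50862 := d40_1 D52773 (iv D50862) (iv F227204)
theorem F235872 : act 9 n52773 = n52773 := d44_2 D50861 D52773 (iv D52773) (iv D50861) F217713
def n52774 : Q := act 8 n50863
theorem D52774 : act 8 n50863 = n52774 := rfl
theorem F235873 : act 0 n52774 = n51258 := d7_1 D52774 F229586 (iv F227213)
theorem F235874 : act 1 n52774 = n52774 := d15_1 D52774 (iv D52774) F227214
theorem F235875 : act 2 n52774 = n51226 := d22_1 D52774 (iv D51226) (iv F227215)
theorem F235876 : act 3 n52774 = n51257 := d28_1 D52774 (iv D51257) F220004 D49923 (iv F227216)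
theorem F235877 : act 4 n52774 = n50865 := d33_1 D52774 (iv D50865) (iv F227217)
theorem F235878 : act 6 n52774 = n52774 := d40_1 D52774 (iv D52774) F227218
theorem F235879 : act 7 n52774 = n50864 := d42_1 D52774 (iv D50864) (iv F227219)
theorem F235880 : act 9 n52774 = n52774 := d44_2 D50863 D52774 (iv D52774) (iv D50863) F217735
def n52775 : Q := act 4 n50866
theorem D52775 : act 4 n50866 = n52775 := rfl
theorem F235881 : act 0 n52775 = n50876 := d3_1 D52775 F227314 (iv F227234)
theorem F235882 : act 1 n52775 = n52775 := d11_1 D52775 (iv D52775) F227235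
theorem F235883 : act 2 n52775 = n52096 := d18_1 D52775 F233546 (iv F227236)
theorem F235884 : act 3 n52775 = n50875 := d24_1 D52775 F227310 (iv F227223) F227224 D50866
theorem F235885 : act 5 n52775 = n52729 := d30_2 (iv F227237) D52775 (iv D52729) F226787 F226814
theorem F235886 : act 6 n52775 = n50868 := d31_2 (iv F227238) D52775 (iv D50868)
theorem F235887 : act 7 n52775 = n52730 := d32_2 (iv F227239) D52775 (iv D52730)
theorem F235888 : act 8 n52775 = n52775 := d33_2 F227240 D52775 (iv D52775)
theorem F235889 : act 9 n52775 = n52775 := d34_2 F227241 D52775 (iv D52775)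
def n52776 : Q := act 8 n50870
theorem D52776 : act 8 n50870 = n52776 := rfl
theorem F235890 : act 0 n52776 = n50871 := d7_1 D52776 (iv D50871) (iv F227268)
theorem F235891 : act 1 n52776 = n52776 := d15_1 D52776 (iv D52776) F227269
theorem F235892 : act 2 n52776 = n52732 := d22_1 D52776 F235704 (iv F227270)
theorem F235893 : act 4 n52776 = n52132 := d33_1 D52776 (iv D52132) (iv F227272)
theorem F235894 : act 5 n52776 = n50875 := d37_1 D52776 (iv D50875) (iv F227273)
theorem F235895 : act 6 n52776 = n52776 := d40_1 D52776 (iv D52776) F227274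
theorem F235896 : act 7 n52776 = n52095 := d42_1 D52776 (iv D52095) (iv F227275)
theorem F235897 : act 9 n52776 = n52776 := d44_2 D50870 D52776 (iv D52776) (iv D50870) F217801
theorem F235898 : act 3 n52729 = n52776 := d25_3 F235894 (iv F235884) F235885
def n52777 : Q := act 8 n50872
theorem D52777 : act 8 n50872 = n52777 := rfl
theorem F235899 : act 0 n52777 = n50873 := d7_1 D52777 (iv D50873) (iv F227284)
theorem F235900 : act 1 n52777 = n52777 := d15_1 D52777 (iv D52777) F227285
theorem F235901 : act 2 n52777 = n52731 := d22_1 D52777 (iv D52731) (iv F227286)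
theorem F235902 : act 4 n52777 = n51257 := d33_1 D52777 (iv D51257) (iv F227288)
theorem F235903 : act 5 n52777 = n52095 := d37_1 D52777 (iv D52095) (iv F227289)
theorem F235904 : act 6 n52777 = n52777 := d40_1 D52777 (iv D52777) F227290
theorem F235905 : act 7 n52777 = n50875 := d42_1 D52777 (iv D50875) (iv F227291)
theorem F235906 : act 9 n52777 = n52777 := d44_2 D50872 D52777 (iv D52777) (iv D50872) F217824
theorem F235907 : act 3 n52730 = n52777 := d27_3 F235905 (iv F235884) F235887
def n52778 : Q := act 3 n50873
theorem D52778 : act 3 n50873 = n52778 := rfl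
theorem F235908 : act 0 n52778 = n52730 := d2_1 D52778 F235907 F235899
theorem F235909 : act 1 n52778 = n50874 := d10_1 D52778 (iv D50874) (iv F227292)
theorem F235910 : act 2 n52778 = n52729 := d17_1 D52778 F235898 F235892 (iv D52732) (iv F227293)
theorem F235911 : act 4 n52778 = n52728 := d24_2 (iv F227294) D52778 F235856 F235851 (iv D51258)
theorem F235912 : act 5 n52778 = n52096 := d25_2 (iv F227295) D52778 (iv D52096)
theorem F235913 : act 6 n52778 = n52778 := d26_2 F227296 D52778 (iv D52778)
theorem F235914 : act 7 n52778 = n50876 := d27_2 (iv F227297) D52778 (iv D50876)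
theorem F235915 : act 8 n52778 = n52778 := d28_2 D50873 D52778 (iv D52778) (iv D50873) F217827
theorem F235916 : act 9 n52778 = n52778 := d29_2 F227298 D52778 (iv D52778)
def n52779 : Q := act 2 n50876
theorem D52779 : act 2 n50876 = n52779 := rfl
theorem F235917 : act 0 n52779 = n52096 := d1_1 D52779 (iv F235883) F235881
theorem F235918 : act 1 n52779 = n52779 := d9_1 D52779 (iv D52779) F227313 F217850 (iv F227313)
theorem F235919 : act 3 n52779 = n52095 := d17_2 D50876 D52779 F233541 (iv F227262) F227261
theorem F235920 : act 4 n52779 = n51677 := d18_2 (iv F227314) D52779 F231645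
theorem F235921 : act 5 n52779 = n52730 := d19_2 (iv F227315) D52779 F235688
theorem F235922 : act 6 n52779 = n50877 := d20_2 (iv F227316) D52779 (iv D50877)
theorem F235923 : act 7 n52779 = n52729 := d21_2 F235914 D52779 (iv F235910)
theorem F235924 : act 8 n52779 = n52779 := d22_2 F227317 D52779 (iv D52779)
theorem F235925 : act 9 n52779 = n52779 := d23_2 F227318 D52779 (iv D52779)
def n52780 : Q := act 9 n50878
theorem D52780 : act 9 n50878 = n52780 := rfl
theorem F235926 : act 0 n52780 = n51342 := d8_1 D52780 (iv D51342) (iv F227327)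
theorem F235927 : act 1 n52780 = n51289 := d16_1 D52780 (iv D51289) (iv F227328)
theorem F235928 : act 2 n52780 = n51356 := d23_1 D52780 (iv D51356) (iv F227329)
theorem F235929 : act 3 n52780 = n52780 := d29_1 D52780 (iv D52780) F227330
theorem F235930 : act 4 n52780 = n50879 := d34_1 D52780 (iv D50879) D50878
theorem F235931 : act 5 n52780 = n51315 := d38_1 D52780 (iv D51315) (iv F227331)
theorem F235932 : act 6 n52780 = n51353 := d41_1 D52780 (iv D51353) (iv F227332)
theorem F235933 : act 7 n52780 = n50909 := d43_1 D52780 (iv D50909) (iv F227333)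
def n52781 : Q := act 8 n50879
theorem D52781 : act 8 n50879 = n52781 := rfl
theorem F235934 : act 0 n52781 = n52036 := d7_1 D52781 (iv D52036) (iv F227335)
theorem F235935 : act 1 n52781 = n51290 := d15_1 D52781 (iv D51290) (iv F227336)
theorem F235936 : act 2 n52781 = n52339 := d22_1 D52781 F234551 (iv F227337)
theorem F235937 : act 3 n52781 = n50894 := d28_1 D52781 (iv D50894) F218069 (iv F217890) (iv F227338)
theorem F235938 : act 5 n52781 = n52033 := d37_1 D52781 (iv D52033) (iv F227339)
theorem F235939 : act 6 n52781 = n52338 := d40_1 D52781 (iv D52338) (iv F227340)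
theorem F235940 : act 7 n52781 = n50910 := d42_1 D52781 (iv D50910) (iv F227341)
theorem F235941 : act 9 n52781 = n50885 := d44_2 D50879 D52781 (iv D50885) (iv D48798) (iv F217882)
def n52782 : Q := act 9 n50880
theorem D52782 : act 9 n50880 = n52782 := rfl
theorem F235942 : act 0 n52782 = n51356 := d8_1 D52782 (iv D51356) (iv F227342)
theorem F235943 : act 1 n52782 = n51280 := d16_1 D52782 (iv D51280) (iv F227343)
theorem F235944 : act 2 n52782 = n51342 := d23_1 D52782 (iv D51342) (iv F227344)
theorem F235945 : act 3 n52782 = n50886 := d29_1 D52782 (iv D50886) (iv F227345)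
theorem F235946 : act 4 n52782 = n50881 := d34_1 D52782 (iv D50881) D50880
theorem F235947 : act 5 n52782 = n51340 := d38_1 D52782 (iv D51340) (iv F227346)
theorem F235948 : act 6 n52782 = n50884 := d41_1 D52782 (iv D50884) (iv F227347)
theorem F235949 : act 7 n52782 = n51404 := d43_1 D52782 (iv D51404) (iv F227348)
def n52783 : Q := act 8 n50881
theorem D52783 : act 8 n50881 = n52783 := rfl
theorem F235950 : act 0 n52783 = n52339 := d7_1 D52783 F234551 (iv F227350)
theorem F235951 : act 1 n52783 = n51293 := d15_1 D52783 (iv D51293) (iv F227351)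
theorem F235952 : act 2 n52783 = n52036 := d22_1 D52783 (iv D52036) (iv F227352)
theorem F235953 : act 3 n52783 = n50895 := d28_1 D52783 (iv D50895) F218075 (iv F217914) (iv F227353)
theorem F235954 : act 5 n52783 = n52037 := d37_1 D52783 (iv D52037) (iv F227354)
theorem F235955 : act 6 n52783 = n50885 := d40_1 D52783 (iv D50885) (iv F227355)
theorem F235956 : act 7 n52783 = n52049 := d42_1 D52783 F233349 (iv F227356)
theorem F235957 : act 9 n52783 = n52338 := d44_2 D50881 D52783 (iv D52338) (iv D50310) (iv F217906)
def n52784 : Q := act 9 n50882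
theorem D52784 : act 9 n50882 = n52784 := rfl
theorem F235958 : act 0 n52784 = n51353 := d8_1 D52784 (iv D51353) (iv F227357)
theorem F235959 : act 1 n52784 = n51344 := d16_1 D52784 (iv D51344) (iv F227358)
theorem F235960 : act 2 n52784 = n50884 := d23_1 D52784 (iv D50884) (iv F227359)
theorem F235961 : act 3 n52784 = n52784 := d29_1 D52784 (iv D52784) F227360
theorem F235962 : act 4 n52784 = n50883 := d34_1 D52784 (iv D50883) D50882
theorem F235963 : act 5 n52784 = n51324 := d38_1 D52784 (iv D51324) (iv F227361)
theorem F235964 : act 6 n52784 = n51342 := d41_1 D52784 (iv D51342) (iv F227362)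
theorem F235965 : act 7 n52784 = n50927 := d43_1 D52784 (iv D50927) (iv F227363)
def n52785 : Q := act 8 n50883
theorem D52785 : act 8 n50883 = n52785 := rfl
theorem F235966 : act 0 n52785 = n52338 := d7_1 D52785 (iv D52338) (iv F227365)
theorem F235967 : act 1 n52785 = n51345 := d15_1 D52785 (iv D51345) (iv F227366)
theorem F235968 : act 2 n52785 = n50885 := d22_1 D52785 (iv D50885) (iv F227367)
theorem F235969 : act 3 n52785 = n52037 := d28_1 D52785 (iv D52037) F223891 (iv F217977) (iv F227368)
theorem F235970 : act 5 n52785 = n50895 := d37_1 D52785 (iv D50895) (iv F227369)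
theorem F235971 : act 6 n52785 = n52036 := d40_1 D52785 (iv D52036) (iv F227370)
theorem F235972 : act 7 n52785 = n50928 := d42_1 D52785 (iv D50928) (iv F227371)
theorem F235973 : act 9 n52785 = n52339 := d44_2 D50883 D52785 F234551 (iv D50313) (iv F217920)
def n52786 : Q := act 8 n50884
theorem D52786 : act 8 n50884 = n52786 := rfl
theorem F235974 : act 0 n52786 = n51357 := d7_1 D52786 (iv D51357) (iv F227372)
theorem F235975 : act 1 n52786 = n51297 := d15_1 D52786 (iv D51297) (iv F227373)
theorem F235976 : act 4 n52786 = n50885 := d33_1 D52786 (iv D50885) (iv F227375)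
theorem F235977 : act 5 n52786 = n51326 := d37_1 D52786 (iv D51326) (iv F227376)
theorem F235978 : act 7 n52786 = n50929 := d42_1 D52786 (iv D50929) (iv F227377)
def n52787 : Q := act 3 n50887
theorem D52787 : act 3 n50887 = n52787 := rfl
theorem F235979 : act 0 n52787 = n51360 := d2_1 D52787 (iv D51360) (iv F227391)
theorem F235980 : act 1 n52787 = n51299 := d10_1 D52787 (iv D51299) (iv F227392)
theorem F235981 : act 4 n52787 = n50902 := d24_2 (iv F227394) D52787 (iv D50902) F218120 (iv F217965)
theorem F235982 : act 5 n52787 = n51329 := d25_2 (iv F227395) D52787 (iv D51329)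
theorem F235983 : act 6 n52787 = n52328 := d26_2 (iv F227396) D52787 F234522
theorem F235984 : act 7 n52787 = n50934 := d27_2 (iv F227397) D52787 (iv D50934)
theorem F235985 : act 9 n52787 = n52787 := d29_2 F227398 D52787 (iv D52787)
def n52788 : Q := act 8 n50888
theorem D52788 : act 8 n50888 = n52788 := rfl
theorem F235986 : act 0 n52788 = n51307 := d7_1 D52788 (iv D51307) (iv F227399)
theorem F235987 : act 1 n52788 = n50889 := d15_1 D52788 (iv D50889) (iv F227400)
theorem F235988 : act 2 n52788 = n52329 := d22_1 D52788 (iv D52329) (iv F227401)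
theorem F235989 : act 3 n52788 = n52042 := d28_1 D52788 (iv D52042) F223925 (iv F217993) (iv F227402)
theorem F235990 : act 4 n52788 = n52333 := d33_1 D52788 (iv D52333) (iv F227403)
theorem F235991 : act 5 n52788 = n52034 := d37_1 D52788 (iv D52034) (iv F227404)
theorem F235992 : act 6 n52788 = n52336 := d40_1 D52788 (iv D52336) (iv F227405)
theorem F235993 : act 7 n52788 = n50946 := d42_1 D52788 (iv D50946) (iv F227406)
theorem F235994 : act 9 n52788 = n52039 := d44_2 D50888 D52788 (iv D52039) (iv D49976) (iv F217984)
def n52789 : Q := act 8 n50892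
theorem D52789 : act 8 n50892 = n52789 := rfl
theorem F235995 : act 0 n52789 = n52037 := d7_1 D52789 (iv D52037) (iv F227433)
theorem F235996 : act 1 n52789 = n51338 := d15_1 D52789 (iv D51338) (iv F227434)
theorem F235997 : act 2 n52789 = n52033 := d22_1 D52789 (iv D52033) (iv F227435)
theorem F235998 : act 3 n52789 = n52338 := d28_1 D52789 (iv D52338) F225323 (iv F218057) (iv F227436)
theorem F235999 : act 4 n52789 = n52325 := d33_1 D52789 (iv D52325) (iv F227437)
theorem F236000 : act 5 n52789 = n52339 := d37_1 D52789 F234551 (iv F227438)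
theorem F236001 : act 6 n52789 = n50894 := d40_1 D52789 (iv D50894) (iv F227439)
theorem F236002 : act 7 n52789 = n52046 := d42_1 D52789 (iv D52046) (iv F227440)
theorem F236003 : act 9 n52789 = n50895 := d44_2 D50892 D52789 (iv D50895) (iv D48817) (iv F218048)
def n52790 : Q := act 8 n50893
theorem D52790 : act 8 n50893 = n52790 := rfl
theorem F236004 : act 0 n52790 = n52041 := d7_1 D52790 (iv D52041) (iv F227441)
theorem F236005 : act 1 n52790 = n51343 := d15_1 D52790 (iv D51343) (iv F227442)
theorem F236006 : act 2 n52790 = n52035 := d22_1 D52790 (iv D52035) (iv F227443)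
theorem F236007 : act 4 n52790 = n50894 := d33_1 D52790 (iv D50894) (iv F227445)
theorem F236008 : act 5 n52790 = n52332 := d37_1 D52790 (iv D52332) (iv F227446)
theorem F236009 : act 6 n52790 = n52325 := d40_1 D52790 (iv D52325) (iv F227447)
theorem F236010 : act 7 n52790 = n50968 := d42_1 D52790 (iv D50968) (iv F227448)
theorem F236011 : act 9 n52790 = n50899 := d44_2 D50893 D52790 (iv D50899) (iv D48820) (iv F218065)
def n52791 : Q := act 9 n50897
theorem D52791 : act 9 n50897 = n52791 := rfl
theorem F236012 : act 0 n52791 = n51294 := d8_1 D52791 (iv D51294) (iv F227470)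
theorem F236013 : act 1 n52791 = n51356 := d16_1 D52791 (iv D51356) (iv F227471)
theorem F236014 : act 2 n52791 = n51317 := d23_1 D52791 (iv D51317) (iv F227472)
theorem F236015 : act 3 n52791 = n50900 := d29_1 D52791 (iv D50900) (iv F227473)
theorem F236016 : act 4 n52791 = n51334 := d34_1 D52791 (iv D51334) (iv F227474)
theorem F236017 : act 5 n52791 = n51319 := d38_1 D52791 (iv D51319) (iv F227475)
theorem F236018 : act 6 n52791 = n50898 := d41_1 D52791 (iv D50898) D50897
theorem F236019 : act 7 n52791 = n51450 := d43_1 D52791 (iv D51450) F227477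
def n52792 : Q := act 8 n50898
theorem D52792 : act 8 n50898 = n52792 := rfl
theorem F236020 : act 0 n52792 = n52331 := d7_1 D52792 (iv D52331) (iv F227478)
theorem F236021 : act 1 n52792 = n51357 := d15_1 D52792 (iv D51357) (iv F227479)
theorem F236022 : act 2 n52792 = n52326 := d22_1 D52792 (iv D52326) (iv F227480)
theorem F236023 : act 4 n52792 = n52042 := d33_1 D52792 (iv D52042) (iv F227482)
theorem F236024 : act 5 n52792 = n50899 := d37_1 D52792 (iv D50899) (iv F227483)
theorem F236025 : act 7 n52792 = n50987 := d42_1 D52792 (iv D50987) (iv F227484)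
theorem F236026 : act 9 n52792 = n52332 := d44_2 D50898 D52792 (iv D52332) (iv D50303) (iv F218093)
def n52793 : Q := act 3 n50899
theorem D52793 : act 3 n50899 = n52793 := rfl
theorem F236027 : act 0 n52793 = n52334 := d2_1 D52793 (iv D52334) (iv F227485)
theorem F236028 : act 1 n52793 = n51358 := d10_1 D52793 (iv D51358) (iv F227486)
theorem F236029 : act 6 n52793 = n52327 := d26_2 (iv F227489) D52793 (iv D52327)
theorem F236030 : act 7 n52793 = n50988 := d27_2 (iv F227490) D52793 (iv D50988)
theorem F236031 : act 8 n52793 = n50902 := d28_2 D50899 D52793 (iv D50902) (iv D48824) (iv F218097)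
def n52794 : Q := act 3 n50901
theorem D52794 : act 3 n50901 = n52794 := rfl
theorem F236032 : act 0 n52794 = n52341 := d2_1 D52794 (iv D52341) (iv F227499)
theorem F236033 : act 1 n52794 = n51360 := d10_1 D52794 (iv D51360) (iv F227500)
theorem F236034 : act 2 n52794 = n52343 := d17_1 D52794 (iv D52343) F225354 (iv F225289) (iv F227501)
theorem F236035 : act 4 n52794 = n52342 := d24_2 (iv F227502) D52794 (iv D52342) F225348 (iv F218140)
theorem F236036 : act 5 n52794 = n50902 := d25_2 (iv F227503) D52794 (iv D50902)
theorem F236037 : act 6 n52794 = n52344 := d26_2 (iv F227504) D52794 F234565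
theorem F236038 : act 7 n52794 = n50995 := d27_2 (iv F227505) D52794 (iv D50995)
theorem F236039 : act 9 n52794 = n52794 := d29_2 F227506 D52794 (iv D52794)
def n52795 : Q := act 2 n50902
theorem D52795 : act 2 n50902 = n52795 := rfl
theorem F236040 : act 0 n52795 = n51364 := d1_1 D52795 F230201 (iv F227507)
theorem F236041 : act 3 n52795 = n51363 := d17_2 D50902 D52795 F230194 F220806 (iv F218119)
theorem F236042 : act 5 n52795 = n52343 := d19_2 F236036 D52795 (iv F236034)
theorem F236043 : act 6 n52795 = n52320 := d20_2 (iv F227509) D52795 F234496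
theorem F236044 : act 7 n52795 = n50996 := d21_2 (iv F227510) D52795 (iv D50996)
theorem F236045 : act 9 n52795 = n52795 := d23_2 F227511 D52795 (iv D52795)
def n52796 : Q := act 4 n50903
theorem D52796 : act 4 n50903 = n52796 := rfl
theorem F236046 : act 0 n52796 = n52062 := d3_1 D52796 (iv D52062) (iv F227512)
theorem F236047 : act 1 n52796 = n51420 := d11_1 D52796 (iv D51420) (iv F227513)
theorem F236048 : act 2 n52796 = n52448 := d18_1 D52796 F234869 (iv F227514)
theorem F236049 : act 3 n52796 = n52147 := d24_1 D52796 (iv D52147) (iv D50118) (iv F218157) D50903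
theorem F236050 : act 6 n52796 = n52043 := d31_2 (iv F227516) D52796 (iv D52043)
theorem F236051 : act 7 n52796 = n52444 := d32_2 (iv F227517) D52796 F234860
theorem F236052 : act 8 n52796 = n50914 := d33_2 (iv F227518) D52796 (iv D50914)
def n52797 : Q := act 9 n50903
theorem D52797 : act 9 n50903 = n52797 := rfl
theorem F236053 : act 0 n52797 = n52063 := d8_1 D52797 (iv D52063) (iv F227512)
theorem F236054 : act 1 n52797 = n51421 := d16_1 D52797 (iv D51421) (iv F227513)
theorem F236055 : act 2 n52797 = n52462 := d23_1 D52797 (iv D52462) (iv F227514)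
theorem F236056 : act 3 n52797 = n50904 := d29_1 D52797 (iv D50904) D50903
theorem F236057 : act 5 n52797 = n50906 := d38_1 D52797 (iv D50906) (iv F227515)
theorem F236058 : act 6 n52797 = n52044 := d41_1 D52797 (iv D52044) (iv F227516)
theorem F236059 : act 7 n52797 = n52458 := d43_1 D52797 (iv D52458) (iv F227517)
def n52798 : Q := act 5 n50905
theorem D52798 : act 5 n50905 = n52798 := rfl
theorem F236060 : act 0 n52798 = n51590 := d4_1 D52798 F231291 (iv F227527)
theorem F236061 : act 1 n52798 = n51425 := d12_1 D52798 (iv D51425) (iv F227528)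
theorem F236062 : act 2 n52798 = n51629 := d19_1 D52798 F231434 (iv F227529)
theorem F236063 : act 3 n52798 = n52798 := d25_1 D52798 (iv D52798) F227530
theorem F236064 : act 6 n52798 = n51510 := d35_2 (iv F227531) D52798 (iv D51510) F221642 (iv F218184)
theorem F236065 : act 7 n52798 = n51625 := d36_2 (iv F227532) D52798 F231424
theorem F236066 : act 8 n52798 = n50921 := d37_2 (iv F227533) D52798 (iv D50921)
def n52799 : Q := act 9 n50905
theorem D52799 : act 9 n50905 = n52799 := rfl
theorem F236067 : act 0 n52799 = n51596 := d8_1 D52799 (iv D51596) (iv F227527)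
theorem F236068 : act 1 n52799 = n51426 := d16_1 D52799 (iv D51426) (iv F227528)
theorem F236069 : act 2 n52799 = n51640 := d23_1 D52799 (iv D51640) (iv F227529)
theorem F236070 : act 3 n52799 = n52799 := d29_1 D52799 (iv D52799) F227530
theorem F236071 : act 4 n52799 = n50906 := d34_1 D52799 (iv D50906) D50905
theorem F236072 : act 6 n52799 = n50909 := d41_1 D52799 (iv D50909) (iv F227531)
theorem F236073 : act 7 n52799 = n51636 := d43_1 D52799 (iv D51636) (iv F227532)
def n52800 : Q := act 8 n50906
theorem D52800 : act 8 n50906 = n52800 := rfl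
theorem F236074 : act 0 n52800 = n52085 := d7_1 D52800 F233508 (iv F227534)
theorem F236075 : act 1 n52800 = n51427 := d15_1 D52800 (iv D51427) (iv F227535)
theorem F236076 : act 2 n52800 = n52460 := d22_1 D52800 F234899 (iv F227536)
theorem F236077 : act 3 n52800 = n50965 := d28_1 D52800 (iv D50965) F218581 (iv F218173) (iv F227537)
theorem F236078 : act 6 n52800 = n50910 := d40_1 D52800 (iv D50910) (iv F227538)
theorem F236079 : act 7 n52800 = n52470 := d42_1 D52800 (iv D52470) (iv F227539)
theorem F236080 : act 9 n52800 = n50923 := d44_2 D50906 D52800 (iv D50923) (iv D48843) (iv F218166)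
def n52801 : Q := act 8 n50909
theorem D52801 : act 8 n50909 = n52801 := rfl
theorem F236081 : act 0 n52801 = n51597 := d7_1 D52801 (iv D51597) (iv F227558)
theorem F236082 : act 1 n52801 = n51433 := d15_1 D52801 (iv D51433) (iv F227559)
theorem F236083 : act 2 n52801 = n52471 := d22_1 D52801 F234921 (iv F227560)
theorem F236084 : act 4 n52801 = n50910 := d33_1 D52801 (iv D50910) (iv F227562)
theorem F236085 : act 5 n52801 = n51516 := d37_1 D52801 (iv D51516) (iv F227563)
theorem F236086 : act 9 n52801 = n50929 := d44_2 D50909 D52801 (iv D50929) (iv D48847) (iv F218185)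
def n52802 : Q := act 4 n50911
theorem D52802 : act 4 n50911 = n52802 := rfl
theorem F236087 : act 0 n52802 = n52448 := d3_1 D52802 F234869 (iv F227570)
theorem F236088 : act 1 n52802 = n51436 := d11_1 D52802 (iv D51436) (iv F227571)
theorem F236089 : act 2 n52802 = n52062 := d18_1 D52802 (iv D52062) (iv F227572)
theorem F236090 : act 3 n52802 = n51018 := d24_1 D52802 (iv D51018) (iv D48941) (iv F218203) D50911
theorem F236091 : act 6 n52802 = n52064 := d31_2 (iv F227574) D52802 (iv D52064)
theorem F236092 : act 7 n52802 = n50914 := d32_2 (iv F227575) D52802 (iv D50914)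
theorem F236093 : act 8 n52802 = n52444 := d33_2 (iv F227576) D52802 F234860
def n52803 : Q := act 9 n50911
theorem D52803 : act 9 n50911 = n52803 := rfl
theorem F236094 : act 0 n52803 = n52462 := d8_1 D52803 (iv D52462) (iv F227570)
theorem F236095 : act 1 n52803 = n51437 := d16_1 D52803 (iv D51437) (iv F227571)
theorem F236096 : act 2 n52803 = n52063 := d23_1 D52803 (iv D52063) (iv F227572)
theorem F236097 : act 3 n52803 = n50912 := d29_1 D52803 (iv D50912) D50911
theorem F236098 : act 5 n52803 = n50917 := d38_1 D52803 (iv D50917) (iv F227573)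
theorem F236099 : act 6 n52803 = n52065 := d41_1 D52803 (iv D52065) (iv F227574)
theorem F236100 : act 7 n52803 = n50915 := d43_1 D52803 (iv D50915) (iv F227575)
def n52804 : Q := act 4 n50913
theorem D52804 : act 4 n50913 = n52804 := rfl
theorem F236101 : act 0 n52804 = n52444 := d3_1 D52804 F234860 (iv F227585)
theorem F236102 : act 1 n52804 = n51599 := d11_1 D52804 (iv D51599) F227591
theorem F236103 : act 2 n52804 = n50914 := d18_1 D52804 (iv D50914) D50913
theorem F236104 : act 3 n52804 = n51171 := d24_1 D52804 (iv D51171) (iv D49081) (iv F218314) (iv F227586)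
theorem F236105 : act 6 n52804 = n50969 := d31_2 (iv F227588) D52804 (iv D50969)
theorem F236106 : act 7 n52804 = n52062 := d32_2 (iv F227589) D52804 (iv D52062)
theorem F236107 : act 8 n52804 = n52448 := d33_2 (iv F227590) D52804 F234869
def n52805 : Q := act 9 n50913
theorem D52805 : act 9 n50913 = n52805 := rfl
theorem F236108 : act 0 n52805 = n52458 := d8_1 D52805 (iv D52458) (iv F227585)
theorem F236109 : act 1 n52805 = n51600 := d16_1 D52805 (iv D51600) F227591
theorem F236110 : act 2 n52805 = n50915 := d23_1 D52805 (iv D50915) D50913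
theorem F236111 : act 3 n52805 = n50935 := d29_1 D52805 (iv D50935) (iv F227586)
theorem F236112 : act 5 n52805 = n50920 := d38_1 D52805 (iv D50920) (iv F227587)
theorem F236113 : act 6 n52805 = n50970 := d41_1 D52805 (iv D50970) (iv F227588)
theorem F236114 : act 7 n52805 = n52063 := d43_1 D52805 (iv D52063) (iv F227589)
def n52806 : Q := act 5 n50914
theorem D52806 : act 5 n50914 = n52806 := rfl
theorem F236115 : act 0 n52806 = n51613 := d4_1 D52806 F231371 (iv F227592)
theorem F236116 : act 1 n52806 = n51441 := d12_1 D52806 (iv D51441) (iv F227593)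
theorem F236117 : act 3 n52806 = n51023 := d25_1 D52806 (iv D51023) (iv F227594)
theorem F236118 : act 4 n52806 = n50921 := d30_1 D52806 (iv D50921) (iv D48842) (iv F218209) D50914
theorem F236119 : act 6 n52806 = n51525 := d35_2 (iv F227595) D52806 (iv D51525) F221687 (iv F223964)
def n52807 : Q := act 9 n50914
theorem D52807 : act 9 n50914 = n52807 := rfl
theorem F236120 : act 0 n52807 = n52449 := d8_1 D52807 (iv D52449) (iv F227592)
theorem F236121 : act 1 n52807 = n51442 := d16_1 D52807 (iv D51442) (iv F227593)
theorem F236122 : act 3 n52807 = n51024 := d29_1 D52807 (iv D51024) (iv F227594)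
theorem F236123 : act 4 n52807 = n50915 := d34_1 D52807 (iv D50915) D50914
theorem F236124 : act 6 n52807 = n52047 := d41_1 D52807 (iv D52047) (iv F227595)
def n52808 : Q := act 8 n50915
theorem D52808 : act 8 n50915 = n52808 := rfl
theorem F236125 : act 0 n52808 = n52463 := d7_1 D52808 (iv D52463) (iv F227596)
theorem F236126 : act 1 n52808 = n51443 := d15_1 D52808 (iv D51443) (iv F227597)
theorem F236127 : act 3 n52808 = n50975 := d28_1 D52808 (iv D50975) F218622 (iv F218217) (iv F227598)
theorem F236128 : act 5 n52808 = n50923 := d37_1 D52808 (iv D50923) (iv F227599)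
theorem F236129 : act 6 n52808 = n52048 := d40_1 D52808 (iv D52048) (iv F227600)
def n52809 : Q := act 5 n50916
theorem D52809 : act 5 n50916 = n52809 := rfl
theorem F236130 : act 0 n52809 = n51629 := d4_1 D52809 F231434 (iv F227601)
theorem F236131 : act 1 n52809 = n51396 := d12_1 D52809 F230407 (iv F227602)
theorem F236132 : act 2 n52809 = n51590 := d19_1 D52809 F231291 (iv F227603)
theorem F236133 : act 3 n52809 = n50930 := d25_1 D52809 (iv D50930) (iv F227604)
theorem F236134 : act 6 n52809 = n51587 := d35_2 (iv F227605) D52809 (iv D51587) F221916 (iv F221153)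
theorem F236135 : act 7 n52809 = n50921 := d36_2 (iv F227606) D52809 (iv D50921)
theorem F236136 : act 8 n52809 = n51625 := d37_2 (iv F227607) D52809 F231424
def n52810 : Q := act 9 n50916
theorem D52810 : act 9 n50916 = n52810 := rfl
theorem F236137 : act 0 n52810 = n51640 := d8_1 D52810 (iv D51640) (iv F227601)
theorem F236138 : act 1 n52810 = n51400 := d16_1 D52810 (iv D51400) (iv F227602)
theorem F236139 : act 2 n52810 = n51596 := d23_1 D52810 (iv D51596) (iv F227603)
theorem F236140 : act 3 n52810 = n50931 := d29_1 D52810 (iv D50931) (iv F227604)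
theorem F236141 : act 4 n52810 = n50917 := d34_1 D52810 (iv D50917) D50916
theorem F236142 : act 6 n52810 = n51404 := d41_1 D52810 (iv D51404) (iv F227605)
theorem F236143 : act 7 n52810 = n50922 := d43_1 D52810 (iv D50922) (iv F227606)
def n52811 : Q := act 8 n50917
theorem D52811 : act 8 n50917 = n52811 := rfl
theorem F236144 : act 0 n52811 = n52460 := d7_1 D52811 F234899 (iv F227608)
theorem F236145 : act 1 n52811 = n51444 := d15_1 D52811 (iv D51444) (iv F227609)
theorem F236146 : act 2 n52811 = n52085 := d22_1 D52811 F233508 (iv F227610)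
theorem F236147 : act 3 n52811 = n50976 := d28_1 D52811 (iv D50976) F218628 (iv F218230) (iv F227611)
theorem F236148 : act 6 n52811 = n52049 := d40_1 D52811 F233349 (iv F227612)
theorem F236149 : act 7 n52811 = n50923 := d42_1 D52811 (iv D50923) (iv F227613)
theorem F236150 : act 9 n52811 = n52470 := d44_2 D50917 D52811 (iv D52470) (iv D50453) (iv F218223)
def n52812 : Q := act 0 n50918
theorem D52812 : act 0 n50918 = n52812 := rfl
theorem F236151 : act 1 n52812 = n51385 := d0_2 D50918 D52812 F230343 F221252 (iv F218231)
theorem F236152 : act 2 n52812 = n50985 := d1_2 (iv F227614) D52812 F228051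
theorem F236153 : act 3 n52812 = n50936 := d2_2 (iv F227615) D52812 (iv D50936)
theorem F236154 : act 5 n52812 = n51517 := d4_2 (iv F227616) D52812 F230971
theorem F236155 : act 6 n52812 = n50924 := d5_2 (iv F227617) D52812 (iv D50924)
theorem F236156 : act 7 n52812 = n50982 := d6_2 (iv F227618) D52812 F228029
theorem F236157 : act 8 n52812 = n51378 := d7_2 (iv F227619) D52812 F230304
theorem F236158 : act 4 n51423 = n52812 := d33_3 F236157 F230306 (iv F230548)
def n52813 : Q := act 4 n50918
theorem D52813 : act 4 n50918 = n52813 := rfl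
theorem F236159 : act 0 n52813 = n51423 := d3_1 D52813 F236158 (iv D52812)
theorem F236160 : act 1 n52813 = n50919 := d11_1 D52813 (iv D50919) D50918
theorem F236161 : act 2 n52813 = n51378 := d18_1 D52813 F230306 (iv F227614)
theorem F236162 : act 3 n52813 = n52813 := d24_1 D52813 (iv D52813) F227615 F218328 (iv F227615)
theorem F236163 : act 6 n52813 = n50925 := d31_2 (iv F227617) D52813 (iv D50925)
theorem F236164 : act 7 n52813 = n50966 := d32_2 (iv F227618) D52813 F227935
theorem F236165 : act 8 n52813 = n50985 := d33_2 (iv F227619) D52813 F228054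
def n52814 : Q := act 9 n50918
theorem D52814 : act 9 n50918 = n52814 := rfl
theorem F236166 : act 1 n52814 = n50920 := d16_1 D52814 (iv D50920) D50918
theorem F236167 : act 2 n52814 = n51445 := d23_1 D52814 (iv D51445) (iv F227614)
theorem F236168 : act 3 n52814 = n50937 := d29_1 D52814 (iv D50937) (iv F227615)
theorem F236169 : act 5 n52814 = n51600 := d38_1 D52814 (iv D51600) (iv F227616)
theorem F236170 : act 6 n52814 = n50926 := d41_1 D52814 (iv D50926) (iv F227617)
theorem F236171 : act 7 n52814 = n52060 := d43_1 D52814 (iv D52060) (iv F227618)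
def n52815 : Q := act 5 n50919
theorem D52815 : act 5 n50919 = n52815 := rfl
theorem F236172 : act 0 n52815 = n51625 := d4_1 D52815 F231424 (iv F227620)
theorem F236173 : act 2 n52815 = n50921 := d19_1 D52815 (iv D50921) (iv F227621)
theorem F236174 : act 3 n52815 = n52815 := d25_1 D52815 (iv D52815) F227622
theorem F236175 : act 6 n52815 = n51534 := d35_2 (iv F227623) D52815 (iv D51534) F221709 (iv F218251)
theorem F236176 : act 7 n52815 = n51590 := d36_2 (iv F227624) D52815 F231291
theorem F236177 : act 8 n52815 = n51629 := d37_2 (iv F227625) D52815 F231434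
def n52816 : Q := act 9 n50919
theorem D52816 : act 9 n50919 = n52816 := rfl
theorem F236178 : act 0 n52816 = n51636 := d8_1 D52816 (iv D51636) (iv F227620)
theorem F236179 : act 2 n52816 = n50922 := d23_1 D52816 (iv D50922) (iv F227621)
theorem F236180 : act 3 n52816 = n52816 := d29_1 D52816 (iv D52816) F227622
theorem F236181 : act 4 n52816 = n50920 := d34_1 D52816 (iv D50920) D50919
theorem F236182 : act 6 n52816 = n50927 := d41_1 D52816 (iv D50927) (iv F227623)
theorem F236183 : act 7 n52816 = n51596 := d43_1 D52816 (iv D51596) (iv F227624)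
def n52817 : Q := act 8 n50920
theorem D52817 : act 8 n50920 = n52817 := rfl
theorem F236184 : act 0 n52817 = n52470 := d7_1 D52817 (iv D52470) (iv F227626)
theorem F236185 : act 2 n52817 = n50923 := d22_1 D52817 (iv D50923) (iv F227627)
theorem F236186 : act 3 n52817 = n52078 := d28_1 D52817 (iv D52078) F224124 (iv F218338) (iv F227628)
theorem F236187 : act 6 n52817 = n50928 := d40_1 D52817 (iv D50928) (iv F227629)
theorem F236188 : act 7 n52817 = n52085 := d42_1 D52817 F233508 (iv F227630)
theorem F236189 : act 9 n52817 = n52460 := d44_2 D50920 D52817 F234899 (iv D50457) (iv F218235)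
def n52818 : Q := act 9 n50921
theorem D52818 : act 9 n50921 = n52818 := rfl
theorem F236190 : act 0 n52818 = n51630 := d8_1 D52818 (iv D51630) (iv F227631)
theorem F236191 : act 1 n52818 = n51448 := d16_1 D52818 (iv D51448) (iv F227632)
theorem F236192 : act 3 n52818 = n50932 := d29_1 D52818 (iv D50932) (iv F227633)
theorem F236193 : act 5 n52818 = n50922 := d38_1 D52818 (iv D50922) D50921
theorem F236194 : act 6 n52818 = n51537 := d41_1 D52818 (iv D51537) (iv F227634)
def n52819 : Q := act 8 n50922
theorem D52819 : act 8 n50922 = n52819 := rfl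
theorem F236195 : act 0 n52819 = n51641 := d7_1 D52819 (iv D51641) (iv F227635)
theorem F236196 : act 1 n52819 = n51449 := d15_1 D52819 (iv D51449) (iv F227636)
theorem F236197 : act 4 n52819 = n50923 := d33_1 D52819 (iv D50923) (iv F227638)
theorem F236198 : act 6 n52819 = n50929 := d40_1 D52819 (iv D50929) (iv F227639)
def n52820 : Q := act 9 n50924
theorem D52820 : act 9 n50924 = n52820 := rfl
theorem F236199 : act 0 n52820 = n50926 := d8_1 D52820 (iv D50926) D50924
theorem F236200 : act 1 n52820 = n51429 := d16_1 D52820 (iv D51429) (iv F227644)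
theorem F236201 : act 2 n52820 = n51450 := d23_1 D52820 (iv D51450) (iv F227645)
theorem F236202 : act 3 n52820 = n50938 := d29_1 D52820 (iv D50938) (iv F227646)
theorem F236203 : act 4 n52820 = n51428 := d34_1 D52820 (iv D51428) F227650
theorem F236204 : act 5 n52820 = n51318 := d38_1 D52820 (iv D51318) (iv F227647)
theorem F236205 : act 7 n52820 = n51317 := d43_1 D52820 (iv D51317) (iv F227648)
def n52821 : Q := act 9 n50925
theorem D52821 : act 9 n50925 = n52821 := rfl
theorem F236206 : act 0 n52821 = n51428 := d8_1 D52821 (iv D51428) (iv F227651)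
theorem F236207 : act 1 n52821 = n50927 := d16_1 D52821 (iv D50927) (iv F227652)
theorem F236208 : act 2 n52821 = n51451 := d23_1 D52821 (iv D51451) (iv F227653)
theorem F236209 : act 3 n52821 = n52821 := d29_1 D52821 (iv D52821) F227654
theorem F236210 : act 4 n52821 = n50926 := d34_1 D52821 (iv D50926) D50925
theorem F236211 : act 5 n52821 = n51540 := d38_1 D52821 (iv D51540) (iv F227655)
theorem F236212 : act 7 n52821 = n51344 := d43_1 D52821 (iv D51344) (iv F227656)
def n52822 : Q := act 8 n50926
theorem D52822 : act 8 n50926 = n52822 := rfl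
theorem F236213 : act 1 n52822 = n50928 := d15_1 D52822 (iv D50928) (iv F227658)
theorem F236214 : act 2 n52822 = n51452 := d22_1 D52822 (iv D51452) (iv F227659)
theorem F236215 : act 3 n52822 = n52423 := d28_1 D52822 (iv D52423) F227744 (iv D50939) (iv F227660)
theorem F236216 : act 5 n52822 = n51346 := d37_1 D52822 (iv D51346) (iv F227661)
theorem F236217 : act 7 n52822 = n51345 := d42_1 D52822 (iv D51345) (iv F227662)
theorem F236218 : act 9 n52822 = n52467 := d44_2 D50926 D52822 F234914 (iv F227547) F227546
def n52823 : Q := act 8 n50927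
theorem D52823 : act 8 n50927 = n52823 := rfl
theorem F236219 : act 0 n52823 = n51637 := d7_1 D52823 (iv D51637) (iv F227663)
theorem F236220 : act 2 n52823 = n50929 := d22_1 D52823 (iv D50929) (iv F227664)
theorem F236221 : act 4 n52823 = n50928 := d33_1 D52823 (iv D50928) (iv F227666)
theorem F236222 : act 5 n52823 = n51542 := d37_1 D52823 (iv D51542) (iv F227667)
theorem F236223 : act 9 n52823 = n52471 := d44_2 D50927 D52823 F234921 (iv F227557) F227556
theorem F236224 : act 3 n52425 = n52823 := d29_3 F236223 F234920 (iv F234817)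
def n52824 : Q := act 3 n50929
theorem D52824 : act 3 n50929 = n52824 := rfl
theorem F236225 : act 0 n52824 = n51642 := d2_1 D52824 (iv D51642) (iv F227673)
theorem F236226 : act 1 n52824 = n51459 := d10_1 D52824 (iv D51459) (iv F227674)
theorem F236227 : act 4 n52824 = n50988 := d24_2 (iv F227675) D52824 (iv D50988) F218688 (iv F218263)
theorem F236228 : act 5 n52824 = n51544 := d25_2 (iv F227676) D52824 (iv D51544)
theorem F236229 : act 8 n52824 = n50934 := d28_2 D50929 D52824 (iv D50934) (iv D48854) (iv F218258)
def n52825 : Q := act 9 n50930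
theorem D52825 : act 9 n50930 = n52825 := rfl
theorem F236230 : act 0 n52825 = n51646 := d8_1 D52825 (iv D51646) (iv F227677)
theorem F236231 : act 1 n52825 = n51411 := d16_1 D52825 (iv D51411) (iv F227678)
theorem F236232 : act 2 n52825 = n52825 := d23_1 D52825 (iv D52825) F227679
theorem F236233 : act 4 n52825 = n51042 := d34_1 D52825 (iv D51042) (iv F227680)
theorem F236234 : act 5 n52825 = n50931 := d38_1 D52825 (iv D50931) D50930
theorem F236235 : act 6 n52825 = n52358 := d41_1 D52825 (iv D52358) (iv F227681)
theorem F236236 : act 7 n52825 = n50932 := d43_1 D52825 (iv D50932) (iv F227682)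
theorem F236237 : act 8 n52721 = n52825 := d37_0 F236234 (iv F227690) D52721
def n52826 : Q := act 8 n50932
theorem D52826 : act 8 n50932 = n52826 := rfl
theorem F236238 : act 0 n52826 = n51647 := d7_1 D52826 (iv D51647) (iv F227691)
theorem F236239 : act 1 n52826 = n51461 := d15_1 D52826 (iv D51461) (iv F227692)
theorem F236240 : act 2 n52826 = n52826 := d22_1 D52826 (iv D52826) F227693
theorem F236241 : act 4 n52826 = n51044 := d33_1 D52826 (iv D51044) (iv F227694)
theorem F236242 : act 5 n52826 = n50933 := d37_1 D52826 (iv D50933) (iv F227695)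
theorem F236243 : act 6 n52826 = n51548 := d40_1 D52826 (iv D51548) (iv F227696)
theorem F236244 : act 7 n52826 = n52721 := d42_1 D52826 F236237 F236236
theorem F236245 : act 9 n52826 = n52826 := d44_2 D50932 D52826 (iv D52826) (iv D50932) F218284
def n52827 : Q := act 3 n50933
theorem D52827 : act 3 n50933 = n52827 := rfl
theorem F236246 : act 0 n52827 = n51650 := d2_1 D52827 (iv D51650) (iv F227697)
theorem F236247 : act 1 n52827 = n51462 := d10_1 D52827 (iv D51462) (iv F227698)
theorem F236248 : act 4 n52827 = n50992 := d24_2 (iv F227700) D52827 (iv D50992) F218704 (iv F218293)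
theorem F236249 : act 6 n52827 = n50934 := d26_2 (iv F227701) D52827 (iv D50934)
theorem F236250 : act 7 n52827 = n52414 := d27_2 (iv F227702) D52827 F234788
theorem F236251 : act 9 n52827 = n52827 := d29_2 F227703 D52827 (iv D52827)
def n52828 : Q := act 2 n50934
theorem D52828 : act 2 n50934 = n52828 := rfl
theorem F236252 : act 0 n52828 = n51651 := d1_1 D52828 (iv D51651) (iv F227704)
theorem F236253 : act 1 n52828 = n52393 := d9_1 D52828 F234724 F230708 (iv D51465) (iv F227705)
theorem F236254 : act 3 n52828 = n52828 := d17_2 D50934 D52828 (iv D52828) (iv D50934) F218300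
theorem F236255 : act 4 n52828 = n50996 := d18_2 (iv F227706) D52828 (iv D50996)
theorem F236256 : act 5 n52828 = n51550 := d19_2 (iv F227707) D52828 (iv D51550)
theorem F236257 : act 9 n52828 = n52828 := d23_2 F227708 D52828 (iv D52828)
def n52829 : Q := act 9 n50936
theorem D52829 : act 9 n50936 = n52829 := rfl
theorem F236258 : act 0 n52829 = n50937 := d8_1 D52829 (iv D50937) D50936
theorem F236259 : act 1 n52829 = n51386 := d16_1 D52829 (iv D51386) (iv F227717)
theorem F236260 : act 2 n52829 = n50940 := d23_1 D52829 (iv D50940) (iv F227718)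
theorem F236261 : act 4 n52829 = n52829 := d34_1 D52829 (iv D52829) F227719
theorem F236262 : act 5 n52829 = n51518 := d38_1 D52829 (iv D51518) (iv F227720)
theorem F236263 : act 6 n52829 = n50938 := d41_1 D52829 (iv D50938) (iv F227721)
theorem F236264 : act 7 n52829 = n51374 := d43_1 D52829 (iv D51374) (iv F227722)
theorem F236265 : act 8 n52829 = n51483 := d44_1 D52829 (iv D51483) (iv D49445) (iv F220512) (iv F227723)
def n52830 : Q := act 8 n50938
theorem D52830 : act 8 n50938 = n52830 := rfl
theorem F236266 : act 0 n52830 = n50939 := d7_1 D52830 (iv D50939) (iv F227731)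
theorem F236267 : act 1 n52830 = n51309 := d15_1 D52830 F229932 (iv F227732)
theorem F236268 : act 2 n52830 = n50941 := d22_1 D52830 (iv D50941) (iv F227733)
theorem F236269 : act 4 n52830 = n52830 := d33_1 D52830 (iv D52830) F227734
theorem F236270 : act 5 n52830 = n51278 := d37_1 D52830 F229749 (iv F227735)
theorem F236271 : act 6 n52830 = n51483 := d40_1 D52830 (iv F236265) F236263
theorem F236272 : act 7 n52830 = n51277 := d42_1 D52830 F229741 (iv F227736)
theorem F236273 : act 9 n52830 = n51275 := d44_2 D50938 D52830 (iv D51275) F220198 (iv F218344)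
theorem F236274 : act 3 n52830 = n51454 := d45_2 D50938 D52830 F230661 F221337 F211327 (iv F211412) F211413 (iv F208647) (iv D46701) F205829 F123720 F123722 F86463 F60568 F42611 F30079 (iv F29776) (iv F42147) F42146 F42143 F30031 F30030 (iv F42143) F42142 (iv F59879) (iv F85432) F85435 D19813 F205254 F63091 F63090 F44331 (iv F44373) (iv F63148) (iv F201768) D14655 (iv F91604) F201883 F129351 (iv F122528) (iv F175732) F175731 (iv F173680) F173681 (iv D28542) (iv D19629) F59376 F205062 F46105 F32474 F22954 F16288 F11573 F11577 (iv F15888) (iv F22089) F22090 (iv F30999) F30998 F30997 (iv F200793) (iv D3765) D3766 F17888 (iv F25255) F25256 F18163 F18162 F201289 (iv F21992) D6785 (iv F202412) (iv F36139) (iv D7977) (iv F35649) (iv F46268) D15090 F65937 D21968 F94289 D32016 F205438 (iv F210822) F210823 (iv F220764) (iv F227552) F227550 (iv F227645) F227646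
def n52831 : Q := act 4 n50942
theorem D52831 : act 4 n50942 = n52831 := rfl
theorem F236275 : act 0 n52831 = n51489 := d3_1 D52831 (iv D51489) (iv F227761)
theorem F236276 : act 1 n52831 = n50948 := d11_1 D52831 (iv D50948) (iv F227762)
theorem F236277 : act 2 n52831 = n52415 := d18_1 D52831 (iv D52415) (iv F227767)
theorem F236278 : act 3 n52831 = n51080 := d24_1 D52831 (iv D51080) (iv D49001) (iv F218406) D50942
theorem F236279 : act 5 n52831 = n52431 := d30_2 (iv F227763) D52831 (iv D52431) F225668 (iv F218412)
theorem F236280 : act 6 n52831 = n52050 := d31_2 (iv F227764) D52831 (iv D52050)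
theorem F236281 : act 7 n52831 = n52439 := d32_2 (iv F227765) D52831 F234849
theorem F236282 : act 8 n52831 = n52068 := d33_2 (iv F227766) D52831 (iv D52068)
def n52832 : Q := act 9 n50942
theorem D52832 : act 9 n50942 = n52832 := rfl
theorem F236283 : act 0 n52832 = n51490 := d8_1 D52832 (iv D51490) (iv F227761)
theorem F236284 : act 1 n52832 = n50949 := d16_1 D52832 (iv D50949) (iv F227762)
theorem F236285 : act 2 n52832 = n52416 := d23_1 D52832 (iv D52416) (iv F227767)
theorem F236286 : act 3 n52832 = n50943 := d29_1 D52832 (iv D50943) D50942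
theorem F236287 : act 5 n52832 = n50944 := d38_1 D52832 (iv D50944) (iv F227763)
theorem F236288 : act 6 n52832 = n52051 := d41_1 D52832 (iv D52051) (iv F227764)
theorem F236289 : act 7 n52832 = n52455 := d43_1 D52832 (iv D52455) (iv F227765)
def n52833 : Q := act 8 n50944
theorem D52833 : act 8 n50944 = n52833 := rfl
theorem F236290 : act 0 n52833 = n51494 := d7_1 D52833 (iv D51494) (iv F227776)
theorem F236291 : act 1 n52833 = n50950 := d15_1 D52833 (iv D50950) (iv F227777)
theorem F236292 : act 2 n52833 = n52421 := d22_1 D52833 (iv D52421) (iv F227778)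
theorem F236293 : act 3 n52833 = n52093 := d28_1 D52833 (iv D52093) F224186 (iv F218423) (iv F227779)
theorem F236294 : act 4 n52833 = n52452 := d33_1 D52833 (iv D52452) (iv F227780)
theorem F236295 : act 6 n52833 = n50946 := d40_1 D52833 (iv D50946) (iv F227781)
theorem F236296 : act 7 n52833 = n52456 := d42_1 D52833 (iv D52456) (iv F227782)
theorem F236297 : act 9 n52833 = n52081 := d44_2 D50944 D52833 (iv D52081) (iv D50026) (iv F218415)
def n52834 : Q := act 8 n50945
theorem D52834 : act 8 n50945 = n52834 := rfl
theorem F236298 : act 0 n52834 = n51458 := d7_1 D52834 (iv D51458) (iv F227783)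
theorem F236299 : act 1 n52834 = n50953 := d15_1 D52834 (iv D50953) (iv F227784)
theorem F236300 : act 2 n52834 = n52423 := d22_1 D52834 (iv D52423) (iv F227785)
theorem F236301 : act 4 n52834 = n50946 := d33_1 D52834 (iv D50946) (iv F227787)
theorem F236302 : act 5 n52834 = n51406 := d37_1 D52834 (iv D51406) (iv F227788)
theorem F236303 : act 6 n52834 = n52452 := d40_1 D52834 (iv D52452) (iv F227789)
theorem F236304 : act 7 n52834 = n52333 := d42_1 D52834 (iv D52333) (iv F227790)
theorem F236305 : act 9 n52834 = n52088 := d44_2 D50945 D52834 (iv D52088) (iv D50033) (iv F218431)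
def n52835 : Q := act 3 n50947
theorem D52835 : act 3 n50947 = n52835 := rfl
theorem F236306 : act 0 n52835 = n51464 := d2_1 D52835 (iv D51464) (iv F227797)
theorem F236307 : act 1 n52835 = n50955 := d10_1 D52835 (iv D50955) (iv F227798)
theorem F236308 : act 2 n52835 = n51475 := d17_1 D52835 (iv D51475) F221451 D49443 (iv F227799)
theorem F236309 : act 4 n52835 = n50995 := d24_2 (iv F227800) D52835 (iv D50995) F218720 (iv F218447)
theorem F236310 : act 5 n52835 = n51409 := d25_2 (iv F227801) D52835 (iv D51409)
theorem F236311 : act 6 n52835 = n52484 := d26_2 (iv F227802) D52835 (iv D52484)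
theorem F236312 : act 7 n52835 = n52342 := d27_2 (iv F227803) D52835 (iv D52342)
theorem F236313 : act 9 n52835 = n52835 := d29_2 F227804 D52835 (iv D52835)
def n52836 : Q := act 9 n50948
theorem D52836 : act 9 n50948 = n52836 := rfl
theorem F236314 : act 0 n52836 = n50974 := d8_1 D52836 (iv D50974) (iv F227805)
theorem F236315 : act 2 n52836 = n52058 := d23_1 D52836 (iv D52058) (iv F227806)
theorem F236316 : act 3 n52836 = n51114 := d29_1 D52836 (iv D51114) (iv F227807)
theorem F236317 : act 4 n52836 = n50949 := d34_1 D52836 (iv D50949) D50948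
theorem F236318 : act 5 n52836 = n52433 := d38_1 D52836 (iv D52433) (iv F227808)
theorem F236319 : act 6 n52836 = n52054 := d41_1 D52836 (iv D52054) (iv F227809)
theorem F236320 : act 7 n52836 = n52445 := d43_1 D52836 (iv D52445) (iv F227810)
def n52837 : Q := act 8 n50949
theorem D52837 : act 8 n50949 = n52837 := rfl
theorem F236321 : act 0 n52837 = n50975 := d7_1 D52837 (iv D50975) (iv F227812)
theorem F236322 : act 2 n52837 = n52059 := d22_1 D52837 (iv D52059) (iv F227813)
theorem F236323 : act 3 n52837 = n52463 := d28_1 D52837 (iv D52463) F225730 (iv F218472) (iv F227814)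
theorem F236324 : act 5 n52837 = n50950 := d37_1 D52837 (iv D50950) (iv F227815)
theorem F236325 : act 6 n52837 = n52055 := d40_1 D52837 (iv D52055) (iv F227816)
theorem F236326 : act 7 n52837 = n52459 := d42_1 D52837 (iv D52459) (iv F227817)
theorem F236327 : act 9 n52837 = n52073 := d44_2 D50949 D52837 (iv D52073) (iv D50018) (iv F218465)
def n52838 : Q := act 9 n50951
theorem D52838 : act 9 n50951 = n52838 := rfl
theorem F236328 : act 0 n52838 = n50986 := d8_1 D52838 (iv D50986) (iv F227825)
theorem F236329 : act 1 n52838 = n51402 := d16_1 D52838 (iv D51402) (iv F227826)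
theorem F236330 : act 2 n52838 = n52060 := d23_1 D52838 (iv D52060) (iv F227827)
theorem F236331 : act 3 n52838 = n50954 := d29_1 D52838 (iv D50954) (iv F227828)
theorem F236332 : act 4 n52838 = n51380 := d34_1 D52838 (iv D51380) (iv F227829)
theorem F236333 : act 5 n52838 = n52427 := d38_1 D52838 (iv D52427) (iv F227830)
theorem F236334 : act 6 n52838 = n50952 := d41_1 D52838 (iv D50952) D50951
theorem F236335 : act 7 n52838 = n51445 := d43_1 D52838 (iv D51445) (iv F227831)
def n52839 : Q := act 8 n50952
theorem D52839 : act 8 n50952 = n52839 := rfl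
theorem F236336 : act 0 n52839 = n50987 := d7_1 D52839 (iv D50987) (iv F227833)
theorem F236337 : act 1 n52839 = n51406 := d15_1 D52839 (iv D51406) (iv F227834)
theorem F236338 : act 2 n52839 = n52061 := d22_1 D52839 (iv D52061) (iv F227835)
theorem F236339 : act 3 n52839 = n52468 := d28_1 D52839 F234915 F225821 F218510 (iv F227836)
theorem F236340 : act 4 n52839 = n51381 := d33_1 D52839 (iv D51381) (iv F227837)
theorem F236341 : act 5 n52839 = n50953 := d37_1 D52839 (iv D50953) (iv F227838)
theorem F236342 : act 7 n52839 = n52331 := d42_1 D52839 (iv D52331) (iv F227839)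
theorem F236343 : act 9 n52839 = n52090 := d44_2 D50952 D52839 (iv D52090) (iv D50036) (iv F218485)
def n52840 : Q := act 3 n50953
theorem D52840 : act 3 n50953 = n52840 := rfl
theorem F236344 : act 0 n52840 = n50988 := d2_1 D52840 (iv D50988) (iv F227840)
theorem F236345 : act 2 n52840 = n51635 := d17_1 D52840 (iv D51635) (iv F228022) F228023 (iv F227841)
theorem F236346 : act 4 n52840 = n51642 := d24_2 (iv F227842) D52840 (iv D51642) F222062 (iv F218494)
theorem F236347 : act 5 n52840 = n52468 := d25_2 F236341 D52840 (iv F236339)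
theorem F236348 : act 6 n52840 = n52453 := d26_2 (iv F227843) D52840 (iv D52453)
theorem F236349 : act 7 n52840 = n52334 := d27_2 (iv F227844) D52840 (iv D52334)
theorem F236350 : act 8 n52840 = n50955 := d28_2 D50953 D52840 (iv D50955) (iv D48885) (iv F218488)
theorem F236351 : act 9 n52840 = n52091 := d29_2 (iv F227845) D52840 (iv D52091)
def n52841 : Q := act 4 n50958
theorem D52841 : act 4 n50958 = n52841 := rfl
theorem F236352 : act 0 n52841 = n52064 := d3_1 D52841 (iv D52064) (iv F227879)
theorem F236353 : act 1 n52841 = n51574 := d11_1 D52841 (iv D51574) (iv F227880)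
theorem F236354 : act 2 n52841 = n52043 := d18_1 D52841 (iv D52043) (iv F227881)
theorem F236355 : act 3 n52841 = n52643 := d24_1 D52841 F235434 F226456 (iv F218541) D50958
theorem F236356 : act 5 n52841 = n52394 := d30_2 (iv F227882) D52841 (iv D52394) F225550 F218563
theorem F236357 : act 6 n52841 = n52448 := d31_2 (iv F227883) D52841 F234869
theorem F236358 : act 7 n52841 = n50960 := d32_2 (iv F227884) D52841 (iv D50960)
theorem F236359 : act 8 n52841 = n50969 := d33_2 (iv F227885) D52841 (iv D50969)
def n52842 : Q := act 9 n50958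
theorem D52842 : act 9 n50958 = n52842 := rfl
theorem F236360 : act 0 n52842 = n52065 := d8_1 D52842 (iv D52065) (iv F227879)
theorem F236361 : act 1 n52842 = n51575 := d16_1 D52842 (iv D51575) (iv F227880)
theorem F236362 : act 2 n52842 = n52044 := d23_1 D52842 (iv D52044) (iv F227881)
theorem F236363 : act 3 n52842 = n50959 := d29_1 D52842 (iv D50959) D50958
theorem F236364 : act 5 n52842 = n50962 := d38_1 D52842 (iv D50962) (iv F227882)
theorem F236365 : act 6 n52842 = n52462 := d41_1 D52842 (iv D52462) (iv F227883)
theorem F236366 : act 7 n52842 = n50961 := d43_1 D52842 (iv D50961) (iv F227884)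
def n52843 : Q := act 5 n50960
theorem D52843 : act 5 n50960 = n52843 := rfl
theorem F236367 : act 0 n52843 = n52071 := d4_1 D52843 (iv D52071) (iv F227894)
theorem F236368 : act 1 n52843 = n51579 := d12_1 D52843 (iv D51579) (iv F227895)
theorem F236369 : act 2 n52843 = n52053 := d19_1 D52843 (iv D52053) (iv F227896)
theorem F236370 : act 3 n52843 = n52633 := d25_1 D52843 F235402 (iv F227897)
theorem F236371 : act 4 n52843 = n50963 := d30_1 D52843 (iv D50963) (iv D48894) (iv F218548) D50960
theorem F236372 : act 6 n52843 = n52428 := d35_2 (iv F227898) D52843 (iv D52428) F225664 (iv F224051)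
theorem F236373 : act 7 n52843 = n52394 := d36_2 F236358 D52843 (iv F236356)
theorem F236374 : act 8 n52843 = n50973 := d37_2 (iv F227899) D52843 (iv D50973)
def n52844 : Q := act 9 n50960
theorem D52844 : act 9 n50960 = n52844 := rfl
theorem F236375 : act 0 n52844 = n52072 := d8_1 D52844 (iv D52072) (iv F227894)
theorem F236376 : act 1 n52844 = n51580 := d16_1 D52844 (iv D51580) (iv F227895)
theorem F236377 : act 2 n52844 = n52054 := d23_1 D52844 (iv D52054) (iv F227896)
theorem F236378 : act 3 n52844 = n52644 := d29_1 D52844 (iv D52644) (iv F227897)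
theorem F236379 : act 4 n52844 = n50961 := d34_1 D52844 (iv D50961) D50960
theorem F236380 : act 6 n52844 = n52058 := d41_1 D52844 (iv D52058) (iv F227898)
def n52845 : Q := act 8 n50961
theorem D52845 : act 8 n50961 = n52845 := rfl
theorem F236381 : act 0 n52845 = n52073 := d7_1 D52845 (iv D52073) (iv F227900)
theorem F236382 : act 1 n52845 = n51581 := d15_1 D52845 (iv D51581) (iv F227901)
theorem F236383 : act 2 n52845 = n52055 := d22_1 D52845 (iv D52055) (iv F227902)
theorem F236384 : act 5 n52845 = n50965 := d37_1 D52845 (iv D50965) (iv F227904)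
theorem F236385 : act 6 n52845 = n52059 := d40_1 D52845 (iv D52059) (iv F227905)
theorem F236386 : act 9 n52845 = n50975 := d44_2 D50961 D52845 (iv D50975) (iv D48903) (iv F218550)
def n52846 : Q := act 8 n50962
theorem D52846 : act 8 n50962 = n52846 := rfl
theorem F236387 : act 0 n52846 = n52078 := d7_1 D52846 (iv D52078) (iv F227906)
theorem F236388 : act 1 n52846 = n51585 := d15_1 D52846 (iv D51585) (iv F227907)
theorem F236389 : act 2 n52846 = n52045 := d22_1 D52846 (iv D52045) (iv F227908)
theorem F236390 : act 3 n52846 = n52470 := d28_1 D52846 (iv D52470) F225746 (iv F218570) (iv F227909)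
theorem F236391 : act 4 n52846 = n52398 := d33_1 D52846 (iv D52398) (iv F227910)
theorem F236392 : act 6 n52846 = n52046 := d40_1 D52846 (iv D52046) (iv F227911)
theorem F236393 : act 7 n52846 = n50965 := d42_1 D52846 (iv D50965) (iv F227912)
theorem F236394 : act 9 n52846 = n50976 := d44_2 D50962 D52846 (iv D50976) (iv D48904) (iv F218562)
def n52847 : Q := act 6 n50963
theorem D52847 : act 6 n50963 = n52847 := rfl
theorem F236395 : act 0 n52847 = n52082 := d5_1 D52847 (iv D52082) (iv F227913)
theorem F236396 : act 1 n52847 = n51590 := d13_1 D52847 (iv D51590) (iv F227914)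
theorem F236397 : act 2 n52847 = n51376 := d20_1 D52847 F230295 (iv F227915)
theorem F236398 : act 3 n52847 = n52847 := d26_1 D52847 (iv D52847) F227916
theorem F236399 : act 4 n52847 = n52428 := d31_1 D52847 (iv F236372) F236371
theorem F236400 : act 5 n52847 = n50966 := d35_1 D52847 (iv D50966) (iv D48896) (iv F218575) D50963
theorem F236401 : act 8 n52847 = n50978 := d40_2 (iv F227918) D52847 (iv D50978)
def n52848 : Q := act 9 n50963
theorem D52848 : act 9 n50963 = n52848 := rfl
theorem F236402 : act 0 n52848 = n52083 := d8_1 D52848 (iv D52083) (iv F227913)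
theorem F236403 : act 1 n52848 = n51591 := d16_1 D52848 (iv D51591) (iv F227914)
theorem F236404 : act 2 n52848 = n52056 := d23_1 D52848 (iv D52056) (iv F227915)
theorem F236405 : act 3 n52848 = n52848 := d29_1 D52848 (iv D52848) F227916
theorem F236406 : act 5 n52848 = n50964 := d38_1 D52848 (iv D50964) D50963
theorem F236407 : act 7 n52848 = n52395 := d43_1 D52848 (iv D52395) (iv F227917)
def n52849 : Q := act 8 n50964
theorem D52849 : act 8 n50964 = n52849 := rfl
theorem F236408 : act 0 n52849 = n52084 := d7_1 D52849 (iv D52084) (iv F227919)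
theorem F236409 : act 1 n52849 = n51592 := d15_1 D52849 (iv D51592) (iv F227920)
theorem F236410 : act 2 n52849 = n52057 := d22_1 D52849 (iv D52057) (iv F227921)
theorem F236411 : act 4 n52849 = n50965 := d33_1 D52849 (iv D50965) (iv F227923)
theorem F236412 : act 6 n52849 = n50968 := d40_1 D52849 (iv D50968) (iv F227924)
theorem F236413 : act 7 n52849 = n52398 := d42_1 D52849 (iv D52398) (iv F227925)
theorem F236414 : act 9 n52849 = n50980 := d44_2 D50964 D52849 (iv D50980) (iv D48907) (iv F218577)
def n52850 : Q := act 9 n50966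
theorem D52850 : act 9 n50966 = n52850 := rfl
theorem F236415 : act 0 n52850 = n52089 := d8_1 D52850 (iv D52089) (iv F227931)
theorem F236416 : act 1 n52850 = n51596 := d16_1 D52850 (iv D51596) (iv F227932)
theorem F236417 : act 2 n52850 = n51380 := d23_1 D52850 (iv D51380) (iv F227933)
theorem F236418 : act 3 n52850 = n52850 := d29_1 D52850 (iv D52850) F227934
theorem F236419 : act 4 n52850 = n52060 := d34_1 D52850 (iv D52060) (iv F227935)
theorem F236420 : act 6 n52850 = n50967 := d41_1 D52850 (iv D50967) D50966
def n52851 : Q := act 8 n50967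
theorem D52851 : act 8 n50967 = n52851 := rfl
theorem F236421 : act 0 n52851 = n52090 := d7_1 D52851 (iv D52090) (iv F227937)
theorem F236422 : act 1 n52851 = n51597 := d15_1 D52851 (iv D51597) (iv F227938)
theorem F236423 : act 2 n52851 = n51381 := d22_1 D52851 (iv D51381) (iv F227939)
theorem F236424 : act 4 n52851 = n52061 := d33_1 D52851 (iv D52061) (iv F227941)
theorem F236425 : act 5 n52851 = n50968 := d37_1 D52851 (iv D50968) (iv F227942)
theorem F236426 : act 7 n52851 = n52332 := d42_1 D52851 (iv D52332) (iv F227943)
theorem F236427 : act 9 n52851 = n50987 := d44_2 D50967 D52851 (iv D50987) (iv D48914) (iv F218589)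
def n52852 : Q := act 3 n50968
theorem D52852 : act 3 n50968 = n52852 := rfl
theorem F236428 : act 0 n52852 = n52091 := d2_1 D52852 (iv D52091) (iv F227944)
theorem F236429 : act 1 n52852 = n51598 := d10_1 D52852 (iv D51598) (iv F227945)
theorem F236430 : act 2 n52852 = n52386 := d17_1 D52852 (iv D52386) F225518 (iv F224024) (iv F227946)
theorem F236431 : act 8 n52852 = n52852 := d28_2 D50968 D52852 (iv D52852) (iv D50968) F218593
theorem F236432 : act 9 n52852 = n50988 := d29_2 (iv F227948) D52852 (iv D50988)
def n52853 : Q := act 9 n50969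
theorem D52853 : act 9 n50969 = n52853 := rfl
theorem F236433 : act 0 n52853 = n52445 := d8_1 D52853 (iv D52445) (iv F227949)
theorem F236434 : act 1 n52853 = n51604 := d16_1 D52853 (iv D51604) (iv F227950)
theorem F236435 : act 2 n52853 = n52047 := d23_1 D52853 (iv D52047) (iv F227951)
theorem F236436 : act 3 n52853 = n51177 := d29_1 D52853 (iv D51177) (iv F227952)
theorem F236437 : act 4 n52853 = n50970 := d34_1 D52853 (iv D50970) D50969
theorem F236438 : act 5 n52853 = n52405 := d38_1 D52853 (iv D52405) (iv F227953)
theorem F236439 : act 7 n52853 = n50974 := d43_1 D52853 (iv D50974) (iv F227954)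
def n52854 : Q := act 8 n50970
theorem D52854 : act 8 n50970 = n52854 := rfl
theorem F236440 : act 0 n52854 = n52459 := d7_1 D52854 (iv D52459) (iv F227955)
theorem F236441 : act 1 n52854 = n51605 := d15_1 D52854 (iv D51605) (iv F227956)
theorem F236442 : act 2 n52854 = n52048 := d22_1 D52854 (iv D52048) (iv F227957)
theorem F236443 : act 5 n52854 = n50976 := d37_1 D52854 (iv D50976) (iv F227959)
theorem F236444 : act 7 n52854 = n50975 := d42_1 D52854 (iv D50975) (iv F227960)
def n52855 : Q := act 9 n50971
theorem D52855 : act 9 n50971 = n52855 := rfl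
theorem F236445 : act 0 n52855 = n52058 := d8_1 D52855 (iv D52058) (iv F227961)
theorem F236446 : act 1 n52855 = n52371 := d16_1 D52855 (iv D52371) (iv F227962)
theorem F236447 : act 2 n52855 = n50974 := d23_1 D52855 (iv D50974) (iv F227963)
theorem F236448 : act 3 n52855 = n52105 := d29_1 D52855 (iv D52105) (iv F227964)
theorem F236449 : act 4 n52855 = n50972 := d34_1 D52855 (iv D50972) D50971
theorem F236450 : act 5 n52855 = n52403 := d38_1 D52855 (iv D52403) (iv F227965)
theorem F236451 : act 6 n52855 = n52072 := d41_1 D52855 (iv D52072) (iv F227966)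
theorem F236452 : act 7 n52855 = n52047 := d43_1 D52855 (iv D52047) (iv F227967)
def n52856 : Q := act 8 n50972
theorem D52856 : act 8 n50972 = n52856 := rfl
theorem F236453 : act 0 n52856 = n52059 := d7_1 D52856 (iv D52059) (iv F227969)
theorem F236454 : act 1 n52856 = n52372 := d15_1 D52856 (iv D52372) (iv F227970)
theorem F236455 : act 2 n52856 = n50975 := d22_1 D52856 (iv D50975) (iv F227971)
theorem F236456 : act 3 n52856 = n52067 := d28_1 D52856 (iv D52067) F224096 (iv F218744) (iv F227972)
theorem F236457 : act 5 n52856 = n50977 := d37_1 D52856 (iv D50977) (iv F227973)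
theorem F236458 : act 6 n52856 = n52073 := d40_1 D52856 (iv D52073) (iv F227974)
theorem F236459 : act 7 n52856 = n52048 := d42_1 D52856 (iv D52048) (iv F227975)
theorem F236460 : act 9 n52856 = n52055 := d44_2 D50972 D52856 (iv D52055) (iv D49997) (iv F218616)
def n52857 : Q := act 6 n50973
theorem D52857 : act 6 n50973 = n52857 := rfl
theorem F236461 : act 0 n52857 = n52426 := d5_1 D52857 F234819 (iv F227976)
theorem F236462 : act 1 n52857 = n51613 := d13_1 D52857 (iv D51613) (iv F227977)
theorem F236463 : act 2 n52857 = n52401 := d20_1 D52857 F234750 (iv F227978)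
theorem F236464 : act 3 n52857 = n51186 := d26_1 D52857 (iv D51186) (iv F227979)
theorem F236465 : act 4 n52857 = n50978 := d31_1 D52857 (iv D50978) (iv F227980)
theorem F236466 : act 5 n52857 = n52074 := d35_1 D52857 (iv D52074) (iv D50019) (iv F218620) D50973
theorem F236467 : act 8 n52857 = n52428 := d40_2 F236374 D52857 (iv F236372)
def n52858 : Q := act 9 n50973
theorem D52858 : act 9 n50973 = n52858 := rfl
theorem F236468 : act 0 n52858 = n52433 := d8_1 D52858 (iv D52433) (iv F227976)
theorem F236469 : act 1 n52858 = n51614 := d16_1 D52858 (iv D51614) (iv F227977)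
theorem F236470 : act 2 n52858 = n52403 := d23_1 D52858 (iv D52403) (iv F227978)
theorem F236471 : act 3 n52858 = n51187 := d29_1 D52858 (iv D51187) (iv F227979)
theorem F236472 : act 4 n52858 = n50979 := d34_1 D52858 (iv D50979) (iv F227980)
theorem F236473 : act 5 n52858 = n50974 := d38_1 D52858 (iv D50974) D50973
theorem F236474 : act 7 n52858 = n52405 := d43_1 D52858 (iv D52405) (iv F227981)
def n52859 : Q := act 8 n50974
theorem D52859 : act 8 n50974 = n52859 := rfl
theorem F236475 : act 1 n52859 = n51615 := d15_1 D52859 (iv D51615) (iv F227982)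
theorem F236476 : act 4 n52859 = n50975 := d33_1 D52859 (iv D50975) (iv F227984)
theorem F236477 : act 6 n52859 = n52076 := d40_1 D52859 (iv D52076) (iv F227985)
def n52860 : Q := act 7 n50978
theorem D52860 : act 7 n50978 = n52860 := rfl
theorem F236478 : act 0 n52860 = n51438 := d6_1 D52860 F230609 (iv F228003)
theorem F236479 : act 1 n52860 = n51629 := d14_1 D52860 (iv D51629) (iv F228004)
theorem F236480 : act 2 n52860 = n51517 := d21_1 D52860 F230973 (iv F228005)
theorem F236481 : act 3 n52860 = n50989 := d27_1 D52860 (iv D50989) (iv F228006)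
theorem F236482 : act 5 n52860 = n50985 := d36_1 D52860 (iv D50985) (iv F228007)
theorem F236483 : act 6 n52860 = n51519 := d39_1 D52860 F230982 F221684 (iv F218643) D50978
def n52861 : Q := act 9 n50978
theorem D52861 : act 9 n50978 = n52861 := rfl
theorem F236484 : act 0 n52861 = n52427 := d8_1 D52861 (iv D52427) (iv F228003)
theorem F236485 : act 1 n52861 = n51630 := d16_1 D52861 (iv D51630) (iv F228004)
theorem F236486 : act 2 n52861 = n52402 := d23_1 D52861 (iv D52402) (iv F228005)
theorem F236487 : act 3 n52861 = n50990 := d29_1 D52861 (iv D50990) (iv F228006)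
theorem F236488 : act 5 n52861 = n50986 := d38_1 D52861 (iv D50986) (iv F228007)
theorem F236489 : act 6 n52861 = n50979 := d41_1 D52861 (iv D50979) D50978
def n52862 : Q := act 8 n50979
theorem D52862 : act 8 n50979 = n52862 := rfl
theorem F236490 : act 0 n52862 = n52434 := d7_1 D52862 (iv D52434) (iv F228008)
theorem F236491 : act 1 n52862 = n51631 := d15_1 D52862 (iv D51631) (iv F228009)
theorem F236492 : act 2 n52862 = n52404 := d22_1 D52862 (iv D52404) (iv F228010)
theorem F236493 : act 5 n52862 = n50980 := d37_1 D52862 (iv D50980) (iv F228012)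
theorem F236494 : act 7 n52862 = n52406 := d42_1 D52862 (iv D52406) (iv F228013)
def n52863 : Q := act 3 n50980
theorem D52863 : act 3 n50980 = n52863 := rfl
theorem F236495 : act 0 n52863 = n52453 := d2_1 D52863 (iv D52453) (iv F228014)
theorem F236496 : act 1 n52863 = n51632 := d10_1 D52863 (iv D51632) (iv F228015)
theorem F236497 : act 6 n52863 = n50988 := d26_2 (iv F228018) D52863 (iv D50988)
theorem F236498 : act 7 n52863 = n52408 := d27_2 (iv F228019) D52863 (iv D52408)
theorem F236499 : act 8 n52863 = n50992 := d28_2 D50980 D52863 (iv D50992) (iv D48918) (iv F218647)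
def n52864 : Q := act 9 n50982
theorem D52864 : act 9 n50982 = n52864 := rfl
theorem F236500 : act 0 n52864 = n52060 := d8_1 D52864 (iv D52060) (iv F228029)
theorem F236501 : act 1 n52864 = n51389 := d16_1 D52864 (iv D51389) (iv F228030)
theorem F236502 : act 2 n52864 = n50986 := d23_1 D52864 (iv D50986) (iv F228031)
theorem F236503 : act 3 n52864 = n51374 := d29_1 D52864 (iv D51374) (iv F228032)
theorem F236504 : act 4 n52864 = n52089 := d34_1 D52864 (iv D52089) (iv F228033)
theorem F236505 : act 5 n52864 = n52402 := d38_1 D52864 (iv D52402) (iv F228034)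
theorem F236506 : act 6 n52864 = n50983 := d41_1 D52864 (iv D50983) D50982
def n52865 : Q := act 8 n50983
theorem D52865 : act 8 n50983 = n52865 := rfl
theorem F236507 : act 0 n52865 = n52061 := d7_1 D52865 (iv D52061) (iv F228036)
theorem F236508 : act 1 n52865 = n51392 := d15_1 D52865 (iv D51392) (iv F228037)
theorem F236509 : act 2 n52865 = n50987 := d22_1 D52865 (iv D50987) (iv F228038)
theorem F236510 : act 3 n52865 = n51485 := d28_1 D52865 (iv D51485) F221558 (iv F221023) (iv F228039)
theorem F236511 : act 4 n52865 = n52090 := d33_1 D52865 (iv D52090) (iv F228040)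
theorem F236512 : act 5 n52865 = n50984 := d37_1 D52865 (iv D50984) (iv F228041)
theorem F236513 : act 7 n52865 = n52326 := d42_1 D52865 (iv D52326) (iv F228042)
theorem F236514 : act 9 n52865 = n51381 := d44_2 D50983 D52865 (iv D51381) (iv D49338) (iv F218667)
def n52866 : Q := act 9 n50985
theorem D52866 : act 9 n50985 = n52866 := rfl
theorem F236515 : act 0 n52866 = n51445 := d8_1 D52866 (iv D51445) (iv F228051)
theorem F236516 : act 1 n52866 = n51640 := d16_1 D52866 (iv D51640) (iv F228052)
theorem F236517 : act 3 n52866 = n50993 := d29_1 D52866 (iv D50993) (iv F228053)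
theorem F236518 : act 4 n52866 = n52092 := d34_1 D52866 (iv D52092) (iv F228054)
theorem F236519 : act 6 n52866 = n51450 := d41_1 D52866 (iv D51450) (iv F228055)
theorem F236520 : act 7 n52866 = n50986 := d43_1 D52866 (iv D50986) D50985
def n52867 : Q := act 8 n50986
theorem D52867 : act 8 n50986 = n52867 := rfl
theorem F236521 : act 1 n52867 = n51641 := d15_1 D52867 (iv D51641) (iv F228056)
theorem F236522 : act 4 n52867 = n52093 := d33_1 D52867 (iv D52093) (iv F228058)
theorem F236523 : act 6 n52867 = n50987 := d40_1 D52867 (iv D50987) (iv F228059)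
def n52868 : Q := act 3 n50987
theorem D52868 : act 3 n50987 = n52868 := rfl
theorem F236524 : act 0 n52868 = n52468 := d2_1 D52868 (iv F236339) F236336
theorem F236525 : act 1 n52868 = n51642 := d10_1 D52868 (iv D51642) (iv F228060)
theorem F236526 : act 2 n52868 = n52465 := d17_1 D52868 (iv D52465) (iv F230822) (iv F236510) F236509
theorem F236527 : act 5 n52868 = n50988 := d25_2 (iv F228062) D52868 (iv D50988)
theorem F236528 : act 8 n52868 = n50995 := d28_2 D50987 D52868 (iv D50995) (iv D48921) (iv F218684)
def n52869 : Q := act 2 n50988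
theorem D52869 : act 2 n50988 = n52869 := rfl
theorem F236529 : act 0 n52869 = n51635 := d1_1 D52869 (iv F236345) F236344
theorem F236530 : act 3 n52869 = n51633 := d17_2 D50988 D52869 F231442 (iv F228046) F228045
theorem F236531 : act 5 n52869 = n52465 := d19_2 F236527 D52869 (iv F236526)
theorem F236532 : act 8 n52869 = n50996 := d22_2 (iv F228064) D52869 (iv D50996)
theorem F236533 : act 9 n52869 = n52386 := d23_2 F236432 D52869 (iv F236430)
def n52870 : Q := act 9 n50989
theorem D52870 : act 9 n50989 = n52870 := rfl
theorem F236534 : act 0 n52870 = n51468 := d8_1 D52870 (iv D51468) (iv F228065)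
theorem F236535 : act 1 n52870 = n51646 := d16_1 D52870 (iv D51646) (iv F228066)
theorem F236536 : act 2 n52870 = n51477 := d23_1 D52870 (iv D51477) (iv F228067)
theorem F236537 : act 4 n52870 = n51222 := d34_1 D52870 (iv D51222) (iv F228068)
theorem F236538 : act 5 n52870 = n50993 := d38_1 D52870 (iv D50993) (iv F228069)
theorem F236539 : act 6 n52870 = n51552 := d41_1 D52870 (iv D51552) (iv F228070)
theorem F236540 : act 7 n52870 = n50990 := d43_1 D52870 (iv D50990) D50989
theorem F236541 : act 8 n52726 = n52870 := d37_0 F236538 (iv F228096) D52726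
def n52871 : Q := act 8 n50990
theorem D52871 : act 8 n50990 = n52871 := rfl
theorem F236542 : act 0 n52871 = n52473 := d7_1 D52871 (iv D52473) (iv F228072)
theorem F236543 : act 1 n52871 = n51647 := d15_1 D52871 (iv D51647) (iv F228073)
theorem F236544 : act 2 n52871 = n52412 := d22_1 D52871 (iv D52412) (iv F228074)
theorem F236545 : act 4 n52871 = n51223 := d33_1 D52871 (iv D51223) (iv F228075)
theorem F236546 : act 5 n52871 = n50994 := d37_1 D52871 (iv D50994) (iv F228076)
theorem F236547 : act 6 n52871 = n50991 := d40_1 D52871 (iv D50991) (iv F228077)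
theorem F236548 : act 7 n52871 = n52726 := d42_1 D52871 F236541 F236540
theorem F236549 : act 9 n52871 = n52871 := d44_2 D50990 D52871 (iv D52871) (iv D50990) F218694
def n52872 : Q := act 3 n50991
theorem D52872 : act 3 n50991 = n52872 := rfl
theorem F236550 : act 0 n52872 = n52475 := d2_1 D52872 (iv D52475) (iv F228078)
theorem F236551 : act 1 n52872 = n51648 := d10_1 D52872 (iv D51648) (iv F228079)
theorem F236552 : act 5 n52872 = n50992 := d25_2 (iv F228082) D52872 (iv D50992)
theorem F236553 : act 7 n52872 = n52413 := d27_2 (iv F228083) D52872 (iv D52413)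
theorem F236554 : act 9 n52872 = n52872 := d29_2 F228084 D52872 (iv D52872)
def n52873 : Q := act 2 n50992
theorem D52873 : act 2 n50992 = n52873 := rfl
theorem F236555 : act 0 n52873 = n51669 := d1_1 D52873 F231593 (iv F228085)
theorem F236556 : act 3 n52873 = n51668 := d17_2 D50992 D52873 F231587 F222230 (iv F218703)
theorem F236557 : act 6 n52873 = n50996 := d20_2 (iv F228087) D52873 (iv D50996)
theorem F236558 : act 7 n52873 = n52361 := d21_2 (iv F228088) D52873 F234639
theorem F236559 : act 9 n52873 = n52873 := d23_2 F228089 D52873 (iv D52873)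
def n52874 : Q := act 3 n50994
theorem D52874 : act 3 n50994 = n52874 := rfl
theorem F236560 : act 0 n52874 = n52486 := d2_1 D52874 F234964 (iv F228097)
theorem F236561 : act 1 n52874 = n51650 := d10_1 D52874 (iv D51650) (iv F228098)
theorem F236562 : act 2 n52874 = n52485 := d17_1 D52874 (iv D52485) F225809 D50489 (iv F228099)
theorem F236563 : act 4 n52874 = n52484 := d24_2 (iv F228100) D52874 (iv D52484) F225803 (iv F218732)
theorem F236564 : act 6 n52874 = n50995 := d26_2 (iv F228101) D52874 (iv D50995)
theorem F236565 : act 7 n52874 = n52487 := d27_2 (iv F228102) D52874 F234968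
theorem F236566 : act 9 n52874 = n52874 := d29_2 F228103 D52874 (iv D52874)
def n52875 : Q := act 1 n50996
theorem D52875 : act 1 n50996 = n52875 := rfl
theorem F236567 : act 0 n52875 = n51564 := d0_1 D52875 F231182 F221856 (iv F222178) (iv F228109)
theorem F236568 : act 2 n52875 = n51652 := d9_2 D50996 D52875 (iv D51652) (iv D49587) (iv F218723)
theorem F236569 : act 3 n52875 = n51563 := d10_2 (iv F228110) D52875 F231177
theorem F236570 : act 4 n52875 = n52393 := d11_2 F236255 D52875 (iv F236253)
theorem F236571 : act 5 n52875 = n51476 := d12_2 (iv F228111) D52875 F230767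
theorem F236572 : act 9 n52875 = n52875 := d16_2 F228112 D52875 (iv D52875)
def n52876 : Q := act 3 n50997
theorem D52876 : act 3 n50997 = n52876 := rfl
theorem F236573 : act 0 n52876 = n51141 := d2_1 D52876 (iv D51141) (iv F228113)
theorem F236574 : act 1 n52876 = n51703 := d10_1 D52876 (iv D51703) (iv F228114)
theorem F236575 : act 5 n52876 = n52876 := d25_2 F228117 D52876 (iv D52876)
theorem F236576 : act 6 n52876 = n51095 := d26_2 (iv F228118) D52876 (iv D51095)
theorem F236577 : act 7 n52876 = n50998 := d27_2 (iv F228119) D52876 (iv D50998)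
theorem F236578 : act 8 n52876 = n51107 := d28_2 D50997 D52876 (iv D51107) (iv D49028) (iv F218748)
theorem F236579 : act 2 n52743 = n52876 := d22_3 F236578 F228788 D52743
def n52877 : Q := act 9 n50997
theorem D52877 : act 9 n50997 = n52877 := rfl
theorem F236580 : act 0 n52877 = n51142 := d8_1 D52877 (iv D51142) (iv F228113)
theorem F236581 : act 1 n52877 = n51704 := d16_1 D52877 (iv D51704) (iv F228114)
theorem F236582 : act 2 n52877 = n52877 := d23_1 D52877 (iv D52877) F228115
theorem F236583 : act 4 n52877 = n51002 := d34_1 D52877 (iv D51002) (iv F228116)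
theorem F236584 : act 5 n52877 = n52877 := d38_1 D52877 (iv D52877) F228117
theorem F236585 : act 6 n52877 = n51096 := d41_1 D52877 (iv D51096) (iv F228118)
theorem F236586 : act 7 n52877 = n50999 := d43_1 D52877 (iv D50999) (iv F228119)
theorem F236587 : act 8 n52877 = n51137 := d44_1 D52877 (iv D51137) (iv D49057) (iv F218752) D50997
def n52878 : Q := act 2 n50998
theorem D52878 : act 2 n50998 = n52878 := rfl
theorem F236588 : act 0 n52878 = n52204 := d1_1 D52878 (iv D52204) (iv F228120)
theorem F236589 : act 3 n52878 = n52878 := d17_2 D50998 D52878 (iv D52878) (iv D50998) F218755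
theorem F236590 : act 5 n52878 = n52878 := d19_2 F228122 D52878 (iv D52878)
theorem F236591 : act 6 n52878 = n52097 := d20_2 (iv F228123) D52878 (iv D52097)
theorem F236592 : act 7 n52878 = n52743 := d21_2 F236577 D52878 F236579
theorem F236593 : act 8 n52878 = n52146 := d22_2 (iv F228124) D52878 (iv D52146)
def n52879 : Q := act 4 n50998
theorem D52879 : act 4 n50998 = n52879 := rfl
theorem F236594 : act 0 n52879 = n52205 := d3_1 D52879 (iv D52205) (iv F228120)
theorem F236595 : act 1 n52879 = n51706 := d11_1 D52879 (iv D51706) (iv F228121)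
theorem F236596 : act 3 n52879 = n51004 := d24_1 D52879 (iv D51004) (iv D48930) (iv F218756) D50998
theorem F236597 : act 6 n52879 = n52098 := d31_2 (iv F228123) D52879 (iv D52098)
theorem F236598 : act 8 n52879 = n52147 := d33_2 (iv F228124) D52879 (iv D52147)
def n52880 : Q := act 9 n50998
theorem D52880 : act 9 n50998 = n52880 := rfl
theorem F236599 : act 0 n52880 = n52206 := d8_1 D52880 (iv D52206) (iv F228120)
theorem F236600 : act 1 n52880 = n51707 := d16_1 D52880 (iv D51707) (iv F228121)
theorem F236601 : act 3 n52880 = n50999 := d29_1 D52880 (iv D50999) D50998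
theorem F236602 : act 5 n52880 = n52880 := d38_1 D52880 (iv D52880) F228122
theorem F236603 : act 6 n52880 = n52099 := d41_1 D52880 (iv D52099) (iv F228123)
def n52881 : Q := act 3 n51000
theorem D52881 : act 3 n51000 = n52881 := rfl
theorem F236604 : act 0 n52881 = n51136 := d2_1 D52881 (iv D51136) (iv F228132)
theorem F236605 : act 1 n52881 = n51708 := d10_1 D52881 (iv D51708) (iv F228133)
theorem F236606 : act 5 n52881 = n52881 := d25_2 F228136 D52881 (iv D52881)
theorem F236607 : act 6 n52881 = n51001 := d26_2 (iv F228137) D52881 (iv D51001)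
theorem F236608 : act 7 n52881 = n51093 := d27_2 (iv F228138) D52881 (iv D51093)
theorem F236609 : act 8 n52881 = n51015 := d28_2 D51000 D52881 (iv D51015) (iv D48940) (iv F218762)
theorem F236610 : act 2 n52299 = n52881 := d22_3 F236609 F228223 D52299
def n52882 : Q := act 9 n51000
theorem D52882 : act 9 n51000 = n52882 := rfl
theorem F236611 : act 0 n52882 = n51137 := d8_1 D52882 (iv D51137) (iv F228132)
theorem F236612 : act 1 n52882 = n51709 := d16_1 D52882 (iv D51709) (iv F228133)
theorem F236613 : act 2 n52882 = n52882 := d23_1 D52882 (iv D52882) F228134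
theorem F236614 : act 4 n52882 = n51096 := d34_1 D52882 (iv D51096) (iv F228135)
theorem F236615 : act 5 n52882 = n52882 := d38_1 D52882 (iv D52882) F228136
theorem F236616 : act 6 n52882 = n51002 := d41_1 D52882 (iv D51002) (iv F228137)
theorem F236617 : act 7 n52882 = n51094 := d43_1 D52882 (iv D51094) (iv F228138)
theorem F236618 : act 8 n52882 = n51142 := d44_1 D52882 (iv D51142) (iv D49060) (iv F218766) D51000
def n52883 : Q := act 2 n51001
theorem D52883 : act 2 n51001 = n52883 := rfl
theorem F236619 : act 0 n52883 = n52619 := d1_1 D52883 F235355 (iv F228139)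
theorem F236620 : act 1 n52883 = n52164 := d9_1 D52883 F233857 F224619 (iv F222453) (iv F228140)
theorem F236621 : act 3 n52883 = n52883 := d17_2 D51001 D52883 (iv D52883) (iv D51001) F218769
theorem F236622 : act 5 n52883 = n51006 := d19_2 (iv F228141) D52883 (iv D51006)
theorem F236623 : act 6 n52883 = n52299 := d20_2 F236607 D52883 F236610
theorem F236624 : act 7 n52883 = n51003 := d21_2 (iv F228142) D52883 (iv D51003)
theorem F236625 : act 8 n52883 = n51017 := d22_2 (iv F228143) D52883 (iv D51017)
def n52884 : Q := act 4 n51001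
theorem D52884 : act 4 n51001 = n52884 := rfl
theorem F236626 : act 0 n52884 = n52608 := d3_1 D52884 F235317 (iv F228139)
theorem F236627 : act 1 n52884 = n51710 := d11_1 D52884 (iv D51710) (iv F228140)
theorem F236628 : act 7 n52884 = n51004 := d32_2 (iv F228142) D52884 (iv D51004)
theorem F236629 : act 8 n52884 = n51018 := d33_2 (iv F228143) D52884 (iv D51018)
def n52885 : Q := act 9 n51001
theorem D52885 : act 9 n51001 = n52885 := rfl
theorem F236630 : act 0 n52885 = n52623 := d8_1 D52885 (iv D52623) (iv F228139)
theorem F236631 : act 1 n52885 = n51711 := d16_1 D52885 (iv D51711) (iv F228140)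
theorem F236632 : act 3 n52885 = n51002 := d29_1 D52885 (iv D51002) D51001
theorem F236633 : act 5 n52885 = n51008 := d38_1 D52885 (iv D51008) (iv F228141)
theorem F236634 : act 7 n52885 = n51005 := d43_1 D52885 (iv D51005) (iv F228142)
def n52886 : Q := act 4 n51003
theorem D52886 : act 4 n51003 = n52886 := rfl
theorem F236635 : act 0 n52886 = n52605 := d3_1 D52886 F235309 (iv F228150)
theorem F236636 : act 1 n52886 = n52158 := d11_1 D52886 F233839 (iv F228151)
theorem F236637 : act 2 n52886 = n51004 := d18_1 D52886 (iv D51004) D51003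
theorem F236638 : act 5 n52886 = n52155 := d30_2 (iv F228153) D52886 (iv D52155) F224588 F218800
theorem F236639 : act 6 n52886 = n52032 := d31_2 (iv F228154) D52886 F233254
theorem F236640 : act 8 n52886 = n51021 := d33_2 (iv F228155) D52886 (iv D51021)
def n52887 : Q := act 9 n51003
theorem D52887 : act 9 n51003 = n52887 := rfl
theorem F236641 : act 0 n52887 = n52620 := d8_1 D52887 (iv D52620) (iv F228150)
theorem F236642 : act 1 n52887 = n52170 := d16_1 D52887 (iv D52170) (iv F228151)
theorem F236643 : act 2 n52887 = n51005 := d23_1 D52887 (iv D51005) D51003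
theorem F236644 : act 3 n52887 = n52887 := d29_1 D52887 (iv D52887) F228152
theorem F236645 : act 5 n52887 = n51009 := d38_1 D52887 (iv D51009) (iv F228153)
theorem F236646 : act 6 n52887 = n52002 := d41_1 D52887 F233073 (iv F228154)
def n52888 : Q := act 5 n51004
theorem D52888 : act 5 n51004 = n52888 := rfl
theorem F236647 : act 0 n52888 = n51871 := d4_1 D52888 F232553 (iv F228156)
theorem F236648 : act 1 n52888 = n51712 := d12_1 D52888 (iv D51712) (iv F228157)
theorem F236649 : act 2 n52888 = n52155 := d19_1 D52888 (iv F236638) F236637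
theorem F236650 : act 4 n52888 = n51010 := d30_1 D52888 (iv D51010) (iv D48935) (iv F218774) D51004
theorem F236651 : act 6 n52888 = n51791 := d35_2 (iv F228158) D52888 (iv D51791) F222829 (iv F224315)
theorem F236652 : act 8 n52888 = n51023 := d37_2 (iv F228159) D52888 (iv D51023)
def n52889 : Q := act 9 n51004
theorem D52889 : act 9 n51004 = n52889 := rfl
theorem F236653 : act 0 n52889 = n52609 := d8_1 D52889 (iv D52609) (iv F228156)
theorem F236654 : act 1 n52889 = n51713 := d16_1 D52889 (iv D51713) (iv F228157)
theorem F236655 : act 4 n52889 = n51005 := d34_1 D52889 (iv D51005) D51004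
theorem F236656 : act 6 n52889 = n52102 := d41_1 D52889 (iv D52102) (iv F228158)
def n52890 : Q := act 8 n51005
theorem D52890 : act 8 n51005 = n52890 := rfl
theorem F236657 : act 0 n52890 = n52624 := d7_1 D52890 (iv D52624) (iv F228160)
theorem F236658 : act 1 n52890 = n51714 := d15_1 D52890 (iv D51714) (iv F228161)
theorem F236659 : act 3 n52890 = n51151 := d28_1 D52890 (iv D51151) F219562 (iv F218782) (iv F228162)
theorem F236660 : act 5 n52890 = n51012 := d37_1 D52890 (iv D51012) (iv F228163)
theorem F236661 : act 6 n52890 = n52103 := d40_1 D52890 (iv D52103) (iv F228164)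
theorem F236662 : act 9 n52890 = n51025 := d44_2 D51005 D52890 (iv D51025) (iv D48945) (iv F218776)
def n52891 : Q := act 9 n51006
theorem D52891 : act 9 n51006 = n52891 := rfl
theorem F236663 : act 0 n52891 = n52626 := d8_1 D52891 (iv D52626) (iv F228165)
theorem F236664 : act 1 n52891 = n52165 := d16_1 D52891 (iv D52165) (iv F228166)
theorem F236665 : act 2 n52891 = n51008 := d23_1 D52891 (iv D51008) D51006
theorem F236666 : act 3 n52891 = n52891 := d29_1 D52891 (iv D52891) F228167
theorem F236667 : act 4 n52891 = n52163 := d34_1 D52891 (iv D52163) F228171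
theorem F236668 : act 6 n52891 = n52891 := d41_1 D52891 (iv D52891) F228168
theorem F236669 : act 7 n52891 = n51009 := d43_1 D52891 (iv D51009) (iv F228169)
def n52892 : Q := act 5 n51007
theorem D52892 : act 5 n51007 = n52892 := rfl
theorem F236670 : act 0 n52892 = n51885 := d4_1 D52892 F232612 (iv F228172)
theorem F236671 : act 1 n52892 = n51715 := d12_1 D52892 (iv D51715) (iv F228173)
theorem F236672 : act 2 n52892 = n52149 := d19_1 D52892 F233804 (iv F228174)
theorem F236673 : act 3 n52892 = n52892 := d25_1 D52892 (iv D52892) F228175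
theorem F236674 : act 7 n52892 = n51010 := d36_2 (iv F228177) D52892 (iv D51010)
theorem F236675 : act 8 n52892 = n51028 := d37_2 (iv F228178) D52892 (iv D51028)
def n52893 : Q := act 9 n51007
theorem D52893 : act 9 n51007 = n52893 := rfl
theorem F236676 : act 0 n52893 = n51893 := d8_1 D52893 (iv D51893) (iv F228172)
theorem F236677 : act 1 n52893 = n51716 := d16_1 D52893 (iv D51716) (iv F228173)
theorem F236678 : act 2 n52893 = n52163 := d23_1 D52893 (iv D52163) (iv F228174)
theorem F236679 : act 3 n52893 = n52893 := d29_1 D52893 (iv D52893) F228175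
theorem F236680 : act 4 n52893 = n51008 := d34_1 D52893 (iv D51008) D51007
theorem F236681 : act 6 n52893 = n52893 := d41_1 D52893 (iv D52893) F228176
theorem F236682 : act 7 n52893 = n51011 := d43_1 D52893 (iv D51011) (iv F228177)
def n52894 : Q := act 8 n51008
theorem D52894 : act 8 n51008 = n52894 := rfl
theorem F236683 : act 0 n52894 = n52629 := d7_1 D52894 (iv D52629) (iv F228179)
theorem F236684 : act 1 n52894 = n51717 := d15_1 D52894 (iv D51717) (iv F228180)
theorem F236685 : act 3 n52894 = n51156 := d28_1 D52894 (iv D51156) F219579 (iv F218794) (iv F228181)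
theorem F236686 : act 6 n52894 = n52894 := d40_1 D52894 (iv D52894) F228182
theorem F236687 : act 7 n52894 = n51012 := d42_1 D52894 (iv D51012) (iv F228183)
theorem F236688 : act 9 n52894 = n51030 := d44_2 D51008 D52894 (iv D51030) (iv D48948) (iv F218787)
def n52895 : Q := act 8 n51009
theorem D52895 : act 8 n51009 = n52895 := rfl
theorem F236689 : act 0 n52895 = n52627 := d7_1 D52895 (iv D52627) (iv F228184)
theorem F236690 : act 1 n52895 = n52171 := d15_1 D52895 (iv D52171) (iv F228185)
theorem F236691 : act 2 n52895 = n51012 := d22_1 D52895 (iv D51012) (iv F228186)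
theorem F236692 : act 4 n52895 = n52169 := d33_1 D52895 (iv D52169) (iv F228188)
theorem F236693 : act 6 n52895 = n51013 := d40_1 D52895 (iv D51013) (iv F228189)
theorem F236694 : act 9 n52895 = n51034 := d44_2 D51009 D52895 (iv D51034) (iv D48951) (iv F218799)
def n52896 : Q := act 9 n51010
theorem D52896 : act 9 n51010 = n52896 := rfl
theorem F236695 : act 0 n52896 = n51886 := d8_1 D52896 (iv D51886) (iv F228190)
theorem F236696 : act 1 n52896 = n51718 := d16_1 D52896 (iv D51718) (iv F228191)
theorem F236697 : act 2 n52896 = n52156 := d23_1 D52896 (iv D52156) (iv F228192)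
theorem F236698 : act 3 n52896 = n52896 := d29_1 D52896 (iv D52896) F228193
theorem F236699 : act 5 n52896 = n51011 := d38_1 D52896 (iv D51011) D51010
theorem F236700 : act 6 n52896 = n51797 := d41_1 D52896 (iv D51797) (iv F228194)
def n52897 : Q := act 8 n51011
theorem D52897 : act 8 n51011 = n52897 := rfl
theorem F236701 : act 0 n52897 = n51894 := d7_1 D52897 (iv D51894) (iv F228196)
theorem F236702 : act 1 n52897 = n51719 := d15_1 D52897 (iv D51719) (iv F228197)
theorem F236703 : act 2 n52897 = n52169 := d22_1 D52897 (iv D52169) (iv F228198)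
theorem F236704 : act 4 n52897 = n51012 := d33_1 D52897 (iv D51012) (iv F228200)
theorem F236705 : act 6 n52897 = n51014 := d40_1 D52897 (iv D51014) (iv F228201)
theorem F236706 : act 9 n52897 = n51036 := d44_2 D51011 D52897 (iv D51036) (iv D48953) (iv F218806)
def n52898 : Q := act 3 n51013
theorem D52898 : act 3 n51013 = n52898 := rfl
theorem F236707 : act 0 n52898 = n52628 := d2_1 D52898 (iv D52628) (iv F228207)
theorem F236708 : act 1 n52898 = n52175 := d10_1 D52898 (iv D52175) (iv F228208)
theorem F236709 : act 2 n52898 = n51166 := d17_1 D52898 (iv D51166) F219622 (iv F218827) (iv F228209)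
theorem F236710 : act 5 n52898 = n51964 := d25_2 (iv F228211) D52898 F232891
theorem F236711 : act 7 n52898 = n52898 := d27_2 F228212 D52898 (iv D52898)
theorem F236712 : act 8 n52898 = n52898 := d28_2 D51013 D52898 (iv D52898) (iv D51013) F218814
theorem F236713 : act 9 n52898 = n51039 := d29_2 (iv F228213) D52898 (iv D51039)
def n52899 : Q := act 3 n51014
theorem D52899 : act 3 n51014 = n52899 := rfl
theorem F236714 : act 0 n52899 = n51895 := d2_1 D52899 (iv D51895) (iv F228214)
theorem F236715 : act 1 n52899 = n51720 := d10_1 D52899 (iv D51720) (iv F228215)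
theorem F236716 : act 4 n52899 = n51170 := d24_2 (iv F228217) D52899 (iv D51170) F219640 (iv F218827)
theorem F236717 : act 5 n52899 = n51799 := d25_2 (iv F228218) D52899 (iv D51799)
theorem F236718 : act 7 n52899 = n52899 := d27_2 F228219 D52899 (iv D52899)
theorem F236719 : act 8 n52899 = n52899 := d28_2 D51014 D52899 (iv D52899) (iv D51014) F218821
theorem F236720 : act 9 n52899 = n51040 := d29_2 (iv F228220) D52899 (iv D51040)
def n52900 : Q := act 4 n51015
theorem D52900 : act 4 n51015 = n52900 := rfl
theorem F236721 : act 0 n52900 = n52643 := d3_1 D52900 F235434 (iv F228221)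
theorem F236722 : act 1 n52900 = n51722 := d11_1 D52900 (iv D51722) (iv F228222)
theorem F236723 : act 2 n52900 = n52242 := d18_1 D52900 F234210 (iv F228223)
theorem F236724 : act 3 n52900 = n52064 := d24_1 D52900 (iv D52064) F224086 (iv F218834) D51015
theorem F236725 : act 6 n52900 = n51018 := d31_2 (iv F228225) D52900 (iv D51018)
theorem F236726 : act 7 n52900 = n52070 := d32_2 (iv F228226) D52900 F233448
theorem F236727 : act 5 n52417 = n52900 := d25_0 F236724 F233420 D52417
def n52901 : Q := act 9 n51015
theorem D52901 : act 9 n51015 = n52901 := rfl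
theorem F236728 : act 0 n52901 = n52678 := d8_1 D52901 (iv D52678) (iv F228221)
theorem F236729 : act 1 n52901 = n51723 := d16_1 D52901 (iv D51723) (iv F228222)
theorem F236730 : act 2 n52901 = n52300 := d23_1 D52901 (iv D52300) (iv F228223)
theorem F236731 : act 3 n52901 = n51016 := d29_1 D52901 (iv D51016) D51015
theorem F236732 : act 5 n52901 = n52901 := d38_1 D52901 (iv D52901) F228224
theorem F236733 : act 6 n52901 = n51019 := d41_1 D52901 (iv D51019) (iv F228225)
theorem F236734 : act 7 n52901 = n52094 := d43_1 D52901 (iv D52094) (iv F228226)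
def n52902 : Q := act 4 n51017
theorem D52902 : act 4 n51017 = n52902 := rfl
theorem F236735 : act 0 n52902 = n52661 := d3_1 D52902 F235477 (iv F228235)
theorem F236736 : act 1 n52902 = n52546 := d11_1 D52902 (iv D52546) (iv F228236)
theorem F236737 : act 2 n52902 = n51018 := d18_1 D52902 (iv D51018) D51017
theorem F236738 : act 3 n52902 = n52235 := d24_1 D52902 (iv D52235) F224933 (iv F218974) (iv F228237)
theorem F236739 : act 6 n52902 = n52242 := d31_2 (iv F228239) D52902 F234210
theorem F236740 : act 7 n52902 = n51021 := d32_2 (iv F228240) D52902 (iv D51021)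
def n52903 : Q := act 9 n51017
theorem D52903 : act 9 n51017 = n52903 := rfl
theorem F236741 : act 0 n52903 = n52685 := d8_1 D52903 (iv D52685) (iv F228235)
theorem F236742 : act 1 n52903 = n52547 := d16_1 D52903 (iv D52547) (iv F228236)
theorem F236743 : act 2 n52903 = n51019 := d23_1 D52903 (iv D51019) D51017
theorem F236744 : act 3 n52903 = n51047 := d29_1 D52903 (iv D51047) (iv F228237)
theorem F236745 : act 5 n52903 = n51027 := d38_1 D52903 (iv D51027) (iv F228238)
theorem F236746 : act 6 n52903 = n52300 := d41_1 D52903 (iv D52300) (iv F228239)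
theorem F236747 : act 7 n52903 = n51022 := d43_1 D52903 (iv D51022) (iv F228240)
def n52904 : Q := act 5 n51018
theorem D52904 : act 5 n51018 = n52904 := rfl
theorem F236748 : act 0 n52904 = n51926 := d4_1 D52904 F232754 (iv F228241)
theorem F236749 : act 1 n52904 = n51726 := d12_1 D52904 (iv D51726) (iv F228242)
theorem F236750 : act 4 n52904 = n51028 := d30_1 D52904 (iv D51028) (iv D48947) (iv F218840) D51018
theorem F236751 : act 7 n52904 = n51023 := d36_2 (iv F228243) D52904 (iv D51023)
def n52905 : Q := act 9 n51018
theorem D52905 : act 9 n51018 = n52905 := rfl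
theorem F236752 : act 0 n52905 = n52666 := d8_1 D52905 (iv D52666) (iv F228241)
theorem F236753 : act 1 n52905 = n51727 := d16_1 D52905 (iv D51727) (iv F228242)
theorem F236754 : act 4 n52905 = n51019 := d34_1 D52905 (iv D51019) D51018
theorem F236755 : act 7 n52905 = n51024 := d43_1 D52905 (iv D51024) (iv F228243)
def n52906 : Q := act 8 n51019
theorem D52906 : act 8 n51019 = n52906 := rfl
theorem F236756 : act 0 n52906 = n52690 := d7_1 D52906 (iv D52690) (iv F228244)
theorem F236757 : act 1 n52906 = n51728 := d15_1 D52906 (iv D51728) (iv F228245)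
theorem F236758 : act 3 n52906 = n51178 := d28_1 D52906 (iv D51178) F219659 (iv F218847) (iv F228246)
theorem F236759 : act 5 n52906 = n51030 := d37_1 D52906 (iv D51030) (iv F228247)
theorem F236760 : act 7 n52906 = n51025 := d42_1 D52906 (iv D51025) (iv F228248)
def n52907 : Q := act 4 n51020
theorem D52907 : act 4 n51020 = n52907 := rfl
theorem F236761 : act 0 n52907 = n52215 := d3_1 D52907 F234097 F228255
theorem F236762 : act 1 n52907 = n51021 := d11_1 D52907 (iv D51021) D51020
theorem F236763 : act 2 n52907 = n51729 := d18_1 D52907 (iv D51729) (iv F228249)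
theorem F236764 : act 5 n52907 = n52138 := d30_2 (iv F228251) D52907 (iv D52138) F224538 F218881
theorem F236765 : act 6 n52907 = n52108 := d31_2 (iv F228252) D52907 (iv D52108)
theorem F236766 : act 7 n52907 = n52546 := d32_2 (iv F228253) D52907 (iv D52546)
theorem F236767 : act 8 n52907 = n52158 := d33_2 (iv F228254) D52907 F233839
def n52908 : Q := act 9 n51020
theorem D52908 : act 9 n51020 = n52908 := rfl
theorem F236768 : act 0 n52908 = n52226 := d8_1 D52908 (iv D52226) F228255
theorem F236769 : act 1 n52908 = n51022 := d16_1 D52908 (iv D51022) D51020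
theorem F236770 : act 2 n52908 = n51730 := d23_1 D52908 (iv D51730) (iv F228249)
theorem F236771 : act 3 n52908 = n51050 := d29_1 D52908 (iv D51050) (iv F228250)
theorem F236772 : act 5 n52908 = n51031 := d38_1 D52908 (iv D51031) (iv F228251)
theorem F236773 : act 6 n52908 = n52109 := d41_1 D52908 (iv D52109) (iv F228252)
theorem F236774 : act 7 n52908 = n52547 := d43_1 D52908 (iv D52547) (iv F228253)
def n52909 : Q := act 3 n51021
theorem D52909 : act 3 n51021 = n52909 := rfl
theorem F236775 : act 0 n52909 = n52656 := d2_1 D52909 F235467 (iv F228256)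
theorem F236776 : act 2 n52909 = n51171 := d17_1 D52909 (iv F236104) F236103 F227594 (iv F228257)
theorem F236777 : act 4 n52909 = n51051 := d24_2 D51021 D52909 (iv D51051) (iv D48969) (iv F218849)
theorem F236778 : act 6 n52909 = n51174 := d26_2 (iv F228258) D52909 F229154
theorem F236779 : act 7 n52909 = n52235 := d27_2 F236740 D52909 (iv F236738)
def n52910 : Q := act 5 n51021
theorem D52910 : act 5 n51021 = n52910 := rfl
theorem F236780 : act 0 n52910 = n51922 := d4_1 D52910 F232740 (iv F228256)
theorem F236781 : act 1 n52910 = n52138 := d12_1 D52910 (iv F236764) F236762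
theorem F236782 : act 2 n52910 = n51023 := d19_1 D52910 (iv D51023) (iv F228257)
theorem F236783 : act 4 n52910 = n51032 := d30_1 D52910 (iv D51032) (iv D48950) (iv F218850) D51021
theorem F236784 : act 6 n52910 = n51811 := d35_2 (iv F228258) D52910 (iv D51811) F222894 (iv F224347)
theorem F236785 : act 8 n52910 = n52155 := d37_2 F236640 D52910 (iv F236638)
def n52911 : Q := act 9 n51021
theorem D52911 : act 9 n51021 = n52911 := rfl
theorem F236786 : act 0 n52911 = n52662 := d8_1 D52911 (iv D52662) (iv F228256)
theorem F236787 : act 2 n52911 = n51024 := d23_1 D52911 (iv D51024) (iv F228257)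
theorem F236788 : act 4 n52911 = n51022 := d34_1 D52911 (iv D51022) D51021
theorem F236789 : act 6 n52911 = n52110 := d41_1 D52911 (iv D52110) (iv F228258)
def n52912 : Q := act 8 n51022
theorem D52912 : act 8 n51022 = n52912 := rfl
theorem F236790 : act 0 n52912 = n52686 := d7_1 D52912 (iv D52686) (iv F228259)
theorem F236791 : act 2 n52912 = n51025 := d22_1 D52912 (iv D51025) (iv F228260)
theorem F236792 : act 5 n52912 = n51034 := d37_1 D52912 (iv D51034) (iv F228262)
theorem F236793 : act 6 n52912 = n52111 := d40_1 D52912 (iv D52111) (iv F228263)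
def n52913 : Q := act 9 n51023
theorem D52913 : act 9 n51023 = n52913 := rfl
theorem F236794 : act 0 n52913 = n51927 := d8_1 D52913 (iv D51927) (iv F228264)
theorem F236795 : act 1 n52913 = n51736 := d16_1 D52913 (iv D51736) (iv F228265)
theorem F236796 : act 4 n52913 = n51035 := d34_1 D52913 (iv D51035) (iv F228266)
theorem F236797 : act 5 n52913 = n51024 := d38_1 D52913 (iv D51024) D51023
theorem F236798 : act 6 n52913 = n51814 := d41_1 D52913 (iv D51814) (iv F228267)
def n52914 : Q := act 8 n51024
theorem D52914 : act 8 n51024 = n52914 := rfl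
theorem F236799 : act 0 n52914 = n52667 := d7_1 D52914 (iv D52667) (iv F228268)
theorem F236800 : act 1 n52914 = n51737 := d15_1 D52914 (iv D51737) (iv F228269)
theorem F236801 : act 4 n52914 = n51025 := d33_1 D52914 (iv D51025) (iv F228270)
theorem F236802 : act 6 n52914 = n52112 := d40_1 D52914 (iv D52112) (iv F228271)
def n52915 : Q := act 5 n51026
theorem D52915 : act 5 n51026 = n52915 := rfl
theorem F236803 : act 0 n52915 = n51947 := d4_1 D52915 F232827 (iv F228277)
theorem F236804 : act 1 n52915 = n52097 := d12_1 D52915 F233553 (iv F228278)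
theorem F236805 : act 2 n52915 = n51028 := d19_1 D52915 (iv D51028) (iv F228279)
theorem F236806 : act 3 n52915 = n52915 := d25_1 D52915 (iv D52915) F228280
theorem F236807 : act 7 n52915 = n51032 := d36_2 (iv F228282) D52915 (iv D51032)
theorem F236808 : act 8 n52915 = n52149 := d37_2 (iv F228283) D52915 F233804
def n52916 : Q := act 9 n51026
theorem D52916 : act 9 n51026 = n52916 := rfl
theorem F236809 : act 0 n52916 = n51960 := d8_1 D52916 (iv D51960) (iv F228277)
theorem F236810 : act 1 n52916 = n52142 := d16_1 D52916 (iv D52142) (iv F228278)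
theorem F236811 : act 2 n52916 = n51029 := d23_1 D52916 (iv D51029) (iv F228279)
theorem F236812 : act 3 n52916 = n52916 := d29_1 D52916 (iv D52916) F228280
theorem F236813 : act 4 n52916 = n51027 := d34_1 D52916 (iv D51027) D51026
theorem F236814 : act 6 n52916 = n52916 := d41_1 D52916 (iv D52916) F228281
theorem F236815 : act 7 n52916 = n51033 := d43_1 D52916 (iv D51033) (iv F228282)
def n52917 : Q := act 8 n51027
theorem D52917 : act 8 n51027 = n52917 := rfl
theorem F236816 : act 0 n52917 = n52695 := d7_1 D52917 (iv D52695) (iv F228284)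
theorem F236817 : act 1 n52917 = n52766 := d15_1 D52917 (iv D52766) (iv F228285)
theorem F236818 : act 2 n52917 = n51030 := d22_1 D52917 (iv D51030) (iv F228286)
theorem F236819 : act 6 n52917 = n52917 := d40_1 D52917 (iv D52917) F228288
theorem F236820 : act 7 n52917 = n51034 := d42_1 D52917 (iv D51034) (iv F228289)
def n52918 : Q := act 6 n51028
theorem D52918 : act 6 n51028 = n52918 := rfl
theorem F236821 : act 0 n52918 = n51938 := d5_1 D52918 F232798 (iv F228290)
theorem F236822 : act 1 n52918 = n51705 := d13_1 D52918 F231793 (iv F228291)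
theorem F236823 : act 3 n52918 = n51041 := d26_1 D52918 (iv D51041) (iv F228292)
theorem F236824 : act 5 n52918 = n52918 := d35_1 D52918 (iv D52918) (iv D51028) F218868 D51028
theorem F236825 : act 7 n52918 = n51819 := d39_2 (iv F228293) D52918 (iv D51819) F222924 (iv F218895)
def n52919 : Q := act 9 n51028
theorem D52919 : act 9 n51028 = n52919 := rfl
theorem F236826 : act 0 n52919 = n51952 := d8_1 D52919 (iv D51952) (iv F228290)
theorem F236827 : act 1 n52919 = n51739 := d16_1 D52919 (iv D51739) (iv F228291)
theorem F236828 : act 3 n52919 = n51042 := d29_1 D52919 (iv D51042) (iv F228292)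
theorem F236829 : act 5 n52919 = n51029 := d38_1 D52919 (iv D51029) D51028
theorem F236830 : act 7 n52919 = n51035 := d43_1 D52919 (iv D51035) (iv F228293)
def n52920 : Q := act 8 n51029
theorem D52920 : act 8 n51029 = n52920 := rfl
theorem F236831 : act 0 n52920 = n51965 := d7_1 D52920 (iv D51965) (iv F228294)
theorem F236832 : act 1 n52920 = n51740 := d15_1 D52920 (iv D51740) (iv F228295)
theorem F236833 : act 4 n52920 = n51030 := d33_1 D52920 (iv D51030) (iv F228297)
theorem F236834 : act 6 n52920 = n52920 := d40_1 D52920 (iv D52920) F228298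
theorem F236835 : act 7 n52920 = n51036 := d42_1 D52920 (iv D51036) (iv F228299)
def n52921 : Q := act 8 n51031
theorem D52921 : act 8 n51031 = n52921 := rfl
theorem F236836 : act 0 n52921 = n52227 := d7_1 D52921 (iv D52227) (iv F228305)
theorem F236837 : act 1 n52921 = n51034 := d15_1 D52921 (iv D51034) (iv F228306)
theorem F236838 : act 2 n52921 = n51741 := d22_1 D52921 (iv D51741) (iv F228307)
theorem F236839 : act 4 n52921 = n52144 := d33_1 D52921 (iv D52144) (iv F228309)
theorem F236840 : act 6 n52921 = n51037 := d40_1 D52921 (iv D51037) (iv F228310)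
theorem F236841 : act 7 n52921 = n52766 := d42_1 D52921 (iv D52766) (iv F228311)
theorem F236842 : act 9 n52921 = n52171 := d44_2 D51031 D52921 (iv D52171) (iv D50137) (iv F218879)
def n52922 : Q := act 9 n51032
theorem D52922 : act 9 n51032 = n52922 := rfl
theorem F236843 : act 0 n52922 = n51948 := d8_1 D52922 (iv D51948) (iv F228312)
theorem F236844 : act 1 n52922 = n52139 := d16_1 D52922 (iv D52139) (iv F228313)
theorem F236845 : act 2 n52922 = n51035 := d23_1 D52922 (iv D51035) (iv F228314)
theorem F236846 : act 3 n52922 = n52922 := d29_1 D52922 (iv D52922) F228315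
theorem F236847 : act 5 n52922 = n51033 := d38_1 D52922 (iv D51033) D51032
theorem F236848 : act 6 n52922 = n51823 := d41_1 D52922 (iv D51823) (iv F228316)
def n52923 : Q := act 8 n51033
theorem D52923 : act 8 n51033 = n52923 := rfl
theorem F236849 : act 0 n52923 = n51961 := d7_1 D52923 (iv D51961) (iv F228318)
theorem F236850 : act 1 n52923 = n52144 := d15_1 D52923 (iv D52144) (iv F228319)
theorem F236851 : act 2 n52923 = n51036 := d22_1 D52923 (iv D51036) (iv F228320)
theorem F236852 : act 4 n52923 = n51034 := d33_1 D52923 (iv D51034) (iv F228322)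
theorem F236853 : act 6 n52923 = n51038 := d40_1 D52923 (iv D51038) (iv F228323)
theorem F236854 : act 9 n52923 = n52169 := d44_2 D51033 D52923 (iv D52169) (iv D50135) (iv F218887)
def n52924 : Q := act 3 n51034
theorem D52924 : act 3 n51034 = n52924 := rfl
theorem F236855 : act 0 n52924 = n52696 := d2_1 D52924 (iv D52696) (iv F228324)
theorem F236856 : act 2 n52924 = n51202 := d17_1 D52924 (iv D51202) F219733 (iv F218903) (iv F228325)
theorem F236857 : act 6 n52924 = n51039 := d26_2 (iv F228326) D52924 (iv D51039)
theorem F236858 : act 8 n52924 = n51057 := d28_2 D51034 D52924 (iv D51057) (iv D48976) (iv F218890)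
def n52925 : Q := act 8 n51035
theorem D52925 : act 8 n51035 = n52925 := rfl
theorem F236859 : act 0 n52925 = n51953 := d7_1 D52925 (iv D51953) (iv F228327)
theorem F236860 : act 1 n52925 = n51746 := d15_1 D52925 (iv D51746) (iv F228328)
theorem F236861 : act 5 n52925 = n51036 := d37_1 D52925 (iv D51036) (iv F228330)
theorem F236862 : act 6 n52925 = n51825 := d40_1 D52925 (iv D51825) (iv F228331)
def n52926 : Q := act 3 n51036
theorem D52926 : act 3 n51036 = n52926 := rfl
theorem F236863 : act 0 n52926 = n51966 := d2_1 D52926 (iv D51966) (iv F228332)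
theorem F236864 : act 1 n52926 = n51747 := d10_1 D52926 (iv D51747) (iv F228333)
theorem F236865 : act 4 n52926 = n51206 := d24_2 (iv F228334) D52926 (iv D51206) F219742 (iv F218903)
theorem F236866 : act 6 n52926 = n51040 := d26_2 (iv F228335) D52926 (iv D51040)
theorem F236867 : act 8 n52926 = n51045 := d28_2 D51036 D52926 (iv D51045) (iv D48963) (iv F218898)
def n52927 : Q := act 3 n51037
theorem D52927 : act 3 n51037 = n52927 := rfl
theorem F236868 : act 0 n52927 = n51751 := d2_1 D52927 F232008 (iv F228336)
theorem F236869 : act 1 n52927 = n51039 := d10_1 D52927 (iv D51039) (iv F228337)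
theorem F236870 : act 2 n52927 = n51699 := d17_1 D52927 (iv D51699) F222402 (iv F222591) (iv F228338)
theorem F236871 : act 5 n52927 = n52120 := d25_2 (iv F228340) D52927 (iv D52120)
theorem F236872 : act 7 n52927 = n52927 := d27_2 F228341 D52927 (iv D52927)
theorem F236873 : act 8 n52927 = n51059 := d28_2 D51037 D52927 (iv D51059) (iv D48978) (iv F218908)
theorem F236874 : act 9 n52927 = n52175 := d29_2 (iv F228342) D52927 (iv D52175)
theorem F236875 : act 4 n51828 = n52927 := d33_3 F236873 (iv F228482) (iv F232363)
def n52928 : Q := act 3 n51038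
theorem D52928 : act 3 n51038 = n52928 := rfl
theorem F236876 : act 0 n52928 = n51962 := d2_1 D52928 (iv D51962) (iv F228343)
theorem F236877 : act 1 n52928 = n52145 := d10_1 D52928 (iv D52145) (iv F228344)
theorem F236878 : act 5 n52928 = n51827 := d25_2 (iv F228347) D52928 (iv D51827)
theorem F236879 : act 7 n52928 = n52928 := d27_2 F228348 D52928 (iv D52928)
theorem F236880 : act 8 n52928 = n52928 := d28_2 D51038 D52928 (iv D52928) (iv D51038) F218915
theorem F236881 : act 9 n52928 = n52174 := d29_2 (iv F228349) D52928 (iv D52174)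
def n52929 : Q := act 4 n51039
theorem D52929 : act 4 n51039 = n52929 := rfl
theorem F236882 : act 0 n52929 = n52694 := d3_1 D52929 F235567 (iv F228350)
theorem F236883 : act 1 n52929 = n51828 := d11_1 D52929 F236875 F236869
theorem F236884 : act 2 n52929 = n51213 := d18_1 D52929 (iv D51213) (iv F228351)
theorem F236885 : act 7 n52929 = n52929 := d32_2 F228353 D52929 (iv D52929)
theorem F236886 : act 8 n52929 = n51060 := d33_2 (iv F228354) D52929 (iv D51060)
def n52930 : Q := act 2 n51040
theorem D52930 : act 2 n51040 = n52930 := rfl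
theorem F236887 : act 0 n52930 = n51967 := d1_1 D52930 (iv D51967) (iv F228355)
theorem F236888 : act 4 n52930 = n51217 := d18_2 (iv F228357) D52930 (iv D51217)
theorem F236889 : act 5 n52930 = n51828 := d19_2 (iv F228358) D52930 (iv D51828)
theorem F236890 : act 7 n52930 = n52930 := d21_2 F228359 D52930 (iv D52930)
theorem F236891 : act 8 n52930 = n51046 := d22_2 (iv F228360) D52930 (iv D51046)
def n52931 : Q := act 9 n51041
theorem D52931 : act 9 n51041 = n52931 := rfl
theorem F236892 : act 0 n52931 = n51969 := d8_1 D52931 (iv D51969) (iv F228361)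
theorem F236893 : act 1 n52931 = n51752 := d16_1 D52931 (iv D51752) (iv F228362)
theorem F236894 : act 2 n52931 = n52931 := d23_1 D52931 (iv D52931) F228363
theorem F236895 : act 4 n52931 = n52358 := d34_1 D52931 (iv D52358) (iv F228364)
theorem F236896 : act 5 n52931 = n52931 := d38_1 D52931 (iv D52931) F228365
theorem F236897 : act 6 n52931 = n51042 := d41_1 D52931 (iv D51042) D51041
theorem F236898 : act 7 n52931 = n51829 := d43_1 D52931 (iv D51829) (iv F228366)
def n52932 : Q := act 8 n51042
theorem D52932 : act 8 n51042 = n52932 := rfl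
theorem F236899 : act 0 n52932 = n51973 := d7_1 D52932 (iv D51973) (iv F228368)
theorem F236900 : act 1 n52932 = n51753 := d15_1 D52932 (iv D51753) (iv F228369)
theorem F236901 : act 2 n52932 = n52932 := d22_1 D52932 (iv D52932) F228370
theorem F236902 : act 4 n52932 = n52721 := d33_1 D52932 F236237 F236233
theorem F236903 : act 5 n52932 = n51043 := d37_1 D52932 (iv D51043) (iv F228371)
theorem F236904 : act 7 n52932 = n51044 := d42_1 D52932 (iv D51044) (iv F228372)
theorem F236905 : act 9 n52932 = n52932 := d44_2 D51042 D52932 (iv D52932) (iv D51042) F218932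
def n52933 : Q := act 3 n51043
theorem D52933 : act 3 n51043 = n52933 := rfl
theorem F236906 : act 0 n52933 = n51978 := d2_1 D52933 (iv D51978) (iv F228373)
theorem F236907 : act 1 n52933 = n51754 := d10_1 D52933 (iv D51754) (iv F228374)
theorem F236908 : act 4 n52933 = n51221 := d24_2 (iv F228376) D52933 (iv D51221) F219813 (iv F218942)
theorem F236909 : act 6 n52933 = n52933 := d26_2 F228377 D52933 (iv D52933)
theorem F236910 : act 7 n52933 = n51045 := d27_2 (iv F228378) D52933 (iv D51045)
theorem F236911 : act 9 n52933 = n52933 := d29_2 F228379 D52933 (iv D52933)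
def n52934 : Q := act 3 n51044
theorem D52934 : act 3 n51044 = n52934 := rfl
theorem F236912 : act 0 n52934 = n51974 := d2_1 D52934 (iv D51974) (iv F228380)
theorem F236913 : act 1 n52934 = n51757 := d10_1 D52934 (iv D51757) (iv F228381)
theorem F236914 : act 5 n52934 = n51045 := d25_2 (iv F228383) D52934 (iv D51045)
theorem F236915 : act 6 n52934 = n51832 := d26_2 (iv F228384) D52934 (iv D51832)
theorem F236916 : act 9 n52934 = n52934 := d29_2 F228385 D52934 (iv D52934)
def n52935 : Q := act 2 n51045
theorem D52935 : act 2 n51045 = n52935 := rfl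
theorem F236917 : act 0 n52935 = n51979 := d1_1 D52935 (iv D51979) (iv F228386)
theorem F236918 : act 3 n52935 = n52935 := d17_2 D51045 D52935 (iv D52935) (iv D51045) F218954
theorem F236919 : act 4 n52935 = n51225 := d18_2 (iv F228388) D52935 (iv D51225)
theorem F236920 : act 6 n52935 = n51046 := d20_2 (iv F228389) D52935 (iv D51046)
theorem F236921 : act 9 n52935 = n52935 := d23_2 F228390 D52935 (iv D52935)
def n52936 : Q := act 1 n51046
theorem D52936 : act 1 n51046 = n52936 := rfl
theorem F236922 : act 0 n52936 = n52198 := d0_1 D52936 F234026 F224789 F223421 (iv F228391)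
theorem F236923 : act 2 n52936 = n51249 := d9_2 D51046 D52936 F229528 (iv D49702) (iv F218959)
theorem F236924 : act 3 n52936 = n52936 := d10_2 F228392 D52936 (iv D52936)
theorem F236925 : act 4 n52936 = n51229 := d11_2 (iv F228393) D52936 (iv D51229)
theorem F236926 : act 5 n52936 = n51060 := d12_2 (iv F228394) D52936 F228484
theorem F236927 : act 7 n52936 = n52936 := d14_2 F228395 D52936 (iv D52936)
theorem F236928 : act 9 n52936 = n52936 := d16_2 F228396 D52936 (iv D52936)
def n52937 : Q := act 8 n51047
theorem D52937 : act 8 n51047 = n52937 := rfl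
theorem F236929 : act 0 n52937 = n52754 := d7_1 D52937 F235791 (iv F228397)
theorem F236930 : act 1 n52937 = n52700 := d15_1 D52937 (iv D52700) (iv F228398)
theorem F236931 : act 2 n52937 = n51048 := d22_1 D52937 (iv D51048) (iv F228399)
theorem F236932 : act 4 n52937 = n52297 := d33_1 D52937 (iv D52297) (iv F228400)
theorem F236933 : act 5 n52937 = n51055 := d37_1 D52937 (iv D51055) (iv F228401)
theorem F236934 : act 6 n52937 = n52301 := d40_1 D52937 (iv D52301) (iv F228402)
theorem F236935 : act 7 n52937 = n51053 := d42_1 D52937 (iv D51053) (iv F228403)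
theorem F236936 : act 9 n52937 = n52937 := d44_2 D51047 D52937 (iv D52937) (iv D51047) F218978
def n52938 : Q := act 3 n51049
theorem D52938 : act 3 n51049 = n52938 := rfl
theorem F236937 : act 0 n52938 = n52703 := d2_1 D52938 (iv D52703) (iv F228412)
theorem F236938 : act 1 n52938 = n51051 := d10_1 D52938 (iv D51051) (iv F228413)
theorem F236939 : act 2 n52938 = n51897 := d17_1 D52938 F232665 F223426 (iv F219075) (iv F228414)
theorem F236940 : act 5 n52938 = n52938 := d25_2 F228415 D52938 (iv D52938)
theorem F236941 : act 6 n52938 = n51173 := d26_2 (iv F228416) D52938 F229149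
theorem F236942 : act 7 n52938 = n52030 := d27_2 (iv F228417) D52938 F233245
def n52939 : Q := act 9 n51049
theorem D52939 : act 9 n51049 = n52939 := rfl
theorem F236943 : act 0 n52939 = n52704 := d8_1 D52939 (iv D52704) (iv F228412)
theorem F236944 : act 1 n52939 = n51052 := d16_1 D52939 (iv D51052) (iv F228413)
theorem F236945 : act 2 n52939 = n51062 := d23_1 D52939 (iv D51062) (iv F228414)
theorem F236946 : act 4 n52939 = n51050 := d34_1 D52939 (iv D51050) D51049
theorem F236947 : act 5 n52939 = n52939 := d38_1 D52939 (iv D52939) F228415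
theorem F236948 : act 6 n52939 = n51231 := d41_1 D52939 (iv D51231) (iv F228416)
theorem F236949 : act 7 n52939 = n51998 := d43_1 D52939 F233052 (iv F228417)
def n52940 : Q := act 8 n51050
theorem D52940 : act 8 n51050 = n52940 := rfl
theorem F236950 : act 0 n52940 = n52705 := d7_1 D52940 (iv D52705) (iv F228419)
theorem F236951 : act 1 n52940 = n51053 := d15_1 D52940 (iv D51053) (iv F228420)
theorem F236952 : act 2 n52940 = n51063 := d22_1 D52940 (iv D51063) (iv F228421)
theorem F236953 : act 5 n52940 = n51056 := d37_1 D52940 (iv D51056) (iv F228422)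
theorem F236954 : act 6 n52940 = n52122 := d40_1 D52940 (iv D52122) (iv F228423)
theorem F236955 : act 7 n52940 = n52700 := d42_1 D52940 (iv D52700) (iv F228424)
theorem F236956 : act 9 n52940 = n52940 := d44_2 D51050 D52940 (iv D52940) (iv D51050) F218990
def n52941 : Q := act 8 n51051
theorem D52941 : act 8 n51051 = n52941 := rfl
theorem F236957 : act 0 n52941 = n52743 := d7_1 D52941 (iv D52743) (iv F228425)
theorem F236958 : act 2 n52941 = n51141 := d22_1 D52941 F228989 (iv F228426)
theorem F236959 : act 3 n52941 = n52941 := d28_1 D52941 (iv D52941) (iv D51051) F218997 D51051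
theorem F236960 : act 5 n52941 = n52941 := d37_1 D52941 (iv D52941) F228427
theorem F236961 : act 6 n52941 = n51143 := d40_1 D52941 F229000 (iv F228428)
theorem F236962 : act 7 n52941 = n52204 := d42_1 D52941 F234057 (iv F228429)
def n52942 : Q := act 9 n51051
theorem D52942 : act 9 n51051 = n52942 := rfl
theorem F236963 : act 0 n52942 = n52744 := d8_1 D52942 (iv D52744) (iv F228425)
theorem F236964 : act 2 n52942 = n51172 := d23_1 D52942 (iv D51172) (iv F228426)
theorem F236965 : act 3 n52942 = n51052 := d29_1 D52942 (iv D51052) D51051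
theorem F236966 : act 5 n52942 = n52942 := d38_1 D52942 (iv D52942) F228427
theorem F236967 : act 6 n52942 = n51175 := d41_1 D52942 (iv D51175) (iv F228428)
theorem F236968 : act 7 n52942 = n52236 := d43_1 D52942 (iv D52236) (iv F228429)
def n52943 : Q := act 8 n51052
theorem D52943 : act 8 n51052 = n52943 := rfl
theorem F236969 : act 0 n52943 = n52749 := d7_1 D52943 (iv D52749) (iv F228430)
theorem F236970 : act 2 n52943 = n51054 := d22_1 D52943 (iv D51054) (iv F228431)
theorem F236971 : act 4 n52943 = n51053 := d33_1 D52943 (iv D51053) (iv F228432)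
theorem F236972 : act 5 n52943 = n52943 := d37_1 D52943 (iv D52943) F228433
theorem F236973 : act 6 n52943 = n51232 := d40_1 D52943 (iv D51232) (iv F228434)
theorem F236974 : act 7 n52943 = n52297 := d42_1 D52943 (iv D52297) (iv F228435)
theorem F236975 : act 9 n52943 = n52943 := d44_2 D51052 D52943 (iv D52943) (iv D51052) F218997
def n52944 : Q := act 3 n51053
theorem D52944 : act 3 n51053 = n52944 := rfl
theorem F236976 : act 0 n52944 = n52761 := d2_1 D52944 (iv D52761) (iv F228436)
theorem F236977 : act 2 n52944 = n51241 := d17_1 D52944 (iv D51241) F219893 (iv F219011) (iv F228437)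
theorem F236978 : act 5 n52944 = n51057 := d25_2 (iv F228438) D52944 (iv D51057)
theorem F236979 : act 6 n52944 = n52123 := d26_2 (iv F228439) D52944 (iv D52123)
theorem F236980 : act 9 n52944 = n52944 := d29_2 F228440 D52944 (iv D52944)
def n52945 : Q := act 3 n51055
theorem D52945 : act 3 n51055 = n52945 := rfl
theorem F236981 : act 0 n52945 = n52751 := d2_1 D52945 F235774 (iv F228449)
theorem F236982 : act 1 n52945 = n52769 := d10_1 D52945 (iv D52769) (iv F228450)
theorem F236983 : act 2 n52945 = n51244 := d17_1 D52945 (iv D51244) F219917 (iv F219023) (iv F228451)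
theorem F236984 : act 6 n52945 = n52945 := d26_2 F228453 D52945 (iv D52945)
theorem F236985 : act 7 n52945 = n51057 := d27_2 (iv F228454) D52945 (iv D51057)
theorem F236986 : act 9 n52945 = n52945 := d29_2 F228455 D52945 (iv D52945)
def n52946 : Q := act 3 n51056
theorem D52946 : act 3 n51056 = n52946 := rfl
theorem F236987 : act 0 n52946 = n51758 := d2_1 D52946 F232039 (iv F228456)
theorem F236988 : act 1 n52946 = n51057 := d10_1 D52946 (iv D51057) (iv F228457)
theorem F236989 : act 2 n52946 = n51702 := d17_1 D52946 (iv D51702) F228542 (iv D51067) (iv F228458)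
theorem F236990 : act 6 n52946 = n51059 := d26_2 (iv F228460) D52946 (iv D51059)
theorem F236991 : act 7 n52946 = n52769 := d27_2 (iv F228461) D52946 (iv D52769)
theorem F236992 : act 9 n52946 = n52946 := d29_2 F228462 D52946 (iv D52946)
theorem F236993 : act 4 n51833 = n52946 := d31_3 F236990 (iv F228482) (iv F232382)
def n52947 : Q := act 4 n51057
theorem D52947 : act 4 n51057 = n52947 := rfl
theorem F236994 : act 0 n52947 = n52760 := d3_1 D52947 F235816 (iv F228463)
theorem F236995 : act 1 n52947 = n51833 := d11_1 D52947 F236993 F236988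
theorem F236996 : act 2 n52947 = n51247 := d18_1 D52947 (iv D51247) (iv F228464)
theorem F236997 : act 3 n52947 = n52947 := d24_1 D52947 (iv D52947) (iv D51057) F219036 D51057
theorem F236998 : act 6 n52947 = n51060 := d31_2 (iv F228465) D52947 (iv D51060)
theorem F236999 : act 9 n52947 = n52947 := d34_2 F228466 D52947 (iv D52947)
def n52948 : Q := act 8 n51062
theorem D52948 : act 8 n51062 = n52948 := rfl
theorem F237000 : act 0 n52948 = n52706 := d7_1 D52948 (iv D52706) (iv F228498)
theorem F237001 : act 1 n52948 = n51064 := d15_1 D52948 (iv D51064) (iv F228499)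
theorem F237002 : act 3 n52948 = n51656 := d28_1 D52948 (iv D51656) F222114 D49901 (iv F228500)
theorem F237003 : act 4 n52948 = n51063 := d33_1 D52948 (iv D51063) (iv F228501)
theorem F237004 : act 5 n52948 = n52948 := d37_1 D52948 (iv D52948) F228502
theorem F237005 : act 6 n52948 = n51251 := d40_1 D52948 (iv D51251) (iv F228503)
theorem F237006 : act 7 n52948 = n51666 := d42_1 D52948 F231580 (iv F228504)
theorem F237007 : act 9 n52948 = n52948 := d44_2 D51062 D52948 (iv D52948) (iv D51062) F219079
def n52949 : Q := act 3 n51063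
theorem D52949 : act 3 n51063 = n52949 := rfl
theorem F237008 : act 0 n52949 = n51675 := d2_1 D52949 F231631 (iv F228505)
theorem F237009 : act 1 n52949 = n51065 := d10_1 D52949 (iv D51065) (iv F228506)
theorem F237010 : act 4 n52949 = n51467 := d24_2 F237003 D52949 F230718 (iv F231526) (iv F237002)
theorem F237011 : act 5 n52949 = n51067 := d25_2 (iv F228507) D52949 (iv D51067)
theorem F237012 : act 6 n52949 = n52131 := d26_2 (iv F228508) D52949 (iv D52131)
theorem F237013 : act 7 n52949 = n51472 := d27_2 (iv F228509) D52949 F230746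
theorem F237014 : act 8 n52949 = n51466 := d28_2 D51063 D52949 F230712 F222699 (iv F219082)
theorem F237015 : act 9 n52949 = n52949 := d29_2 F228510 D52949 (iv D52949)
theorem F237016 : act 2 n51701 = n52949 := d22_3 F237014 F230711 D51701
def n52950 : Q := act 3 n51069
theorem D52950 : act 3 n51069 = n52950 := rfl
theorem F237017 : act 0 n52950 = n51763 := d2_1 D52950 (iv D51763) (iv F228553)
theorem F237018 : act 1 n52950 = n51095 := d10_1 D52950 (iv D51095) (iv F228554)
theorem F237019 : act 2 n52950 = n51744 := d17_1 D52950 F231985 F222634 F223622 (iv F228555)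
theorem F237020 : act 5 n52950 = n51072 := d25_2 (iv F228557) D52950 (iv D51072)
theorem F237021 : act 6 n52950 = n51703 := d26_2 (iv F228558) D52950 (iv D51703)
theorem F237022 : act 7 n52950 = n51070 := d27_2 (iv F228559) D52950 (iv D51070)
theorem F237023 : act 8 n52950 = n51077 := d28_2 D51069 D52950 (iv D51077) (iv D49000) (iv F219150)
def n52951 : Q := act 9 n51069
theorem D52951 : act 9 n51069 = n52951 := rfl
theorem F237024 : act 0 n52951 = n51764 := d8_1 D52951 (iv D51764) (iv F228553)
theorem F237025 : act 1 n52951 = n51096 := d16_1 D52951 (iv D51096) (iv F228554)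
theorem F237026 : act 2 n52951 = n52003 := d23_1 D52951 (iv D52003) (iv F228555)
theorem F237027 : act 4 n52951 = n51709 := d34_1 D52951 (iv D51709) (iv F228556)
theorem F237028 : act 5 n52951 = n51073 := d38_1 D52951 (iv D51073) (iv F228557)
theorem F237029 : act 6 n52951 = n51704 := d41_1 D52951 (iv D51704) (iv F228558)
theorem F237030 : act 7 n52951 = n51071 := d43_1 D52951 (iv D51071) (iv F228559)
theorem F237031 : act 8 n52951 = n51846 := d44_1 D52951 (iv D51846) (iv D49786) (iv F219154) D51069
def n52952 : Q := act 4 n51070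
theorem D52952 : act 4 n51070 = n52952 := rfl
theorem F237032 : act 0 n52952 = n51765 := d3_1 D52952 (iv D51765) (iv F228560)
theorem F237033 : act 1 n52952 = n51098 := d11_1 D52952 (iv D51098) (iv F228561)
theorem F237034 : act 2 n52952 = n51735 := d18_1 D52952 F231940 (iv F228562)
theorem F237035 : act 3 n52952 = n52499 := d24_1 D52952 (iv D52499) (iv D50501) (iv F219158) D51070
theorem F237036 : act 5 n52952 = n51774 := d30_2 (iv F228563) D52952 (iv D51774) F222769 F219172
theorem F237037 : act 6 n52952 = n51732 := d31_2 (iv F228564) D52952 F231926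
theorem F237038 : act 8 n52952 = n51080 := d33_2 (iv F228565) D52952 (iv D51080)
def n52953 : Q := act 9 n51070
theorem D52953 : act 9 n51070 = n52953 := rfl
theorem F237039 : act 0 n52953 = n51766 := d8_1 D52953 (iv D51766) (iv F228560)
theorem F237040 : act 1 n52953 = n51099 := d16_1 D52953 (iv D51099) (iv F228561)
theorem F237041 : act 2 n52953 = n51745 := d23_1 D52953 (iv D51745) (iv F228562)
theorem F237042 : act 3 n52953 = n51071 := d29_1 D52953 (iv D51071) D51070
theorem F237043 : act 5 n52953 = n51074 := d38_1 D52953 (iv D51074) (iv F228563)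
theorem F237044 : act 6 n52953 = n51742 := d41_1 D52953 (iv D51742) (iv F228564)
def n52954 : Q := act 9 n51072
theorem D52954 : act 9 n51072 = n52954 := rfl
theorem F237045 : act 0 n52954 = n51767 := d8_1 D52954 (iv D51767) (iv F228573)
theorem F237046 : act 1 n52954 = n51100 := d16_1 D52954 (iv D51100) (iv F228574)
theorem F237047 : act 2 n52954 = n51748 := d23_1 D52954 (iv D51748) (iv F228575)
theorem F237048 : act 3 n52954 = n51073 := d29_1 D52954 (iv D51073) D51072
theorem F237049 : act 4 n52954 = n51778 := d34_1 D52954 (iv D51778) F228579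
theorem F237050 : act 6 n52954 = n52954 := d41_1 D52954 (iv D52954) F228576
theorem F237051 : act 7 n52954 = n51074 := d43_1 D52954 (iv D51074) (iv F228577)
def n52955 : Q := act 8 n51074
theorem D52955 : act 8 n51074 = n52955 := rfl
theorem F237052 : act 0 n52955 = n51768 := d7_1 D52955 (iv D51768) (iv F228587)
theorem F237053 : act 1 n52955 = n51104 := d15_1 D52955 (iv D51104) (iv F228588)
theorem F237054 : act 2 n52955 = n51749 := d22_1 D52955 (iv D51749) (iv F228589)
theorem F237055 : act 3 n52955 = n52234 := d28_1 D52955 (iv D52234) F224926 (iv F219178) (iv F228590)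
theorem F237056 : act 4 n52955 = n51780 := d33_1 D52955 (iv D51780) (iv F228591)
theorem F237057 : act 6 n52955 = n51075 := d40_1 D52955 (iv D51075) (iv F228592)
theorem F237058 : act 9 n52955 = n51087 := d44_2 D51074 D52955 (iv D51087) (iv D49007) (iv F219171)
def n52956 : Q := act 3 n51076
theorem D52956 : act 3 n51076 = n52956 := rfl
theorem F237059 : act 0 n52956 = n51769 := d2_1 D52956 (iv D51769) (iv F228601)
theorem F237060 : act 1 n52956 = n51107 := d10_1 D52956 (iv D51107) (iv F228602)
theorem F237061 : act 5 n52956 = n52956 := d25_2 F228605 D52956 (iv D52956)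
theorem F237062 : act 6 n52956 = n51077 := d26_2 (iv F228606) D52956 (iv D51077)
theorem F237063 : act 7 n52956 = n51415 := d27_2 (iv F228607) D52956 (iv D51415)
theorem F237064 : act 8 n52956 = n51703 := d28_2 D51076 D52956 (iv D51703) (iv D49650) (iv F219189)
def n52957 : Q := act 9 n51076
theorem D52957 : act 9 n51076 = n52957 := rfl
theorem F237065 : act 0 n52957 = n51770 := d8_1 D52957 (iv D51770) (iv F228601)
theorem F237066 : act 1 n52957 = n51108 := d16_1 D52957 (iv D51108) (iv F228602)
theorem F237067 : act 2 n52957 = n52957 := d23_1 D52957 (iv D52957) F228603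
theorem F237068 : act 4 n52957 = n51418 := d34_1 D52957 (iv D51418) (iv F228604)
theorem F237069 : act 5 n52957 = n52957 := d38_1 D52957 (iv D52957) F228605
theorem F237070 : act 6 n52957 = n51078 := d41_1 D52957 (iv D51078) (iv F228606)
theorem F237071 : act 7 n52957 = n51416 := d43_1 D52957 (iv D51416) (iv F228607)
theorem F237072 : act 8 n52957 = n51567 := d44_1 D52957 (iv D51567) (iv D49518) (iv F219193) D51076
def n52958 : Q := act 2 n51077
theorem D52958 : act 2 n51077 = n52958 := rfl
theorem F237073 : act 0 n52958 = n51771 := d1_1 D52958 (iv D51771) (iv F228608)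
theorem F237074 : act 1 n52958 = n51794 := d9_1 D52958 F232209 F226652 (iv F219368) (iv F228609)
theorem F237075 : act 3 n52958 = n52958 := d17_2 D51077 D52958 (iv D52958) (iv D51077) F219196
theorem F237076 : act 5 n52958 = n51082 := d19_2 (iv F228610) D52958 (iv D51082)
theorem F237077 : act 7 n52958 = n51079 := d21_2 (iv F228611) D52958 (iv D51079)
theorem F237078 : act 8 n52958 = n51744 := d22_2 F237023 D52958 (iv F237019)
def n52959 : Q := act 4 n51077
theorem D52959 : act 4 n51077 = n52959 := rfl
theorem F237079 : act 0 n52959 = n51772 := d3_1 D52959 (iv D51772) (iv F228608)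
theorem F237080 : act 1 n52959 = n51109 := d11_1 D52959 (iv D51109) (iv F228609)
theorem F237081 : act 3 n52959 = n52439 := d24_1 D52959 F234849 F225710 (iv F219197) D51077
theorem F237082 : act 5 n52959 = n52438 := d30_2 (iv F228610) D52959 F234847 F225780 (iv F219212)
theorem F237083 : act 7 n52959 = n51080 := d32_2 (iv F228611) D52959 (iv D51080)
def n52960 : Q := act 9 n51077
theorem D52960 : act 9 n51077 = n52960 := rfl
theorem F237084 : act 0 n52960 = n51773 := d8_1 D52960 (iv D51773) (iv F228608)
theorem F237085 : act 1 n52960 = n51110 := d16_1 D52960 (iv D51110) (iv F228609)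
theorem F237086 : act 3 n52960 = n51078 := d29_1 D52960 (iv D51078) D51077
theorem F237087 : act 5 n52960 = n51083 := d38_1 D52960 (iv D51083) (iv F228610)
theorem F237088 : act 7 n52960 = n51081 := d43_1 D52960 (iv D51081) (iv F228611)
def n52961 : Q := act 4 n51079
theorem D52961 : act 4 n51079 = n52961 := rfl
theorem F237089 : act 0 n52961 = n51774 := d3_1 D52961 (iv D51774) (iv F228619)
theorem F237090 : act 1 n52961 = n51791 := d11_1 D52961 F232196 (iv F228620)
theorem F237091 : act 2 n52961 = n51080 := d18_1 D52961 (iv D51080) D51079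
theorem F237092 : act 5 n52961 = n51765 := d30_2 (iv F228622) D52961 (iv D51765) F222729 F219227
theorem F237093 : act 6 n52961 = n51712 := d31_2 (iv F228623) D52961 F231824
theorem F237094 : act 8 n52961 = n51735 := d33_2 (iv F228624) D52961 F231940
def n52962 : Q := act 9 n51079
theorem D52962 : act 9 n51079 = n52962 := rfl
theorem F237095 : act 0 n52962 = n51775 := d8_1 D52962 (iv D51775) (iv F228619)
theorem F237096 : act 1 n52962 = n51797 := d16_1 D52962 (iv D51797) (iv F228620)
theorem F237097 : act 2 n52962 = n51081 := d23_1 D52962 (iv D51081) D51079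
theorem F237098 : act 3 n52962 = n52962 := d29_1 D52962 (iv D52962) F228621
theorem F237099 : act 5 n52962 = n51084 := d38_1 D52962 (iv D51084) (iv F228622)
theorem F237100 : act 6 n52962 = n51718 := d41_1 D52962 (iv D51718) (iv F228623)
def n52963 : Q := act 5 n51080
theorem D52963 : act 5 n51080 = n52963 := rfl
theorem F237101 : act 0 n52963 = n51735 := d4_1 D52963 F231941 (iv F228625)
theorem F237102 : act 1 n52963 = n51113 := d12_1 D52963 (iv D51113) (iv F228626)
theorem F237103 : act 2 n52963 = n51765 := d19_1 D52963 (iv F237092) F237091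
theorem F237104 : act 3 n52963 = n52431 := d25_1 D52963 (iv F236279) F236278
theorem F237105 : act 4 n52963 = n51085 := d30_1 D52963 (iv D51085) (iv D49006) (iv F219202) D51080
theorem F237106 : act 6 n52963 = n51692 := d35_2 (iv F228627) D52963 (iv D51692) F222369 (iv F224520)
theorem F237107 : act 7 n52963 = n52438 := d36_2 F237083 D52963 (iv F237082)
theorem F237108 : act 8 n52963 = n51774 := d37_2 F237038 D52963 (iv F237036)
def n52964 : Q := act 9 n51080
theorem D52964 : act 9 n51080 = n52964 := rfl
theorem F237109 : act 0 n52964 = n51776 := d8_1 D52964 (iv D51776) (iv F228625)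
theorem F237110 : act 1 n52964 = n51114 := d16_1 D52964 (iv D51114) (iv F228626)
theorem F237111 : act 4 n52964 = n51081 := d34_1 D52964 (iv D51081) D51080
theorem F237112 : act 6 n52964 = n52135 := d41_1 D52964 (iv D52135) (iv F228627)
def n52965 : Q := act 8 n51081
theorem D52965 : act 8 n51081 = n52965 := rfl
theorem F237113 : act 0 n52965 = n51777 := d7_1 D52965 (iv D51777) (iv F228628)
theorem F237114 : act 1 n52965 = n51115 := d15_1 D52965 (iv D51115) (iv F228629)
theorem F237115 : act 3 n52965 = n52287 := d28_1 D52965 (iv D52287) F225058 (iv F219209) (iv F228630)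
theorem F237116 : act 5 n52965 = n51087 := d37_1 D52965 (iv D51087) (iv F228631)
theorem F237117 : act 6 n52965 = n52136 := d40_1 D52965 (iv D52136) (iv F228632)
def n52966 : Q := act 9 n51082
theorem D52966 : act 9 n51082 = n52966 := rfl
theorem F237118 : act 0 n52966 = n51778 := d8_1 D52966 (iv D51778) (iv F228633)
theorem F237119 : act 1 n52966 = n51795 := d16_1 D52966 (iv D51795) (iv F228634)
theorem F237120 : act 2 n52966 = n51083 := d23_1 D52966 (iv D51083) D51082
theorem F237121 : act 3 n52966 = n52966 := d29_1 D52966 (iv D52966) F228635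
theorem F237122 : act 4 n52966 = n51767 := d34_1 D52966 (iv D51767) (iv F228636)
theorem F237123 : act 6 n52966 = n52966 := d41_1 D52966 (iv D52966) F228637
theorem F237124 : act 7 n52966 = n51084 := d43_1 D52966 (iv D51084) (iv F228638)
def n52967 : Q := act 8 n51083
theorem D52967 : act 8 n51083 = n52967 := rfl
theorem F237125 : act 0 n52967 = n51779 := d7_1 D52967 (iv D51779) (iv F228640)
theorem F237126 : act 1 n52967 = n51116 := d15_1 D52967 (iv D51116) (iv F228641)
theorem F237127 : act 3 n52967 = n52296 := d28_1 D52967 (iv D52296) F225107 (iv F219221) (iv F228642)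
theorem F237128 : act 4 n52967 = n52722 := d33_1 D52967 (iv D52722) (iv F228643)
theorem F237129 : act 6 n52967 = n52967 := d40_1 D52967 (iv D52967) F228644
theorem F237130 : act 7 n52967 = n51087 := d42_1 D52967 (iv D51087) (iv F228645)
def n52968 : Q := act 8 n51084
theorem D52968 : act 8 n51084 = n52968 := rfl
theorem F237131 : act 0 n52968 = n51780 := d7_1 D52968 (iv D51780) (iv F228646)
theorem F237132 : act 1 n52968 = n51798 := d15_1 D52968 (iv D51798) (iv F228647)
theorem F237133 : act 2 n52968 = n51087 := d22_1 D52968 (iv D51087) (iv F228648)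
theorem F237134 : act 4 n52968 = n51768 := d33_1 D52968 (iv D51768) (iv F228650)
theorem F237135 : act 6 n52968 = n51088 := d40_1 D52968 (iv D51088) (iv F228651)
theorem F237136 : act 9 n52968 = n51749 := d44_2 D51084 D52968 (iv D51749) (iv D49689) (iv F219226)
def n52969 : Q := act 9 n51085
theorem D52969 : act 9 n51085 = n52969 := rfl
theorem F237137 : act 0 n52969 = n51745 := d8_1 D52969 (iv D51745) (iv F228652)
theorem F237138 : act 1 n52969 = n51119 := d16_1 D52969 (iv D51119) (iv F228653)
theorem F237139 : act 2 n52969 = n51766 := d23_1 D52969 (iv D51766) (iv F228654)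
theorem F237140 : act 3 n52969 = n51090 := d29_1 D52969 (iv D51090) (iv F228655)
theorem F237141 : act 5 n52969 = n51086 := d38_1 D52969 (iv D51086) D51085
theorem F237142 : act 6 n52969 = n51697 := d41_1 D52969 (iv D51697) (iv F228656)
theorem F237143 : act 7 n52969 = n52477 := d43_1 D52969 (iv D52477) (iv F228657)
def n52970 : Q := act 8 n51086
theorem D52970 : act 8 n51086 = n52970 := rfl
theorem F237144 : act 0 n52970 = n51749 := d7_1 D52970 (iv D51749) (iv F228659)
theorem F237145 : act 1 n52970 = n51120 := d15_1 D52970 (iv D51120) (iv F228660)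
theorem F237146 : act 2 n52970 = n51768 := d22_1 D52970 (iv D51768) (iv F228661)
theorem F237147 : act 4 n52970 = n51087 := d33_1 D52970 (iv D51087) (iv F228663)
theorem F237148 : act 6 n52970 = n51089 := d40_1 D52970 (iv D51089) (iv F228664)
theorem F237149 : act 7 n52970 = n52722 := d42_1 D52970 (iv D52722) (iv F228665)
theorem F237150 : act 9 n52970 = n51780 := d44_2 D51086 D52970 (iv D51780) (iv D49726) (iv F219234)
def n52971 : Q := act 3 n51088
theorem D52971 : act 3 n51088 = n52971 := rfl
theorem F237151 : act 0 n52971 = n51781 := d2_1 D52971 (iv D51781) (iv F228670)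
theorem F237152 : act 1 n52971 = n51799 := d10_1 D52971 (iv D51799) (iv F228671)
theorem F237153 : act 2 n52971 = n52295 := d17_1 D52971 (iv D52295) F225099 (iv F219255) (iv F228672)
theorem F237154 : act 4 n52971 = n52542 := d24_2 (iv F228673) D52971 (iv D52542) F226028 (iv F222752)
theorem F237155 : act 5 n52971 = n51720 := d25_2 (iv F228674) D52971 (iv D51720)
theorem F237156 : act 7 n52971 = n52971 := d27_2 F228675 D52971 (iv D52971)
theorem F237157 : act 8 n52971 = n52971 := d28_2 D51088 D52971 (iv D52971) (iv D51088) F219242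
theorem F237158 : act 9 n52971 = n51750 := d29_2 (iv F228676) D52971 (iv D51750)
def n52972 : Q := act 3 n51089
theorem D52972 : act 3 n51089 = n52972 := rfl
theorem F237159 : act 0 n52972 = n51750 := d2_1 D52972 (iv D51750) (iv F228677)
theorem F237160 : act 1 n52972 = n51125 := d10_1 D52972 (iv D51125) (iv F228678)
theorem F237161 : act 2 n52972 = n52120 := d17_1 D52972 (iv D52120) F224400 (iv F222752) (iv F228679)
theorem F237162 : act 4 n52972 = n51216 := d24_2 (iv F228680) D52972 (iv D51216) F219792 (iv F219255)
theorem F237163 : act 5 n52972 = n51699 := d25_2 (iv F228681) D52972 (iv D51699)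
theorem F237164 : act 7 n52972 = n52972 := d27_2 F228682 D52972 (iv D52972)
theorem F237165 : act 8 n52972 = n51092 := d28_2 D51089 D52972 (iv D51092) (iv D49015) (iv F219249)
theorem F237166 : act 9 n52972 = n51781 := d29_2 (iv F228683) D52972 (iv D51781)
def n52973 : Q := act 8 n51090
theorem D52973 : act 8 n51090 = n52973 := rfl
theorem F237167 : act 0 n52973 = n51756 := d7_1 D52973 (iv D51756) (iv F228684)
theorem F237168 : act 1 n52973 = n51128 := d15_1 D52973 (iv D51128) (iv F228685)
theorem F237169 : act 2 n52973 = n52131 := d22_1 D52973 F233722 (iv F228686)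
theorem F237170 : act 4 n52973 = n52474 := d33_1 D52973 (iv D52474) (iv F228687)
theorem F237171 : act 5 n52973 = n51091 := d37_1 D52973 (iv D51091) (iv F228688)
theorem F237172 : act 6 n52973 = n51701 := d40_1 D52973 (iv D51701) (iv F228689)
theorem F237173 : act 7 n52973 = n52478 := d42_1 D52973 (iv D52478) (iv F228690)
theorem F237174 : act 9 n52973 = n52973 := d44_2 D51090 D52973 (iv D52973) (iv D51090) F219264
def n52974 : Q := act 3 n51091
theorem D52974 : act 3 n51091 = n52974 := rfl
theorem F237175 : act 0 n52974 = n51760 := d2_1 D52974 (iv D51760) (iv F228691)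
theorem F237176 : act 1 n52974 = n51129 := d10_1 D52974 (iv D51129) (iv F228692)
theorem F237177 : act 2 n52974 = n52128 := d17_1 D52974 (iv D52128) F224442 D50102 (iv F228693)
theorem F237178 : act 4 n52974 = n51227 := d24_2 (iv F228694) D52974 (iv D51227) F219834 (iv F219274)
theorem F237179 : act 6 n52974 = n51092 := d26_2 (iv F228695) D52974 (iv D51092)
theorem F237180 : act 7 n52974 = n52723 := d27_2 (iv F228696) D52974 (iv D52723)
theorem F237181 : act 9 n52974 = n52974 := d29_2 F228697 D52974 (iv D52974)
def n52975 : Q := act 4 n51093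
theorem D52975 : act 4 n51093 = n52975 := rfl
theorem F237182 : act 0 n52975 = n51139 := d3_1 D52975 (iv D51139) (iv F228705)
theorem F237183 : act 1 n52975 = n52499 := d11_1 D52975 (iv D52499) (iv F228706)
theorem F237184 : act 2 n52975 = n52255 := d18_1 D52975 F234249 F228710
theorem F237185 : act 3 n52975 = n51098 := d24_1 D52975 (iv D51098) (iv D49018) (iv F219297) D51093
theorem F237186 : act 6 n52975 = n52100 := d31_2 (iv F228708) D52975 (iv D52100)
theorem F237187 : act 8 n52975 = n52070 := d33_2 (iv F228709) D52975 F233448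
def n52976 : Q := act 9 n51093
theorem D52976 : act 9 n51093 = n52976 := rfl
theorem F237188 : act 0 n52976 = n51140 := d8_1 D52976 (iv D51140) (iv F228705)
theorem F237189 : act 1 n52976 = n52500 := d16_1 D52976 (iv D52500) (iv F228706)
theorem F237190 : act 2 n52976 = n52308 := d23_1 D52976 (iv D52308) F228710
theorem F237191 : act 3 n52976 = n51094 := d29_1 D52976 (iv D51094) D51093
theorem F237192 : act 5 n52976 = n52976 := d38_1 D52976 (iv D52976) F228707
theorem F237193 : act 6 n52976 = n52101 := d41_1 D52976 (iv D52101) (iv F228708)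
def n52977 : Q := act 4 n51095
theorem D52977 : act 4 n51095 = n52977 := rfl
theorem F237194 : act 0 n52977 = n51144 := d3_1 D52977 (iv D51144) (iv F228718)
theorem F237195 : act 2 n52977 = n52657 := d18_1 D52977 F235469 F228722
theorem F237196 : act 5 n52977 = n52442 := d30_2 (iv F228719) D52977 F234855 F225791 F219318
theorem F237197 : act 7 n52977 = n51098 := d32_2 (iv F228720) D52977 (iv D51098)
theorem F237198 : act 8 n52977 = n51109 := d33_2 (iv F228721) D52977 (iv D51109)
def n52978 : Q := act 9 n51095
theorem D52978 : act 9 n51095 = n52978 := rfl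
theorem F237199 : act 0 n52978 = n51145 := d8_1 D52978 (iv D51145) (iv F228718)
theorem F237200 : act 2 n52978 = n52745 := d23_1 D52978 (iv D52745) F228722
theorem F237201 : act 3 n52978 = n51096 := d29_1 D52978 (iv D51096) D51095
theorem F237202 : act 5 n52978 = n51100 := d38_1 D52978 (iv D51100) (iv F228719)
theorem F237203 : act 7 n52978 = n51099 := d43_1 D52978 (iv D51099) (iv F228720)
def n52979 : Q := act 4 n51097
theorem D52979 : act 4 n51097 = n52979 := rfl
theorem F237204 : act 0 n52979 = n51147 := d3_1 D52979 (iv D51147) (iv F228728)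
theorem F237205 : act 1 n52979 = n51811 := d11_1 D52979 F232288 (iv F228729)
theorem F237206 : act 2 n52979 = n51098 := d18_1 D52979 (iv D51098) D51097
theorem F237207 : act 5 n52979 = n51808 := d30_2 (iv F228731) D52979 (iv D51808) F222888 F219331
theorem F237208 : act 6 n52979 = n52138 := d31_2 (iv F228732) D52979 (iv D52138)
theorem F237209 : act 7 n52979 = n52657 := d32_2 (iv F228733) D52979 F235469
theorem F237210 : act 8 n52979 = n51111 := d33_2 (iv F228734) D52979 (iv D51111)
def n52980 : Q := act 9 n51097
theorem D52980 : act 9 n51097 = n52980 := rfl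
theorem F237211 : act 0 n52980 = n51148 := d8_1 D52980 (iv D51148) (iv F228728)
theorem F237212 : act 1 n52980 = n51823 := d16_1 D52980 (iv D51823) (iv F228729)
theorem F237213 : act 2 n52980 = n51099 := d23_1 D52980 (iv D51099) D51097
theorem F237214 : act 3 n52980 = n52980 := d29_1 D52980 (iv D52980) F228730
theorem F237215 : act 5 n52980 = n51101 := d38_1 D52980 (iv D51101) (iv F228731)
theorem F237216 : act 6 n52980 = n52139 := d41_1 D52980 (iv D52139) (iv F228732)
theorem F237217 : act 7 n52980 = n52745 := d43_1 D52980 (iv D52745) (iv F228733)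
def n52981 : Q := act 5 n51098
theorem D52981 : act 5 n51098 = n52981 := rfl
theorem F237218 : act 0 n52981 = n51149 := d4_1 D52981 (iv D51149) (iv F228735)
theorem F237219 : act 1 n52981 = n51774 := d12_1 D52981 (iv F237036) F237033
theorem F237220 : act 2 n52981 = n51808 := d19_1 D52981 (iv F237207) F237206
theorem F237221 : act 4 n52981 = n51102 := d30_1 D52981 (iv D51102) (iv D49023) (iv F219305) D51098
theorem F237222 : act 6 n52981 = n52522 := d35_2 (iv F228736) D52981 (iv D52522) (iv F231906) F231905
theorem F237223 : act 7 n52981 = n52442 := d36_2 F237197 D52981 (iv F237196)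
theorem F237224 : act 8 n52981 = n51113 := d37_2 (iv F228737) D52981 (iv D51113)
def n52982 : Q := act 9 n51098
theorem D52982 : act 9 n51098 = n52982 := rfl
theorem F237225 : act 0 n52982 = n51150 := d8_1 D52982 (iv D51150) (iv F228735)
theorem F237226 : act 4 n52982 = n51099 := d34_1 D52982 (iv D51099) D51098
theorem F237227 : act 6 n52982 = n52140 := d41_1 D52982 (iv D52140) (iv F228736)
def n52983 : Q := act 8 n51099
theorem D52983 : act 8 n51099 = n52983 := rfl
theorem F237228 : act 0 n52983 = n51151 := d7_1 D52983 (iv D51151) (iv F228738)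
theorem F237229 : act 3 n52983 = n52624 := d28_1 D52983 (iv D52624) F226325 (iv F219312) (iv F228739)
theorem F237230 : act 5 n52983 = n51104 := d37_1 D52983 (iv D51104) (iv F228740)
theorem F237231 : act 6 n52983 = n52141 := d40_1 D52983 (iv D52141) (iv F228741)
theorem F237232 : act 9 n52983 = n51115 := d44_2 D51099 D52983 (iv D51115) (iv D49033) (iv F219307)
def n52984 : Q := act 8 n51100
theorem D52984 : act 8 n51100 = n52984 := rfl
theorem F237233 : act 0 n52984 = n51156 := d7_1 D52984 (iv D51156) (iv F228742)
theorem F237234 : act 2 n52984 = n52747 := d22_1 D52984 (iv D52747) (iv F228743)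
theorem F237235 : act 3 n52984 = n52629 := d28_1 D52984 (iv D52629) F226351 (iv F219324) (iv F228744)
theorem F237236 : act 4 n52984 = n52724 := d33_1 D52984 (iv D52724) (iv F228745)
theorem F237237 : act 6 n52984 = n52984 := d40_1 D52984 (iv D52984) F228746
theorem F237238 : act 7 n52984 = n51104 := d42_1 D52984 (iv D51104) (iv F228747)
theorem F237239 : act 9 n52984 = n51116 := d44_2 D51100 D52984 (iv D51116) (iv D49034) (iv F219316)
def n52985 : Q := act 8 n51101
theorem D52985 : act 8 n51101 = n52985 := rfl
theorem F237240 : act 0 n52985 = n51160 := d7_1 D52985 (iv D51160) (iv F228748)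
theorem F237241 : act 1 n52985 = n51824 := d15_1 D52985 (iv D51824) (iv F228749)
theorem F237242 : act 2 n52985 = n51104 := d22_1 D52985 (iv D51104) (iv F228750)
theorem F237243 : act 4 n52985 = n51822 := d33_1 D52985 (iv D51822) (iv F228752)
theorem F237244 : act 6 n52985 = n51105 := d40_1 D52985 (iv D51105) (iv F228753)
theorem F237245 : act 7 n52985 = n52747 := d42_1 D52985 (iv D52747) (iv F228754)
theorem F237246 : act 9 n52985 = n51117 := d44_2 D51101 D52985 (iv D51117) (iv D49035) (iv F219330)
def n52986 : Q := act 9 n51102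
theorem D52986 : act 9 n51102 = n52986 := rfl
theorem F237247 : act 0 n52986 = n51162 := d8_1 D52986 (iv D51162) (iv F228755)
theorem F237248 : act 1 n52986 = n51775 := d16_1 D52986 (iv D51775) (iv F228756)
theorem F237249 : act 2 n52986 = n51809 := d23_1 D52986 (iv D51809) (iv F228757)
theorem F237250 : act 3 n52986 = n52986 := d29_1 D52986 (iv D52986) F228758
theorem F237251 : act 5 n52986 = n51103 := d38_1 D52986 (iv D51103) D51102
theorem F237252 : act 6 n52986 = n52538 := d41_1 D52986 (iv D52538) (iv F228759)
theorem F237253 : act 7 n52986 = n52480 := d43_1 D52986 (iv D52480) (iv F228760)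
def n52987 : Q := act 8 n51103
theorem D52987 : act 8 n51103 = n52987 := rfl
theorem F237254 : act 0 n52987 = n51163 := d7_1 D52987 (iv D51163) (iv F228762)
theorem F237255 : act 1 n52987 = n51780 := d15_1 D52987 (iv D51780) (iv F228763)
theorem F237256 : act 2 n52987 = n51822 := d22_1 D52987 (iv D51822) (iv F228764)
theorem F237257 : act 4 n52987 = n51104 := d33_1 D52987 (iv D51104) (iv F228766)
theorem F237258 : act 6 n52987 = n51106 := d40_1 D52987 (iv D51106) (iv F228767)
theorem F237259 : act 7 n52987 = n52724 := d42_1 D52987 (iv D52724) (iv F228768)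
theorem F237260 : act 9 n52987 = n51120 := d44_2 D51103 D52987 (iv D51120) (iv D49037) (iv F219338)
def n52988 : Q := act 3 n51105
theorem D52988 : act 3 n51105 = n52988 := rfl
theorem F237261 : act 0 n52988 = n51166 := d2_1 D52988 (iv D51166) (iv F228773)
theorem F237262 : act 1 n52988 = n51827 := d10_1 D52988 (iv D51827) (iv F228774)
theorem F237263 : act 2 n52988 = n52628 := d17_1 D52988 (iv D52628) F226344 (iv F219357) (iv F228775)
theorem F237264 : act 4 n52988 = n52625 := d24_2 (iv F228776) D52988 (iv D52625) F226334 (iv F222958)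
theorem F237265 : act 5 n52988 = n52145 := d25_2 (iv F228777) D52988 (iv D52145)
theorem F237266 : act 7 n52988 = n52988 := d27_2 F228778 D52988 (iv D52988)
theorem F237267 : act 8 n52988 = n52988 := d28_2 D51105 D52988 (iv D52988) (iv D51105) F219345
theorem F237268 : act 9 n52988 = n51121 := d29_2 (iv F228779) D52988 (iv D51121)
def n52989 : Q := act 3 n51106
theorem D52989 : act 3 n51106 = n52989 := rfl
theorem F237269 : act 0 n52989 = n51170 := d2_1 D52989 (iv D51170) (iv F228780)
theorem F237270 : act 1 n52989 = n51781 := d10_1 D52989 (iv D51781) (iv F228781)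
theorem F237271 : act 2 n52989 = n52232 := d17_1 D52989 (iv D52232) F224909 (iv F222958) (iv F228782)
theorem F237272 : act 4 n52989 = n51895 := d24_2 (iv F228783) D52989 (iv D51895) F223206 (iv F219357)
theorem F237273 : act 5 n52989 = n52542 := d25_2 (iv F228784) D52989 (iv D52542)
theorem F237274 : act 7 n52989 = n52989 := d27_2 F228785 D52989 (iv D52989)
theorem F237275 : act 8 n52989 = n52989 := d28_2 D51106 D52989 (iv D52989) (iv D51106) F219352
theorem F237276 : act 9 n52989 = n51125 := d29_2 (iv F228786) D52989 (iv D51125)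
def n52990 : Q := act 4 n51107
theorem D52990 : act 4 n51107 = n52990 := rfl
theorem F237277 : act 0 n52990 = n51171 := d3_1 D52990 (iv D51171) (iv F228787)
theorem F237278 : act 2 n52990 = n52656 := d18_1 D52990 F235468 (iv F228788)
theorem F237279 : act 3 n52990 = n52444 := d24_1 D52990 F234860 F225718 (iv F219363) D51107
theorem F237280 : act 6 n52990 = n51109 := d31_2 (iv F228790) D52990 (iv D51109)
theorem F237281 : act 7 n52990 = n52147 := d32_2 (iv F228791) D52990 (iv D52147)
def n52991 : Q := act 9 n51107
theorem D52991 : act 9 n51107 = n52991 := rfl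
theorem F237282 : act 0 n52991 = n51172 := d8_1 D52991 (iv D51172) (iv F228787)
theorem F237283 : act 2 n52991 = n52744 := d23_1 D52991 (iv D52744) (iv F228788)
theorem F237284 : act 3 n52991 = n51108 := d29_1 D52991 (iv D51108) D51107
theorem F237285 : act 5 n52991 = n52991 := d38_1 D52991 (iv D52991) F228789
theorem F237286 : act 6 n52991 = n51110 := d41_1 D52991 (iv D51110) (iv F228790)
theorem F237287 : act 7 n52991 = n52148 := d43_1 D52991 (iv D52148) (iv F228791)
def n52992 : Q := act 9 n51109
theorem D52992 : act 9 n51109 = n52992 := rfl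
theorem F237288 : act 0 n52992 = n51177 := d8_1 D52992 (iv D51177) (iv F228799)
theorem F237289 : act 2 n52992 = n52658 := d23_1 D52992 (iv D52658) (iv F228800)
theorem F237290 : act 3 n52992 = n52445 := d29_1 D52992 (iv D52445) (iv F228801)
theorem F237291 : act 4 n52992 = n51110 := d34_1 D52992 (iv D51110) D51109
theorem F237292 : act 5 n52992 = n52443 := d38_1 D52992 (iv D52443) (iv F228802)
theorem F237293 : act 7 n52992 = n51114 := d43_1 D52992 (iv D51114) (iv F228803)
def n52993 : Q := act 8 n51110
theorem D52993 : act 8 n51110 = n52993 := rfl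
theorem F237294 : act 0 n52993 = n51178 := d7_1 D52993 (iv D51178) (iv F228804)
theorem F237295 : act 2 n52993 = n52746 := d22_1 D52993 (iv D52746) (iv F228805)
theorem F237296 : act 3 n52993 = n52690 := d28_1 D52993 (iv D52690) F226498 (iv F219376) (iv F228806)
theorem F237297 : act 5 n52993 = n51116 := d37_1 D52993 (iv D51116) (iv F228807)
theorem F237298 : act 7 n52993 = n51115 := d42_1 D52993 (iv D51115) (iv F228808)
def n52994 : Q := act 9 n51111
theorem D52994 : act 9 n51111 = n52994 := rfl
theorem F237299 : act 0 n52994 = n51184 := d8_1 D52994 (iv D51184) (iv F228809)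
theorem F237300 : act 1 n52994 = n52698 := d16_1 D52994 F235578 (iv F228810)
theorem F237301 : act 2 n52994 = n51114 := d23_1 D52994 (iv D51114) (iv F228811)
theorem F237302 : act 3 n52994 = n52640 := d29_1 D52994 (iv D52640) (iv F228812)
theorem F237303 : act 4 n52994 = n51112 := d34_1 D52994 (iv D51112) D51111
theorem F237304 : act 5 n52994 = n52639 := d38_1 D52994 (iv D52639) (iv F228813)
theorem F237305 : act 6 n52994 = n52159 := d41_1 D52994 (iv D52159) (iv F228814)
theorem F237306 : act 7 n52994 = n52658 := d43_1 D52994 (iv D52658) (iv F228815)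
def n52995 : Q := act 8 n51112
theorem D52995 : act 8 n51112 = n52995 := rfl
theorem F237307 : act 0 n52995 = n51185 := d7_1 D52995 (iv D51185) (iv F228816)
theorem F237308 : act 1 n52995 = n52689 := d15_1 D52995 F235553 (iv F228817)
theorem F237309 : act 2 n52995 = n51115 := d22_1 D52995 (iv D51115) (iv F228818)
theorem F237310 : act 5 n52995 = n51117 := d37_1 D52995 (iv D51117) (iv F228820)
theorem F237311 : act 6 n52995 = n52160 := d40_1 D52995 (iv D52160) (iv F228821)
theorem F237312 : act 7 n52995 = n52746 := d42_1 D52995 (iv D52746) (iv F228822)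
def n52996 : Q := act 6 n51113
theorem D52996 : act 6 n51113 = n52996 := rfl
theorem F237313 : act 0 n52996 = n51186 := d5_1 D52996 (iv D51186) (iv F228823)
theorem F237314 : act 1 n52996 = n51692 := d13_1 D52996 (iv F237106) F237102
theorem F237315 : act 2 n52996 = n52027 := d20_1 D52996 F233229 (iv F228824)
theorem F237316 : act 3 n52996 = n52426 := d26_1 D52996 F234819 (iv F228825)
theorem F237317 : act 4 n52996 = n51118 := d31_1 D52996 (iv D51118) (iv F228826)
theorem F237318 : act 5 n52996 = n51681 := d35_1 D52996 F231670 (iv D50126) (iv F219384) D51113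
theorem F237319 : act 8 n52996 = n52522 := d40_2 F237224 D52996 (iv F237222)
def n52997 : Q := act 9 n51113
theorem D52997 : act 9 n51113 = n52997 := rfl
theorem F237320 : act 0 n52997 = n51187 := d8_1 D52997 (iv D51187) (iv F228823)
theorem F237321 : act 2 n52997 = n52639 := d23_1 D52997 (iv D52639) (iv F228824)
theorem F237322 : act 3 n52997 = n52433 := d29_1 D52997 (iv D52433) (iv F228825)
theorem F237323 : act 4 n52997 = n51119 := d34_1 D52997 (iv D51119) (iv F228826)
theorem F237324 : act 5 n52997 = n51114 := d38_1 D52997 (iv D51114) D51113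
theorem F237325 : act 7 n52997 = n52443 := d43_1 D52997 (iv D52443) (iv F228827)
def n52998 : Q := act 8 n51114
theorem D52998 : act 8 n51114 = n52998 := rfl
theorem F237326 : act 0 n52998 = n51188 := d7_1 D52998 (iv D51188) (iv F228828)
theorem F237327 : act 4 n52998 = n51115 := d33_1 D52998 (iv D51115) (iv F228829)
theorem F237328 : act 6 n52998 = n52162 := d40_1 D52998 (iv D52162) (iv F228830)
def n52999 : Q := act 3 n51117
theorem D52999 : act 3 n51117 = n52999 := rfl
theorem F237329 : act 0 n52999 = n51202 := d2_1 D52999 (iv D51202) (iv F228841)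
theorem F237330 : act 1 n52999 = n52688 := d10_1 D52999 F235550 (iv F228842)
theorem F237331 : act 2 n52999 = n52696 := d17_1 D52999 (iv D52696) F226523 (iv F219413) (iv F228843)
theorem F237332 : act 4 n52999 = n52684 := d24_2 (iv F228844) D52999 (iv D52684) F226479 D50690
theorem F237333 : act 6 n52999 = n51121 := d26_2 (iv F228845) D52999 (iv D51121)
theorem F237334 : act 7 n52999 = n52748 := d27_2 (iv F228846) D52999 (iv D52748)
theorem F237335 : act 8 n52999 = n51135 := d28_2 D51117 D52999 (iv D51135) (iv D49055) (iv F219398)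
def n53000 : Q := act 7 n51118
theorem D53000 : act 7 n51118 = n53000 := rfl
theorem F237336 : act 0 n53000 = n51203 := d6_1 D53000 (iv D51203) (iv F228847)
theorem F237337 : act 1 n53000 = n51469 := d14_1 D53000 F230732 (iv F228848)
theorem F237338 : act 2 n53000 = n51982 := d21_1 D53000 F232966 (iv F228849)
theorem F237339 : act 3 n53000 = n51126 := d27_1 D53000 (iv D51126) (iv F228850)
theorem F237340 : act 5 n53000 = n51122 := d36_1 D53000 (iv D51122) (iv F228851)
theorem F237341 : act 6 n53000 = n51653 := d39_1 D53000 F231514 F222140 (iv F219405) D51118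
theorem F237342 : act 8 n53000 = n52531 := d42_2 (iv F228852) D53000 F235096
def n53001 : Q := act 9 n51118
theorem D53001 : act 9 n51118 = n53001 := rfl
theorem F237343 : act 0 n53001 = n51204 := d8_1 D53001 (iv D51204) (iv F228847)
theorem F237344 : act 1 n53001 = n51697 := d16_1 D53001 (iv D51697) (iv F228848)
theorem F237345 : act 2 n53001 = n51993 := d23_1 D53001 F233032 (iv F228849)
theorem F237346 : act 3 n53001 = n51127 := d29_1 D53001 (iv D51127) (iv F228850)
theorem F237347 : act 5 n53001 = n51123 := d38_1 D53001 (iv D51123) (iv F228851)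
theorem F237348 : act 6 n53001 = n51119 := d41_1 D53001 (iv D51119) D51118
def n53002 : Q := act 8 n51119
theorem D53002 : act 8 n51119 = n53002 := rfl
theorem F237349 : act 0 n53002 = n51205 := d7_1 D53002 (iv D51205) (iv F228853)
theorem F237350 : act 2 n53002 = n52655 := d22_1 D53002 F235466 (iv F228854)
theorem F237351 : act 5 n53002 = n51120 := d37_1 D53002 (iv D51120) (iv F228856)
theorem F237352 : act 7 n53002 = n52481 := d42_1 D53002 (iv D52481) (iv F228857)
def n53003 : Q := act 3 n51120
theorem D53003 : act 3 n51120 = n53003 := rfl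
theorem F237353 : act 0 n53003 = n51206 := d2_1 D53003 (iv D51206) (iv F228858)
theorem F237354 : act 2 n53003 = n52280 := d17_1 D53003 (iv D52280) F225041 D50690 (iv F228859)
theorem F237355 : act 4 n53003 = n51966 := d24_2 (iv F228860) D53003 (iv D51966) F223376 (iv F219413)
theorem F237356 : act 6 n53003 = n51125 := d26_2 (iv F228861) D53003 (iv D51125)
theorem F237357 : act 7 n53003 = n52725 := d27_2 (iv F228862) D53003 (iv D52725)
theorem F237358 : act 8 n53003 = n51129 := d28_2 D51120 D53003 (iv D51129) (iv D49045) (iv F219408)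
def n53004 : Q := act 9 n51122
theorem D53004 : act 9 n51122 = n53004 := rfl
theorem F237359 : act 0 n53004 = n51214 := d8_1 D53004 (iv D51214) (iv F228870)
theorem F237360 : act 1 n53004 = n51695 := d16_1 D53004 (iv D51695) (iv F228871)
theorem F237361 : act 2 n53004 = n52000 := d23_1 D53004 F233063 (iv F228872)
theorem F237362 : act 3 n53004 = n51130 := d29_1 D53004 (iv D51130) (iv F228873)
theorem F237363 : act 4 n53004 = n51684 := d34_1 D53004 (iv D51684) (iv F228874)
theorem F237364 : act 6 n53004 = n53004 := d41_1 D53004 (iv D53004) F228875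
theorem F237365 : act 7 n53004 = n51123 := d43_1 D53004 (iv D51123) D51122
def n53005 : Q := act 8 n51123
theorem D53005 : act 8 n51123 = n53005 := rfl
theorem F237366 : act 0 n53005 = n51215 := d7_1 D53005 (iv D51215) (iv F228877)
theorem F237367 : act 1 n53005 = n51698 := d15_1 D53005 (iv D51698) (iv F228878)
theorem F237368 : act 2 n53005 = n51946 := d22_1 D53005 F232823 (iv F228879)
theorem F237369 : act 4 n53005 = n51686 := d33_1 D53005 (iv D51686) (iv F228881)
theorem F237370 : act 6 n53005 = n51124 := d40_1 D53005 (iv D51124) (iv F228882)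
theorem F237371 : act 9 n53005 = n52539 := d44_2 D51123 D53005 (iv D52539) (iv D50538) (iv F219426)
def n53006 : Q := act 3 n51124
theorem D53006 : act 3 n51124 = n53006 := rfl
theorem F237372 : act 0 n53006 = n51216 := d2_1 D53006 (iv D51216) (iv F228883)
theorem F237373 : act 1 n53006 = n51699 := d10_1 D53006 (iv D51699) (iv F228884)
theorem F237374 : act 2 n53006 = n51209 := d17_1 D53006 (iv D51209) F219759 D49868 (iv F228885)
theorem F237375 : act 4 n53006 = n51750 := d24_2 (iv F228886) D53006 (iv D51750) F222613 (iv F222348)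
theorem F237376 : act 5 n53006 = n51125 := d25_2 (iv F228887) D53006 (iv D51125)
theorem F237377 : act 7 n53006 = n53006 := d27_2 F228888 D53006 (iv D53006)
theorem F237378 : act 8 n53006 = n51132 := d28_2 D51124 D53006 (iv D51132) (iv D49048) (iv F219430)
theorem F237379 : act 9 n53006 = n52542 := d29_2 (iv F228889) D53006 (iv D52542)
def n53007 : Q := act 9 n51126
theorem D53007 : act 9 n51126 = n53007 := rfl
theorem F237380 : act 0 n53007 = n51222 := d8_1 D53007 (iv D51222) (iv F228895)
theorem F237381 : act 1 n53007 = n51470 := d16_1 D53007 (iv D51470) (iv F228896)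
theorem F237382 : act 2 n53007 = n51478 := d23_1 D53007 (iv D51478) (iv F228897)
theorem F237383 : act 4 n53007 = n51468 := d34_1 D53007 (iv D51468) (iv F228898)
theorem F237384 : act 5 n53007 = n51130 := d38_1 D53007 (iv D51130) (iv F228899)
theorem F237385 : act 6 n53007 = n51654 := d41_1 D53007 (iv D51654) (iv F228900)
theorem F237386 : act 7 n53007 = n51127 := d43_1 D53007 (iv D51127) D51126
def n53008 : Q := act 8 n51127
theorem D53008 : act 8 n51127 = n53008 := rfl
theorem F237387 : act 0 n53008 = n51223 := d7_1 D53008 (iv D51223) (iv F228902)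
theorem F237388 : act 1 n53008 = n51701 := d15_1 D53008 (iv D51701) (iv F228903)
theorem F237389 : act 2 n53008 = n51256 := d22_1 D53008 F229576 (iv F228904)
theorem F237390 : act 4 n53008 = n52473 := d33_1 D53008 (iv D52473) (iv F228905)
theorem F237391 : act 5 n53008 = n51131 := d37_1 D53008 (iv D51131) (iv F228906)
theorem F237392 : act 6 n53008 = n51128 := d40_1 D53008 (iv D51128) (iv F228907)
theorem F237393 : act 9 n53008 = n53008 := d44_2 D51127 D53008 (iv D53008) (iv D51127) F219443
def n53009 : Q := act 3 n51128
theorem D53009 : act 3 n51128 = n53009 := rfl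
theorem F237394 : act 0 n53009 = n51224 := d2_1 D53009 (iv D51224) (iv F228908)
theorem F237395 : act 2 n53009 = n52307 := d17_1 D53009 (iv D52307) F225153 D50278 (iv F228909)
theorem F237396 : act 5 n53009 = n51129 := d25_2 (iv F228911) D53009 (iv D51129)
theorem F237397 : act 7 n53009 = n52482 := d27_2 (iv F228912) D53009 (iv D52482)
theorem F237398 : act 9 n53009 = n53009 := d29_2 F228913 D53009 (iv D53009)
def n53010 : Q := act 8 n51130
theorem D53010 : act 8 n51130 = n53010 := rfl
theorem F237399 : act 0 n53010 = n51226 := d7_1 D53010 (iv D51226) (iv F228920)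
theorem F237400 : act 1 n53010 = n51700 := d15_1 D53010 (iv D51700) (iv F228921)
theorem F237401 : act 2 n53010 = n51258 := d22_1 D53010 F229586 (iv F228922)
theorem F237402 : act 4 n53010 = n51133 := d33_1 D53010 (iv D51133) (iv F228923)
theorem F237403 : act 6 n53010 = n53010 := d40_1 D53010 (iv D53010) F228924
theorem F237404 : act 7 n53010 = n51131 := d42_1 D53010 (iv D51131) (iv F228925)
theorem F237405 : act 9 n53010 = n53010 := d44_2 D51130 D53010 (iv D53010) (iv D51130) F219460
def n53011 : Q := act 3 n51131
theorem D53011 : act 3 n51131 = n53011 := rfl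
theorem F237406 : act 0 n53011 = n51227 := d2_1 D53011 (iv D51227) (iv F228926)
theorem F237407 : act 1 n53011 = n51702 := d10_1 D53011 (iv D51702) (iv F228927)
theorem F237408 : act 2 n53011 = n51246 := d17_1 D53011 (iv D51246) F219928 D49161 (iv F228928)
theorem F237409 : act 4 n53011 = n51760 := d24_2 (iv F228929) D53011 (iv D51760) F222653 (iv F219485)
theorem F237410 : act 6 n53011 = n51132 := d26_2 (iv F228930) D53011 (iv D51132)
theorem F237411 : act 9 n53011 = n53011 := d29_2 F228931 D53011 (iv D53011)
def n53012 : Q := act 3 n51134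
theorem D53012 : act 3 n51134 = n53012 := rfl
theorem F237412 : act 0 n53012 = n51241 := d2_1 D53012 (iv D51241) (iv F228946)
theorem F237413 : act 1 n53012 = n52763 := d10_1 D53012 F235823 (iv F228947)
theorem F237414 : act 2 n53012 = n52761 := d17_1 D53012 (iv D52761) F227001 (iv F219505) (iv F228948)
theorem F237415 : act 5 n53012 = n51135 := d25_2 (iv F228950) D53012 (iv D51135)
theorem F237416 : act 6 n53012 = n52191 := d26_2 (iv F228951) D53012 (iv D52191)
theorem F237417 : act 7 n53012 = n52750 := d27_2 (iv F228952) D53012 (iv D52750)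
theorem F237418 : act 9 n53012 = n53012 := d29_2 F228953 D53012 (iv D53012)
def n53013 : Q := act 2 n51136
theorem D53013 : act 2 n51136 = n53013 := rfl
theorem F237419 : act 0 n53013 = n52299 := d1_1 D53013 F236610 F236604
theorem F237420 : act 3 n53013 = n53013 := d17_2 D51136 D53013 (iv D53013) (iv D51136) F219526
theorem F237421 : act 5 n53013 = n53013 := d19_2 F228962 D53013 (iv D53013)
theorem F237422 : act 6 n53013 = n52619 := d20_2 (iv F228963) D53013 F235355
theorem F237423 : act 7 n53013 = n51138 := d21_2 (iv F228964) D53013 (iv D51138)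
theorem F237424 : act 8 n53013 = n52181 := d22_2 (iv F228965) D53013 F233939
def n53014 : Q := act 4 n51136
theorem D53014 : act 4 n51136 = n53014 := rfl
theorem F237425 : act 1 n53014 = n51848 := d11_1 D53014 (iv D51848) (iv F228961)
theorem F237426 : act 3 n53014 = n51144 := d24_1 D53014 (iv D51144) (iv D49061) (iv F219527) D51136
theorem F237427 : act 6 n53014 = n52608 := d31_2 (iv F228963) D53014 F235317
theorem F237428 : act 7 n53014 = n51139 := d32_2 (iv F228964) D53014 (iv D51139)
theorem F237429 : act 8 n53014 = n52643 := d33_2 (iv F228965) D53014 F235434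
def n53015 : Q := act 9 n51136
theorem D53015 : act 9 n51136 = n53015 := rfl
theorem F237430 : act 1 n53015 = n51849 := d16_1 D53015 (iv D51849) (iv F228961)
theorem F237431 : act 3 n53015 = n51137 := d29_1 D53015 (iv D51137) D51136
theorem F237432 : act 5 n53015 = n53015 := d38_1 D53015 (iv D53015) F228962
theorem F237433 : act 6 n53015 = n52623 := d41_1 D53015 (iv D52623) (iv F228963)
theorem F237434 : act 7 n53015 = n51140 := d43_1 D53015 (iv D51140) (iv F228964)
def n53016 : Q := act 1 n51138
theorem D53016 : act 1 n51138 = n53016 := rfl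
theorem F237435 : act 2 n53016 = n51850 := d9_2 D51138 D53016 (iv D51850) (iv D49789) (iv F219531)
theorem F237436 : act 3 n53016 = n53016 := d10_2 F228973 D53016 (iv D53016)
theorem F237437 : act 5 n53016 = n53016 := d12_2 F228974 D53016 (iv D53016)
theorem F237438 : act 6 n53016 = n52199 := d13_2 (iv F228975) D53016 (iv D52199)
theorem F237439 : act 8 n53016 = n52186 := d15_2 (iv F228976) D53016 F233967
def n53017 : Q := act 4 n51138
theorem D53017 : act 4 n51138 = n53017 := rfl
theorem F237440 : act 0 n53017 = n52255 := d3_1 D53017 F234249 (iv F228972)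
theorem F237441 : act 2 n53017 = n51139 := d18_1 D53017 (iv D51139) D51138
theorem F237442 : act 6 n53017 = n52200 := d31_2 (iv F228975) D53017 (iv D52200)
theorem F237443 : act 8 n53017 = n52157 := d33_2 (iv F228976) D53017 F233835
def n53018 : Q := act 9 n51138
theorem D53018 : act 9 n51138 = n53018 := rfl
theorem F237444 : act 0 n53018 = n52308 := d8_1 D53018 (iv D52308) (iv F228972)
theorem F237445 : act 2 n53018 = n51140 := d23_1 D53018 (iv D51140) D51138
theorem F237446 : act 3 n53018 = n53018 := d29_1 D53018 (iv D53018) F228973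
theorem F237447 : act 5 n53018 = n53018 := d38_1 D53018 (iv D53018) F228974
theorem F237448 : act 6 n53018 = n52201 := d41_1 D53018 (iv D52201) (iv F228975)
def n53019 : Q := act 5 n51139
theorem D53019 : act 5 n51139 = n53019 := rfl
theorem F237449 : act 1 n53019 = n51853 := d12_1 D53019 (iv D51853) (iv F228977)
theorem F237450 : act 3 n53019 = n51149 := d25_1 D53019 (iv D51149) (iv F228978)
theorem F237451 : act 4 n53019 = n53019 := d30_1 D53019 (iv D53019) (iv D51139) F219532 D51139
theorem F237452 : act 6 n53019 = n52587 := d35_2 (iv F228979) D53019 (iv D52587) F226226 (iv F224800)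
theorem F237453 : act 8 n53019 = n52633 := d37_2 (iv F228980) D53019 F235402
def n53020 : Q := act 9 n51139
theorem D53020 : act 9 n51139 = n53020 := rfl
theorem F237454 : act 1 n53020 = n51854 := d16_1 D53020 (iv D51854) (iv F228977)
theorem F237455 : act 3 n53020 = n51150 := d29_1 D53020 (iv D51150) (iv F228978)
theorem F237456 : act 4 n53020 = n51140 := d34_1 D53020 (iv D51140) D51139
theorem F237457 : act 6 n53020 = n52202 := d41_1 D53020 (iv D52202) (iv F228979)
def n53021 : Q := act 8 n51140
theorem D53021 : act 8 n51140 = n53021 := rfl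
theorem F237458 : act 1 n53021 = n51855 := d15_1 D53021 (iv D51855) (iv F228981)
theorem F237459 : act 5 n53021 = n53021 := d37_1 D53021 (iv D53021) F228983
theorem F237460 : act 6 n53021 = n52203 := d40_1 D53021 (iv D52203) (iv F228984)
theorem F237461 : act 9 n53021 = n52679 := d44_2 D51140 D53021 (iv D52679) (iv D50682) (iv F219534)
def n53022 : Q := act 4 n51141
theorem D53022 : act 4 n51141 = n53022 := rfl
theorem F237462 : act 1 n53022 = n51857 := d11_1 D53022 (iv D51857) (iv F228985)
theorem F237463 : act 3 n53022 = n52608 := d24_1 D53022 F235317 F226322 (iv F219542) D51141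
theorem F237464 : act 6 n53022 = n51144 := d31_2 (iv F228987) D53022 (iv D51144)
theorem F237465 : act 7 n53022 = n52205 := d32_2 (iv F228988) D53022 (iv D52205)
theorem F237466 : act 8 n53022 = n51171 := d33_2 (iv F228989) D53022 (iv D51171)
def n53023 : Q := act 9 n51141
theorem D53023 : act 9 n51141 = n53023 := rfl
theorem F237467 : act 1 n53023 = n51858 := d16_1 D53023 (iv D51858) (iv F228985)
theorem F237468 : act 3 n53023 = n51142 := d29_1 D53023 (iv D51142) D51141
theorem F237469 : act 5 n53023 = n53023 := d38_1 D53023 (iv D53023) F228986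
theorem F237470 : act 6 n53023 = n51145 := d41_1 D53023 (iv D51145) (iv F228987)
theorem F237471 : act 7 n53023 = n52206 := d43_1 D53023 (iv D52206) (iv F228988)
def n53024 : Q := act 1 n51143
theorem D53024 : act 1 n51143 = n53024 := rfl
theorem F237472 : act 0 n53024 = n51931 := d0_1 D53024 F232766 (iv F232306) F232307 (iv F228996)
theorem F237473 : act 2 n53024 = n51859 := d9_2 D51143 D53024 (iv D51859) (iv D49794) (iv F219546)
theorem F237474 : act 3 n53024 = n53024 := d10_2 F228997 D53024 (iv D53024)
theorem F237475 : act 5 n53024 = n51152 := d12_2 (iv F228998) D53024 (iv D51152)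
theorem F237476 : act 7 n53024 = n51146 := d14_2 (iv F228999) D53024 (iv D51146)
theorem F237477 : act 8 n53024 = n51173 := d15_2 (iv F229000) D53024 (iv D51173)
def n53025 : Q := act 4 n51143
theorem D53025 : act 4 n51143 = n53025 := rfl
theorem F237478 : act 0 n53025 = n52657 := d3_1 D53025 F235469 (iv F228996)
theorem F237479 : act 2 n53025 = n51144 := d18_1 D53025 (iv D51144) D51143
theorem F237480 : act 5 n53025 = n52568 := d30_2 (iv F228998) D53025 F235212 F226202 F219570
theorem F237481 : act 7 n53025 = n51147 := d32_2 (iv F228999) D53025 (iv D51147)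
theorem F237482 : act 8 n53025 = n51174 := d33_2 (iv F229000) D53025 (iv D51174)
def n53026 : Q := act 9 n51143
theorem D53026 : act 9 n51143 = n53026 := rfl
theorem F237483 : act 0 n53026 = n52745 := d8_1 D53026 (iv D52745) (iv F228996)
theorem F237484 : act 2 n53026 = n51145 := d23_1 D53026 (iv D51145) D51143
theorem F237485 : act 3 n53026 = n53026 := d29_1 D53026 (iv D53026) F228997
theorem F237486 : act 5 n53026 = n51153 := d38_1 D53026 (iv D51153) (iv F228998)
theorem F237487 : act 7 n53026 = n51148 := d43_1 D53026 (iv D51148) (iv F228999)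
def n53027 : Q := act 5 n51144
theorem D53027 : act 5 n51144 = n53027 := rfl
theorem F237488 : act 0 n53027 = n52442 := d4_1 D53027 (iv F237196) F237194
theorem F237489 : act 1 n53027 = n51862 := d12_1 D53027 (iv D51862) (iv F229001)
theorem F237490 : act 2 n53027 = n52568 := d19_1 D53027 (iv F237480) F237479
theorem F237491 : act 4 n53027 = n51154 := d30_1 D53027 (iv D51154) (iv D49067) (iv F219547) D51144
theorem F237492 : act 7 n53027 = n51149 := d36_2 (iv F229002) D53027 (iv D51149)
theorem F237493 : act 8 n53027 = n51176 := d37_2 (iv F229003) D53027 (iv D51176)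
def n53028 : Q := act 9 n51144
theorem D53028 : act 9 n51144 = n53028 := rfl
theorem F237494 : act 1 n53028 = n51863 := d16_1 D53028 (iv D51863) (iv F229001)
theorem F237495 : act 4 n53028 = n51145 := d34_1 D53028 (iv D51145) D51144
theorem F237496 : act 7 n53028 = n51150 := d43_1 D53028 (iv D51150) (iv F229002)
def n53029 : Q := act 8 n51145
theorem D53029 : act 8 n51145 = n53029 := rfl
theorem F237497 : act 1 n53029 = n51864 := d15_1 D53029 (iv D51864) (iv F229004)
theorem F237498 : act 5 n53029 = n51156 := d37_1 D53029 (iv D51156) (iv F229006)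
theorem F237499 : act 7 n53029 = n51151 := d42_1 D53029 (iv D51151) (iv F229007)
theorem F237500 : act 9 n53029 = n51178 := d44_2 D51145 D53029 (iv D51178) (iv D49085) (iv F219549)
def n53030 : Q := act 4 n51146
theorem D53030 : act 4 n51146 = n53030 := rfl
theorem F237501 : act 0 n53030 = n51916 := d3_1 D53030 F232724 (iv F229008)
theorem F237502 : act 1 n53030 = n51147 := d11_1 D53030 (iv D51147) D51146
theorem F237503 : act 2 n53030 = n51865 := d18_1 D53030 (iv D51865) (iv F229009)
theorem F237504 : act 5 n53030 = n51913 := d30_2 (iv F229011) D53030 (iv D51913) F223239 F219587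
theorem F237505 : act 6 n53030 = n52212 := d31_2 (iv F229012) D53030 (iv D52212)
theorem F237506 : act 8 n53030 = n51180 := d33_2 (iv F229013) D53030 (iv D51180)
def n53031 : Q := act 9 n51146
theorem D53031 : act 9 n51146 = n53031 := rfl
theorem F237507 : act 0 n53031 = n51944 := d8_1 D53031 (iv D51944) (iv F229008)
theorem F237508 : act 1 n53031 = n51148 := d16_1 D53031 (iv D51148) D51146
theorem F237509 : act 2 n53031 = n51866 := d23_1 D53031 (iv D51866) (iv F229009)
theorem F237510 : act 3 n53031 = n53031 := d29_1 D53031 (iv D53031) F229010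
theorem F237511 : act 5 n53031 = n51157 := d38_1 D53031 (iv D51157) (iv F229011)
theorem F237512 : act 6 n53031 = n52213 := d41_1 D53031 (iv D52213) (iv F229012)
def n53032 : Q := act 3 n51147
theorem D53032 : act 3 n51147 = n53032 := rfl
theorem F237513 : act 4 n53032 = n53032 := d24_2 D51147 D53032 (iv D53032) (iv D51147) F219554
theorem F237514 : act 6 n53032 = n52214 := d26_2 (iv F229015) D53032 (iv D52214)
def n53033 : Q := act 5 n51147
theorem D53033 : act 5 n51147 = n53033 := rfl
theorem F237515 : act 0 n53033 = n51808 := d4_1 D53033 (iv F237207) F237204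
theorem F237516 : act 1 n53033 = n51913 := d12_1 D53033 (iv F237504) F237502
theorem F237517 : act 2 n53033 = n51149 := d19_1 D53033 (iv D51149) (iv F229014)
theorem F237518 : act 4 n53033 = n51158 := d30_1 D53033 (iv D51158) (iv D49070) (iv F219555) D51147
theorem F237519 : act 7 n53033 = n52568 := d36_2 F237481 D53033 (iv F237480)
theorem F237520 : act 8 n53033 = n51183 := d37_2 (iv F229016) D53033 (iv D51183)
theorem F237521 : act 6 n52563 = n53033 := d31_0 F237518 F229071 D52563
def n53034 : Q := act 9 n51147
theorem D53034 : act 9 n51147 = n53034 := rfl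
theorem F237522 : act 2 n53034 = n51150 := d23_1 D53034 (iv D51150) (iv F229014)
theorem F237523 : act 4 n53034 = n51148 := d34_1 D53034 (iv D51148) D51147
theorem F237524 : act 6 n53034 = n52216 := d41_1 D53034 (iv D52216) (iv F229015)
def n53035 : Q := act 8 n51148
theorem D53035 : act 8 n51148 = n53035 := rfl
theorem F237525 : act 2 n53035 = n51151 := d22_1 D53035 (iv D51151) (iv F229017)
theorem F237526 : act 5 n53035 = n51160 := d37_1 D53035 (iv D51160) (iv F229019)
theorem F237527 : act 6 n53035 = n52217 := d40_1 D53035 (iv D52217) (iv F229020)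
theorem F237528 : act 9 n53035 = n51185 := d44_2 D51148 D53035 (iv D51185) (iv D49088) (iv F219557)
def n53036 : Q := act 6 n51149
theorem D53036 : act 6 n51149 = n53036 := rfl
theorem F237529 : act 0 n53036 = n52522 := d5_1 D53036 (iv F237222) F237218
theorem F237530 : act 1 n53036 = n51871 := d13_1 D53036 (iv D51871) (iv F229021)
theorem F237531 : act 2 n53036 = n52563 := d20_1 D53036 F237521 F237517
theorem F237532 : act 3 n53036 = n52587 := d26_1 D53036 (iv F237452) F237450
theorem F237533 : act 4 n53036 = n51161 := d31_1 D53036 (iv D51161) (iv F229022)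
theorem F237534 : act 5 n53036 = n52218 := d35_1 D53036 (iv D52218) (iv D50179) (iv F219559) D51149
theorem F237535 : act 8 n53036 = n51186 := d40_2 (iv F229023) D53036 (iv D51186)
def n53037 : Q := act 9 n51149
theorem D53037 : act 9 n51149 = n53037 := rfl
theorem F237536 : act 1 n53037 = n51872 := d16_1 D53037 (iv D51872) (iv F229021)
theorem F237537 : act 4 n53037 = n51162 := d34_1 D53037 (iv D51162) (iv F229022)
theorem F237538 : act 5 n53037 = n51150 := d38_1 D53037 (iv D51150) D51149
def n53038 : Q := act 8 n51150
theorem D53038 : act 8 n51150 = n53038 := rfl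
theorem F237539 : act 1 n53038 = n51873 := d15_1 D53038 (iv D51873) (iv F229024)
theorem F237540 : act 4 n53038 = n51151 := d33_1 D53038 (iv D51151) (iv F229025)
theorem F237541 : act 6 n53038 = n52220 := d40_1 D53038 (iv D52220) (iv F229026)
theorem F237542 : act 9 n53038 = n51188 := d44_2 D51150 D53038 (iv D51188) (iv D49090) (iv F219560)
def n53039 : Q := act 9 n51152
theorem D53039 : act 9 n51152 = n53039 := rfl
theorem F237543 : act 0 n53039 = n51932 := d8_1 D53039 (iv D51932) (iv F229031)
theorem F237544 : act 1 n53039 = n51153 := d16_1 D53039 (iv D51153) D51152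
theorem F237545 : act 2 n53039 = n51874 := d23_1 D53039 (iv D51874) (iv F229032)
theorem F237546 : act 3 n53039 = n53039 := d29_1 D53039 (iv D53039) F229033
theorem F237547 : act 4 n53039 = n51930 := d34_1 D53039 (iv D51930) (iv F229034)
theorem F237548 : act 6 n53039 = n53039 := d41_1 D53039 (iv D53039) F229035
theorem F237549 : act 7 n53039 = n51157 := d43_1 D53039 (iv D51157) (iv F229036)
def n53040 : Q := act 8 n51153
theorem D53040 : act 8 n51153 = n53040 := rfl
theorem F237550 : act 0 n53040 = n52747 := d7_1 D53040 (iv D52747) (iv F229038)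
theorem F237551 : act 2 n53040 = n51156 := d22_1 D53040 (iv D51156) (iv F229039)
theorem F237552 : act 4 n53040 = n52737 := d33_1 D53040 (iv D52737) (iv F229041)
theorem F237553 : act 6 n53040 = n53040 := d40_1 D53040 (iv D53040) F229042
theorem F237554 : act 7 n53040 = n51160 := d42_1 D53040 (iv D51160) (iv F229043)
theorem F237555 : act 9 n53040 = n51191 := d44_2 D51153 D53040 (iv D51191) (iv D49093) (iv F219569)
def n53041 : Q := act 6 n51154
theorem D53041 : act 6 n51154 = n53041 := rfl
theorem F237556 : act 0 n53041 = n51662 := d5_1 D53041 F231562 (iv F229044)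
theorem F237557 : act 1 n53041 = n51878 := d13_1 D53041 (iv D51878) (iv F229045)
theorem F237558 : act 2 n53041 = n51843 := d20_1 D53041 F232447 (iv F229046)
theorem F237559 : act 3 n53041 = n53041 := d26_1 D53041 (iv D53041) F229047
theorem F237560 : act 5 n53041 = n53041 := d35_1 D53041 (iv D53041) (iv D51154) F219575 D51154
theorem F237561 : act 8 n53041 = n51192 := d40_2 (iv F229049) D53041 (iv D51192)
theorem F237562 : act 7 n52716 = n53041 := d21_0 F237558 F232448 D52716
def n53042 : Q := act 9 n51154
theorem D53042 : act 9 n51154 = n53042 := rfl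
theorem F237563 : act 0 n53042 = n52480 := d8_1 D53042 (iv D52480) (iv F229044)
theorem F237564 : act 1 n53042 = n51879 := d16_1 D53042 (iv D51879) (iv F229045)
theorem F237565 : act 2 n53042 = n52576 := d23_1 D53042 (iv D52576) (iv F229046)
theorem F237566 : act 3 n53042 = n53042 := d29_1 D53042 (iv D53042) F229047
theorem F237567 : act 5 n53042 = n51155 := d38_1 D53042 (iv D51155) D51154
theorem F237568 : act 7 n53042 = n51162 := d43_1 D53042 (iv D51162) (iv F229048)
def n53043 : Q := act 8 n51155
theorem D53043 : act 8 n51155 = n53043 := rfl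
theorem F237569 : act 0 n53043 = n52724 := d7_1 D53043 (iv D52724) (iv F229050)
theorem F237570 : act 1 n53043 = n51880 := d15_1 D53043 (iv D51880) (iv F229051)
theorem F237571 : act 2 n53043 = n52737 := d22_1 D53043 (iv D52737) (iv F229052)
theorem F237572 : act 4 n53043 = n51156 := d33_1 D53043 (iv D51156) (iv F229054)
theorem F237573 : act 6 n53043 = n53043 := d40_1 D53043 (iv D53043) F229055
theorem F237574 : act 7 n53043 = n51163 := d42_1 D53043 (iv D51163) (iv F229056)
theorem F237575 : act 9 n53043 = n51194 := d44_2 D51155 D53043 (iv D51194) (iv D49095) (iv F219577)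
def n53044 : Q := act 8 n51157
theorem D53044 : act 8 n51157 = n53044 := rfl
theorem F237576 : act 0 n53044 = n51945 := d7_1 D53044 (iv D51945) (iv F229061)
theorem F237577 : act 1 n53044 = n51160 := d15_1 D53044 (iv D51160) (iv F229062)
theorem F237578 : act 2 n53044 = n51881 := d22_1 D53044 (iv D51881) (iv F229063)
theorem F237579 : act 4 n53044 = n51942 := d33_1 D53044 (iv D51942) (iv F229065)
theorem F237580 : act 6 n53044 = n51164 := d40_1 D53044 (iv D51164) (iv F229066)
theorem F237581 : act 9 n53044 = n51198 := d44_2 D51157 D53044 (iv D51198) (iv D49099) (iv F219586)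
def n53045 : Q := act 9 n51158
theorem D53045 : act 9 n51158 = n53045 := rfl
theorem F237582 : act 0 n53045 = n51809 := d8_1 D53045 (iv D51809) (iv F229067)
theorem F237583 : act 1 n53045 = n51914 := d16_1 D53045 (iv D51914) (iv F229068)
theorem F237584 : act 2 n53045 = n51162 := d23_1 D53045 (iv D51162) (iv F229069)
theorem F237585 : act 3 n53045 = n51840 := d29_1 D53045 (iv D51840) (iv F229070)
theorem F237586 : act 5 n53045 = n51159 := d38_1 D53045 (iv D51159) D51158
theorem F237587 : act 6 n53045 = n52564 := d41_1 D53045 (iv D52564) (iv F229071)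
theorem F237588 : act 7 n53045 = n52576 := d43_1 D53045 (iv D52576) (iv F229072)
def n53046 : Q := act 8 n51159
theorem D53046 : act 8 n51159 = n53046 := rfl
theorem F237589 : act 0 n53046 = n51822 := d7_1 D53046 (iv D51822) (iv F229074)
theorem F237590 : act 1 n53046 = n51942 := d15_1 D53046 (iv D51942) (iv F229075)
theorem F237591 : act 2 n53046 = n51163 := d22_1 D53046 (iv D51163) (iv F229076)
theorem F237592 : act 3 n53046 = n52616 := d28_1 D53046 (iv D52616) F226299 (iv F223065) (iv F229077)
theorem F237593 : act 4 n53046 = n51160 := d33_1 D53046 (iv D51160) (iv F229078)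
theorem F237594 : act 6 n53046 = n51165 := d40_1 D53046 (iv D51165) (iv F229079)
theorem F237595 : act 7 n53046 = n52737 := d42_1 D53046 (iv D52737) (iv F229080)
theorem F237596 : act 9 n53046 = n51201 := d44_2 D51159 D53046 (iv D51201) (iv D49101) (iv F219593)
def n53047 : Q := act 3 n51160
theorem D53047 : act 3 n51160 = n53047 := rfl
theorem F237597 : act 6 n53047 = n51166 := d26_2 (iv F229082) D53047 (iv D51166)
theorem F237598 : act 8 n53047 = n53047 := d28_2 D51160 D53047 (iv D53047) (iv D51160) F219596
theorem F237599 : act 9 n53047 = n51202 := d29_2 (iv F229083) D53047 (iv D51202)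
def n53048 : Q := act 7 n51161
theorem D53048 : act 7 n51161 = n53048 := rfl
theorem F237600 : act 0 n53048 = n52531 := d6_1 D53048 F235096 (iv F229084)
theorem F237601 : act 1 n53048 = n51885 := d14_1 D53048 (iv D51885) (iv F229085)
theorem F237602 : act 2 n53048 = n52020 := d21_1 D53048 F233190 (iv F229086)
theorem F237603 : act 3 n53048 = n53048 := d27_1 D53048 (iv D53048) F229087
theorem F237604 : act 5 n53048 = n51167 := d36_1 D53048 (iv D51167) (iv F229088)
theorem F237605 : act 6 n53048 = n52716 := d39_1 D53048 F237562 (iv D53041) F229048 D51161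
theorem F237606 : act 8 n53048 = n51203 := d42_2 (iv F229089) D53048 (iv D51203)
def n53049 : Q := act 9 n51161
theorem D53049 : act 9 n51161 = n53049 := rfl
theorem F237607 : act 0 n53049 = n52538 := d8_1 D53049 (iv D52538) (iv F229084)
theorem F237608 : act 1 n53049 = n51886 := d16_1 D53049 (iv D51886) (iv F229085)
theorem F237609 : act 2 n53049 = n52564 := d23_1 D53049 (iv D52564) (iv F229086)
theorem F237610 : act 3 n53049 = n53049 := d29_1 D53049 (iv D53049) F229087
theorem F237611 : act 5 n53049 = n51168 := d38_1 D53049 (iv D51168) (iv F229088)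
theorem F237612 : act 6 n53049 = n51162 := d41_1 D53049 (iv D51162) D51161
def n53050 : Q := act 8 n51162
theorem D53050 : act 8 n51162 = n53050 := rfl
theorem F237613 : act 1 n53050 = n51887 := d15_1 D53050 (iv D51887) (iv F229090)
theorem F237614 : act 5 n53050 = n51163 := d37_1 D53050 (iv D51163) (iv F229092)
theorem F237615 : act 9 n53050 = n51205 := d44_2 D51162 D53050 (iv D51205) (iv D49104) (iv F219600)
def n53051 : Q := act 3 n51163
theorem D53051 : act 3 n51163 = n53051 := rfl
theorem F237616 : act 1 n53051 = n51888 := d10_1 D53051 (iv D51888) (iv F229093)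
theorem F237617 : act 6 n53051 = n51170 := d26_2 (iv F229095) D53051 (iv D51170)
theorem F237618 : act 8 n53051 = n53051 := d28_2 D51163 D53051 (iv D53051) (iv D51163) F219602
theorem F237619 : act 9 n53051 = n51206 := d29_2 (iv F229096) D53051 (iv D51206)
def n53052 : Q := act 3 n51164
theorem D53052 : act 3 n51164 = n53052 := rfl
theorem F237620 : act 0 n53052 = n51959 := d2_1 D53052 (iv D51959) (iv F229097)
theorem F237621 : act 1 n53052 = n51166 := d10_1 D53052 (iv D51166) (iv F229098)
theorem F237622 : act 2 n53052 = n52542 := d17_1 D53052 (iv D52542) F226027 (iv F223177) (iv F229099)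
theorem F237623 : act 4 n53052 = n52295 := d24_2 (iv F229100) D53052 (iv D52295) (iv F229339) F229338
theorem F237624 : act 5 n53052 = n52232 := d25_2 (iv F229101) D53052 (iv D52232)
theorem F237625 : act 7 n53052 = n53052 := d27_2 F229102 D53052 (iv D53052)
theorem F237626 : act 8 n53052 = n53052 := d28_2 D51164 D53052 (iv D53052) (iv D51164) F219611
theorem F237627 : act 9 n53052 = n51209 := d29_2 (iv F229103) D53052 (iv D51209)
def n53053 : Q := act 4 n51166
theorem D53053 : act 4 n51166 = n53053 := rfl
theorem F237628 : act 0 n53053 = n52625 := d3_1 D53053 (iv F237264) F237261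
theorem F237629 : act 1 n53053 = n52295 := d11_1 D53053 (iv F237623) F237621
theorem F237630 : act 3 n53053 = n52291 := d24_1 D53053 F234388 (iv F229107) F229108 D51166
theorem F237631 : act 7 n53053 = n53053 := d32_2 F229113 D53053 (iv D53053)
theorem F237632 : act 8 n53053 = n53053 := d33_2 F229114 D53053 (iv D53053)
theorem F237633 : act 9 n53053 = n51213 := d34_2 (iv F229115) D53053 (iv D51213)
theorem F237634 : act 5 n52292 = n53053 := d45_3 D48024 D50243 D52292 (iv D53053) (iv D51166) (iv F229098) F229099 F223177 (iv F223352) F223351 (iv D47665) F179969 F132835 D32276 F136180 F95027 (iv D22153) F66469 (iv D10510) F32981 F32982 (iv F45934) (iv F204352) D20547 F88642 F204457 (iv D14978) (iv F64791) (iv F92570) (iv F125296) D43059 F179822 F179821 F125298 F87520 D20302 D29552 D43076 (iv F213187) (iv F219475) (iv D49049) (iv F219288) F219289 (iv D47912) F186880 (iv D44783) F130168 (iv F125015) (iv F178928) F178927 F178926 F124706 F87126 (iv D13892) (iv D9574) F30254 F21625 (iv D4617) F15342 (iv F15336) F15337 (iv F21611) F21613 F202975 (iv F202964)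 F21688 F15383 F11439 F11438 F8164 F8165 D2338 F11466 F8218 (iv F8401) (iv F11771) (iv F16563) (iv F23310) (iv F32980) F32981 (iv D7245) (iv F32840) (iv F46554) F46555 D15190 (iv F92573) (iv F132704) (iv F187332) F187333
def n53054 : Q := act 9 n51167
theorem D53054 : act 9 n51167 = n53054 := rfl
theorem F237635 : act 0 n53054 = n52532 := d8_1 D53054 (iv D52532) (iv F229116)
theorem F237636 : act 1 n53054 = n51893 := d16_1 D53054 (iv D51893) (iv F229117)
theorem F237637 : act 2 n53054 = n52572 := d23_1 D53054 (iv D52572) (iv F229118)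
theorem F237638 : act 3 n53054 = n53054 := d29_1 D53054 (iv D53054) F229119
theorem F237639 : act 4 n53054 = n52233 := d34_1 D53054 (iv D52233) (iv F229120)
theorem F237640 : act 6 n53054 = n53054 := d41_1 D53054 (iv D53054) F229121
theorem F237641 : act 7 n53054 = n51168 := d43_1 D53054 (iv D51168) D51167
def n53055 : Q := act 8 n51168
theorem D53055 : act 8 n51168 = n53055 := rfl
theorem F237642 : act 0 n53055 = n52539 := d7_1 D53055 (iv D52539) (iv F229123)
theorem F237643 : act 1 n53055 = n51894 := d15_1 D53055 (iv D51894) (iv F229124)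
theorem F237644 : act 2 n53055 = n52574 := d22_1 D53055 (iv D52574) (iv F229125)
theorem F237645 : act 4 n53055 = n52234 := d33_1 D53055 (iv D52234) (iv F229127)
theorem F237646 : act 6 n53055 = n51169 := d40_1 D53055 (iv D51169) (iv F229128)
theorem F237647 : act 9 n53055 = n51215 := d44_2 D51168 D53055 (iv D51215) (iv D49114) (iv F219631)
def n53056 : Q := act 3 n51169
theorem D53056 : act 3 n51169 = n53056 := rfl
theorem F237648 : act 0 n53056 = n52542 := d2_1 D53056 (iv D52542) (iv F229129)
theorem F237649 : act 1 n53056 = n51895 := d10_1 D53056 (iv D51895) (iv F229130)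
theorem F237650 : act 2 n53056 = n51959 := d17_1 D53056 (iv D51959) (iv F229312) F229313 (iv F229131)
theorem F237651 : act 4 n53056 = n51781 := d24_2 (iv F229132) D53056 (iv D51781) (iv F228597) F228596
theorem F237652 : act 5 n53056 = n51170 := d25_2 (iv F229133) D53056 (iv D51170)
theorem F237653 : act 7 n53056 = n53056 := d27_2 F229134 D53056 (iv D53056)
theorem F237654 : act 8 n53056 = n53056 := d28_2 D51169 D53056 (iv D53056) (iv D51169) F219635
theorem F237655 : act 9 n53056 = n51216 := d29_2 (iv F229135) D53056 (iv D51216)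
def n53057 : Q := act 2 n51170
theorem D53057 : act 2 n51170 = n53057 := rfl
theorem F237656 : act 0 n53057 = n52232 := d1_1 D53057 (iv F237271) F237269
theorem F237657 : act 3 n53057 = n51958 := d17_2 D51170 D53057 F232865 (iv F229107) F229106
theorem F237658 : act 5 n53057 = n51959 := d19_2 F237652 D53057 (iv F237650)
theorem F237659 : act 7 n53057 = n53057 := d21_2 F229137 D53057 (iv D53057)
theorem F237660 : act 8 n53057 = n53057 := d22_2 F229138 D53057 (iv D53057)
theorem F237661 : act 9 n53057 = n51217 := d23_2 (iv F229139) D53057 (iv D51217)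
theorem F237662 : act 1 n51962 = n53057 := d45_6 F207544 (iv F216693) (iv D48523) (iv F216690) (iv F223362) D51962 (iv D53057) (iv D51170) F219642 (iv D46924) F176650 (iv F176677) F176676 F123174 F91086 F64754 F46597 (iv D10459) F32811 F25336 (iv D3830) (iv D2658) (iv D1849) F6587 F6588 F4701 F201553 F6195 F6192 F6193 D1730 D2491 F200485 (iv F12225) F12226 (iv D2500) (iv D1734) (iv D1205) D1206 F6205 (iv F8695) (iv F12201) (iv F17189) (iv F22285) (iv F31432) D9963 (iv F202341) F31942 (iv F30353) D9608 F202787 (iv F87058) F87059 D29366 D42796 D47409 (iv F222297) (iv F227322) F227321 F224271 F224272 (iv F217789) F217793 (iv D48778) F207981 F207356 (iv F213625) (iv F219754) F219752 F209868 F176650 (iv D29014) F86081 (iv F123139) D42263 F176647 F130464 F91069 F64741 (iv F66363) D22119 D32236 (iv F206707) F176565 F130391 (iv F204224) F94902 (iv F136009) D46513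
def n53058 : Q := act 5 n51171
theorem D53058 : act 5 n51171 = n53058 := rfl
theorem F237663 : act 1 n53058 = n51900 := d12_1 D53058 (iv D51900) (iv F229140)
theorem F237664 : act 4 n53058 = n53058 := d30_1 D53058 (iv D53058) (iv D51171) F219644 D51171
theorem F237665 : act 7 n53058 = n52237 := d36_2 (iv F229142) D53058 (iv D52237)
def n53059 : Q := act 9 n51171
theorem D53059 : act 9 n51171 = n53059 := rfl
theorem F237666 : act 1 n53059 = n51901 := d16_1 D53059 (iv D51901) (iv F229140)
theorem F237667 : act 4 n53059 = n51172 := d34_1 D53059 (iv D51172) D51171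
theorem F237668 : act 6 n53059 = n51177 := d41_1 D53059 (iv D51177) (iv F229141)
theorem F237669 : act 7 n53059 = n52238 := d43_1 D53059 (iv D52238) (iv F229142)
def n53060 : Q := act 8 n51172
theorem D53060 : act 8 n51172 = n53060 := rfl
theorem F237670 : act 1 n53060 = n51902 := d15_1 D53060 (iv D51902) (iv F229143)
theorem F237671 : act 5 n53060 = n53060 := d37_1 D53060 (iv D53060) F229145
theorem F237672 : act 6 n53060 = n51178 := d40_1 D53060 (iv D51178) (iv F229146)
theorem F237673 : act 7 n53060 = n52239 := d42_1 D53060 (iv D52239) (iv F229147)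
def n53061 : Q := act 0 n51173
theorem D53061 : act 0 n51173 = n53061 := rfl
theorem F237674 : act 1 n53061 = n51875 := d0_2 D51173 D53061 F232565 F226652 (iv F219652)
theorem F237675 : act 2 n53061 = n51903 := d1_2 (iv F229148) D53061 (iv D51903)
theorem F237676 : act 3 n53061 = n51230 := d2_2 (iv F229149) D53061 (iv D51230)
theorem F237677 : act 5 n53061 = n51189 := d4_2 (iv F229150) D53061 (iv D51189)
theorem F237678 : act 6 n53061 = n52703 := d5_2 F236941 D53061 (iv F236937)
theorem F237679 : act 7 n53061 = n51179 := d6_2 (iv F229151) D53061 (iv D51179)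
theorem F237680 : act 8 n53061 = n51931 := d7_2 F237477 D53061 (iv F237472)
def n53062 : Q := act 4 n51173
theorem D53062 : act 4 n51173 = n53062 := rfl
theorem F237681 : act 1 n53062 = n51174 := d11_1 D53062 (iv D51174) D51173
theorem F237682 : act 2 n53062 = n51904 := d18_1 D53062 (iv D51904) (iv F229148)
theorem F237683 : act 3 n53062 = n52108 := d24_1 D53062 (iv D52108) F224343 (iv F219852) (iv F229149)
theorem F237684 : act 5 n53062 = n52565 := d30_2 (iv F229150) D53062 F235206 F226195 (iv F219682)
theorem F237685 : act 7 n53062 = n51180 := d32_2 (iv F229151) D53062 (iv D51180)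
def n53063 : Q := act 9 n51173
theorem D53063 : act 9 n51173 = n53063 := rfl
theorem F237686 : act 1 n53063 = n51175 := d16_1 D53063 (iv D51175) D51173
theorem F237687 : act 2 n53063 = n51905 := d23_1 D53063 (iv D51905) (iv F229148)
theorem F237688 : act 3 n53063 = n51231 := d29_1 D53063 (iv D51231) (iv F229149)
theorem F237689 : act 5 n53063 = n51190 := d38_1 D53063 (iv D51190) (iv F229150)
theorem F237690 : act 7 n53063 = n51181 := d43_1 D53063 (iv D51181) (iv F229151)
def n53064 : Q := act 9 n51174
theorem D53064 : act 9 n51174 = n53064 := rfl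
theorem F237691 : act 0 n53064 = n52658 := d8_1 D53064 (iv D52658) (iv F229152)
theorem F237692 : act 2 n53064 = n51177 := d23_1 D53064 (iv D51177) (iv F229153)
theorem F237693 : act 3 n53064 = n52110 := d29_1 D53064 (iv D52110) (iv F229154)
theorem F237694 : act 4 n53064 = n51175 := d34_1 D53064 (iv D51175) D51174
theorem F237695 : act 5 n53064 = n52569 := d38_1 D53064 (iv D52569) (iv F229155)
theorem F237696 : act 7 n53064 = n51184 := d43_1 D53064 (iv D51184) (iv F229156)
def n53065 : Q := act 8 n51175
theorem D53065 : act 8 n51175 = n53065 := rfl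
theorem F237697 : act 0 n53065 = n52746 := d7_1 D53065 (iv D52746) (iv F229157)
theorem F237698 : act 2 n53065 = n51178 := d22_1 D53065 (iv D51178) (iv F229158)
theorem F237699 : act 5 n53065 = n51191 := d37_1 D53065 (iv D51191) (iv F229160)
theorem F237700 : act 7 n53065 = n51185 := d42_1 D53065 (iv D51185) (iv F229161)
def n53066 : Q := act 6 n51176
theorem D53066 : act 6 n51176 = n53066 := rfl
theorem F237701 : act 0 n53066 = n51609 := d5_1 D53066 F231360 (iv F229162)
theorem F237702 : act 1 n53066 = n51910 := d13_1 D53066 (iv D51910) (iv F229163)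
theorem F237703 : act 2 n53066 = n51810 := d20_1 D53066 F232285 (iv F229164)
theorem F237704 : act 3 n53066 = n51523 := d26_1 D53066 F230995 (iv F229165)
theorem F237705 : act 4 n53066 = n51192 := d31_1 D53066 (iv D51192) (iv F229166)
def n53067 : Q := act 9 n51176
theorem D53067 : act 9 n51176 = n53067 := rfl
theorem F237706 : act 0 n53067 = n52443 := d8_1 D53067 (iv D52443) (iv F229162)
theorem F237707 : act 1 n53067 = n51911 := d16_1 D53067 (iv D51911) (iv F229163)
theorem F237708 : act 2 n53067 = n52569 := d23_1 D53067 (iv D52569) (iv F229164)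
theorem F237709 : act 3 n53067 = n52405 := d29_1 D53067 (iv D52405) (iv F229165)
theorem F237710 : act 4 n53067 = n51193 := d34_1 D53067 (iv D51193) (iv F229166)
theorem F237711 : act 5 n53067 = n51177 := d38_1 D53067 (iv D51177) D51176
theorem F237712 : act 7 n53067 = n51187 := d43_1 D53067 (iv D51187) (iv F229167)
def n53068 : Q := act 8 n51177
theorem D53068 : act 8 n51177 = n53068 := rfl
theorem F237713 : act 1 n53068 = n51912 := d15_1 D53068 (iv D51912) (iv F229168)
theorem F237714 : act 4 n53068 = n51178 := d33_1 D53068 (iv D51178) (iv F229169)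
theorem F237715 : act 7 n53068 = n51188 := d42_1 D53068 (iv D51188) (iv F229170)
def n53069 : Q := act 4 n51179
theorem D53069 : act 4 n51179 = n53069 := rfl
theorem F237716 : act 0 n53069 = n51180 := d3_1 D53069 (iv D51180) D51179
theorem F237717 : act 1 n53069 = n51868 := d11_1 D53069 F232540 (iv F229174)
theorem F237718 : act 2 n53069 = n51913 := d18_1 D53069 (iv D51913) (iv F229175)
theorem F237719 : act 5 n53069 = n51865 := d30_2 (iv F229177) D53069 (iv D51865) F223106 F219711
theorem F237720 : act 6 n53069 = n52248 := d31_2 (iv F229178) D53069 (iv D52248)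
theorem F237721 : act 8 n53069 = n51916 := d33_2 (iv F229179) D53069 F232724
def n53070 : Q := act 9 n51179
theorem D53070 : act 9 n51179 = n53070 := rfl
theorem F237722 : act 0 n53070 = n51181 := d8_1 D53070 (iv D51181) D51179
theorem F237723 : act 1 n53070 = n51883 := d16_1 D53070 (iv D51883) (iv F229174)
theorem F237724 : act 2 n53070 = n51914 := d23_1 D53070 (iv D51914) (iv F229175)
theorem F237725 : act 3 n53070 = n51234 := d29_1 D53070 (iv D51234) (iv F229176)
theorem F237726 : act 5 n53070 = n51195 := d38_1 D53070 (iv D51195) (iv F229177)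
theorem F237727 : act 6 n53070 = n52249 := d41_1 D53070 (iv D52249) (iv F229178)
def n53071 : Q := act 3 n51180
theorem D53071 : act 3 n51180 = n53071 := rfl
theorem F237728 : act 1 n53071 = n51182 := d10_1 D53071 (iv D51182) (iv F229180)
theorem F237729 : act 4 n53071 = n51235 := d24_2 D51180 D53071 (iv D51235) (iv D49133) (iv F219663)
theorem F237730 : act 6 n53071 = n52250 := d26_2 (iv F229182) D53071 (iv D52250)
theorem F237731 : act 7 n53071 = n52108 := d27_2 F237685 D53071 (iv F237683)
theorem F237732 : act 2 n53071 = n52512 := d46_4 F219586 (iv F219664) D51180 D53071 F235042 (iv F231813) F231816 D51726 F231895 F222548 F212466 F191415 (iv F211387) F211392 F211390 (iv F210984) (iv D47134) F199406 F124551 F124550 (iv D20186) (iv F86591) F199408 F123816 F123815 F86540 F86539 D20060 F86595 (iv F87076) F203618 (iv F101123) (iv F202549) F142591 F99584 F202316 (iv F64700) F64699 F45411 F32000 F22634 D7028 (iv F45476) (iv F64326) D21380 D31153 D45449 D48301 F215965 F215963 F189323 F135404 F206347 F202951 F124226 F86876 F86874 D20299 (iv F125291) (iv F179807)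 (iv F213091) (iv F219582)
theorem F237733 : act 5 n52558 = n53071 := d36_3 F237731 F233612 (iv F235183)
def n53072 : Q := act 5 n51180
theorem D53072 : act 5 n51180 = n53072 := rfl
theorem F237734 : act 0 n53072 = n51865 := d4_1 D53072 (iv F237719) F237716
theorem F237735 : act 1 n53072 = n51183 := d12_1 D53072 (iv D51183) (iv F229180)
theorem F237736 : act 2 n53072 = n51916 := d19_1 D53072 (iv D51916) (iv F229181)
theorem F237737 : act 3 n53072 = n52558 := d25_1 D53072 F237733 (iv D53071)
theorem F237738 : act 4 n53072 = n51196 := d30_1 D53072 (iv D51196) (iv D49098) (iv F219664) D51180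
theorem F237739 : act 7 n53072 = n52565 := d36_2 F237685 D53072 (iv F237684)
theorem F237740 : act 8 n53072 = n51913 := d37_2 F237506 D53072 (iv F237504)
theorem F237741 : act 6 n52596 = n53072 := d40_3 F237740 F232715 (iv F235288)
def n53073 : Q := act 9 n51180
theorem D53073 : act 9 n51180 = n53073 := rfl
theorem F237742 : act 1 n53073 = n51184 := d16_1 D53073 (iv D51184) (iv F229180)
theorem F237743 : act 2 n53073 = n51917 := d23_1 D53073 (iv D51917) (iv F229181)
theorem F237744 : act 4 n53073 = n51181 := d34_1 D53073 (iv D51181) D51180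
theorem F237745 : act 6 n53073 = n52252 := d41_1 D53073 (iv D52252) (iv F229182)
def n53074 : Q := act 8 n51181
theorem D53074 : act 8 n51181 = n53074 := rfl
theorem F237746 : act 1 n53074 = n51185 := d15_1 D53074 (iv D51185) (iv F229183)
theorem F237747 : act 2 n53074 = n51918 := d22_1 D53074 (iv D51918) (iv F229184)
theorem F237748 : act 5 n53074 = n51198 := d37_1 D53074 (iv D51198) (iv F229186)
theorem F237749 : act 6 n53074 = n52253 := d40_1 D53074 (iv D52253) (iv F229187)
def n53075 : Q := act 8 n51182
theorem D53075 : act 8 n51182 = n53075 := rfl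
theorem F237750 : act 0 n53075 = n52200 := d7_1 D53075 F234040 (iv F229188)
theorem F237751 : act 2 n53075 = n52100 := d22_1 D53075 F233572 (iv F229189)
theorem F237752 : act 4 n53075 = n51238 := d33_1 D53075 (iv D51238) (iv F229190)
theorem F237753 : act 5 n53075 = n52026 := d37_1 D53075 F233226 F229193
theorem F237754 : act 6 n53075 = n52255 := d40_1 D53075 (iv D52255) (iv F229191)
theorem F237755 : act 7 n53075 = n52032 := d42_1 D53075 F233255 (iv F229192)
def n53076 : Q := act 9 n51182
theorem D53076 : act 9 n51182 = n53076 := rfl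
theorem F237756 : act 0 n53076 = n52640 := d8_1 D53076 (iv D52640) (iv F229188)
theorem F237757 : act 2 n53076 = n52105 := d23_1 D53076 (iv D52105) (iv F229189)
theorem F237758 : act 3 n53076 = n51184 := d29_1 D53076 (iv D51184) D51182
theorem F237759 : act 4 n53076 = n51239 := d34_1 D53076 (iv D51239) (iv F229190)
theorem F237760 : act 5 n53076 = n52560 := d38_1 D53076 (iv D52560) F229193
theorem F237761 : act 6 n53076 = n52256 := d41_1 D53076 (iv D52256) (iv F229191)
theorem F237762 : act 7 n53076 = n52110 := d43_1 D53076 (iv D52110) (iv F229192)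
def n53077 : Q := act 6 n51183
theorem D53077 : act 6 n51183 = n53077 := rfl
theorem F237763 : act 0 n53077 = n52027 := d5_1 D53077 F233229 (iv F229194)
theorem F237764 : act 1 n53077 = n52596 := d13_1 D53077 F237741 F237735
theorem F237765 : act 2 n53077 = n51186 := d20_1 D53077 (iv D51186) (iv F229195)
theorem F237766 : act 3 n53077 = n52553 := d26_1 D53077 F235168 (iv F229196)
theorem F237767 : act 4 n53077 = n51199 := d31_1 D53077 (iv D51199) (iv F229197)
theorem F237768 : act 5 n53077 = n52257 := d35_1 D53077 (iv D52257) (iv D50213) (iv F219667) D51183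
theorem F237769 : act 8 n53077 = n52563 := d40_2 F237520 D53077 F237521
def n53078 : Q := act 9 n51183
theorem D53078 : act 9 n51183 = n53078 := rfl
theorem F237770 : act 0 n53078 = n52639 := d8_1 D53078 (iv D52639) (iv F229194)
theorem F237771 : act 2 n53078 = n51187 := d23_1 D53078 (iv D51187) (iv F229195)
theorem F237772 : act 3 n53078 = n52560 := d29_1 D53078 (iv D52560) (iv F229196)
theorem F237773 : act 4 n53078 = n51200 := d34_1 D53078 (iv D51200) (iv F229197)
theorem F237774 : act 5 n53078 = n51184 := d38_1 D53078 (iv D51184) D51183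
theorem F237775 : act 7 n53078 = n52569 := d43_1 D53078 (iv D52569) (iv F229198)
def n53079 : Q := act 8 n51184
theorem D53079 : act 8 n51184 = n53079 := rfl
theorem F237776 : act 2 n53079 = n51188 := d22_1 D53079 (iv D51188) (iv F229199)
theorem F237777 : act 4 n53079 = n51185 := d33_1 D53079 (iv D51185) (iv F229200)
theorem F237778 : act 6 n53079 = n52259 := d40_1 D53079 (iv D52259) (iv F229201)
def n53080 : Q := act 3 n51185
theorem D53080 : act 3 n51185 = n53080 := rfl
theorem F237779 : act 5 n53080 = n51202 := d25_2 (iv F229203) D53080 (iv D51202)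
theorem F237780 : act 6 n53080 = n52260 := d26_2 (iv F229204) D53080 (iv D52260)
theorem F237781 : act 8 n53080 = n51241 := d28_2 D51185 D53080 (iv D51241) (iv D49137) (iv F219669)
def n53081 : Q := act 7 n51186
theorem D53081 : act 7 n51186 = n53081 := rfl
theorem F237782 : act 1 n53081 = n51926 := d14_1 D53081 (iv D51926) (iv F229205)
theorem F237783 : act 4 n53081 = n51203 := d32_1 D53081 (iv D51203) (iv F229206)
theorem F237784 : act 5 n53081 = n52261 := d36_1 D53081 (iv D52261) (iv F229207)
def n53082 : Q := act 9 n51186
theorem D53082 : act 9 n51186 = n53082 := rfl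
theorem F237785 : act 1 n53082 = n51927 := d16_1 D53082 (iv D51927) (iv F229205)
theorem F237786 : act 4 n53082 = n51204 := d34_1 D53082 (iv D51204) (iv F229206)
theorem F237787 : act 5 n53082 = n52262 := d38_1 D53082 (iv D52262) (iv F229207)
theorem F237788 : act 6 n53082 = n51187 := d41_1 D53082 (iv D51187) D51186
def n53083 : Q := act 8 n51187
theorem D53083 : act 8 n51187 = n53083 := rfl
theorem F237789 : act 1 n53083 = n51928 := d15_1 D53083 (iv D51928) (iv F229208)
theorem F237790 : act 4 n53083 = n51205 := d33_1 D53083 (iv D51205) (iv F229209)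
theorem F237791 : act 5 n53083 = n51188 := d37_1 D53083 (iv D51188) (iv F229210)
def n53084 : Q := act 3 n51188
theorem D53084 : act 3 n51188 = n53084 := rfl
theorem F237792 : act 1 n53084 = n51929 := d10_1 D53084 (iv D51929) (iv F229211)
theorem F237793 : act 6 n53084 = n52264 := d26_2 (iv F229213) D53084 (iv D52264)
def n53085 : Q := act 9 n51189
theorem D53085 : act 9 n51189 = n53085 := rfl
theorem F237794 : act 0 n53085 = n51190 := d8_1 D53085 (iv D51190) D51189
theorem F237795 : act 1 n53085 = n51876 := d16_1 D53085 (iv D51876) (iv F229214)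
theorem F237796 : act 2 n53085 = n51930 := d23_1 D53085 (iv D51930) (iv F229215)
theorem F237797 : act 3 n53085 = n51242 := d29_1 D53085 (iv D51242) (iv F229216)
theorem F237798 : act 4 n53085 = n51874 := d34_1 D53085 (iv D51874) (iv F229217)
theorem F237799 : act 6 n53085 = n53085 := d41_1 D53085 (iv D53085) F229218
theorem F237800 : act 7 n53085 = n51195 := d43_1 D53085 (iv D51195) (iv F229219)
def n53086 : Q := act 8 n51190
theorem D53086 : act 8 n51190 = n53086 := rfl
theorem F237801 : act 1 n53086 = n51191 := d15_1 D53086 (iv D51191) (iv F229221)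
theorem F237802 : act 2 n53086 = n51933 := d22_1 D53086 (iv D51933) (iv F229222)
theorem F237803 : act 4 n53086 = n52736 := d33_1 D53086 (iv D52736) (iv F229224)
theorem F237804 : act 6 n53086 = n53086 := d40_1 D53086 (iv D53086) F229225
theorem F237805 : act 7 n53086 = n51198 := d42_1 D53086 (iv D51198) (iv F229226)
def n53087 : Q := act 3 n51191
theorem D53087 : act 3 n51191 = n53087 := rfl
theorem F237806 : act 0 n53087 = n52748 := d2_1 D53087 (iv D52748) (iv F229227)
theorem F237807 : act 6 n53087 = n53087 := d26_2 F229230 D53087 (iv D53087)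
theorem F237808 : act 7 n53087 = n51202 := d27_2 (iv F229231) D53087 (iv D51202)
theorem F237809 : act 8 n53087 = n51244 := d28_2 D51191 D53087 (iv D51244) (iv D49141) (iv F219687)
def n53088 : Q := act 7 n51192
theorem D53088 : act 7 n51192 = n53088 := rfl
theorem F237810 : act 0 n53088 = n51653 := d6_1 D53088 F231514 (iv F229232)
theorem F237811 : act 1 n53088 = n51938 := d14_1 D53088 (iv D51938) (iv F229233)
theorem F237812 : act 2 n53088 = n51837 := d21_1 D53088 F232408 (iv F229234)
theorem F237813 : act 3 n53088 = n51218 := d27_1 D53088 (iv D51218) (iv F229235)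
theorem F237814 : act 5 n53088 = n53088 := d36_1 D53088 (iv D53088) F229236
theorem F237815 : act 6 n53088 = n51203 := d39_1 D53088 (iv D51203) (iv D49103) (iv F219695) D51192
theorem F237816 : act 8 n53088 = n52716 := d42_2 F237561 D53088 F237562
def n53089 : Q := act 9 n51192
theorem D53089 : act 9 n51192 = n53089 := rfl
theorem F237817 : act 0 n53089 = n51663 := d8_1 D53089 (iv D51663) (iv F229232)
theorem F237818 : act 1 n53089 = n51939 := d16_1 D53089 (iv D51939) (iv F229233)
theorem F237819 : act 2 n53089 = n51844 := d23_1 D53089 (iv D51844) (iv F229234)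
theorem F237820 : act 3 n53089 = n51219 := d29_1 D53089 (iv D51219) (iv F229235)
theorem F237821 : act 5 n53089 = n53089 := d38_1 D53089 (iv D53089) F229236
theorem F237822 : act 6 n53089 = n51193 := d41_1 D53089 (iv D51193) D51192
def n53090 : Q := act 8 n51193
theorem D53090 : act 8 n51193 = n53090 := rfl
theorem F237823 : act 0 n53090 = n52481 := d7_1 D53090 (iv D52481) (iv F229237)
theorem F237824 : act 1 n53090 = n51940 := d15_1 D53090 (iv D51940) (iv F229238)
theorem F237825 : act 2 n53090 = n52577 := d22_1 D53090 (iv D52577) (iv F229239)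
theorem F237826 : act 5 n53090 = n51194 := d37_1 D53090 (iv D51194) (iv F229241)
theorem F237827 : act 7 n53090 = n51205 := d42_1 D53090 (iv D51205) (iv F229242)
def n53091 : Q := act 3 n51194
theorem D53091 : act 3 n51194 = n53091 := rfl
theorem F237828 : act 0 n53091 = n52725 := d2_1 D53091 (iv D52725) (iv F229243)
theorem F237829 : act 1 n53091 = n51941 := d10_1 D53091 (iv D51941) (iv F229244)
theorem F237830 : act 6 n53091 = n53091 := d26_2 F229247 D53091 (iv D53091)
theorem F237831 : act 7 n53091 = n51206 := d27_2 (iv F229248) D53091 (iv D51206)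
theorem F237832 : act 8 n53091 = n51221 := d28_2 D51194 D53091 (iv D51221) (iv D49119) (iv F219699)
def n53092 : Q := act 8 n51195
theorem D53092 : act 8 n51195 = n53092 := rfl
theorem F237833 : act 0 n53092 = n51198 := d7_1 D53092 (iv D51198) (iv F229249)
theorem F237834 : act 1 n53092 = n51884 := d15_1 D53092 (iv D51884) (iv F229250)
theorem F237835 : act 2 n53092 = n51942 := d22_1 D53092 (iv D51942) (iv F229251)
theorem F237836 : act 4 n53092 = n51881 := d33_1 D53092 (iv D51881) (iv F229253)
theorem F237837 : act 6 n53092 = n51207 := d40_1 D53092 (iv D51207) (iv F229254)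
theorem F237838 : act 9 n53092 = n51945 := d44_2 D51195 D53092 (iv D51945) (iv D49854) (iv F219710)
def n53093 : Q := act 9 n51196
theorem D53093 : act 9 n51196 = n53093 := rfl
theorem F237839 : act 0 n53093 = n51866 := d8_1 D53093 (iv D51866) (iv F229255)
theorem F237840 : act 1 n53093 = n51200 := d16_1 D53093 (iv D51200) (iv F229256)
theorem F237841 : act 2 n53093 = n51944 := d23_1 D53093 (iv D51944) (iv F229257)
theorem F237842 : act 3 n53093 = n52019 := d29_1 D53093 (iv D52019) (iv F229258)
theorem F237843 : act 5 n53093 = n51197 := d38_1 D53093 (iv D51197) D51196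
theorem F237844 : act 6 n53093 = n52597 := d41_1 D53093 (iv D52597) (iv F229259)
theorem F237845 : act 7 n53093 = n52575 := d43_1 D53093 (iv D52575) (iv F229260)
def n53094 : Q := act 8 n51197
theorem D53094 : act 8 n51197 = n53094 := rfl
theorem F237846 : act 0 n53094 = n51881 := d7_1 D53094 (iv D51881) (iv F229262)
theorem F237847 : act 1 n53094 = n51201 := d15_1 D53094 (iv D51201) (iv F229263)
theorem F237848 : act 2 n53094 = n51945 := d22_1 D53094 (iv D51945) (iv F229264)
theorem F237849 : act 3 n53094 = n52574 := d28_1 D53094 (iv D52574) F226169 (iv F223783) (iv F229265)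
theorem F237850 : act 4 n53094 = n51198 := d33_1 D53094 (iv D51198) (iv F229266)
theorem F237851 : act 6 n53094 = n51208 := d40_1 D53094 (iv D51208) (iv F229267)
theorem F237852 : act 7 n53094 = n52736 := d42_1 D53094 (iv D52736) (iv F229268)
theorem F237853 : act 9 n53094 = n51942 := d44_2 D51197 D53094 (iv D51942) (iv D49852) (iv F219718)
def n53095 : Q := act 3 n51198
theorem D53095 : act 3 n51198 = n53095 := rfl
theorem F237854 : act 1 n53095 = n51202 := d10_1 D53095 (iv D51202) (iv F229269)
theorem F237855 : act 6 n53095 = n51209 := d26_2 (iv F229271) D53095 (iv D51209)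
theorem F237856 : act 8 n53095 = n51246 := d28_2 D51198 D53095 (iv D51246) (iv D49143) (iv F219721)
def n53096 : Q := act 7 n51199
theorem D53096 : act 7 n51199 = n53096 := rfl
theorem F237857 : act 0 n53096 = n51982 := d6_1 D53096 F232966 (iv F229272)
theorem F237858 : act 1 n53096 = n52022 := d14_1 D53096 F233203 (iv F229273)
theorem F237859 : act 2 n53096 = n51203 := d21_1 D53096 (iv D51203) (iv F229274)
theorem F237860 : act 3 n53096 = n51834 := d27_1 D53096 F232388 (iv F229275)
theorem F237861 : act 5 n53096 = n51210 := d36_1 D53096 (iv D51210) (iv F229276)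
theorem F237862 : act 6 n53096 = n51837 := d39_1 D53096 F232408 F223052 (iv F219726) D51199
theorem F237863 : act 8 n53096 = n52020 := d42_2 (iv F229277) D53096 F233190
def n53097 : Q := act 9 n51199
theorem D53097 : act 9 n51199 = n53097 := rfl
theorem F237864 : act 0 n53097 = n51993 := d8_1 D53097 F233032 (iv F229272)
theorem F237865 : act 1 n53097 = n52597 := d16_1 D53097 (iv D52597) (iv F229273)
theorem F237866 : act 2 n53097 = n51204 := d23_1 D53097 (iv D51204) (iv F229274)
theorem F237867 : act 3 n53097 = n51991 := d29_1 D53097 F233024 (iv F229275)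
theorem F237868 : act 5 n53097 = n51211 := d38_1 D53097 (iv D51211) (iv F229276)
theorem F237869 : act 6 n53097 = n51200 := d41_1 D53097 (iv D51200) D51199
def n53098 : Q := act 8 n51200
theorem D53098 : act 8 n51200 = n53098 := rfl
theorem F237870 : act 0 n53098 = n52655 := d7_1 D53098 F235466 (iv F229278)
theorem F237871 : act 2 n53098 = n51205 := d22_1 D53098 (iv D51205) (iv F229279)
theorem F237872 : act 3 n53098 = n52649 := d28_1 D53098 (iv D52649) F226394 (iv F226189) (iv F229280)
theorem F237873 : act 5 n53098 = n51201 := d37_1 D53098 (iv D51201) (iv F229281)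
theorem F237874 : act 7 n53098 = n52577 := d42_1 D53098 (iv D52577) (iv F229282)
def n53099 : Q := act 4 n51202
theorem D53099 : act 4 n51202 = n53099 := rfl
theorem F237875 : act 0 n53099 = n52684 := d3_1 D53099 (iv F237332) F237329
theorem F237876 : act 3 n53099 = n52681 := d24_1 D53099 F235530 (iv F229285) F229286 D51202
theorem F237877 : act 6 n53099 = n51213 := d31_2 (iv F229289) D53099 (iv D51213)
theorem F237878 : act 8 n53099 = n51247 := d33_2 (iv F229290) D53099 (iv D51247)
def n53100 : Q := act 9 n51203
theorem D53100 : act 9 n51203 = n53100 := rfl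
theorem F237879 : act 1 n53100 = n51952 := d16_1 D53100 (iv D51952) (iv F229291)
theorem F237880 : act 3 n53100 = n51222 := d29_1 D53100 (iv D51222) (iv F229292)
theorem F237881 : act 5 n53100 = n51214 := d38_1 D53100 (iv D51214) (iv F229293)
theorem F237882 : act 7 n53100 = n51204 := d43_1 D53100 (iv D51204) D51203
def n53101 : Q := act 8 n51204
theorem D53101 : act 8 n51204 = n53101 := rfl
theorem F237883 : act 1 n53101 = n51953 := d15_1 D53101 (iv D51953) (iv F229294)
theorem F237884 : act 5 n53101 = n51215 := d37_1 D53101 (iv D51215) (iv F229296)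
theorem F237885 : act 6 n53101 = n51205 := d40_1 D53101 (iv D51205) (iv F229297)
def n53102 : Q := act 3 n51205
theorem D53102 : act 3 n51205 = n53102 := rfl
theorem F237886 : act 1 n53102 = n51954 := d10_1 D53102 (iv D51954) (iv F229298)
theorem F237887 : act 5 n53102 = n51206 := d25_2 (iv F229299) D53102 (iv D51206)
theorem F237888 : act 8 n53102 = n51224 := d28_2 D51205 D53102 (iv D51224) (iv D49122) (iv F219739)
def n53103 : Q := act 2 n51206
theorem D53103 : act 2 n51206 = n53103 := rfl
theorem F237889 : act 0 n53103 = n52280 := d1_1 D53103 (iv F237354) F237353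
theorem F237890 : act 3 n53103 = n52276 := d17_2 D51206 D53103 F234326 (iv F229285) F229284
theorem F237891 : act 6 n53103 = n51217 := d20_2 (iv F229301) D53103 (iv D51217)
theorem F237892 : act 8 n53103 = n51225 := d22_2 (iv F229302) D53103 (iv D51225)
def n53104 : Q := act 3 n51207
theorem D53104 : act 3 n51207 = n53104 := rfl
theorem F237893 : act 0 n53104 = n51209 := d2_1 D53104 (iv D51209) (iv F229303)
theorem F237894 : act 1 n53104 = n51892 := d10_1 D53104 (iv D51892) (iv F229304)
theorem F237895 : act 2 n53104 = n51216 := d17_1 D53104 (iv D51216) (iv F229337) F229338 (iv F229305)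
theorem F237896 : act 4 n53104 = n52120 := d24_2 (iv F229306) D53104 (iv D52120) F224401 (iv F223177)
theorem F237897 : act 5 n53104 = n51217 := d25_2 (iv F229307) D53104 F229360
theorem F237898 : act 7 n53104 = n53104 := d27_2 F229308 D53104 (iv D53104)
theorem F237899 : act 8 n53104 = n51228 := d28_2 D51207 D53104 F229412 (iv D49145) (iv F219747)
theorem F237900 : act 9 n53104 = n51959 := d29_2 (iv F229309) D53104 (iv D51959)
def n53105 : Q := act 4 n51209
theorem D53105 : act 4 n51209 = n53105 := rfl
theorem F237901 : act 0 n53105 = n52120 := d3_1 D53105 (iv F237896) F237893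
theorem F237902 : act 1 n53105 = n51213 := d11_1 D53105 (iv D51213) (iv F229318)
theorem F237903 : act 2 n53105 = n51750 := d18_1 D53105 (iv F237375) F237374
theorem F237904 : act 3 n53105 = n52119 := d24_1 D53105 F233663 (iv F229313) F229314 D51209
theorem F237905 : act 5 n53105 = n51751 := d30_2 (iv F229319) D53105 F232009 (iv F232901) F232900
theorem F237906 : act 7 n53105 = n53105 := d32_2 F229320 D53105 (iv D53105)
theorem F237907 : act 8 n53105 = n51248 := d33_2 (iv F229321) D53105 (iv D51248)
theorem F237908 : act 9 n53105 = n52295 := d34_2 F237627 D53105 (iv F237623)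
def n53106 : Q := act 9 n51210
theorem D53106 : act 9 n51210 = n53106 := rfl
theorem F237909 : act 0 n53106 = n52000 := d8_1 D53106 F233063 (iv F229322)
theorem F237910 : act 1 n53106 = n52612 := d16_1 D53106 (iv D52612) (iv F229323)
theorem F237911 : act 2 n53106 = n51214 := d23_1 D53106 (iv D51214) (iv F229324)
theorem F237912 : act 3 n53106 = n51999 := d29_1 D53106 F233059 (iv F229325)
theorem F237913 : act 4 n53106 = n52293 := d34_1 D53106 (iv D52293) (iv F229326)
theorem F237914 : act 6 n53106 = n53106 := d41_1 D53106 (iv D53106) F229327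
theorem F237915 : act 7 n53106 = n51211 := d43_1 D53106 (iv D51211) D51210
def n53107 : Q := act 8 n51211
theorem D53107 : act 8 n51211 = n53107 := rfl
theorem F237916 : act 0 n53107 = n51946 := d7_1 D53107 F232823 (iv F229329)
theorem F237917 : act 1 n53107 = n52616 := d15_1 D53107 (iv D52616) (iv F229330)
theorem F237918 : act 2 n53107 = n51215 := d22_1 D53107 (iv D51215) (iv F229331)
theorem F237919 : act 3 n53107 = n51942 := d28_1 D53107 (iv D51942) F223297 D49915 (iv F229332)
theorem F237920 : act 4 n53107 = n52294 := d33_1 D53107 (iv D52294) (iv F229333)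
theorem F237921 : act 6 n53107 = n51212 := d40_1 D53107 (iv D51212) (iv F229334)
theorem F237922 : act 9 n53107 = n52574 := d44_2 D51211 D53107 (iv D52574) (iv D50583) (iv F219767)
def n53108 : Q := act 5 n51213
theorem D53108 : act 5 n51213 = n53108 := rfl
theorem F237923 : act 0 n53108 = n52693 := d4_1 D53108 F235564 (iv F229343)
theorem F237924 : act 1 n53108 = n51751 := d12_1 D53108 (iv F237905) F237902
theorem F237925 : act 3 n53108 = n52231 := d25_1 D53108 F234172 (iv F229344)
theorem F237926 : act 4 n53108 = n51968 := d30_1 D53108 F232905 (iv D50249) (iv F219780) D51213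
theorem F237927 : act 7 n53108 = n53108 := d36_2 F229345 D53108 (iv D53108)
theorem F237928 : act 8 n53108 = n51249 := d37_2 (iv F229346) D53108 (iv D51249)
theorem F237929 : act 9 n53108 = n52292 := d38_2 F237633 D53108 F237634
def n53109 : Q := act 8 n51214
theorem D53109 : act 8 n51214 = n53109 := rfl
theorem F237930 : act 1 n53109 = n51965 := d15_1 D53109 (iv D51965) (iv F229347)
theorem F237931 : act 4 n53109 = n52296 := d33_1 D53109 (iv D52296) (iv F229349)
theorem F237932 : act 6 n53109 = n53109 := d40_1 D53109 (iv D53109) F229350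
theorem F237933 : act 7 n53109 = n51215 := d42_1 D53109 (iv D51215) (iv F229351)
def n53110 : Q := act 3 n51215
theorem D53110 : act 3 n51215 = n53110 := rfl
theorem F237934 : act 1 n53110 = n51966 := d10_1 D53110 (iv D51966) (iv F229352)
theorem F237935 : act 6 n53110 = n51216 := d26_2 (iv F229354) D53110 (iv D51216)
theorem F237936 : act 8 n53110 = n51227 := d28_2 D51215 D53110 (iv D51227) (iv D49125) (iv F219788)
def n53111 : Q := act 1 n51217
theorem D53111 : act 1 n51217 = n53111 := rfl
theorem F237937 : act 0 n53111 = n52174 := d0_1 D53111 F233901 F224663 (iv F225090) (iv F229359)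
theorem F237938 : act 2 n53111 = n51968 := d9_2 D51217 D53111 (iv D51968) (iv D49877) (iv F219795)
theorem F237939 : act 3 n53111 = n51891 := d10_2 (iv F229360) D53111 F232636
theorem F237940 : act 5 n53111 = n51892 := d12_2 F237897 D53111 (iv F237894)
theorem F237941 : act 7 n53111 = n53111 := d14_2 F229361 D53111 (iv D53111)
theorem F237942 : act 8 n53111 = n51229 := d15_2 (iv F229362) D53111 (iv D51229)
theorem F237943 : act 9 n53111 = n51962 := d16_2 F237661 D53111 F237662
def n53112 : Q := act 9 n51218
theorem D53112 : act 9 n51218 = n53112 := rfl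
theorem F237944 : act 0 n53112 = n51654 := d8_1 D53112 (iv D51654) (iv F229363)
theorem F237945 : act 1 n53112 = n51969 := d16_1 D53112 (iv D51969) (iv F229364)
theorem F237946 : act 2 n53112 = n51553 := d23_1 D53112 (iv D51553) (iv F229365)
theorem F237947 : act 4 n53112 = n51552 := d34_1 D53112 (iv D51552) (iv F229366)
theorem F237948 : act 5 n53112 = n53112 := d38_1 D53112 (iv D53112) F229367
theorem F237949 : act 6 n53112 = n51222 := d41_1 D53112 (iv D51222) (iv F229368)
theorem F237950 : act 7 n53112 = n51219 := d43_1 D53112 (iv D51219) D51218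
def n53113 : Q := act 8 n51219
theorem D53113 : act 8 n51219 = n53113 := rfl
theorem F237951 : act 0 n53113 = n51664 := d7_1 D53113 (iv D51664) (iv F229370)
theorem F237952 : act 1 n53113 = n51970 := d15_1 D53113 (iv D51970) (iv F229371)
theorem F237953 : act 2 n53113 = n51557 := d22_1 D53113 (iv D51557) (iv F229372)
theorem F237954 : act 4 n53113 = n51556 := d33_1 D53113 (iv D51556) (iv F229373)
theorem F237955 : act 5 n53113 = n53113 := d37_1 D53113 (iv D53113) F229374
theorem F237956 : act 6 n53113 = n51220 := d40_1 D53113 (iv D51220) (iv F229375)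
theorem F237957 : act 9 n53113 = n53113 := d44_2 D51219 D53113 (iv D53113) (iv D51219) F219803
def n53114 : Q := act 3 n51220
theorem D53114 : act 3 n51220 = n53114 := rfl
theorem F237958 : act 0 n53114 = n52482 := d2_1 D53114 (iv D52482) (iv F229376)
theorem F237959 : act 1 n53114 = n51971 := d10_1 D53114 (iv D51971) (iv F229377)
theorem F237960 : act 5 n53114 = n51221 := d25_2 (iv F229380) D53114 (iv D51221)
theorem F237961 : act 7 n53114 = n51224 := d27_2 (iv F229381) D53114 (iv D51224)
theorem F237962 : act 9 n53114 = n53114 := d29_2 F229382 D53114 (iv D53114)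
def n53115 : Q := act 2 n51221
theorem D53115 : act 2 n51221 = n53115 := rfl
theorem F237963 : act 0 n53115 = n52313 := d1_1 D53115 F234461 (iv F229383)
theorem F237964 : act 3 n53115 = n52312 := d17_2 D51221 D53115 F234455 F225219 (iv F219812)
theorem F237965 : act 6 n53115 = n53115 := d20_2 F229385 D53115 (iv D53115)
theorem F237966 : act 7 n53115 = n51225 := d21_2 (iv F229386) D53115 (iv D51225)
theorem F237967 : act 9 n53115 = n53115 := d23_2 F229387 D53115 (iv D53115)
def n53116 : Q := act 8 n51222
theorem D53116 : act 8 n51222 = n53116 := rfl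
theorem F237968 : act 1 n53116 = n51973 := d15_1 D53116 (iv D51973) (iv F229388)
theorem F237969 : act 4 n53116 = n52726 := d33_1 D53116 F236541 F236537
theorem F237970 : act 5 n53116 = n51226 := d37_1 D53116 (iv D51226) (iv F229389)
theorem F237971 : act 7 n53116 = n51223 := d42_1 D53116 (iv D51223) (iv F229390)
theorem F237972 : act 9 n53116 = n53116 := d44_2 D51222 D53116 (iv D53116) (iv D51222) F219819
def n53117 : Q := act 3 n51223
theorem D53117 : act 3 n51223 = n53117 := rfl
theorem F237973 : act 1 n53117 = n51974 := d10_1 D53117 (iv D51974) (iv F229391)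
theorem F237974 : act 5 n53117 = n51227 := d25_2 (iv F229392) D53117 (iv D51227)
theorem F237975 : act 6 n53117 = n51224 := d26_2 (iv F229393) D53117 (iv D51224)
theorem F237976 : act 9 n53117 = n53117 := d29_2 F229394 D53117 (iv D53117)
def n53118 : Q := act 2 n51224
theorem D53118 : act 2 n51224 = n53118 := rfl
theorem F237977 : act 0 n53118 = n52307 := d1_1 D53118 (iv F237395) F237394
theorem F237978 : act 3 n53118 = n52303 := d17_2 D51224 D53118 F234431 (iv F227208) F227207
theorem F237979 : act 5 n53118 = n51225 := d19_2 (iv F229396) D53118 (iv D51225)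
theorem F237980 : act 9 n53118 = n53118 := d23_2 F229397 D53118 (iv D53118)
def n53119 : Q := act 4 n51224
theorem D53119 : act 4 n51224 = n53119 := rfl
theorem F237981 : act 1 n53119 = n51976 := d11_1 D53119 (iv D51976) (iv F229395)
theorem F237982 : act 9 n53119 = n53119 := d34_2 F229397 D53119 (iv D53119)
def n53120 : Q := act 1 n51225
theorem D53120 : act 1 n51225 = n53120 := rfl
theorem F237983 : act 0 n53120 = n52196 := d0_1 D53120 F234018 F224774 (iv F225185) (iv F229398)
theorem F237984 : act 2 n53120 = n51977 := d9_2 D51225 D53120 (iv D51977) (iv D49885) (iv F219826)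
theorem F237985 : act 3 n53120 = n52195 := d10_2 (iv F229399) D53120 F234013
theorem F237986 : act 6 n53120 = n51229 := d13_2 (iv F229400) D53120 (iv D51229)
theorem F237987 : act 9 n53120 = n53120 := d16_2 F229401 D53120 (iv D53120)
def n53121 : Q := act 3 n51226
theorem D53121 : act 3 n51226 = n53121 := rfl
theorem F237988 : act 1 n53121 = n51978 := d10_1 D53121 (iv D51978) (iv F229402)
theorem F237989 : act 4 n53121 = n52723 := d24_2 (iv F229403) D53121 (iv D52723) F226750 (iv F219846)
theorem F237990 : act 6 n53121 = n53121 := d26_2 F229404 D53121 (iv D53121)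
theorem F237991 : act 7 n53121 = n51227 := d27_2 (iv F229405) D53121 (iv D51227)
theorem F237992 : act 9 n53121 = n53121 := d29_2 F229406 D53121 (iv D53121)
def n53122 : Q := act 2 n51227
theorem D53122 : act 2 n51227 = n53122 := rfl
theorem F237993 : act 0 n53122 = n51246 := d1_1 D53122 (iv F237408) F237406
theorem F237994 : act 1 n53122 = n52129 := d9_1 D53122 F233710 F232947 (iv D51979) (iv F229407)
theorem F237995 : act 3 n53122 = n51245 := d17_2 D51227 D53122 F229509 (iv F227223) F227222
theorem F237996 : act 4 n53122 = n52128 := d18_2 F237178 D53122 (iv F237177)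
theorem F237997 : act 6 n53122 = n51228 := d20_2 (iv F229408) D53122 (iv D51228)
theorem F237998 : act 9 n53122 = n53122 := d23_2 F229409 D53122 (iv D53122)
def n53123 : Q := act 9 n51230
theorem D53123 : act 9 n51230 = n53123 := rfl
theorem F237999 : act 0 n53123 = n51231 := d8_1 D53123 (iv D51231) D51230
theorem F238000 : act 1 n53123 = n52739 := d16_1 D53123 F235736 (iv F229423)
theorem F238001 : act 2 n53123 = n51250 := d23_1 D53123 (iv D51250) (iv F229424)
theorem F238002 : act 4 n53123 = n52121 := d34_1 D53123 (iv D52121) (iv F229425)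
theorem F238003 : act 5 n53123 = n51242 := d38_1 D53123 (iv D51242) (iv F229426)
theorem F238004 : act 6 n53123 = n52704 := d41_1 D53123 (iv D52704) (iv F229427)
theorem F238005 : act 7 n53123 = n51234 := d43_1 D53123 (iv D51234) (iv F229428)
def n53124 : Q := act 8 n51231
theorem D53124 : act 8 n51231 = n53124 := rfl
theorem F238006 : act 1 n53124 = n51232 := d15_1 D53124 (iv D51232) (iv F229430)
theorem F238007 : act 2 n53124 = n51251 := d22_1 D53124 (iv D51251) (iv F229431)
theorem F238008 : act 4 n53124 = n52122 := d33_1 D53124 (iv D52122) (iv F229432)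
theorem F238009 : act 5 n53124 = n51243 := d37_1 D53124 (iv D51243) (iv F229433)
theorem F238010 : act 7 n53124 = n51237 := d42_1 D53124 (iv D51237) (iv F229434)
theorem F238011 : act 9 n53124 = n53124 := d44_2 D51231 D53124 (iv D53124) (iv D51231) F219855
def n53125 : Q := act 3 n51232
theorem D53125 : act 3 n51232 = n53125 := rfl
theorem F238012 : act 0 n53125 = n52750 := d2_1 D53125 (iv D52750) (iv F229435)
theorem F238013 : act 5 n53125 = n51244 := d25_2 (iv F229438) D53125 (iv D51244)
theorem F238014 : act 7 n53125 = n51241 := d27_2 (iv F229439) D53125 (iv D51241)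
theorem F238015 : act 9 n53125 = n53125 := d29_2 F229440 D53125 (iv D53125)
def n53126 : Q := act 3 n51233
theorem D53126 : act 3 n51233 = n53126 := rfl
theorem F238016 : act 0 n53126 = n51235 := d2_1 D53126 (iv D51235) (iv F229441)
theorem F238017 : act 1 n53126 = n52670 := d10_1 D53126 F235491 (iv F229442)
theorem F238018 : act 2 n53126 = n51845 := d17_1 D53126 (iv D51845) F223068 (iv F219968) (iv F229443)
theorem F238019 : act 5 n53126 = n52113 := d25_2 (iv F229444) D53126 F233630
theorem F238020 : act 6 n53126 = n51847 := d26_2 (iv F229445) D53126 F232467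
theorem F238021 : act 7 n53126 = n52107 := d27_2 (iv F229446) D53126 F233606
theorem F238022 : act 8 n52281 = n53126 := d42_0 F238021 F233609 D52281
def n53127 : Q := act 9 n51233
theorem D53127 : act 9 n51233 = n53127 := rfl
theorem F238023 : act 0 n53127 = n51236 := d8_1 D53127 (iv D51236) (iv F229441)
theorem F238024 : act 1 n53127 = n52738 := d16_1 D53127 F235731 (iv F229442)
theorem F238025 : act 2 n53127 = n51253 := d23_1 D53127 (iv D51253) (iv F229443)
theorem F238026 : act 4 n53127 = n51234 := d34_1 D53127 (iv D51234) D51233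
theorem F238027 : act 5 n53127 = n52124 := d38_1 D53127 (iv D52124) (iv F229444)
theorem F238028 : act 6 n53127 = n52009 := d41_1 D53127 (iv D52009) (iv F229445)
theorem F238029 : act 7 n53127 = n52121 := d43_1 D53127 (iv D52121) (iv F229446)
def n53128 : Q := act 8 n51234
theorem D53128 : act 8 n51234 = n53128 := rfl
theorem F238030 : act 0 n53128 = n51237 := d7_1 D53128 (iv D51237) (iv F229448)
theorem F238031 : act 1 n53128 = n52735 := d15_1 D53128 F235720 (iv F229449)
theorem F238032 : act 2 n53128 = n51254 := d22_1 D53128 (iv D51254) (iv F229450)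
theorem F238033 : act 5 n53128 = n51245 := d37_1 D53128 (iv D51245) (iv F229451)
theorem F238034 : act 6 n53128 = n52303 := d40_1 D53128 (iv D52303) (iv F229452)
theorem F238035 : act 9 n53128 = n53128 := d44_2 D51234 D53128 (iv D53128) (iv D51234) F219871
def n53129 : Q := act 8 n51235
theorem D53129 : act 8 n51235 = n53129 := rfl
theorem F238036 : act 0 n53129 = n52281 := d7_1 D53129 F238022 F238016
theorem F238037 : act 1 n53129 = n51238 := d15_1 D53129 (iv D51238) (iv F229453)
theorem F238038 : act 2 n53129 = n51678 := d22_1 D53129 F231655 (iv F229454)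
theorem F238039 : act 3 n53129 = n53129 := d28_1 D53129 (iv D53129) (iv D51235) F219877 D51235
theorem F238040 : act 5 n53129 = n51683 := d37_1 D53129 F231683 (iv F229455)
theorem F238041 : act 6 n53129 = n52304 := d40_1 D53129 (iv D52304) (iv F229456)
theorem F238042 : act 7 n53129 = n51680 := d42_1 D53129 F231667 (iv F229457)
def n53130 : Q := act 9 n51235
theorem D53130 : act 9 n51235 = n53130 := rfl
theorem F238043 : act 1 n53130 = n51239 := d16_1 D53130 (iv D51239) (iv F229453)
theorem F238044 : act 2 n53130 = n52513 := d23_1 D53130 (iv D52513) (iv F229454)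
theorem F238045 : act 3 n53130 = n51236 := d29_1 D53130 (iv D51236) D51235
theorem F238046 : act 5 n53130 = n52114 := d38_1 D53130 (iv D52114) (iv F229455)
theorem F238047 : act 6 n53130 = n52305 := d41_1 D53130 (iv D52305) (iv F229456)
theorem F238048 : act 7 n53130 = n52109 := d43_1 D53130 (iv D52109) (iv F229457)
def n53131 : Q := act 8 n51236
theorem D53131 : act 8 n51236 = n53131 := rfl
theorem F238049 : act 1 n53131 = n51240 := d15_1 D53131 (iv D51240) (iv F229458)
theorem F238050 : act 2 n53131 = n51255 := d22_1 D53131 (iv D51255) (iv F229459)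
theorem F238051 : act 4 n53131 = n51237 := d33_1 D53131 (iv D51237) (iv F229460)
theorem F238052 : act 5 n53131 = n52125 := d37_1 D53131 (iv D52125) (iv F229461)
theorem F238053 : act 6 n53131 = n52306 := d40_1 D53131 (iv D52306) (iv F229462)
theorem F238054 : act 7 n53131 = n52122 := d42_1 D53131 (iv D52122) (iv F229463)
theorem F238055 : act 9 n53131 = n53131 := d44_2 D51236 D53131 (iv D53131) (iv D51236) F219877
def n53132 : Q := act 3 n51237
theorem D53132 : act 3 n51237 = n53132 := rfl
theorem F238056 : act 1 n53132 = n51241 := d10_1 D53132 (iv D51241) (iv F229464)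
theorem F238057 : act 5 n53132 = n51246 := d25_2 (iv F229466) D53132 (iv D51246)
theorem F238058 : act 6 n53132 = n52307 := d26_2 (iv F229467) D53132 (iv D52307)
theorem F238059 : act 9 n53132 = n53132 := d29_2 F229468 D53132 (iv D53132)
def n53133 : Q := act 9 n51238
theorem D53133 : act 9 n51238 = n53133 := rfl
theorem F238060 : act 0 n53133 = n52201 := d8_1 D53133 (iv D52201) (iv F229469)
theorem F238061 : act 2 n53133 = n52101 := d23_1 D53133 (iv D52101) (iv F229470)
theorem F238062 : act 3 n53133 = n53133 := d29_1 D53133 (iv D53133) F229471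
theorem F238063 : act 5 n53133 = n52001 := d38_1 D53133 F233069 (iv F229472)
theorem F238064 : act 6 n53133 = n52308 := d41_1 D53133 (iv D52308) (iv F229473)
theorem F238065 : act 7 n53133 = n52002 := d43_1 D53133 F233073 (iv F229474)
def n53134 : Q := act 8 n51239
theorem D53134 : act 8 n51239 = n53134 := rfl
theorem F238066 : act 0 n53134 = n52675 := d7_1 D53134 (iv D52675) (iv F229475)
theorem F238067 : act 2 n53134 = n52106 := d22_1 D53134 (iv D52106) (iv F229476)
theorem F238068 : act 5 n53134 = n52115 := d37_1 D53134 (iv D52115) (iv F229478)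
theorem F238069 : act 6 n53134 = n52309 := d40_1 D53134 (iv D52309) (iv F229479)
theorem F238070 : act 7 n53134 = n52111 := d42_1 D53134 (iv D52111) (iv F229480)
def n53135 : Q := act 3 n51240
theorem D53135 : act 3 n51240 = n53135 := rfl
theorem F238071 : act 0 n53135 = n52756 := d2_1 D53135 (iv D52756) (iv F229481)
theorem F238072 : act 2 n53135 = n52302 := d17_1 D53135 (iv D52302) F225134 (iv F219899) (iv F229482)
theorem F238073 : act 5 n53135 = n52126 := d25_2 (iv F229484) D53135 (iv D52126)
theorem F238074 : act 6 n53135 = n52310 := d26_2 (iv F229485) D53135 (iv D52310)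
theorem F238075 : act 7 n53135 = n52123 := d27_2 (iv F229486) D53135 (iv D52123)
theorem F238076 : act 9 n53135 = n53135 := d29_2 F229487 D53135 (iv D53135)
def n53136 : Q := act 4 n51241
theorem D53136 : act 4 n51241 = n53136 := rfl
theorem F238077 : act 6 n53136 = n52311 := d31_2 (iv F229489) D53136 (iv D52311)
theorem F238078 : act 9 n53136 = n53136 := d34_2 F229490 D53136 (iv D53136)
def n53137 : Q := act 8 n51242
theorem D53137 : act 8 n51242 = n53137 := rfl
theorem F238079 : act 0 n53137 = n51243 := d7_1 D53137 (iv D51243) (iv F229491)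
theorem F238080 : act 1 n53137 = n52734 := d15_1 D53137 F235716 (iv F229492)
theorem F238081 : act 2 n53137 = n51257 := d22_1 D53137 (iv D51257) (iv F229493)
theorem F238082 : act 4 n53137 = n52731 := d33_1 D53137 (iv D52731) (iv F229494)
theorem F238083 : act 6 n53137 = n53137 := d40_1 D53137 (iv D53137) F229495
theorem F238084 : act 7 n53137 = n51245 := d42_1 D53137 (iv D51245) (iv F229496)
theorem F238085 : act 9 n53137 = n53137 := d44_2 D51242 D53137 (iv D53137) (iv D51242) F219910
def n53138 : Q := act 3 n51243
theorem D53138 : act 3 n51243 = n53138 := rfl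
theorem F238086 : act 1 n53138 = n51244 := d10_1 D53138 (iv D51244) (iv F229497)
theorem F238087 : act 6 n53138 = n53138 := d26_2 F229500 D53138 (iv D53138)
theorem F238088 : act 7 n53138 = n51246 := d27_2 (iv F229501) D53138 (iv D51246)
theorem F238089 : act 9 n53138 = n53138 := d29_2 F229502 D53138 (iv D53138)
def n53139 : Q := act 4 n51244
theorem D53139 : act 4 n51244 = n53139 := rfl
theorem F238090 : act 0 n53139 = n52752 := d3_1 D53139 (iv D52752) (iv F229503)
theorem F238091 : act 3 n53139 = n52733 := d24_1 D53139 (iv D52733) (iv D50786) (iv F219918) D51244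
theorem F238092 : act 6 n53139 = n53139 := d31_2 F229504 D53139 (iv D53139)
theorem F238093 : act 7 n53139 = n51247 := d32_2 (iv F229505) D53139 (iv D51247)
theorem F238094 : act 9 n53139 = n53139 := d34_2 F229506 D53139 (iv D53139)
def n53140 : Q := act 4 n51246
theorem D53140 : act 4 n51246 = n53140 := rfl
theorem F238095 : act 0 n53140 = n52128 := d3_1 D53140 (iv F237996) F237993
theorem F238096 : act 1 n53140 = n51247 := d11_1 D53140 (iv D51247) (iv F229513)
theorem F238097 : act 2 n53140 = n51760 := d18_1 D53140 (iv F237409) F237408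
theorem F238098 : act 3 n53140 = n52127 := d24_1 D53140 F233703 (iv F227262) F227263 D51246
theorem F238099 : act 6 n53140 = n51248 := d31_2 (iv F229514) D53140 (iv D51248)
theorem F238100 : act 9 n53140 = n53140 := d34_2 F229515 D53140 (iv D53140)
def n53141 : Q := act 5 n51247
theorem D53141 : act 5 n51247 = n53141 := rfl
theorem F238101 : act 0 n53141 = n52759 := d4_1 D53141 F235813 (iv F229516)
theorem F238102 : act 3 n53141 = n52757 := d25_1 D53141 F235805 (iv F229517)
theorem F238103 : act 9 n53141 = n53141 := d38_2 F229519 D53141 (iv D53141)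
def n53142 : Q := act 6 n51249
theorem D53142 : act 6 n51249 = n53142 := rfl
theorem F238104 : act 0 n53142 = n52765 := d5_1 D53142 F235833 (iv F229527)
theorem F238105 : act 1 n53142 = n51758 := d13_1 D53142 F232041 (iv F229528)
theorem F238106 : act 3 n53142 = n52764 := d26_1 D53142 F235829 (iv F229529)
theorem F238107 : act 4 n53142 = n51977 := d31_1 D53142 F232937 (iv F229530)
theorem F238108 : act 9 n53142 = n53142 := d41_2 F229532 D53142 (iv D53142)
theorem F238109 : act 7 n52770 = n53142 := d27_0 F238106 F235830 D52770
def n53143 : Q := act 8 n51250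
theorem D53143 : act 8 n51250 = n53143 := rfl
theorem F238110 : act 0 n53143 = n51251 := d7_1 D53143 (iv D51251) (iv F229533)
theorem F238111 : act 1 n53143 = n53143 := d15_1 D53143 (iv D53143) F229534
theorem F238112 : act 4 n53143 = n52130 := d33_1 D53143 (iv D52130) (iv F229536)
theorem F238113 : act 5 n53143 = n51257 := d37_1 D53143 (iv D51257) (iv F229537)
theorem F238114 : act 6 n53143 = n52706 := d40_1 D53143 (iv D52706) (iv F229538)
theorem F238115 : act 7 n53143 = n51254 := d42_1 D53143 (iv D51254) (iv F229539)
theorem F238116 : act 9 n53143 = n53143 := d44_2 D51250 D53143 (iv D53143) (iv D51250) F219954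
def n53144 : Q := act 3 n51251
theorem D53144 : act 3 n51251 = n53144 := rfl
theorem F238117 : act 1 n53144 = n51252 := d10_1 D53144 (iv D51252) (iv F229540)
theorem F238118 : act 4 n53144 = n51479 := d24_2 (iv F229541) D53144 F230784 F233724 (iv D52131)
theorem F238119 : act 5 n53144 = n51258 := d25_2 (iv F229542) D53144 (iv D51258)
theorem F238120 : act 6 n53144 = n51656 := d26_2 F237005 D53144 (iv F237002)
theorem F238121 : act 7 n53144 = n51256 := d27_2 (iv F229543) D53144 (iv D51256)
theorem F238122 : act 8 n53144 = n51478 := d28_2 D51251 D53144 F230778 F223448 (iv F219956)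
theorem F238123 : act 9 n53144 = n53144 := d29_2 F229544 D53144 (iv D53144)
def n53145 : Q := act 8 n51253
theorem D53145 : act 8 n51253 = n53145 := rfl
theorem F238124 : act 0 n53145 = n51255 := d7_1 D53145 (iv D51255) (iv F229553)
theorem F238125 : act 1 n53145 = n53145 := d15_1 D53145 (iv D53145) F229554
theorem F238126 : act 3 n53145 = n52491 := d28_1 D53145 (iv D52491) (iv F233076) F233081 (iv F229555)
theorem F238127 : act 4 n53145 = n51254 := d33_1 D53145 (iv D51254) (iv F229556)
theorem F238128 : act 5 n53145 = n52132 := d37_1 D53145 (iv D52132) (iv F229557)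
theorem F238129 : act 6 n53145 = n52010 := d40_1 D53145 (iv D52010) (iv F229558)
theorem F238130 : act 7 n53145 = n52130 := d42_1 D53145 (iv D52130) (iv F229559)
theorem F238131 : act 9 n53145 = n53145 := d44_2 D51253 D53145 (iv D53145) (iv D51253) F219972
def n53146 : Q := act 9 n51267
theorem D53146 : act 9 n51267 = n53146 := rfl
theorem F238132 : act 0 n53146 = n51334 := d8_1 D53146 (iv D51334) (iv F229659)
theorem F238133 : act 1 n53146 = n51279 := d16_1 D53146 (iv D51279) (iv F229660)
theorem F238134 : act 2 n53146 = n51344 := d23_1 D53146 (iv D51344) (iv F229666)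
theorem F238135 : act 3 n53146 = n51268 := d29_1 D53146 (iv D51268) D51267
theorem F238136 : act 4 n53146 = n51294 := d34_1 D53146 (iv D51294) (iv F229661)
theorem F238137 : act 5 n53146 = n51311 := d38_1 D53146 (iv D51311) (iv F229662)
theorem F238138 : act 6 n53146 = n51269 := d41_1 D53146 (iv D51269) (iv F229663)
theorem F238139 : act 7 n53146 = n51451 := d43_1 D53146 (iv D51451) (iv F229664)
def n53147 : Q := act 8 n51269
theorem D53147 : act 8 n51269 = n53147 := rfl
theorem F238140 : act 0 n53147 = n52042 := d7_1 D53147 (iv D52042) (iv F229675)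
theorem F238141 : act 1 n53147 = n51282 := d15_1 D53147 (iv D51282) (iv F229676)
theorem F238142 : act 2 n53147 = n52332 := d22_1 D53147 (iv D52332) (iv F229677)
theorem F238143 : act 3 n53147 = n51307 := d28_1 D53147 (iv D51307) F220477 (iv F220147) (iv F229678)
theorem F238144 : act 4 n53147 = n52331 := d33_1 D53147 (iv D52331) (iv F229679)
theorem F238145 : act 5 n53147 = n52035 := d37_1 D53147 (iv D52035) (iv F229680)
theorem F238146 : act 7 n53147 = n51381 := d42_1 D53147 (iv D51381) (iv F229681)
theorem F238147 : act 9 n53147 = n52326 := d44_2 D51269 D53147 (iv D52326) (iv D50295) (iv F220139)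
def n53148 : Q := act 9 n51270
theorem D53148 : act 9 n51270 = n53148 := rfl
theorem F238148 : act 0 n53148 = n51285 := d8_1 D53148 (iv D51285) (iv F229682)
theorem F238149 : act 1 n53148 = n51317 := d16_1 D53148 (iv D51317) (iv F229683)
theorem F238150 : act 2 n53148 = n51289 := d23_1 D53148 (iv D51289) (iv F229688)
theorem F238151 : act 3 n53148 = n51271 := d29_1 D53148 (iv D51271) D51270
theorem F238152 : act 4 n53148 = n51287 := d34_1 D53148 (iv D51287) F229689
theorem F238153 : act 5 n53148 = n51304 := d38_1 D53148 (iv D51304) (iv F229684)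
theorem F238154 : act 6 n53148 = n51274 := d41_1 D53148 (iv D51274) (iv F229685)
theorem F238155 : act 7 n53148 = n51429 := d43_1 D53148 (iv D51429) (iv F229686)
def n53149 : Q := act 9 n51272
theorem D53149 : act 9 n51272 = n53149 := rfl
theorem F238156 : act 0 n53149 = n51287 := d8_1 D53149 (iv D51287) (iv F229698)
theorem F238157 : act 1 n53149 = n51353 := d16_1 D53149 (iv D51353) (iv F229699)
theorem F238158 : act 2 n53149 = n51274 := d23_1 D53149 (iv D51274) D51272
theorem F238159 : act 3 n53149 = n53149 := d29_1 D53149 (iv D53149) F229700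
theorem F238160 : act 4 n53149 = n51285 := d34_1 D53149 (iv D51285) F229705
theorem F238161 : act 5 n53149 = n51351 := d38_1 D53149 (iv D51351) (iv F229701)
theorem F238162 : act 6 n53149 = n51289 := d41_1 D53149 (iv D51289) (iv F229702)
theorem F238163 : act 7 n53149 = n51390 := d43_1 D53149 (iv D51390) (iv F229703)
def n53150 : Q := act 9 n51273
theorem D53150 : act 9 n51273 = n53150 := rfl
theorem F238164 : act 0 n53150 = n51289 := d8_1 D53150 (iv D51289) (iv F229706)
theorem F238165 : act 1 n53150 = n52040 := d16_1 D53150 (iv D52040) (iv F229707)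
theorem F238166 : act 2 n53150 = n51285 := d23_1 D53150 (iv D51285) (iv F229708)
theorem F238167 : act 3 n53150 = n53150 := d29_1 D53150 (iv D53150) F229709
theorem F238168 : act 4 n53150 = n51274 := d34_1 D53150 (iv D51274) D51273
theorem F238169 : act 5 n53150 = n52038 := d38_1 D53150 (iv D52038) (iv F229710)
theorem F238170 : act 6 n53150 = n51287 := d41_1 D53150 (iv D51287) (iv F229711)
theorem F238171 : act 7 n53150 = n51391 := d43_1 D53150 (iv D51391) (iv F229712)
def n53151 : Q := act 8 n51274
theorem D53151 : act 8 n51274 = n53151 := rfl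
theorem F238172 : act 0 n53151 = n51290 := d7_1 D53151 (iv D51290) (iv F229714)
theorem F238173 : act 1 n53151 = n52326 := d15_1 D53151 (iv D52326) (iv F229715)
theorem F238174 : act 3 n53151 = n51316 := d28_1 D53151 (iv D51316) F220502 (iv F220190) (iv F229716)
theorem F238175 : act 5 n53151 = n52316 := d37_1 D53151 (iv D52316) (iv F229717)
theorem F238176 : act 7 n53151 = n51392 := d42_1 D53151 (iv D51392) (iv F229718)
theorem F238177 : act 9 n53151 = n51282 := d44_2 D51274 D53151 (iv D51282) (iv D49192) (iv F220183)
def n53152 : Q := act 9 n51276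
theorem D53152 : act 9 n51276 = n53152 := rfl
theorem F238178 : act 0 n53152 = n51291 := d8_1 D53152 (iv D51291) (iv F229727)
theorem F238179 : act 1 n53152 = n51311 := d16_1 D53152 (iv D51311) (iv F229728)
theorem F238180 : act 2 n53152 = n51296 := d23_1 D53152 (iv D51296) (iv F229729)
theorem F238181 : act 3 n53152 = n51277 := d29_1 D53152 (iv D51277) D51276
theorem F238182 : act 4 n53152 = n51306 := d34_1 D53152 (iv D51306) F229734
theorem F238183 : act 5 n53152 = n51279 := d38_1 D53152 (iv D51279) (iv F229730)
theorem F238184 : act 6 n53152 = n51303 := d41_1 D53152 (iv D51303) (iv F229731)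
theorem F238185 : act 7 n53152 = n51454 := d43_1 D53152 (iv D51454) (iv F229732)
def n53153 : Q := act 8 n51279
theorem D53153 : act 8 n51279 = n53153 := rfl
theorem F238186 : act 0 n53153 = n51293 := d7_1 D53153 (iv D51293) (iv F229750)
theorem F238187 : act 2 n53153 = n51297 := d22_1 D53153 (iv D51297) (iv F229751)
theorem F238188 : act 3 n53153 = n51322 := d28_1 D53153 (iv D51322) F220543 (iv F220220) (iv F229752)
theorem F238189 : act 4 n53153 = n51295 := d33_1 D53153 (iv D51295) (iv F229753)
theorem F238190 : act 6 n53153 = n51282 := d40_1 D53153 (iv D51282) (iv F229754)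
theorem F238191 : act 7 n53153 = n51455 := d42_1 D53153 (iv D51455) (iv F229755)
def n53154 : Q := act 8 n51280
theorem D53154 : act 8 n51280 = n53154 := rfl
theorem F238192 : act 0 n53154 = n51295 := d7_1 D53154 (iv D51295) (iv F229756)
theorem F238193 : act 2 n53154 = n51282 := d22_1 D53154 (iv D51282) (iv F229757)
theorem F238194 : act 4 n53154 = n51293 := d33_1 D53154 (iv D51293) (iv F229759)
theorem F238195 : act 5 n53154 = n52318 := d37_1 D53154 (iv D52318) (iv F229760)
theorem F238196 : act 6 n53154 = n51297 := d40_1 D53154 (iv D51297) (iv F229761)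
theorem F238197 : act 7 n53154 = n51405 := d42_1 D53154 (iv D51405) (iv F229762)
def n53155 : Q := act 8 n51281
theorem D53155 : act 8 n51281 = n53155 := rfl
theorem F238198 : act 0 n53155 = n51297 := d7_1 D53155 (iv D51297) (iv F229763)
theorem F238199 : act 1 n53155 = n52331 := d15_1 D53155 (iv D52331) (iv F229764)
theorem F238200 : act 2 n53155 = n51293 := d22_1 D53155 (iv D51293) (iv F229765)
theorem F238201 : act 4 n53155 = n51282 := d33_1 D53155 (iv D51282) (iv F229767)
theorem F238202 : act 5 n53155 = n52333 := d37_1 D53155 (iv D52333) (iv F229768)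
theorem F238203 : act 6 n53155 = n51295 := d40_1 D53155 (iv D51295) (iv F229769)
theorem F238204 : act 7 n53155 = n51406 := d42_1 D53155 (iv D51406) (iv F229770)
def n53156 : Q := act 3 n51283
theorem D53156 : act 3 n51283 = n53156 := rfl
theorem F238205 : act 0 n53156 = n51299 := d2_1 D53156 (iv D51299) (iv F229775)
theorem F238206 : act 1 n53156 = n52341 := d10_1 D53156 (iv D52341) (iv F229776)
theorem F238207 : act 2 n53156 = n51362 := d17_1 D53156 (iv D51362) F220783 (iv F220421) (iv F229777)
theorem F238208 : act 4 n53156 = n51329 := d24_2 (iv F229778) D53156 (iv D51329) F220586 (iv F220254)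
theorem F238209 : act 5 n53156 = n52342 := d25_2 (iv F229779) D53156 (iv D52342)
theorem F238210 : act 6 n53156 = n51301 := d26_2 (iv F229780) D53156 (iv D51301)
theorem F238211 : act 7 n53156 = n51409 := d27_2 (iv F229781) D53156 (iv D51409)
theorem F238212 : act 9 n53156 = n53156 := d29_2 F229782 D53156 (iv D53156)
def n53157 : Q := act 3 n51284
theorem D53157 : act 3 n51284 = n53157 := rfl
theorem F238213 : act 0 n53157 = n51301 := d2_1 D53157 (iv D51301) (iv F229783)
theorem F238214 : act 1 n53157 = n52328 := d10_1 D53157 F234522 (iv F229784)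
theorem F238215 : act 2 n53157 = n51333 := d17_1 D53157 (iv D51333) F220613 (iv F220296) (iv F229785)
theorem F238216 : act 4 n53157 = n51359 := d24_2 (iv F229786) D53157 (iv D51359) F220757 (iv F220389)
theorem F238217 : act 5 n53157 = n52320 := d25_2 (iv F229787) D53157 (iv D52320)
theorem F238218 : act 6 n53157 = n51299 := d26_2 (iv F229788) D53157 (iv D51299)
theorem F238219 : act 7 n53157 = n51414 := d27_2 (iv F229789) D53157 (iv D51414)
theorem F238220 : act 9 n53157 = n53157 := d29_2 F229790 D53157 (iv D53157)
def n53158 : Q := act 8 n51285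
theorem D53158 : act 8 n51285 = n53158 := rfl
theorem F238221 : act 1 n53158 = n52338 := d15_1 D53158 (iv D52338) (iv F229791)
theorem F238222 : act 3 n53158 = n51338 := d28_1 D53158 (iv D51338) F220659 (iv F220311) (iv F229792)
theorem F238223 : act 5 n53158 = n52336 := d37_1 D53158 (iv D52336) (iv F229793)
theorem F238224 : act 6 n53158 = n51290 := d40_1 D53158 (iv D51290) (iv F229794)
theorem F238225 : act 7 n53158 = n52466 := d42_1 D53158 (iv D52466) (iv F229795)
theorem F238226 : act 9 n53158 = n51293 := d44_2 D51285 D53158 (iv D51293) (iv D49212) (iv F220304)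
def n53159 : Q := act 9 n51286
theorem D53159 : act 9 n51286 = n53159 := rfl
theorem F238227 : act 0 n53159 = n51344 := d8_1 D53159 (iv D51344) (iv F229796)
theorem F238228 : act 1 n53159 = n51287 := d16_1 D53159 (iv D51287) D51286
theorem F238229 : act 2 n53159 = n51334 := d23_1 D53159 (iv D51334) (iv F229797)
theorem F238230 : act 3 n53159 = n53159 := d29_1 D53159 (iv D53159) F229798
theorem F238231 : act 4 n53159 = n51317 := d34_1 D53159 (iv D51317) (iv F229799)
theorem F238232 : act 5 n53159 = n51336 := d38_1 D53159 (iv D51336) (iv F229800)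
theorem F238233 : act 6 n53159 = n52040 := d41_1 D53159 (iv D52040) (iv F229801)
theorem F238234 : act 7 n53159 = n51428 := d43_1 D53159 (iv D51428) (iv F229802)
def n53160 : Q := act 8 n51287
theorem D53160 : act 8 n51287 = n53160 := rfl
theorem F238235 : act 2 n53160 = n51290 := d22_1 D53160 (iv D51290) (iv F229804)
theorem F238236 : act 5 n53160 = n52321 := d37_1 D53160 (iv D52321) (iv F229806)
theorem F238237 : act 7 n53160 = n51430 := d42_1 D53160 (iv D51430) (iv F229807)
theorem F238238 : act 9 n53160 = n51295 := d44_2 D51287 D53160 (iv D51295) (iv D49214) (iv F220315)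
def n53161 : Q := act 9 n51288
theorem D53161 : act 9 n51288 = n53161 := rfl
theorem F238239 : act 0 n53161 = n52038 := d8_1 D53161 (iv D52038) (iv F229808)
theorem F238240 : act 1 n53161 = n51315 := d16_1 D53161 (iv D51315) (iv F229809)
theorem F238241 : act 2 n53161 = n51304 := d23_1 D53161 (iv D51304) (iv F229810)
theorem F238242 : act 3 n53161 = n53161 := d29_1 D53161 (iv D53161) F229811
theorem F238243 : act 4 n53161 = n51303 := d34_1 D53161 (iv D51303) (iv F229812)
theorem F238244 : act 5 n53161 = n51289 := d38_1 D53161 (iv D51289) D51288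
theorem F238245 : act 6 n53161 = n51306 := d41_1 D53161 (iv D51306) (iv F229813)
theorem F238246 : act 7 n53161 = n51432 := d43_1 D53161 (iv D51432) (iv F229814)
def n53162 : Q := act 8 n51289
theorem D53162 : act 8 n51289 = n53162 := rfl
theorem F238247 : act 4 n53162 = n51290 := d33_1 D53162 (iv D51290) (iv F229817)
theorem F238248 : act 7 n53162 = n51433 := d42_1 D53162 (iv D51433) (iv F229818)
theorem F238249 : act 9 n53162 = n51297 := d44_2 D51289 D53162 (iv D51297) (iv D49216) (iv F220318)
def n53163 : Q := act 8 n51291
theorem D53163 : act 8 n51291 = n53163 := rfl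
theorem F238250 : act 1 n53163 = n52037 := d15_1 D53163 (iv D52037) (iv F229823)
theorem F238251 : act 2 n53163 = n52333 := d22_1 D53163 (iv D52333) (iv F229824)
theorem F238252 : act 3 n53163 = n51345 := d28_1 D53163 (iv D51345) F220691 (iv F220341) (iv F229825)
theorem F238253 : act 4 n53163 = n52329 := d33_1 D53163 (iv D52329) (iv F229826)
theorem F238254 : act 5 n53163 = n51293 := d37_1 D53163 (iv D51293) (iv F229827)
theorem F238255 : act 6 n53163 = n52039 := d40_1 D53163 (iv D52039) (iv F229828)
theorem F238256 : act 7 n53163 = n52423 := d42_1 D53163 (iv D52423) (iv F229829)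
theorem F238257 : act 9 n53163 = n52336 := d44_2 D51291 D53163 (iv D52336) (iv D50308) (iv F220334)
def n53164 : Q := act 8 n51292
theorem D53164 : act 8 n51292 = n53164 := rfl
theorem F238258 : act 0 n53164 = n51455 := d7_1 D53164 (iv D51455) (iv F229830)
theorem F238259 : act 1 n53164 = n52049 := d15_1 D53164 F233349 (iv F229831)
theorem F238260 : act 2 n53164 = n51406 := d22_1 D53164 (iv D51406) (iv F229832)
theorem F238261 : act 3 n53164 = n51346 := d28_1 D53164 (iv D51346) F220696 (iv F220355) (iv F229833)
theorem F238262 : act 4 n53164 = n51405 := d33_1 D53164 (iv D51405) (iv F229834)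
theorem F238263 : act 5 n53164 = n52423 := d37_1 D53164 (iv D52423) (iv F229835)
theorem F238264 : act 6 n53164 = n51444 := d40_1 D53164 (iv D51444) (iv F229836)
theorem F238265 : act 7 n53164 = n51293 := d42_1 D53164 (iv D51293) (iv F229837)
theorem F238266 : act 9 n53164 = n52466 := d44_2 D51292 D53164 (iv D52466) (iv D50450) (iv F220349)
def n53165 : Q := act 8 n51294
theorem D53165 : act 8 n51294 = n53165 := rfl
theorem F238267 : act 1 n53165 = n51295 := d15_1 D53165 (iv D51295) (iv F229840)
theorem F238268 : act 2 n53165 = n51345 := d22_1 D53165 (iv D51345) (iv F229841)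
theorem F238269 : act 5 n53165 = n51348 := d37_1 D53165 (iv D51348) (iv F229843)
theorem F238270 : act 6 n53165 = n52331 := d40_1 D53165 (iv D52331) (iv F229844)
theorem F238271 : act 7 n53165 = n51452 := d42_1 D53165 (iv D51452) (iv F229845)
def n53166 : Q := act 3 n51295
theorem D53166 : act 3 n51295 = n53166 := rfl
theorem F238272 : act 2 n53166 = n51355 := d17_1 D53166 (iv D51355) F220744 (iv F220376) (iv F229846)
theorem F238273 : act 5 n53166 = n52323 := d25_2 (iv F229847) D53166 (iv D52323)
theorem F238274 : act 7 n53166 = n51456 := d27_2 (iv F229848) D53166 (iv D51456)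
theorem F238275 : act 8 n53166 = n51301 := d28_2 D51295 D53166 (iv D51301) (iv D49226) (iv F220364)
def n53167 : Q := act 8 n51296
theorem D53167 : act 8 n51296 = n53167 := rfl
theorem F238276 : act 0 n53167 = n52333 := d7_1 D53167 (iv D52333) (iv F229849)
theorem F238277 : act 1 n53167 = n51326 := d15_1 D53167 (iv D51326) (iv F229850)
theorem F238278 : act 4 n53167 = n51307 := d33_1 D53167 (iv D51307) (iv F229852)
theorem F238279 : act 5 n53167 = n51297 := d37_1 D53167 (iv D51297) (iv F229853)
theorem F238280 : act 6 n53167 = n52335 := d40_1 D53167 (iv D52335) (iv F229854)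
theorem F238281 : act 7 n53167 = n51458 := d42_1 D53167 (iv D51458) (iv F229855)
def n53168 : Q := act 3 n51297
theorem D53168 : act 3 n51297 = n53168 := rfl
theorem F238282 : act 4 n53168 = n51358 := d24_2 (iv F229856) D53168 (iv D51358) F220753 (iv F220376)
theorem F238283 : act 7 n53168 = n51459 := d27_2 (iv F229857) D53168 (iv D51459)
theorem F238284 : act 8 n53168 = n51299 := d28_2 D51297 D53168 (iv D51299) (iv D49221) (iv F220373)
def n53169 : Q := act 3 n51298
theorem D53169 : act 3 n51298 = n53169 := rfl
theorem F238285 : act 0 n53169 = n52342 := d2_1 D53169 (iv D52342) (iv F229858)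
theorem F238286 : act 1 n53169 = n51329 := d10_1 D53169 (iv D51329) (iv F229859)
theorem F238287 : act 2 n53169 = n52344 := d17_1 D53169 F234565 (iv F229883) F229884 (iv F229860)
theorem F238288 : act 4 n53169 = n52341 := d24_2 (iv F229861) D53169 (iv D52341) (iv F227428) F227427
theorem F238289 : act 5 n53169 = n51299 := d25_2 (iv F229862) D53169 (iv D51299)
theorem F238290 : act 6 n53169 = n52343 := d26_2 (iv F229863) D53169 (iv D52343)
theorem F238291 : act 7 n53169 = n51464 := d27_2 (iv F229864) D53169 (iv D51464)
theorem F238292 : act 9 n53169 = n53169 := d29_2 F229865 D53169 (iv D53169)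
def n53170 : Q := act 2 n51299
theorem D53170 : act 2 n51299 = n53170 := rfl
theorem F238293 : act 0 n53170 = n51362 := d1_1 D53170 (iv F238207) F238205
theorem F238294 : act 3 n53170 = n51331 := d17_2 D51299 D53170 F230048 (iv F229617) F229616
theorem F238295 : act 4 n53170 = n51361 := d18_2 (iv F229866) D53170 (iv D51361)
theorem F238296 : act 5 n53170 = n52344 := d19_2 F238289 D53170 (iv F238287)
theorem F238297 : act 6 n53170 = n51333 := d20_2 F238218 D53170 (iv F238215)
theorem F238298 : act 7 n53170 = n51465 := d21_2 (iv F229867) D53170 (iv D51465)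
theorem F238299 : act 9 n53170 = n53170 := d23_2 F229868 D53170 (iv D53170)
theorem F238300 : act 1 n52345 = n53170 := d14_3 F238298 (iv F230708) (iv F234569)
def n53171 : Q := act 3 n51300
theorem D53171 : act 3 n51300 = n53171 := rfl
theorem F238301 : act 0 n53171 = n52344 := d2_1 D53171 F234565 (iv F229869)
theorem F238302 : act 1 n53171 = n51301 := d10_1 D53171 (iv D51301) (iv F229870)
theorem F238303 : act 2 n53171 = n52342 := d17_1 D53171 (iv D52342) F225347 (iv F220442) (iv F229871)
theorem F238304 : act 4 n53171 = n52343 := d24_2 (iv F229872) D53171 (iv D52343) F225355 D50747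
theorem F238305 : act 5 n53171 = n51362 := d25_2 (iv F229873) D53171 (iv D51362)
theorem F238306 : act 6 n53171 = n52341 := d26_2 (iv F229874) D53171 (iv D52341)
theorem F238307 : act 7 n53171 = n51475 := d27_2 (iv F229875) D53171 (iv D51475)
theorem F238308 : act 9 n53171 = n53171 := d29_2 F229876 D53171 (iv D53171)
def n53172 : Q := act 4 n51301
theorem D53172 : act 4 n51301 = n53172 := rfl
theorem F238309 : act 0 n53172 = n51359 := d3_1 D53172 (iv F238216) F238213
theorem F238310 : act 1 n53172 = n52343 := d11_1 D53172 (iv F238304) F238302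
theorem F238311 : act 2 n53172 = n51365 := d18_1 D53172 (iv D51365) (iv F229877)
theorem F238312 : act 3 n53172 = n51328 := d24_1 D53172 F230031 (iv F229635) F229636 D51301
theorem F238313 : act 6 n53172 = n51329 := d31_2 F238210 D53172 (iv F238208)
theorem F238314 : act 7 n53172 = n51476 := d32_2 (iv F229879) D53172 (iv D51476)
theorem F238315 : act 9 n53172 = n53172 := d34_2 F229880 D53172 (iv D53172)
def n53173 : Q := act 8 n51303
theorem D53173 : act 8 n51303 = n53173 := rfl
theorem F238316 : act 0 n53173 = n52039 := d7_1 D53173 (iv D52039) (iv F229890)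
theorem F238317 : act 1 n53173 = n51316 := d15_1 D53173 (iv D51316) (iv F229891)
theorem F238318 : act 2 n53173 = n52335 := d22_1 D53173 (iv D52335) (iv F229892)
theorem F238319 : act 3 n53173 = n52326 := d28_1 D53173 (iv D52326) F225280 (iv F220459) (iv F229893)
theorem F238320 : act 5 n53173 = n52317 := d37_1 D53173 (iv D52317) (iv F229894)
theorem F238321 : act 7 n53173 = n51485 := d42_1 D53173 (iv D51485) (iv F229895)
theorem F238322 : act 9 n53173 = n51307 := d44_2 D51303 D53173 (iv D51307) (iv D49234) (iv F220452)
def n53174 : Q := act 8 n51304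
theorem D53174 : act 8 n51304 = n53174 := rfl
theorem F238323 : act 0 n53174 = n52336 := d7_1 D53174 (iv D52336) (iv F229896)
theorem F238324 : act 1 n53174 = n51322 := d15_1 D53174 (iv D51322) (iv F229897)
theorem F238325 : act 4 n53174 = n52335 := d33_1 D53174 (iv D52335) (iv F229899)
theorem F238326 : act 6 n53174 = n51307 := d40_1 D53174 (iv D51307) (iv F229900)
theorem F238327 : act 7 n53174 = n52464 := d42_1 D53174 (iv D52464) (iv F229901)
def n53175 : Q := act 9 n51305
theorem D53175 : act 9 n51305 = n53175 := rfl
theorem F238328 : act 0 n53175 = n51337 := d8_1 D53175 (iv D51337) (iv F229902)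
theorem F238329 : act 1 n53175 = n51306 := d16_1 D53175 (iv D51306) D51305
theorem F238330 : act 2 n53175 = n51323 := d23_1 D53175 (iv D51323) (iv F229903)
theorem F238331 : act 3 n53175 = n53175 := d29_1 D53175 (iv D53175) F229904
theorem F238332 : act 4 n53175 = n51311 := d34_1 D53175 (iv D51311) (iv F229905)
theorem F238333 : act 5 n53175 = n51347 := d38_1 D53175 (iv D51347) (iv F229906)
theorem F238334 : act 6 n53175 = n51315 := d41_1 D53175 (iv D51315) (iv F229907)
theorem F238335 : act 7 n53175 = n51495 := d43_1 D53175 (iv D51495) (iv F229908)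
def n53176 : Q := act 8 n51306
theorem D53176 : act 8 n51306 = n53176 := rfl
theorem F238336 : act 0 n53176 = n52329 := d7_1 D53176 (iv D52329) (iv F229910)
theorem F238337 : act 2 n53176 = n51307 := d22_1 D53176 (iv D51307) (iv F229911)
theorem F238338 : act 5 n53176 = n52322 := d37_1 D53176 (iv D52322) (iv F229913)
theorem F238339 : act 7 n53176 = n51496 := d42_1 D53176 (iv D51496) (iv F229914)
theorem F238340 : act 9 n53176 = n52335 := d44_2 D51306 D53176 (iv D52335) (iv D50307) (iv F220475)
def n53177 : Q := act 9 n51308
theorem D53177 : act 9 n51308 = n53177 := rfl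
theorem F238341 : act 0 n53177 = n51335 := d8_1 D53177 (iv D51335) (iv F229918)
theorem F238342 : act 1 n53177 = n51454 := d16_1 D53177 (iv D51454) (iv F229919)
theorem F238343 : act 2 n53177 = n51540 := d23_1 D53177 (iv D51540) (iv F229924)
theorem F238344 : act 3 n53177 = n51309 := d29_1 D53177 (iv D51309) D51308
theorem F238345 : act 4 n53177 = n51495 := d34_1 D53177 (iv D51495) F229925
theorem F238346 : act 5 n53177 = n51451 := d38_1 D53177 (iv D51451) (iv F229920)
theorem F238347 : act 6 n53177 = n51506 := d41_1 D53177 (iv D51506) (iv F229921)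
theorem F238348 : act 7 n53177 = n51311 := d43_1 D53177 (iv D51311) (iv F229922)
def n53178 : Q := act 9 n51310
theorem D53178 : act 9 n51310 = n53178 := rfl
theorem F238349 : act 0 n53178 = n51336 := d8_1 D53178 (iv D51336) (iv F229933)
theorem F238350 : act 1 n53178 = n51324 := d16_1 D53178 (iv D51324) (iv F229934)
theorem F238351 : act 2 n53178 = n51311 := d23_1 D53178 (iv D51311) D51310
theorem F238352 : act 3 n53178 = n53178 := d29_1 D53178 (iv D53178) F229935
theorem F238353 : act 4 n53178 = n51323 := d34_1 D53178 (iv D51323) (iv F229936)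
theorem F238354 : act 5 n53178 = n51344 := d38_1 D53178 (iv D51344) (iv F229937)
theorem F238355 : act 6 n53178 = n51314 := d41_1 D53178 (iv D51314) (iv F229938)
theorem F238356 : act 7 n53178 = n51540 := d43_1 D53178 (iv D51540) (iv F229939)
def n53179 : Q := act 8 n51311
theorem D53179 : act 8 n51311 = n53179 := rfl
theorem F238357 : act 0 n53179 = n51338 := d7_1 D53179 (iv D51338) (iv F229941)
theorem F238358 : act 6 n53179 = n51316 := d40_1 D53179 (iv D51316) (iv F229943)
theorem F238359 : act 9 n53179 = n51322 := d44_2 D51311 D53179 (iv D51322) (iv D49248) (iv F220487)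
def n53180 : Q := act 9 n51312
theorem D53180 : act 9 n51312 = n53180 := rfl
theorem F238360 : act 0 n53180 = n51347 := d8_1 D53180 (iv D51347) (iv F229944)
theorem F238361 : act 1 n53180 = n51314 := d16_1 D53180 (iv D51314) D51312
theorem F238362 : act 2 n53180 = n51321 := d23_1 D53180 (iv D51321) (iv F229945)
theorem F238363 : act 3 n53180 = n53180 := d29_1 D53180 (iv D53180) F229946
theorem F238364 : act 4 n53180 = n51319 := d34_1 D53180 (iv D51319) F229951
theorem F238365 : act 5 n53180 = n51337 := d38_1 D53180 (iv D51337) (iv F229947)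
theorem F238366 : act 6 n53180 = n51324 := d41_1 D53180 (iv D51324) (iv F229948)
theorem F238367 : act 7 n53180 = n51513 := d43_1 D53180 (iv D51513) (iv F229949)
def n53181 : Q := act 9 n51313
theorem D53181 : act 9 n51313 = n53181 := rfl
theorem F238368 : act 0 n53181 = n51340 := d8_1 D53181 (iv D51340) (iv F229952)
theorem F238369 : act 1 n53181 = n51319 := d16_1 D53181 (iv D51319) (iv F229953)
theorem F238370 : act 2 n53181 = n51315 := d23_1 D53181 (iv D51315) (iv F229954)
theorem F238371 : act 3 n53181 = n51330 := d29_1 D53181 (iv D51330) (iv F229959)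
theorem F238372 : act 4 n53181 = n51314 := d34_1 D53181 (iv D51314) D51313
theorem F238373 : act 5 n53181 = n51356 := d38_1 D53181 (iv D51356) (iv F229955)
theorem F238374 : act 6 n53181 = n51323 := d41_1 D53181 (iv D51323) (iv F229956)
theorem F238375 : act 7 n53181 = n51514 := d43_1 D53181 (iv D51514) (iv F229957)
def n53182 : Q := act 8 n51314
theorem D53182 : act 8 n51314 = n53182 := rfl
theorem F238376 : act 0 n53182 = n51341 := d7_1 D53182 (iv D51341) (iv F229960)
theorem F238377 : act 2 n53182 = n51316 := d22_1 D53182 (iv D51316) (iv F229961)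
theorem F238378 : act 5 n53182 = n52325 := d37_1 D53182 (iv D52325) (iv F229963)
theorem F238379 : act 7 n53182 = n51515 := d42_1 D53182 (iv D51515) (iv F229964)
theorem F238380 : act 9 n53182 = n51325 := d44_2 D51314 D53182 (iv D51325) (iv D49251) (iv F220496)
def n53183 : Q := act 8 n51315
theorem D53183 : act 8 n51315 = n53183 := rfl
theorem F238381 : act 0 n53183 = n51343 := d7_1 D53183 (iv D51343) (iv F229965)
theorem F238382 : act 4 n53183 = n51316 := d33_1 D53183 (iv D51316) (iv F229967)
theorem F238383 : act 7 n53183 = n51516 := d42_1 D53183 (iv D51516) (iv F229968)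
theorem F238384 : act 9 n53183 = n51326 := d44_2 D51315 D53183 (iv D51326) (iv D49252) (iv F220500)
def n53184 : Q := act 8 n51317
theorem D53184 : act 8 n51317 = n53184 := rfl
theorem F238385 : act 0 n53184 = n51345 := d7_1 D53184 (iv D51345) (iv F229973)
theorem F238386 : act 5 n53184 = n51322 := d37_1 D53184 (iv D51322) (iv F229975)
theorem F238387 : act 6 n53184 = n52326 := d40_1 D53184 (iv D52326) (iv F229976)
def n53185 : Q := act 8 n51318
theorem D53185 : act 8 n51318 = n53185 := rfl
theorem F238388 : act 0 n53185 = n51346 := d7_1 D53185 (iv D51346) (iv F229977)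
theorem F238389 : act 1 n53185 = n52464 := d15_1 D53185 (iv D52464) (iv F229978)
theorem F238390 : act 2 n53185 = n52383 := d22_1 D53185 (iv D52383) (iv F229979)
theorem F238391 : act 3 n53185 = n51455 := d28_1 D53185 (iv D51455) (iv F229745) F229749 (iv F229980)
theorem F238392 : act 4 n53185 = n52409 := d33_1 D53185 (iv D52409) (iv F229981)
theorem F238393 : act 6 n53185 = n51531 := d40_1 D53185 (iv D51531) (iv F229982)
theorem F238394 : act 7 n53185 = n51322 := d42_1 D53185 (iv D51322) (iv F229983)
def n53186 : Q := act 8 n51319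
theorem D53186 : act 8 n51319 = n53186 := rfl
theorem F238395 : act 0 n53186 = n51348 := d7_1 D53186 (iv D51348) (iv F229984)
theorem F238396 : act 2 n53186 = n51322 := d22_1 D53186 (iv D51322) (iv F229985)
theorem F238397 : act 6 n53186 = n51325 := d40_1 D53186 (iv D51325) (iv F229987)
theorem F238398 : act 7 n53186 = n52383 := d42_1 D53186 (iv D52383) (iv F229988)
def n53187 : Q := act 9 n51320
theorem D53187 : act 9 n51320 = n53187 := rfl
theorem F238399 : act 0 n53187 = n51323 := d8_1 D53187 (iv D51323) (iv F229989)
theorem F238400 : act 1 n53187 = n51350 := d16_1 D53187 (iv D51350) (iv F229990)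
theorem F238401 : act 2 n53187 = n51337 := d23_1 D53187 (iv D51337) (iv F229991)
theorem F238402 : act 3 n53187 = n51327 := d29_1 D53187 (iv D51327) (iv F229992)
theorem F238403 : act 4 n53187 = n51336 := d34_1 D53187 (iv D51336) (iv F229993)
theorem F238404 : act 5 n53187 = n51321 := d38_1 D53187 (iv D51321) D51320
theorem F238405 : act 6 n53187 = n51340 := d41_1 D53187 (iv D51340) (iv F229994)
theorem F238406 : act 7 n53187 = n51539 := d43_1 D53187 (iv D51539) (iv F229995)
def n53188 : Q := act 8 n51321
theorem D53188 : act 8 n51321 = n53188 := rfl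
theorem F238407 : act 0 n53188 = n51349 := d7_1 D53188 (iv D51349) (iv F229997)
theorem F238408 : act 1 n53188 = n52335 := d15_1 D53188 (iv D52335) (iv F229998)
theorem F238409 : act 4 n53188 = n51322 := d33_1 D53188 (iv D51322) (iv F230000)
theorem F238410 : act 6 n53188 = n51326 := d40_1 D53188 (iv D51326) (iv F230001)
theorem F238411 : act 7 n53188 = n52409 := d42_1 D53188 (iv D52409) (iv F230002)
def n53189 : Q := act 8 n51323
theorem D53189 : act 8 n51323 = n53189 := rfl
theorem F238412 : act 1 n53189 = n51325 := d15_1 D53189 (iv D51325) (iv F230005)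
theorem F238413 : act 5 n53189 = n51349 := d37_1 D53189 (iv D51349) (iv F230007)
theorem F238414 : act 7 n53189 = n51541 := d42_1 D53189 (iv D51541) (iv F230008)
def n53190 : Q := act 8 n51324
theorem D53190 : act 8 n51324 = n53190 := rfl
theorem F238415 : act 0 n53190 = n51354 := d7_1 D53190 (iv D51354) (iv F230009)
theorem F238416 : act 2 n53190 = n51326 := d22_1 D53190 (iv D51326) (iv F230010)
theorem F238417 : act 4 n53190 = n51325 := d33_1 D53190 (iv D51325) (iv F230012)
theorem F238418 : act 7 n53190 = n51542 := d42_1 D53190 (iv D51542) (iv F230013)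
def n53191 : Q := act 3 n51325
theorem D53191 : act 3 n51325 = n53191 := rfl
theorem F238419 : act 0 n53191 = n51355 := d2_1 D53191 (iv D51355) (iv F230014)
theorem F238420 : act 5 n53191 = n52327 := d25_2 (iv F230016) D53191 (iv D52327)
theorem F238421 : act 7 n53191 = n51543 := d27_2 (iv F230017) D53191 (iv D51543)
theorem F238422 : act 8 n53191 = n51333 := d28_2 D51325 D53191 (iv D51333) (iv D49262) (iv F220554)
def n53192 : Q := act 3 n51326
theorem D53192 : act 3 n51326 = n53192 := rfl
theorem F238423 : act 0 n53192 = n51358 := d2_1 D53192 (iv D51358) (iv F230018)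
theorem F238424 : act 7 n53192 = n51544 := d27_2 (iv F230020) D53192 (iv D51544)
theorem F238425 : act 8 n53192 = n51329 := d28_2 D51326 D53192 (iv D51329) (iv D49257) (iv F220558)
def n53193 : Q := act 8 n51327
theorem D53193 : act 8 n51327 = n53193 := rfl
theorem F238426 : act 0 n53193 = n51332 := d7_1 D53193 (iv D51332) (iv F230021)
theorem F238427 : act 1 n53193 = n51363 := d15_1 D53193 (iv D51363) (iv F230022)
theorem F238428 : act 2 n53193 = n53193 := d22_1 D53193 (iv D53193) F230023
theorem F238429 : act 4 n53193 = n53193 := d33_1 D53193 (iv D53193) F230024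
theorem F238430 : act 5 n53193 = n51328 := d37_1 D53193 (iv D51328) (iv F230025)
theorem F238431 : act 6 n53193 = n52319 := d40_1 D53193 (iv D52319) (iv F230026)
theorem F238432 : act 7 n53193 = n51563 := d42_1 D53193 (iv D51563) (iv F230027)
theorem F238433 : act 9 n53193 = n53193 := d44_2 D51327 D53193 (iv D53193) (iv D51327) F220570
def n53194 : Q := act 2 n51329
theorem D53194 : act 2 n51329 = n53194 := rfl
theorem F238434 : act 0 n53194 = n51361 := d1_1 D53194 (iv D51361) (iv F230035)
theorem F238435 : act 1 n53194 = n52324 := d9_1 D53194 F234508 (iv F234564) (iv F238287) F238286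
theorem F238436 : act 3 n53194 = n53194 := d17_2 D51329 D53194 (iv D53194) (iv D51329) F220585
theorem F238437 : act 4 n53194 = n51362 := d18_2 F238208 D53194 (iv F238207)
theorem F238438 : act 6 n53194 = n51365 := d20_2 F238313 D53194 (iv F238311)
theorem F238439 : act 7 n53194 = n51550 := d21_2 (iv F230036) D53194 (iv D51550)
theorem F238440 : act 9 n53194 = n53194 := d23_2 F230037 D53194 (iv D53194)
def n53195 : Q := act 3 n51332
theorem D53195 : act 3 n51332 = n53195 := rfl
theorem F238441 : act 1 n53195 = n51333 := d10_1 D53195 (iv D51333) (iv F230054)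
theorem F238442 : act 5 n53195 = n51359 := d25_2 (iv F230057) D53195 (iv D51359)
theorem F238443 : act 6 n53195 = n52345 := d26_2 (iv F230058) D53195 F234568
theorem F238444 : act 7 n53195 = n51564 := d27_2 (iv F230059) D53195 (iv D51564)
theorem F238445 : act 9 n53195 = n53195 := d29_2 F230060 D53195 (iv D53195)
def n53196 : Q := act 4 n51333
theorem D53196 : act 4 n51333 = n53196 := rfl
theorem F238446 : act 0 n53196 = n51365 := d3_1 D53196 (iv D51365) (iv F230061)
theorem F238447 : act 2 n53196 = n51359 := d18_1 D53196 (iv F238216) F238215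
theorem F238448 : act 3 n53196 = n53196 := d24_1 D53196 (iv D53196) (iv D51333) F220614 D51333
theorem F238449 : act 6 n53196 = n51361 := d31_2 F238297 D53196 (iv F238295)
theorem F238450 : act 7 n53196 = n51565 := d32_2 (iv F230063) D53196 (iv D51565)
theorem F238451 : act 9 n53196 = n53196 := d34_2 F230064 D53196 (iv D53196)
def n53197 : Q := act 8 n51334
theorem D53197 : act 8 n51334 = n53197 := rfl
theorem F238452 : act 1 n53197 = n52339 := d15_1 D53197 F234551 (iv F230065)
theorem F238453 : act 3 n53197 = n52336 := d28_1 D53197 (iv D52336) F225317 (iv F220635) (iv F230066)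
theorem F238454 : act 5 n53197 = n51338 := d37_1 D53197 (iv D51338) (iv F230067)
theorem F238455 : act 6 n53197 = n52042 := d40_1 D53197 (iv D52042) (iv F230068)
theorem F238456 : act 7 n53197 = n52467 := d42_1 D53197 F234914 (iv F230069)
theorem F238457 : act 9 n53197 = n51345 := d44_2 D51334 D53197 (iv D51345) (iv D49278) (iv F220628)
def n53198 : Q := act 8 n51335
theorem D53198 : act 8 n51335 = n53198 := rfl
theorem F238458 : act 1 n53198 = n52046 := d15_1 D53198 (iv D52046) (iv F230070)
theorem F238459 : act 2 n53198 = n52369 := d22_1 D53198 (iv D52369) (iv F230071)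
theorem F238460 : act 3 n53198 = n52466 := d28_1 D53198 (iv D52466) F225739 (iv F220648) (iv F230072)
theorem F238461 : act 4 n53198 = n52399 := d33_1 D53198 (iv D52399) (iv F230073)
theorem F238462 : act 5 n53198 = n52467 := d37_1 D53198 F234914 (iv F230074)
theorem F238463 : act 6 n53198 = n51585 := d40_1 D53198 (iv D51585) (iv F230075)
theorem F238464 : act 7 n53198 = n51338 := d42_1 D53198 (iv D51338) (iv F230076)
theorem F238465 : act 9 n53198 = n51346 := d44_2 D51335 D53198 (iv D51346) (iv D49279) (iv F220639)
def n53199 : Q := act 8 n51336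
theorem D53199 : act 8 n51336 = n53199 := rfl
theorem F238466 : act 1 n53199 = n52321 := d15_1 D53199 (iv D52321) (iv F230077)
theorem F238467 : act 2 n53199 = n51338 := d22_1 D53199 (iv D51338) (iv F230078)
theorem F238468 : act 6 n53199 = n51341 := d40_1 D53199 (iv D51341) (iv F230080)
theorem F238469 : act 7 n53199 = n52369 := d42_1 D53199 (iv D52369) (iv F230081)
theorem F238470 : act 9 n53199 = n51348 := d44_2 D51336 D53199 (iv D51348) (iv D49281) (iv F220653)
def n53200 : Q := act 8 n51337
theorem D53200 : act 8 n51337 = n53200 := rfl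
theorem F238471 : act 1 n53200 = n52325 := d15_1 D53200 (iv D52325) (iv F230082)
theorem F238472 : act 4 n53200 = n51338 := d33_1 D53200 (iv D51338) (iv F230084)
theorem F238473 : act 6 n53200 = n51343 := d40_1 D53200 (iv D51343) (iv F230085)
theorem F238474 : act 7 n53200 = n52399 := d42_1 D53200 (iv D52399) (iv F230086)
theorem F238475 : act 9 n53200 = n51349 := d44_2 D51337 D53200 (iv D51349) (iv D49282) (iv F220658)
def n53201 : Q := act 8 n51339
theorem D53201 : act 8 n51339 = n53201 := rfl
theorem F238476 : act 0 n53201 = n52322 := d7_1 D53201 (iv D52322) (iv F230089)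
theorem F238477 : act 1 n53201 = n51341 := d15_1 D53201 (iv D51341) (iv F230090)
theorem F238478 : act 2 n53201 = n52034 := d22_1 D53201 (iv D52034) (iv F230091)
theorem F238479 : act 4 n53201 = n52318 := d33_1 D53201 (iv D52318) (iv F230093)
theorem F238480 : act 5 n53201 = n52329 := d37_1 D53201 (iv D52329) (iv F230094)
theorem F238481 : act 6 n53201 = n52321 := d40_1 D53201 (iv D52321) (iv F230095)
theorem F238482 : act 7 n53201 = n51593 := d42_1 D53201 (iv D51593) (iv F230096)
theorem F238483 : act 9 n53201 = n51352 := d44_2 D51339 D53201 (iv D51352) (iv D49286) (iv F220666)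
def n53202 : Q := act 8 n51340
theorem D53202 : act 8 n51340 = n53202 := rfl
theorem F238484 : act 1 n53202 = n52318 := d15_1 D53202 (iv D52318) (iv F230097)
theorem F238485 : act 2 n53202 = n51343 := d22_1 D53202 (iv D51343) (iv F230098)
theorem F238486 : act 4 n53202 = n51341 := d33_1 D53202 (iv D51341) (iv F230100)
theorem F238487 : act 7 n53202 = n51594 := d42_1 D53202 (iv D51594) (iv F230101)
theorem F238488 : act 9 n53202 = n51354 := d44_2 D51340 D53202 (iv D51354) (iv D49288) (iv F220672)
def n53203 : Q := act 3 n51341
theorem D53203 : act 3 n51341 = n53203 := rfl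
theorem F238489 : act 5 n53203 = n52330 := d25_2 (iv F230103) D53203 (iv D52330)
theorem F238490 : act 7 n53203 = n51595 := d27_2 (iv F230104) D53203 (iv D51595)
theorem F238491 : act 8 n53203 = n53203 := d28_2 D51341 D53203 (iv D53203) (iv D51341) F220675
theorem F238492 : act 9 n53203 = n51355 := d29_2 (iv F230105) D53203 (iv D51355)
def n53204 : Q := act 8 n51342
theorem D53204 : act 8 n51342 = n53204 := rfl
theorem F238493 : act 1 n53204 = n52332 := d15_1 D53204 (iv D52332) (iv F230106)
theorem F238494 : act 4 n53204 = n52036 := d33_1 D53204 (iv D52036) (iv F230108)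
theorem F238495 : act 5 n53204 = n51343 := d37_1 D53204 (iv D51343) (iv F230109)
theorem F238496 : act 7 n53204 = n51597 := d42_1 D53204 (iv D51597) (iv F230110)
theorem F238497 : act 9 n53204 = n51357 := d44_2 D51342 D53204 (iv D51357) (iv D49291) (iv F220682)
def n53205 : Q := act 3 n51343
theorem D53205 : act 3 n51343 = n53205 := rfl
theorem F238498 : act 7 n53205 = n51598 := d27_2 (iv F230112) D53205 (iv D51598)
theorem F238499 : act 8 n53205 = n53205 := d28_2 D51343 D53205 (iv D53205) (iv D51343) F220683
theorem F238500 : act 9 n53205 = n51358 := d29_2 (iv F230113) D53205 (iv D51358)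
def n53206 : Q := act 8 n51344
theorem D53206 : act 8 n51344 = n53206 := rfl
theorem F238501 : act 4 n53206 = n51345 := d33_1 D53206 (iv D51345) (iv F230115)
theorem F238502 : act 6 n53206 = n52332 := d40_1 D53206 (iv D52332) (iv F230116)
def n53207 : Q := act 8 n51347
theorem D53207 : act 8 n51347 = n53207 := rfl
theorem F238503 : act 1 n53207 = n52322 := d15_1 D53207 (iv D52322) (iv F230124)
theorem F238504 : act 2 n53207 = n51349 := d22_1 D53207 (iv D51349) (iv F230125)
theorem F238505 : act 4 n53207 = n51348 := d33_1 D53207 (iv D51348) (iv F230127)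
theorem F238506 : act 6 n53207 = n51354 := d40_1 D53207 (iv D51354) (iv F230128)
theorem F238507 : act 7 n53207 = n52384 := d42_1 D53207 (iv D52384) (iv F230129)
def n53208 : Q := act 3 n51348
theorem D53208 : act 3 n51348 = n53208 := rfl
theorem F238508 : act 1 n53208 = n52323 := d10_1 D53208 (iv D52323) (iv F230130)
theorem F238509 : act 6 n53208 = n51355 := d26_2 (iv F230132) D53208 (iv D51355)
theorem F238510 : act 7 n53208 = n52385 := d27_2 (iv F230133) D53208 (iv D52385)
theorem F238511 : act 8 n53208 = n51362 := d28_2 D51348 D53208 (iv D51362) (iv D49298) (iv F220707)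
def n53209 : Q := act 3 n51349
theorem D53209 : act 3 n51349 = n53209 := rfl
theorem F238512 : act 1 n53209 = n52327 := d10_1 D53209 (iv D52327) (iv F230134)
theorem F238513 : act 6 n53209 = n51358 := d26_2 (iv F230136) D53209 (iv D51358)
theorem F238514 : act 7 n53209 = n52410 := d27_2 (iv F230137) D53209 (iv D52410)
theorem F238515 : act 8 n53209 = n51359 := d28_2 D51349 D53209 (iv D51359) (iv D49293) (iv F220711)
def n53210 : Q := act 8 n51350
theorem D53210 : act 8 n51350 = n53210 := rfl
theorem F238516 : act 0 n53210 = n51352 := d7_1 D53210 (iv D51352) (iv F230138)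
theorem F238517 : act 2 n53210 = n52317 := d22_1 D53210 (iv D52317) (iv F230139)
theorem F238518 : act 4 n53210 = n52321 := d33_1 D53210 (iv D52321) (iv F230141)
theorem F238519 : act 5 n53210 = n52335 := d37_1 D53210 (iv D52335) (iv F230142)
theorem F238520 : act 6 n53210 = n52318 := d40_1 D53210 (iv D52318) (iv F230143)
theorem F238521 : act 7 n53210 = n51633 := d42_1 D53210 (iv D51633) (iv F230144)
theorem F238522 : act 9 n53210 = n52322 := d44_2 D51350 D53210 (iv D52322) (iv D50289) (iv F220721)
def n53211 : Q := act 8 n51351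
theorem D53211 : act 8 n51351 = n53211 := rfl
theorem F238523 : act 0 n53211 = n52321 := d7_1 D53211 (iv D52321) (iv F230145)
theorem F238524 : act 1 n53211 = n51354 := d15_1 D53211 (iv D51354) (iv F230146)
theorem F238525 : act 2 n53211 = n52316 := d22_1 D53211 (iv D52316) (iv F230147)
theorem F238526 : act 4 n53211 = n51352 := d33_1 D53211 (iv D51352) (iv F230149)
theorem F238527 : act 6 n53211 = n52322 := d40_1 D53211 (iv D52322) (iv F230150)
theorem F238528 : act 7 n53211 = n51634 := d42_1 D53211 (iv D51634) (iv F230151)
theorem F238529 : act 9 n53211 = n52318 := d44_2 D51351 D53211 (iv D52318) (iv D50282) (iv F220729)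
def n53212 : Q := act 3 n51352
theorem D53212 : act 3 n51352 = n53212 := rfl
theorem F238530 : act 1 n53212 = n51355 := d10_1 D53212 (iv D51355) (iv F230152)
theorem F238531 : act 2 n53212 = n52334 := d17_1 D53212 (iv D52334) F225311 (iv F225258) (iv F230153)
theorem F238532 : act 5 n53212 = n52337 := d25_2 (iv F230154) D53212 (iv D52337)
theorem F238533 : act 6 n53212 = n52323 := d26_2 (iv F230155) D53212 (iv D52323)
theorem F238534 : act 7 n53212 = n51635 := d27_2 (iv F230156) D53212 (iv D51635)
theorem F238535 : act 8 n53212 = n51364 := d28_2 D51352 D53212 (iv D51364) (iv D49300) (iv F220732)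
def n53213 : Q := act 8 n51353
theorem D53213 : act 8 n51353 = n53213 := rfl
theorem F238536 : act 2 n53213 = n51357 := d22_1 D53213 (iv D51357) (iv F230157)
theorem F238537 : act 4 n53213 = n52338 := d33_1 D53213 (iv D52338) (iv F230159)
theorem F238538 : act 5 n53213 = n51354 := d37_1 D53213 (iv D51354) (iv F230160)
theorem F238539 : act 7 n53213 = n51637 := d42_1 D53213 (iv D51637) (iv F230161)
def n53214 : Q := act 3 n51354
theorem D53214 : act 3 n51354 = n53214 := rfl
theorem F238540 : act 7 n53214 = n51638 := d27_2 (iv F230164) D53214 (iv D51638)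
theorem F238541 : act 8 n53214 = n53214 := d28_2 D51354 D53214 (iv D53214) (iv D51354) F220741
def n53215 : Q := act 4 n51355
theorem D53215 : act 4 n51355 = n53215 := rfl
theorem F238542 : act 7 n53215 = n51639 := d32_2 (iv F230166) D53215 (iv D51639)
theorem F238543 : act 8 n53215 = n51365 := d33_2 (iv F230167) D53215 (iv D51365)
def n53216 : Q := act 8 n51356
theorem D53216 : act 8 n51356 = n53216 := rfl
theorem F238544 : act 3 n53216 = n52340 := d28_1 D53216 F234553 F225361 F220773 (iv F230168)
theorem F238545 : act 4 n53216 = n52339 := d33_1 D53216 F234551 (iv F230169)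
theorem F238546 : act 6 n53216 = n51357 := d40_1 D53216 (iv D51357) (iv F230170)
theorem F238547 : act 7 n53216 = n52471 := d42_1 D53216 F234921 (iv F230171)
def n53217 : Q := act 3 n51357
theorem D53217 : act 3 n51357 = n53217 := rfl
theorem F238548 : act 4 n53217 = n52334 := d24_2 (iv F230172) D53217 (iv D52334) (iv F227410) F227409
theorem F238549 : act 5 n53217 = n51358 := d25_2 (iv F230173) D53217 (iv D51358)
theorem F238550 : act 6 n53217 = n52340 := d26_2 F238546 D53217 (iv F238544)
theorem F238551 : act 7 n53217 = n51642 := d27_2 (iv F230174) D53217 (iv D51642)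
theorem F238552 : act 8 n53217 = n51360 := d28_2 D51357 D53217 (iv D51360) (iv D49296) (iv F220749)
def n53218 : Q := act 2 n51358
theorem D53218 : act 2 n51358 = n53218 := rfl
theorem F238553 : act 7 n53218 = n51643 := d21_2 (iv F230175) D53218 (iv D51643)
theorem F238554 : act 8 n53218 = n51361 := d22_2 (iv F230176) D53218 (iv D51361)
def n53219 : Q := act 2 n51360
theorem D53219 : act 2 n51360 = n53219 := rfl
theorem F238555 : act 1 n53219 = n51365 := d9_1 D53219 (iv F238311) F238310 (iv F236034) F236033
theorem F238556 : act 3 n53219 = n53219 := d17_2 D51360 D53219 (iv D53219) (iv D51360) F220774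
theorem F238557 : act 4 n53219 = n51364 := d18_2 (iv F230181) D53219 F230201
theorem F238558 : act 5 n53219 = n51361 := d19_2 (iv F230182) D53219 (iv D51361)
theorem F238559 : act 6 n53219 = n52324 := d20_2 (iv F230183) D53219 F234508
theorem F238560 : act 7 n53219 = n51651 := d21_2 (iv F230184) D53219 (iv D51651)
theorem F238561 : act 9 n53219 = n53219 := d23_2 F230185 D53219 (iv D53219)
def n53220 : Q := act 1 n51361
theorem D53220 : act 1 n51361 = n53220 := rfl
theorem F238562 : act 3 n53220 = n53220 := d10_2 F230186 D53220 (iv D53220)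
theorem F238563 : act 4 n53220 = n52345 := d11_2 F238295 D53220 F238300
theorem F238564 : act 5 n53220 = n51365 := d12_2 F238558 D53220 (iv F238555)
theorem F238565 : act 7 n53220 = n51652 := d14_2 (iv F230187) D53220 (iv D51652)
theorem F238566 : act 9 n53220 = n53220 := d16_2 F230188 D53220 (iv D53220)
def n53221 : Q := act 8 n51368
theorem D53221 : act 8 n51368 = n53221 := rfl
theorem F238567 : act 0 n53221 = n51467 := d7_1 D53221 (iv D51467) (iv F230227)
theorem F238568 : act 1 n53221 = n53221 := d15_1 D53221 (iv D53221) F230228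
theorem F238569 : act 2 n53221 = n51461 := d22_1 D53221 (iv D51461) (iv F230229)
theorem F238570 : act 3 n53221 = n51554 := d28_1 D53221 (iv D51554) F221791 (iv F221199) (iv F230230)
theorem F238571 : act 4 n53221 = n51675 := d33_1 D53221 (iv D51675) (iv F230231)
theorem F238572 : act 5 n53221 = n51369 := d37_1 D53221 (iv D51369) (iv F230232)
theorem F238573 : act 6 n53221 = n52490 := d40_1 D53221 (iv D52490) (iv F230233)
theorem F238574 : act 7 n53221 = n51412 := d42_1 D53221 (iv D51412) (iv F230234)
theorem F238575 : act 9 n53221 = n53221 := d44_2 D51368 D53221 (iv D53221) (iv D51368) F220858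
def n53222 : Q := act 3 n51375
theorem D53222 : act 3 n51375 = n53222 := rfl
theorem F238576 : act 0 n53222 = n51571 := d2_1 D53222 (iv D51571) (iv F230285)
theorem F238577 : act 1 n53222 = n51394 := d10_1 D53222 (iv D51394) (iv F230286)
theorem F238578 : act 5 n53222 = n51378 := d25_2 (iv F230289) D53222 (iv D51378)
theorem F238579 : act 6 n53222 = n51500 := d26_2 (iv F230290) D53222 (iv D51500)
theorem F238580 : act 7 n53222 = n51376 := d27_2 (iv F230291) D53222 (iv D51376)
theorem F238581 : act 8 n53222 = n51517 := d28_2 D51375 D53222 (iv D51517) (iv D49474) (iv F221027)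
def n53223 : Q := act 9 n51375
theorem D53223 : act 9 n51375 = n53223 := rfl
theorem F238582 : act 0 n53223 = n51572 := d8_1 D53223 (iv D51572) (iv F230285)
theorem F238583 : act 1 n53223 = n51395 := d16_1 D53223 (iv D51395) (iv F230286)
theorem F238584 : act 2 n53223 = n53223 := d23_1 D53223 (iv D53223) F230287
theorem F238585 : act 4 n53223 = n51679 := d34_1 D53223 (iv D51679) (iv F230288)
theorem F238586 : act 5 n53223 = n51379 := d38_1 D53223 (iv D51379) (iv F230289)
theorem F238587 : act 6 n53223 = n51501 := d41_1 D53223 (iv D51501) (iv F230290)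
theorem F238588 : act 7 n53223 = n51377 := d43_1 D53223 (iv D51377) (iv F230291)
theorem F238589 : act 8 n53223 = n51487 := d44_1 D53223 (iv D51487) (iv D49449) (iv F221031) D51375
def n53224 : Q := act 4 n51376
theorem D53224 : act 4 n51376 = n53224 := rfl
theorem F238590 : act 0 n53224 = n52074 := d3_1 D53224 F233460 (iv F230292)
theorem F238591 : act 1 n53224 = n51397 := d11_1 D53224 (iv D51397) (iv F230293)
theorem F238592 : act 2 n53224 = n52428 := d18_1 D53224 (iv F236399) F236397
theorem F238593 : act 3 n53224 = n51681 := d24_1 D53224 (iv D51681) (iv D49625) (iv F221035) D51376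
theorem F238594 : act 5 n53224 = n52426 := d30_2 (iv F230294) D53224 (iv D52426) (iv F227830) F227829
theorem F238595 : act 6 n53224 = n52053 := d31_2 (iv F230295) D53224 F233372
theorem F238596 : act 8 n53224 = n52401 := d33_2 (iv F230296) D53224 (iv D52401)
def n53225 : Q := act 9 n51376
theorem D53225 : act 9 n51376 = n53225 := rfl
theorem F238597 : act 0 n53225 = n52086 := d8_1 D53225 (iv D52086) (iv F230292)
theorem F238598 : act 1 n53225 = n51398 := d16_1 D53225 (iv D51398) (iv F230293)
theorem F238599 : act 3 n53225 = n51377 := d29_1 D53225 (iv D51377) D51376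
theorem F238600 : act 5 n53225 = n51380 := d38_1 D53225 (iv D51380) (iv F230294)
theorem F238601 : act 6 n53225 = n52056 := d41_1 D53225 (iv D52056) (iv F230295)
def n53226 : Q := act 9 n51378
theorem D53226 : act 9 n51378 = n53226 := rfl
theorem F238602 : act 0 n53226 = n52092 := d8_1 D53226 (iv D52092) (iv F230304)
theorem F238603 : act 1 n53226 = n51399 := d16_1 D53226 (iv D51399) (iv F230305)
theorem F238604 : act 3 n53226 = n51379 := d29_1 D53226 (iv D51379) D51378
theorem F238605 : act 4 n53226 = n51445 := d34_1 D53226 (iv D51445) (iv F230306)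
theorem F238606 : act 6 n53226 = n51451 := d41_1 D53226 (iv D51451) (iv F230307)
theorem F238607 : act 7 n53226 = n51380 := d43_1 D53226 (iv D51380) (iv F230308)
def n53227 : Q := act 8 n51380
theorem D53227 : act 8 n51380 = n53227 := rfl
theorem F238608 : act 0 n53227 = n52093 := d7_1 D53227 (iv D52093) (iv F230316)
theorem F238609 : act 1 n53227 = n51403 := d15_1 D53227 (iv D51403) (iv F230317)
theorem F238610 : act 3 n53227 = n51494 := d28_1 D53227 (iv D51494) F221590 (iv F221051) (iv F230318)
theorem F238611 : act 6 n53227 = n51381 := d40_1 D53227 (iv D51381) (iv F230319)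
def n53228 : Q := act 3 n51382
theorem D53228 : act 3 n51382 = n53228 := rfl
theorem F238612 : act 0 n53228 = n51417 := d2_1 D53228 (iv D51417) (iv F230324)
theorem F238613 : act 1 n53228 = n51517 := d10_1 D53228 (iv D51517) (iv F230325)
theorem F238614 : act 5 n53228 = n51385 := d25_2 (iv F230328) D53228 (iv D51385)
theorem F238615 : act 6 n53228 = n51486 := d26_2 (iv F230329) D53228 (iv D51486)
theorem F238616 : act 7 n53228 = n51383 := d27_2 (iv F230330) D53228 (iv D51383)
theorem F238617 : act 8 n53228 = n51394 := d28_2 D51382 D53228 (iv D51394) (iv D49349) (iv F221066)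
theorem F238618 : act 2 n53228 = n51425 := d46_4 D49718 F222758 (iv F230327) D53228 (iv F236061) F236060 F231292 F222029 F211881 F189155 F131732 F94366 F203540 (iv D28840) D28838 F122447 F85884 (iv F122812) F122811 (iv F124768) D42847 F179044 F124779 D29405 (iv F178646) (iv F211021) F211020 F211026 F211023 F177806 (iv D29244) (iv F122483) (iv F175622) F206808 F135244 (iv F147941) F147940 F103511 (iv F145958) (iv F207636) (iv F212191) D49624 F222304 F212205 (iv F209644) (iv F217680) F217679 F211036 F211041 F211038 F177816 (iv F175671) (iv D42022) (iv F175625) F206816 (iv F207034) (iv F208820) F208819 F176522 (iv F209544) (iv F219187) F219186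
def n53229 : Q := act 9 n51382
theorem D53229 : act 9 n51382 = n53229 := rfl
theorem F238619 : act 0 n53229 = n51418 := d8_1 D53229 (iv D51418) (iv F230324)
theorem F238620 : act 1 n53229 = n51518 := d16_1 D53229 (iv D51518) (iv F230325)
theorem F238621 : act 2 n53229 = n53229 := d23_1 D53229 (iv D53229) F230326
theorem F238622 : act 4 n53229 = n51770 := d34_1 D53229 (iv D51770) (iv F230327)
theorem F238623 : act 5 n53229 = n51386 := d38_1 D53229 (iv D51386) (iv F230328)
theorem F238624 : act 6 n53229 = n51487 := d41_1 D53229 (iv D51487) (iv F230329)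
theorem F238625 : act 7 n53229 = n51384 := d43_1 D53229 (iv D51384) (iv F230330)
theorem F238626 : act 8 n53229 = n51501 := d44_1 D53229 (iv D51501) (iv D49461) (iv F221070) D51382
def n53230 : Q := act 2 n51383
theorem D53230 : act 2 n51383 = n53230 := rfl
theorem F238627 : act 0 n53230 = n51419 := d1_1 D53230 (iv D51419) (iv F230331)
theorem F238628 : act 1 n53230 = n51625 := d9_1 D53230 F231422 (iv F228004) F228005 (iv F230332)
theorem F238629 : act 3 n53230 = n53230 := d17_2 D51383 D53230 (iv D53230) (iv D51383) F221073
theorem F238630 : act 5 n53230 = n51387 := d19_2 (iv F230333) D53230 (iv D51387)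
theorem F238631 : act 6 n53230 = n51622 := d20_2 (iv F230334) D53230 F231407
theorem F238632 : act 7 n53230 = n51425 := d21_2 F238616 D53230 (iv F238618)
theorem F238633 : act 8 n53230 = n51396 := d22_2 (iv F230335) D53230 (iv D51396)
def n53231 : Q := act 4 n51383
theorem D53231 : act 4 n51383 = n53231 := rfl
theorem F238634 : act 0 n53231 = n51420 := d3_1 D53231 (iv D51420) (iv F230331)
theorem F238635 : act 1 n53231 = n52401 := d11_1 D53231 (iv D52401) (iv F230332)
theorem F238636 : act 3 n53231 = n52518 := d24_1 D53231 F235060 F225997 (iv F221074) D51383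
theorem F238637 : act 6 n53231 = n52346 := d31_2 (iv F230334) D53231 (iv D52346)
theorem F238638 : act 8 n53231 = n51397 := d33_2 (iv F230335) D53231 (iv D51397)
def n53232 : Q := act 9 n51383
theorem D53232 : act 9 n51383 = n53232 := rfl
theorem F238639 : act 0 n53232 = n51421 := d8_1 D53232 (iv D51421) (iv F230331)
theorem F238640 : act 1 n53232 = n52402 := d16_1 D53232 (iv D52402) (iv F230332)
theorem F238641 : act 3 n53232 = n51384 := d29_1 D53232 (iv D51384) D51383
theorem F238642 : act 5 n53232 = n51389 := d38_1 D53232 (iv D51389) (iv F230333)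
theorem F238643 : act 6 n53232 = n52347 := d41_1 D53232 (iv D52347) (iv F230334)
def n53233 : Q := act 9 n51385
theorem D53233 : act 9 n51385 = n53233 := rfl
theorem F238644 : act 0 n53233 = n51422 := d8_1 D53233 (iv D51422) (iv F230343)
theorem F238645 : act 2 n53233 = n51426 := d23_1 D53233 (iv D51426) F230347
theorem F238646 : act 3 n53233 = n51386 := d29_1 D53233 (iv D51386) D51385
theorem F238647 : act 4 n53233 = n51424 := d34_1 D53233 (iv D51424) F230348
theorem F238648 : act 6 n53233 = n51429 := d41_1 D53233 (iv D51429) (iv F230344)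
theorem F238649 : act 7 n53233 = n51389 := d43_1 D53233 (iv D51389) (iv F230345)
def n53234 : Q := act 9 n51387
theorem D53234 : act 9 n51387 = n53234 := rfl
theorem F238650 : act 0 n53234 = n51424 := d8_1 D53234 (iv D51424) (iv F230355)
theorem F238651 : act 1 n53234 = n51636 := d16_1 D53234 (iv D51636) (iv F230356)
theorem F238652 : act 2 n53234 = n51389 := d23_1 D53234 (iv D51389) D51387
theorem F238653 : act 3 n53234 = n53234 := d29_1 D53234 (iv D53234) F230357
theorem F238654 : act 4 n53234 = n51422 := d34_1 D53234 (iv D51422) F230361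
theorem F238655 : act 6 n53234 = n51390 := d41_1 D53234 (iv D51390) (iv F230358)
theorem F238656 : act 7 n53234 = n51426 := d43_1 D53234 (iv D51426) (iv F230359)
def n53235 : Q := act 5 n51388
theorem D53235 : act 5 n51388 = n53235 := rfl
theorem F238657 : act 0 n53235 = n51425 := d4_1 D53235 (iv D51425) (iv F230362)
theorem F238658 : act 1 n53235 = n52082 := d12_1 D53235 F233496 (iv F230363)
theorem F238659 : act 2 n53235 = n51417 := d19_1 D53235 F230521 (iv F230364)
theorem F238660 : act 3 n53235 = n53235 := d25_1 D53235 (iv D53235) F230365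
theorem F238661 : act 6 n53235 = n52079 := d35_2 (iv F230366) D53235 (iv D52079) F224136 (iv F221100)
theorem F238662 : act 7 n53235 = n51419 := d36_2 (iv F230367) D53235 F230532
theorem F238663 : act 8 n53235 = n51401 := d37_2 (iv F230368) D53235 (iv D51401)
def n53236 : Q := act 9 n51388
theorem D53236 : act 9 n51388 = n53236 := rfl
theorem F238664 : act 0 n53236 = n51426 := d8_1 D53236 (iv D51426) (iv F230362)
theorem F238665 : act 1 n53236 = n52089 := d16_1 D53236 (iv D52089) (iv F230363)
theorem F238666 : act 2 n53236 = n51422 := d23_1 D53236 (iv D51422) (iv F230364)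
theorem F238667 : act 3 n53236 = n53236 := d29_1 D53236 (iv D53236) F230365
theorem F238668 : act 4 n53236 = n51389 := d34_1 D53236 (iv D51389) D51388
theorem F238669 : act 6 n53236 = n51391 := d41_1 D53236 (iv D51391) (iv F230366)
theorem F238670 : act 7 n53236 = n51424 := d43_1 D53236 (iv D51424) (iv F230367)
def n53237 : Q := act 8 n51389
theorem D53237 : act 8 n51389 = n53237 := rfl
theorem F238671 : act 0 n53237 = n51427 := d7_1 D53237 (iv D51427) (iv F230369)
theorem F238672 : act 3 n53237 = n51512 := d28_1 D53237 (iv D51512) F221645 (iv F221089) (iv F230370)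
theorem F238673 : act 6 n53237 = n51392 := d40_1 D53237 (iv D51392) (iv F230371)
theorem F238674 : act 9 n53237 = n51403 := d44_2 D51389 D53237 (iv D51403) (iv D49356) (iv F221084)
def n53238 : Q := act 8 n51390
theorem D53238 : act 8 n51390 = n53238 := rfl
theorem F238675 : act 0 n53238 = n51430 := d7_1 D53238 (iv D51430) (iv F230372)
theorem F238676 : act 1 n53238 = n51637 := d15_1 D53238 (iv D51637) (iv F230373)
theorem F238677 : act 2 n53238 = n51392 := d22_1 D53238 (iv D51392) (iv F230374)
theorem F238678 : act 4 n53238 = n52466 := d33_1 D53238 (iv D52466) (iv F230376)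
theorem F238679 : act 5 n53238 = n51634 := d37_1 D53238 (iv D51634) (iv F230377)
theorem F238680 : act 9 n53238 = n51405 := d44_2 D51390 D53238 (iv D51405) (iv D49358) (iv F221094)
def n53239 : Q := act 8 n51391
theorem D53239 : act 8 n51391 = n53239 := rfl
theorem F238681 : act 0 n53239 = n51433 := d7_1 D53239 (iv D51433) (iv F230378)
theorem F238682 : act 1 n53239 = n52090 := d15_1 D53239 (iv D52090) (iv F230379)
theorem F238683 : act 2 n53239 = n52466 := d22_1 D53239 (iv D52466) (iv F230380)
theorem F238684 : act 4 n53239 = n51392 := d33_1 D53239 (iv D51392) (iv F230382)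
theorem F238685 : act 5 n53239 = n52088 := d37_1 D53239 (iv D52088) (iv F230383)
theorem F238686 : act 9 n53239 = n51406 := d44_2 D51391 D53239 (iv D51406) (iv D49359) (iv F221101)
def n53240 : Q := act 3 n51393
theorem D53240 : act 3 n51393 = n53240 := rfl
theorem F238687 : act 0 n53240 = n51434 := d2_1 D53240 (iv D51434) (iv F230388)
theorem F238688 : act 1 n53240 = n51500 := d10_1 D53240 (iv D51500) (iv F230389)
theorem F238689 : act 2 n53240 = n51447 := d17_1 D53240 F230633 F221358 F221193 (iv F230390)
theorem F238690 : act 5 n53240 = n51453 := d25_2 (iv F230392) D53240 F230654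
theorem F238691 : act 6 n53240 = n51394 := d26_2 (iv F230393) D53240 (iv D51394)
theorem F238692 : act 7 n53240 = n51481 := d27_2 (iv F230394) D53240 (iv D51481)
theorem F238693 : act 8 n53240 = n51486 := d28_2 D51393 D53240 (iv D51486) (iv D49449) (iv F221108)
def n53241 : Q := act 9 n51393
theorem D53241 : act 9 n51393 = n53241 := rfl
theorem F238694 : act 0 n53241 = n51435 := d8_1 D53241 (iv D51435) (iv F230388)
theorem F238695 : act 1 n53241 = n51501 := d16_1 D53241 (iv D51501) (iv F230389)
theorem F238696 : act 2 n53241 = n51410 := d23_1 D53241 (iv D51410) (iv F230390)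
theorem F238697 : act 4 n53241 = n51689 := d34_1 D53241 (iv D51689) (iv F230391)
theorem F238698 : act 5 n53241 = n51483 := d38_1 D53241 (iv D51483) (iv F230392)
theorem F238699 : act 6 n53241 = n51395 := d41_1 D53241 (iv D51395) (iv F230393)
theorem F238700 : act 7 n53241 = n51482 := d43_1 D53241 (iv D51482) (iv F230394)
theorem F238701 : act 8 n53241 = n51518 := d44_1 D53241 (iv D51518) (iv D49474) (iv F221112) D51393
def n53242 : Q := act 4 n51394
theorem D53242 : act 4 n51394 = n53242 := rfl
theorem F238702 : act 0 n53242 = n51436 := d3_1 D53242 (iv D51436) (iv F230395)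
theorem F238703 : act 2 n53242 = n51441 := d18_1 D53242 F230617 (iv F230396)
theorem F238704 : act 3 n53242 = n51690 := d24_1 D53242 (iv D51690) (iv D49634) (iv F221115) D51394
theorem F238705 : act 5 n53242 = n51439 := d30_2 (iv F230397) D53242 (iv D51439) F221306 (iv F221129)
theorem F238706 : act 7 n53242 = n51397 := d32_2 (iv F230398) D53242 (iv D51397)
def n53243 : Q := act 9 n51394
theorem D53243 : act 9 n51394 = n53243 := rfl
theorem F238707 : act 0 n53243 = n51437 := d8_1 D53243 (iv D51437) (iv F230395)
theorem F238708 : act 2 n53243 = n51448 := d23_1 D53243 (iv D51448) (iv F230396)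
theorem F238709 : act 3 n53243 = n51395 := d29_1 D53243 (iv D51395) D51394
theorem F238710 : act 5 n53243 = n51399 := d38_1 D53243 (iv D51399) (iv F230397)
theorem F238711 : act 7 n53243 = n51398 := d43_1 D53243 (iv D51398) (iv F230398)
def n53244 : Q := act 4 n51396
theorem D53244 : act 4 n51396 = n53244 := rfl
theorem F238712 : act 0 n53244 = n51439 := d3_1 D53244 (iv D51439) (iv F230405)
theorem F238713 : act 2 n53244 = n51397 := d18_1 D53244 (iv D51397) D51396
theorem F238714 : act 3 n53244 = n51726 := d24_1 D53244 F231895 F222548 (iv F221201) (iv F230406)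
theorem F238715 : act 5 n53244 = n51436 := d30_2 (iv F230407) D53244 (iv D51436) F221298 F221141
theorem F238716 : act 6 n53244 = n52351 := d31_2 (iv F230408) D53244 (iv D52351)
theorem F238717 : act 7 n53244 = n51441 := d32_2 (iv F230409) D53244 F230617
def n53245 : Q := act 9 n51396
theorem D53245 : act 9 n51396 = n53245 := rfl
theorem F238718 : act 0 n53245 = n51440 := d8_1 D53245 (iv D51440) (iv F230405)
theorem F238719 : act 2 n53245 = n51398 := d23_1 D53245 (iv D51398) D51396
theorem F238720 : act 3 n53245 = n51411 := d29_1 D53245 (iv D51411) (iv F230406)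
theorem F238721 : act 5 n53245 = n51400 := d38_1 D53245 (iv D51400) (iv F230407)
theorem F238722 : act 6 n53245 = n52352 := d41_1 D53245 (iv D52352) (iv F230408)
theorem F238723 : act 7 n53245 = n51448 := d43_1 D53245 (iv D51448) (iv F230409)
def n53246 : Q := act 5 n51397
theorem D53246 : act 5 n51397 = n53246 := rfl
theorem F238724 : act 0 n53246 = n51441 := d4_1 D53246 (iv D51441) (iv F230410)
theorem F238725 : act 1 n53246 = n52426 := d12_1 D53246 (iv F238594) F238591
theorem F238726 : act 2 n53246 = n51436 := d19_1 D53246 (iv F238715) F238713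
theorem F238727 : act 3 n53246 = n51692 := d25_1 D53246 (iv D51692) (iv F230411)
theorem F238728 : act 4 n53246 = n51401 := d30_1 D53246 (iv D51401) (iv D49355) (iv F221119) D51397
theorem F238729 : act 6 n53246 = n52431 := d35_2 (iv F230412) D53246 (iv F236279) F236280 F233354
theorem F238730 : act 7 n53246 = n51439 := d36_2 F238706 D53246 (iv F238705)
def n53247 : Q := act 9 n51397
theorem D53247 : act 9 n51397 = n53247 := rfl
theorem F238731 : act 0 n53247 = n51442 := d8_1 D53247 (iv D51442) (iv F230410)
theorem F238732 : act 3 n53247 = n51693 := d29_1 D53247 (iv D51693) (iv F230411)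
theorem F238733 : act 4 n53247 = n51398 := d34_1 D53247 (iv D51398) D51397
theorem F238734 : act 6 n53247 = n52353 := d41_1 D53247 (iv D52353) (iv F230412)
def n53248 : Q := act 8 n51398
theorem D53248 : act 8 n51398 = n53248 := rfl
theorem F238735 : act 0 n53248 = n51443 := d7_1 D53248 (iv D51443) (iv F230413)
theorem F238736 : act 3 n53248 = n51527 := d28_1 D53248 (iv D51527) F221689 (iv F221126) (iv F230414)
theorem F238737 : act 5 n53248 = n51403 := d37_1 D53248 (iv D51403) (iv F230415)
theorem F238738 : act 6 n53248 = n52354 := d40_1 D53248 (iv D52354) (iv F230416)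
def n53249 : Q := act 8 n51399
theorem D53249 : act 8 n51399 = n53249 := rfl
theorem F238739 : act 0 n53249 = n51444 := d7_1 D53249 (iv D51444) (iv F230417)
theorem F238740 : act 2 n53249 = n51449 := d22_1 D53249 (iv D51449) (iv F230418)
theorem F238741 : act 3 n53249 = n51531 := d28_1 D53249 (iv D51531) F221702 (iv F221136) (iv F230419)
theorem F238742 : act 4 n53249 = n51446 := d33_1 D53249 (iv D51446) (iv F230420)
theorem F238743 : act 6 n53249 = n51455 := d40_1 D53249 (iv D51455) (iv F230421)
theorem F238744 : act 7 n53249 = n51403 := d42_1 D53249 (iv D51403) (iv F230422)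
def n53250 : Q := act 8 n51400
theorem D53250 : act 8 n51400 = n53250 := rfl
theorem F238745 : act 0 n53250 = n51446 := d7_1 D53250 (iv D51446) (iv F230423)
theorem F238746 : act 2 n53250 = n51403 := d22_1 D53250 (iv D51403) (iv F230424)
theorem F238747 : act 4 n53250 = n51444 := d33_1 D53250 (iv D51444) (iv F230426)
theorem F238748 : act 6 n53250 = n51405 := d40_1 D53250 (iv D51405) (iv F230427)
theorem F238749 : act 7 n53250 = n51449 := d42_1 D53250 (iv D51449) (iv F230428)
def n53251 : Q := act 9 n51401
theorem D53251 : act 9 n51401 = n53251 := rfl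
theorem F238750 : act 0 n53251 = n51448 := d8_1 D53251 (iv D51448) (iv F230429)
theorem F238751 : act 1 n53251 = n52427 := d16_1 D53251 (iv D52427) (iv F230430)
theorem F238752 : act 2 n53251 = n51437 := d23_1 D53251 (iv D51437) (iv F230431)
theorem F238753 : act 3 n53251 = n51407 := d29_1 D53251 (iv D51407) (iv F230432)
theorem F238754 : act 5 n53251 = n51402 := d38_1 D53251 (iv D51402) D51401
theorem F238755 : act 6 n53251 = n52432 := d41_1 D53251 (iv D52432) (iv F230433)
theorem F238756 : act 7 n53251 = n51440 := d43_1 D53251 (iv D51440) (iv F230434)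
def n53252 : Q := act 8 n51402
theorem D53252 : act 8 n51402 = n53252 := rfl
theorem F238757 : act 0 n53252 = n51449 := d7_1 D53252 (iv D51449) (iv F230435)
theorem F238758 : act 2 n53252 = n51444 := d22_1 D53252 (iv D51444) (iv F230436)
theorem F238759 : act 4 n53252 = n51403 := d33_1 D53252 (iv D51403) (iv F230438)
theorem F238760 : act 6 n53252 = n51406 := d40_1 D53252 (iv D51406) (iv F230439)
theorem F238761 : act 7 n53252 = n51446 := d42_1 D53252 (iv D51446) (iv F230440)
def n53253 : Q := act 8 n51404
theorem D53253 : act 8 n51404 = n53253 := rfl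
theorem F238762 : act 0 n53253 = n52471 := d7_1 D53253 F234921 (iv F230444)
theorem F238763 : act 1 n53253 = n51405 := d15_1 D53253 (iv D51405) (iv F230445)
theorem F238764 : act 2 n53253 = n51597 := d22_1 D53253 (iv D51597) (iv F230446)
theorem F238765 : act 3 n53253 = n52411 := d28_1 D53253 F234777 F225633 F221227 (iv F230447)
theorem F238766 : act 4 n53253 = n52049 := d33_1 D53253 F233349 (iv F230448)
theorem F238767 : act 5 n53253 = n51594 := d37_1 D53253 (iv D51594) (iv F230449)
theorem F238768 : act 9 n53253 = n51637 := d44_2 D51404 D53253 (iv D51637) (iv D49571) (iv F221154)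
def n53254 : Q := act 3 n51405
theorem D53254 : act 3 n51405 = n53254 := rfl
theorem F238769 : act 0 n53254 = n51456 := d2_1 D53254 (iv D51456) (iv F230450)
theorem F238770 : act 1 n53254 = n52411 := d10_1 D53254 (iv F238765) F238763
theorem F238771 : act 2 n53254 = n51543 := d17_1 D53254 (iv D51543) F221740 (iv F221163) (iv F230451)
theorem F238772 : act 4 n53254 = n52410 := d24_2 F238262 D53254 (iv D52410) (iv F230121) (iv F238261)
theorem F238773 : act 5 n53254 = n52357 := d25_2 (iv F230452) D53254 (iv D52357)
theorem F238774 : act 8 n53254 = n51414 := d28_2 D51405 D53254 (iv D51414) (iv D49372) (iv F221157)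
def n53255 : Q := act 3 n51406
theorem D53255 : act 3 n51406 = n53255 := rfl
theorem F238775 : act 0 n53255 = n51459 := d2_1 D53255 (iv D51459) (iv F230453)
theorem F238776 : act 1 n53255 = n52468 := d10_1 D53255 (iv F236339) F236337
theorem F238777 : act 2 n53255 = n52385 := d17_1 D53255 (iv D52385) (iv F230120) (iv F238261) F238260
theorem F238778 : act 4 n53255 = n51544 := d24_2 (iv F230454) D53255 (iv D51544) F221743 (iv F221163)
theorem F238779 : act 8 n53255 = n51409 := d28_2 D51406 D53255 (iv D51409) (iv D49364) (iv F221160)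
def n53256 : Q := act 8 n51407
theorem D53256 : act 8 n51407 = n53256 := rfl
theorem F238780 : act 0 n53256 = n51461 := d7_1 D53256 (iv D51461) (iv F230455)
theorem F238781 : act 1 n53256 = n52473 := d15_1 D53256 (iv D52473) (iv F230456)
theorem F238782 : act 2 n53256 = n51467 := d22_1 D53256 (iv D51467) (iv F230457)
theorem F238783 : act 4 n53256 = n51701 := d33_1 D53256 (iv D51701) (iv F230458)
theorem F238784 : act 5 n53256 = n51408 := d37_1 D53256 (iv D51408) (iv F230459)
theorem F238785 : act 6 n53256 = n52474 := d40_1 D53256 (iv D52474) (iv F230460)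
theorem F238786 : act 7 n53256 = n51471 := d42_1 D53256 (iv D51471) (iv F230461)
theorem F238787 : act 9 n53256 = n53256 := d44_2 D51407 D53256 (iv D53256) (iv D51407) F221171
def n53257 : Q := act 3 n51408
theorem D53257 : act 3 n51408 = n53257 := rfl
theorem F238788 : act 0 n53257 = n51462 := d2_1 D53257 (iv D51462) (iv F230462)
theorem F238789 : act 1 n53257 = n52486 := d10_1 D53257 F234964 (iv F230463)
theorem F238790 : act 2 n53257 = n51667 := d17_1 D53257 (iv D51667) F222155 (iv F221433) (iv F230464)
theorem F238791 : act 4 n53257 = n51549 := d24_2 (iv F230465) D53257 (iv D51549) F221769 (iv F221178)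
theorem F238792 : act 6 n53257 = n51409 := d26_2 (iv F230466) D53257 (iv D51409)
theorem F238793 : act 7 n53257 = n51474 := d27_2 (iv F230467) D53257 (iv D51474)
theorem F238794 : act 9 n53257 = n53257 := d29_2 F230468 D53257 (iv D53257)
def n53258 : Q := act 8 n51411
theorem D53258 : act 8 n51411 = n53258 := rfl
theorem F238795 : act 0 n53258 = n51471 := d7_1 D53258 (iv D51471) (iv F230482)
theorem F238796 : act 1 n53258 = n52721 := d15_1 D53258 F236237 F236231
theorem F238797 : act 2 n53258 = n51412 := d22_1 D53258 (iv D51412) (iv F230483)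
theorem F238798 : act 4 n53258 = n51753 := d33_1 D53258 (iv D51753) (iv F230484)
theorem F238799 : act 5 n53258 = n51413 := d37_1 D53258 (iv D51413) (iv F230485)
theorem F238800 : act 6 n53258 = n52359 := d40_1 D53258 (iv D52359) (iv F230486)
theorem F238801 : act 7 n53258 = n51461 := d42_1 D53258 (iv D51461) (iv F230487)
theorem F238802 : act 9 n53258 = n53258 := d44_2 D51411 D53258 (iv D53258) (iv D51411) F221205
def n53259 : Q := act 3 n51413
theorem D53259 : act 3 n51413 = n53259 := rfl
theorem F238803 : act 0 n53259 = n51474 := d2_1 D53259 (iv D51474) (iv F230495)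
theorem F238804 : act 1 n53259 = n52414 := d10_1 D53259 F234788 (iv F230496)
theorem F238805 : act 2 n53259 = n51562 := d17_1 D53259 (iv D51562) F221842 (iv F221219) (iv F230497)
theorem F238806 : act 4 n53259 = n51645 := d24_2 (iv F230498) D53259 (iv D51645) F222072 (iv F221351)
theorem F238807 : act 6 n53259 = n51414 := d26_2 (iv F230499) D53259 (iv D51414)
theorem F238808 : act 7 n53259 = n51462 := d27_2 (iv F230500) D53259 (iv D51462)
theorem F238809 : act 9 n53259 = n53259 := d29_2 F230501 D53259 (iv D53259)
def n53260 : Q := act 2 n51415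
theorem D53260 : act 2 n51415 = n53260 := rfl
theorem F238810 : act 0 n53260 = n52388 := d1_1 D53260 F234706 (iv F230508)
theorem F238811 : act 3 n53260 = n53260 := d17_2 D51415 D53260 (iv D53260) (iv D51415) F221236
theorem F238812 : act 5 n53260 = n53260 := d19_2 F230510 D53260 (iv D53260)
theorem F238813 : act 6 n53260 = n51715 := d20_2 (iv F230511) D53260 F231837
theorem F238814 : act 8 n53260 = n51705 := d22_2 (iv F230512) D53260 (iv D51705)
def n53261 : Q := act 4 n51415
theorem D53261 : act 4 n51415 = n53261 := rfl
theorem F238815 : act 0 n53261 = n52518 := d3_1 D53261 F235060 (iv F230508)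
theorem F238816 : act 1 n53261 = n52147 := d11_1 D53261 (iv D52147) (iv F230509)
theorem F238817 : act 3 n53261 = n51420 := d24_1 D53261 (iv D51420) (iv D49375) (iv F221237) D51415
theorem F238818 : act 6 n53261 = n52133 := d31_2 (iv F230511) D53261 (iv D52133)
theorem F238819 : act 8 n53261 = n51706 := d33_2 (iv F230512) D53261 (iv D51706)
def n53262 : Q := act 9 n51415
theorem D53262 : act 9 n51415 = n53262 := rfl
theorem F238820 : act 0 n53262 = n52536 := d8_1 D53262 (iv D52536) (iv F230508)
theorem F238821 : act 1 n53262 = n52148 := d16_1 D53262 (iv D52148) (iv F230509)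
theorem F238822 : act 3 n53262 = n51416 := d29_1 D53262 (iv D51416) D51415
theorem F238823 : act 5 n53262 = n53262 := d38_1 D53262 (iv D53262) F230510
theorem F238824 : act 6 n53262 = n52134 := d41_1 D53262 (iv D52134) (iv F230511)
def n53263 : Q := act 4 n51417
theorem D53263 : act 4 n51417 = n53263 := rfl
theorem F238825 : act 1 n53263 = n52444 := d11_1 D53263 F234860 (iv F230520)
theorem F238826 : act 6 n53263 = n52439 := d31_2 (iv F230522) D53263 F234849
theorem F238827 : act 7 n53263 = n51420 := d32_2 (iv F230523) D53263 (iv D51420)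
theorem F238828 : act 8 n53263 = n51436 := d33_2 (iv F230524) D53263 (iv D51436)
def n53264 : Q := act 9 n51417
theorem D53264 : act 9 n51417 = n53264 := rfl
theorem F238829 : act 1 n53264 = n52458 := d16_1 D53264 (iv D52458) (iv F230520)
theorem F238830 : act 3 n53264 = n51418 := d29_1 D53264 (iv D51418) D51417
theorem F238831 : act 5 n53264 = n51422 := d38_1 D53264 (iv D51422) (iv F230521)
theorem F238832 : act 6 n53264 = n52455 := d41_1 D53264 (iv D52455) (iv F230522)
theorem F238833 : act 7 n53264 = n51421 := d43_1 D53264 (iv D51421) (iv F230523)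
def n53265 : Q := act 1 n51419
theorem D53265 : act 1 n51419 = n53265 := rfl
theorem F238834 : act 2 n53265 = n51571 := d9_2 D51419 D53265 F231212 (iv F227514) F227513
theorem F238835 : act 3 n53265 = n53265 := d10_2 F230531 D53265 (iv D53265)
theorem F238836 : act 5 n53265 = n51423 := d12_2 (iv F230532) D53265 (iv D51423)
theorem F238837 : act 6 n53265 = n51573 := d13_2 (iv F230533) D53265 F231224
theorem F238838 : act 7 n53265 = n52082 := d14_2 F238662 D53265 (iv F238658)
theorem F238839 : act 8 n53265 = n51438 := d15_2 (iv F230534) D53265 (iv D51438)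
def n53266 : Q := act 4 n51419
theorem D53266 : act 4 n51419 = n53266 := rfl
theorem F238840 : act 2 n53266 = n51420 := d18_1 D53266 (iv D51420) D51419
theorem F238841 : act 6 n53266 = n52364 := d31_2 (iv F230533) D53266 (iv D52364)
theorem F238842 : act 8 n53266 = n51439 := d33_2 (iv F230534) D53266 (iv D51439)
def n53267 : Q := act 9 n51419
theorem D53267 : act 9 n51419 = n53267 := rfl
theorem F238843 : act 2 n53267 = n51421 := d23_1 D53267 (iv D51421) D51419
theorem F238844 : act 3 n53267 = n53267 := d29_1 D53267 (iv D53267) F230531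
theorem F238845 : act 5 n53267 = n51424 := d38_1 D53267 (iv D51424) (iv F230532)
theorem F238846 : act 6 n53267 = n52365 := d41_1 D53267 (iv D52365) (iv F230533)
def n53268 : Q := act 5 n51420
theorem D53268 : act 5 n51420 = n53268 := rfl
theorem F238847 : act 4 n53268 = n51425 := d30_1 D53268 (iv D51425) (iv D49380) (iv F221245) D51420
theorem F238848 : act 8 n53268 = n51441 := d37_2 (iv F230536) D53268 (iv D51441)
def n53269 : Q := act 9 n51420
theorem D53269 : act 9 n51420 = n53269 := rfl
theorem F238849 : act 4 n53269 = n51421 := d34_1 D53269 (iv D51421) D51420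
theorem F238850 : act 6 n53269 = n52366 := d41_1 D53269 (iv D52366) (iv F230535)
def n53270 : Q := act 8 n51421
theorem D53270 : act 8 n51421 = n53270 := rfl
theorem F238851 : act 3 n53270 = n51581 := d28_1 D53270 (iv D51581) F221892 (iv F221251) (iv F230537)
theorem F238852 : act 5 n53270 = n51427 := d37_1 D53270 (iv D51427) (iv F230538)
theorem F238853 : act 6 n53270 = n52367 := d40_1 D53270 (iv D52367) (iv F230539)
theorem F238854 : act 9 n53270 = n51443 := d44_2 D51421 D53270 (iv D51443) (iv D49393) (iv F221247)
def n53271 : Q := act 8 n51422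
theorem D53271 : act 8 n51422 = n53271 := rfl
theorem F238855 : act 1 n53271 = n52470 := d15_1 D53271 (iv D52470) (iv F230540)
theorem F238856 : act 3 n53271 = n51585 := d28_1 D53271 (iv D51585) F221905 (iv F221261) (iv F230541)
theorem F238857 : act 6 n53271 = n52466 := d40_1 D53271 (iv D52466) (iv F230542)
theorem F238858 : act 7 n53271 = n51427 := d42_1 D53271 (iv D51427) (iv F230543)
theorem F238859 : act 9 n53271 = n51444 := d44_2 D51422 D53271 (iv D51444) (iv D49394) (iv F221255)
def n53272 : Q := act 9 n51423
theorem D53272 : act 9 n51423 = n53272 := rfl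
theorem F238860 : act 1 n53272 = n51424 := d16_1 D53272 (iv D51424) D51423
theorem F238861 : act 2 n53272 = n52092 := d23_1 D53272 (iv D52092) (iv F230544)
theorem F238862 : act 3 n53272 = n53272 := d29_1 D53272 (iv D53272) F230545
theorem F238863 : act 6 n53272 = n51428 := d41_1 D53272 (iv D51428) (iv F230546)
theorem F238864 : act 7 n53272 = n52089 := d43_1 D53272 (iv D52089) (iv F230547)
def n53273 : Q := act 8 n51424
theorem D53273 : act 8 n51424 = n53273 := rfl
theorem F238865 : act 2 n53273 = n51427 := d22_1 D53273 (iv D51427) (iv F230549)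
theorem F238866 : act 6 n53273 = n51430 := d40_1 D53273 (iv D51430) (iv F230551)
theorem F238867 : act 9 n53273 = n51446 := d44_2 D51424 D53273 (iv D51446) (iv D49396) (iv F221264)
def n53274 : Q := act 6 n51425
theorem D53274 : act 6 n51425 = n53274 := rfl
theorem F238868 : act 0 n53274 = n52079 := d5_1 D53274 (iv F238661) F238657
theorem F238869 : act 1 n53274 = n51510 := d13_1 D53274 (iv F236064) F236061
theorem F238870 : act 2 n53274 = n51486 := d20_1 D53274 (iv F238615) F238618
theorem F238871 : act 3 n53274 = n53274 := d26_1 D53274 (iv D53274) F230552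
theorem F238872 : act 5 n53274 = n51431 := d35_1 D53274 (iv D51431) (iv D49385) (iv F221266) D51425
theorem F238873 : act 7 n53274 = n51488 := d39_2 F238632 D53274 F230838 (iv F231409) (iv F238631)
theorem F238874 : act 8 n53274 = n51447 := d40_2 (iv F230553) D53274 (iv D51447)
def n53275 : Q := act 9 n51425
theorem D53275 : act 9 n51425 = n53275 := rfl
theorem F238875 : act 3 n53275 = n53275 := d29_1 D53275 (iv D53275) F230552
theorem F238876 : act 5 n53275 = n51426 := d38_1 D53275 (iv D51426) D51425
def n53276 : Q := act 8 n51426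
theorem D53276 : act 8 n51426 = n53276 := rfl
theorem F238877 : act 4 n53276 = n51427 := d33_1 D53276 (iv D51427) (iv F230555)
theorem F238878 : act 6 n53276 = n51433 := d40_1 D53276 (iv D51433) (iv F230556)
theorem F238879 : act 9 n53276 = n51449 := d44_2 D51426 D53276 (iv D51449) (iv D49398) (iv F221267)
def n53277 : Q := act 8 n51428
theorem D53277 : act 8 n51428 = n53277 := rfl
theorem F238880 : act 1 n53277 = n51430 := d15_1 D53277 (iv D51430) (iv F230560)
theorem F238881 : act 2 n53277 = n52467 := d22_1 D53277 F234914 (iv F230561)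
theorem F238882 : act 5 n53277 = n52369 := d37_1 D53277 (iv D52369) (iv F230563)
theorem F238883 : act 9 n53277 = n51452 := d44_2 D51428 D53277 (iv D51452) (iv D49402) (iv F221272)
def n53278 : Q := act 8 n51429
theorem D53278 : act 8 n51429 = n53278 := rfl
theorem F238884 : act 0 n53278 = n52466 := d7_1 D53278 (iv D52466) (iv F230564)
theorem F238885 : act 2 n53278 = n51433 := d22_1 D53278 (iv D51433) (iv F230565)
theorem F238886 : act 4 n53278 = n51430 := d33_1 D53278 (iv D51430) (iv F230567)
theorem F238887 : act 5 n53278 = n52464 := d37_1 D53278 (iv D52464) (iv F230568)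
theorem F238888 : act 9 n53278 = n51455 := d44_2 D51429 D53278 (iv D51455) (iv D49404) (iv F221276)
def n53279 : Q := act 3 n51430
theorem D53279 : act 3 n51430 = n53279 := rfl
theorem F238889 : act 2 n53279 = n51595 := d17_1 D53279 (iv D51595) F221939 (iv F221289) (iv F230569)
theorem F238890 : act 5 n53279 = n52370 := d25_2 (iv F230570) D53279 (iv D52370)
theorem F238891 : act 8 n53279 = n53279 := d28_2 D51430 D53279 (iv D53279) (iv D51430) F221279
theorem F238892 : act 9 n53279 = n51456 := d29_2 (iv F230571) D53279 (iv D51456)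
def n53280 : Q := act 9 n51431
theorem D53280 : act 9 n51431 = n53280 := rfl
theorem F238893 : act 0 n53280 = n52080 := d8_1 D53280 (iv D52080) (iv F230572)
theorem F238894 : act 1 n53280 = n51511 := d16_1 D53280 (iv D51511) (iv F230573)
theorem F238895 : act 2 n53280 = n51491 := d23_1 D53280 (iv D51491) (iv F230574)
theorem F238896 : act 3 n53280 = n53280 := d29_1 D53280 (iv D53280) F230575
theorem F238897 : act 4 n53280 = n51484 := d34_1 D53280 (iv D51484) (iv F230576)
theorem F238898 : act 6 n53280 = n51432 := d41_1 D53280 (iv D51432) D51431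
theorem F238899 : act 7 n53280 = n51493 := d43_1 D53280 (iv D51493) (iv F230577)
def n53281 : Q := act 8 n51432
theorem D53281 : act 8 n51432 = n53281 := rfl
theorem F238900 : act 0 n53281 = n52088 := d7_1 D53281 (iv D52088) (iv F230579)
theorem F238901 : act 1 n53281 = n51516 := d15_1 D53281 (iv D51516) (iv F230580)
theorem F238902 : act 2 n53281 = n52464 := d22_1 D53281 (iv D52464) (iv F230581)
theorem F238903 : act 4 n53281 = n51485 := d33_1 D53281 (iv D51485) (iv F230583)
theorem F238904 : act 5 n53281 = n51433 := d37_1 D53281 (iv D51433) (iv F230584)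
theorem F238905 : act 9 n53281 = n51458 := d44_2 D51432 D53281 (iv D51458) (iv D49407) (iv F221286)
def n53282 : Q := act 3 n51433
theorem D53282 : act 3 n51433 = n53282 := rfl
theorem F238906 : act 4 n53282 = n51598 := d24_2 (iv F230585) D53282 (iv D51598) F221948 (iv F221289)
theorem F238907 : act 8 n53282 = n53282 := d28_2 D51433 D53282 (iv D53282) (iv D51433) F221287
theorem F238908 : act 9 n53282 = n51459 := d29_2 (iv F230586) D53282 (iv D51459)
def n53283 : Q := act 4 n51434
theorem D53283 : act 4 n51434 = n53283 := rfl
theorem F238909 : act 1 n53283 = n52064 := d11_1 D53283 (iv D52064) (iv F230587)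
theorem F238910 : act 2 n53283 = n52431 := d18_1 D53283 (iv D52431) (iv F230588)
theorem F238911 : act 3 n53283 = n51722 := d24_1 D53283 (iv D51722) (iv D49664) (iv F221294) D51434
theorem F238912 : act 5 n53283 = n52415 := d30_2 (iv F230589) D53283 (iv D52415) F225636 (iv F224119)
theorem F238913 : act 6 n53283 = n51436 := d31_2 (iv F230590) D53283 (iv D51436)
theorem F238914 : act 7 n53283 = n52068 := d32_2 (iv F230591) D53283 (iv D52068)
theorem F238915 : act 8 n53283 = n52439 := d33_2 (iv F230592) D53283 F234849
def n53284 : Q := act 9 n51434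
theorem D53284 : act 9 n51434 = n53284 := rfl
theorem F238916 : act 1 n53284 = n52065 := d16_1 D53284 (iv D52065) (iv F230587)
theorem F238917 : act 2 n53284 = n52432 := d23_1 D53284 (iv D52432) (iv F230588)
theorem F238918 : act 3 n53284 = n51435 := d29_1 D53284 (iv D51435) D51434
theorem F238919 : act 5 n53284 = n52077 := d38_1 D53284 (iv D52077) (iv F230589)
theorem F238920 : act 6 n53284 = n51437 := d41_1 D53284 (iv D51437) (iv F230590)
theorem F238921 : act 7 n53284 = n52069 := d43_1 D53284 (iv D52069) (iv F230591)
def n53285 : Q := act 9 n51436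
theorem D53285 : act 9 n51436 = n53285 := rfl
theorem F238922 : act 3 n53285 = n51727 := d29_1 D53285 (iv D51727) (iv F230600)
theorem F238923 : act 4 n53285 = n51437 := d34_1 D53285 (iv D51437) D51436
theorem F238924 : act 7 n53285 = n51442 := d43_1 D53285 (iv D51442) (iv F230601)
def n53286 : Q := act 8 n51437
theorem D53286 : act 8 n51437 = n53286 := rfl
theorem F238925 : act 3 n53286 = n51605 := d28_1 D53286 (iv D51605) F221962 (iv F221304) (iv F230602)
theorem F238926 : act 5 n53286 = n51444 := d37_1 D53286 (iv D51444) (iv F230603)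
theorem F238927 : act 7 n53286 = n51443 := d42_1 D53286 (iv D51443) (iv F230604)
def n53287 : Q := act 4 n51438
theorem D53287 : act 4 n51438 = n53287 := rfl
theorem F238928 : act 1 n53287 = n51439 := d11_1 D53287 (iv D51439) D51438
theorem F238929 : act 2 n53287 = n51599 := d18_1 D53287 (iv D51599) (iv F230605)
theorem F238930 : act 6 n53287 = n51601 := d31_2 (iv F230608) D53287 (iv D51601)
theorem F238931 : act 7 n53287 = n52426 := d32_2 (iv F230609) D53287 (iv D52426)
def n53288 : Q := act 9 n51438
theorem D53288 : act 9 n51438 = n53288 := rfl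
theorem F238932 : act 1 n53288 = n51440 := d16_1 D53288 (iv D51440) D51438
theorem F238933 : act 2 n53288 = n51600 := d23_1 D53288 (iv D51600) (iv F230605)
theorem F238934 : act 3 n53288 = n51468 := d29_1 D53288 (iv D51468) (iv F230606)
theorem F238935 : act 5 n53288 = n51445 := d38_1 D53288 (iv D51445) (iv F230607)
theorem F238936 : act 6 n53288 = n51602 := d41_1 D53288 (iv D51602) (iv F230608)
theorem F238937 : act 7 n53288 = n52427 := d43_1 D53288 (iv D52427) (iv F230609)
def n53289 : Q := act 3 n51439
theorem D53289 : act 3 n51439 = n53289 := rfl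
theorem F238938 : act 0 n53289 = n51726 := d2_1 D53289 (iv F238714) F238712
theorem F238939 : act 2 n53289 = n51731 := d17_1 D53289 (iv D51731) F222526 (iv F221308) (iv F230610)
theorem F238940 : act 4 n53289 = n51469 := d24_2 D51439 D53289 (iv D51469) (iv D49421) (iv F221305)
theorem F238941 : act 5 n53289 = n51690 := d25_2 F238705 D53289 (iv F238704)
theorem F238942 : act 6 n53289 = n52373 := d26_2 (iv F230611) D53289 (iv D52373)
theorem F238943 : act 7 n53289 = n51692 := d27_2 F238730 D53289 (iv F238727)
theorem F238944 : act 8 n52515 = n53289 := d42_0 F238943 F231731 (iv F235052)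
def n53290 : Q := act 9 n51439
theorem D53290 : act 9 n51439 = n53290 := rfl
theorem F238945 : act 2 n53290 = n51442 := d23_1 D53290 (iv D51442) (iv F230610)
theorem F238946 : act 4 n53290 = n51440 := d34_1 D53290 (iv D51440) D51439
theorem F238947 : act 6 n53290 = n52375 := d41_1 D53290 (iv D52375) (iv F230611)
def n53291 : Q := act 8 n51440
theorem D53291 : act 8 n51440 = n53291 := rfl
theorem F238948 : act 2 n53291 = n51443 := d22_1 D53291 (iv D51443) (iv F230612)
theorem F238949 : act 5 n53291 = n51446 := d37_1 D53291 (iv D51446) (iv F230614)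
theorem F238950 : act 6 n53291 = n52376 := d40_1 D53291 (iv D52376) (iv F230615)
def n53292 : Q := act 6 n51441
theorem D53292 : act 6 n51441 = n53292 := rfl
theorem F238951 : act 0 n53292 = n52431 := d5_1 D53292 (iv F238729) F238724
theorem F238952 : act 1 n53292 = n51525 := d13_1 D53292 (iv F236119) F236116
theorem F238953 : act 3 n53292 = n51735 := d26_1 D53292 (iv D51735) (iv F230616)
theorem F238954 : act 4 n53292 = n51447 := d31_1 D53292 (iv D51447) (iv F230617)
theorem F238955 : act 5 n53292 = n51489 := d35_1 D53292 F230842 (iv D50356) (iv F221309) D51441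
theorem F238956 : act 7 n52436 = n53292 := d32_0 F238954 (iv F230635) D52436
def n53293 : Q := act 9 n51441
theorem D53293 : act 9 n51441 = n53293 := rfl
theorem F238957 : act 3 n53293 = n51736 := d29_1 D53293 (iv D51736) (iv F230616)
theorem F238958 : act 4 n53293 = n51448 := d34_1 D53293 (iv D51448) (iv F230617)
theorem F238959 : act 5 n53293 = n51442 := d38_1 D53293 (iv D51442) D51441
def n53294 : Q := act 8 n51442
theorem D53294 : act 8 n51442 = n53294 := rfl
theorem F238960 : act 4 n53294 = n51443 := d33_1 D53294 (iv D51443) (iv F230619)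
theorem F238961 : act 6 n53294 = n52378 := d40_1 D53294 (iv D52378) (iv F230620)
def n53295 : Q := act 8 n51445
theorem D53295 : act 8 n51445 = n53295 := rfl
theorem F238962 : act 1 n53295 = n51446 := d15_1 D53295 (iv D51446) (iv F230626)
theorem F238963 : act 6 n53295 = n51452 := d40_1 D53295 (iv D51452) (iv F230628)
def n53296 : Q := act 3 n51446
theorem D53296 : act 3 n51446 = n53296 := rfl
theorem F238964 : act 2 n53296 = n51628 := d17_1 D53296 (iv D51628) F222026 (iv F221324) (iv F230629)
theorem F238965 : act 6 n53296 = n51456 := d26_2 (iv F230630) D53296 (iv D51456)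
theorem F238966 : act 8 n53296 = n51474 := d28_2 D51446 D53296 (iv D51474) (iv D49427) (iv F221318)
def n53297 : Q := act 9 n51447
theorem D53297 : act 9 n51447 = n53297 := rfl
theorem F238967 : act 0 n53297 = n52432 := d8_1 D53297 (iv D52432) (iv F230631)
theorem F238968 : act 1 n53297 = n51537 := d16_1 D53297 (iv D51537) (iv F230632)
theorem F238969 : act 3 n53297 = n51460 := d29_1 D53297 (iv D51460) (iv F230633)
theorem F238970 : act 5 n53297 = n51457 := d38_1 D53297 (iv D51457) (iv F230634)
theorem F238971 : act 6 n53297 = n51448 := d41_1 D53297 (iv D51448) D51447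
theorem F238972 : act 7 n53297 = n52437 := d43_1 D53297 (iv D52437) F230635
def n53298 : Q := act 8 n51448
theorem D53298 : act 8 n51448 = n53298 := rfl
theorem F238973 : act 5 n53298 = n51449 := d37_1 D53298 (iv D51449) (iv F230637)
def n53299 : Q := act 3 n51449
theorem D53299 : act 3 n51449 = n53299 := rfl
theorem F238974 : act 4 n53299 = n51632 := d24_2 (iv F230638) D53299 (iv D51632) F222032 (iv F221324)
theorem F238975 : act 6 n53299 = n51459 := d26_2 (iv F230639) D53299 (iv D51459)
theorem F238976 : act 8 n53299 = n51462 := d28_2 D51449 D53299 (iv D51462) (iv D49412) (iv F221321)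
def n53300 : Q := act 8 n51450
theorem D53300 : act 8 n51450 = n53300 := rfl
theorem F238977 : act 0 n53300 = n51452 := d7_1 D53300 (iv D51452) (iv F230640)
theorem F238978 : act 1 n53300 = n52471 := d15_1 D53300 F234921 (iv F230641)
theorem F238979 : act 3 n53300 = n52469 := d28_1 D53300 F234917 F225824 F221448 (iv F230642)
theorem F238980 : act 4 n53300 = n52467 := d33_1 D53300 F234914 (iv F230643)
theorem F238981 : act 5 n53300 = n52383 := d37_1 D53300 (iv D52383) (iv F230644)
def n53301 : Q := act 8 n51451
theorem D53301 : act 8 n51451 = n53301 := rfl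
theorem F238982 : act 0 n53301 = n52467 := d7_1 D53301 F234914 (iv F230645)
theorem F238983 : act 1 n53301 = n51455 := d15_1 D53301 (iv D51455) (iv F230646)
theorem F238984 : act 3 n53301 = n52464 := d28_1 D53301 (iv D52464) F225735 D50761 (iv F230647)
theorem F238985 : act 4 n53301 = n51452 := d33_1 D53301 (iv D51452) (iv F230648)
def n53302 : Q := act 3 n51452
theorem D53302 : act 3 n51452 = n53302 := rfl
theorem F238986 : act 0 n53302 = n52469 := d2_1 D53302 (iv F238979) F238977
theorem F238987 : act 1 n53302 = n51456 := d10_1 D53302 (iv D51456) (iv F230649)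
theorem F238988 : act 4 n53302 = n52465 := d24_2 F238985 D53302 (iv D52465) (iv F234908) (iv F238984)
theorem F238989 : act 5 n53302 = n52385 := d25_2 (iv F230650) D53302 (iv D52385)
theorem F238990 : act 8 n53302 = n51475 := d28_2 D51452 D53302 (iv D51475) (iv D49429) (iv F221330)
def n53303 : Q := act 9 n51453
theorem D53303 : act 9 n51453 = n53303 := rfl
theorem F238991 : act 0 n53303 = n52077 := d8_1 D53303 (iv D52077) (iv F230651)
theorem F238992 : act 1 n53303 = n51506 := d16_1 D53303 (iv D51506) (iv F230652)
theorem F238993 : act 2 n53303 = n51457 := d23_1 D53303 (iv D51457) (iv F230653)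
theorem F238994 : act 3 n53303 = n51483 := d29_1 D53303 (iv D51483) (iv F230654)
theorem F238995 : act 4 n53303 = n51493 := d34_1 D53303 (iv D51493) (iv F230655)
theorem F238996 : act 6 n53303 = n51454 := d41_1 D53303 (iv D51454) D51453
theorem F238997 : act 7 n53303 = n51484 := d43_1 D53303 (iv D51484) (iv F230656)
def n53304 : Q := act 8 n51454
theorem D53304 : act 8 n51454 = n53304 := rfl
theorem F238998 : act 0 n53304 = n52423 := d7_1 D53304 (iv D52423) (iv F230658)
theorem F238999 : act 2 n53304 = n51458 := d22_1 D53304 (iv D51458) (iv F230659)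
theorem F239000 : act 4 n53304 = n51496 := d33_1 D53304 (iv D51496) (iv F230660)
theorem F239001 : act 5 n53304 = n51455 := d37_1 D53304 (iv D51455) (iv F230661)
theorem F239002 : act 9 n53304 = n52464 := d44_2 D51454 D53304 (iv D52464) (iv D50448) (iv F221335)
def n53305 : Q := act 4 n51456
theorem D53305 : act 4 n51456 = n53305 := rfl
theorem F239003 : act 0 n53305 = n52410 := d3_1 D53305 (iv F238772) F238769
theorem F239004 : act 1 n53305 = n52465 := d11_1 D53305 (iv F238988) F238987
theorem F239005 : act 2 n53305 = n51639 := d18_1 D53305 (iv D51639) (iv F230664)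
theorem F239006 : act 3 n53305 = n52409 := d24_1 D53305 (iv F238392) F238391 F230663 D51456
theorem F239007 : act 8 n53305 = n51476 := d33_2 (iv F230666) D53305 (iv D51476)
def n53306 : Q := act 8 n51457
theorem D53306 : act 8 n51457 = n53306 := rfl
theorem F239008 : act 0 n53306 = n52452 := d7_1 D53306 (iv D52452) (iv F230667)
theorem F239009 : act 1 n53306 = n51538 := d15_1 D53306 (iv D51538) (iv F230668)
theorem F239010 : act 4 n53306 = n51494 := d33_1 D53306 (iv D51494) (iv F230670)
theorem F239011 : act 6 n53306 = n51458 := d40_1 D53306 (iv D51458) (iv F230671)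
theorem F239012 : act 7 n53306 = n52454 := d42_1 D53306 (iv D52454) (iv F230672)
def n53307 : Q := act 3 n51458
theorem D53307 : act 3 n51458 = n53307 := rfl
theorem F239013 : act 1 n53307 = n51544 := d10_1 D53307 (iv D51544) (iv F230673)
theorem F239014 : act 4 n53307 = n52468 := d24_2 (iv F230674) D53307 (iv F236339) F236340 F230322
theorem F239015 : act 5 n53307 = n51459 := d25_2 (iv F230675) D53307 (iv D51459)
theorem F239016 : act 8 n53307 = n51464 := d28_2 D51458 D53307 (iv D51464) (iv D49414) (iv F221346)
theorem F239017 : act 2 n52469 = n53307 := d45_7 D48270 D50454 (iv F233333) F233335 D52471 F234920 (iv F234916) (iv D53307) (iv F238905) (iv D53281) F230582 F230584 F221288 F211295 (iv F208460) F208461 (iv F206498) (iv F206877) F206876 F135140 (iv F206002) F128198 F195087 F89535 F89536 (iv F202419) D16561 F72052 F202908 F89559 (iv F206103) F51282 (iv F206236) F59756 F59757 (iv D13594) (iv D9376) (iv D6478) D6479 F29684 (iv F29795) (iv F42208) (iv F59970) F59971 F59972 D13665 D19857 F85723 D19859 F85729 F63264 F45128 F32603 D10392 F202810 (iv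 F84738) (iv F121161) (iv F205152) (iv F134571) F134570 F202319 F201895 (iv D30933) (iv D21230) F200973 F48301 F48300 D10848 F48309 F34778 (iv D5434) F201498 F22152 (iv F31305) (iv D6838) (iv F29815) (iv D6507) F21124 F21125 D6507 (iv F201978) (iv F32605) F32603 D10391 (iv F65990) (iv F94340) F94339 (iv F135204) (iv F189150)
def n53308 : Q := act 2 n51459
theorem D53308 : act 2 n51459 = n53308 := rfl
theorem F239018 : act 0 n53308 = n52385 := d1_1 D53308 (iv F238777) F238775
theorem F239019 : act 3 n53308 = n52383 := d17_2 D51459 D53308 (iv F238390) F238391 F230662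
theorem F239020 : act 4 n53308 = n51643 := d18_2 (iv F230676) D53308 (iv D51643)
theorem F239021 : act 5 n53308 = n52469 := d19_2 F239015 D53308 F239017
theorem F239022 : act 8 n53308 = n51465 := d22_2 (iv F230677) D53308 (iv D51465)
theorem F239023 : act 1 n52472 = n53308 := d15_3 F239022 (iv F230708) (iv F234922)
def n53309 : Q := act 8 n51460
theorem D53309 : act 8 n51460 = n53309 := rfl
theorem F239024 : act 0 n53309 = n52474 := d7_1 D53309 (iv D52474) (iv F230678)
theorem F239025 : act 1 n53309 = n51548 := d15_1 D53309 (iv D51548) (iv F230679)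
theorem F239026 : act 2 n53309 = n52490 := d22_1 D53309 (iv D52490) (iv F230680)
theorem F239027 : act 4 n53309 = n51756 := d33_1 D53309 (iv D51756) (iv F230681)
theorem F239028 : act 5 n53309 = n51463 := d37_1 D53309 (iv D51463) (iv F230682)
theorem F239029 : act 6 n53309 = n51461 := d40_1 D53309 (iv D51461) (iv F230683)
theorem F239030 : act 7 n53309 = n52476 := d42_1 D53309 (iv D52476) (iv F230684)
theorem F239031 : act 9 n53309 = n53309 := d44_2 D51460 D53309 (iv D53309) (iv D51460) F221361
def n53310 : Q := act 3 n51461
theorem D53310 : act 3 n51461 = n53310 := rfl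
theorem F239032 : act 5 n53310 = n51462 := d25_2 (iv F230686) D53310 (iv D51462)
theorem F239033 : act 9 n53310 = n53310 := d29_2 F230687 D53310 (iv D53310)
def n53311 : Q := act 2 n51462
theorem D53311 : act 2 n51462 = n53311 := rfl
theorem F239034 : act 0 n53311 = n51667 := d1_1 D53311 (iv F238790) F238788
theorem F239035 : act 3 n53311 = n51559 := d17_2 D51462 D53311 F231156 (iv F230238) F230237
theorem F239036 : act 4 n53311 = n51649 := d18_2 (iv F230688) D53311 (iv D51649)
theorem F239037 : act 6 n53311 = n51465 := d20_2 (iv F230689) D53311 (iv D51465)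
theorem F239038 : act 7 n53311 = n51562 := d21_2 F238808 D53311 (iv F238805)
theorem F239039 : act 9 n53311 = n53311 := d23_2 F230690 D53311 (iv D53311)
theorem F239040 : act 1 n52489 = n53311 := d13_3 F239037 (iv F230708) D52489
def n53312 : Q := act 3 n51463
theorem D53312 : act 3 n51463 = n53312 := rfl
theorem F239041 : act 0 n53312 = n52484 := d2_1 D53312 (iv D52484) (iv F230691)
theorem F239042 : act 1 n53312 = n51549 := d10_1 D53312 (iv D51549) (iv F230692)
theorem F239043 : act 2 n53312 = n52487 := d17_1 D53312 F234968 (iv F230791) F230792 (iv F230693)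
theorem F239044 : act 4 n53312 = n52486 := d24_2 (iv F230694) D53312 F234964 (iv F227874) F227873
theorem F239045 : act 6 n53312 = n51464 := d26_2 (iv F230695) D53312 (iv D51464)
theorem F239046 : act 7 n53312 = n52485 := d27_2 (iv F230696) D53312 (iv D52485)
theorem F239047 : act 9 n53312 = n53312 := d29_2 F230697 D53312 (iv D53312)
def n53313 : Q := act 8 n51468
theorem D53313 : act 8 n51468 = n53313 := rfl
theorem F239048 : act 0 n53313 = n52726 := d7_1 D53313 F236541 F236534
theorem F239049 : act 1 n53313 = n51471 := d15_1 D53313 (iv D51471) (iv F230723)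
theorem F239050 : act 2 n53313 = n51479 := d22_1 D53313 (iv D51479) (iv F230724)
theorem F239051 : act 5 n53313 = n51473 := d37_1 D53313 (iv D51473) (iv F230725)
theorem F239052 : act 6 n53313 = n51655 := d40_1 D53313 (iv D51655) (iv F230726)
theorem F239053 : act 7 n53313 = n52473 := d42_1 D53313 (iv D52473) (iv F230727)
theorem F239054 : act 9 n53313 = n53313 := d44_2 D51468 D53313 (iv D53313) (iv D51468) F221411
def n53314 : Q := act 9 n51469
theorem D53314 : act 9 n51469 = n53314 := rfl
theorem F239055 : act 0 n53314 = n51739 := d8_1 D53314 (iv D51739) (iv F230728)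
theorem F239056 : act 2 n53314 = n51762 := d23_1 D53314 (iv D51762) (iv F230729)
theorem F239057 : act 3 n53314 = n51470 := d29_1 D53314 (iv D51470) D51469
theorem F239058 : act 5 n53314 = n51695 := d38_1 D53314 (iv D51695) (iv F230730)
theorem F239059 : act 6 n53314 = n52389 := d41_1 D53314 (iv D52389) (iv F230731)
theorem F239060 : act 7 n53314 = n51697 := d43_1 D53314 (iv D51697) (iv F230732)
def n53315 : Q := act 8 n51470
theorem D53315 : act 8 n51470 = n53315 := rfl
theorem F239061 : act 0 n53315 = n51753 := d7_1 D53315 (iv D51753) (iv F230734)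
theorem F239062 : act 2 n53315 = n51472 := d22_1 D53315 (iv D51472) (iv F230735)
theorem F239063 : act 4 n53315 = n51471 := d33_1 D53315 (iv D51471) (iv F230736)
theorem F239064 : act 5 n53315 = n51700 := d37_1 D53315 (iv D51700) (iv F230737)
theorem F239065 : act 6 n53315 = n52390 := d40_1 D53315 (iv D52390) (iv F230738)
theorem F239066 : act 7 n53315 = n51701 := d42_1 D53315 (iv D51701) (iv F230739)
theorem F239067 : act 9 n53315 = n53315 := d44_2 D51470 D53315 (iv D53315) (iv D51470) F221417
def n53316 : Q := act 3 n51471
theorem D53316 : act 3 n51471 = n53316 := rfl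
theorem F239068 : act 2 n53316 = n51665 := d17_1 D53316 (iv D51665) F222145 (iv F221428) (iv F230740)
theorem F239069 : act 5 n53316 = n51474 := d25_2 (iv F230741) D53316 (iv D51474)
theorem F239070 : act 6 n53316 = n52391 := d26_2 (iv F230742) D53316 (iv D52391)
theorem F239071 : act 9 n53316 = n53316 := d29_2 F230743 D53316 (iv D53316)
def n53317 : Q := act 3 n51473
theorem D53317 : act 3 n51473 = n53317 := rfl
theorem F239072 : act 0 n53317 = n52487 := d2_1 D53317 F234968 (iv F230751)
theorem F239073 : act 1 n53317 = n51474 := d10_1 D53317 (iv D51474) (iv F230752)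
theorem F239074 : act 2 n53317 = n52484 := d17_1 D53317 (iv D52484) F225802 (iv F221517) (iv F230753)
theorem F239075 : act 4 n53317 = n52485 := d24_2 (iv F230754) D53317 (iv D52485) F225810 D50769
theorem F239076 : act 6 n53317 = n51475 := d26_2 (iv F230755) D53317 (iv D51475)
theorem F239077 : act 7 n53317 = n52486 := d27_2 (iv F230756) D53317 F234964
theorem F239078 : act 9 n53317 = n53317 := d29_2 F230757 D53317 (iv D53317)
def n53318 : Q := act 4 n51474
theorem D53318 : act 4 n51474 = n53318 := rfl
theorem F239079 : act 0 n53318 = n51645 := d3_1 D53318 (iv F238806) F238803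
theorem F239080 : act 1 n53318 = n52485 := d11_1 D53318 (iv F239075) F239073
theorem F239081 : act 2 n53318 = n51670 := d18_1 D53318 (iv D51670) (iv F230758)
theorem F239082 : act 3 n53318 = n51547 := d24_1 D53318 F231091 (iv F230264) F230265 D51474
theorem F239083 : act 6 n53318 = n51476 := d31_2 (iv F230759) D53318 (iv D51476)
theorem F239084 : act 7 n53318 = n51549 := d32_2 F238793 D53318 (iv F238791)
theorem F239085 : act 9 n53318 = n53318 := d34_2 F230760 D53318 (iv D53318)
def n53319 : Q := act 8 n51477
theorem D53319 : act 8 n51477 = n53319 := rfl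
theorem F239086 : act 0 n53319 = n51479 := d7_1 D53319 (iv D51479) (iv F230771)
theorem F239087 : act 1 n53319 = n53319 := d15_1 D53319 (iv D53319) F230772
theorem F239088 : act 2 n53319 = n52726 := d22_1 D53319 F236541 F236536
theorem F239089 : act 3 n53319 = n52490 := d28_1 D53319 (iv D52490) (iv F230476) F230481 (iv F230773)
theorem F239090 : act 5 n53319 = n51480 := d37_1 D53319 (iv D51480) (iv F230774)
theorem F239091 : act 6 n53319 = n51554 := d40_1 D53319 (iv D51554) (iv F230775)
theorem F239092 : act 7 n53319 = n52412 := d42_1 D53319 (iv D52412) (iv F230776)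
theorem F239093 : act 9 n53319 = n53319 := d44_2 D51477 D53319 (iv D53319) (iv D51477) F221477
def n53320 : Q := act 4 n51481
theorem D53320 : act 4 n51481 = n53320 := rfl
theorem F239094 : act 0 n53320 = n52068 := d3_1 D53320 (iv D52068) (iv F230797)
theorem F239095 : act 1 n53320 = n51503 := d11_1 D53320 (iv D51503) (iv F230798)
theorem F239096 : act 2 n53320 = n52436 := d18_1 D53320 (iv D52436) (iv F230799)
theorem F239097 : act 3 n53320 = n52492 := d24_1 D53320 (iv D52492) (iv D50492) (iv F221537) D51481
theorem F239098 : act 6 n53320 = n52349 := d31_2 (iv F230801) D53320 (iv D52349)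
theorem F239099 : act 8 n53320 = n51489 := d33_2 (iv F230802) D53320 (iv D51489)
def n53321 : Q := act 9 n51481
theorem D53321 : act 9 n51481 = n53321 := rfl
theorem F239100 : act 0 n53321 = n52069 := d8_1 D53321 (iv D52069) (iv F230797)
theorem F239101 : act 1 n53321 = n51504 := d16_1 D53321 (iv D51504) (iv F230798)
theorem F239102 : act 2 n53321 = n52437 := d23_1 D53321 (iv D52437) (iv F230799)
theorem F239103 : act 3 n53321 = n51482 := d29_1 D53321 (iv D51482) D51481
theorem F239104 : act 5 n53321 = n51484 := d38_1 D53321 (iv D51484) (iv F230800)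
theorem F239105 : act 6 n53321 = n52350 := d41_1 D53321 (iv D52350) (iv F230801)
def n53322 : Q := act 8 n51484
theorem D53322 : act 8 n51484 = n53322 := rfl
theorem F239106 : act 0 n53322 = n52081 := d7_1 D53322 (iv D52081) (iv F230815)
theorem F239107 : act 1 n53322 = n51512 := d15_1 D53322 (iv D51512) (iv F230816)
theorem F239108 : act 2 n53322 = n52454 := d22_1 D53322 (iv D52454) (iv F230817)
theorem F239109 : act 6 n53322 = n51485 := d40_1 D53322 (iv D51485) (iv F230819)
theorem F239110 : act 9 n53322 = n51494 := d44_2 D51484 D53322 (iv D51494) (iv D49455) (iv F221549)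
def n53323 : Q := act 4 n51486
theorem D53323 : act 4 n51486 = n53323 := rfl
theorem F239111 : act 0 n53323 = n52439 := d3_1 D53323 F234849 (iv F230825)
theorem F239112 : act 1 n53323 = n51520 := d11_1 D53323 (iv D51520) (iv F230826)
theorem F239113 : act 3 n53323 = n51772 := d24_1 D53323 (iv D51772) (iv D49719) (iv F221563) D51486
theorem F239114 : act 5 n53323 = n52436 := d30_2 (iv F230827) D53323 (iv D52436) F225682 (iv F221576)
theorem F239115 : act 7 n53323 = n51489 := d32_2 (iv F230828) D53323 (iv D51489)
def n53324 : Q := act 9 n51486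
theorem D53324 : act 9 n51486 = n53324 := rfl
theorem F239116 : act 0 n53324 = n52455 := d8_1 D53324 (iv D52455) (iv F230825)
theorem F239117 : act 1 n53324 = n51521 := d16_1 D53324 (iv D51521) (iv F230826)
theorem F239118 : act 3 n53324 = n51487 := d29_1 D53324 (iv D51487) D51486
theorem F239119 : act 5 n53324 = n51491 := d38_1 D53324 (iv D51491) (iv F230827)
theorem F239120 : act 7 n53324 = n51490 := d43_1 D53324 (iv D51490) (iv F230828)
def n53325 : Q := act 1 n51488
theorem D53325 : act 1 n51488 = n53325 := rfl
theorem F239121 : act 0 n53325 = n51583 := d0_1 D53325 F231260 F225548 D50406 (iv F230835)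
theorem F239122 : act 2 n53325 = n51522 := d9_2 D51488 D53325 (iv D51522) (iv D49477) (iv F221566)
theorem F239123 : act 3 n53325 = n53325 := d10_2 F230836 D53325 (iv D53325)
theorem F239124 : act 5 n53325 = n51492 := d12_2 (iv F230837) D53325 (iv D51492)
theorem F239125 : act 6 n53325 = n51616 := d13_2 (iv F230838) D53325 F231377
theorem F239126 : act 7 n53325 = n51510 := d14_2 F238873 D53325 (iv F238869)
theorem F239127 : act 8 n53325 = n51529 := d15_2 (iv F230839) D53325 F231017
def n53326 : Q := act 4 n51488
theorem D53326 : act 4 n51488 = n53326 := rfl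
theorem F239128 : act 0 n53326 = n52415 := d3_1 D53326 (iv D52415) (iv F230835)
theorem F239129 : act 2 n53326 = n51489 := d18_1 D53326 (iv D51489) D51488
theorem F239130 : act 6 n53326 = n52374 := d31_2 (iv F230838) D53326 F234676
theorem F239131 : act 8 n53326 = n52436 := d33_2 (iv F230839) D53326 (iv D52436)
def n53327 : Q := act 9 n51488
theorem D53327 : act 9 n51488 = n53327 := rfl
theorem F239132 : act 0 n53327 = n52416 := d8_1 D53327 (iv D52416) (iv F230835)
theorem F239133 : act 2 n53327 = n51490 := d23_1 D53327 (iv D51490) D51488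
theorem F239134 : act 3 n53327 = n53327 := d29_1 D53327 (iv D53327) F230836
theorem F239135 : act 5 n53327 = n51493 := d38_1 D53327 (iv D51493) (iv F230837)
theorem F239136 : act 6 n53327 = n52379 := d41_1 D53327 (iv D52379) (iv F230838)
def n53328 : Q := act 9 n51489
theorem D53328 : act 9 n51489 = n53328 := rfl
theorem F239137 : act 1 n53328 = n51526 := d16_1 D53328 (iv D51526) (iv F230840)
theorem F239138 : act 3 n53328 = n51776 := d29_1 D53328 (iv D51776) (iv F230841)
theorem F239139 : act 4 n53328 = n51490 := d34_1 D53328 (iv D51490) D51489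
theorem F239140 : act 6 n53328 = n52377 := d41_1 D53328 (iv D52377) (iv F230842)
def n53329 : Q := act 8 n51490
theorem D53329 : act 8 n51490 = n53329 := rfl
theorem F239141 : act 1 n53329 = n51527 := d15_1 D53329 (iv D51527) (iv F230843)
theorem F239142 : act 5 n53329 = n51494 := d37_1 D53329 (iv D51494) (iv F230845)
theorem F239143 : act 6 n53329 = n52382 := d40_1 D53329 (iv D52382) (iv F230846)
def n53330 : Q := act 8 n51491
theorem D53330 : act 8 n51491 = n53330 := rfl
theorem F239144 : act 0 n53330 = n52456 := d7_1 D53330 (iv D52456) (iv F230847)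
theorem F239145 : act 1 n53330 = n51531 := d15_1 D53330 (iv D51531) (iv F230848)
theorem F239146 : act 4 n53330 = n52454 := d33_1 D53330 (iv D52454) (iv F230850)
theorem F239147 : act 6 n53330 = n52464 := d40_1 D53330 (iv D52464) (iv F230851)
theorem F239148 : act 7 n53330 = n51494 := d42_1 D53330 (iv D51494) (iv F230852)
def n53331 : Q := act 9 n51492
theorem D53331 : act 9 n51492 = n53331 := rfl
theorem F239149 : act 0 n53331 = n51584 := d8_1 D53331 (iv D51584) (iv F230853)
theorem F239150 : act 1 n53331 = n51493 := d16_1 D53331 (iv D51493) D51492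
theorem F239151 : act 2 n53331 = n51533 := d23_1 D53331 (iv D51533) (iv F230854)
theorem F239152 : act 3 n53331 = n53331 := d29_1 D53331 (iv D53331) F230855
theorem F239153 : act 4 n53331 = n51506 := d34_1 D53331 (iv D51506) (iv F230856)
theorem F239154 : act 6 n53331 = n51495 := d41_1 D53331 (iv D51495) (iv F230857)
theorem F239155 : act 7 n53331 = n51511 := d43_1 D53331 (iv D51511) (iv F230858)
def n53332 : Q := act 8 n51493
theorem D53332 : act 8 n51493 = n53332 := rfl
theorem F239156 : act 0 n53332 = n52421 := d7_1 D53332 (iv D52421) (iv F230860)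
theorem F239157 : act 2 n53332 = n51494 := d22_1 D53332 (iv D51494) (iv F230861)
theorem F239158 : act 6 n53332 = n51496 := d40_1 D53332 (iv D51496) (iv F230863)
theorem F239159 : act 9 n53332 = n52454 := d44_2 D51493 D53332 (iv D52454) (iv D50437) (iv F221588)
def n53333 : Q := act 8 n51495
theorem D53333 : act 8 n51495 = n53333 := rfl
theorem F239160 : act 0 n53333 = n52399 := d7_1 D53333 (iv D52399) (iv F230866)
theorem F239161 : act 1 n53333 = n51496 := d15_1 D53333 (iv D51496) (iv F230867)
theorem F239162 : act 2 n53333 = n51541 := d22_1 D53333 (iv D51541) (iv F230868)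
theorem F239163 : act 5 n53333 = n52384 := d37_1 D53333 (iv D52384) (iv F230870)
theorem F239164 : act 9 n53333 = n52409 := d44_2 D51495 D53333 (iv D52409) (iv D50395) (iv F221596)
def n53334 : Q := act 3 n51496
theorem D53334 : act 3 n51496 = n53334 := rfl
theorem F239165 : act 0 n53334 = n52424 := d2_1 D53334 (iv D52424) (iv F230871)
theorem F239166 : act 5 n53334 = n52386 := d25_2 (iv F230873) D53334 (iv D52386)
theorem F239167 : act 8 n53334 = n53334 := d28_2 D51496 D53334 (iv D53334) (iv D51496) F221599
theorem F239168 : act 9 n53334 = n52465 := d29_2 (iv F230874) D53334 (iv D52465)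
def n53335 : Q := act 3 n51497
theorem D53335 : act 3 n51497 = n53335 := rfl
theorem F239169 : act 0 n53335 = n51566 := d2_1 D53335 (iv D51566) (iv F230875)
theorem F239170 : act 1 n53335 = n51688 := d10_1 D53335 (iv D51688) (iv F230876)
theorem F239171 : act 5 n53335 = n53335 := d25_2 F230879 D53335 (iv D53335)
theorem F239172 : act 6 n53335 = n51678 := d26_2 (iv F230880) D53335 (iv D51678)
theorem F239173 : act 7 n53335 = n51498 := d27_2 (iv F230881) D53335 (iv D51498)
theorem F239174 : act 8 n53335 = n51782 := d28_2 D51497 D53335 (iv D51782) (iv D49729) (iv F221606)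
theorem F239175 : act 2 n53335 = n52304 := d46_4 D47271 (iv F221619) (iv F230878) D53335 F234434 (iv F228972) F228976 F224730 (iv F233835) (iv D52157) F224591 (iv F224519) F224518 (iv F225915) (iv D50505) (iv D48335) (iv D45556) F132091 F92984 (iv F203952) F124939 F88357 F203181 F49986 F35175 F24844 F19626 D4200 (iv F27837) F27836 F202096 F19715 (iv F27840) (iv F202432) F202435 F202039 F34967 (iv D7708) (iv F201630) (iv F24722) F24721 D5343 F201840 F34393 F24283 (iv F22303) F22302 F15823 F15827 (iv F22181) (iv F31114) (iv F44127) F44126 (iv F62766) (iv F196382) F205496 F122007 (iv F174949) (iv F208135) F208134 F175817 (iv F178191)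
def n53336 : Q := act 9 n51497
theorem D53336 : act 9 n51497 = n53336 := rfl
theorem F239176 : act 0 n53336 = n51567 := d8_1 D53336 (iv D51567) (iv F230875)
theorem F239177 : act 1 n53336 = n51689 := d16_1 D53336 (iv D51689) (iv F230876)
theorem F239178 : act 2 n53336 = n53336 := d23_1 D53336 (iv D53336) F230877
theorem F239179 : act 4 n53336 = n51501 := d34_1 D53336 (iv D51501) (iv F230878)
theorem F239180 : act 5 n53336 = n53336 := d38_1 D53336 (iv D53336) F230879
theorem F239181 : act 6 n53336 = n51679 := d41_1 D53336 (iv D51679) (iv F230880)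
theorem F239182 : act 7 n53336 = n51499 := d43_1 D53336 (iv D51499) (iv F230881)
theorem F239183 : act 8 n53336 = n51770 := d44_1 D53336 (iv D51770) (iv D49718) (iv F221610) D51497
def n53337 : Q := act 2 n51498
theorem D53337 : act 2 n51498 = n53337 := rfl
theorem F239184 : act 0 n53337 = n51568 := d1_1 D53337 (iv D51568) (iv F230882)
theorem F239185 : act 1 n53337 = n52299 := d9_1 D53337 F236610 F236605 F231802 (iv F230883)
theorem F239186 : act 3 n53337 = n53337 := d17_2 D51498 D53337 (iv D53337) (iv D51498) F221613
theorem F239187 : act 5 n53337 = n53337 := d19_2 F230884 D53337 (iv D53337)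
theorem F239188 : act 6 n53337 = n52164 := d20_2 (iv F230885) D53337 F233857
theorem F239189 : act 7 n53337 = n52304 := d21_2 F239173 D53337 (iv F239175)
theorem F239190 : act 8 n53337 = n51784 := d22_2 (iv F230886) D53337 (iv D51784)
def n53338 : Q := act 4 n51498
theorem D53338 : act 4 n51498 = n53338 := rfl
theorem F239191 : act 0 n53338 = n51569 := d3_1 D53338 (iv D51569) (iv F230882)
theorem F239192 : act 1 n53338 = n52492 := d11_1 D53338 (iv D52492) (iv F230883)
theorem F239193 : act 3 n53338 = n51503 := d24_1 D53338 (iv D51503) (iv D49462) (iv F221614) D51498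
theorem F239194 : act 6 n53338 = n52152 := d31_2 (iv F230885) D53338 F233817
theorem F239195 : act 8 n53338 = n51785 := d33_2 (iv F230886) D53338 (iv D51785)
def n53339 : Q := act 9 n51498
theorem D53339 : act 9 n51498 = n53339 := rfl
theorem F239196 : act 0 n53339 = n51570 := d8_1 D53339 (iv D51570) (iv F230882)
theorem F239197 : act 1 n53339 = n52493 := d16_1 D53339 (iv D52493) (iv F230883)
theorem F239198 : act 3 n53339 = n51499 := d29_1 D53339 (iv D51499) D51498
theorem F239199 : act 5 n53339 = n53339 := d38_1 D53339 (iv D53339) F230884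
theorem F239200 : act 6 n53339 = n52167 := d41_1 D53339 (iv D52167) (iv F230885)
def n53340 : Q := act 2 n51500
theorem D53340 : act 2 n51500 = n53340 := rfl
theorem F239201 : act 0 n53340 = n51573 := d1_1 D53340 (iv D51573) (iv F230894)
theorem F239202 : act 1 n53340 = n51534 := d9_1 D53340 F231039 (iv F230632) (iv F238689) F238688
theorem F239203 : act 3 n53340 = n53340 := d17_2 D51500 D53340 (iv D53340) (iv D51500) F221618
theorem F239204 : act 5 n53340 = n51505 := d19_2 (iv F230895) D53340 (iv D51505)
theorem F239205 : act 7 n53340 = n51502 := d21_2 (iv F230896) D53340 (iv D51502)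
theorem F239206 : act 8 n53340 = n51519 := d22_2 (iv F230897) D53340 (iv D51519)
def n53341 : Q := act 4 n51500
theorem D53341 : act 4 n51500 = n53341 := rfl
theorem F239207 : act 0 n53341 = n51574 := d3_1 D53341 (iv D51574) (iv F230894)
theorem F239208 : act 7 n53341 = n51503 := d32_2 (iv F230896) D53341 (iv D51503)
theorem F239209 : act 8 n53341 = n51520 := d33_2 (iv F230897) D53341 (iv D51520)
def n53342 : Q := act 9 n51500
theorem D53342 : act 9 n51500 = n53342 := rfl
theorem F239210 : act 0 n53342 = n51575 := d8_1 D53342 (iv D51575) (iv F230894)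
theorem F239211 : act 3 n53342 = n51501 := d29_1 D53342 (iv D51501) D51500
theorem F239212 : act 5 n53342 = n51506 := d38_1 D53342 (iv D51506) (iv F230895)
theorem F239213 : act 7 n53342 = n51504 := d43_1 D53342 (iv D51504) (iv F230896)
def n53343 : Q := act 1 n51502
theorem D53343 : act 1 n51502 = n53343 := rfl
theorem F239214 : act 0 n53343 = n51616 := d0_1 D53343 F231377 F231240 (iv D51576) (iv F230902)
theorem F239215 : act 2 n53343 = n51529 := d9_2 D51502 D53343 F231017 (iv F230799) F230798
theorem F239216 : act 3 n53343 = n53343 := d10_2 F230903 D53343 (iv D53343)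
theorem F239217 : act 5 n53343 = n51507 := d12_2 (iv F230904) D53343 (iv D51507)
theorem F239218 : act 6 n53343 = n51583 := d13_2 (iv F230905) D53343 F231260
theorem F239219 : act 7 n53343 = n51534 := d14_2 F239205 D53343 (iv F239202)
theorem F239220 : act 8 n53343 = n51522 := d15_2 (iv F230906) D53343 (iv D51522)
def n53344 : Q := act 4 n51502
theorem D53344 : act 4 n51502 = n53344 := rfl
theorem F239221 : act 0 n53344 = n51577 := d3_1 D53344 (iv D51577) (iv F230902)
theorem F239222 : act 2 n53344 = n51503 := d18_1 D53344 (iv D51503) D51502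
theorem F239223 : act 6 n53344 = n52394 := d31_2 (iv F230905) D53344 (iv D52394)
theorem F239224 : act 8 n53344 = n51523 := d33_2 (iv F230906) D53344 (iv D51523)
def n53345 : Q := act 9 n51502
theorem D53345 : act 9 n51502 = n53345 := rfl
theorem F239225 : act 0 n53345 = n51578 := d8_1 D53345 (iv D51578) (iv F230902)
theorem F239226 : act 2 n53345 = n51504 := d23_1 D53345 (iv D51504) D51502
theorem F239227 : act 3 n53345 = n53345 := d29_1 D53345 (iv D53345) F230903
theorem F239228 : act 5 n53345 = n51509 := d38_1 D53345 (iv D51509) (iv F230904)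
theorem F239229 : act 6 n53345 = n52395 := d41_1 D53345 (iv D52395) (iv F230905)
def n53346 : Q := act 5 n51503
theorem D53346 : act 5 n51503 = n53346 := rfl
theorem F239230 : act 0 n53346 = n51579 := d4_1 D53346 (iv D51579) (iv F230907)
theorem F239231 : act 4 n53346 = n51510 := d30_1 D53346 (iv D51510) (iv D49467) (iv F221622) D51503
theorem F239232 : act 8 n53346 = n51525 := d37_2 (iv F230909) D53346 (iv D51525)
def n53347 : Q := act 9 n51503
theorem D53347 : act 9 n51503 = n53347 := rfl
theorem F239233 : act 0 n53347 = n51580 := d8_1 D53347 (iv D51580) (iv F230907)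
theorem F239234 : act 4 n53347 = n51504 := d34_1 D53347 (iv D51504) D51503
theorem F239235 : act 6 n53347 = n52396 := d41_1 D53347 (iv D52396) (iv F230908)
def n53348 : Q := act 8 n51504
theorem D53348 : act 8 n51504 = n53348 := rfl
theorem F239236 : act 0 n53348 = n51581 := d7_1 D53348 (iv D51581) (iv F230910)
theorem F239237 : act 5 n53348 = n51512 := d37_1 D53348 (iv D51512) (iv F230912)
theorem F239238 : act 6 n53348 = n52397 := d40_1 D53348 (iv D52397) (iv F230913)
theorem F239239 : act 9 n53348 = n51527 := d44_2 D51504 D53348 (iv D51527) (iv D49479) (iv F221624)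
def n53349 : Q := act 9 n51505
theorem D53349 : act 9 n51505 = n53349 := rfl
theorem F239240 : act 0 n53349 = n51582 := d8_1 D53349 (iv D51582) (iv F230914)
theorem F239241 : act 1 n53349 = n51535 := d16_1 D53349 (iv D51535) (iv F230915)
theorem F239242 : act 2 n53349 = n51506 := d23_1 D53349 (iv D51506) D51505
theorem F239243 : act 3 n53349 = n53349 := d29_1 D53349 (iv D53349) F230916
theorem F239244 : act 4 n53349 = n51533 := d34_1 D53349 (iv D51533) (iv F230917)
theorem F239245 : act 6 n53349 = n51540 := d41_1 D53349 (iv D51540) (iv F230918)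
theorem F239246 : act 7 n53349 = n51509 := d43_1 D53349 (iv D51509) (iv F230919)
def n53350 : Q := act 8 n51506
theorem D53350 : act 8 n51506 = n53350 := rfl
theorem F239247 : act 0 n53350 = n51585 := d7_1 D53350 (iv D51585) (iv F230921)
theorem F239248 : act 7 n53350 = n51512 := d42_1 D53350 (iv D51512) (iv F230923)
theorem F239249 : act 9 n53350 = n51531 := d44_2 D51506 D53350 (iv D51531) (iv D49482) (iv F221631)
def n53351 : Q := act 9 n51507
theorem D53351 : act 9 n51507 = n53351 := rfl
theorem F239250 : act 0 n53351 = n51617 := d8_1 D53351 (iv D51617) (iv F230924)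
theorem F239251 : act 1 n53351 = n51509 := d16_1 D53351 (iv D51509) D51507
theorem F239252 : act 2 n53351 = n51530 := d23_1 D53351 (iv D51530) (iv F230925)
theorem F239253 : act 3 n53351 = n53351 := d29_1 D53351 (iv D53351) F230926
theorem F239254 : act 4 n53351 = n51528 := d34_1 D53351 (iv D51528) F230930
theorem F239255 : act 6 n53351 = n51513 := d41_1 D53351 (iv D51513) (iv F230927)
theorem F239256 : act 7 n53351 = n51535 := d43_1 D53351 (iv D51535) (iv F230928)
def n53352 : Q := act 5 n51508
theorem D53352 : act 5 n51508 = n53352 := rfl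
theorem F239257 : act 0 n53352 = n51587 := d4_1 D53352 (iv D51587) (iv F230931)
theorem F239258 : act 1 n53352 = n51519 := d12_1 D53352 F230981 (iv F230932)
theorem F239259 : act 2 n53352 = n51510 := d19_1 D53352 (iv D51510) (iv F230933)
theorem F239260 : act 3 n53352 = n51551 := d25_1 D53352 F231111 F230937
theorem F239261 : act 6 n53352 = n51629 := d35_2 (iv F230934) D53352 F231434 (iv F227554) F227553
theorem F239262 : act 7 n53352 = n51522 := d36_2 (iv F230935) D53352 F230991
theorem F239263 : act 8 n53352 = n51534 := d37_2 (iv F230936) D53352 (iv D51534)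
def n53353 : Q := act 9 n51508
theorem D53353 : act 9 n51508 = n53353 := rfl
theorem F239264 : act 0 n53353 = n51588 := d8_1 D53353 (iv D51588) (iv F230931)
theorem F239265 : act 1 n53353 = n51528 := d16_1 D53353 (iv D51528) (iv F230932)
theorem F239266 : act 2 n53353 = n51511 := d23_1 D53353 (iv D51511) (iv F230933)
theorem F239267 : act 3 n53353 = n51558 := d29_1 D53353 (iv D51558) F230937
theorem F239268 : act 4 n53353 = n51509 := d34_1 D53353 (iv D51509) D51508
theorem F239269 : act 6 n53353 = n51514 := d41_1 D53353 (iv D51514) (iv F230934)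
theorem F239270 : act 7 n53353 = n51533 := d43_1 D53353 (iv D51533) (iv F230935)
def n53354 : Q := act 8 n51509
theorem D53354 : act 8 n51509 = n53354 := rfl
theorem F239271 : act 0 n53354 = n51589 := d7_1 D53354 (iv D51589) (iv F230938)
theorem F239272 : act 2 n53354 = n51512 := d22_1 D53354 (iv D51512) (iv F230939)
theorem F239273 : act 6 n53354 = n51515 := d40_1 D53354 (iv D51515) (iv F230941)
theorem F239274 : act 9 n53354 = n51536 := d44_2 D51509 D53354 (iv D51536) (iv D49485) (iv F221639)
def n53355 : Q := act 9 n51510
theorem D53355 : act 9 n51510 = n53355 := rfl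
theorem F239275 : act 0 n53355 = n51591 := d8_1 D53355 (iv D51591) (iv F230942)
theorem F239276 : act 3 n53355 = n53355 := d29_1 D53355 (iv D53355) F230943
theorem F239277 : act 5 n53355 = n51511 := d38_1 D53355 (iv D51511) D51510
def n53356 : Q := act 8 n51511
theorem D53356 : act 8 n51511 = n53356 := rfl
theorem F239278 : act 0 n53356 = n51592 := d7_1 D53356 (iv D51592) (iv F230945)
theorem F239279 : act 4 n53356 = n51512 := d33_1 D53356 (iv D51512) (iv F230947)
theorem F239280 : act 6 n53356 = n51516 := d40_1 D53356 (iv D51516) (iv F230948)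
theorem F239281 : act 9 n53356 = n51538 := d44_2 D51511 D53356 (iv D51538) (iv D49487) (iv F221643)
def n53357 : Q := act 8 n51513
theorem D53357 : act 8 n51513 = n53357 := rfl
theorem F239282 : act 0 n53357 = n52384 := d7_1 D53357 (iv D52384) (iv F230952)
theorem F239283 : act 1 n53357 = n51515 := d15_1 D53357 (iv D51515) (iv F230953)
theorem F239284 : act 2 n53357 = n52409 := d22_1 D53357 (iv D52409) (iv F230954)
theorem F239285 : act 4 n53357 = n52383 := d33_1 D53357 (iv D52383) (iv F230956)
theorem F239286 : act 5 n53357 = n52399 := d37_1 D53357 (iv D52399) (iv F230957)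
theorem F239287 : act 9 n53357 = n51541 := d44_2 D51513 D53357 (iv D51541) (iv D49491) (iv F221651)
def n53358 : Q := act 8 n51514
theorem D53358 : act 8 n51514 = n53358 := rfl
theorem F239288 : act 0 n53358 = n51594 := d7_1 D53358 (iv D51594) (iv F230958)
theorem F239289 : act 1 n53358 = n52383 := d15_1 D53358 (iv D52383) (iv F230959)
theorem F239290 : act 2 n53358 = n51516 := d22_1 D53358 (iv D51516) (iv F230960)
theorem F239291 : act 3 n53358 = n52472 := d28_1 D53358 F234922 F225826 F225450 (iv F230961)
theorem F239292 : act 4 n53358 = n51515 := d33_1 D53358 (iv D51515) (iv F230962)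
theorem F239293 : act 5 n53358 = n52471 := d37_1 D53358 F234921 (iv F230963)
theorem F239294 : act 9 n53358 = n51542 := d44_2 D51514 D53358 (iv D51542) (iv D49492) (iv F221656)
def n53359 : Q := act 3 n51515
theorem D53359 : act 3 n51515 = n53359 := rfl
theorem F239295 : act 0 n53359 = n51595 := d2_1 D53359 (iv D51595) (iv F230964)
theorem F239296 : act 5 n53359 = n52400 := d25_2 (iv F230966) D53359 (iv D52400)
theorem F239297 : act 8 n53359 = n53359 := d28_2 D51515 D53359 (iv D53359) (iv D51515) F221660
theorem F239298 : act 9 n53359 = n51543 := d29_2 (iv F230967) D53359 (iv D51543)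
def n53360 : Q := act 3 n51516
theorem D53360 : act 3 n51516 = n53360 := rfl
theorem F239299 : act 0 n53360 = n51598 := d2_1 D53360 (iv D51598) (iv F230968)
theorem F239300 : act 8 n53360 = n53360 := d28_2 D51516 D53360 (iv D53360) (iv D51516) F221663
theorem F239301 : act 9 n53360 = n51544 := d29_2 (iv F230970) D53360 (iv D51544)
def n53361 : Q := act 4 n51517
theorem D53361 : act 4 n51517 = n53361 := rfl
theorem F239302 : act 0 n53361 = n51599 := d3_1 D53361 (iv D51599) (iv F230971)
theorem F239303 : act 3 n53361 = n51801 := d24_1 D53361 (iv D51801) (iv D49743) (iv F221670) D51517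
theorem F239304 : act 6 n53361 = n51520 := d31_2 (iv F230972) D53361 (iv D51520)
theorem F239305 : act 7 n53361 = n52401 := d32_2 (iv F230973) D53361 (iv D52401)
def n53362 : Q := act 9 n51517
theorem D53362 : act 9 n51517 = n53362 := rfl
theorem F239306 : act 0 n53362 = n51600 := d8_1 D53362 (iv D51600) (iv F230971)
theorem F239307 : act 3 n53362 = n51518 := d29_1 D53362 (iv D51518) D51517
theorem F239308 : act 6 n53362 = n51521 := d41_1 D53362 (iv D51521) (iv F230972)
theorem F239309 : act 7 n53362 = n52402 := d43_1 D53362 (iv D52402) (iv F230973)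
def n53363 : Q := act 4 n51519
theorem D53363 : act 4 n51519 = n53363 := rfl
theorem F239310 : act 0 n53363 = n51601 := d3_1 D53363 (iv D51601) (iv F230979)
theorem F239311 : act 2 n53363 = n51520 := d18_1 D53363 (iv D51520) D51519
theorem F239312 : act 7 n53363 = n51523 := d32_2 (iv F230982) D53363 (iv D51523)
def n53364 : Q := act 9 n51519
theorem D53364 : act 9 n51519 = n53364 := rfl
theorem F239313 : act 0 n53364 = n51602 := d8_1 D53364 (iv D51602) (iv F230979)
theorem F239314 : act 2 n53364 = n51521 := d23_1 D53364 (iv D51521) D51519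
theorem F239315 : act 3 n53364 = n51552 := d29_1 D53364 (iv D51552) (iv F230980)
theorem F239316 : act 5 n53364 = n51528 := d38_1 D53364 (iv D51528) (iv F230981)
theorem F239317 : act 7 n53364 = n51524 := d43_1 D53364 (iv D51524) (iv F230982)
def n53365 : Q := act 5 n51520
theorem D53365 : act 5 n51520 = n53365 := rfl
theorem F239318 : act 0 n53365 = n51603 := d4_1 D53365 (iv D51603) (iv F230983)
theorem F239319 : act 1 n53365 = n52436 := d12_1 D53365 (iv F239114) F239112
theorem F239320 : act 3 n53365 = n51805 := d25_1 D53365 (iv D51805) (iv F230984)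
theorem F239321 : act 4 n53365 = n51529 := d30_1 D53365 (iv D51529) (iv D49481) (iv F221674) D51520
theorem F239322 : act 7 n53365 = n51525 := d36_2 (iv F230985) D53365 (iv D51525)
def n53366 : Q := act 9 n51520
theorem D53366 : act 9 n51520 = n53366 := rfl
theorem F239323 : act 0 n53366 = n51604 := d8_1 D53366 (iv D51604) (iv F230983)
theorem F239324 : act 3 n53366 = n51806 := d29_1 D53366 (iv D51806) (iv F230984)
theorem F239325 : act 4 n53366 = n51521 := d34_1 D53366 (iv D51521) D51520
theorem F239326 : act 7 n53366 = n51526 := d43_1 D53366 (iv D51526) (iv F230985)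
def n53367 : Q := act 8 n51521
theorem D53367 : act 8 n51521 = n53367 := rfl
theorem F239327 : act 0 n53367 = n51605 := d7_1 D53367 (iv D51605) (iv F230986)
theorem F239328 : act 5 n53367 = n51531 := d37_1 D53367 (iv D51531) (iv F230988)
theorem F239329 : act 7 n53367 = n51527 := d42_1 D53367 (iv D51527) (iv F230989)
def n53368 : Q := act 0 n51522
theorem D53368 : act 0 n51522 = n53368 := rfl
theorem F239330 : act 1 n53368 = n51606 := d0_2 D51522 D53368 (iv D51606) (iv D49547) (iv F221681)
theorem F239331 : act 2 n53368 = n51583 := d1_2 F239122 D53368 (iv F239121)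
theorem F239332 : act 3 n53368 = n51545 := d2_2 (iv F230990) D53368 F231075
theorem F239333 : act 5 n53368 = n51532 := d4_2 (iv F230991) D53368 (iv D51532)
theorem F239334 : act 6 n53368 = n51529 := d5_2 (iv F230992) D53368 F231016
theorem F239335 : act 7 n53368 = n51587 := d6_2 F239262 D53368 (iv F239257)
theorem F239336 : act 8 n53368 = n51616 := d7_2 F239220 D53368 (iv F239214)
def n53369 : Q := act 4 n51522
theorem D53369 : act 4 n51522 = n53369 := rfl
theorem F239337 : act 1 n53369 = n51523 := d11_1 D53369 (iv D51523) D51522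
theorem F239338 : act 3 n53369 = n51910 := d24_1 D53369 F232708 F223288 (iv F221795) (iv F230990)
theorem F239339 : act 6 n53369 = n51603 := d31_2 (iv F230992) D53369 F231335
def n53370 : Q := act 9 n51522
theorem D53370 : act 9 n51522 = n53370 := rfl
theorem F239340 : act 1 n53370 = n51524 := d16_1 D53370 (iv D51524) D51522
theorem F239341 : act 3 n53370 = n51555 := d29_1 D53370 (iv D51555) (iv F230990)
theorem F239342 : act 5 n53370 = n51533 := d38_1 D53370 (iv D51533) (iv F230991)
theorem F239343 : act 6 n53370 = n51619 := d41_1 D53370 (iv D51619) (iv F230992)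
def n53371 : Q := act 5 n51523
theorem D53371 : act 5 n51523 = n53371 := rfl
theorem F239344 : act 0 n53371 = n51610 := d4_1 D53371 (iv D51610) (iv F230993)
theorem F239345 : act 2 n53371 = n51525 := d19_1 D53371 (iv D51525) (iv F230994)
theorem F239346 : act 4 n53371 = n51534 := d30_1 D53371 (iv D51534) (iv D49484) (iv F221683) D51523
def n53372 : Q := act 9 n51523
theorem D53372 : act 9 n51523 = n53372 := rfl
theorem F239347 : act 0 n53372 = n51611 := d8_1 D53372 (iv D51611) (iv F230993)
theorem F239348 : act 2 n53372 = n51526 := d23_1 D53372 (iv D51526) (iv F230994)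
theorem F239349 : act 4 n53372 = n51524 := d34_1 D53372 (iv D51524) D51523
theorem F239350 : act 6 n53372 = n52405 := d41_1 D53372 (iv D52405) (iv F230995)
def n53373 : Q := act 8 n51524
theorem D53373 : act 8 n51524 = n53373 := rfl
theorem F239351 : act 0 n53373 = n51612 := d7_1 D53373 (iv D51612) (iv F230996)
theorem F239352 : act 2 n53373 = n51527 := d22_1 D53373 (iv D51527) (iv F230997)
theorem F239353 : act 5 n53373 = n51536 := d37_1 D53373 (iv D51536) (iv F230999)
theorem F239354 : act 6 n53373 = n52406 := d40_1 D53373 (iv D52406) (iv F231000)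
def n53374 : Q := act 9 n51525
theorem D53374 : act 9 n51525 = n53374 := rfl
theorem F239355 : act 0 n53374 = n51614 := d8_1 D53374 (iv D51614) (iv F231001)
theorem F239356 : act 3 n53374 = n51814 := d29_1 D53374 (iv D51814) (iv F231002)
theorem F239357 : act 4 n53374 = n51537 := d34_1 D53374 (iv D51537) (iv F231003)
theorem F239358 : act 5 n53374 = n51526 := d38_1 D53374 (iv D51526) D51525
def n53375 : Q := act 8 n51526
theorem D53375 : act 8 n51526 = n53375 := rfl
theorem F239359 : act 0 n53375 = n51615 := d7_1 D53375 (iv D51615) (iv F231004)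
theorem F239360 : act 4 n53375 = n51527 := d33_1 D53375 (iv D51527) (iv F231006)
theorem F239361 : act 6 n53375 = n52407 := d40_1 D53375 (iv D52407) (iv F231007)
def n53376 : Q := act 8 n51528
theorem D53376 : act 8 n51528 = n53376 := rfl
theorem F239362 : act 0 n53376 = n51618 := d7_1 D53376 (iv D51618) (iv F231011)
theorem F239363 : act 2 n53376 = n51531 := d22_1 D53376 (iv D51531) (iv F231012)
theorem F239364 : act 6 n53376 = n52383 := d40_1 D53376 (iv D52383) (iv F231014)
theorem F239365 : act 7 n53376 = n51536 := d42_1 D53376 (iv D51536) (iv F231015)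
def n53377 : Q := act 9 n51529
theorem D53377 : act 9 n51529 = n53377 := rfl
theorem F239366 : act 0 n53377 = n51619 := d8_1 D53377 (iv D51619) (iv F231016)
theorem F239367 : act 1 n53377 = n52437 := d16_1 D53377 (iv D52437) (iv F231017)
theorem F239368 : act 3 n53377 = n51546 := d29_1 D53377 (iv D51546) (iv F231018)
theorem F239369 : act 5 n53377 = n51530 := d38_1 D53377 (iv D51530) D51529
theorem F239370 : act 7 n53377 = n51537 := d43_1 D53377 (iv D51537) (iv F231019)
def n53378 : Q := act 8 n51530
theorem D53378 : act 8 n51530 = n53378 := rfl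
theorem F239371 : act 0 n53378 = n51620 := d7_1 D53378 (iv D51620) (iv F231020)
theorem F239372 : act 1 n53378 = n52454 := d15_1 D53378 (iv D52454) (iv F231021)
theorem F239373 : act 4 n53378 = n51531 := d33_1 D53378 (iv D51531) (iv F231023)
theorem F239374 : act 6 n53378 = n52409 := d40_1 D53378 (iv D52409) (iv F231024)
theorem F239375 : act 7 n53378 = n51538 := d42_1 D53378 (iv D51538) (iv F231025)
def n53379 : Q := act 9 n51532
theorem D53379 : act 9 n51532 = n53379 := rfl
theorem F239376 : act 0 n53379 = n51533 := d8_1 D53379 (iv D51533) D51532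
theorem F239377 : act 1 n53379 = n51621 := d16_1 D53379 (iv D51621) (iv F231028)
theorem F239378 : act 2 n53379 = n51584 := d23_1 D53379 (iv D51584) (iv F231029)
theorem F239379 : act 3 n53379 = n51560 := d29_1 D53379 (iv D51560) (iv F231030)
theorem F239380 : act 4 n53379 = n51582 := d34_1 D53379 (iv D51582) (iv F231031)
theorem F239381 : act 6 n53379 = n51539 := d41_1 D53379 (iv D51539) (iv F231032)
theorem F239382 : act 7 n53379 = n51588 := d43_1 D53379 (iv D51588) (iv F231033)
def n53380 : Q := act 8 n51533
theorem D53380 : act 8 n51533 = n53380 := rfl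
theorem F239383 : act 1 n53380 = n51536 := d15_1 D53380 (iv D51536) (iv F231035)
theorem F239384 : act 6 n53380 = n51541 := d40_1 D53380 (iv D51541) (iv F231037)
def n53381 : Q := act 9 n51534
theorem D53381 : act 9 n51534 = n53381 := rfl
theorem F239385 : act 0 n53381 = n51626 := d8_1 D53381 (iv D51626) (iv F231038)
theorem F239386 : act 2 n53381 = n51537 := d23_1 D53381 (iv D51537) (iv F231039)
theorem F239387 : act 3 n53381 = n53381 := d29_1 D53381 (iv D53381) F231040
theorem F239388 : act 5 n53381 = n51535 := d38_1 D53381 (iv D51535) D51534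
def n53382 : Q := act 8 n51535
theorem D53382 : act 8 n51535 = n53382 := rfl
theorem F239389 : act 0 n53382 = n51627 := d7_1 D53382 (iv D51627) (iv F231041)
theorem F239390 : act 2 n53382 = n51538 := d22_1 D53382 (iv D51538) (iv F231042)
theorem F239391 : act 4 n53382 = n51536 := d33_1 D53382 (iv D51536) (iv F231044)
theorem F239392 : act 6 n53382 = n51542 := d40_1 D53382 (iv D51542) (iv F231045)
def n53383 : Q := act 3 n51536
theorem D53383 : act 3 n51536 = n53383 := rfl
theorem F239393 : act 0 n53383 = n51628 := d2_1 D53383 (iv D51628) (iv F231046)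
theorem F239394 : act 6 n53383 = n51543 := d26_2 (iv F231048) D53383 (iv D51543)
theorem F239395 : act 8 n53383 = n51562 := d28_2 D51536 D53383 (iv D51562) (iv D49514) (iv F221712)
def n53384 : Q := act 8 n51537
theorem D53384 : act 8 n51537 = n53384 := rfl
theorem F239396 : act 0 n53384 = n51631 := d7_1 D53384 (iv D51631) (iv F231049)
theorem F239397 : act 5 n53384 = n51538 := d37_1 D53384 (iv D51538) (iv F231051)
def n53385 : Q := act 3 n51538
theorem D53385 : act 3 n51538 = n53385 := rfl
theorem F239398 : act 0 n53385 = n51632 := d2_1 D53385 (iv D51632) (iv F231052)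
theorem F239399 : act 6 n53385 = n51544 := d26_2 (iv F231054) D53385 (iv D51544)
theorem F239400 : act 8 n53385 = n51549 := d28_2 D51538 D53385 (iv D51549) (iv D49499) (iv F221717)
def n53386 : Q := act 8 n51539
theorem D53386 : act 8 n51539 = n53386 := rfl
theorem F239401 : act 0 n53386 = n51541 := d7_1 D53386 (iv D51541) (iv F231055)
theorem F239402 : act 1 n53386 = n51633 := d15_1 D53386 (iv D51633) (iv F231056)
theorem F239403 : act 2 n53386 = n52399 := d22_1 D53386 (iv D52399) (iv F231057)
theorem F239404 : act 4 n53386 = n52369 := d33_1 D53386 (iv D52369) (iv F231059)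
theorem F239405 : act 5 n53386 = n52409 := d37_1 D53386 (iv D52409) (iv F231060)
theorem F239406 : act 9 n53386 = n52384 := d44_2 D51539 D53386 (iv D52384) (iv D50366) (iv F221726)
def n53387 : Q := act 8 n51540
theorem D53387 : act 8 n51540 = n53387 := rfl
theorem F239407 : act 0 n53387 = n52369 := d7_1 D53387 (iv D52369) (iv F231061)
theorem F239408 : act 1 n53387 = n51542 := d15_1 D53387 (iv D51542) (iv F231062)
theorem F239409 : act 4 n53387 = n51541 := d33_1 D53387 (iv D51541) (iv F231064)
theorem F239410 : act 9 n53387 = n52383 := d44_2 D51540 D53387 (iv D52383) (iv D50365) (iv F221731)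
def n53388 : Q := act 3 n51541
theorem D53388 : act 3 n51541 = n53388 := rfl
theorem F239411 : act 1 n53388 = n51543 := d10_1 D53388 (iv D51543) (iv F231065)
theorem F239412 : act 5 n53388 = n52410 := d25_2 (iv F231066) D53388 (iv D52410)
theorem F239413 : act 8 n53388 = n51564 := d28_2 D51541 D53388 (iv D51564) (iv D49516) (iv F221733)
def n53389 : Q := act 3 n51542
theorem D53389 : act 3 n51542 = n53389 := rfl
theorem F239414 : act 0 n53389 = n51638 := d2_1 D53389 (iv D51638) (iv F231067)
theorem F239415 : act 5 n53389 = n52425 := d25_2 F236222 D53389 F236224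
theorem F239416 : act 8 n53389 = n53389 := d28_2 D51542 D53389 (iv D53389) (iv D51542) F221737
theorem F239417 : act 9 n53389 = n52472 := d29_2 F239294 D53389 (iv F239291)
def n53390 : Q := act 4 n51543
theorem D53390 : act 4 n51543 = n53390 := rfl
theorem F239418 : act 0 n53390 = n51639 := d3_1 D53390 (iv D51639) (iv F231070)
theorem F239419 : act 2 n53390 = n52410 := d18_1 D53390 (iv F238772) F238771
theorem F239420 : act 8 n53390 = n51565 := d33_2 (iv F231072) D53390 (iv D51565)
def n53391 : Q := act 2 n51544
theorem D53391 : act 2 n51544 = n53391 := rfl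
theorem F239421 : act 0 n53391 = n51643 := d1_1 D53391 (iv D51643) (iv F231073)
theorem F239422 : act 1 n53391 = n52387 := d9_1 D53391 F234704 (iv F234916) F239017 F239013
theorem F239423 : act 4 n53391 = n52385 := d18_2 F238778 D53391 (iv F238777)
theorem F239424 : act 8 n53391 = n51550 := d22_2 (iv F231074) D53391 (iv D51550)
def n53392 : Q := act 9 n51545
theorem D53392 : act 9 n51545 = n53392 := rfl
theorem F239425 : act 0 n53392 = n51555 := d8_1 D53392 (iv D51555) (iv F231075)
theorem F239426 : act 1 n53392 = n51658 := d16_1 D53392 (iv D51658) (iv F231076)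
theorem F239427 : act 2 n53392 = n53392 := d23_1 D53392 (iv D53392) F231077
theorem F239428 : act 4 n53392 = n51829 := d34_1 D53392 (iv D51829) (iv F231078)
theorem F239429 : act 5 n53392 = n51560 := d38_1 D53392 (iv D51560) (iv F231079)
theorem F239430 : act 6 n53392 = n51546 := d41_1 D53392 (iv D51546) D51545
theorem F239431 : act 7 n53392 = n52358 := d43_1 D53392 (iv D52358) (iv F231080)
def n53393 : Q := act 8 n51546
theorem D53393 : act 8 n51546 = n53393 := rfl
theorem F239432 : act 0 n53393 = n51644 := d7_1 D53393 (iv D51644) (iv F231082)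
theorem F239433 : act 1 n53393 = n52476 := d15_1 D53393 (iv D52476) (iv F231083)
theorem F239434 : act 2 n53393 = n53393 := d22_1 D53393 (iv D53393) F231084
theorem F239435 : act 4 n53393 = n51830 := d33_1 D53393 (iv D51830) (iv F231085)
theorem F239436 : act 5 n53393 = n51547 := d37_1 D53393 (iv D51547) (iv F231086)
theorem F239437 : act 7 n53393 = n51548 := d42_1 D53393 (iv D51548) (iv F231087)
theorem F239438 : act 9 n53393 = n53393 := d44_2 D51546 D53393 (iv D53393) (iv D51546) F221749
def n53394 : Q := act 3 n51548
theorem D53394 : act 3 n51548 = n53394 := rfl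
theorem F239439 : act 0 n53394 = n51648 := d2_1 D53394 (iv D51648) (iv F231095)
theorem F239440 : act 5 n53394 = n51549 := d25_2 (iv F231098) D53394 (iv D51549)
theorem F239441 : act 9 n53394 = n53394 := d29_2 F231099 D53394 (iv D53394)
def n53395 : Q := act 2 n51549
theorem D53395 : act 2 n51549 = n53395 := rfl
theorem F239442 : act 0 n53395 = n51649 := d1_1 D53395 (iv D51649) (iv F231100)
theorem F239443 : act 1 n53395 = n52392 := d9_1 D53395 F234720 (iv F234967) (iv F239043) F239042
theorem F239444 : act 3 n53395 = n53395 := d17_2 D51549 D53395 (iv D53395) (iv D51549) F221768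
theorem F239445 : act 4 n53395 = n51667 := d18_2 F238791 D53395 (iv F238790)
theorem F239446 : act 6 n53395 = n51550 := d20_2 (iv F231101) D53395 (iv D51550)
theorem F239447 : act 7 n53395 = n51670 := d21_2 F239084 D53395 (iv F239081)
theorem F239448 : act 9 n53395 = n53395 := d23_2 F231102 D53395 (iv D53395)
def n53396 : Q := act 9 n51551
theorem D53396 : act 9 n51551 = n53396 := rfl
theorem F239449 : act 0 n53396 = n52358 := d8_1 D53396 (iv D52358) (iv F231108)
theorem F239450 : act 1 n53396 = n51552 := d16_1 D53396 (iv D51552) D51551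
theorem F239451 : act 2 n53396 = n53396 := d23_1 D53396 (iv D53396) F231109
theorem F239452 : act 4 n53396 = n51969 := d34_1 D53396 (iv D51969) (iv F231110)
theorem F239453 : act 5 n53396 = n51558 := d38_1 D53396 (iv D51558) (iv F231111)
theorem F239454 : act 6 n53396 = n51646 := d41_1 D53396 (iv D51646) (iv F231112)
theorem F239455 : act 7 n53396 = n51555 := d43_1 D53396 (iv D51555) (iv F231113)
theorem F239456 : act 8 n52727 = n53396 := d40_0 F239454 (iv F231486) D52727
def n53397 : Q := act 8 n51552
theorem D53397 : act 8 n51552 = n53397 := rfl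
theorem F239457 : act 0 n53397 = n51655 := d7_1 D53397 (iv D51655) (iv F231115)
theorem F239458 : act 1 n53397 = n52727 := d15_1 D53397 F239456 F239450
theorem F239459 : act 2 n53397 = n51554 := d22_1 D53397 (iv D51554) (iv F231116)
theorem F239460 : act 5 n53397 = n51559 := d37_1 D53397 (iv D51559) (iv F231117)
theorem F239461 : act 6 n53397 = n52726 := d40_1 D53397 F236541 F236539
theorem F239462 : act 7 n53397 = n51556 := d42_1 D53397 (iv D51556) (iv F231118)
theorem F239463 : act 9 n53397 = n53397 := d44_2 D51552 D53397 (iv D53397) (iv D51552) F221782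
def n53398 : Q := act 8 n51553
theorem D53398 : act 8 n51553 = n53398 := rfl
theorem F239464 : act 0 n53398 = n51656 := d7_1 D53398 (iv D51656) (iv F231119)
theorem F239465 : act 1 n53398 = n53398 := d15_1 D53398 (iv D53398) F231120
theorem F239466 : act 3 n53398 = n52706 := d28_1 D53398 (iv D52706) F226583 (iv F223031) (iv F231121)
theorem F239467 : act 4 n53398 = n51554 := d33_1 D53398 (iv D51554) (iv F231122)
theorem F239468 : act 5 n53398 = n53398 := d37_1 D53398 (iv D53398) F231123
theorem F239469 : act 7 n53398 = n51557 := d42_1 D53398 (iv D51557) (iv F231124)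
theorem F239470 : act 9 n53398 = n53398 := d44_2 D51553 D53398 (iv D53398) (iv D51553) F221788
def n53399 : Q := act 8 n51555
theorem D53399 : act 8 n51555 = n53399 := rfl
theorem F239471 : act 1 n53399 = n51556 := d15_1 D53399 (iv D51556) (iv F231130)
theorem F239472 : act 2 n53399 = n53399 := d22_1 D53399 (iv D53399) F231131
theorem F239473 : act 4 n53399 = n51970 := d33_1 D53399 (iv D51970) (iv F231132)
theorem F239474 : act 5 n53399 = n51561 := d37_1 D53399 (iv D51561) (iv F231133)
theorem F239475 : act 6 n53399 = n51644 := d40_1 D53399 (iv D51644) (iv F231134)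
theorem F239476 : act 7 n53399 = n52727 := d42_1 D53399 F239456 F239455
theorem F239477 : act 9 n53399 = n53399 := d44_2 D51555 D53399 (iv D53399) (iv D51555) F221798
def n53400 : Q := act 3 n51556
theorem D53400 : act 3 n51556 = n53400 := rfl
theorem F239478 : act 0 n53400 = n51665 := d2_1 D53400 (iv D51665) (iv F231135)
theorem F239479 : act 5 n53400 = n51562 := d25_2 (iv F231137) D53400 (iv D51562)
theorem F239480 : act 6 n53400 = n52413 := d26_2 (iv F231138) D53400 (iv D52413)
theorem F239481 : act 9 n53400 = n53400 := d29_2 F231139 D53400 (iv D53400)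
def n53401 : Q := act 8 n51560
theorem D53401 : act 8 n51560 = n53401 := rfl
theorem F239482 : act 0 n53401 = n51561 := d7_1 D53401 (iv D51561) (iv F231161)
theorem F239483 : act 1 n53401 = n51668 := d15_1 D53401 (iv D51668) (iv F231162)
theorem F239484 : act 2 n53401 = n53401 := d22_1 D53401 (iv D53401) F231163
theorem F239485 : act 4 n53401 = n53401 := d33_1 D53401 (iv D53401) F231164
theorem F239486 : act 6 n53401 = n51563 := d40_1 D53401 (iv D51563) (iv F231165)
theorem F239487 : act 7 n53401 = n52360 := d42_1 D53401 (iv D52360) (iv F231166)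
theorem F239488 : act 9 n53401 = n53401 := d44_2 D51560 D53401 (iv D53401) (iv D51560) F221836
def n53402 : Q := act 3 n51561
theorem D53402 : act 3 n51561 = n53402 := rfl
theorem F239489 : act 1 n53402 = n51562 := d10_1 D53402 (iv D51562) (iv F231167)
theorem F239490 : act 6 n53402 = n51564 := d26_2 (iv F231170) D53402 (iv D51564)
theorem F239491 : act 7 n53402 = n52489 := d27_2 (iv F231171) D53402 F234973
theorem F239492 : act 9 n53402 = n53402 := d29_2 F231172 D53402 (iv D53402)
def n53403 : Q := act 4 n51562
theorem D53403 : act 4 n51562 = n53403 := rfl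
theorem F239493 : act 0 n53403 = n51670 := d3_1 D53403 (iv D51670) (iv F231173)
theorem F239494 : act 2 n53403 = n51645 := d18_1 D53403 (iv F238806) F238805
theorem F239495 : act 3 n53403 = n53403 := d24_1 D53403 (iv D53403) (iv D51562) F221843 D51562
theorem F239496 : act 6 n53403 = n51565 := d31_2 (iv F231174) D53403 (iv D51565)
theorem F239497 : act 7 n53403 = n51649 := d32_2 F239038 D53403 (iv F239036)
theorem F239498 : act 9 n53403 = n53403 := d34_2 F231175 D53403 (iv D53403)
def n53404 : Q := act 2 n51564
theorem D53404 : act 2 n51564 = n53404 := rfl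
theorem F239499 : act 0 n53404 = n51652 := d1_1 D53404 (iv F236568) F236567
theorem F239500 : act 1 n53404 = n52363 := d9_1 D53404 F234647 (iv F230503) F230504 (iv F231182)
theorem F239501 : act 3 n53404 = n53404 := d17_2 D51564 D53404 (iv D53404) (iv D51564) F221852
theorem F239502 : act 5 n53404 = n51565 := d19_2 (iv F231183) D53404 F231186
theorem F239503 : act 9 n53404 = n53404 := d23_2 F231184 D53404 (iv D53404)
theorem F239504 : act 4 n52362 = n53404 := d46_2 F234777 (iv F234644) F239501 (iv D53404) F231182 F221856 (iv F222056) F222055 D50456 (iv F234920) (iv F236083) F236082 (iv F238681) (iv D53239) F230383 F224170 F214182 F185976 F129594 F90479 D30572 F206060 F91537 F64047 F46162 (iv F65722) (iv F93826) F93831 F93828 F205132 (iv F173762) F173761 F122624 (iv F124238) D42657 F178260 (iv F202842) F175611 (iv F173774) F173773 (iv F207791) (iv D46573) F206430 (iv F188274) F188273 (iv F188179) (iv F206527) F206526 F185507 (iv F175828) F175827 (iv F208876) F208875 (iv F214021) F214020 D48184 (iv F221602) (iv F230674) D53307 (iv F239017) F234916 (iv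 F234776)
def n53405 : Q := act 4 n51564
theorem D53405 : act 4 n51564 = n53405 := rfl
theorem F239505 : act 0 n53405 = n52393 := d3_1 D53405 (iv F236570) F236567
theorem F239506 : act 1 n53405 = n51565 := d11_1 D53405 (iv D51565) (iv F231182)
theorem F239507 : act 2 n53405 = n52362 := d18_1 D53405 F239504 (iv D53404)
theorem F239508 : act 3 n53405 = n53405 := d24_1 D53405 (iv D53405) (iv D51564) F221853 D51564
theorem F239509 : act 5 n53405 = n52363 := d30_2 (iv F231183) D53405 (iv D52363) (iv F230506) F230505
theorem F239510 : act 9 n53405 = n53405 := d34_2 F231184 D53405 (iv D53405)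
def n53406 : Q := act 2 n51566
theorem D53406 : act 2 n51566 = n53406 := rfl
theorem F239511 : act 0 n53406 = n52304 := d1_1 D53406 (iv F239175) F239169
theorem F239512 : act 3 n53406 = n53406 := d17_2 D51566 D53406 (iv D53406) (iv D51566) F221860
theorem F239513 : act 5 n53406 = n53406 := d19_2 F231190 D53406 (iv D53406)
theorem F239514 : act 6 n53406 = n52281 := d20_2 (iv F231191) D53406 F234345
theorem F239515 : act 7 n53406 = n51568 := d21_2 (iv F231192) D53406 (iv D51568)
theorem F239516 : act 8 n53406 = n51847 := d22_2 (iv F231193) D53406 (iv D51847)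
def n53407 : Q := act 4 n51566
theorem D53407 : act 4 n51566 = n53407 := rfl
theorem F239517 : act 1 n53407 = n52643 := d11_1 D53407 F235434 (iv F231189)
theorem F239518 : act 3 n53407 = n51574 := d24_1 D53407 (iv D51574) (iv D49522) (iv F221861) D51566
theorem F239519 : act 6 n53407 = n52261 := d31_2 (iv F231191) D53407 F234262
theorem F239520 : act 7 n53407 = n51569 := d32_2 (iv F231192) D53407 (iv D51569)
theorem F239521 : act 8 n53407 = n51848 := d33_2 (iv F231193) D53407 (iv D51848)
def n53408 : Q := act 9 n51566
theorem D53408 : act 9 n51566 = n53408 := rfl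
theorem F239522 : act 1 n53408 = n52678 := d16_1 D53408 (iv D52678) (iv F231189)
theorem F239523 : act 3 n53408 = n51567 := d29_1 D53408 (iv D51567) D51566
theorem F239524 : act 5 n53408 = n53408 := d38_1 D53408 (iv D53408) F231190
theorem F239525 : act 6 n53408 = n52286 := d41_1 D53408 (iv D52286) (iv F231191)
theorem F239526 : act 7 n53408 = n51570 := d43_1 D53408 (iv D51570) (iv F231192)
def n53409 : Q := act 1 n51568
theorem D53409 : act 1 n51568 = n53409 := rfl
theorem F239527 : act 2 n53409 = n52186 := d9_2 D51568 D53409 F233967 F224729 (iv F221865)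
theorem F239528 : act 3 n53409 = n53409 := d10_2 F231200 D53409 (iv D53409)
theorem F239529 : act 5 n53409 = n53409 := d12_2 F231201 D53409 (iv D53409)
theorem F239530 : act 6 n53409 = n52267 := d13_2 (iv F231202) D53409 F234282
theorem F239531 : act 8 n53409 = n51850 := d15_2 (iv F231203) D53409 (iv D51850)
def n53410 : Q := act 4 n51568
theorem D53410 : act 4 n51568 = n53410 := rfl
theorem F239532 : act 2 n53410 = n51569 := d18_1 D53410 (iv D51569) D51568
theorem F239533 : act 6 n53410 = n52243 := d31_2 (iv F231202) D53410 F234213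
theorem F239534 : act 8 n53410 = n51851 := d33_2 (iv F231203) D53410 (iv D51851)
def n53411 : Q := act 9 n51568
theorem D53411 : act 9 n51568 = n53411 := rfl
theorem F239535 : act 2 n53411 = n51570 := d23_1 D53411 (iv D51570) D51568
theorem F239536 : act 3 n53411 = n53411 := d29_1 D53411 (iv D53411) F231200
theorem F239537 : act 5 n53411 = n53411 := d38_1 D53411 (iv D53411) F231201
theorem F239538 : act 6 n53411 = n52270 := d41_1 D53411 (iv D52270) (iv F231202)
def n53412 : Q := act 5 n51569
theorem D53412 : act 5 n51569 = n53412 := rfl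
theorem F239539 : act 1 n53412 = n52633 := d12_1 D53412 F235402 (iv F231204)
theorem F239540 : act 3 n53412 = n51579 := d25_1 D53412 (iv D51579) (iv F231205)
theorem F239541 : act 4 n53412 = n53412 := d30_1 D53412 (iv D53412) (iv D51569) F221866 D51569
theorem F239542 : act 6 n53412 = n52237 := d35_2 (iv F231206) D53412 (iv D52237) F224937 D50206
theorem F239543 : act 8 n53412 = n51853 := d37_2 (iv F231207) D53412 (iv D51853)
def n53413 : Q := act 9 n51569
theorem D53413 : act 9 n51569 = n53413 := rfl
theorem F239544 : act 1 n53413 = n52644 := d16_1 D53413 (iv D52644) (iv F231204)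
theorem F239545 : act 3 n53413 = n51580 := d29_1 D53413 (iv D51580) (iv F231205)
theorem F239546 : act 4 n53413 = n51570 := d34_1 D53413 (iv D51570) D51569
theorem F239547 : act 6 n53413 = n52246 := d41_1 D53413 (iv D52246) (iv F231206)
def n53414 : Q := act 8 n51570
theorem D53414 : act 8 n51570 = n53414 := rfl
theorem F239548 : act 1 n53414 = n52679 := d15_1 D53414 (iv D52679) (iv F231208)
theorem F239549 : act 5 n53414 = n53414 := d37_1 D53414 (iv D53414) F231210
theorem F239550 : act 6 n53414 = n52273 := d40_1 D53414 (iv D52273) (iv F231211)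
theorem F239551 : act 9 n53414 = n51855 := d44_2 D51570 D53414 (iv D51855) (iv D49791) (iv F221868)
def n53415 : Q := act 4 n51571
theorem D53415 : act 4 n51571 = n53415 := rfl
theorem F239552 : act 1 n53415 = n52448 := d11_1 D53415 F234869 (iv F231212)
theorem F239553 : act 3 n53415 = n52261 := d24_1 D53415 F234262 F225055 (iv F221876) D51571
theorem F239554 : act 6 n53415 = n51574 := d31_2 (iv F231214) D53415 (iv D51574)
theorem F239555 : act 7 n53415 = n52074 := d32_2 (iv F231215) D53415 F233460
theorem F239556 : act 8 n53415 = n51599 := d33_2 (iv F231216) D53415 (iv D51599)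
def n53416 : Q := act 9 n51571
theorem D53416 : act 9 n51571 = n53416 := rfl
theorem F239557 : act 1 n53416 = n52462 := d16_1 D53416 (iv D52462) (iv F231212)
theorem F239558 : act 3 n53416 = n51572 := d29_1 D53416 (iv D51572) D51571
theorem F239559 : act 5 n53416 = n52092 := d38_1 D53416 (iv D52092) (iv F231213)
theorem F239560 : act 6 n53416 = n51575 := d41_1 D53416 (iv D51575) (iv F231214)
theorem F239561 : act 7 n53416 = n52086 := d43_1 D53416 (iv D52086) (iv F231215)
def n53417 : Q := act 4 n51573
theorem D53417 : act 4 n51573 = n53417 := rfl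
theorem F239562 : act 1 n53417 = n52364 := d11_1 D53417 (iv D52364) (iv F231224)
theorem F239563 : act 2 n53417 = n51574 := d18_1 D53417 (iv D51574) D51573
theorem F239564 : act 7 n53417 = n51577 := d32_2 (iv F231227) D53417 (iv D51577)
theorem F239565 : act 8 n53417 = n51601 := d33_2 (iv F231228) D53417 (iv D51601)
def n53418 : Q := act 9 n51573
theorem D53418 : act 9 n51573 = n53418 := rfl
theorem F239566 : act 1 n53418 = n52365 := d16_1 D53418 (iv D52365) (iv F231224)
theorem F239567 : act 2 n53418 = n51575 := d23_1 D53418 (iv D51575) D51573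
theorem F239568 : act 3 n53418 = n53418 := d29_1 D53418 (iv D53418) F231225
theorem F239569 : act 5 n53418 = n51582 := d38_1 D53418 (iv D51582) (iv F231226)
theorem F239570 : act 7 n53418 = n51578 := d43_1 D53418 (iv D51578) (iv F231227)
def n53419 : Q := act 5 n51574
theorem D53419 : act 5 n51574 = n53419 := rfl
theorem F239571 : act 1 n53419 = n52394 := d12_1 D53419 (iv F236356) F236353
theorem F239572 : act 4 n53419 = n51583 := d30_1 D53419 (iv D51583) (iv D49528) (iv F221880) D51574
theorem F239573 : act 7 n53419 = n51579 := d36_2 (iv F231229) D53419 (iv D51579)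
theorem F239574 : act 8 n53419 = n51603 := d37_2 (iv F231230) D53419 (iv D51603)
def n53420 : Q := act 9 n51574
theorem D53420 : act 9 n51574 = n53420 := rfl
theorem F239575 : act 4 n53420 = n51575 := d34_1 D53420 (iv D51575) D51574
theorem F239576 : act 7 n53420 = n51580 := d43_1 D53420 (iv D51580) (iv F231229)
def n53421 : Q := act 8 n51575
theorem D53421 : act 8 n51575 = n53421 := rfl
theorem F239577 : act 5 n53421 = n51585 := d37_1 D53421 (iv D51585) (iv F231232)
theorem F239578 : act 7 n53421 = n51581 := d42_1 D53421 (iv D51581) (iv F231233)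
theorem F239579 : act 9 n53421 = n51605 := d44_2 D51575 D53421 (iv D51605) (iv D49546) (iv F221882)
def n53422 : Q := act 4 n51576
theorem D53422 : act 4 n51576 = n53422 := rfl
theorem F239580 : act 0 n53422 = n52374 := d3_1 D53422 F234676 F231240
theorem F239581 : act 1 n53422 = n51577 := d11_1 D53422 (iv D51577) D51576
theorem F239582 : act 2 n53422 = n52050 := d18_1 D53422 (iv D52050) (iv F231234)
theorem F239583 : act 5 n53422 = n52351 := d30_2 (iv F231236) D53422 (iv D52351) F225404 F221913
theorem F239584 : act 6 n53422 = n52415 := d31_2 (iv F231237) D53422 (iv D52415)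
theorem F239585 : act 7 n53422 = n52364 := d32_2 (iv F231238) D53422 (iv D52364)
theorem F239586 : act 8 n53422 = n51607 := d33_2 (iv F231239) D53422 (iv D51607)
def n53423 : Q := act 9 n51576
theorem D53423 : act 9 n51576 = n53423 := rfl
theorem F239587 : act 0 n53423 = n52379 := d8_1 D53423 (iv D52379) F231240
theorem F239588 : act 1 n53423 = n51578 := d16_1 D53423 (iv D51578) D51576
theorem F239589 : act 2 n53423 = n52051 := d23_1 D53423 (iv D52051) (iv F231234)
theorem F239590 : act 3 n53423 = n53423 := d29_1 D53423 (iv D53423) F231235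
theorem F239591 : act 5 n53423 = n51586 := d38_1 D53423 (iv D51586) (iv F231236)
theorem F239592 : act 6 n53423 = n52416 := d41_1 D53423 (iv D52416) (iv F231237)
theorem F239593 : act 7 n53423 = n52365 := d43_1 D53423 (iv D52365) (iv F231238)
def n53424 : Q := act 3 n51577
theorem D53424 : act 3 n51577 = n53424 := rfl
theorem F239594 : act 4 n53424 = n53424 := d24_2 D51577 D53424 (iv D53424) (iv D51577) F221886
theorem F239595 : act 6 n53424 = n52417 := d26_2 (iv F231242) D53424 (iv D52417)
def n53425 : Q := act 5 n51577
theorem D53425 : act 5 n51577 = n53425 := rfl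
theorem F239596 : act 1 n53425 = n52351 := d12_1 D53425 (iv F239583) F239581
theorem F239597 : act 2 n53425 = n51579 := d19_1 D53425 (iv D51579) (iv F231241)
theorem F239598 : act 4 n53425 = n51587 := d30_1 D53425 (iv D51587) (iv D49531) (iv F221887) D51577
theorem F239599 : act 8 n53425 = n51610 := d37_2 (iv F231243) D53425 (iv D51610)
def n53426 : Q := act 9 n51577
theorem D53426 : act 9 n51577 = n53426 := rfl
theorem F239600 : act 2 n53426 = n51580 := d23_1 D53426 (iv D51580) (iv F231241)
theorem F239601 : act 4 n53426 = n51578 := d34_1 D53426 (iv D51578) D51577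
theorem F239602 : act 6 n53426 = n52418 := d41_1 D53426 (iv D52418) (iv F231242)
def n53427 : Q := act 8 n51578
theorem D53427 : act 8 n51578 = n53427 := rfl
theorem F239603 : act 2 n53427 = n51581 := d22_1 D53427 (iv D51581) (iv F231244)
theorem F239604 : act 5 n53427 = n51589 := d37_1 D53427 (iv D51589) (iv F231246)
theorem F239605 : act 6 n53427 = n52419 := d40_1 D53427 (iv D52419) (iv F231247)
theorem F239606 : act 9 n53427 = n51612 := d44_2 D51578 D53427 (iv D51612) (iv D49549) (iv F221889)
def n53428 : Q := act 6 n51579
theorem D53428 : act 6 n51579 = n53428 := rfl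
theorem F239607 : act 1 n53428 = n52428 := d13_1 D53428 (iv F236372) F236368
theorem F239608 : act 3 n53428 = n52237 := d26_1 D53428 (iv F239542) F239540
theorem F239609 : act 4 n53428 = n51590 := d31_1 D53428 (iv D51590) (iv F231248)
theorem F239610 : act 5 n53428 = n52062 := d35_1 D53428 F233413 F224092 (iv F221890) D51579
theorem F239611 : act 8 n53428 = n51613 := d40_2 (iv F231249) D53428 (iv D51613)
def n53429 : Q := act 9 n51579
theorem D53429 : act 9 n51579 = n53429 := rfl
theorem F239612 : act 4 n53429 = n51591 := d34_1 D53429 (iv D51591) (iv F231248)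
theorem F239613 : act 5 n53429 = n51580 := d38_1 D53429 (iv D51580) D51579
def n53430 : Q := act 8 n51580
theorem D53430 : act 8 n51580 = n53430 := rfl
theorem F239614 : act 4 n53430 = n51581 := d33_1 D53430 (iv D51581) (iv F231250)
theorem F239615 : act 6 n53430 = n52420 := d40_1 D53430 (iv D52420) (iv F231251)
theorem F239616 : act 9 n53430 = n51615 := d44_2 D51580 D53430 (iv D51615) (iv D49551) (iv F221891)
def n53431 : Q := act 8 n51582
theorem D53431 : act 8 n51582 = n53431 := rfl
theorem F239617 : act 1 n53431 = n52368 := d15_1 D53431 (iv D52368) (iv F231255)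
theorem F239618 : act 2 n53431 = n51585 := d22_1 D53431 (iv D51585) (iv F231256)
theorem F239619 : act 6 n53431 = n52369 := d40_1 D53431 (iv D52369) (iv F231258)
theorem F239620 : act 7 n53431 = n51589 := d42_1 D53431 (iv D51589) (iv F231259)
theorem F239621 : act 9 n53431 = n51618 := d44_2 D51582 D53431 (iv D51618) (iv D49554) (iv F221899)
def n53432 : Q := act 9 n51583
theorem D53432 : act 9 n51583 = n53432 := rfl
theorem F239622 : act 1 n53432 = n52395 := d16_1 D53432 (iv D52395) (iv F231260)
theorem F239623 : act 3 n53432 = n53432 := d29_1 D53432 (iv D53432) F231261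
theorem F239624 : act 5 n53432 = n51584 := d38_1 D53432 (iv D51584) D51583
theorem F239625 : act 7 n53432 = n51591 := d43_1 D53432 (iv D51591) (iv F231262)
def n53433 : Q := act 8 n51584
theorem D53433 : act 8 n51584 = n53433 := rfl
theorem F239626 : act 1 n53433 = n52398 := d15_1 D53433 (iv D52398) (iv F231264)
theorem F239627 : act 4 n53433 = n51585 := d33_1 D53433 (iv D51585) (iv F231266)
theorem F239628 : act 6 n53433 = n52399 := d40_1 D53433 (iv D52399) (iv F231267)
theorem F239629 : act 7 n53433 = n51592 := d42_1 D53433 (iv D51592) (iv F231268)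
theorem F239630 : act 9 n53433 = n51620 := d44_2 D51584 D53433 (iv D51620) (iv D49556) (iv F221904)
def n53434 : Q := act 8 n51586
theorem D53434 : act 8 n51586 = n53434 := rfl
theorem F239631 : act 0 n53434 = n52380 := d7_1 D53434 (iv D52380) (iv F231271)
theorem F239632 : act 1 n53434 = n51589 := d15_1 D53434 (iv D51589) (iv F231272)
theorem F239633 : act 2 n53434 = n52052 := d22_1 D53434 (iv D52052) (iv F231273)
theorem F239634 : act 4 n53434 = n52356 := d33_1 D53434 (iv D52356) (iv F231275)
theorem F239635 : act 6 n53434 = n51593 := d40_1 D53434 (iv D51593) (iv F231276)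
theorem F239636 : act 7 n53434 = n52368 := d42_1 D53434 (iv D52368) (iv F231277)
theorem F239637 : act 9 n53434 = n51624 := d44_2 D51586 D53434 (iv D51624) (iv D49560) (iv F221911)
def n53435 : Q := act 9 n51587
theorem D53435 : act 9 n51587 = n53435 := rfl
theorem F239638 : act 1 n53435 = n52352 := d16_1 D53435 (iv D52352) (iv F231278)
theorem F239639 : act 2 n53435 = n51591 := d23_1 D53435 (iv D51591) (iv F231279)
theorem F239640 : act 3 n53435 = n52358 := d29_1 D53435 (iv D52358) (iv F231280)
theorem F239641 : act 5 n53435 = n51588 := d38_1 D53435 (iv D51588) D51587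
def n53436 : Q := act 8 n51588
theorem D53436 : act 8 n51588 = n53436 := rfl
theorem F239642 : act 1 n53436 = n52356 := d15_1 D53436 (iv D52356) (iv F231282)
theorem F239643 : act 2 n53436 = n51592 := d22_1 D53436 (iv D51592) (iv F231283)
theorem F239644 : act 4 n53436 = n51589 := d33_1 D53436 (iv D51589) (iv F231285)
theorem F239645 : act 6 n53436 = n51594 := d40_1 D53436 (iv D51594) (iv F231286)
theorem F239646 : act 9 n53436 = n51627 := d44_2 D51588 D53436 (iv D51627) (iv D49562) (iv F221917)
def n53437 : Q := act 3 n51589
theorem D53437 : act 3 n51589 = n53437 := rfl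
theorem F239647 : act 6 n53437 = n51595 := d26_2 (iv F231288) D53437 (iv D51595)
theorem F239648 : act 8 n53437 = n53437 := d28_2 D51589 D53437 (iv D53437) (iv D51589) F221920
theorem F239649 : act 9 n53437 = n51628 := d29_2 (iv F231289) D53437 (iv D51628)
def n53438 : Q := act 9 n51590
theorem D53438 : act 9 n51590 = n53438 := rfl
theorem F239650 : act 3 n53438 = n53438 := d29_1 D53438 (iv D53438) F231290
theorem F239651 : act 5 n53438 = n51596 := d38_1 D53438 (iv D51596) (iv F231291)
theorem F239652 : act 6 n53438 = n51591 := d41_1 D53438 (iv D51591) D51590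
def n53439 : Q := act 8 n51591
theorem D53439 : act 8 n51591 = n53439 := rfl
theorem F239653 : act 5 n53439 = n51592 := d37_1 D53439 (iv D51592) (iv F231294)
theorem F239654 : act 9 n53439 = n51631 := d44_2 D51591 D53439 (iv D51631) (iv D49565) (iv F221923)
def n53440 : Q := act 3 n51592
theorem D53440 : act 3 n51592 = n53440 := rfl
theorem F239655 : act 6 n53440 = n51598 := d26_2 (iv F231296) D53440 (iv D51598)
theorem F239656 : act 8 n53440 = n53440 := d28_2 D51592 D53440 (iv D53440) (iv D51592) F221924
theorem F239657 : act 9 n53440 = n51632 := d29_2 (iv F231297) D53440 (iv D51632)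
def n53441 : Q := act 3 n51593
theorem D53441 : act 3 n51593 = n53441 := rfl
theorem F239658 : act 0 n53441 = n52386 := d2_1 D53441 (iv D52386) (iv F231298)
theorem F239659 : act 1 n53441 = n51595 := d10_1 D53441 (iv D51595) (iv F231299)
theorem F239660 : act 2 n53441 = n52091 := d17_1 D53441 (iv D52091) F224178 (iv F224001) (iv F231300)
theorem F239661 : act 5 n53441 = n52424 := d25_2 (iv F231302) D53441 (iv D52424)
theorem F239662 : act 8 n53441 = n53441 := d28_2 D51593 D53441 (iv D53441) (iv D51593) F221932
theorem F239663 : act 9 n53441 = n51635 := d29_2 (iv F231303) D53441 (iv D51635)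
def n53442 : Q := act 3 n51594
theorem D53442 : act 3 n51594 = n53442 := rfl
theorem F239664 : act 0 n53442 = n52472 := d2_1 D53442 (iv F239291) F239288
theorem F239665 : act 1 n53442 = n52357 := d10_1 D53442 (iv D52357) (iv F231304)
theorem F239666 : act 5 n53442 = n52411 := d25_2 F238767 D53442 (iv F238765)
theorem F239667 : act 8 n53442 = n52362 := d28_2 D51594 D53442 (iv D52362) (iv D50342) (iv F221937)
theorem F239668 : act 9 n53442 = n51638 := d29_2 (iv F231307) D53442 (iv D51638)
def n53443 : Q := act 4 n51595
theorem D53443 : act 4 n51595 = n53443 := rfl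
theorem F239669 : act 8 n53443 = n53443 := d33_2 F231309 D53443 (iv D53443)
theorem F239670 : act 9 n53443 = n51639 := d34_2 (iv F231310) D53443 (iv D51639)
def n53444 : Q := act 8 n51596
theorem D53444 : act 8 n51596 = n53444 := rfl
theorem F239671 : act 4 n53444 = n52085 := d33_1 D53444 F233508 (iv F231312)
theorem F239672 : act 6 n53444 = n51597 := d40_1 D53444 (iv D51597) (iv F231313)
theorem F239673 : act 9 n53444 = n51641 := d44_2 D51596 D53444 (iv D51641) (iv D49575) (iv F221944)
def n53445 : Q := act 3 n51597
theorem D53445 : act 3 n51597 = n53445 := rfl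
theorem F239674 : act 4 n53445 = n52091 := d24_2 (iv F231314) D53445 (iv D52091) F224179 D50038
theorem F239675 : act 5 n53445 = n51598 := d25_2 (iv F231315) D53445 (iv D51598)
theorem F239676 : act 8 n53445 = n53445 := d28_2 D51597 D53445 (iv D53445) (iv D51597) F221945
theorem F239677 : act 9 n53445 = n51642 := d29_2 (iv F231316) D53445 (iv D51642)
def n53446 : Q := act 2 n51598
theorem D53446 : act 2 n51598 = n53446 := rfl
theorem F239678 : act 8 n53446 = n53446 := d22_2 F231317 D53446 (iv D53446)
theorem F239679 : act 9 n53446 = n51643 := d23_2 (iv F231318) D53446 (iv D51643)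
def n53447 : Q := act 5 n51599
theorem D53447 : act 5 n51599 = n53447 := rfl
theorem F239680 : act 3 n53447 = n51900 := d25_1 D53447 (iv D51900) (iv F231319)
theorem F239681 : act 7 n53447 = n52428 := d36_2 (iv F231321) D53447 (iv D52428)
def n53448 : Q := act 9 n51599
theorem D53448 : act 9 n51599 = n53448 := rfl
theorem F239682 : act 3 n53448 = n51901 := d29_1 D53448 (iv D51901) (iv F231319)
theorem F239683 : act 4 n53448 = n51600 := d34_1 D53448 (iv D51600) D51599
theorem F239684 : act 6 n53448 = n51604 := d41_1 D53448 (iv D51604) (iv F231320)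
theorem F239685 : act 7 n53448 = n52429 := d43_1 D53448 (iv D52429) (iv F231321)
def n53449 : Q := act 8 n51600
theorem D53449 : act 8 n51600 = n53449 := rfl
theorem F239686 : act 6 n53449 = n51605 := d40_1 D53449 (iv D51605) (iv F231323)
theorem F239687 : act 7 n53449 = n52430 := d42_1 D53449 (iv D52430) (iv F231324)
def n53450 : Q := act 3 n51601
theorem D53450 : act 3 n51601 = n53450 := rfl
theorem F239688 : act 1 n53450 = n52373 := d10_1 D53450 (iv D52373) (iv F231325)
theorem F239689 : act 2 n53450 = n51906 := d17_1 D53450 (iv D51906) F223226 (iv F221960) (iv F231326)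
theorem F239690 : act 4 n53450 = n51653 := d24_2 D51601 D53450 (iv D51653) (iv D49588) (iv F221957)
theorem F239691 : act 7 n53450 = n51609 := d27_2 (iv F231327) D53450 (iv D51609)
def n53451 : Q := act 5 n51601
theorem D53451 : act 5 n51601 = n53451 := rfl
theorem F239692 : act 1 n53451 = n52374 := d12_1 D53451 (iv D52374) (iv F231325)
theorem F239693 : act 2 n53451 = n51603 := d19_1 D53451 (iv D51603) (iv F231326)
theorem F239694 : act 4 n53451 = n51616 := d30_1 D53451 (iv D51616) (iv D49553) (iv F221958) D51601
theorem F239695 : act 7 n53451 = n51610 := d36_2 (iv F231327) D53451 (iv D51610)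
def n53452 : Q := act 9 n51601
theorem D53452 : act 9 n51601 = n53452 := rfl
theorem F239696 : act 1 n53452 = n52375 := d16_1 D53452 (iv D52375) (iv F231325)
theorem F239697 : act 2 n53452 = n51604 := d23_1 D53452 (iv D51604) (iv F231326)
theorem F239698 : act 4 n53452 = n51602 := d34_1 D53452 (iv D51602) D51601
theorem F239699 : act 7 n53452 = n51611 := d43_1 D53452 (iv D51611) (iv F231327)
def n53453 : Q := act 8 n51602
theorem D53453 : act 8 n51602 = n53453 := rfl
theorem F239700 : act 1 n53453 = n52376 := d15_1 D53453 (iv D52376) (iv F231328)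
theorem F239701 : act 2 n53453 = n51605 := d22_1 D53453 (iv D51605) (iv F231329)
theorem F239702 : act 5 n53453 = n51618 := d37_1 D53453 (iv D51618) (iv F231331)
theorem F239703 : act 7 n53453 = n51612 := d42_1 D53453 (iv D51612) (iv F231332)
def n53454 : Q := act 9 n51603
theorem D53454 : act 9 n51603 = n53454 := rfl
theorem F239704 : act 1 n53454 = n52405 := d16_1 D53454 (iv D52405) (iv F231333)
theorem F239705 : act 3 n53454 = n51911 := d29_1 D53454 (iv D51911) (iv F231334)
theorem F239706 : act 4 n53454 = n51619 := d34_1 D53454 (iv D51619) (iv F231335)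
theorem F239707 : act 5 n53454 = n51604 := d38_1 D53454 (iv D51604) D51603
theorem F239708 : act 7 n53454 = n51614 := d43_1 D53454 (iv D51614) (iv F231336)
def n53455 : Q := act 8 n51604
theorem D53455 : act 8 n51604 = n53455 := rfl
theorem F239709 : act 4 n53455 = n51605 := d33_1 D53455 (iv D51605) (iv F231338)
theorem F239710 : act 7 n53455 = n51615 := d42_1 D53455 (iv D51615) (iv F231339)
def n53456 : Q := act 4 n51606
theorem D53456 : act 4 n51606 = n53456 := rfl
theorem F239711 : act 0 n53456 = n51607 := d3_1 D53456 (iv D51607) D51606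
theorem F239712 : act 2 n53456 = n52349 := d18_1 D53456 (iv D52349) (iv F231342)
theorem F239713 : act 5 n53456 = n52364 := d30_2 (iv F231344) D53456 (iv D52364) F225461 F222007
theorem F239714 : act 6 n53456 = n52436 := d31_2 (iv F231345) D53456 (iv D52436)
theorem F239715 : act 7 n53456 = n52351 := d32_2 (iv F231346) D53456 (iv D52351)
theorem F239716 : act 8 n53456 = n52374 := d33_2 (iv F231347) D53456 F234676
def n53457 : Q := act 9 n51606
theorem D53457 : act 9 n51606 = n53457 := rfl
theorem F239717 : act 0 n53457 = n51608 := d8_1 D53457 (iv D51608) D51606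
theorem F239718 : act 2 n53457 = n52350 := d23_1 D53457 (iv D52350) (iv F231342)
theorem F239719 : act 3 n53457 = n51658 := d29_1 D53457 (iv D51658) (iv F231343)
theorem F239720 : act 5 n53457 = n51621 := d38_1 D53457 (iv D51621) (iv F231344)
theorem F239721 : act 6 n53457 = n52437 := d41_1 D53457 (iv D52437) (iv F231345)
theorem F239722 : act 7 n53457 = n52352 := d43_1 D53457 (iv D52352) (iv F231346)
def n53458 : Q := act 3 n51607
theorem D53458 : act 3 n51607 = n53458 := rfl
theorem F239723 : act 1 n53458 = n51609 := d10_1 D53458 (iv D51609) (iv F231348)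
theorem F239724 : act 2 n53458 = n52514 := d17_1 D53458 (iv D52514) F225947 (iv F225479) (iv F231349)
theorem F239725 : act 4 n53458 = n51659 := d24_2 D51607 D53458 (iv D51659) (iv D49593) (iv F221966)
theorem F239726 : act 6 n53458 = n52438 := d26_2 (iv F231350) D53458 (iv D52438)
theorem F239727 : act 7 n53458 = n52373 := d27_2 (iv F231351) D53458 (iv D52373)
def n53459 : Q := act 5 n51607
theorem D53459 : act 5 n51607 = n53459 := rfl
theorem F239728 : act 0 n53459 = n52364 := d4_1 D53459 (iv F239713) F239711
theorem F239729 : act 1 n53459 = n51610 := d12_1 D53459 (iv D51610) (iv F231348)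
theorem F239730 : act 2 n53459 = n52346 := d19_1 D53459 F234574 (iv F231349)
theorem F239731 : act 4 n53459 = n51622 := d30_1 D53459 (iv D51622) (iv D49559) (iv F221967) D51607
theorem F239732 : act 7 n53459 = n52374 := d36_2 (iv F231351) D53459 (iv D52374)
theorem F239733 : act 8 n53459 = n52351 := d37_2 F239586 D53459 (iv F239583)
def n53460 : Q := act 9 n51607
theorem D53460 : act 9 n51607 = n53460 := rfl
theorem F239734 : act 1 n53460 = n51611 := d16_1 D53460 (iv D51611) (iv F231348)
theorem F239735 : act 2 n53460 = n52371 := d23_1 D53460 (iv D52371) (iv F231349)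
theorem F239736 : act 4 n53460 = n51608 := d34_1 D53460 (iv D51608) D51607
theorem F239737 : act 6 n53460 = n52440 := d41_1 D53460 (iv D52440) (iv F231350)
theorem F239738 : act 7 n53460 = n52375 := d43_1 D53460 (iv D52375) (iv F231351)
def n53461 : Q := act 8 n51608
theorem D53461 : act 8 n51608 = n53461 := rfl
theorem F239739 : act 1 n53461 = n51612 := d15_1 D53461 (iv D51612) (iv F231352)
theorem F239740 : act 2 n53461 = n52372 := d22_1 D53461 (iv D52372) (iv F231353)
theorem F239741 : act 5 n53461 = n51624 := d37_1 D53461 (iv D51624) (iv F231355)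
theorem F239742 : act 6 n53461 = n52441 := d40_1 D53461 (iv D52441) (iv F231356)
theorem F239743 : act 7 n53461 = n52376 := d42_1 D53461 (iv D52376) (iv F231357)
def n53462 : Q := act 5 n51609
theorem D53462 : act 5 n51609 = n53462 := rfl
theorem F239744 : act 2 n53462 = n51919 := d19_1 D53462 (iv D51919) (iv F231358)
theorem F239745 : act 3 n53462 = n51610 := d25_1 D53462 (iv D51610) D51609
theorem F239746 : act 4 n53462 = n53462 := d30_1 D53462 (iv D53462) F231359 F222139 (iv F231359)
def n53463 : Q := act 8 n51609
theorem D53463 : act 8 n51609 = n53463 := rfl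
theorem F239747 : act 2 n53463 = n51920 := d22_1 D53463 (iv D51920) (iv F231358)
theorem F239748 : act 4 n53463 = n51662 := d33_1 D53463 (iv D51662) (iv F231359)
theorem F239749 : act 6 n53463 = n52442 := d40_1 D53463 (iv D52442) (iv F231360)
def n53464 : Q := act 9 n51609
theorem D53464 : act 9 n51609 = n53464 := rfl
theorem F239750 : act 2 n53464 = n51921 := d23_1 D53464 (iv D51921) (iv F231358)
theorem F239751 : act 3 n53464 = n51611 := d29_1 D53464 (iv D51611) D51609
theorem F239752 : act 4 n53464 = n51663 := d34_1 D53464 (iv D51663) (iv F231359)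
theorem F239753 : act 6 n53464 = n52443 := d41_1 D53464 (iv D52443) (iv F231360)
def n53465 : Q := act 6 n51610
theorem D53465 : act 6 n51610 = n53465 := rfl
theorem F239754 : act 2 n53465 = n51613 := d20_1 D53465 (iv D51613) (iv F231361)
theorem F239755 : act 4 n53465 = n51625 := d31_1 D53465 (iv D51625) (iv F231362)
theorem F239756 : act 5 n53465 = n52444 := d35_1 D53465 (iv D52444) (iv D50429) (iv F221971) D51610
def n53466 : Q := act 9 n51610
theorem D53466 : act 9 n51610 = n53466 := rfl
theorem F239757 : act 2 n53466 = n51614 := d23_1 D53466 (iv D51614) (iv F231361)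
theorem F239758 : act 4 n53466 = n51626 := d34_1 D53466 (iv D51626) (iv F231362)
theorem F239759 : act 5 n53466 = n51611 := d38_1 D53466 (iv D51611) D51610
def n53467 : Q := act 8 n51611
theorem D53467 : act 8 n51611 = n53467 := rfl
theorem F239760 : act 2 n53467 = n51615 := d22_1 D53467 (iv D51615) (iv F231363)
theorem F239761 : act 4 n53467 = n51612 := d33_1 D53467 (iv D51612) (iv F231364)
theorem F239762 : act 6 n53467 = n52446 := d40_1 D53467 (iv D52446) (iv F231365)
def n53468 : Q := act 3 n51612
theorem D53468 : act 3 n51612 = n53468 := rfl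
theorem F239763 : act 5 n53468 = n51628 := d25_2 (iv F231367) D53468 (iv D51628)
theorem F239764 : act 6 n53468 = n52447 := d26_2 (iv F231368) D53468 (iv D52447)
theorem F239765 : act 8 n53468 = n51665 := d28_2 D51612 D53468 (iv D51665) (iv D49597) (iv F221973)
def n53469 : Q := act 7 n51613
theorem D53469 : act 7 n51613 = n53469 := rfl
theorem F239766 : act 3 n53469 = n51926 := d27_1 D53469 (iv D51926) (iv F231369)
theorem F239767 : act 4 n53469 = n51629 := d32_1 D53469 (iv D51629) (iv F231370)
theorem F239768 : act 5 n53469 = n52448 := d36_1 D53469 (iv D52448) (iv F231371)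
def n53470 : Q := act 9 n51613
theorem D53470 : act 9 n51613 = n53470 := rfl
theorem F239769 : act 3 n53470 = n51927 := d29_1 D53470 (iv D51927) (iv F231369)
theorem F239770 : act 4 n53470 = n51630 := d34_1 D53470 (iv D51630) (iv F231370)
theorem F239771 : act 5 n53470 = n52449 := d38_1 D53470 (iv D52449) (iv F231371)
theorem F239772 : act 6 n53470 = n51614 := d41_1 D53470 (iv D51614) D51613
def n53471 : Q := act 8 n51614
theorem D53471 : act 8 n51614 = n53471 := rfl
theorem F239773 : act 4 n53471 = n51631 := d33_1 D53471 (iv D51631) (iv F231373)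
theorem F239774 : act 5 n53471 = n51615 := d37_1 D53471 (iv D51615) (iv F231374)
def n53472 : Q := act 3 n51615
theorem D53472 : act 3 n51615 = n53472 := rfl
theorem F239775 : act 6 n53472 = n52451 := d26_2 (iv F231376) D53472 (iv D52451)
theorem F239776 : act 8 n53472 = n51929 := d28_2 D51615 D53472 (iv D51929) (iv D49842) (iv F221978)
def n53473 : Q := act 9 n51616
theorem D53473 : act 9 n51616 = n53473 := rfl
theorem F239777 : act 1 n53473 = n52379 := d16_1 D53473 (iv D52379) (iv F231377)
theorem F239778 : act 2 n53473 = n51619 := d23_1 D53473 (iv D51619) (iv F231378)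
theorem F239779 : act 3 n53473 = n53473 := d29_1 D53473 (iv D53473) F231379
theorem F239780 : act 5 n53473 = n51617 := d38_1 D53473 (iv D51617) D51616
theorem F239781 : act 7 n53473 = n51626 := d43_1 D53473 (iv D51626) (iv F231380)
def n53474 : Q := act 8 n51617
theorem D53474 : act 8 n51617 = n53474 := rfl
theorem F239782 : act 1 n53474 = n52380 := d15_1 D53474 (iv D52380) (iv F231381)
theorem F239783 : act 2 n53474 = n51620 := d22_1 D53474 (iv D51620) (iv F231382)
theorem F239784 : act 4 n53474 = n51618 := d33_1 D53474 (iv D51618) (iv F231384)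
theorem F239785 : act 6 n53474 = n52384 := d40_1 D53474 (iv D52384) (iv F231385)
theorem F239786 : act 7 n53474 = n51627 := d42_1 D53474 (iv D51627) (iv F231386)
def n53475 : Q := act 3 n51618
theorem D53475 : act 3 n51618 = n53475 := rfl
theorem F239787 : act 1 n53475 = n52381 := d10_1 D53475 (iv D52381) (iv F231387)
theorem F239788 : act 6 n53475 = n52385 := d26_2 (iv F231389) D53475 (iv D52385)
theorem F239789 : act 7 n53475 = n51628 := d27_2 (iv F231390) D53475 (iv D51628)
theorem F239790 : act 8 n53475 = n51667 := d28_2 D51618 D53475 (iv D51667) (iv D49599) (iv F221990)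
def n53476 : Q := act 8 n51619
theorem D53476 : act 8 n51619 = n53476 := rfl
theorem F239791 : act 1 n53476 = n52406 := d15_1 D53476 (iv D52406) (iv F231391)
theorem F239792 : act 5 n53476 = n51620 := d37_1 D53476 (iv D51620) (iv F231393)
theorem F239793 : act 7 n53476 = n51631 := d42_1 D53476 (iv D51631) (iv F231394)
def n53477 : Q := act 3 n51620
theorem D53477 : act 3 n51620 = n53477 := rfl
theorem F239794 : act 1 n53477 = n52408 := d10_1 D53477 (iv D52408) (iv F231395)
theorem F239795 : act 6 n53477 = n52410 := d26_2 (iv F231397) D53477 (iv D52410)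
theorem F239796 : act 7 n53477 = n51632 := d27_2 (iv F231398) D53477 (iv D51632)
theorem F239797 : act 8 n53477 = n51645 := d28_2 D51620 D53477 (iv D51645) (iv D49579) (iv F221997)
def n53478 : Q := act 8 n51621
theorem D53478 : act 8 n51621 = n53478 := rfl
theorem F239798 : act 0 n53478 = n51624 := d7_1 D53478 (iv D51624) (iv F231399)
theorem F239799 : act 2 n53478 = n52355 := d22_1 D53478 (iv D52355) (iv F231400)
theorem F239800 : act 4 n53478 = n52368 := d33_1 D53478 (iv D52368) (iv F231402)
theorem F239801 : act 6 n53478 = n51633 := d40_1 D53478 (iv D51633) (iv F231403)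
theorem F239802 : act 7 n53478 = n52356 := d42_1 D53478 (iv D52356) (iv F231404)
theorem F239803 : act 9 n53478 = n52380 := d44_2 D51621 D53478 (iv D52380) (iv D50361) (iv F222006)
def n53479 : Q := act 9 n51622
theorem D53479 : act 9 n51622 = n53479 := rfl
theorem F239804 : act 0 n53479 = n52365 := d8_1 D53479 (iv D52365) (iv F231405)
theorem F239805 : act 1 n53479 = n51626 := d16_1 D53479 (iv D51626) (iv F231406)
theorem F239806 : act 2 n53479 = n52347 := d23_1 D53479 (iv D52347) (iv F231407)
theorem F239807 : act 3 n53479 = n53479 := d29_1 D53479 (iv D53479) F231408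
theorem F239808 : act 5 n53479 = n51623 := d38_1 D53479 (iv D51623) D51622
theorem F239809 : act 7 n53479 = n52379 := d43_1 D53479 (iv D52379) (iv F231409)
def n53480 : Q := act 8 n51623
theorem D53480 : act 8 n51623 = n53480 := rfl
theorem F239810 : act 0 n53480 = n52368 := d7_1 D53480 (iv D52368) (iv F231411)
theorem F239811 : act 1 n53480 = n51627 := d15_1 D53480 (iv D51627) (iv F231412)
theorem F239812 : act 2 n53480 = n52348 := d22_1 D53480 (iv D52348) (iv F231413)
theorem F239813 : act 4 n53480 = n51624 := d33_1 D53480 (iv D51624) (iv F231415)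
theorem F239814 : act 6 n53480 = n51634 := d40_1 D53480 (iv D51634) (iv F231416)
theorem F239815 : act 7 n53480 = n52380 := d42_1 D53480 (iv D52380) (iv F231417)
theorem F239816 : act 9 n53480 = n52356 := d44_2 D51623 D53480 (iv D52356) (iv D50333) (iv F222014)
def n53481 : Q := act 3 n51624
theorem D53481 : act 3 n51624 = n53481 := rfl
theorem F239817 : act 1 n53481 = n51628 := d10_1 D53481 (iv D51628) (iv F231418)
theorem F239818 : act 2 n53481 = n52453 := d17_1 D53481 (iv D52453) F225704 (iv F225495) (iv F231419)
theorem F239819 : act 6 n53481 = n51635 := d26_2 (iv F231420) D53481 (iv D51635)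
theorem F239820 : act 7 n53481 = n52381 := d27_2 (iv F231421) D53481 (iv D52381)
theorem F239821 : act 8 n53481 = n51669 := d28_2 D51624 D53481 (iv D51669) (iv D49601) (iv F222017)
def n53482 : Q := act 9 n51625
theorem D53482 : act 9 n51625 = n53482 := rfl
theorem F239822 : act 2 n53482 = n51630 := d23_1 D53482 (iv D51630) (iv F231422)
theorem F239823 : act 3 n53482 = n53482 := d29_1 D53482 (iv D53482) F231423
theorem F239824 : act 5 n53482 = n51636 := d38_1 D53482 (iv D51636) (iv F231424)
theorem F239825 : act 6 n53482 = n51626 := d41_1 D53482 (iv D51626) D51625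
def n53483 : Q := act 8 n51626
theorem D53483 : act 8 n51626 = n53483 := rfl
theorem F239826 : act 2 n53483 = n51631 := d22_1 D53483 (iv D51631) (iv F231425)
theorem F239827 : act 5 n53483 = n51627 := d37_1 D53483 (iv D51627) (iv F231427)
def n53484 : Q := act 3 n51627
theorem D53484 : act 3 n51627 = n53484 := rfl
theorem F239828 : act 6 n53484 = n51638 := d26_2 (iv F231430) D53484 (iv D51638)
theorem F239829 : act 8 n53484 = n53484 := d28_2 D51627 D53484 (iv D53484) (iv D51627) F222023
def n53485 : Q := act 4 n51628
theorem D53485 : act 4 n51628 = n53485 := rfl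
theorem F239830 : act 6 n53485 = n51639 := d31_2 (iv F231431) D53485 (iv D51639)
theorem F239831 : act 8 n53485 = n51670 := d33_2 (iv F231432) D53485 (iv D51670)
def n53486 : Q := act 9 n51629
theorem D53486 : act 9 n51629 = n53486 := rfl
theorem F239832 : act 3 n53486 = n51646 := d29_1 D53486 (iv D51646) (iv F231433)
theorem F239833 : act 5 n53486 = n51640 := d38_1 D53486 (iv D51640) (iv F231434)
theorem F239834 : act 7 n53486 = n51630 := d43_1 D53486 (iv D51630) D51629
def n53487 : Q := act 8 n51630
theorem D53487 : act 8 n51630 = n53487 := rfl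
theorem F239835 : act 5 n53487 = n51641 := d37_1 D53487 (iv D51641) (iv F231436)
theorem F239836 : act 6 n53487 = n51631 := d40_1 D53487 (iv D51631) (iv F231437)
def n53488 : Q := act 3 n51631
theorem D53488 : act 3 n51631 = n53488 := rfl
theorem F239837 : act 5 n53488 = n51632 := d25_2 (iv F231438) D53488 (iv D51632)
theorem F239838 : act 8 n53488 = n51648 := d28_2 D51631 D53488 (iv D51648) (iv D49582) (iv F222030)
def n53489 : Q := act 2 n51632
theorem D53489 : act 2 n51632 = n53489 := rfl
theorem F239839 : act 6 n53489 = n51643 := d20_2 (iv F231439) D53489 (iv D51643)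
theorem F239840 : act 8 n53489 = n51649 := d22_2 (iv F231440) D53489 (iv D51649)
def n53490 : Q := act 3 n51634
theorem D53490 : act 3 n51634 = n53490 := rfl
theorem F239841 : act 0 n53490 = n52370 := d2_1 D53490 (iv D52370) (iv F231446)
theorem F239842 : act 1 n53490 = n51638 := d10_1 D53490 (iv D51638) (iv F231447)
theorem F239843 : act 2 n53490 = n52400 := d17_1 D53490 (iv D52400) F225567 (iv F225388) (iv F231448)
theorem F239844 : act 8 n53490 = n53490 := d28_2 D51634 D53490 (iv D53490) (iv D51634) F222042
theorem F239845 : act 9 n53490 = n52357 := d29_2 (iv F231450) D53490 (iv D52357)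
def n53491 : Q := act 4 n51635
theorem D53491 : act 4 n51635 = n53491 := rfl
theorem F239846 : act 1 n53491 = n51639 := d11_1 D53491 (iv D51639) (iv F231451)
theorem F239847 : act 2 n53491 = n51642 := d18_1 D53491 (iv F236346) F236345
theorem F239848 : act 5 n53491 = n51643 := d30_2 (iv F231452) D53491 (iv F239020) F239021 (iv D52469)
theorem F239849 : act 8 n53491 = n51651 := d33_2 (iv F231453) D53491 F231504
def n53492 : Q := act 8 n51636
theorem D53492 : act 8 n51636 = n53492 := rfl
theorem F239850 : act 2 n53492 = n51641 := d22_1 D53492 (iv D51641) (iv F231454)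
theorem F239851 : act 4 n53492 = n52470 := d33_1 D53492 (iv D52470) (iv F231456)
theorem F239852 : act 6 n53492 = n51637 := d40_1 D53492 (iv D51637) (iv F231457)
def n53493 : Q := act 3 n51637
theorem D53493 : act 3 n51637 = n53493 := rfl
theorem F239853 : act 0 n53493 = n52425 := d2_1 D53493 F236224 F236219
theorem F239854 : act 4 n53493 = n52400 := d24_2 (iv F231459) D53493 (iv D52400) (iv F233334) F233333
theorem F239855 : act 5 n53493 = n51638 := d25_2 (iv F231460) D53493 (iv D51638)
theorem F239856 : act 8 n53493 = n53493 := d28_2 D51637 D53493 (iv D53493) (iv D51637) F222050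
theorem F239857 : act 9 n53493 = n52411 := d29_2 F238768 D53493 (iv F238765)
def n53494 : Q := act 2 n51638
theorem D53494 : act 2 n51638 = n53494 := rfl
theorem F239858 : act 3 n53494 = n51643 := d17_2 D51638 D53494 (iv D51643) (iv D49577) (iv F222053)
theorem F239859 : act 8 n53494 = n53494 := d22_2 F231461 D53494 (iv D53494)
def n53495 : Q := act 4 n51638
theorem D53495 : act 4 n51638 = n53495 := rfl
theorem F239860 : act 3 n53495 = n51639 := d24_1 D53495 (iv D51639) (iv D49573) (iv F222054) D51638
theorem F239861 : act 8 n53495 = n53495 := d33_2 F231461 D53495 (iv D53495)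
def n53496 : Q := act 5 n51639
theorem D53496 : act 5 n51639 = n53496 := rfl
theorem F239862 : act 1 n53496 = n51643 := d12_1 D53496 (iv F239848) F239846
theorem F239863 : act 4 n53496 = n52472 := d30_1 D53496 (iv D52472) (iv D50456) (iv F222055) D51639
theorem F239864 : act 8 n53496 = n51652 := d37_2 (iv F231462) D53496 F231509
def n53497 : Q := act 8 n51640
theorem D53497 : act 8 n51640 = n53497 := rfl
theorem F239865 : act 3 n53497 = n52461 := d28_1 D53497 F234901 F225816 F222094 (iv F231463)
theorem F239866 : act 4 n53497 = n52460 := d33_1 D53497 F234899 (iv F231464)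
theorem F239867 : act 6 n53497 = n52471 := d40_1 D53497 F234921 (iv F231465)
theorem F239868 : act 7 n53497 = n51641 := d42_1 D53497 (iv D51641) (iv F231466)
def n53498 : Q := act 3 n51641
theorem D53498 : act 3 n51641 = n53498 := rfl
theorem F239869 : act 4 n53498 = n52453 := d24_2 (iv F231467) D53498 (iv D52453) (iv F227821) F227820
theorem F239870 : act 6 n53498 = n51642 := d26_2 (iv F231468) D53498 (iv D51642)
theorem F239871 : act 7 n53498 = n52461 := d27_2 F239868 D53498 (iv F239865)
theorem F239872 : act 8 n53498 = n51650 := d28_2 D51641 D53498 (iv D51650) (iv D49585) (iv F222059)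
def n53499 : Q := act 3 n51644
theorem D53499 : act 3 n51644 = n53499 := rfl
theorem F239873 : act 1 n53499 = n52413 := d10_1 D53499 (iv D52413) (iv F231472)
theorem F239874 : act 5 n53499 = n51645 := d25_2 (iv F231475) D53499 (iv D51645)
theorem F239875 : act 7 n53499 = n51648 := d27_2 (iv F231476) D53499 (iv D51648)
theorem F239876 : act 9 n53499 = n53499 := d29_2 F231477 D53499 (iv D53499)
def n53500 : Q := act 3 n51647
theorem D53500 : act 3 n51647 = n53500 := rfl
theorem F239877 : act 5 n53500 = n51650 := d25_2 (iv F231489) D53500 (iv D51650)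
theorem F239878 : act 6 n53500 = n51648 := d26_2 (iv F231490) D53500 (iv D51648)
theorem F239879 : act 7 n53500 = n52488 := d27_2 (iv F231491) D53500 F234971
theorem F239880 : act 9 n53500 = n53500 := d29_2 F231492 D53500 (iv D53500)
def n53501 : Q := act 2 n51648
theorem D53501 : act 2 n51648 = n53501 := rfl
theorem F239881 : act 3 n53501 = n53501 := d17_2 D51648 D53501 (iv D53501) (iv D51648) F222084
theorem F239882 : act 5 n53501 = n51649 := d19_2 (iv F231493) D53501 (iv D51649)
theorem F239883 : act 9 n53501 = n53501 := d23_2 F231494 D53501 (iv D53501)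
def n53502 : Q := act 4 n51648
theorem D53502 : act 4 n51648 = n53502 := rfl
theorem F239884 : act 3 n53502 = n51976 := d24_1 D53502 (iv D51976) (iv D49884) (iv F222085) D51648
theorem F239885 : act 9 n53502 = n53502 := d34_2 F231494 D53502 (iv D53502)
def n53503 : Q := act 1 n51649
theorem D53503 : act 1 n51649 = n53503 := rfl
theorem F239886 : act 3 n53503 = n53503 := d10_2 F231495 D53503 (iv D53503)
theorem F239887 : act 4 n53503 = n52489 := d11_2 F239036 D53503 F239040
theorem F239888 : act 6 n53503 = n51652 := d13_2 (iv F231496) D53503 (iv D51652)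
theorem F239889 : act 9 n53503 = n53503 := d16_2 F231497 D53503 (iv D53503)
def n53504 : Q := act 2 n51650
theorem D53504 : act 2 n51650 = n53504 := rfl
theorem F239890 : act 1 n53504 = n51670 := d9_1 D53504 (iv F239081) F239080 (iv F236562) F236561
theorem F239891 : act 3 n53504 = n53504 := d17_2 D51650 D53504 (iv D53504) (iv D51650) F222095
theorem F239892 : act 4 n53504 = n51669 := d18_2 (iv F231498) D53504 F231593
theorem F239893 : act 6 n53504 = n51651 := d20_2 (iv F231499) D53504 (iv D51651)
theorem F239894 : act 7 n53504 = n52392 := d21_2 (iv F231500) D53504 F234720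
theorem F239895 : act 9 n53504 = n53504 := d23_2 F231501 D53504 (iv D53504)
def n53505 : Q := act 8 n51653
theorem D53505 : act 8 n51653 = n53505 := rfl
theorem F239896 : act 0 n53505 = n52716 := d7_1 D53505 (iv F237816) F237810
theorem F239897 : act 1 n53505 = n52388 := d15_1 D53505 (iv D52388) (iv F231511)
theorem F239898 : act 2 n53505 = n51987 := d22_1 D53505 (iv D51987) (iv F231512)
theorem F239899 : act 3 n53505 = n53505 := d28_1 D53505 (iv D53505) (iv D51653) F222108 D51653
theorem F239900 : act 5 n53505 = n53505 := d37_1 D53505 (iv D53505) F231513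
theorem F239901 : act 6 n53505 = n52531 := d40_1 D53505 (iv F237342) F237341
theorem F239902 : act 7 n53505 = n51662 := d42_1 D53505 (iv D51662) (iv F231514)
def n53506 : Q := act 9 n51653
theorem D53506 : act 9 n51653 = n53506 := rfl
theorem F239903 : act 1 n53506 = n52389 := d16_1 D53506 (iv D52389) (iv F231511)
theorem F239904 : act 2 n53506 = n51988 := d23_1 D53506 (iv D51988) (iv F231512)
theorem F239905 : act 3 n53506 = n51654 := d29_1 D53506 (iv D51654) D51653
theorem F239906 : act 5 n53506 = n53506 := d38_1 D53506 (iv D53506) F231513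
theorem F239907 : act 7 n53506 = n51663 := d43_1 D53506 (iv D51663) (iv F231514)
def n53507 : Q := act 8 n51654
theorem D53507 : act 8 n51654 = n53507 := rfl
theorem F239908 : act 1 n53507 = n52390 := d15_1 D53507 (iv D52390) (iv F231515)
theorem F239909 : act 2 n53507 = n51656 := d22_1 D53507 (iv D51656) (iv F231516)
theorem F239910 : act 4 n53507 = n51655 := d33_1 D53507 (iv D51655) (iv F231517)
theorem F239911 : act 5 n53507 = n53507 := d37_1 D53507 (iv D53507) F231518
theorem F239912 : act 7 n53507 = n51664 := d42_1 D53507 (iv D51664) (iv F231519)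
theorem F239913 : act 9 n53507 = n53507 := d44_2 D51654 D53507 (iv D53507) (iv D51654) F222108
def n53508 : Q := act 3 n51655
theorem D53508 : act 3 n51655 = n53508 := rfl
theorem F239914 : act 1 n53508 = n52391 := d10_1 D53508 (iv D52391) (iv F231520)
theorem F239915 : act 5 n53508 = n51667 := d25_2 (iv F231522) D53508 (iv D51667)
theorem F239916 : act 7 n53508 = n51665 := d27_2 (iv F231523) D53508 (iv D51665)
theorem F239917 : act 9 n53508 = n53508 := d29_2 F231524 D53508 (iv D53508)
def n53509 : Q := act 3 n51657
theorem D53509 : act 3 n51657 = n53509 := rfl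
theorem F239918 : act 0 n53509 = n51659 := d2_1 D53509 (iv D51659) (iv F231530)
theorem F239919 : act 1 n53509 = n51819 := d10_1 D53509 F232327 (iv F231531)
theorem F239920 : act 2 n53509 = n51703 := d17_1 D53509 (iv D51703) F222434 (iv F222191) (iv F231532)
theorem F239921 : act 5 n53509 = n53509 := d25_2 F231533 D53509 (iv D53509)
theorem F239922 : act 6 n53509 = n51744 := d26_2 (iv F231534) D53509 F231985
theorem F239923 : act 7 n53509 = n51705 := d27_2 (iv F231535) D53509 F231791
def n53510 : Q := act 9 n51657
theorem D53510 : act 9 n51657 = n53510 := rfl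
theorem F239924 : act 0 n53510 = n51660 := d8_1 D53510 (iv D51660) (iv F231530)
theorem F239925 : act 1 n53510 = n51829 := d16_1 D53510 (iv D51829) (iv F231531)
theorem F239926 : act 2 n53510 = n51671 := d23_1 D53510 (iv D51671) (iv F231532)
theorem F239927 : act 4 n53510 = n51658 := d34_1 D53510 (iv D51658) D51657
theorem F239928 : act 5 n53510 = n53510 := d38_1 D53510 (iv D53510) F231533
theorem F239929 : act 6 n53510 = n51755 := d41_1 D53510 (iv D51755) (iv F231534)
theorem F239930 : act 7 n53510 = n51752 := d43_1 D53510 (iv D51752) (iv F231535)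
def n53511 : Q := act 8 n51658
theorem D53511 : act 8 n51658 = n53511 := rfl
theorem F239931 : act 0 n53511 = n51661 := d7_1 D53511 (iv D51661) (iv F231537)
theorem F239932 : act 2 n53511 = n51672 := d22_1 D53511 (iv D51672) (iv F231538)
theorem F239933 : act 5 n53511 = n51668 := d37_1 D53511 (iv D51668) (iv F231539)
theorem F239934 : act 6 n53511 = n52476 := d40_1 D53511 (iv D52476) (iv F231540)
theorem F239935 : act 7 n53511 = n52359 := d42_1 D53511 (iv D52359) (iv F231541)
theorem F239936 : act 9 n53511 = n53511 := d44_2 D51658 D53511 (iv D53511) (iv D51658) F222126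
def n53512 : Q := act 8 n51659
theorem D53512 : act 8 n51659 = n53512 := rfl
theorem F239937 : act 1 n53512 = n51662 := d15_1 D53512 (iv D51662) (iv F231542)
theorem F239938 : act 2 n53512 = n51769 := d22_1 D53512 F232101 (iv F231543)
theorem F239939 : act 3 n53512 = n53512 := d28_1 D53512 (iv D53512) (iv D51659) F222132 D51659
theorem F239940 : act 5 n53512 = n53512 := d37_1 D53512 (iv D53512) F231544
theorem F239941 : act 6 n53512 = n51771 := d40_1 D53512 F232111 (iv F231545)
theorem F239942 : act 7 n53512 = n52388 := d42_1 D53512 (iv D52388) (iv F231546)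
def n53513 : Q := act 9 n51659
theorem D53513 : act 9 n51659 = n53513 := rfl
theorem F239943 : act 1 n53513 = n51663 := d16_1 D53513 (iv D51663) (iv F231542)
theorem F239944 : act 2 n53513 = n52543 := d23_1 D53513 (iv D52543) (iv F231543)
theorem F239945 : act 3 n53513 = n51660 := d29_1 D53513 (iv D51660) D51659
theorem F239946 : act 5 n53513 = n53513 := d38_1 D53513 (iv D53513) F231544
theorem F239947 : act 6 n53513 = n52477 := d41_1 D53513 (iv D52477) (iv F231545)
theorem F239948 : act 7 n53513 = n52389 := d43_1 D53513 (iv D52389) (iv F231546)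
def n53514 : Q := act 8 n51660
theorem D53514 : act 8 n51660 = n53514 := rfl
theorem F239949 : act 1 n53514 = n51664 := d15_1 D53514 (iv D51664) (iv F231547)
theorem F239950 : act 2 n53514 = n51673 := d22_1 D53514 (iv D51673) (iv F231548)
theorem F239951 : act 4 n53514 = n51661 := d33_1 D53514 (iv D51661) (iv F231549)
theorem F239952 : act 5 n53514 = n53514 := d37_1 D53514 (iv D53514) F231550
theorem F239953 : act 6 n53514 = n52478 := d40_1 D53514 (iv D52478) (iv F231551)
theorem F239954 : act 7 n53514 = n52390 := d42_1 D53514 (iv D52390) (iv F231552)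
theorem F239955 : act 9 n53514 = n53514 := d44_2 D51660 D53514 (iv D53514) (iv D51660) F222132
def n53515 : Q := act 3 n51661
theorem D53515 : act 3 n51661 = n53515 := rfl
theorem F239956 : act 1 n53515 = n51665 := d10_1 D53515 (iv D51665) (iv F231553)
theorem F239957 : act 2 n53515 = n52475 := d17_1 D53515 (iv D52475) F225772 (iv F222209) (iv F231554)
theorem F239958 : act 5 n53515 = n51669 := d25_2 (iv F231555) D53515 (iv D51669)
theorem F239959 : act 6 n53515 = n52479 := d26_2 (iv F231556) D53515 (iv D52479)
theorem F239960 : act 7 n53515 = n52391 := d27_2 (iv F231557) D53515 (iv D52391)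
theorem F239961 : act 9 n53515 = n53515 := d29_2 F231558 D53515 (iv D53515)
def n53516 : Q := act 9 n51662
theorem D53516 : act 9 n51662 = n53516 := rfl
theorem F239962 : act 2 n53516 = n51994 := d23_1 D53516 (iv D51994) (iv F231559)
theorem F239963 : act 3 n53516 = n53516 := d29_1 D53516 (iv D53516) F231560
theorem F239964 : act 5 n53516 = n53516 := d38_1 D53516 (iv D53516) F231561
theorem F239965 : act 6 n53516 = n52480 := d41_1 D53516 (iv D52480) (iv F231562)
def n53517 : Q := act 8 n51663
theorem D53517 : act 8 n51663 = n53517 := rfl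
theorem F239966 : act 2 n53517 = n51995 := d22_1 D53517 (iv D51995) (iv F231563)
theorem F239967 : act 5 n53517 = n53517 := d37_1 D53517 (iv D53517) F231565
theorem F239968 : act 6 n53517 = n52481 := d40_1 D53517 (iv D52481) (iv F231566)
def n53518 : Q := act 3 n51664
theorem D53518 : act 3 n51664 = n53518 := rfl
theorem F239969 : act 5 n53518 = n53518 := d25_2 F231569 D53518 (iv D53518)
theorem F239970 : act 6 n53518 = n52482 := d26_2 (iv F231570) D53518 (iv D52482)
theorem F239971 : act 9 n53518 = n53518 := d29_2 F231571 D53518 (iv D53518)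
def n53519 : Q := act 4 n51665
theorem D53519 : act 4 n51665 = n53519 := rfl
theorem F239972 : act 6 n53519 = n52483 := d31_2 (iv F231573) D53519 (iv D52483)
theorem F239973 : act 9 n53519 = n53519 := d34_2 F231574 D53519 (iv D53519)
def n53520 : Q := act 2 n51666
theorem D53520 : act 2 n51666 = n53520 := rfl
theorem F239974 : act 0 n53520 = n52713 := d1_1 D53520 F235637 (iv F231575)
theorem F239975 : act 1 n53520 = n52297 := d9_1 D53520 F234407 F225119 (iv F222223) (iv F231576)
theorem F239976 : act 4 n53520 = n52700 := d18_2 (iv F231577) D53520 F235584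
theorem F239977 : act 5 n53520 = n53520 := d19_2 F231578 D53520 (iv D53520)
theorem F239978 : act 6 n53520 = n52298 := d20_2 (iv F231579) D53520 F234412
theorem F239979 : act 8 n53520 = n51998 := d22_2 (iv F231580) D53520 (iv D51998)
theorem F239980 : act 9 n53520 = n53520 := d23_2 F231581 D53520 (iv D53520)
def n53521 : Q := act 5 n51670
theorem D53521 : act 5 n51670 = n53521 := rfl
theorem F239981 : act 3 n53521 = n53521 := d25_1 D53521 (iv D53521) F231597
theorem F239982 : act 9 n53521 = n53521 := d38_2 F231599 D53521 (iv D53521)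
def n53522 : Q := act 8 n51671
theorem D53522 : act 8 n51671 = n53522 := rfl
theorem F239983 : act 0 n53522 = n51673 := d7_1 D53522 (iv D51673) (iv F231600)
theorem F239984 : act 1 n53522 = n53522 := d15_1 D53522 (iv D53522) F231601
theorem F239985 : act 3 n53522 = n52010 := d28_1 D53522 (iv D52010) F223700 (iv F223628) (iv F231602)
theorem F239986 : act 4 n53522 = n51672 := d33_1 D53522 (iv D51672) (iv F231603)
theorem F239987 : act 5 n53522 = n53522 := d37_1 D53522 (iv D53522) F231604
theorem F239988 : act 6 n53522 = n52491 := d40_1 D53522 (iv D52491) (iv F231605)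
theorem F239989 : act 7 n53522 = n52004 := d42_1 D53522 (iv D52004) (iv F231606)
theorem F239990 : act 9 n53522 = n53522 := d44_2 D51671 D53522 (iv D53522) (iv D51671) F222195
def n53523 : Q := act 8 n51674
theorem D53523 : act 8 n51674 = n53523 := rfl
theorem F239991 : act 0 n53523 = n52131 := d7_1 D53523 F233722 (iv F231621)
theorem F239992 : act 1 n53523 = n53523 := d15_1 D53523 (iv D53523) F231622
theorem F239993 : act 2 n53523 = n51756 := d22_1 D53523 (iv D51756) (iv F231623)
theorem F239994 : act 3 n53523 = n52130 := d28_1 D53523 (iv D52130) F224466 D50555 (iv F231624)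
theorem F239995 : act 4 n53523 = n52490 := d33_1 D53523 (iv D52490) (iv F231625)
theorem F239996 : act 5 n53523 = n51676 := d37_1 D53523 (iv D51676) (iv F231626)
theorem F239997 : act 6 n53523 = n51675 := d40_1 D53523 (iv D51675) (iv F231627)
theorem F239998 : act 7 n53523 = n52491 := d42_1 D53523 (iv D52491) (iv F231628)
theorem F239999 : act 9 n53523 = n53523 := d44_2 D51674 D53523 (iv D53523) (iv D51674) F222261
def n53524 : Q := act 4 n51678
theorem D53524 : act 4 n51678 = n53524 := rfl
theorem F240000 : act 0 n53524 = n52261 := d3_1 D53524 F234262 (iv F231651)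
theorem F240001 : act 1 n53524 = n51690 := d11_1 D53524 (iv D51690) (iv F231652)
theorem F240002 : act 7 n53524 = n51681 := d32_2 (iv F231654) D53524 (iv D51681)
theorem F240003 : act 8 n53524 = n52512 := d33_2 (iv F231655) D53524 (iv D52512)
def n53525 : Q := act 9 n51678
theorem D53525 : act 9 n51678 = n53525 := rfl
theorem F240004 : act 0 n53525 = n52286 := d8_1 D53525 (iv D52286) (iv F231651)
theorem F240005 : act 1 n53525 = n51691 := d16_1 D53525 (iv D51691) (iv F231652)
theorem F240006 : act 3 n53525 = n51679 := d29_1 D53525 (iv D51679) D51678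
theorem F240007 : act 5 n53525 = n51684 := d38_1 D53525 (iv D51684) (iv F231653)
theorem F240008 : act 7 n53525 = n51682 := d43_1 D53525 (iv D51682) (iv F231654)
def n53526 : Q := act 4 n51680
theorem D53526 : act 4 n51680 = n53526 := rfl
theorem F240009 : act 0 n53526 = n52257 := d3_1 D53526 F234253 (iv F231662)
theorem F240010 : act 1 n53526 = n52032 := d11_1 D53526 F233254 (iv F231663)
theorem F240011 : act 2 n53526 = n51681 := d18_1 D53526 (iv D51681) D51680
theorem F240012 : act 5 n53526 = n52027 := d30_2 (iv F231665) D53526 (iv D52027) F223809 (iv F222332)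
theorem F240013 : act 6 n53526 = n52158 := d31_2 (iv F231666) D53526 F233839
theorem F240014 : act 8 n53526 = n52108 := d33_2 (iv F231667) D53526 (iv D52108)
theorem F240015 : act 3 n52630 = n53526 := d25_3 F240012 F233228 D52630
def n53527 : Q := act 9 n51680
theorem D53527 : act 9 n51680 = n53527 := rfl
theorem F240016 : act 0 n53527 = n52282 := d8_1 D53527 (iv D52282) (iv F231662)
theorem F240017 : act 1 n53527 = n52002 := d16_1 D53527 F233073 (iv F231663)
theorem F240018 : act 2 n53527 = n51682 := d23_1 D53527 (iv D51682) D51680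
theorem F240019 : act 3 n53527 = n53527 := d29_1 D53527 (iv D53527) F231664
theorem F240020 : act 5 n53527 = n51685 := d38_1 D53527 (iv D51685) (iv F231665)
theorem F240021 : act 6 n53527 = n52170 := d41_1 D53527 (iv D52170) (iv F231666)
def n53528 : Q := act 9 n51681
theorem D53528 : act 9 n51681 = n53528 := rfl
theorem F240022 : act 0 n53528 = n52262 := d8_1 D53528 (iv D52262) (iv F231668)
theorem F240023 : act 1 n53528 = n51693 := d16_1 D53528 (iv D51693) (iv F231669)
theorem F240024 : act 4 n53528 = n51682 := d34_1 D53528 (iv D51682) D51681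
theorem F240025 : act 6 n53528 = n52161 := d41_1 D53528 (iv D52161) (iv F231670)
def n53529 : Q := act 8 n51682
theorem D53529 : act 8 n51682 = n53529 := rfl
theorem F240026 : act 0 n53529 = n52287 := d7_1 D53529 (iv D52287) (iv F231672)
theorem F240027 : act 1 n53529 = n51694 := d15_1 D53529 (iv D51694) (iv F231673)
theorem F240028 : act 3 n53529 = n51777 := d28_1 D53529 (iv D51777) F222774 (iv F222316) (iv F231674)
theorem F240029 : act 5 n53529 = n51686 := d37_1 D53529 (iv D51686) (iv F231675)
theorem F240030 : act 6 n53529 = n52173 := d40_1 D53529 (iv D52173) (iv F231676)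
theorem F240031 : act 9 n53529 = n52524 := d44_2 D51682 D53529 (iv D52524) (iv D50522) (iv F222310)
def n53530 : Q := act 9 n51683
theorem D53530 : act 9 n51683 = n53530 := rfl
theorem F240032 : act 0 n53530 = n52293 := d8_1 D53530 (iv D52293) (iv F231677)
theorem F240033 : act 1 n53530 = n52001 := d16_1 D53530 F233069 (iv F231678)
theorem F240034 : act 2 n53530 = n51684 := d23_1 D53530 (iv D51684) D51683
theorem F240035 : act 3 n53530 = n53530 := d29_1 D53530 (iv D53530) F231679
theorem F240036 : act 4 n53530 = n52000 := d34_1 D53530 F233063 (iv F231680)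
theorem F240037 : act 6 n53530 = n53530 := d41_1 D53530 (iv D53530) F231681
theorem F240038 : act 7 n53530 = n51685 := d43_1 D53530 (iv D51685) (iv F231682)
def n53531 : Q := act 8 n51684
theorem D53531 : act 8 n51684 = n53531 := rfl
theorem F240039 : act 0 n53531 = n52296 := d7_1 D53531 (iv D52296) (iv F231684)
theorem F240040 : act 1 n53531 = n51696 := d15_1 D53531 (iv D51696) (iv F231685)
theorem F240041 : act 3 n53531 = n51779 := d28_1 D53531 (iv D51779) F222783 (iv F222328) (iv F231686)
theorem F240042 : act 6 n53531 = n53531 := d40_1 D53531 (iv D53531) F231687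
theorem F240043 : act 7 n53531 = n51686 := d42_1 D53531 (iv D51686) (iv F231688)
theorem F240044 : act 9 n53531 = n52533 := d44_2 D51684 D53531 (iv D52533) (iv D50530) (iv F222321)
def n53532 : Q := act 8 n51685
theorem D53532 : act 8 n51685 = n53532 := rfl
theorem F240045 : act 0 n53532 = n52294 := d7_1 D53532 (iv D52294) (iv F231689)
theorem F240046 : act 1 n53532 = n51951 := d15_1 D53532 F232839 (iv F231690)
theorem F240047 : act 2 n53532 = n51686 := d22_1 D53532 (iv D51686) (iv F231691)
theorem F240048 : act 4 n53532 = n51946 := d33_1 D53532 F232823 (iv F231693)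
theorem F240049 : act 6 n53532 = n51687 := d40_1 D53532 (iv D51687) (iv F231694)
theorem F240050 : act 9 n53532 = n52117 := d44_2 D51685 D53532 (iv D52117) (iv D50079) (iv F222334)
def n53533 : Q := act 3 n51687
theorem D53533 : act 3 n51687 = n53533 := rfl
theorem F240051 : act 0 n53533 = n52295 := d2_1 D53533 (iv D52295) (iv F231700)
theorem F240052 : act 1 n53533 = n51964 := d10_1 D53533 F232891 (iv F231701)
theorem F240053 : act 2 n53533 = n51781 := d17_1 D53533 (iv D51781) F222791 (iv F222348) (iv F231702)
theorem F240054 : act 4 n53533 = n51959 := d24_2 (iv F231703) D53533 (iv D51959) F223346 D49868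
theorem F240055 : act 5 n53533 = n52175 := d25_2 (iv F231704) D53533 (iv D52175)
theorem F240056 : act 7 n53533 = n53533 := d27_2 F231705 D53533 (iv D53533)
theorem F240057 : act 8 n53533 = n53533 := d28_2 D51687 D53533 (iv D53533) (iv D51687) F222342
theorem F240058 : act 9 n53533 = n52120 := d29_2 (iv F231706) D53533 (iv D52120)
def n53534 : Q := act 4 n51688
theorem D53534 : act 4 n51688 = n53534 := rfl
theorem F240059 : act 0 n53534 = n51722 := d3_1 D53534 (iv D51722) (iv F231707)
theorem F240060 : act 2 n53534 = n52499 := d18_1 D53534 (iv D52499) (iv F231708)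
theorem F240061 : act 6 n53534 = n51690 := d31_2 (iv F231710) D53534 (iv D51690)
theorem F240062 : act 7 n53534 = n52492 := d32_2 (iv F231711) D53534 (iv D52492)
theorem F240063 : act 8 n53534 = n52507 := d33_2 (iv F231712) D53534 (iv D52507)
def n53535 : Q := act 9 n51688
theorem D53535 : act 9 n51688 = n53535 := rfl
theorem F240064 : act 0 n53535 = n51723 := d8_1 D53535 (iv D51723) (iv F231707)
theorem F240065 : act 2 n53535 = n52500 := d23_1 D53535 (iv D52500) (iv F231708)
theorem F240066 : act 3 n53535 = n51689 := d29_1 D53535 (iv D51689) D51688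
theorem F240067 : act 5 n53535 = n53535 := d38_1 D53535 (iv D53535) F231709
theorem F240068 : act 6 n53535 = n51691 := d41_1 D53535 (iv D51691) (iv F231710)
theorem F240069 : act 7 n53535 = n52493 := d43_1 D53535 (iv D52493) (iv F231711)
def n53536 : Q := act 9 n51690
theorem D53536 : act 9 n51690 = n53536 := rfl
theorem F240070 : act 0 n53536 = n51727 := d8_1 D53536 (iv D51727) (iv F231719)
theorem F240071 : act 2 n53536 = n52501 := d23_1 D53536 (iv D52501) (iv F231720)
theorem F240072 : act 4 n53536 = n51691 := d34_1 D53536 (iv D51691) D51690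
theorem F240073 : act 7 n53536 = n51693 := d43_1 D53536 (iv D51693) (iv F231721)
def n53537 : Q := act 8 n51691
theorem D53537 : act 8 n51691 = n53537 := rfl
theorem F240074 : act 0 n53537 = n51728 := d7_1 D53537 (iv D51728) (iv F231723)
theorem F240075 : act 2 n53537 = n52502 := d22_1 D53537 (iv D52502) (iv F231724)
theorem F240076 : act 3 n53537 = n51807 := d28_1 D53537 (iv D51807) F222884 (iv F222366) (iv F231725)
theorem F240077 : act 5 n53537 = n51696 := d37_1 D53537 (iv D51696) (iv F231726)
theorem F240078 : act 7 n53537 = n51694 := d42_1 D53537 (iv D51694) (iv F231727)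
theorem F240079 : act 9 n53537 = n52517 := d44_2 D51691 D53537 (iv D52517) (iv D50517) (iv F222361)
def n53538 : Q := act 9 n51692
theorem D53538 : act 9 n51692 = n53538 := rfl
theorem F240080 : act 0 n53538 = n51736 := d8_1 D53538 (iv D51736) (iv F231728)
theorem F240081 : act 2 n53538 = n52503 := d23_1 D53538 (iv D52503) (iv F231729)
theorem F240082 : act 4 n53538 = n51697 := d34_1 D53538 (iv D51697) (iv F231730)
theorem F240083 : act 5 n53538 = n51693 := d38_1 D53538 (iv D51693) D51692
def n53539 : Q := act 8 n51693
theorem D53539 : act 8 n51693 = n53539 := rfl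
theorem F240084 : act 0 n53539 = n51737 := d7_1 D53539 (iv D51737) (iv F231732)
theorem F240085 : act 2 n53539 = n52504 := d22_1 D53539 (iv D52504) (iv F231733)
theorem F240086 : act 4 n53539 = n51694 := d33_1 D53539 (iv D51694) (iv F231734)
theorem F240087 : act 6 n53539 = n52496 := d40_1 D53539 (iv D52496) (iv F231735)
theorem F240088 : act 9 n53539 = n52528 := d44_2 D51693 D53539 (iv D52528) (iv D50525) (iv F222370)
def n53540 : Q := act 8 n51695
theorem D53540 : act 8 n51695 = n53540 := rfl
theorem F240089 : act 0 n53540 = n51740 := d7_1 D53540 (iv D51740) (iv F231742)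
theorem F240090 : act 2 n53540 = n52505 := d22_1 D53540 (iv D52505) (iv F231743)
theorem F240091 : act 4 n53540 = n51696 := d33_1 D53540 (iv D51696) (iv F231745)
theorem F240092 : act 6 n53540 = n53540 := d40_1 D53540 (iv D53540) F231746
theorem F240093 : act 7 n53540 = n51698 := d42_1 D53540 (iv D51698) (iv F231747)
theorem F240094 : act 9 n53540 = n52535 := d44_2 D51695 D53540 (iv D52535) (iv D50532) (iv F222381)
def n53541 : Q := act 8 n51697
theorem D53541 : act 8 n51697 = n53541 := rfl
theorem F240095 : act 0 n53541 = n51746 := d7_1 D53541 (iv D51746) (iv F231754)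
theorem F240096 : act 2 n53541 = n52506 := d22_1 D53541 (iv D52506) (iv F231755)
theorem F240097 : act 5 n53541 = n51698 := d37_1 D53541 (iv D51698) (iv F231757)
theorem F240098 : act 9 n53541 = n52540 := d44_2 D51697 D53541 (iv D52540) (iv D50540) (iv F222390)
def n53542 : Q := act 3 n51698
theorem D53542 : act 3 n51698 = n53542 := rfl
theorem F240099 : act 0 n53542 = n51747 := d2_1 D53542 (iv D51747) (iv F231758)
theorem F240100 : act 4 n53542 = n51826 := d24_2 (iv F231760) D53542 (iv D51826) F222955 (iv F222398)
theorem F240101 : act 6 n53542 = n51699 := d26_2 (iv F231761) D53542 (iv D51699)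
theorem F240102 : act 8 n53542 = n51702 := d28_2 D51698 D53542 (iv D51702) (iv D49647) (iv F222393)
theorem F240103 : act 9 n53542 = n52541 := d29_2 (iv F231762) D53542 (iv D52541)
def n53543 : Q := act 3 n51700
theorem D53543 : act 3 n51700 = n53543 := rfl
theorem F240104 : act 0 n53543 = n51754 := d2_1 D53543 (iv D51754) (iv F231768)
theorem F240105 : act 2 n53543 = n52769 := d17_1 D53543 (iv D52769) F227069 (iv F227065) (iv F231769)
theorem F240106 : act 4 n53543 = n51831 := d24_2 (iv F231770) D53543 (iv D51831) F222980 (iv F222412)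
theorem F240107 : act 6 n53543 = n53543 := d26_2 F231771 D53543 (iv D53543)
theorem F240108 : act 7 n53543 = n51702 := d27_2 (iv F231772) D53543 (iv D51702)
theorem F240109 : act 9 n53543 = n53543 := d29_2 F231773 D53543 (iv D53543)
def n53544 : Q := act 3 n51701
theorem D53544 : act 3 n51701 = n53544 := rfl
theorem F240110 : act 0 n53544 = n51757 := d2_1 D53544 (iv D51757) (iv F231774)
theorem F240111 : act 5 n53544 = n51702 := d25_2 (iv F231775) D53544 (iv D51702)
theorem F240112 : act 9 n53544 = n53544 := d29_2 F231776 D53544 (iv D53544)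
def n53545 : Q := act 4 n51703
theorem D53545 : act 4 n51703 = n53545 := rfl
theorem F240113 : act 0 n53545 = n52514 := d3_1 D53545 F235048 (iv F231781)
theorem F240114 : act 3 n53545 = n51710 := d24_1 D53545 (iv D51710) (iv D49654) (iv F222435) D51703
theorem F240115 : act 7 n53545 = n51706 := d32_2 (iv F231783) D53545 (iv D51706)
def n53546 : Q := act 9 n51703
theorem D53546 : act 9 n51703 = n53546 := rfl
theorem F240116 : act 0 n53546 = n52543 := d8_1 D53546 (iv D52543) (iv F231781)
theorem F240117 : act 3 n53546 = n51704 := d29_1 D53546 (iv D51704) D51703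
theorem F240118 : act 5 n53546 = n53546 := d38_1 D53546 (iv D53546) F231782
theorem F240119 : act 7 n53546 = n51707 := d43_1 D53546 (iv D51707) (iv F231783)
def n53547 : Q := act 4 n51705
theorem D53547 : act 4 n51705 = n53547 := rfl
theorem F240120 : act 0 n53547 = n52373 := d3_1 D53547 F234674 (iv F231790)
theorem F240121 : act 2 n53547 = n51706 := d18_1 D53547 (iv D51706) D51705
theorem F240122 : act 3 n53547 = n52351 := d24_1 D53547 (iv D52351) F225403 (iv F222621) (iv F231791)
theorem F240123 : act 6 n53547 = n51726 := d31_2 (iv F231793) D53547 F231895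
def n53548 : Q := act 9 n51705
theorem D53548 : act 9 n51705 = n53548 := rfl
theorem F240124 : act 0 n53548 = n52389 := d8_1 D53548 (iv D52389) (iv F231790)
theorem F240125 : act 2 n53548 = n51707 := d23_1 D53548 (iv D51707) D51705
theorem F240126 : act 3 n53548 = n51752 := d29_1 D53548 (iv D51752) (iv F231791)
theorem F240127 : act 5 n53548 = n53548 := d38_1 D53548 (iv D53548) F231792
theorem F240128 : act 6 n53548 = n51739 := d41_1 D53548 (iv D51739) (iv F231793)
def n53549 : Q := act 5 n51706
theorem D53549 : act 5 n51706 = n53549 := rfl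
theorem F240129 : act 0 n53549 = n52525 := d4_1 D53549 (iv D52525) (iv F231794)
theorem F240130 : act 3 n53549 = n51712 := d25_1 D53549 (iv D51712) (iv F231795)
theorem F240131 : act 4 n53549 = n53549 := d30_1 D53549 (iv D53549) (iv D51706) F222439 D51706
def n53550 : Q := act 9 n51706
theorem D53550 : act 9 n51706 = n53550 := rfl
theorem F240132 : act 0 n53550 = n52526 := d8_1 D53550 (iv D52526) (iv F231794)
theorem F240133 : act 3 n53550 = n51713 := d29_1 D53550 (iv D51713) (iv F231795)
theorem F240134 : act 4 n53550 = n51707 := d34_1 D53550 (iv D51707) D51706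
theorem F240135 : act 6 n53550 = n52497 := d41_1 D53550 (iv D52497) (iv F231796)
def n53551 : Q := act 8 n51707
theorem D53551 : act 8 n51707 = n53551 := rfl
theorem F240136 : act 0 n53551 = n52545 := d7_1 D53551 (iv D52545) (iv F231797)
theorem F240137 : act 3 n53551 = n51855 := d28_1 D53551 (iv D51855) F223084 (iv F222446) (iv F231798)
theorem F240138 : act 5 n53551 = n53551 := d37_1 D53551 (iv D53551) F231799
theorem F240139 : act 6 n53551 = n52498 := d40_1 D53551 (iv D52498) (iv F231800)
def n53552 : Q := act 4 n51708
theorem D53552 : act 4 n51708 = n53552 := rfl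
theorem F240140 : act 0 n53552 = n52507 := d3_1 D53552 (iv D52507) (iv F231801)
theorem F240141 : act 2 n53552 = n52492 := d18_1 D53552 (iv D52492) (iv F231802)
theorem F240142 : act 6 n53552 = n51710 := d31_2 (iv F231804) D53552 (iv D51710)
theorem F240143 : act 7 n53552 = n52499 := d32_2 (iv F231805) D53552 (iv D52499)
theorem F240144 : act 8 n53552 = n51722 := d33_2 (iv F231806) D53552 (iv D51722)
def n53553 : Q := act 9 n51708
theorem D53553 : act 9 n51708 = n53553 := rfl
theorem F240145 : act 0 n53553 = n52508 := d8_1 D53553 (iv D52508) (iv F231801)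
theorem F240146 : act 2 n53553 = n52493 := d23_1 D53553 (iv D52493) (iv F231802)
theorem F240147 : act 3 n53553 = n51709 := d29_1 D53553 (iv D51709) D51708
theorem F240148 : act 5 n53553 = n53553 := d38_1 D53553 (iv D53553) F231803
theorem F240149 : act 6 n53553 = n51711 := d41_1 D53553 (iv D51711) (iv F231804)
theorem F240150 : act 7 n53553 = n52500 := d43_1 D53553 (iv D52500) (iv F231805)
def n53554 : Q := act 5 n51710
theorem D53554 : act 5 n51710 = n53554 := rfl
theorem F240151 : act 0 n53554 = n52515 := d4_1 D53554 (iv D52515) (iv F231813)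
theorem F240152 : act 2 n53554 = n52133 := d19_1 D53554 F233734 (iv F231814)
theorem F240153 : act 4 n53554 = n51715 := d30_1 D53554 (iv D51715) (iv D49658) (iv F222454) D51710
theorem F240154 : act 7 n53554 = n51712 := d36_2 (iv F231815) D53554 (iv D51712)
theorem F240155 : act 8 n53554 = n51726 := d37_2 (iv F231816) D53554 (iv D51726)
def n53555 : Q := act 9 n51710
theorem D53555 : act 9 n51710 = n53555 := rfl
theorem F240156 : act 0 n53555 = n52516 := d8_1 D53555 (iv D52516) (iv F231813)
theorem F240157 : act 2 n53555 = n52494 := d23_1 D53555 (iv D52494) (iv F231814)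
theorem F240158 : act 4 n53555 = n51711 := d34_1 D53555 (iv D51711) D51710
theorem F240159 : act 7 n53555 = n51713 := d43_1 D53555 (iv D51713) (iv F231815)
def n53556 : Q := act 8 n51711
theorem D53556 : act 8 n51711 = n53556 := rfl
theorem F240160 : act 0 n53556 = n52517 := d7_1 D53556 (iv D52517) (iv F231817)
theorem F240161 : act 2 n53556 = n52495 := d22_1 D53556 (iv D52495) (iv F231818)
theorem F240162 : act 3 n53556 = n51864 := d28_1 D53556 (iv D51864) F223102 (iv F222461) (iv F231819)
theorem F240163 : act 5 n53556 = n51717 := d37_1 D53556 (iv D51717) (iv F231820)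
theorem F240164 : act 7 n53556 = n51714 := d42_1 D53556 (iv D51714) (iv F231821)
theorem F240165 : act 9 n53556 = n51728 := d44_2 D51711 D53556 (iv D51728) (iv D49668) (iv F222456)
def n53557 : Q := act 9 n51712
theorem D53557 : act 9 n51712 = n53557 := rfl
theorem F240166 : act 0 n53557 = n52527 := d8_1 D53557 (iv D52527) (iv F231822)
theorem F240167 : act 2 n53557 = n52135 := d23_1 D53557 (iv D52135) (iv F231823)
theorem F240168 : act 4 n53557 = n51718 := d34_1 D53557 (iv D51718) (iv F231824)
theorem F240169 : act 5 n53557 = n51713 := d38_1 D53557 (iv D51713) D51712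
def n53558 : Q := act 8 n51713
theorem D53558 : act 8 n51713 = n53558 := rfl
theorem F240170 : act 0 n53558 = n52528 := d7_1 D53558 (iv D52528) (iv F231826)
theorem F240171 : act 2 n53558 = n52496 := d22_1 D53558 (iv D52496) (iv F231827)
theorem F240172 : act 4 n53558 = n51714 := d33_1 D53558 (iv D51714) (iv F231828)
theorem F240173 : act 6 n53558 = n52504 := d40_1 D53558 (iv D52504) (iv F231829)
theorem F240174 : act 9 n53558 = n51737 := d44_2 D51713 D53558 (iv D51737) (iv D49673) (iv F222465)
def n53559 : Q := act 9 n51715
theorem D53559 : act 9 n51715 = n53559 := rfl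
theorem F240175 : act 0 n53559 = n52534 := d8_1 D53559 (iv D52534) (iv F231836)
theorem F240176 : act 2 n53559 = n52134 := d23_1 D53559 (iv D52134) (iv F231837)
theorem F240177 : act 3 n53559 = n53559 := d29_1 D53559 (iv D53559) F231838
theorem F240178 : act 5 n53559 = n51716 := d38_1 D53559 (iv D51716) D51715
theorem F240179 : act 7 n53559 = n51718 := d43_1 D53559 (iv D51718) (iv F231839)
def n53560 : Q := act 8 n51716
theorem D53560 : act 8 n51716 = n53560 := rfl
theorem F240180 : act 0 n53560 = n52535 := d7_1 D53560 (iv D52535) (iv F231841)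
theorem F240181 : act 2 n53560 = n52137 := d22_1 D53560 (iv D52137) (iv F231842)
theorem F240182 : act 4 n53560 = n51717 := d33_1 D53560 (iv D51717) (iv F231844)
theorem F240183 : act 6 n53560 = n53560 := d40_1 D53560 (iv D53560) F231845
theorem F240184 : act 7 n53560 = n51719 := d42_1 D53560 (iv D51719) (iv F231846)
theorem F240185 : act 9 n53560 = n51740 := d44_2 D51716 D53560 (iv D51740) (iv D49677) (iv F222476)
def n53561 : Q := act 8 n51718
theorem D53561 : act 8 n51718 = n53561 := rfl
theorem F240186 : act 0 n53561 = n52540 := d7_1 D53561 (iv D52540) (iv F231853)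
theorem F240187 : act 2 n53561 = n52136 := d22_1 D53561 (iv D52136) (iv F231854)
theorem F240188 : act 5 n53561 = n51719 := d37_1 D53561 (iv D51719) (iv F231856)
theorem F240189 : act 9 n53561 = n51746 := d44_2 D51718 D53561 (iv D51746) (iv D49684) (iv F222485)
def n53562 : Q := act 3 n51719
theorem D53562 : act 3 n51719 = n53562 := rfl
theorem F240190 : act 0 n53562 = n52541 := d2_1 D53562 (iv D52541) (iv F231857)
theorem F240191 : act 2 n53562 = n52284 := d17_1 D53562 (iv D52284) F225049 (iv F224533) (iv F231858)
theorem F240192 : act 4 n53562 = n51888 := d24_2 (iv F231859) D53562 (iv D51888) F223173 (iv F222493)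
theorem F240193 : act 6 n53562 = n51720 := d26_2 (iv F231860) D53562 (iv D51720)
theorem F240194 : act 8 n53562 = n53562 := d28_2 D51719 D53562 (iv D53562) (iv D51719) F222488
theorem F240195 : act 9 n53562 = n51747 := d29_2 (iv F231861) D53562 (iv D51747)
def n53563 : Q := act 4 n51721
theorem D53563 : act 4 n51721 = n53563 := rfl
theorem F240196 : act 0 n53563 = n52499 := d3_1 D53563 (iv D52499) (iv F231868)
theorem F240197 : act 1 n53563 = n51785 := d11_1 D53563 (iv D51785) F231874
theorem F240198 : act 2 n53563 = n51722 := d18_1 D53563 (iv D51722) D51721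
theorem F240199 : act 3 n53563 = n51765 := d24_1 D53563 (iv D51765) (iv D49712) (iv F222672) (iv F231869)
theorem F240200 : act 6 n53563 = n51724 := d31_2 (iv F231871) D53563 (iv D51724)
theorem F240201 : act 7 n53563 = n52507 := d32_2 (iv F231872) D53563 (iv D52507)
theorem F240202 : act 8 n53563 = n52492 := d33_2 (iv F231873) D53563 (iv D52492)
def n53564 : Q := act 9 n51721
theorem D53564 : act 9 n51721 = n53564 := rfl
theorem F240203 : act 0 n53564 = n52500 := d8_1 D53564 (iv D52500) (iv F231868)
theorem F240204 : act 1 n53564 = n51786 := d16_1 D53564 (iv D51786) F231874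
theorem F240205 : act 2 n53564 = n51723 := d23_1 D53564 (iv D51723) D51721
theorem F240206 : act 3 n53564 = n51761 := d29_1 D53564 (iv D51761) (iv F231869)
theorem F240207 : act 5 n53564 = n53564 := d38_1 D53564 (iv D53564) F231870
theorem F240208 : act 6 n53564 = n51725 := d41_1 D53564 (iv D51725) (iv F231871)
theorem F240209 : act 7 n53564 = n52508 := d43_1 D53564 (iv D52508) (iv F231872)
def n53565 : Q := act 5 n51722
theorem D53565 : act 5 n51722 = n53565 := rfl
theorem F240210 : act 1 n53565 = n52417 := d12_1 D53565 F236727 F236722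
theorem F240211 : act 3 n53565 = n52415 := d25_1 D53565 (iv F238912) F238911
theorem F240212 : act 4 n53565 = n53565 := d30_1 D53565 (iv D53565) (iv D51722) F222501 D51722
theorem F240213 : act 7 n53565 = n52509 := d36_2 (iv F231876) D53565 (iv D52509)
def n53566 : Q := act 9 n51722
theorem D53566 : act 9 n51722 = n53566 := rfl
theorem F240214 : act 4 n53566 = n51723 := d34_1 D53566 (iv D51723) D51722
theorem F240215 : act 6 n53566 = n51727 := d41_1 D53566 (iv D51727) (iv F231875)
theorem F240216 : act 7 n53566 = n52510 := d43_1 D53566 (iv D52510) (iv F231876)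
def n53567 : Q := act 8 n51723
theorem D53567 : act 8 n51723 = n53567 := rfl
theorem F240217 : act 3 n53567 = n51902 := d28_1 D53567 (iv D51902) F223219 (iv F222508) (iv F231877)
theorem F240218 : act 5 n53567 = n53567 := d37_1 D53567 (iv D53567) F231878
theorem F240219 : act 6 n53567 = n51728 := d40_1 D53567 (iv D51728) (iv F231879)
theorem F240220 : act 7 n53567 = n52511 := d42_1 D53567 (iv D52511) (iv F231880)
def n53568 : Q := act 9 n51724
theorem D53568 : act 9 n51724 = n53568 := rfl
theorem F240221 : act 0 n53568 = n52501 := d8_1 D53568 (iv D52501) (iv F231881)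
theorem F240222 : act 1 n53568 = n52548 := d16_1 D53568 (iv D52548) (iv F231882)
theorem F240223 : act 2 n53568 = n51727 := d23_1 D53568 (iv D51727) (iv F231883)
theorem F240224 : act 3 n53568 = n52503 := d29_1 D53568 (iv D52503) (iv F231884)
theorem F240225 : act 4 n53568 = n51725 := d34_1 D53568 (iv D51725) D51724
theorem F240226 : act 5 n53568 = n52497 := d38_1 D53568 (iv D52497) (iv F231885)
theorem F240227 : act 7 n53568 = n51733 := d43_1 D53568 (iv D51733) (iv F231886)
def n53569 : Q := act 8 n51725
theorem D53569 : act 8 n51725 = n53569 := rfl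
theorem F240228 : act 0 n53569 = n52502 := d7_1 D53569 (iv D52502) (iv F231888)
theorem F240229 : act 1 n53569 = n52549 := d15_1 D53569 (iv D52549) (iv F231889)
theorem F240230 : act 2 n53569 = n51728 := d22_1 D53569 (iv D51728) (iv F231890)
theorem F240231 : act 3 n53569 = n52551 := d28_1 D53569 (iv D52551) F226099 (iv F222691) (iv F231891)
theorem F240232 : act 5 n53569 = n51738 := d37_1 D53569 (iv D51738) (iv F231892)
theorem F240233 : act 7 n53569 = n51734 := d42_1 D53569 (iv D51734) (iv F231893)
theorem F240234 : act 9 n53569 = n52495 := d44_2 D51725 D53569 (iv D52495) (iv D50495) (iv F222513)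
def n53570 : Q := act 9 n51726
theorem D53570 : act 9 n51726 = n53570 := rfl
theorem F240235 : act 2 n53570 = n52497 := d23_1 D53570 (iv D52497) (iv F231894)
theorem F240236 : act 4 n53570 = n51739 := d34_1 D53570 (iv D51739) (iv F231895)
theorem F240237 : act 5 n53570 = n51727 := d38_1 D53570 (iv D51727) D51726
theorem F240238 : act 7 n53570 = n51736 := d43_1 D53570 (iv D51736) (iv F231896)
def n53571 : Q := act 8 n51727
theorem D53571 : act 8 n51727 = n53571 := rfl
theorem F240239 : act 4 n53571 = n51728 := d33_1 D53571 (iv D51728) (iv F231897)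
theorem F240240 : act 7 n53571 = n51737 := d42_1 D53571 (iv D51737) (iv F231898)
def n53572 : Q := act 9 n51729
theorem D53572 : act 9 n51729 = n53572 := rfl
theorem F240241 : act 0 n53572 = n52219 := d8_1 D53572 (iv D52219) (iv F231902)
theorem F240242 : act 1 n53572 = n51733 := d16_1 D53572 (iv D51733) (iv F231903)
theorem F240243 : act 3 n53572 = n52550 := d29_1 D53572 (iv D52550) (iv F231904)
theorem F240244 : act 4 n53572 = n51730 := d34_1 D53572 (iv D51730) D51729
theorem F240245 : act 5 n53572 = n52140 := d38_1 D53572 (iv D52140) (iv F231905)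
theorem F240246 : act 6 n53572 = n52523 := d41_1 D53572 (iv D52523) (iv F231906)
theorem F240247 : act 7 n53572 = n52548 := d43_1 D53572 (iv D52548) (iv F231907)
def n53573 : Q := act 8 n51730
theorem D53573 : act 8 n51730 = n53573 := rfl
theorem F240248 : act 0 n53573 = n52230 := d7_1 D53573 (iv D52230) (iv F231909)
theorem F240249 : act 1 n53573 = n51734 := d15_1 D53573 (iv D51734) (iv F231910)
theorem F240250 : act 3 n53573 = n52506 := d28_1 D53573 (iv D52506) F225931 (iv F222707) (iv F231911)
theorem F240251 : act 5 n53573 = n51741 := d37_1 D53573 (iv D51741) (iv F231912)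
theorem F240252 : act 6 n53573 = n52524 := d40_1 D53573 (iv D52524) (iv F231913)
theorem F240253 : act 7 n53573 = n52549 := d42_1 D53573 (iv D52549) (iv F231914)
theorem F240254 : act 9 n53573 = n52173 := d44_2 D51730 D53573 (iv D52173) (iv D50139) (iv F222524)
def n53574 : Q := act 9 n51731
theorem D53574 : act 9 n51731 = n53574 := rfl
theorem F240255 : act 0 n53574 = n52497 := d8_1 D53574 (iv D52497) (iv F231915)
theorem F240256 : act 1 n53574 = n52550 := d16_1 D53574 (iv D52550) (iv F231916)
theorem F240257 : act 3 n53574 = n51733 := d29_1 D53574 (iv D51733) D51731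
theorem F240258 : act 4 n53574 = n51762 := d34_1 D53574 (iv D51762) (iv F231917)
theorem F240259 : act 5 n53574 = n52501 := d38_1 D53574 (iv D52501) F231920
theorem F240260 : act 6 n53574 = n52526 := d41_1 D53574 (iv D52526) (iv F231918)
theorem F240261 : act 7 n53574 = n52503 := d43_1 D53574 (iv D52503) (iv F231919)
def n53575 : Q := act 9 n51732
theorem D53575 : act 9 n51732 = n53575 := rfl
theorem F240262 : act 0 n53575 = n52503 := d8_1 D53575 (iv D52503) (iv F231922)
theorem F240263 : act 1 n53575 = n52140 := d16_1 D53575 (iv D52140) (iv F231923)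
theorem F240264 : act 2 n53575 = n51736 := d23_1 D53575 (iv D51736) (iv F231924)
theorem F240265 : act 3 n53575 = n52501 := d29_1 D53575 (iv D52501) (iv F231925)
theorem F240266 : act 4 n53575 = n51742 := d34_1 D53575 (iv D51742) (iv F231926)
theorem F240267 : act 5 n53575 = n51733 := d38_1 D53575 (iv D51733) D51732
theorem F240268 : act 7 n53575 = n52497 := d43_1 D53575 (iv D52497) (iv F231927)
def n53576 : Q := act 8 n51733
theorem D53576 : act 8 n51733 = n53576 := rfl
theorem F240269 : act 0 n53576 = n52504 := d7_1 D53576 (iv D52504) (iv F231929)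
theorem F240270 : act 2 n53576 = n51737 := d22_1 D53576 (iv D51737) (iv F231930)
theorem F240271 : act 4 n53576 = n51734 := d33_1 D53576 (iv D51734) (iv F231931)
theorem F240272 : act 6 n53576 = n52528 := d40_1 D53576 (iv D52528) (iv F231932)
theorem F240273 : act 9 n53576 = n52496 := d44_2 D51733 D53576 (iv D52496) (iv D50496) (iv F222528)
def n53577 : Q := act 7 n51735
theorem D53577 : act 7 n51735 = n53577 := rfl
theorem F240274 : act 0 n53577 = n52438 := d6_1 D53577 (iv F237107) F237101
theorem F240275 : act 1 n53577 = n51805 := d14_1 D53577 F232267 (iv F231939)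
theorem F240276 : act 3 n53577 = n52436 := d27_1 D53577 F238956 F238953
theorem F240277 : act 4 n53577 = n51744 := d32_1 D53577 (iv D51744) (iv F231940)
theorem F240278 : act 5 n53577 = n51772 := d36_1 D53577 F232113 (iv F231941)
def n53578 : Q := act 9 n51735
theorem D53578 : act 9 n51735 = n53578 := rfl
theorem F240279 : act 1 n53578 = n51814 := d16_1 D53578 (iv D51814) (iv F231939)
theorem F240280 : act 4 n53578 = n51745 := d34_1 D53578 (iv D51745) (iv F231940)
theorem F240281 : act 5 n53578 = n51776 := d38_1 D53578 (iv D51776) (iv F231941)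
theorem F240282 : act 6 n53578 = n51736 := d41_1 D53578 (iv D51736) D51735
def n53579 : Q := act 8 n51736
theorem D53579 : act 8 n51736 = n53579 := rfl
theorem F240283 : act 4 n53579 = n51746 := d33_1 D53579 (iv D51746) (iv F231942)
theorem F240284 : act 5 n53579 = n51737 := d37_1 D53579 (iv D51737) (iv F231943)
def n53580 : Q := act 3 n51737
theorem D53580 : act 3 n51737 = n53580 := rfl
theorem F240285 : act 4 n53580 = n51929 := d24_2 (iv F231944) D53580 (iv D51929) F223261 (iv F222537)
theorem F240286 : act 6 n53580 = n52530 := d26_2 (iv F231945) D53580 (iv D52530)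
def n53581 : Q := act 8 n51739
theorem D53581 : act 8 n51739 = n53581 := rfl
theorem F240287 : act 2 n53581 = n52498 := d22_1 D53581 (iv D52498) (iv F231954)
theorem F240288 : act 5 n53581 = n51740 := d37_1 D53581 (iv D51740) (iv F231956)
theorem F240289 : act 7 n53581 = n51746 := d42_1 D53581 (iv D51746) (iv F231957)
def n53582 : Q := act 3 n51740
theorem D53582 : act 3 n51740 = n53582 := rfl
theorem F240290 : act 2 n53582 = n52768 := d17_1 D53582 (iv D52768) F227059 (iv F227048) (iv F231958)
theorem F240291 : act 4 n53582 = n51941 := d24_2 (iv F231959) D53582 (iv D51941) F223293 (iv F222555)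
theorem F240292 : act 6 n53582 = n53582 := d26_2 F231960 D53582 (iv D53582)
theorem F240293 : act 7 n53582 = n51747 := d27_2 (iv F231961) D53582 (iv D51747)
theorem F240294 : act 8 n53582 = n51754 := d28_2 D51740 D53582 (iv D51754) (iv D49694) (iv F222551)
def n53583 : Q := act 8 n51742
theorem D53583 : act 8 n51742 = n53583 := rfl
theorem F240295 : act 0 n53583 = n52506 := d7_1 D53583 (iv D52506) (iv F231969)
theorem F240296 : act 1 n53583 = n52141 := d15_1 D53583 (iv D52141) (iv F231970)
theorem F240297 : act 2 n53583 = n51746 := d22_1 D53583 (iv D51746) (iv F231971)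
theorem F240298 : act 3 n53583 = n52230 := d28_1 D53583 (iv D52230) F224893 (iv F224505) (iv F231972)
theorem F240299 : act 5 n53583 = n51743 := d37_1 D53583 (iv D51743) (iv F231973)
theorem F240300 : act 7 n53583 = n52498 := d42_1 D53583 (iv D52498) (iv F231974)
theorem F240301 : act 9 n53583 = n52136 := d44_2 D51742 D53583 (iv D52136) (iv D50107) (iv F222569)
def n53584 : Q := act 9 n51744
theorem D53584 : act 9 n51744 = n53584 := rfl
theorem F240302 : act 0 n53584 = n52477 := d8_1 D53584 (iv D52477) (iv F231983)
theorem F240303 : act 1 n53584 = n51820 := d16_1 D53584 (iv D51820) (iv F231984)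
theorem F240304 : act 3 n53584 = n51755 := d29_1 D53584 (iv D51755) (iv F231985)
theorem F240305 : act 5 n53584 = n51748 := d38_1 D53584 (iv D51748) (iv F231986)
theorem F240306 : act 7 n53584 = n51745 := d43_1 D53584 (iv D51745) D51744
def n53585 : Q := act 8 n51745
theorem D53585 : act 8 n51745 = n53585 := rfl
theorem F240307 : act 1 n53585 = n51825 := d15_1 D53585 (iv D51825) (iv F231987)
theorem F240308 : act 5 n53585 = n51749 := d37_1 D53585 (iv D51749) (iv F231989)
theorem F240309 : act 6 n53585 = n51746 := d40_1 D53585 (iv D51746) (iv F231990)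
def n53586 : Q := act 3 n51746
theorem D53586 : act 3 n51746 = n53586 := rfl
theorem F240310 : act 5 n53586 = n51747 := d25_2 (iv F231991) D53586 (iv D51747)
theorem F240311 : act 8 n53586 = n51757 := d28_2 D51746 D53586 (iv D51757) (iv D49697) (iv F222585)
def n53587 : Q := act 2 n51747
theorem D53587 : act 2 n51747 = n53587 := rfl
theorem F240312 : act 3 n53587 = n52227 := d17_2 D51747 D53587 F234151 (iv F231978) F231977
theorem F240313 : act 4 n53587 = n51955 := d18_2 (iv F231992) D53587 (iv D51955)
theorem F240314 : act 6 n53587 = n51751 := d20_2 (iv F231993) D53587 (iv D51751)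
theorem F240315 : act 7 n53587 = n52768 := d21_2 F240293 D53587 (iv F240290)
theorem F240316 : act 8 n53587 = n51758 := d22_2 (iv F231994) D53587 (iv D51758)
theorem F240317 : act 9 n53587 = n52284 := d23_2 F240195 D53587 (iv F240191)
def n53588 : Q := act 8 n51748
theorem D53588 : act 8 n51748 = n53588 := rfl
theorem F240318 : act 0 n53588 = n52722 := d7_1 D53588 (iv D52722) (iv F231995)
theorem F240319 : act 1 n53588 = n51821 := d15_1 D53588 (iv D51821) (iv F231996)
theorem F240320 : act 4 n53588 = n51779 := d33_1 D53588 (iv D51779) (iv F231998)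
theorem F240321 : act 6 n53588 = n53588 := d40_1 D53588 (iv D53588) F231999
theorem F240322 : act 7 n53588 = n51749 := d42_1 D53588 (iv D51749) (iv F232000)
def n53589 : Q := act 3 n51749
theorem D53589 : act 3 n51749 = n53589 := rfl
theorem F240323 : act 1 n53589 = n51826 := d10_1 D53589 (iv D51826) (iv F232001)
theorem F240324 : act 6 n53589 = n51750 := d26_2 (iv F232003) D53589 (iv D51750)
theorem F240325 : act 8 n53589 = n51760 := d28_2 D51749 D53589 (iv D51760) (iv D49700) (iv F222609)
def n53590 : Q := act 8 n51752
theorem D53590 : act 8 n51752 = n53590 := rfl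
theorem F240326 : act 0 n53590 = n52390 := d7_1 D53590 (iv D52390) (iv F232013)
theorem F240327 : act 2 n53590 = n52004 := d22_1 D53590 (iv D52004) (iv F232014)
theorem F240328 : act 4 n53590 = n52359 := d33_1 D53590 (iv D52359) (iv F232015)
theorem F240329 : act 5 n53590 = n53590 := d37_1 D53590 (iv D53590) F232016
theorem F240330 : act 6 n53590 = n51753 := d40_1 D53590 (iv D51753) (iv F232017)
theorem F240331 : act 9 n53590 = n53590 := d44_2 D51752 D53590 (iv D53590) (iv D51752) F222623
def n53591 : Q := act 3 n51753
theorem D53591 : act 3 n51753 = n53591 := rfl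
theorem F240332 : act 2 n53591 = n52714 := d17_1 D53591 (iv D52714) F226608 (iv F226557) (iv F232018)
theorem F240333 : act 5 n53591 = n51754 := d25_2 (iv F232019) D53591 (iv D51754)
theorem F240334 : act 7 n53591 = n51757 := d27_2 (iv F232020) D53591 (iv D51757)
theorem F240335 : act 9 n53591 = n53591 := d29_2 F232021 D53591 (iv D53591)
def n53592 : Q := act 8 n51755
theorem D53592 : act 8 n51755 = n53592 := rfl
theorem F240336 : act 0 n53592 = n52478 := d7_1 D53592 (iv D52478) (iv F232027)
theorem F240337 : act 1 n53592 = n51830 := d15_1 D53592 (iv D51830) (iv F232028)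
theorem F240338 : act 2 n53592 = n52491 := d22_1 D53592 (iv D52491) (iv F232029)
theorem F240339 : act 4 n53592 = n52476 := d33_1 D53592 (iv D52476) (iv F232030)
theorem F240340 : act 5 n53592 = n51759 := d37_1 D53592 (iv D51759) (iv F232031)
theorem F240341 : act 7 n53592 = n51756 := d42_1 D53592 (iv D51756) (iv F232032)
theorem F240342 : act 9 n53592 = n53592 := d44_2 D51755 D53592 (iv D53592) (iv D51755) F222637
def n53593 : Q := act 3 n51756
theorem D53593 : act 3 n51756 = n53593 := rfl
theorem F240343 : act 1 n53593 = n51832 := d10_1 D53593 (iv D51832) (iv F232033)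
theorem F240344 : act 5 n53593 = n51760 := d25_2 (iv F232034) D53593 (iv D51760)
theorem F240345 : act 6 n53593 = n51757 := d26_2 (iv F232035) D53593 (iv D51757)
theorem F240346 : act 9 n53593 = n53593 := d29_2 F232036 D53593 (iv D53593)
def n53594 : Q := act 2 n51757
theorem D53594 : act 2 n51757 = n53594 := rfl
theorem F240347 : act 3 n53594 = n52705 := d17_2 D51757 D53594 F235607 (iv F231631) F231630
theorem F240348 : act 5 n53594 = n51758 := d19_2 (iv F232037) D53594 (iv D51758)
theorem F240349 : act 7 n53594 = n52714 := d21_2 F240334 D53594 (iv F240332)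
theorem F240350 : act 9 n53594 = n53594 := d23_2 F232038 D53594 (iv D53594)
def n53595 : Q := act 4 n51757
theorem D53595 : act 4 n51757 = n53595 := rfl
theorem F240351 : act 5 n53595 = n51976 := d30_2 (iv F232037) D53595 (iv D51976) F223404 (iv F222643)
theorem F240352 : act 9 n53595 = n53595 := d34_2 F232038 D53595 (iv D53595)
def n53596 : Q := act 3 n51759
theorem D53596 : act 3 n51759 = n53596 := rfl
theorem F240353 : act 0 n53596 = n52723 := d2_1 D53596 (iv D52723) (iv F232044)
theorem F240354 : act 1 n53596 = n51831 := d10_1 D53596 (iv D51831) (iv F232045)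
theorem F240355 : act 6 n53596 = n53596 := d26_2 F232048 D53596 (iv D53596)
theorem F240356 : act 7 n53596 = n51760 := d27_2 (iv F232049) D53596 (iv D51760)
theorem F240357 : act 9 n53596 = n53596 := d29_2 F232050 D53596 (iv D53596)
def n53597 : Q := act 8 n51762
theorem D53597 : act 8 n51762 = n53597 := rfl
theorem F240358 : act 0 n53597 = n52498 := d7_1 D53597 (iv D52498) (iv F232062)
theorem F240359 : act 1 n53597 = n52551 := d15_1 D53597 (iv D52551) (iv F232063)
theorem F240360 : act 3 n53597 = n52549 := d28_1 D53597 (iv D52549) F226093 (iv F222721) (iv F232064)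
theorem F240361 : act 5 n53597 = n52505 := d37_1 D53597 (iv D52505) (iv F232065)
theorem F240362 : act 6 n53597 = n52545 := d40_1 D53597 (iv D52545) (iv F232066)
theorem F240363 : act 7 n53597 = n52506 := d42_1 D53597 (iv D52506) (iv F232067)
theorem F240364 : act 9 n53597 = n52537 := d44_2 D51762 D53597 (iv D52537) (iv D50535) (iv F222713)
def n53598 : Q := act 4 n51763
theorem D53598 : act 4 n51763 = n53598 := rfl
theorem F240365 : act 1 n53598 = n51789 := d11_1 D53598 (iv D51789) (iv F232068)
theorem F240366 : act 2 n53598 = n52438 := d18_1 D53598 F234847 (iv F232069)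
theorem F240367 : act 3 n53598 = n52507 := d24_1 D53598 (iv D52507) F225937 (iv F222724) D51763
theorem F240368 : act 6 n53598 = n52514 := d31_2 (iv F232071) D53598 F235048
theorem F240369 : act 7 n53598 = n51765 := d32_2 (iv F232072) D53598 (iv D51765)
theorem F240370 : act 8 n53598 = n51772 := d33_2 (iv F232073) D53598 (iv D51772)
def n53599 : Q := act 9 n51763
theorem D53599 : act 9 n51763 = n53599 := rfl
theorem F240371 : act 1 n53599 = n51790 := d16_1 D53599 (iv D51790) (iv F232068)
theorem F240372 : act 2 n53599 = n52477 := d23_1 D53599 (iv D52477) (iv F232069)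
theorem F240373 : act 3 n53599 = n51764 := d29_1 D53599 (iv D51764) D51763
theorem F240374 : act 5 n53599 = n51767 := d38_1 D53599 (iv D51767) (iv F232070)
theorem F240375 : act 6 n53599 = n52543 := d41_1 D53599 (iv D52543) (iv F232071)
theorem F240376 : act 7 n53599 = n51766 := d43_1 D53599 (iv D51766) (iv F232072)
def n53600 : Q := act 9 n51765
theorem D53600 : act 9 n51765 = n53600 := rfl
theorem F240377 : act 1 n53600 = n51792 := d16_1 D53600 (iv D51792) (iv F232081)
theorem F240378 : act 4 n53600 = n51766 := d34_1 D53600 (iv D51766) D51765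
theorem F240379 : act 6 n53600 = n52503 := d41_1 D53600 (iv D52503) (iv F232082)
def n53601 : Q := act 8 n51766
theorem D53601 : act 8 n51766 = n53601 := rfl
theorem F240380 : act 1 n53601 = n51793 := d15_1 D53601 (iv D51793) (iv F232084)
theorem F240381 : act 3 n53601 = n52524 := d28_1 D53601 (iv D52524) F225963 (iv F222736) (iv F232085)
theorem F240382 : act 5 n53601 = n51768 := d37_1 D53601 (iv D51768) (iv F232086)
theorem F240383 : act 6 n53601 = n52506 := d40_1 D53601 (iv D52506) (iv F232087)
theorem F240384 : act 9 n53601 = n51777 := d44_2 D51766 D53601 (iv D51777) (iv D49723) (iv F222731)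
def n53602 : Q := act 8 n51767
theorem D53602 : act 8 n51767 = n53602 := rfl
theorem F240385 : act 1 n53602 = n51796 := d15_1 D53602 (iv D51796) (iv F232088)
theorem F240386 : act 2 n53602 = n52722 := d22_1 D53602 (iv D52722) (iv F232089)
theorem F240387 : act 3 n53602 = n52533 := d28_1 D53602 (iv D52533) F225982 (iv F222747) (iv F232090)
theorem F240388 : act 6 n53602 = n53602 := d40_1 D53602 (iv D53602) F232091
theorem F240389 : act 7 n53602 = n51768 := d42_1 D53602 (iv D51768) (iv F232092)
theorem F240390 : act 9 n53602 = n51779 := d44_2 D51767 D53602 (iv D51779) (iv D49725) (iv F222741)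
def n53603 : Q := act 4 n51769
theorem D53603 : act 4 n51769 = n53603 := rfl
theorem F240391 : act 1 n53603 = n51801 := d11_1 D53603 (iv D51801) (iv F232097)
theorem F240392 : act 6 n53603 = n51772 := d31_2 (iv F232099) D53603 (iv D51772)
theorem F240393 : act 7 n53603 = n52518 := d32_2 (iv F232100) D53603 F235060
theorem F240394 : act 8 n53603 = n52514 := d33_2 (iv F232101) D53603 F235048
def n53604 : Q := act 9 n51769
theorem D53604 : act 9 n51769 = n53604 := rfl
theorem F240395 : act 1 n53604 = n51802 := d16_1 D53604 (iv D51802) (iv F232097)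
theorem F240396 : act 3 n53604 = n51770 := d29_1 D53604 (iv D51770) D51769
theorem F240397 : act 5 n53604 = n53604 := d38_1 D53604 (iv D53604) F232098
theorem F240398 : act 6 n53604 = n51773 := d41_1 D53604 (iv D51773) (iv F232099)
theorem F240399 : act 7 n53604 = n52536 := d43_1 D53604 (iv D52536) (iv F232100)
def n53605 : Q := act 4 n51771
theorem D53605 : act 4 n51771 = n53605 := rfl
theorem F240400 : act 1 n53605 = n52442 := d11_1 D53605 F234855 (iv F232107)
theorem F240401 : act 2 n53605 = n51772 := d18_1 D53605 (iv D51772) D51771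
theorem F240402 : act 7 n53605 = n51774 := d32_2 (iv F232110) D53605 (iv D51774)
theorem F240403 : act 8 n53605 = n52438 := d33_2 (iv F232111) D53605 F234847
def n53606 : Q := act 9 n51771
theorem D53606 : act 9 n51771 = n53606 := rfl
theorem F240404 : act 1 n53606 = n52480 := d16_1 D53606 (iv D52480) (iv F232107)
theorem F240405 : act 2 n53606 = n51773 := d23_1 D53606 (iv D51773) D51771
theorem F240406 : act 3 n53606 = n53606 := d29_1 D53606 (iv D53606) F232108
theorem F240407 : act 5 n53606 = n51778 := d38_1 D53606 (iv D51778) (iv F232109)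
theorem F240408 : act 7 n53606 = n51775 := d43_1 D53606 (iv D51775) (iv F232110)
def n53607 : Q := act 9 n51772
theorem D53607 : act 9 n51772 = n53607 := rfl
theorem F240409 : act 1 n53607 = n51806 := d16_1 D53607 (iv D51806) (iv F232112)
theorem F240410 : act 4 n53607 = n51773 := d34_1 D53607 (iv D51773) D51772
theorem F240411 : act 7 n53607 = n51776 := d43_1 D53607 (iv D51776) (iv F232113)
def n53608 : Q := act 8 n51773
theorem D53608 : act 8 n51773 = n53608 := rfl
theorem F240412 : act 1 n53608 = n51807 := d15_1 D53608 (iv D51807) (iv F232114)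
theorem F240413 : act 5 n53608 = n51779 := d37_1 D53608 (iv D51779) (iv F232116)
theorem F240414 : act 7 n53608 = n51777 := d42_1 D53608 (iv D51777) (iv F232117)
def n53609 : Q := act 3 n51774
theorem D53609 : act 3 n51774 = n53609 := rfl
theorem F240415 : act 4 n53609 = n53609 := d24_2 D51774 D53609 (iv D53609) (iv D51774) F222768
theorem F240416 : act 5 n53609 = n52499 := d25_2 F237036 D53609 (iv F237035)
theorem F240417 : act 6 n53609 = n52525 := d26_2 (iv F232119) D53609 F235080
theorem F240418 : act 8 n52509 = n53609 := d37_0 F240416 F235005 D52509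
def n53610 : Q := act 9 n51774
theorem D53610 : act 9 n51774 = n53610 := rfl
theorem F240419 : act 2 n53610 = n51776 := d23_1 D53610 (iv D51776) (iv F232118)
theorem F240420 : act 4 n53610 = n51775 := d34_1 D53610 (iv D51775) D51774
theorem F240421 : act 6 n53610 = n52527 := d41_1 D53610 (iv D52527) (iv F232119)
def n53611 : Q := act 8 n51775
theorem D53611 : act 8 n51775 = n53611 := rfl
theorem F240422 : act 2 n53611 = n51777 := d22_1 D53611 (iv D51777) (iv F232120)
theorem F240423 : act 5 n53611 = n51780 := d37_1 D53611 (iv D51780) (iv F232122)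
theorem F240424 : act 6 n53611 = n52540 := d40_1 D53611 (iv D52540) (iv F232123)
def n53612 : Q := act 8 n51776
theorem D53612 : act 8 n51776 = n53612 := rfl
theorem F240425 : act 1 n53612 = n51815 := d15_1 D53612 (iv D51815) (iv F232124)
theorem F240426 : act 4 n53612 = n51777 := d33_1 D53612 (iv D51777) (iv F232125)
theorem F240427 : act 6 n53612 = n52529 := d40_1 D53612 (iv D52529) (iv F232126)
def n53613 : Q := act 8 n51778
theorem D53613 : act 8 n51778 = n53613 := rfl
theorem F240428 : act 1 n53613 = n52724 := d15_1 D53613 (iv D52724) (iv F232130)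
theorem F240429 : act 2 n53613 = n51779 := d22_1 D53613 (iv D51779) (iv F232131)
theorem F240430 : act 6 n53613 = n53613 := d40_1 D53613 (iv D53613) F232133
theorem F240431 : act 7 n53613 = n51780 := d42_1 D53613 (iv D51780) (iv F232134)
theorem F240432 : act 9 n53613 = n52722 := d44_2 D51778 D53613 (iv D52722) (iv D50764) (iv F222781)
def n53614 : Q := act 3 n51780
theorem D53614 : act 3 n51780 = n53614 := rfl
theorem F240433 : act 6 n53614 = n51781 := d26_2 (iv F232139) D53614 (iv D51781)
theorem F240434 : act 8 n53614 = n53614 := d28_2 D51780 D53614 (iv D53614) (iv D51780) F222787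
def n53615 : Q := act 4 n51782
theorem D53615 : act 4 n51782 = n53615 := rfl
theorem F240435 : act 0 n53615 = n51848 := d3_1 D53615 (iv D51848) (iv F232143)
theorem F240436 : act 1 n53615 = n52507 := d11_1 D53615 (iv D52507) (iv F232144)
theorem F240437 : act 2 n53615 = n52250 := d18_1 D53615 F234237 (iv F232145)
theorem F240438 : act 3 n53615 = n51789 := d24_1 D53615 (iv D51789) (iv D49733) (iv F222797) D51782
theorem F240439 : act 6 n53615 = n52512 := d31_2 (iv F232147) D53615 (iv D52512)
theorem F240440 : act 7 n53615 = n51785 := d32_2 (iv F232148) D53615 (iv D51785)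
def n53616 : Q := act 9 n51782
theorem D53616 : act 9 n51782 = n53616 := rfl
theorem F240441 : act 0 n53616 = n51849 := d8_1 D53616 (iv D51849) (iv F232143)
theorem F240442 : act 1 n53616 = n52508 := d16_1 D53616 (iv D52508) (iv F232144)
theorem F240443 : act 2 n53616 = n52305 := d23_1 D53616 (iv D52305) (iv F232145)
theorem F240444 : act 3 n53616 = n51783 := d29_1 D53616 (iv D51783) D51782
theorem F240445 : act 5 n53616 = n53616 := d38_1 D53616 (iv D53616) F232146
theorem F240446 : act 6 n53616 = n52513 := d41_1 D53616 (iv D52513) (iv F232147)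
theorem F240447 : act 7 n53616 = n51786 := d43_1 D53616 (iv D51786) (iv F232148)
def n53617 : Q := act 4 n51784
theorem D53617 : act 4 n51784 = n53617 := rfl
theorem F240448 : act 0 n53617 = n51851 := d3_1 D53617 (iv D51851) (iv F232157)
theorem F240449 : act 1 n53617 = n52242 := d11_1 D53617 F234210 (iv F232158)
theorem F240450 : act 2 n53617 = n51785 := d18_1 D53617 (iv D51785) D51784
theorem F240451 : act 3 n53617 = n52240 := d24_1 D53617 (iv D52240) F224943 (iv F223652) (iv F232159)
theorem F240452 : act 6 n53617 = n52546 := d31_2 (iv F232161) D53617 (iv D52546)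
theorem F240453 : act 7 n53617 = n52250 := d32_2 (iv F232162) D53617 F234237
def n53618 : Q := act 9 n51784
theorem D53618 : act 9 n51784 = n53618 := rfl
theorem F240454 : act 0 n53618 = n51852 := d8_1 D53618 (iv D51852) (iv F232157)
theorem F240455 : act 1 n53618 = n52300 := d16_1 D53618 (iv D52300) (iv F232158)
theorem F240456 : act 2 n53618 = n51786 := d23_1 D53618 (iv D51786) D51784
theorem F240457 : act 3 n53618 = n52005 := d29_1 D53618 (iv D52005) (iv F232159)
theorem F240458 : act 5 n53618 = n53618 := d38_1 D53618 (iv D53618) F232160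
theorem F240459 : act 6 n53618 = n52547 := d41_1 D53618 (iv D52547) (iv F232161)
theorem F240460 : act 7 n53618 = n52305 := d43_1 D53618 (iv D52305) (iv F232162)
def n53619 : Q := act 5 n51785
theorem D53619 : act 5 n51785 = n53619 := rfl
theorem F240461 : act 0 n53619 = n51853 := d4_1 D53619 (iv D51853) (iv F232163)
theorem F240462 : act 3 n53619 = n51791 := d25_1 D53619 (iv D51791) (iv F232164)
theorem F240463 : act 4 n53619 = n53619 := d30_1 D53619 (iv D53619) (iv D51785) F222802 D51785
def n53620 : Q := act 9 n51785
theorem D53620 : act 9 n51785 = n53620 := rfl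
theorem F240464 : act 0 n53620 = n51854 := d8_1 D53620 (iv D51854) (iv F232163)
theorem F240465 : act 3 n53620 = n51792 := d29_1 D53620 (iv D51792) (iv F232164)
theorem F240466 : act 4 n53620 = n51786 := d34_1 D53620 (iv D51786) D51785
theorem F240467 : act 6 n53620 = n52548 := d41_1 D53620 (iv D52548) (iv F232165)
def n53621 : Q := act 8 n51786
theorem D53621 : act 8 n51786 = n53621 := rfl
theorem F240468 : act 0 n53621 = n51855 := d7_1 D53621 (iv D51855) (iv F232166)
theorem F240469 : act 3 n53621 = n52545 := d28_1 D53621 (iv D52545) F226066 (iv F222809) (iv F232167)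
theorem F240470 : act 5 n53621 = n53621 := d37_1 D53621 (iv D53621) F232168
theorem F240471 : act 6 n53621 = n52549 := d40_1 D53621 (iv D52549) (iv F232169)
def n53622 : Q := act 4 n51787
theorem D53622 : act 4 n51787 = n53622 := rfl
theorem F240472 : act 0 n53622 = n51857 := d3_1 D53622 (iv D51857) (iv F232170)
theorem F240473 : act 1 n53622 = n52514 := d11_1 D53622 F235048 (iv F232171)
theorem F240474 : act 2 n53622 = n51915 := d18_1 D53622 F232721 (iv F232172)
theorem F240475 : act 3 n53622 = n52512 := d24_1 D53622 (iv D52512) F225944 (iv F222813) D51787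
theorem F240476 : act 6 n53622 = n51789 := d31_2 (iv F232174) D53622 (iv D51789)
theorem F240477 : act 7 n53622 = n52521 := d32_2 (iv F232175) D53622 F235070
theorem F240478 : act 8 n53622 = n51801 := d33_2 (iv F232176) D53622 (iv D51801)
def n53623 : Q := act 9 n51787
theorem D53623 : act 9 n51787 = n53623 := rfl
theorem F240479 : act 0 n53623 = n51858 := d8_1 D53623 (iv D51858) (iv F232170)
theorem F240480 : act 1 n53623 = n52543 := d16_1 D53623 (iv D52543) (iv F232171)
theorem F240481 : act 2 n53623 = n51992 := d23_1 D53623 (iv D51992) (iv F232172)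
theorem F240482 : act 3 n53623 = n51788 := d29_1 D53623 (iv D51788) D51787
theorem F240483 : act 5 n53623 = n53623 := d38_1 D53623 (iv D53623) F232173
theorem F240484 : act 6 n53623 = n51790 := d41_1 D53623 (iv D51790) (iv F232174)
theorem F240485 : act 7 n53623 = n52544 := d43_1 D53623 (iv D52544) (iv F232175)
def n53624 : Q := act 5 n51789
theorem D53624 : act 5 n51789 = n53624 := rfl
theorem F240486 : act 0 n53624 = n51862 := d4_1 D53624 (iv D51862) (iv F232185)
theorem F240487 : act 2 n53624 = n52650 := d19_1 D53624 (iv D52650) (iv F232186)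
theorem F240488 : act 4 n53624 = n51794 := d30_1 D53624 (iv D51794) (iv D49737) (iv F222819) D51789
theorem F240489 : act 7 n53624 = n51791 := d36_2 (iv F232187) D53624 (iv D51791)
theorem F240490 : act 8 n53624 = n51805 := d37_2 (iv F232188) D53624 (iv D51805)
def n53625 : Q := act 9 n51789
theorem D53625 : act 9 n51789 = n53625 := rfl
theorem F240491 : act 0 n53625 = n51863 := d8_1 D53625 (iv D51863) (iv F232185)
theorem F240492 : act 2 n53625 = n52651 := d23_1 D53625 (iv D52651) (iv F232186)
theorem F240493 : act 4 n53625 = n51790 := d34_1 D53625 (iv D51790) D51789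
theorem F240494 : act 7 n53625 = n51792 := d43_1 D53625 (iv D51792) (iv F232187)
def n53626 : Q := act 8 n51790
theorem D53626 : act 8 n51790 = n53626 := rfl
theorem F240495 : act 0 n53626 = n51864 := d7_1 D53626 (iv D51864) (iv F232189)
theorem F240496 : act 2 n53626 = n52642 := d22_1 D53626 F235433 (iv F232190)
theorem F240497 : act 3 n53626 = n52517 := d28_1 D53626 (iv D52517) F225950 (iv F222826) (iv F232191)
theorem F240498 : act 5 n53626 = n51796 := d37_1 D53626 (iv D51796) (iv F232192)
theorem F240499 : act 7 n53626 = n51793 := d42_1 D53626 (iv D51793) (iv F232193)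
theorem F240500 : act 9 n53626 = n51807 := d44_2 D51790 D53626 (iv D51807) (iv D49747) (iv F222821)
def n53627 : Q := act 9 n51791
theorem D53627 : act 9 n51791 = n53627 := rfl
theorem F240501 : act 0 n53627 = n51872 := d8_1 D53627 (iv D51872) (iv F232194)
theorem F240502 : act 2 n53627 = n52698 := d23_1 D53627 F235578 (iv F232195)
theorem F240503 : act 4 n53627 = n51797 := d34_1 D53627 (iv D51797) (iv F232196)
theorem F240504 : act 5 n53627 = n51792 := d38_1 D53627 (iv D51792) D51791
def n53628 : Q := act 8 n51792
theorem D53628 : act 8 n51792 = n53628 := rfl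
theorem F240505 : act 0 n53628 = n51873 := d7_1 D53628 (iv D51873) (iv F232198)
theorem F240506 : act 2 n53628 = n52665 := d22_1 D53628 F235484 (iv F232199)
theorem F240507 : act 4 n53628 = n51793 := d33_1 D53628 (iv D51793) (iv F232200)
theorem F240508 : act 6 n53628 = n52552 := d40_1 D53628 (iv D52552) (iv F232201)
theorem F240509 : act 9 n53628 = n51815 := d44_2 D51792 D53628 (iv D51815) (iv D49752) (iv F222830)
def n53629 : Q := act 6 n51794
theorem D53629 : act 6 n51794 = n53629 := rfl
theorem F240510 : act 0 n53629 = n51878 := d5_1 D53629 (iv D51878) (iv F232208)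
theorem F240511 : act 2 n53629 = n52720 := d20_1 D53629 (iv D52720) (iv F232209)
theorem F240512 : act 3 n53629 = n53629 := d26_1 D53629 (iv D53629) F232210
theorem F240513 : act 5 n53629 = n53629 := d35_1 D53629 (iv D53629) (iv D51794) F222839 D51794
theorem F240514 : act 8 n53629 = n51819 := d40_2 (iv F232212) D53629 (iv D51819)
def n53630 : Q := act 9 n51794
theorem D53630 : act 9 n51794 = n53630 := rfl
theorem F240515 : act 0 n53630 = n51879 := d8_1 D53630 (iv D51879) (iv F232208)
theorem F240516 : act 2 n53630 = n52699 := d23_1 D53630 F235582 (iv F232209)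
theorem F240517 : act 3 n53630 = n53630 := d29_1 D53630 (iv D53630) F232210
theorem F240518 : act 5 n53630 = n51795 := d38_1 D53630 (iv D51795) D51794
theorem F240519 : act 7 n53630 = n51797 := d43_1 D53630 (iv D51797) (iv F232211)
def n53631 : Q := act 8 n51795
theorem D53631 : act 8 n51795 = n53631 := rfl
theorem F240520 : act 0 n53631 = n51880 := d7_1 D53631 (iv D51880) (iv F232213)
theorem F240521 : act 2 n53631 = n52677 := d22_1 D53631 F235519 (iv F232214)
theorem F240522 : act 4 n53631 = n51796 := d33_1 D53631 (iv D51796) (iv F232216)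
theorem F240523 : act 6 n53631 = n53631 := d40_1 D53631 (iv D53631) F232217
theorem F240524 : act 7 n53631 = n51798 := d42_1 D53631 (iv D51798) (iv F232218)
theorem F240525 : act 9 n53631 = n51821 := d44_2 D51795 D53631 (iv D51821) (iv D49757) (iv F222841)
def n53632 : Q := act 8 n51797
theorem D53632 : act 8 n51797 = n53632 := rfl
theorem F240526 : act 0 n53632 = n51887 := d7_1 D53632 (iv D51887) (iv F232225)
theorem F240527 : act 2 n53632 = n52689 := d22_1 D53632 F235553 (iv F232226)
theorem F240528 : act 5 n53632 = n51798 := d37_1 D53632 (iv D51798) (iv F232228)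
theorem F240529 : act 9 n53632 = n51825 := d44_2 D51797 D53632 (iv D51825) (iv D49763) (iv F222850)
def n53633 : Q := act 3 n51798
theorem D53633 : act 3 n51798 = n53633 := rfl
theorem F240530 : act 0 n53633 = n51888 := d2_1 D53633 (iv D51888) (iv F232229)
theorem F240531 : act 4 n53633 = n52541 := d24_2 (iv F232231) D53633 (iv D52541) F226022 (iv F222858)
theorem F240532 : act 6 n53633 = n51799 := d26_2 (iv F232232) D53633 (iv D51799)
theorem F240533 : act 8 n53633 = n53633 := d28_2 D51798 D53633 (iv D53633) (iv D51798) F222853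
theorem F240534 : act 9 n53633 = n51826 := d29_2 (iv F232233) D53633 (iv D51826)
def n53634 : Q := act 2 n51799
theorem D53634 : act 2 n51799 = n53634 := rfl
theorem F240535 : act 0 n53634 = n51896 := d1_1 D53634 (iv D51896) (iv F232234)
theorem F240536 : act 3 n53634 = n52176 := d17_2 D51799 D53634 F233910 F226528 (iv F222862)
theorem F240537 : act 4 n53634 = n52175 := d18_2 (iv F232235) D53634 F233906
theorem F240538 : act 7 n53634 = n53634 := d21_2 F232236 D53634 (iv D53634)
theorem F240539 : act 8 n53634 = n53634 := d22_2 F232237 D53634 (iv D53634)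
theorem F240540 : act 9 n53634 = n51828 := d23_2 (iv F232238) D53634 (iv D51828)
def n53635 : Q := act 4 n51800
theorem D53635 : act 4 n51800 = n53635 := rfl
theorem F240541 : act 0 n53635 = n51898 := d3_1 D53635 (iv D51898) (iv F232239)
theorem F240542 : act 1 n53635 = n51920 := d11_1 D53635 F232733 F232245
theorem F240543 : act 2 n53635 = n51801 := d18_1 D53635 (iv D51801) D51800
theorem F240544 : act 6 n53635 = n51803 := d31_2 (iv F232242) D53635 (iv D51803)
theorem F240545 : act 7 n53635 = n52553 := d32_2 (iv F232243) D53635 (iv D52553)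
theorem F240546 : act 8 n53635 = n51915 := d33_2 (iv F232244) D53635 F232721
def n53636 : Q := act 9 n51800
theorem D53636 : act 9 n51800 = n53636 := rfl
theorem F240547 : act 0 n53636 = n51899 := d8_1 D53636 (iv D51899) (iv F232239)
theorem F240548 : act 1 n53636 = n51994 := d16_1 D53636 (iv D51994) F232245
theorem F240549 : act 2 n53636 = n51802 := d23_1 D53636 (iv D51802) D51800
theorem F240550 : act 3 n53636 = n51835 := d29_1 D53636 (iv D51835) (iv F232240)
theorem F240551 : act 5 n53636 = n53636 := d38_1 D53636 (iv D53636) F232241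
theorem F240552 : act 6 n53636 = n51804 := d41_1 D53636 (iv D51804) (iv F232242)
theorem F240553 : act 7 n53636 = n52554 := d43_1 D53636 (iv D52554) (iv F232243)
def n53637 : Q := act 5 n51801
theorem D53637 : act 5 n51801 = n53637 := rfl
theorem F240554 : act 0 n53637 = n51900 := d4_1 D53637 (iv D51900) (iv F232246)
theorem F240555 : act 4 n53637 = n53637 := d30_1 D53637 (iv D53637) (iv D51801) F222867 D51801
theorem F240556 : act 7 n53637 = n52555 := d36_2 (iv F232248) D53637 (iv D52555)
def n53638 : Q := act 9 n51801
theorem D53638 : act 9 n51801 = n53638 := rfl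
theorem F240557 : act 0 n53638 = n51901 := d8_1 D53638 (iv D51901) (iv F232246)
theorem F240558 : act 4 n53638 = n51802 := d34_1 D53638 (iv D51802) D51801
theorem F240559 : act 6 n53638 = n51806 := d41_1 D53638 (iv D51806) (iv F232247)
theorem F240560 : act 7 n53638 = n52556 := d43_1 D53638 (iv D52556) (iv F232248)
def n53639 : Q := act 8 n51802
theorem D53639 : act 8 n51802 = n53639 := rfl
theorem F240561 : act 0 n53639 = n51902 := d7_1 D53639 (iv D51902) (iv F232249)
theorem F240562 : act 5 n53639 = n53639 := d37_1 D53639 (iv D53639) F232251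
theorem F240563 : act 6 n53639 = n51807 := d40_1 D53639 (iv D51807) (iv F232252)
theorem F240564 : act 7 n53639 = n52557 := d42_1 D53639 (iv D52557) (iv F232253)
def n53640 : Q := act 3 n51803
theorem D53640 : act 3 n51803 = n53640 := rfl
theorem F240565 : act 0 n53640 = n51906 := d2_1 D53640 (iv D51906) (iv F232254)
theorem F240566 : act 1 n53640 = n52603 := d10_1 D53640 F235304 (iv F232255)
theorem F240567 : act 4 n53640 = n51837 := d24_2 D51803 D53640 (iv D51837) (iv D49777) (iv F222876)
theorem F240568 : act 7 n53640 = n51810 := d27_2 (iv F232257) D53640 (iv D51810)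
theorem F240569 : act 8 n53640 = n52598 := d28_2 (iv F232258) D53640 (iv D52598) F226251 D50658
def n53641 : Q := act 5 n51803
theorem D53641 : act 5 n51803 = n53641 := rfl
theorem F240570 : act 0 n53641 = n51907 := d4_1 D53641 (iv D51907) (iv F232254)
theorem F240571 : act 1 n53641 = n52657 := d12_1 D53641 F235470 (iv F232255)
theorem F240572 : act 2 n53641 = n51805 := d19_1 D53641 (iv D51805) (iv F232256)
theorem F240573 : act 4 n53641 = n51816 := d30_1 D53641 (iv D51816) (iv D49754) (iv F222877) D51803
theorem F240574 : act 7 n53641 = n51811 := d36_2 (iv F232257) D53641 (iv D51811)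
theorem F240575 : act 8 n53641 = n52650 := d37_2 (iv F232258) D53641 (iv D52650)
def n53642 : Q := act 9 n51803
theorem D53642 : act 9 n51803 = n53642 := rfl
theorem F240576 : act 0 n53642 = n51908 := d8_1 D53642 (iv D51908) (iv F232254)
theorem F240577 : act 1 n53642 = n52659 := d16_1 D53642 (iv D52659) (iv F232255)
theorem F240578 : act 2 n53642 = n51806 := d23_1 D53642 (iv D51806) (iv F232256)
theorem F240579 : act 4 n53642 = n51804 := d34_1 D53642 (iv D51804) D51803
theorem F240580 : act 7 n53642 = n51812 := d43_1 D53642 (iv D51812) (iv F232257)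
def n53643 : Q := act 8 n51804
theorem D53643 : act 8 n51804 = n53643 := rfl
theorem F240581 : act 0 n53643 = n51909 := d7_1 D53643 (iv D51909) (iv F232259)
theorem F240582 : act 1 n53643 = n52697 := d15_1 D53643 (iv D52697) (iv F232260)
theorem F240583 : act 2 n53643 = n51807 := d22_1 D53643 (iv D51807) (iv F232261)
theorem F240584 : act 3 n53643 = n52594 := d28_1 D53643 (iv D52594) F226239 (iv F223025) (iv F232262)
theorem F240585 : act 5 n53643 = n51818 := d37_1 D53643 (iv D51818) (iv F232263)
theorem F240586 : act 7 n53643 = n51813 := d42_1 D53643 (iv D51813) (iv F232264)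
theorem F240587 : act 9 n53643 = n52642 := d44_2 D51804 D53643 F235433 F226544 (iv F222879)
def n53644 : Q := act 6 n51805
theorem D53644 : act 6 n51805 = n53644 := rfl
theorem F240588 : act 0 n53644 = n51910 := d5_1 D53644 (iv D51910) (iv F232265)
theorem F240589 : act 4 n53644 = n51819 := d31_1 D53644 (iv D51819) (iv F232266)
def n53645 : Q := act 9 n51805
theorem D53645 : act 9 n51805 = n53645 := rfl
theorem F240590 : act 0 n53645 = n51911 := d8_1 D53645 (iv D51911) (iv F232265)
theorem F240591 : act 4 n53645 = n51820 := d34_1 D53645 (iv D51820) (iv F232266)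
theorem F240592 : act 5 n53645 = n51806 := d38_1 D53645 (iv D51806) D51805
theorem F240593 : act 7 n53645 = n51814 := d43_1 D53645 (iv D51814) (iv F232267)
def n53646 : Q := act 8 n51806
theorem D53646 : act 8 n51806 = n53646 := rfl
theorem F240594 : act 0 n53646 = n51912 := d7_1 D53646 (iv D51912) (iv F232268)
theorem F240595 : act 4 n53646 = n51807 := d33_1 D53646 (iv D51807) (iv F232269)
theorem F240596 : act 7 n53646 = n51815 := d42_1 D53646 (iv D51815) (iv F232270)
def n53647 : Q := act 3 n51808
theorem D53647 : act 3 n51808 = n53647 := rfl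
theorem F240597 : act 1 n53647 = n51810 := d10_1 D53647 (iv D51810) (iv F232274)
theorem F240598 : act 4 n53647 = n51841 := d24_2 D51808 D53647 (iv D51841) (iv D49781) (iv F222887)
theorem F240599 : act 6 n53647 = n52565 := d26_2 (iv F232275) D53647 (iv D52565)
theorem F240600 : act 7 n53647 = n52603 := d27_2 (iv F232276) D53647 F235304
theorem F240601 : act 8 n53647 = n52592 := d28_2 (iv F232277) D53647 (iv D52592) F226237 D50649
def n53648 : Q := act 9 n51808
theorem D53648 : act 9 n51808 = n53648 := rfl
theorem F240602 : act 1 n53648 = n51812 := d16_1 D53648 (iv D51812) (iv F232274)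
theorem F240603 : act 4 n53648 = n51809 := d34_1 D53648 (iv D51809) D51808
theorem F240604 : act 6 n53648 = n52566 := d41_1 D53648 (iv D52566) (iv F232275)
theorem F240605 : act 7 n53648 = n52659 := d43_1 D53648 (iv D52659) (iv F232276)
def n53649 : Q := act 8 n51809
theorem D53649 : act 8 n51809 = n53649 := rfl
theorem F240606 : act 1 n53649 = n51813 := d15_1 D53649 (iv D51813) (iv F232278)
theorem F240607 : act 3 n53649 = n52601 := d28_1 D53649 (iv D52601) F226253 (iv F223049) (iv F232279)
theorem F240608 : act 5 n53649 = n51822 := d37_1 D53649 (iv D51822) (iv F232280)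
theorem F240609 : act 6 n53649 = n52567 := d40_1 D53649 (iv D52567) (iv F232281)
theorem F240610 : act 7 n53649 = n52697 := d42_1 D53649 (iv D52697) (iv F232282)
theorem F240611 : act 9 n53649 = n52655 := d44_2 D51809 D53649 F235466 (iv D50709) (iv F222891)
def n53650 : Q := act 5 n51810
theorem D53650 : act 5 n51810 = n53650 := rfl
theorem F240612 : act 0 n53650 = n51919 := d4_1 D53650 (iv D51919) (iv F232283)
theorem F240613 : act 3 n53650 = n51811 := d25_1 D53650 (iv D51811) D51810
theorem F240614 : act 4 n53650 = n53650 := d30_1 D53650 (iv D53650) F232284 F223051 (iv F232284)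
def n53651 : Q := act 8 n51810
theorem D53651 : act 8 n51810 = n53651 := rfl
theorem F240615 : act 0 n53651 = n51920 := d7_1 D53651 (iv D51920) (iv F232283)
theorem F240616 : act 1 n53651 = n52592 := d15_1 D53651 (iv F240601) F240597
theorem F240617 : act 3 n53651 = n52590 := d28_1 D53651 F235270 F226368 (iv F222895) D51810
theorem F240618 : act 4 n53651 = n51843 := d33_1 D53651 (iv D51843) (iv F232284)
theorem F240619 : act 6 n53651 = n52568 := d40_1 D53651 (iv D52568) (iv F232285)
theorem F240620 : act 7 n53651 = n52598 := d42_1 D53651 (iv F240569) F240568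
def n53652 : Q := act 9 n51810
theorem D53652 : act 9 n51810 = n53652 := rfl
theorem F240621 : act 0 n53652 = n51921 := d8_1 D53652 (iv D51921) (iv F232283)
theorem F240622 : act 3 n53652 = n51812 := d29_1 D53652 (iv D51812) D51810
theorem F240623 : act 4 n53652 = n51844 := d34_1 D53652 (iv D51844) (iv F232284)
theorem F240624 : act 6 n53652 = n52569 := d41_1 D53652 (iv D52569) (iv F232285)
def n53653 : Q := act 9 n51811
theorem D53653 : act 9 n51811 = n53653 := rfl
theorem F240625 : act 0 n53653 = n51923 := d8_1 D53653 (iv D51923) (iv F232286)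
theorem F240626 : act 2 n53653 = n51814 := d23_1 D53653 (iv D51814) (iv F232287)
theorem F240627 : act 4 n53653 = n51823 := d34_1 D53653 (iv D51823) (iv F232288)
theorem F240628 : act 5 n53653 = n51812 := d38_1 D53653 (iv D51812) D51811
def n53654 : Q := act 8 n51812
theorem D53654 : act 8 n51812 = n53654 := rfl
theorem F240629 : act 0 n53654 = n51924 := d7_1 D53654 (iv D51924) (iv F232290)
theorem F240630 : act 2 n53654 = n51815 := d22_1 D53654 (iv D51815) (iv F232291)
theorem F240631 : act 4 n53654 = n51813 := d33_1 D53654 (iv D51813) (iv F232292)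
theorem F240632 : act 6 n53654 = n52570 := d40_1 D53654 (iv D52570) (iv F232293)
theorem F240633 : act 9 n53654 = n52665 := d44_2 D51812 D53654 F235484 F226548 (iv F222895)
def n53655 : Q := act 8 n51814
theorem D53655 : act 8 n51814 = n53655 := rfl
theorem F240634 : act 0 n53655 = n51928 := d7_1 D53655 (iv D51928) (iv F232300)
theorem F240635 : act 4 n53655 = n51825 := d33_1 D53655 (iv D51825) (iv F232301)
theorem F240636 : act 5 n53655 = n51815 := d37_1 D53655 (iv D51815) (iv F232302)
def n53656 : Q := act 3 n51815
theorem D53656 : act 3 n51815 = n53656 := rfl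
theorem F240637 : act 0 n53656 = n51929 := d2_1 D53656 (iv D51929) (iv F232303)
theorem F240638 : act 6 n53656 = n52571 := d26_2 (iv F232305) D53656 (iv D52571)
def n53657 : Q := act 6 n51816
theorem D53657 : act 6 n51816 = n53657 := rfl
theorem F240639 : act 0 n53657 = n51934 := d5_1 D53657 (iv D51934) (iv F232306)
theorem F240640 : act 1 n53657 = n52743 := d13_1 D53657 F235755 (iv F232307)
theorem F240641 : act 2 n53657 = n51819 := d20_1 D53657 (iv D51819) (iv F232308)
theorem F240642 : act 3 n53657 = n53657 := d26_1 D53657 (iv D53657) F232309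
theorem F240643 : act 5 n53657 = n53657 := d35_1 D53657 (iv D53657) (iv D51816) F222913 D51816
theorem F240644 : act 8 n53657 = n52720 := d40_2 (iv F232311) D53657 (iv D52720)
def n53658 : Q := act 9 n51816
theorem D53658 : act 9 n51816 = n53658 := rfl
theorem F240645 : act 0 n53658 = n51935 := d8_1 D53658 (iv D51935) (iv F232306)
theorem F240646 : act 1 n53658 = n52745 := d16_1 D53658 (iv D52745) (iv F232307)
theorem F240647 : act 2 n53658 = n51820 := d23_1 D53658 (iv D51820) (iv F232308)
theorem F240648 : act 3 n53658 = n53658 := d29_1 D53658 (iv D53658) F232309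
theorem F240649 : act 5 n53658 = n51817 := d38_1 D53658 (iv D51817) D51816
theorem F240650 : act 7 n53658 = n51823 := d43_1 D53658 (iv D51823) (iv F232310)
def n53659 : Q := act 8 n51817
theorem D53659 : act 8 n51817 = n53659 := rfl
theorem F240651 : act 0 n53659 = n51936 := d7_1 D53659 (iv D51936) (iv F232312)
theorem F240652 : act 1 n53659 = n52747 := d15_1 D53659 (iv D52747) (iv F232313)
theorem F240653 : act 2 n53659 = n51821 := d22_1 D53659 (iv D51821) (iv F232314)
theorem F240654 : act 4 n53659 = n51818 := d33_1 D53659 (iv D51818) (iv F232316)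
theorem F240655 : act 6 n53659 = n53659 := d40_1 D53659 (iv D53659) F232317
theorem F240656 : act 7 n53659 = n51824 := d42_1 D53659 (iv D51824) (iv F232318)
theorem F240657 : act 9 n53659 = n52677 := d44_2 D51817 D53659 F235519 F226553 (iv F222915)
def n53660 : Q := act 9 n51819
theorem D53660 : act 9 n51819 = n53660 := rfl
theorem F240658 : act 0 n53660 = n51939 := d8_1 D53660 (iv D51939) (iv F232326)
theorem F240659 : act 3 n53660 = n51829 := d29_1 D53660 (iv D51829) (iv F232327)
theorem F240660 : act 5 n53660 = n53660 := d38_1 D53660 (iv D53660) F232328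
theorem F240661 : act 6 n53660 = n51820 := d41_1 D53660 (iv D51820) D51819
def n53661 : Q := act 8 n51820
theorem D53661 : act 8 n51820 = n53661 := rfl
theorem F240662 : act 0 n53661 = n51940 := d7_1 D53661 (iv D51940) (iv F232329)
theorem F240663 : act 5 n53661 = n51821 := d37_1 D53661 (iv D51821) (iv F232331)
theorem F240664 : act 7 n53661 = n51825 := d42_1 D53661 (iv D51825) (iv F232332)
def n53662 : Q := act 3 n51821
theorem D53662 : act 3 n51821 = n53662 := rfl
theorem F240665 : act 0 n53662 = n51941 := d2_1 D53662 (iv D51941) (iv F232333)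
theorem F240666 : act 6 n53662 = n53662 := d26_2 F232335 D53662 (iv D53662)
theorem F240667 : act 7 n53662 = n51826 := d27_2 (iv F232336) D53662 (iv D51826)
theorem F240668 : act 8 n53662 = n51831 := d28_2 D51821 D53662 (iv D51831) (iv D49770) (iv F222926)
def n53663 : Q := act 8 n51823
theorem D53663 : act 8 n51823 = n53663 := rfl
theorem F240669 : act 0 n53663 = n51949 := d7_1 D53663 (iv D51949) (iv F232342)
theorem F240670 : act 2 n53663 = n51825 := d22_1 D53663 (iv D51825) (iv F232343)
theorem F240671 : act 5 n53663 = n51824 := d37_1 D53663 (iv D51824) (iv F232345)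
theorem F240672 : act 9 n53663 = n52689 := d44_2 D51823 D53663 F235553 F226555 (iv F222940)
def n53664 : Q := act 3 n51824
theorem D53664 : act 3 n51824 = n53664 := rfl
theorem F240673 : act 0 n53664 = n51950 := d2_1 D53664 (iv D51950) (iv F232346)
theorem F240674 : act 4 n53664 = n52622 := d24_2 (iv F232348) D53664 (iv D52622) F226319 (iv F222948)
theorem F240675 : act 6 n53664 = n51827 := d26_2 (iv F232349) D53664 (iv D51827)
theorem F240676 : act 8 n53664 = n53664 := d28_2 D51824 D53664 (iv D53664) (iv D51824) F222943
theorem F240677 : act 9 n53664 = n52688 := d29_2 (iv F232350) D53664 F235550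
def n53665 : Q := act 3 n51825
theorem D53665 : act 3 n51825 = n53665 := rfl
theorem F240678 : act 0 n53665 = n51954 := d2_1 D53665 (iv D51954) (iv F232351)
theorem F240679 : act 5 n53665 = n51826 := d25_2 (iv F232352) D53665 (iv D51826)
theorem F240680 : act 8 n53665 = n51832 := d28_2 D51825 D53665 (iv D51832) (iv D49771) (iv F222952)
def n53666 : Q := act 2 n51826
theorem D53666 : act 2 n51826 = n53666 := rfl
theorem F240681 : act 0 n53666 = n51955 := d1_1 D53666 (iv D51955) (iv F232353)
theorem F240682 : act 6 n53666 = n51828 := d20_2 (iv F232354) D53666 (iv D51828)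
theorem F240683 : act 8 n53666 = n51833 := d22_2 (iv F232355) D53666 (iv D51833)
def n53667 : Q := act 2 n51827
theorem D53667 : act 2 n51827 = n53667 := rfl
theorem F240684 : act 0 n53667 = n51963 := d1_1 D53667 (iv D51963) (iv F232356)
theorem F240685 : act 3 n53667 = n51828 := d17_2 D51827 D53667 (iv D51828) (iv D49767) (iv F222963)
theorem F240686 : act 4 n53667 = n52145 := d18_2 (iv F232357) D53667 F233788
theorem F240687 : act 7 n53667 = n53667 := d21_2 F232358 D53667 (iv D53667)
theorem F240688 : act 8 n53667 = n53667 := d22_2 F232359 D53667 (iv D53667)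
theorem F240689 : act 9 n53667 = n52176 := d23_2 (iv F232360) D53667 F233910
def n53668 : Q := act 8 n51829
theorem D53668 : act 8 n51829 = n53668 := rfl
theorem F240690 : act 0 n53668 = n51970 := d7_1 D53668 (iv D51970) (iv F232364)
theorem F240691 : act 2 n53668 = n53668 := d22_1 D53668 (iv D53668) F232365
theorem F240692 : act 5 n53668 = n53668 := d37_1 D53668 (iv D53668) F232366
theorem F240693 : act 6 n53668 = n51830 := d40_1 D53668 (iv D51830) (iv F232367)
theorem F240694 : act 9 n53668 = n53668 := d44_2 D51829 D53668 (iv D53668) (iv D51829) F222973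
def n53669 : Q := act 3 n51830
theorem D53669 : act 3 n51830 = n53669 := rfl
theorem F240695 : act 0 n53669 = n51971 := d2_1 D53669 (iv D51971) (iv F232368)
theorem F240696 : act 5 n53669 = n51831 := d25_2 (iv F232370) D53669 (iv D51831)
theorem F240697 : act 7 n53669 = n51832 := d27_2 (iv F232371) D53669 (iv D51832)
theorem F240698 : act 9 n53669 = n53669 := d29_2 F232372 D53669 (iv D53669)
def n53670 : Q := act 2 n51831
theorem D53670 : act 2 n51831 = n53670 := rfl
theorem F240699 : act 0 n53670 = n51972 := d1_1 D53670 (iv D51972) (iv F232373)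
theorem F240700 : act 3 n53670 = n53670 := d17_2 D51831 D53670 (iv D53670) (iv D51831) F222979
theorem F240701 : act 4 n53670 = n52769 := d18_2 F240106 D53670 (iv F240105)
theorem F240702 : act 6 n53670 = n53670 := d20_2 F232374 D53670 (iv D53670)
theorem F240703 : act 7 n53670 = n51833 := d21_2 (iv F232375) D53670 (iv D51833)
theorem F240704 : act 9 n53670 = n53670 := d23_2 F232376 D53670 (iv D53670)
def n53671 : Q := act 2 n51832
theorem D53671 : act 2 n51832 = n53671 := rfl
theorem F240705 : act 0 n53671 = n51975 := d1_1 D53671 (iv D51975) (iv F232377)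
theorem F240706 : act 3 n53671 = n53671 := d17_2 D51832 D53671 (iv D53671) (iv D51832) F222985
theorem F240707 : act 5 n53671 = n51833 := d19_2 (iv F232378) D53671 (iv D51833)
theorem F240708 : act 9 n53671 = n53671 := d23_2 F232379 D53671 (iv D53671)
def n53672 : Q := act 4 n51832
theorem D53672 : act 4 n51832 = n53672 := rfl
theorem F240709 : act 0 n53672 = n51976 := d3_1 D53672 (iv D51976) (iv F232377)
theorem F240710 : act 9 n53672 = n53672 := d34_2 F232379 D53672 (iv D53672)
def n53673 : Q := act 9 n51834
theorem D53673 : act 9 n51834 = n53673 := rfl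
theorem F240711 : act 0 n53673 = n51983 := d8_1 D53673 (iv D51983) (iv F232384)
theorem F240712 : act 1 n53673 = n52024 := d16_1 D53673 (iv D52024) (iv F232385)
theorem F240713 : act 2 n53673 = n51836 := d23_1 D53673 (iv D51836) (iv F232386)
theorem F240714 : act 4 n53673 = n51835 := d34_1 D53673 (iv D51835) D51834
theorem F240715 : act 5 n53673 = n51999 := d38_1 D53673 F233059 F232390
theorem F240716 : act 6 n53673 = n51838 := d41_1 D53673 (iv D51838) (iv F232387)
theorem F240717 : act 7 n53673 = n51991 := d43_1 D53673 F233024 (iv F232388)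
theorem F240718 : act 8 n53673 = n51985 := d44_1 D53673 (iv D51985) F223462 (iv F223670) (iv F232389)
def n53674 : Q := act 9 n51837
theorem D53674 : act 9 n51837 = n53674 := rfl
theorem F240719 : act 0 n53674 = n51988 := d8_1 D53674 (iv D51988) (iv F232405)
theorem F240720 : act 1 n53674 = n52718 := d16_1 D53674 (iv D52718) (iv F232406)
theorem F240721 : act 3 n53674 = n51838 := d29_1 D53674 (iv D51838) D51837
theorem F240722 : act 5 n53674 = n53674 := d38_1 D53674 (iv D53674) F232407
theorem F240723 : act 7 n53674 = n51844 := d43_1 D53674 (iv D51844) (iv F232408)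
def n53675 : Q := act 3 n51839
theorem D53675 : act 3 n51839 = n53675 := rfl
theorem F240724 : act 0 n53675 = n51841 := d2_1 D53675 (iv D51841) (iv F232417)
theorem F240725 : act 1 n53675 = n51856 := d10_1 D53675 F232492 (iv F232418)
theorem F240726 : act 5 n53675 = n53675 := d25_2 F232420 D53675 (iv D53675)
theorem F240727 : act 6 n53675 = n51859 := d26_2 (iv F232421) D53675 F232505
theorem F240728 : act 7 n53675 = n52029 := d27_2 (iv F232422) D53675 (iv D52029)
theorem F240729 : act 8 n53675 = n51897 := d28_2 (iv F232423) D53675 F232665 F223430 (iv F223675)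
def n53676 : Q := act 9 n51839
theorem D53676 : act 9 n51839 = n53676 := rfl
theorem F240730 : act 0 n53676 = n51842 := d8_1 D53676 (iv D51842) (iv F232417)
theorem F240731 : act 1 n53676 = n51990 := d16_1 D53676 (iv D51990) (iv F232418)
theorem F240732 : act 2 n53676 = n53676 := d23_1 D53676 (iv D53676) F232419
theorem F240733 : act 4 n53676 = n51840 := d34_1 D53676 (iv D51840) D51839
theorem F240734 : act 5 n53676 = n53676 := d38_1 D53676 (iv D53676) F232420
theorem F240735 : act 6 n53676 = n52018 := d41_1 D53676 (iv D52018) (iv F232421)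
theorem F240736 : act 7 n53676 = n52028 := d43_1 D53676 F233237 (iv F232422)
theorem F240737 : act 8 n53676 = n52025 := d44_1 D53676 (iv D52025) (iv D49953) (iv F223679) (iv F232423)
def n53677 : Q := act 2 n51841
theorem D53677 : act 2 n51841 = n53677 := rfl
theorem F240738 : act 1 n53677 = n51934 := d9_1 D53677 F232779 (iv F229233) F229234 (iv F232431)
theorem F240739 : act 3 n53677 = n53677 := d17_2 D51841 D53677 (iv D53677) (iv D51841) F223039
theorem F240740 : act 5 n53677 = n53677 := d19_2 F232432 D53677 (iv D53677)
theorem F240741 : act 6 n53677 = n51931 := d20_2 (iv F232433) D53677 F232767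
theorem F240742 : act 7 n53677 = n52711 := d21_2 (iv F232434) D53677 F235631
theorem F240743 : act 8 n53677 = n52703 := d22_2 (iv F232435) D53677 F235600
def n53678 : Q := act 9 n51841
theorem D53678 : act 9 n51841 = n53678 := rfl
theorem F240744 : act 1 n53678 = n51844 := d16_1 D53678 (iv D51844) (iv F232431)
theorem F240745 : act 3 n53678 = n51842 := d29_1 D53678 (iv D51842) D51841
theorem F240746 : act 5 n53678 = n53678 := d38_1 D53678 (iv D53678) F232432
theorem F240747 : act 6 n53678 = n52575 := d41_1 D53678 (iv D52575) (iv F232433)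
theorem F240748 : act 7 n53678 = n52718 := d43_1 D53678 (iv D52718) (iv F232434)
def n53679 : Q := act 9 n51843
theorem D53679 : act 9 n51843 = n53679 := rfl
theorem F240749 : act 0 n53679 = n51994 := d8_1 D53679 (iv D51994) (iv F232443)
theorem F240750 : act 1 n53679 = n52715 := d16_1 D53679 (iv D52715) (iv F232444)
theorem F240751 : act 3 n53679 = n52007 := d29_1 D53679 (iv D52007) (iv F232445)
theorem F240752 : act 5 n53679 = n53679 := d38_1 D53679 (iv D53679) F232446
theorem F240753 : act 6 n53679 = n52576 := d41_1 D53679 (iv D52576) (iv F232447)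
theorem F240754 : act 7 n53679 = n52717 := d43_1 D53679 (iv D52717) (iv F232448)
def n53680 : Q := act 8 n51844
theorem D53680 : act 8 n51844 = n53680 := rfl
theorem F240755 : act 0 n53680 = n51995 := d7_1 D53680 (iv D51995) (iv F232449)
theorem F240756 : act 3 n53680 = n52719 := d28_1 D53680 (iv D52719) F226640 (iv F223058) (iv F232450)
theorem F240757 : act 5 n53680 = n53680 := d37_1 D53680 (iv D53680) F232451
theorem F240758 : act 6 n53680 = n52577 := d40_1 D53680 (iv D52577) (iv F232452)
def n53681 : Q := act 4 n51845
theorem D53681 : act 4 n51845 = n53681 := rfl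
theorem F240759 : act 0 n53681 = n52512 := d3_1 D53681 (iv D52512) (iv F232453)
theorem F240760 : act 1 n53681 = n52608 := d11_1 D53681 F235317 (iv F232454)
theorem F240761 : act 3 n53681 = n51857 := d24_1 D53681 (iv D51857) (iv D49792) (iv F223069) D51845
theorem F240762 : act 6 n53681 = n51848 := d31_2 (iv F232456) D53681 (iv D51848)
theorem F240763 : act 7 n53681 = n52218 := d32_2 (iv F232457) D53681 F234108
theorem F240764 : act 8 n53681 = n52261 := d33_2 (iv F232458) D53681 F234262
def n53682 : Q := act 9 n51845
theorem D53682 : act 9 n51845 = n53682 := rfl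
theorem F240765 : act 0 n53682 = n52513 := d8_1 D53682 (iv D52513) (iv F232453)
theorem F240766 : act 1 n53682 = n52623 := d16_1 D53682 (iv D52623) (iv F232454)
theorem F240767 : act 3 n53682 = n51846 := d29_1 D53682 (iv D51846) D51845
theorem F240768 : act 5 n53682 = n52233 := d38_1 D53682 (iv D52233) (iv F232455)
theorem F240769 : act 6 n53682 = n51849 := d41_1 D53682 (iv D51849) (iv F232456)
theorem F240770 : act 7 n53682 = n52229 := d43_1 D53682 (iv D52229) (iv F232457)
def n53683 : Q := act 1 n51847
theorem D53683 : act 1 n51847 = n53683 := rfl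
theorem F240771 : act 0 n53683 = n52186 := d0_1 D53683 F233967 F224728 (iv F225146) (iv F232466)
theorem F240772 : act 3 n53683 = n52008 := d10_2 (iv F232467) D53683 (iv D52008)
theorem F240773 : act 5 n53683 = n53683 := d12_2 F232468 D53683 (iv D53683)
theorem F240774 : act 6 n53683 = n52670 := d13_2 F238020 D53683 (iv F238017)
theorem F240775 : act 7 n53683 = n51850 := d14_2 (iv F232469) D53683 (iv D51850)
def n53684 : Q := act 4 n51847
theorem D53684 : act 4 n51847 = n53684 := rfl
theorem F240776 : act 0 n53684 = n52250 := d3_1 D53684 F234237 (iv F232466)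
theorem F240777 : act 2 n53684 = n51848 := d18_1 D53684 (iv D51848) D51847
theorem F240778 : act 3 n53684 = n52248 := d24_1 D53684 (iv D52248) F224964 (iv F223694) (iv F232467)
theorem F240779 : act 7 n53684 = n51851 := d32_2 (iv F232469) D53684 (iv D51851)
def n53685 : Q := act 9 n51847
theorem D53685 : act 9 n51847 = n53685 := rfl
theorem F240780 : act 0 n53685 = n52305 := d8_1 D53685 (iv D52305) (iv F232466)
theorem F240781 : act 2 n53685 = n51849 := d23_1 D53685 (iv D51849) D51847
theorem F240782 : act 3 n53685 = n52009 := d29_1 D53685 (iv D52009) (iv F232467)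
theorem F240783 : act 5 n53685 = n53685 := d38_1 D53685 (iv D53685) F232468
theorem F240784 : act 7 n53685 = n51852 := d43_1 D53685 (iv D51852) (iv F232469)
def n53686 : Q := act 5 n51848
theorem D53686 : act 5 n51848 = n53686 := rfl
theorem F240785 : act 3 n53686 = n51862 := d25_1 D53686 (iv D51862) (iv F232470)
theorem F240786 : act 4 n53686 = n53686 := d30_1 D53686 (iv D53686) (iv D51848) F223073 D51848
theorem F240787 : act 7 n53686 = n51853 := d36_2 (iv F232471) D53686 (iv D51853)
def n53687 : Q := act 9 n51848
theorem D53687 : act 9 n51848 = n53687 := rfl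
theorem F240788 : act 3 n53687 = n51863 := d29_1 D53687 (iv D51863) (iv F232470)
theorem F240789 : act 4 n53687 = n51849 := d34_1 D53687 (iv D51849) D51848
theorem F240790 : act 7 n53687 = n51854 := d43_1 D53687 (iv D51854) (iv F232471)
def n53688 : Q := act 8 n51849
theorem D53688 : act 8 n51849 = n53688 := rfl
theorem F240791 : act 5 n53688 = n53688 := d37_1 D53688 (iv D53688) F232473
theorem F240792 : act 7 n53688 = n51855 := d42_1 D53688 (iv D51855) (iv F232474)
def n53689 : Q := act 0 n51850
theorem D53689 : act 0 n51850 = n53689 := rfl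
theorem F240793 : act 1 n53689 = n52181 := d0_2 D51850 D53689 F233938 (iv F232158) F232157
theorem F240794 : act 3 n53689 = n52011 := d2_2 (iv F232475) D53689 (iv D52011)
theorem F240795 : act 5 n53689 = n53689 := d4_2 F232476 D53689 (iv D53689)
theorem F240796 : act 6 n53689 = n52578 := d5_2 (iv F232477) D53689 (iv D52578)
theorem F240797 : act 7 n53689 = n52186 := d6_2 F240775 D53689 (iv F240771)
def n53690 : Q := act 4 n51850
theorem D53690 : act 4 n51850 = n53690 := rfl
theorem F240798 : act 1 n53690 = n51851 := d11_1 D53690 (iv D51851) D51850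
theorem F240799 : act 6 n53690 = n52579 := d31_2 (iv F232477) D53690 (iv D52579)
def n53691 : Q := act 9 n51850
theorem D53691 : act 9 n51850 = n53691 := rfl
theorem F240800 : act 1 n53691 = n51852 := d16_1 D53691 (iv D51852) D51850
theorem F240801 : act 3 n53691 = n52013 := d29_1 D53691 (iv D52013) (iv F232475)
theorem F240802 : act 5 n53691 = n53691 := d38_1 D53691 (iv D53691) F232476
theorem F240803 : act 6 n53691 = n52580 := d41_1 D53691 (iv D52580) (iv F232477)
def n53692 : Q := act 3 n51851
theorem D53692 : act 3 n51851 = n53692 := rfl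
theorem F240804 : act 0 n53692 = n52240 := d2_1 D53692 (iv F240451) F240448
theorem F240805 : act 2 n53692 = n51867 := d17_1 D53692 (iv D51867) F223110 (iv F223082) (iv F232478)
theorem F240806 : act 4 n53692 = n52014 := d24_2 D51851 D53692 (iv D52014) (iv D49939) (iv F223079)
theorem F240807 : act 6 n53692 = n52581 := d26_2 (iv F232479) D53692 (iv D52581)
theorem F240808 : act 7 n53692 = n52248 := d27_2 F240779 D53692 (iv F240778)
def n53693 : Q := act 5 n51851
theorem D53693 : act 5 n51851 = n53693 := rfl
theorem F240809 : act 2 n53693 = n51853 := d19_1 D53693 (iv D51853) (iv F232478)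
theorem F240810 : act 4 n53693 = n53693 := d30_1 D53693 (iv D53693) (iv D51851) F223080 D51851
def n53694 : Q := act 9 n51851
theorem D53694 : act 9 n51851 = n53694 := rfl
theorem F240811 : act 2 n53694 = n51854 := d23_1 D53694 (iv D51854) (iv F232478)
theorem F240812 : act 4 n53694 = n51852 := d34_1 D53694 (iv D51852) D51851
theorem F240813 : act 6 n53694 = n52582 := d41_1 D53694 (iv D52582) (iv F232479)
def n53695 : Q := act 8 n51852
theorem D53695 : act 8 n51852 = n53695 := rfl
theorem F240814 : act 2 n53695 = n51855 := d22_1 D53695 (iv D51855) (iv F232480)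
theorem F240815 : act 5 n53695 = n53695 := d37_1 D53695 (iv D53695) F232482
theorem F240816 : act 6 n53695 = n52583 := d40_1 D53695 (iv D52583) (iv F232483)
def n53696 : Q := act 6 n51853
theorem D53696 : act 6 n51853 = n53696 := rfl
theorem F240817 : act 1 n53696 = n52587 := d13_1 D53696 (iv F237452) F237449
theorem F240818 : act 3 n53696 = n51871 := d26_1 D53696 (iv D51871) (iv F232484)
theorem F240819 : act 4 n53696 = n53696 := d31_1 D53696 (iv D53696) F232485
theorem F240820 : act 5 n53696 = n52205 := d35_1 D53696 F234060 F224822 (iv F223083) D51853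
theorem F240821 : act 8 n53696 = n52237 := d40_2 F239543 D53696 (iv F239542)
def n53697 : Q := act 9 n51853
theorem D53697 : act 9 n51853 = n53697 := rfl
theorem F240822 : act 3 n53697 = n51872 := d29_1 D53697 (iv D51872) (iv F232484)
theorem F240823 : act 4 n53697 = n53697 := d34_1 D53697 (iv D53697) F232485
theorem F240824 : act 5 n53697 = n51854 := d38_1 D53697 (iv D51854) D51853
def n53698 : Q := act 8 n51854
theorem D53698 : act 8 n51854 = n53698 := rfl
theorem F240825 : act 4 n53698 = n51855 := d33_1 D53698 (iv D51855) (iv F232487)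
theorem F240826 : act 6 n53698 = n52584 := d40_1 D53698 (iv D52584) (iv F232488)
def n53699 : Q := act 4 n51856
theorem D53699 : act 4 n51856 = n53699 := rfl
theorem F240827 : act 0 n53699 = n51915 := d3_1 D53699 F232721 (iv F232491)
theorem F240828 : act 2 n53699 = n51857 := d18_1 D53699 (iv D51857) D51856
theorem F240829 : act 3 n53699 = n51913 := d24_1 D53699 (iv D51913) F223238 D49902 (iv F232492)
theorem F240830 : act 6 n53699 = n51860 := d31_2 (iv F232494) D53699 (iv D51860)
theorem F240831 : act 7 n53699 = n52585 := d32_2 (iv F232495) D53699 (iv D52585)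
theorem F240832 : act 8 n53699 = n51898 := d33_2 (iv F232496) D53699 (iv D51898)
def n53700 : Q := act 9 n51856
theorem D53700 : act 9 n51856 = n53700 := rfl
theorem F240833 : act 0 n53700 = n51992 := d8_1 D53700 (iv D51992) (iv F232491)
theorem F240834 : act 2 n53700 = n51858 := d23_1 D53700 (iv D51858) D51856
theorem F240835 : act 3 n53700 = n51990 := d29_1 D53700 (iv D51990) (iv F232492)
theorem F240836 : act 5 n53700 = n53700 := d38_1 D53700 (iv D53700) F232493
theorem F240837 : act 6 n53700 = n51861 := d41_1 D53700 (iv D51861) (iv F232494)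
theorem F240838 : act 7 n53700 = n52586 := d43_1 D53700 (iv D52586) (iv F232495)
def n53701 : Q := act 5 n51857
theorem D53701 : act 5 n51857 = n53701 := rfl
theorem F240839 : act 4 n53701 = n53701 := d30_1 D53701 (iv D53701) (iv D51857) F223087 D51857
theorem F240840 : act 7 n53701 = n52587 := d36_2 (iv F232498) D53701 (iv D52587)
theorem F240841 : act 8 n53701 = n51900 := d37_2 (iv F232499) D53701 (iv D51900)
def n53702 : Q := act 9 n51857
theorem D53702 : act 9 n51857 = n53702 := rfl
theorem F240842 : act 4 n53702 = n51858 := d34_1 D53702 (iv D51858) D51857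
theorem F240843 : act 6 n53702 = n51863 := d41_1 D53702 (iv D51863) (iv F232497)
theorem F240844 : act 7 n53702 = n52588 := d43_1 D53702 (iv D52588) (iv F232498)
def n53703 : Q := act 8 n51858
theorem D53703 : act 8 n51858 = n53703 := rfl
theorem F240845 : act 5 n53703 = n53703 := d37_1 D53703 (iv D53703) F232501
theorem F240846 : act 6 n53703 = n51864 := d40_1 D53703 (iv D51864) (iv F232502)
theorem F240847 : act 7 n53703 = n52589 := d42_1 D53703 (iv D52589) (iv F232503)
theorem F240848 : act 9 n53703 = n51902 := d44_2 D51858 D53703 (iv D51902) (iv D49826) (iv F223090)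
def n53704 : Q := act 4 n51859
theorem D53704 : act 4 n51859 = n53704 := rfl
theorem F240849 : act 0 n53704 = n52565 := d3_1 D53704 F235206 (iv F232504)
theorem F240850 : act 1 n53704 = n51860 := d11_1 D53704 (iv D51860) D51859
theorem F240851 : act 3 n53704 = n52563 := d24_1 D53704 (iv D52563) F226139 (iv F223730) (iv F232505)
theorem F240852 : act 7 n53704 = n51865 := d32_2 (iv F232507) D53704 (iv D51865)
theorem F240853 : act 8 n53704 = n51904 := d33_2 (iv F232508) D53704 (iv D51904)
def n53705 : Q := act 9 n51859
theorem D53705 : act 9 n51859 = n53705 := rfl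
theorem F240854 : act 0 n53705 = n52575 := d8_1 D53705 (iv D52575) (iv F232504)
theorem F240855 : act 1 n53705 = n51861 := d16_1 D53705 (iv D51861) D51859
theorem F240856 : act 3 n53705 = n52018 := d29_1 D53705 (iv D52018) (iv F232505)
theorem F240857 : act 5 n53705 = n51874 := d38_1 D53705 (iv D51874) (iv F232506)
theorem F240858 : act 7 n53705 = n51866 := d43_1 D53705 (iv D51866) (iv F232507)
def n53706 : Q := act 5 n51860
theorem D53706 : act 5 n51860 = n53706 := rfl
theorem F240859 : act 0 n53706 = n52650 := d4_1 D53706 (iv D52650) (iv F232509)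
theorem F240860 : act 2 n53706 = n51862 := d19_1 D53706 (iv D51862) (iv F232510)
theorem F240861 : act 3 n53706 = n52647 := d25_1 D53706 (iv D52647) (iv F232511)
theorem F240862 : act 4 n53706 = n51875 := d30_1 D53706 (iv D51875) (iv D49804) (iv F223097) D51860
theorem F240863 : act 7 n53706 = n51868 := d36_2 (iv F232512) D53706 (iv D51868)
theorem F240864 : act 8 n53706 = n51907 := d37_2 (iv F232513) D53706 (iv D51907)
def n53707 : Q := act 9 n51860
theorem D53707 : act 9 n51860 = n53707 := rfl
theorem F240865 : act 0 n53707 = n52651 := d8_1 D53707 (iv D52651) (iv F232509)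
theorem F240866 : act 2 n53707 = n51863 := d23_1 D53707 (iv D51863) (iv F232510)
theorem F240867 : act 3 n53707 = n52648 := d29_1 D53707 (iv D52648) (iv F232511)
theorem F240868 : act 4 n53707 = n51861 := d34_1 D53707 (iv D51861) D51860
theorem F240869 : act 7 n53707 = n51869 := d43_1 D53707 (iv D51869) (iv F232512)
def n53708 : Q := act 8 n51861
theorem D53708 : act 8 n51861 = n53708 := rfl
theorem F240870 : act 0 n53708 = n52642 := d7_1 D53708 F235433 (iv F232514)
theorem F240871 : act 2 n53708 = n51864 := d22_1 D53708 (iv D51864) (iv F232515)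
theorem F240872 : act 3 n53708 = n52561 := d28_1 D53708 (iv D52561) F226129 (iv F223739) (iv F232516)
theorem F240873 : act 5 n53708 = n51877 := d37_1 D53708 (iv D51877) (iv F232517)
theorem F240874 : act 7 n53708 = n51870 := d42_1 D53708 (iv D51870) (iv F232518)
theorem F240875 : act 9 n53708 = n51909 := d44_2 D51861 D53708 (iv D51909) (iv D49829) (iv F223099)
def n53709 : Q := act 6 n51862
theorem D53709 : act 6 n51862 = n53709 := rfl
theorem F240876 : act 4 n53709 = n51878 := d31_1 D53709 (iv D51878) (iv F232519)
theorem F240877 : act 8 n53709 = n51910 := d40_2 (iv F232521) D53709 (iv D51910)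
def n53710 : Q := act 9 n51862
theorem D53710 : act 9 n51862 = n53710 := rfl
theorem F240878 : act 4 n53710 = n51879 := d34_1 D53710 (iv D51879) (iv F232519)
theorem F240879 : act 5 n53710 = n51863 := d38_1 D53710 (iv D51863) D51862
theorem F240880 : act 7 n53710 = n51872 := d43_1 D53710 (iv D51872) (iv F232520)
def n53711 : Q := act 8 n51863
theorem D53711 : act 8 n51863 = n53711 := rfl
theorem F240881 : act 4 n53711 = n51864 := d33_1 D53711 (iv D51864) (iv F232522)
theorem F240882 : act 7 n53711 = n51873 := d42_1 D53711 (iv D51873) (iv F232523)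
theorem F240883 : act 9 n53711 = n51912 := d44_2 D51863 D53711 (iv D51912) (iv D49831) (iv F223101)
def n53712 : Q := act 3 n51865
theorem D53712 : act 3 n51865 = n53712 := rfl
theorem F240884 : act 0 n53712 = n52558 := d2_1 D53712 (iv F237737) F237734
theorem F240885 : act 1 n53712 = n51867 := d10_1 D53712 (iv D51867) (iv F232527)
theorem F240886 : act 4 n53712 = n52020 := d24_2 D51865 D53712 (iv D52020) (iv D49946) (iv F223105)
theorem F240887 : act 6 n53712 = n52598 := d26_2 (iv F232528) D53712 (iv D52598)
theorem F240888 : act 7 n53712 = n52563 := d27_2 F240852 D53712 (iv F240851)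
def n53713 : Q := act 9 n51865
theorem D53713 : act 9 n51865 = n53713 := rfl
theorem F240889 : act 1 n53713 = n51869 := d16_1 D53713 (iv D51869) (iv F232527)
theorem F240890 : act 4 n53713 = n51866 := d34_1 D53713 (iv D51866) D51865
theorem F240891 : act 6 n53713 = n52600 := d41_1 D53713 (iv D52600) (iv F232528)
def n53714 : Q := act 8 n51866
theorem D53714 : act 8 n51866 = n53714 := rfl
theorem F240892 : act 1 n53714 = n51870 := d15_1 D53714 (iv D51870) (iv F232530)
theorem F240893 : act 3 n53714 = n52567 := d28_1 D53714 (iv D52567) F226143 (iv F223758) (iv F232531)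
theorem F240894 : act 5 n53714 = n51881 := d37_1 D53714 (iv D51881) (iv F232532)
theorem F240895 : act 6 n53714 = n52601 := d40_1 D53714 (iv D52601) (iv F232533)
theorem F240896 : act 9 n53714 = n51918 := d44_2 D51866 D53714 (iv D51918) (iv D49835) (iv F223108)
def n53715 : Q := act 5 n51867
theorem D53715 : act 5 n51867 = n53715 := rfl
theorem F240897 : act 0 n53715 = n52636 := d4_1 D53715 (iv D52636) (iv F232534)
theorem F240898 : act 3 n53715 = n51868 := d25_1 D53715 (iv D51868) D51867
theorem F240899 : act 4 n53715 = n52670 := d30_1 D53715 (iv D52670) (iv D50673) (iv F223760) (iv F232535)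
theorem F240900 : act 7 n53715 = n52647 := d36_2 (iv F232537) D53715 (iv D52647)
def n53716 : Q := act 8 n51867
theorem D53716 : act 8 n51867 = n53716 := rfl
theorem F240901 : act 0 n53716 = n52590 := d7_1 D53716 F235270 (iv F232534)
theorem F240902 : act 3 n53716 = n51920 := d28_1 D53716 (iv D51920) (iv D49836) (iv F223112) D51867
theorem F240903 : act 4 n53716 = n52022 := d33_1 D53716 (iv D52022) (iv F232535)
theorem F240904 : act 6 n53716 = n52603 := d40_1 D53716 (iv D52603) (iv F232536)
theorem F240905 : act 7 n53716 = n52596 := d42_1 D53716 F235288 (iv F232537)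
def n53717 : Q := act 9 n51867
theorem D53717 : act 9 n51867 = n53717 := rfl
theorem F240906 : act 0 n53717 = n52637 := d8_1 D53717 (iv D52637) (iv F232534)
theorem F240907 : act 3 n53717 = n51869 := d29_1 D53717 (iv D51869) D51867
theorem F240908 : act 4 n53717 = n52023 := d34_1 D53717 (iv D52023) (iv F232535)
theorem F240909 : act 6 n53717 = n52604 := d41_1 D53717 (iv D52604) (iv F232536)
theorem F240910 : act 7 n53717 = n52648 := d43_1 D53717 (iv D52648) (iv F232537)
def n53718 : Q := act 6 n51868
theorem D53718 : act 6 n51868 = n53718 := rfl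
theorem F240911 : act 0 n53718 = n52155 := d5_1 D53718 F233828 (iv F232538)
theorem F240912 : act 1 n53718 = n52248 := d13_1 D53718 (iv F237720) F237717
theorem F240913 : act 2 n53718 = n51871 := d20_1 D53718 (iv D51871) (iv F232539)
theorem F240914 : act 4 n53718 = n51882 := d31_1 D53718 (iv D51882) (iv F232540)
theorem F240915 : act 5 n53718 = n52605 := d35_1 D53718 (iv D52605) (iv D50612) (iv F223111) D51868
theorem F240916 : act 8 n53718 = n51922 := d40_2 (iv F232541) D53718 (iv D51922)
def n53719 : Q := act 9 n51868
theorem D53719 : act 9 n51868 = n53719 := rfl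
theorem F240917 : act 0 n53719 = n52698 := d8_1 D53719 F235578 (iv F232538)
theorem F240918 : act 2 n53719 = n51872 := d23_1 D53719 (iv D51872) (iv F232539)
theorem F240919 : act 4 n53719 = n51883 := d34_1 D53719 (iv D51883) (iv F232540)
theorem F240920 : act 5 n53719 = n51869 := d38_1 D53719 (iv D51869) D51868
def n53720 : Q := act 8 n51869
theorem D53720 : act 8 n51869 = n53720 := rfl
theorem F240921 : act 0 n53720 = n52665 := d7_1 D53720 F235484 (iv F232542)
theorem F240922 : act 2 n53720 = n51873 := d22_1 D53720 (iv D51873) (iv F232543)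
theorem F240923 : act 4 n53720 = n51870 := d33_1 D53720 (iv D51870) (iv F232544)
theorem F240924 : act 6 n53720 = n52607 := d40_1 D53720 (iv D52607) (iv F232545)
theorem F240925 : act 9 n53720 = n51924 := d44_2 D51869 D53720 (iv D51924) (iv D49838) (iv F223112)
def n53721 : Q := act 7 n51871
theorem D53721 : act 7 n51871 = n53721 := rfl
theorem F240926 : act 4 n53721 = n51885 := d32_1 D53721 (iv D51885) (iv F232552)
theorem F240927 : act 5 n53721 = n52608 := d36_1 D53721 (iv D52608) (iv F232553)
theorem F240928 : act 8 n53721 = n51926 := d42_2 (iv F232554) D53721 (iv D51926)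
def n53722 : Q := act 9 n51871
theorem D53722 : act 9 n51871 = n53722 := rfl
theorem F240929 : act 4 n53722 = n51886 := d34_1 D53722 (iv D51886) (iv F232552)
theorem F240930 : act 5 n53722 = n52609 := d38_1 D53722 (iv D52609) (iv F232553)
theorem F240931 : act 6 n53722 = n51872 := d41_1 D53722 (iv D51872) D51871
def n53723 : Q := act 8 n51872
theorem D53723 : act 8 n51872 = n53723 := rfl
theorem F240932 : act 4 n53723 = n51887 := d33_1 D53723 (iv D51887) (iv F232555)
theorem F240933 : act 5 n53723 = n51873 := d37_1 D53723 (iv D51873) (iv F232556)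
theorem F240934 : act 9 n53723 = n51928 := d44_2 D51872 D53723 (iv D51928) (iv D49841) (iv F223119)
def n53724 : Q := act 3 n51873
theorem D53724 : act 3 n51873 = n53724 := rfl
theorem F240935 : act 6 n53724 = n52611 := d26_2 (iv F232558) D53724 (iv D52611)
theorem F240936 : act 9 n53724 = n51929 := d29_2 (iv F232559) D53724 (iv D51929)
def n53725 : Q := act 8 n51874
theorem D53725 : act 8 n51874 = n53725 := rfl
theorem F240937 : act 0 n53725 = n52736 := d7_1 D53725 (iv D52736) (iv F232560)
theorem F240938 : act 1 n53725 = n51877 := d15_1 D53725 (iv D51877) (iv F232561)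
theorem F240939 : act 3 n53725 = n52573 := d28_1 D53725 (iv D52573) F226160 (iv F223776) (iv F232562)
theorem F240940 : act 6 n53725 = n53725 := d40_1 D53725 (iv D53725) F232563
theorem F240941 : act 7 n53725 = n51881 := d42_1 D53725 (iv D51881) (iv F232564)
theorem F240942 : act 9 n53725 = n51933 := d44_2 D51874 D53725 (iv D51933) (iv D49845) (iv F223129)
def n53726 : Q := act 6 n51875
theorem D53726 : act 6 n51875 = n53726 := rfl
theorem F240943 : act 0 n53726 = n52720 := d5_1 D53726 (iv D52720) (iv F232565)
theorem F240944 : act 1 n53726 = n52703 := d13_1 D53726 (iv F237678) F237674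
theorem F240945 : act 2 n53726 = n51878 := d20_1 D53726 (iv D51878) (iv F232566)
theorem F240946 : act 3 n53726 = n52701 := d26_1 D53726 F235591 (iv F232567)
theorem F240947 : act 5 n53726 = n53726 := d35_1 D53726 (iv D53726) (iv D51875) F223133 D51875
theorem F240948 : act 8 n53726 = n51934 := d40_2 (iv F232569) D53726 (iv D51934)
theorem F240949 : act 7 n52708 = n53726 := d27_0 F240946 F235592 D52708
def n53727 : Q := act 9 n51875
theorem D53727 : act 9 n51875 = n53727 := rfl
theorem F240950 : act 0 n53727 = n52699 := d8_1 D53727 F235582 (iv F232565)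
theorem F240951 : act 2 n53727 = n51879 := d23_1 D53727 (iv D51879) (iv F232566)
theorem F240952 : act 3 n53727 = n52739 := d29_1 D53727 F235736 (iv F232567)
theorem F240953 : act 5 n53727 = n51876 := d38_1 D53727 (iv D51876) D51875
theorem F240954 : act 7 n53727 = n51883 := d43_1 D53727 (iv D51883) (iv F232568)
def n53728 : Q := act 8 n51876
theorem D53728 : act 8 n51876 = n53728 := rfl
theorem F240955 : act 0 n53728 = n52677 := d7_1 D53728 F235519 (iv F232570)
theorem F240956 : act 2 n53728 = n51880 := d22_1 D53728 (iv D51880) (iv F232571)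
theorem F240957 : act 4 n53728 = n51877 := d33_1 D53728 (iv D51877) (iv F232573)
theorem F240958 : act 6 n53728 = n53728 := d40_1 D53728 (iv D53728) F232574
theorem F240959 : act 7 n53728 = n51884 := d42_1 D53728 (iv D51884) (iv F232575)
theorem F240960 : act 9 n53728 = n51936 := d44_2 D51876 D53728 (iv D51936) (iv D49847) (iv F223135)
def n53729 : Q := act 7 n51878
theorem D53729 : act 7 n51878 = n53729 := rfl
theorem F240961 : act 1 n53729 = n52716 := d14_1 D53729 F237562 F237557
theorem F240962 : act 2 n53729 = n52708 := d21_1 D53729 F240949 F240945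
theorem F240963 : act 3 n53729 = n53729 := d27_1 D53729 (iv D53729) F232582
theorem F240964 : act 5 n53729 = n53729 := d36_1 D53729 (iv D53729) F232583
theorem F240965 : act 6 n53729 = n51885 := d39_1 D53729 (iv D51885) (iv D49813) (iv F223142) D51878
theorem F240966 : act 8 n53729 = n51938 := d42_2 (iv F232584) D53729 (iv D51938)
def n53730 : Q := act 9 n51878
theorem D53730 : act 9 n51878 = n53730 := rfl
theorem F240967 : act 3 n53730 = n53730 := d29_1 D53730 (iv D53730) F232582
theorem F240968 : act 5 n53730 = n53730 := d38_1 D53730 (iv D53730) F232583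
theorem F240969 : act 6 n53730 = n51879 := d41_1 D53730 (iv D51879) D51878
def n53731 : Q := act 8 n51879
theorem D53731 : act 8 n51879 = n53731 := rfl
theorem F240970 : act 5 n53731 = n51880 := d37_1 D53731 (iv D51880) (iv F232586)
theorem F240971 : act 7 n53731 = n51887 := d42_1 D53731 (iv D51887) (iv F232587)
theorem F240972 : act 9 n53731 = n51940 := d44_2 D51879 D53731 (iv D51940) (iv D49850) (iv F223143)
def n53732 : Q := act 3 n51880
theorem D53732 : act 3 n51880 = n53732 := rfl
theorem F240973 : act 6 n53732 = n53732 := d26_2 F232589 D53732 (iv D53732)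
theorem F240974 : act 7 n53732 = n51888 := d27_2 (iv F232590) D53732 (iv D51888)
theorem F240975 : act 8 n53732 = n53732 := d28_2 D51880 D53732 (iv D53732) (iv D51880) F223144
theorem F240976 : act 9 n53732 = n51941 := d29_2 (iv F232591) D53732 (iv D51941)
def n53733 : Q := act 7 n51882
theorem D53733 : act 7 n51882 = n53733 := rfl
theorem F240977 : act 0 n53733 = n52149 := d6_1 D53733 F233805 (iv F232596)
theorem F240978 : act 1 n53733 = n52014 := d14_1 D53733 F233152 (iv F232597)
theorem F240979 : act 2 n53733 = n51885 := d21_1 D53733 (iv D51885) (iv F232598)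
theorem F240980 : act 3 n53733 = n52012 := d27_1 D53733 F233141 (iv F232599)
theorem F240981 : act 5 n53733 = n51889 := d36_1 D53733 (iv D51889) (iv F232600)
theorem F240982 : act 6 n53733 = n52708 := d39_1 D53733 F240949 (iv D53726) F232568 D51882
theorem F240983 : act 8 n53733 = n51947 := d42_2 (iv F232601) D53733 (iv D51947)
def n53734 : Q := act 9 n51882
theorem D53734 : act 9 n51882 = n53734 := rfl
theorem F240984 : act 0 n53734 = n52156 := d8_1 D53734 (iv D52156) (iv F232596)
theorem F240985 : act 1 n53734 = n52249 := d16_1 D53734 (iv D52249) (iv F232597)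
theorem F240986 : act 2 n53734 = n51886 := d23_1 D53734 (iv D51886) (iv F232598)
theorem F240987 : act 3 n53734 = n52185 := d29_1 D53734 (iv D52185) (iv F232599)
theorem F240988 : act 5 n53734 = n51890 := d38_1 D53734 (iv D51890) (iv F232600)
theorem F240989 : act 6 n53734 = n51883 := d41_1 D53734 (iv D51883) D51882
def n53735 : Q := act 8 n51883
theorem D53735 : act 8 n51883 = n53735 := rfl
theorem F240990 : act 0 n53735 = n52689 := d7_1 D53735 F235553 (iv F232602)
theorem F240991 : act 2 n53735 = n51887 := d22_1 D53735 (iv D51887) (iv F232603)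
theorem F240992 : act 5 n53735 = n51884 := d37_1 D53735 (iv D51884) (iv F232605)
theorem F240993 : act 9 n53735 = n51949 := d44_2 D51883 D53735 (iv D51949) (iv D49857) (iv F223157)
def n53736 : Q := act 3 n51884
theorem D53736 : act 3 n51884 = n53736 := rfl
theorem F240994 : act 0 n53736 = n52688 := d2_1 D53736 F235550 (iv F232606)
theorem F240995 : act 4 n53736 = n52118 := d24_2 (iv F232608) D53736 (iv D52118) F224390 (iv F223165)
theorem F240996 : act 6 n53736 = n51892 := d26_2 (iv F232609) D53736 (iv D51892)
theorem F240997 : act 8 n53736 = n52129 := d28_2 D51884 D53736 F233711 F226876 (iv F223160)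
theorem F240998 : act 9 n53736 = n51950 := d29_2 (iv F232610) D53736 (iv D51950)
theorem F240999 : act 2 n52285 = n53736 := d22_3 F240997 F233710 (iv F234357)
def n53737 : Q := act 9 n51885
theorem D53737 : act 9 n51885 = n53737 := rfl
theorem F241000 : act 3 n53737 = n53737 := d29_1 D53737 (iv D53737) F232611
theorem F241001 : act 5 n53737 = n51893 := d38_1 D53737 (iv D51893) (iv F232612)
theorem F241002 : act 7 n53737 = n51886 := d43_1 D53737 (iv D51886) D51885
def n53738 : Q := act 8 n51886
theorem D53738 : act 8 n51886 = n53738 := rfl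
theorem F241003 : act 5 n53738 = n51894 := d37_1 D53738 (iv D51894) (iv F232615)
theorem F241004 : act 6 n53738 = n51887 := d40_1 D53738 (iv D51887) (iv F232616)
theorem F241005 : act 9 n53738 = n51953 := d44_2 D51886 D53738 (iv D51953) (iv D49861) (iv F223170)
def n53739 : Q := act 3 n51887
theorem D53739 : act 3 n51887 = n53739 := rfl
theorem F241006 : act 5 n53739 = n51888 := d25_2 (iv F232617) D53739 (iv D51888)
theorem F241007 : act 8 n53739 = n53739 := d28_2 D51887 D53739 (iv D53739) (iv D51887) F223171
theorem F241008 : act 9 n53739 = n51954 := d29_2 (iv F232618) D53739 (iv D51954)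
def n53740 : Q := act 2 n51888
theorem D53740 : act 2 n51888 = n53740 := rfl
theorem F241009 : act 3 n53740 = n52285 := d17_2 D51888 D53740 F240999 (iv D53736) F232607
theorem F241010 : act 4 n53740 = n52284 := d18_2 F240192 D53740 (iv F240191)
theorem F241011 : act 6 n53740 = n51896 := d20_2 (iv F232619) D53740 (iv D51896)
theorem F241012 : act 8 n53740 = n53740 := d22_2 F232620 D53740 (iv D53740)
theorem F241013 : act 9 n53740 = n51955 := d23_2 (iv F232621) D53740 (iv D51955)
def n53741 : Q := act 9 n51889
theorem D53741 : act 9 n51889 = n53741 := rfl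
theorem F241014 : act 0 n53741 = n52163 := d8_1 D53741 (iv D52163) (iv F232622)
theorem F241015 : act 1 n53741 = n52266 := d16_1 D53741 (iv D52266) (iv F232623)
theorem F241016 : act 2 n53741 = n51893 := d23_1 D53741 (iv D51893) (iv F232624)
theorem F241017 : act 3 n53741 = n52192 := d29_1 D53741 (iv D52192) (iv F232625)
theorem F241018 : act 4 n53741 = n52626 := d34_1 D53741 (iv D52626) (iv F232626)
theorem F241019 : act 6 n53741 = n53741 := d41_1 D53741 (iv D53741) F232627
theorem F241020 : act 7 n53741 = n51890 := d43_1 D53741 (iv D51890) D51889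
def n53742 : Q := act 8 n51890
theorem D53742 : act 8 n51890 = n53742 := rfl
theorem F241021 : act 0 n53742 = n52169 := d7_1 D53742 (iv D52169) (iv F232629)
theorem F241022 : act 1 n53742 = n52276 := d15_1 D53742 (iv D52276) (iv F232630)
theorem F241023 : act 2 n53742 = n51894 := d22_1 D53742 (iv D51894) (iv F232631)
theorem F241024 : act 4 n53742 = n52627 := d33_1 D53742 (iv D52627) (iv F232633)
theorem F241025 : act 6 n53742 = n51891 := d40_1 D53742 (iv D51891) (iv F232634)
theorem F241026 : act 9 n53742 = n51961 := d44_2 D51890 D53742 (iv D51961) (iv D49870) (iv F223186)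
def n53743 : Q := act 8 n51893
theorem D53743 : act 8 n51893 = n53743 := rfl
theorem F241027 : act 4 n53743 = n52629 := d33_1 D53743 (iv D52629) (iv F232649)
theorem F241028 : act 6 n53743 = n53743 := d40_1 D53743 (iv D53743) F232650
theorem F241029 : act 7 n53743 = n51894 := d42_1 D53743 (iv D51894) (iv F232651)
theorem F241030 : act 9 n53743 = n51965 := d44_2 D51893 D53743 (iv D51965) (iv D49874) (iv F223202)
def n53744 : Q := act 3 n51894
theorem D53744 : act 3 n51894 = n53744 := rfl
theorem F241031 : act 6 n53744 = n51895 := d26_2 (iv F232653) D53744 (iv D51895)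
theorem F241032 : act 8 n53744 = n53744 := d28_2 D51894 D53744 (iv D53744) (iv D51894) F223203
theorem F241033 : act 9 n53744 = n51966 := d29_2 (iv F232654) D53744 (iv D51966)
def n53745 : Q := act 2 n51895
theorem D53745 : act 2 n51895 = n53745 := rfl
theorem F241034 : act 1 n53745 = n51963 := d9_1 D53745 (iv D51963) (iv F232870) (iv F237650) F237649
theorem F241035 : act 3 n53745 = n51968 := d17_2 D51895 D53745 (iv F237938) F237939 F232637
theorem F241036 : act 4 n53745 = n52232 := d18_2 F237272 D53745 (iv F237271)
theorem F241037 : act 5 n53745 = n51896 := d19_2 (iv F232655) D53745 (iv D51896)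
theorem F241038 : act 7 n53745 = n53745 := d21_2 F232656 D53745 (iv D53745)
theorem F241039 : act 8 n53745 = n53745 := d22_2 F232657 D53745 (iv D53745)
theorem F241040 : act 9 n53745 = n51967 := d23_2 (iv F232658) D53745 (iv D51967)
def n53746 : Q := act 1 n51896
theorem D53746 : act 1 n51896 = n53746 := rfl
theorem F241041 : act 2 n53746 = n51962 := d9_2 D51896 D53746 F237662 (iv D53057) F229136
theorem F241042 : act 3 n53746 = n51967 := d10_2 (iv F232659) D53746 (iv F232904)
theorem F241043 : act 4 n53746 = n52292 := d11_2 (iv F232660) D53746 F234392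
theorem F241044 : act 5 n53746 = n51963 := d12_2 F241037 D53746 (iv F241034)
theorem F241045 : act 7 n53746 = n53746 := d14_2 F232661 D53746 (iv D53746)
theorem F241046 : act 8 n53746 = n53746 := d15_2 F232662 D53746 (iv D53746)
theorem F241047 : act 9 n53746 = n51968 := d16_2 (iv F232663) D53746 (iv D51968)
def n53747 : Q := act 4 n51897
theorem D53747 : act 4 n51897 = n53747 := rfl
theorem F241048 : act 0 n53747 = n52592 := d3_1 D53747 F235275 (iv F232664)
theorem F241049 : act 1 n53747 = n51898 := d11_1 D53747 (iv D51898) D51897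
theorem F241050 : act 3 n53747 = n52026 := d24_1 D53747 (iv D52026) (iv D49954) F223432 (iv F232665)
theorem F241051 : act 6 n53747 = n51904 := d31_2 (iv F232667) D53747 (iv D51904)
theorem F241052 : act 7 n53747 = n52031 := d32_2 (iv F232668) D53747 (iv D52031)
def n53748 : Q := act 9 n51897
theorem D53748 : act 9 n51897 = n53748 := rfl
theorem F241053 : act 0 n53748 = n52715 := d8_1 D53748 (iv D52715) (iv F232664)
theorem F241054 : act 1 n53748 = n51899 := d16_1 D53748 (iv D51899) D51897
theorem F241055 : act 3 n53748 = n51981 := d29_1 D53748 (iv D51981) (iv F232665)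
theorem F241056 : act 5 n53748 = n53748 := d38_1 D53748 (iv D53748) F232666
theorem F241057 : act 6 n53748 = n51905 := d41_1 D53748 (iv D51905) (iv F232667)
theorem F241058 : act 7 n53748 = n51996 := d43_1 D53748 F233042 (iv F232668)
def n53749 : Q := act 3 n51898
theorem D53749 : act 3 n51898 = n53749 := rfl
theorem F241059 : act 1 n53749 = n52026 := d10_1 D53749 (iv F241050) F241049
theorem F241060 : act 4 n53749 = n51982 := d24_2 D51898 D53749 (iv D51982) (iv D49891) (iv F223213)
theorem F241061 : act 6 n53749 = n51906 := d26_2 (iv F232670) D53749 (iv D51906)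
theorem F241062 : act 7 n53749 = n52027 := d27_2 (iv F232671) D53749 F233228
theorem F241063 : act 8 n53749 = n52558 := d28_2 F240832 D53749 (iv F237737) F237740 (iv F240829)
def n53750 : Q := act 5 n51898
theorem D53750 : act 5 n51898 = n53750 := rfl
theorem F241064 : act 2 n53750 = n51900 := d19_1 D53750 (iv D51900) (iv F232669)
theorem F241065 : act 4 n53750 = n53750 := d30_1 D53750 (iv D53750) (iv D51898) F223214 D51898
theorem F241066 : act 7 n53750 = n52630 := d36_2 (iv F232671) D53750 (iv D52630)
def n53751 : Q := act 9 n51898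
theorem D53751 : act 9 n51898 = n53751 := rfl
theorem F241067 : act 2 n53751 = n51901 := d23_1 D53751 (iv D51901) (iv F232669)
theorem F241068 : act 4 n53751 = n51899 := d34_1 D53751 (iv D51899) D51898
theorem F241069 : act 6 n53751 = n51908 := d41_1 D53751 (iv D51908) (iv F232670)
theorem F241070 : act 7 n53751 = n52631 := d43_1 D53751 (iv D52631) (iv F232671)
def n53752 : Q := act 8 n51899
theorem D53752 : act 8 n51899 = n53752 := rfl
theorem F241071 : act 2 n53752 = n51902 := d22_1 D53752 (iv D51902) (iv F232672)
theorem F241072 : act 5 n53752 = n53752 := d37_1 D53752 (iv D53752) F232674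
theorem F241073 : act 6 n53752 = n51909 := d40_1 D53752 (iv D51909) (iv F232675)
theorem F241074 : act 7 n53752 = n52632 := d42_1 D53752 (iv D52632) (iv F232676)
def n53753 : Q := act 6 n51900
theorem D53753 : act 6 n51900 = n53753 := rfl
theorem F241075 : act 4 n53753 = n53753 := d31_1 D53753 (iv D53753) F232677
theorem F241076 : act 5 n53753 = n51910 := d35_1 D53753 (iv D51910) (iv D49830) (iv F223217) D51900
def n53754 : Q := act 9 n51900
theorem D53754 : act 9 n51900 = n53754 := rfl
theorem F241077 : act 4 n53754 = n53754 := d34_1 D53754 (iv D53754) F232677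
theorem F241078 : act 5 n53754 = n51901 := d38_1 D53754 (iv D51901) D51900
theorem F241079 : act 7 n53754 = n52634 := d43_1 D53754 (iv D52634) (iv F232678)
def n53755 : Q := act 8 n51901
theorem D53755 : act 8 n51901 = n53755 := rfl
theorem F241080 : act 4 n53755 = n51902 := d33_1 D53755 (iv D51902) (iv F232679)
theorem F241081 : act 6 n53755 = n51912 := d40_1 D53755 (iv D51912) (iv F232680)
theorem F241082 : act 7 n53755 = n52635 := d42_1 D53755 (iv D52635) (iv F232681)
def n53756 : Q := act 4 n51903
theorem D53756 : act 4 n51903 = n53756 := rfl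
theorem F241083 : act 0 n53756 = n51904 := d3_1 D53756 (iv D51904) D51903
theorem F241084 : act 1 n53756 = n52568 := d11_1 D53756 F235212 (iv F232685)
theorem F241085 : act 3 n53756 = n52585 := d24_1 D53756 (iv D52585) F226222 F223463 (iv F232686)
theorem F241086 : act 6 n53756 = n52592 := d31_2 (iv F232688) D53756 F235275
theorem F241087 : act 7 n53756 = n51913 := d32_2 (iv F232689) D53756 (iv D51913)
theorem F241088 : act 8 n53756 = n52565 := d33_2 (iv F232690) D53756 F235206
def n53757 : Q := act 9 n51903
theorem D53757 : act 9 n51903 = n53757 := rfl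
theorem F241089 : act 0 n53757 = n51905 := d8_1 D53757 (iv D51905) D51903
theorem F241090 : act 1 n53757 = n52576 := d16_1 D53757 (iv D52576) (iv F232685)
theorem F241091 : act 3 n53757 = n51985 := d29_1 D53757 (iv D51985) (iv F232686)
theorem F241092 : act 5 n53757 = n51930 := d38_1 D53757 (iv D51930) (iv F232687)
theorem F241093 : act 6 n53757 = n52715 := d41_1 D53757 (iv D52715) (iv F232688)
theorem F241094 : act 7 n53757 = n51914 := d43_1 D53757 (iv D51914) (iv F232689)
def n53758 : Q := act 3 n51904
theorem D53758 : act 3 n51904 = n53758 := rfl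
theorem F241095 : act 0 n53758 = n52585 := d2_1 D53758 (iv F241085) F241083
theorem F241096 : act 1 n53758 = n51906 := d10_1 D53758 (iv D51906) (iv F232691)
theorem F241097 : act 2 n53758 = n52521 := d17_1 D53758 (iv D52521) (iv F233611) (iv F237683) F237682
theorem F241098 : act 4 n53758 = n51986 := d24_2 D51904 D53758 (iv D51986) (iv D49896) (iv F223223)
theorem F241099 : act 6 n53758 = n52026 := d26_2 F241051 D53758 (iv F241050)
theorem F241100 : act 7 n53758 = n51915 := d27_2 (iv F232692) D53758 (iv D51915)
theorem F241101 : act 8 n53758 = n52553 := d28_2 F240853 D53758 (iv F237766) F237769 (iv F240851)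
def n53759 : Q := act 5 n51904
theorem D53759 : act 5 n51904 = n53759 := rfl
theorem F241102 : act 1 n53759 = n51907 := d12_1 D53759 (iv D51907) (iv F232691)
theorem F241103 : act 2 n53759 = n52565 := d19_1 D53759 (iv F237684) F237682
theorem F241104 : act 4 n53759 = n51931 := d30_1 D53759 (iv D51931) (iv D49844) (iv F223224) D51904
theorem F241105 : act 7 n53759 = n51916 := d36_2 (iv F232692) D53759 (iv D51916)
def n53760 : Q := act 9 n51904
theorem D53760 : act 9 n51904 = n53760 := rfl
theorem F241106 : act 1 n53760 = n51908 := d16_1 D53760 (iv D51908) (iv F232691)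
theorem F241107 : act 4 n53760 = n51905 := d34_1 D53760 (iv D51905) D51904
theorem F241108 : act 7 n53760 = n51917 := d43_1 D53760 (iv D51917) (iv F232692)
def n53761 : Q := act 8 n51905
theorem D53761 : act 8 n51905 = n53761 := rfl
theorem F241109 : act 1 n53761 = n51909 := d15_1 D53761 (iv D51909) (iv F232693)
theorem F241110 : act 5 n53761 = n51933 := d37_1 D53761 (iv D51933) (iv F232695)
theorem F241111 : act 7 n53761 = n51918 := d42_1 D53761 (iv D51918) (iv F232696)
def n53762 : Q := act 5 n51906
theorem D53762 : act 5 n51906 = n53762 := rfl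
theorem F241112 : act 3 n53762 = n51907 := d25_1 D53762 (iv D51907) D51906
theorem F241113 : act 4 n53762 = n53762 := d30_1 D53762 (iv D53762) F232697 F223475 (iv F232697)
theorem F241114 : act 7 n53762 = n51919 := d36_2 (iv F232698) D53762 (iv D51919)
def n53763 : Q := act 8 n51906
theorem D53763 : act 8 n51906 = n53763 := rfl
theorem F241115 : act 0 n53763 = n52598 := d7_1 D53763 (iv F240569) F240565
theorem F241116 : act 1 n53763 = n52553 := d15_1 D53763 (iv F241101) F241096
theorem F241117 : act 3 n53763 = n52596 := d28_1 D53763 F235288 (iv F232511) F232513 D51906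
theorem F241118 : act 4 n53763 = n51987 := d33_1 D53763 (iv D51987) (iv F232697)
theorem F241119 : act 6 n53763 = n52558 := d40_1 D53763 (iv F241063) F241061
theorem F241120 : act 7 n53763 = n51920 := d42_1 D53763 (iv D51920) (iv F232698)
def n53764 : Q := act 9 n51906
theorem D53764 : act 9 n51906 = n53764 := rfl
theorem F241121 : act 3 n53764 = n51908 := d29_1 D53764 (iv D51908) D51906
theorem F241122 : act 4 n53764 = n51988 := d34_1 D53764 (iv D51988) (iv F232697)
theorem F241123 : act 7 n53764 = n51921 := d43_1 D53764 (iv D51921) (iv F232698)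
def n53765 : Q := act 6 n51907
theorem D53765 : act 6 n51907 = n53765 := rfl
theorem F241124 : act 2 n53765 = n51910 := d20_1 D53765 (iv D51910) (iv F232699)
theorem F241125 : act 4 n53765 = n51934 := d31_1 D53765 (iv D51934) (iv F232700)
def n53766 : Q := act 9 n51907
theorem D53766 : act 9 n51907 = n53766 := rfl
theorem F241126 : act 2 n53766 = n51911 := d23_1 D53766 (iv D51911) (iv F232699)
theorem F241127 : act 4 n53766 = n51935 := d34_1 D53766 (iv D51935) (iv F232700)
theorem F241128 : act 5 n53766 = n51908 := d38_1 D53766 (iv D51908) D51907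
theorem F241129 : act 7 n53766 = n51923 := d43_1 D53766 (iv D51923) (iv F232701)
def n53767 : Q := act 8 n51908
theorem D53767 : act 8 n51908 = n53767 := rfl
theorem F241130 : act 2 n53767 = n51912 := d22_1 D53767 (iv D51912) (iv F232702)
theorem F241131 : act 4 n53767 = n51909 := d33_1 D53767 (iv D51909) (iv F232703)
theorem F241132 : act 7 n53767 = n51924 := d42_1 D53767 (iv D51924) (iv F232704)
def n53768 : Q := act 3 n51909
theorem D53768 : act 3 n51909 = n53768 := rfl
theorem F241133 : act 0 n53768 = n52594 := d2_1 D53768 (iv F240584) F240581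
theorem F241134 : act 2 n53768 = n52551 := d17_1 D53768 (iv F240231) F240230 F231899 (iv F232705)
theorem F241135 : act 5 n53768 = n51937 := d25_2 (iv F232706) D53768 (iv D51937)
theorem F241136 : act 7 n53768 = n51925 := d27_2 (iv F232707) D53768 (iv D51925)
theorem F241137 : act 8 n53768 = n51989 := d28_2 D51909 D53768 (iv D51989) (iv D49900) (iv F223229)
theorem F241138 : act 9 n53768 = n52561 := d29_2 F240875 D53768 (iv F240872)
def n53769 : Q := act 7 n51910
theorem D53769 : act 7 n51910 = n53769 := rfl
theorem F241139 : act 4 n53769 = n51938 := d32_1 D53769 (iv D51938) (iv F232708)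
theorem F241140 : act 6 n53769 = n51926 := d39_1 D53769 (iv D51926) (iv D49840) (iv F223233) D51910
def n53770 : Q := act 9 n51910
theorem D53770 : act 9 n51910 = n53770 := rfl
theorem F241141 : act 4 n53770 = n51939 := d34_1 D53770 (iv D51939) (iv F232708)
theorem F241142 : act 6 n53770 = n51911 := d41_1 D53770 (iv D51911) D51910
def n53771 : Q := act 8 n51911
theorem D53771 : act 8 n51911 = n53771 := rfl
theorem F241143 : act 4 n53771 = n51940 := d33_1 D53771 (iv D51940) (iv F232709)
theorem F241144 : act 5 n53771 = n51912 := d37_1 D53771 (iv D51912) (iv F232710)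
theorem F241145 : act 7 n53771 = n51928 := d42_1 D53771 (iv D51928) (iv F232711)
def n53772 : Q := act 3 n51912
theorem D53772 : act 3 n51912 = n53772 := rfl
theorem F241146 : act 7 n53772 = n51929 := d27_2 (iv F232713) D53772 (iv D51929)
def n53773 : Q := act 9 n51913
theorem D53773 : act 9 n51913 = n53773 := rfl
theorem F241147 : act 0 n53773 = n51917 := d8_1 D53773 (iv D51917) (iv F232714)
theorem F241148 : act 4 n53773 = n51914 := d34_1 D53773 (iv D51914) D51913
theorem F241149 : act 6 n53773 = n52648 := d41_1 D53773 (iv D52648) (iv F232715)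
def n53774 : Q := act 8 n51914
theorem D53774 : act 8 n51914 = n53774 := rfl
theorem F241150 : act 0 n53774 = n51918 := d7_1 D53774 (iv D51918) (iv F232716)
theorem F241151 : act 5 n53774 = n51942 := d37_1 D53774 (iv D51942) (iv F232718)
theorem F241152 : act 6 n53774 = n52649 := d40_1 D53774 (iv D52649) (iv F232719)
def n53775 : Q := act 5 n51915
theorem D53775 : act 5 n51915 = n53775 := rfl
theorem F241153 : act 1 n53775 = n51919 := d12_1 D53775 (iv D51919) (iv F232720)
theorem F241154 : act 3 n53775 = n51916 := d25_1 D53775 (iv D51916) D51915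
theorem F241155 : act 4 n53775 = n53775 := d30_1 D53775 (iv D53775) F232721 F223504 (iv F232721)
def n53776 : Q := act 9 n51915
theorem D53776 : act 9 n51915 = n53776 := rfl
theorem F241156 : act 1 n53776 = n51921 := d16_1 D53776 (iv D51921) (iv F232720)
theorem F241157 : act 3 n53776 = n51917 := d29_1 D53776 (iv D51917) D51915
theorem F241158 : act 4 n53776 = n51992 := d34_1 D53776 (iv D51992) (iv F232721)
theorem F241159 : act 6 n53776 = n52651 := d41_1 D53776 (iv D52651) (iv F232722)
def n53777 : Q := act 6 n51916
theorem D53777 : act 6 n51916 = n53777 := rfl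
theorem F241160 : act 0 n53777 = n52212 := d5_1 D53777 (iv F237505) F237501
theorem F241161 : act 1 n53777 = n51922 := d13_1 D53777 (iv D51922) (iv F232723)
theorem F241162 : act 2 n53777 = n52596 := d20_1 D53777 F237741 F237736
theorem F241163 : act 4 n53777 = n51943 := d31_1 D53777 (iv D51943) (iv F232724)
theorem F241164 : act 5 n53777 = n52652 := d35_1 D53777 (iv D52652) (iv D50659) (iv F223242) D51916
theorem F241165 : act 8 n53777 = n52248 := d40_2 F237721 D53777 (iv F237720)
def n53778 : Q := act 9 n51916
theorem D53778 : act 9 n51916 = n53778 := rfl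
theorem F241166 : act 1 n53778 = n51923 := d16_1 D53778 (iv D51923) (iv F232723)
theorem F241167 : act 4 n53778 = n51944 := d34_1 D53778 (iv D51944) (iv F232724)
theorem F241168 : act 5 n53778 = n51917 := d38_1 D53778 (iv D51917) D51916
def n53779 : Q := act 8 n51917
theorem D53779 : act 8 n51917 = n53779 := rfl
theorem F241169 : act 1 n53779 = n51924 := d15_1 D53779 (iv D51924) (iv F232725)
theorem F241170 : act 4 n53779 = n51918 := d33_1 D53779 (iv D51918) (iv F232726)
theorem F241171 : act 6 n53779 = n52654 := d40_1 D53779 (iv D52654) (iv F232727)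
def n53780 : Q := act 3 n51918
theorem D53780 : act 3 n51918 = n53780 := rfl
theorem F241172 : act 1 n53780 = n51925 := d10_1 D53780 (iv D51925) (iv F232728)
theorem F241173 : act 5 n53780 = n51946 := d25_2 (iv F232729) D53780 (iv D51946)
theorem F241174 : act 6 n53780 = n52655 := d26_2 (iv F232730) D53780 (iv D52655)
theorem F241175 : act 8 n53780 = n51993 := d28_2 D51918 D53780 (iv D51993) (iv D49906) (iv F223244)
theorem F241176 : act 9 n53780 = n52567 := d29_2 F240896 D53780 (iv F240893)
def n53781 : Q := act 6 n51919
theorem D53781 : act 6 n51919 = n53781 := rfl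
theorem F241177 : act 3 n53781 = n51922 := d26_1 D53781 (iv D51922) (iv F232731)
theorem F241178 : act 4 n53781 = n53781 := d31_1 D53781 (iv D53781) F232732
theorem F241179 : act 5 n53781 = n52656 := d35_1 D53781 (iv D52656) (iv D50662) (iv F223248) D51919
def n53782 : Q := act 8 n51919
theorem D53782 : act 8 n51919 = n53782 := rfl
theorem F241180 : act 4 n53782 = n53782 := d33_1 D53782 (iv D53782) F232732
theorem F241181 : act 5 n53782 = n51920 := d37_1 D53782 (iv D51920) D51919
def n53783 : Q := act 9 n51919
theorem D53783 : act 9 n51919 = n53783 := rfl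
theorem F241182 : act 3 n53783 = n51923 := d29_1 D53783 (iv D51923) (iv F232731)
theorem F241183 : act 4 n53783 = n53783 := d34_1 D53783 (iv D53783) F232732
theorem F241184 : act 5 n53783 = n51921 := d38_1 D53783 (iv D51921) D51919
def n53784 : Q := act 9 n51920
theorem D53784 : act 9 n51920 = n53784 := rfl
theorem F241185 : act 4 n53784 = n51994 := d34_1 D53784 (iv D51994) (iv F232733)
theorem F241186 : act 6 n53784 = n52659 := d41_1 D53784 (iv D52659) (iv F232734)
def n53785 : Q := act 8 n51921
theorem D53785 : act 8 n51921 = n53785 := rfl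
theorem F241187 : act 4 n53785 = n51995 := d33_1 D53785 (iv D51995) (iv F232736)
theorem F241188 : act 6 n53785 = n52660 := d40_1 D53785 (iv D52660) (iv F232737)
def n53786 : Q := act 7 n51922
theorem D53786 : act 7 n51922 = n53786 := rfl
theorem F241189 : act 2 n53786 = n51926 := d21_1 D53786 (iv D51926) (iv F232738)
theorem F241190 : act 4 n53786 = n51947 := d32_1 D53786 (iv D51947) (iv F232739)
theorem F241191 : act 5 n53786 = n52661 := d36_1 D53786 (iv D52661) (iv F232740)
def n53787 : Q := act 9 n51922
theorem D53787 : act 9 n51922 = n53787 := rfl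
theorem F241192 : act 2 n53787 = n51927 := d23_1 D53787 (iv D51927) (iv F232738)
theorem F241193 : act 4 n53787 = n51948 := d34_1 D53787 (iv D51948) (iv F232739)
theorem F241194 : act 5 n53787 = n52662 := d38_1 D53787 (iv D52662) (iv F232740)
theorem F241195 : act 6 n53787 = n51923 := d41_1 D53787 (iv D51923) D51922
def n53788 : Q := act 8 n51923
theorem D53788 : act 8 n51923 = n53788 := rfl
theorem F241196 : act 2 n53788 = n51928 := d22_1 D53788 (iv D51928) (iv F232741)
theorem F241197 : act 4 n53788 = n51949 := d33_1 D53788 (iv D51949) (iv F232742)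
theorem F241198 : act 5 n53788 = n51924 := d37_1 D53788 (iv D51924) (iv F232743)
def n53789 : Q := act 3 n51924
theorem D53789 : act 3 n51924 = n53789 := rfl
theorem F241199 : act 6 n53789 = n52664 := d26_2 (iv F232746) D53789 (iv D52664)
def n53790 : Q := act 4 n51925
theorem D53790 : act 4 n51925 = n53790 := rfl
theorem F241200 : act 0 n53790 = n52607 := d3_1 D53790 F235315 (iv F232747)
theorem F241201 : act 2 n53790 = n52552 := d18_1 D53790 F235164 (iv F232748)
theorem F241202 : act 6 n53790 = n52665 := d31_2 (iv F232750) D53790 (iv D52665)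
theorem F241203 : act 8 n53790 = n51997 := d33_2 (iv F232751) D53790 (iv D51997)
theorem F241204 : act 9 n53790 = n52570 := d34_2 (iv F232752) D53790 F235218
def n53791 : Q := act 9 n51926
theorem D53791 : act 9 n51926 = n53791 := rfl
theorem F241205 : act 4 n53791 = n51952 := d34_1 D53791 (iv D51952) (iv F232753)
theorem F241206 : act 5 n53791 = n52666 := d38_1 D53791 (iv D52666) (iv F232754)
theorem F241207 : act 7 n53791 = n51927 := d43_1 D53791 (iv D51927) D51926
def n53792 : Q := act 8 n51927
theorem D53792 : act 8 n51927 = n53792 := rfl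
theorem F241208 : act 4 n53792 = n51953 := d33_1 D53792 (iv D51953) (iv F232755)
theorem F241209 : act 5 n53792 = n52667 := d37_1 D53792 (iv D52667) (iv F232756)
theorem F241210 : act 6 n53792 = n51928 := d40_1 D53792 (iv D51928) (iv F232757)
def n53793 : Q := act 3 n51928
theorem D53793 : act 3 n51928 = n53793 := rfl
theorem F241211 : act 5 n53793 = n51929 := d25_2 (iv F232759) D53793 (iv D51929)
def n53794 : Q := act 2 n51929
theorem D53794 : act 2 n51929 = n53794 := rfl
theorem F241212 : act 6 n53794 = n52669 := d20_2 (iv F232760) D53794 (iv D52669)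
def n53795 : Q := act 8 n51930
theorem D53795 : act 8 n51930 = n53795 := rfl
theorem F241213 : act 0 n53795 = n51933 := d7_1 D53795 (iv D51933) (iv F232761)
theorem F241214 : act 1 n53795 = n52737 := d15_1 D53795 (iv D52737) (iv F232762)
theorem F241215 : act 6 n53795 = n53795 := d40_1 D53795 (iv D53795) F232764
theorem F241216 : act 7 n53795 = n51942 := d42_1 D53795 (iv D51942) (iv F232765)
theorem F241217 : act 9 n53795 = n52736 := d44_2 D51930 D53795 (iv D52736) (iv D50793) (iv F223267)
def n53796 : Q := act 9 n51931
theorem D53796 : act 9 n51931 = n53796 := rfl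
theorem F241218 : act 1 n53796 = n51935 := d16_1 D53796 (iv D51935) (iv F232766)
theorem F241219 : act 2 n53796 = n52575 := d23_1 D53796 (iv D52575) (iv F232767)
theorem F241220 : act 3 n53796 = n53796 := d29_1 D53796 (iv D53796) F232768
theorem F241221 : act 5 n53796 = n51932 := d38_1 D53796 (iv D51932) D51931
theorem F241222 : act 7 n53796 = n51944 := d43_1 D53796 (iv D51944) (iv F232769)
def n53797 : Q := act 8 n51932
theorem D53797 : act 8 n51932 = n53797 := rfl
theorem F241223 : act 1 n53797 = n51936 := d15_1 D53797 (iv D51936) (iv F232770)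
theorem F241224 : act 2 n53797 = n52736 := d22_1 D53797 (iv D52736) (iv F232771)
theorem F241225 : act 4 n53797 = n51933 := d33_1 D53797 (iv D51933) (iv F232773)
theorem F241226 : act 6 n53797 = n53797 := d40_1 D53797 (iv D53797) F232774
theorem F241227 : act 7 n53797 = n51945 := d42_1 D53797 (iv D51945) (iv F232775)
def n53798 : Q := act 3 n51933
theorem D53798 : act 3 n51933 = n53798 := rfl
theorem F241228 : act 1 n53798 = n51937 := d10_1 D53798 (iv D51937) (iv F232776)
theorem F241229 : act 6 n53798 = n53798 := d26_2 F232777 D53798 (iv D53798)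
theorem F241230 : act 7 n53798 = n51946 := d27_2 (iv F232778) D53798 (iv D51946)
theorem F241231 : act 8 n53798 = n52000 := d28_2 D51933 D53798 (iv D52000) (iv D49913) (iv F223274)
theorem F241232 : act 9 n53798 = n52573 := d29_2 F240942 D53798 (iv F240939)
def n53799 : Q := act 7 n51934
theorem D53799 : act 7 n51934 = n53799 := rfl
theorem F241233 : act 1 n53799 = n52711 := d14_1 D53799 (iv F240742) F240738
theorem F241234 : act 2 n53799 = n51938 := d21_1 D53799 (iv D51938) (iv F232779)
theorem F241235 : act 3 n53799 = n53799 := d27_1 D53799 (iv D53799) F232780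
theorem F241236 : act 5 n53799 = n53799 := d36_1 D53799 (iv D53799) F232781
theorem F241237 : act 6 n53799 = n51947 := d39_1 D53799 (iv D51947) (iv D49856) (iv F223279) D51934
theorem F241238 : act 8 n53799 = n52708 := d42_2 F240948 D53799 F240949
def n53800 : Q := act 9 n51934
theorem D53800 : act 9 n51934 = n53800 := rfl
theorem F241239 : act 2 n53800 = n51939 := d23_1 D53800 (iv D51939) (iv F232779)
theorem F241240 : act 3 n53800 = n53800 := d29_1 D53800 (iv D53800) F232780
theorem F241241 : act 5 n53800 = n53800 := d38_1 D53800 (iv D53800) F232781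
theorem F241242 : act 6 n53800 = n51935 := d41_1 D53800 (iv D51935) D51934
def n53801 : Q := act 8 n51935
theorem D53801 : act 8 n51935 = n53801 := rfl
theorem F241243 : act 2 n53801 = n51940 := d22_1 D53801 (iv D51940) (iv F232782)
theorem F241244 : act 5 n53801 = n51936 := d37_1 D53801 (iv D51936) (iv F232784)
theorem F241245 : act 7 n53801 = n51949 := d42_1 D53801 (iv D51949) (iv F232785)
def n53802 : Q := act 3 n51936
theorem D53802 : act 3 n51936 = n53802 := rfl
theorem F241246 : act 6 n53802 = n53802 := d26_2 F232788 D53802 (iv D53802)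
theorem F241247 : act 7 n53802 = n51950 := d27_2 (iv F232789) D53802 (iv D51950)
theorem F241248 : act 8 n53802 = n53802 := d28_2 D51936 D53802 (iv D53802) (iv D51936) F223281
def n53803 : Q := act 4 n51937
theorem D53803 : act 4 n51937 = n53803 := rfl
theorem F241249 : act 0 n53803 = n52615 := d3_1 D53803 F235341 (iv F232790)
theorem F241250 : act 2 n53803 = n52104 := d18_1 D53803 F233590 (iv F232791)
theorem F241251 : act 6 n53803 = n53803 := d31_2 F232792 D53803 (iv D53803)
theorem F241252 : act 7 n53803 = n51951 := d32_2 (iv F232793) D53803 (iv D51951)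
theorem F241253 : act 8 n53803 = n52001 := d33_2 (iv F232794) D53803 (iv D52001)
theorem F241254 : act 9 n53803 = n52115 := d34_2 (iv F232795) D53803 F233643
def n53804 : Q := act 9 n51938
theorem D53804 : act 9 n51938 = n53804 := rfl
theorem F241255 : act 3 n53804 = n51969 := d29_1 D53804 (iv D51969) (iv F232796)
theorem F241256 : act 5 n53804 = n53804 := d38_1 D53804 (iv D53804) F232797
theorem F241257 : act 6 n53804 = n51952 := d41_1 D53804 (iv D51952) (iv F232798)
theorem F241258 : act 7 n53804 = n51939 := d43_1 D53804 (iv D51939) D51938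
def n53805 : Q := act 8 n51939
theorem D53805 : act 8 n51939 = n53805 := rfl
theorem F241259 : act 5 n53805 = n53805 := d37_1 D53805 (iv D53805) F232800
theorem F241260 : act 6 n53805 = n51940 := d40_1 D53805 (iv D51940) (iv F232801)
def n53806 : Q := act 3 n51940
theorem D53806 : act 3 n51940 = n53806 := rfl
theorem F241261 : act 5 n53806 = n51941 := d25_2 (iv F232802) D53806 (iv D51941)
theorem F241262 : act 7 n53806 = n51954 := d27_2 (iv F232803) D53806 (iv D51954)
theorem F241263 : act 8 n53806 = n51971 := d28_2 D51940 D53806 (iv D51971) (iv D49880) (iv F223290)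
def n53807 : Q := act 2 n51941
theorem D53807 : act 2 n51941 = n53807 := rfl
theorem F241264 : act 4 n53807 = n52768 := d18_2 F240291 D53807 (iv F240290)
theorem F241265 : act 6 n53807 = n53807 := d20_2 F232804 D53807 (iv D53807)
theorem F241266 : act 7 n53807 = n51955 := d21_2 (iv F232805) D53807 (iv D51955)
theorem F241267 : act 8 n53807 = n51972 := d22_2 (iv F232806) D53807 (iv D51972)
def n53808 : Q := act 7 n51943
theorem D53808 : act 7 n51943 = n53808 := rfl
theorem F241268 : act 0 n53808 = n52207 := d6_1 D53808 F234069 (iv F232809)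
theorem F241269 : act 1 n53808 = n51947 := d14_1 D53808 (iv D51947) (iv F232810)
theorem F241270 : act 2 n53808 = n52022 := d21_1 D53808 F233203 (iv F232811)
theorem F241271 : act 3 n53808 = n53808 := d27_1 D53808 (iv D53808) F232812
theorem F241272 : act 5 n53808 = n51956 := d36_1 D53808 (iv D51956) (iv F232813)
theorem F241273 : act 6 n53808 = n52711 := d39_1 D53808 (iv F240742) F240741 F232769 D51943
theorem F241274 : act 8 n53808 = n52014 := d42_2 (iv F232814) D53808 F233152
def n53809 : Q := act 9 n51943
theorem D53809 : act 9 n51943 = n53809 := rfl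
theorem F241275 : act 0 n53809 = n52213 := d8_1 D53809 (iv D52213) (iv F232809)
theorem F241276 : act 1 n53809 = n51948 := d16_1 D53809 (iv D51948) (iv F232810)
theorem F241277 : act 2 n53809 = n52597 := d23_1 D53809 (iv D52597) (iv F232811)
theorem F241278 : act 3 n53809 = n53809 := d29_1 D53809 (iv D53809) F232812
theorem F241279 : act 5 n53809 = n51957 := d38_1 D53809 (iv D51957) (iv F232813)
theorem F241280 : act 6 n53809 = n51944 := d41_1 D53809 (iv D51944) D51943
def n53810 : Q := act 8 n51944
theorem D53810 : act 8 n51944 = n53810 := rfl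
theorem F241281 : act 1 n53810 = n51949 := d15_1 D53810 (iv D51949) (iv F232815)
theorem F241282 : act 5 n53810 = n51945 := d37_1 D53810 (iv D51945) (iv F232817)
def n53811 : Q := act 3 n51945
theorem D53811 : act 3 n51945 = n53811 := rfl
theorem F241283 : act 1 n53811 = n51950 := d10_1 D53811 (iv D51950) (iv F232818)
theorem F241284 : act 6 n53811 = n51959 := d26_2 (iv F232820) D53811 (iv D51959)
theorem F241285 : act 8 n53811 = n53811 := d28_2 D51945 D53811 (iv D53811) (iv D51945) F223302
def n53812 : Q := act 9 n51947
theorem D53812 : act 9 n51947 = n53812 := rfl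
theorem F241286 : act 2 n53812 = n51952 := d23_1 D53812 (iv D51952) (iv F232825)
theorem F241287 : act 3 n53812 = n53812 := d29_1 D53812 (iv D53812) F232826
theorem F241288 : act 5 n53812 = n51960 := d38_1 D53812 (iv D51960) (iv F232827)
theorem F241289 : act 7 n53812 = n51948 := d43_1 D53812 (iv D51948) D51947
def n53813 : Q := act 8 n51948
theorem D53813 : act 8 n51948 = n53813 := rfl
theorem F241290 : act 2 n53813 = n51953 := d22_1 D53813 (iv D51953) (iv F232828)
theorem F241291 : act 5 n53813 = n51961 := d37_1 D53813 (iv D51961) (iv F232830)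
theorem F241292 : act 6 n53813 = n51949 := d40_1 D53813 (iv D51949) (iv F232831)
def n53814 : Q := act 3 n51949
theorem D53814 : act 3 n51949 = n53814 := rfl
theorem F241293 : act 5 n53814 = n51950 := d25_2 (iv F232833) D53814 (iv D51950)
theorem F241294 : act 8 n53814 = n53814 := d28_2 D51949 D53814 (iv D53814) (iv D51949) F223311
def n53815 : Q := act 2 n51950
theorem D53815 : act 2 n51950 = n53815 := rfl
theorem F241295 : act 3 n53815 = n51955 := d17_2 D51950 D53815 (iv D51955) (iv D49863) (iv F223313)
theorem F241296 : act 6 n53815 = n51963 := d20_2 (iv F232834) D53815 (iv D51963)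
theorem F241297 : act 8 n53815 = n53815 := d22_2 F232835 D53815 (iv D53815)
theorem F241298 : act 9 n53815 = n52285 := d23_2 F240998 D53815 F240999
theorem F241299 : act 4 n52228 = n53815 := d34_3 F241298 (iv D52285) (iv F234158)
def n53816 : Q := act 4 n51950
theorem D53816 : act 4 n51950 = n53816 := rfl
theorem F241300 : act 0 n53816 = n52622 := d3_1 D53816 (iv F240674) F240673
theorem F241301 : act 2 n53816 = n52228 := d18_1 D53816 F241299 (iv D53815)
theorem F241302 : act 3 n53816 = n51951 := d24_1 D53816 (iv D51951) (iv D49859) (iv F223314) D51950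
theorem F241303 : act 6 n53816 = n51964 := d31_2 (iv F232834) D53816 (iv D51964)
theorem F241304 : act 8 n53816 = n53816 := d33_2 F232835 D53816 (iv D53816)
theorem F241305 : act 9 n53816 = n52118 := d34_2 F240998 D53816 (iv F240995)
def n53817 : Q := act 5 n51951
theorem D53817 : act 5 n51951 = n53817 := rfl
theorem F241306 : act 0 n53817 = n52621 := d4_1 D53817 F235364 (iv F232836)
theorem F241307 : act 2 n53817 = n52103 := d19_1 D53817 F233585 (iv F232837)
theorem F241308 : act 8 n53817 = n52002 := d37_2 (iv F232839) D53817 (iv D52002)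
theorem F241309 : act 9 n53817 = n52111 := d38_2 (iv F232840) D53817 F233623
def n53818 : Q := act 8 n51952
theorem D53818 : act 8 n51952 = n53818 := rfl
theorem F241310 : act 5 n53818 = n51965 := d37_1 D53818 (iv D51965) (iv F232842)
theorem F241311 : act 7 n53818 = n51953 := d42_1 D53818 (iv D51953) (iv F232843)
def n53819 : Q := act 3 n51953
theorem D53819 : act 3 n51953 = n53819 := rfl
theorem F241312 : act 5 n53819 = n51966 := d25_2 (iv F232844) D53819 (iv D51966)
theorem F241313 : act 6 n53819 = n51954 := d26_2 (iv F232845) D53819 (iv D51954)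
theorem F241314 : act 8 n53819 = n51974 := d28_2 D51953 D53819 (iv D51974) (iv D49883) (iv F223323)
def n53820 : Q := act 2 n51954
theorem D53820 : act 2 n51954 = n53820 := rfl
theorem F241315 : act 5 n53820 = n51955 := d19_2 (iv F232846) D53820 (iv D51955)
theorem F241316 : act 8 n53820 = n51975 := d22_2 (iv F232847) D53820 (iv D51975)
def n53821 : Q := act 4 n51954
theorem D53821 : act 4 n51954 = n53821 := rfl
theorem F241317 : act 8 n53821 = n51976 := d33_2 (iv F232847) D53821 (iv D51976)
def n53822 : Q := act 1 n51955
theorem D53822 : act 1 n51955 = n53822 := rfl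
theorem F241318 : act 6 n53822 = n51968 := d13_2 (iv F232848) D53822 (iv D51968)
theorem F241319 : act 8 n53822 = n51977 := d15_2 (iv F232849) D53822 (iv D51977)
def n53823 : Q := act 9 n51956
theorem D53823 : act 9 n51956 = n53823 := rfl
theorem F241320 : act 0 n53823 = n52221 := d8_1 D53823 (iv D52221) (iv F232850)
theorem F241321 : act 1 n53823 = n51960 := d16_1 D53823 (iv D51960) (iv F232851)
theorem F241322 : act 2 n53823 = n52612 := d23_1 D53823 (iv D52612) (iv F232852)
theorem F241323 : act 3 n53823 = n53823 := d29_1 D53823 (iv D53823) F232853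
theorem F241324 : act 4 n53823 = n52691 := d34_1 D53823 (iv D52691) (iv F232854)
theorem F241325 : act 6 n53823 = n53823 := d41_1 D53823 (iv D53823) F232855
theorem F241326 : act 7 n53823 = n51957 := d43_1 D53823 (iv D51957) D51956
def n53824 : Q := act 8 n51957
theorem D53824 : act 8 n51957 = n53824 := rfl
theorem F241327 : act 0 n53824 = n52225 := d7_1 D53824 (iv D52225) (iv F232857)
theorem F241328 : act 1 n53824 = n51961 := d15_1 D53824 (iv D51961) (iv F232858)
theorem F241329 : act 2 n53824 = n52616 := d22_1 D53824 (iv D52616) (iv F232859)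
theorem F241330 : act 4 n53824 = n52692 := d33_1 D53824 (iv D52692) (iv F232861)
theorem F241331 : act 6 n53824 = n51958 := d40_1 D53824 (iv D51958) (iv F232862)
theorem F241332 : act 9 n53824 = n52276 := d44_2 D51957 D53824 (iv D52276) (iv D50228) (iv F223337)
def n53825 : Q := act 8 n51960
theorem D53825 : act 8 n51960 = n53825 := rfl
theorem F241333 : act 2 n53825 = n51965 := d22_1 D53825 (iv D51965) (iv F232873)
theorem F241334 : act 4 n53825 = n52695 := d33_1 D53825 (iv D52695) (iv F232875)
theorem F241335 : act 6 n53825 = n53825 := d40_1 D53825 (iv D53825) F232876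
theorem F241336 : act 7 n53825 = n51961 := d42_1 D53825 (iv D51961) (iv F232877)
def n53826 : Q := act 3 n51961
theorem D53826 : act 3 n51961 = n53826 := rfl
theorem F241337 : act 6 n53826 = n51962 := d26_2 (iv F232880) D53826 (iv D51962)
theorem F241338 : act 8 n53826 = n53826 := d28_2 D51961 D53826 (iv D53826) (iv D51961) F223358
def n53827 : Q := act 4 n51962
theorem D53827 : act 4 n51962 = n53827 := rfl
theorem F241339 : act 2 n53827 = n52292 := d18_1 D53827 (iv F241043) F241041
theorem F241340 : act 3 n53827 = n52694 := d24_1 D53827 F235567 (iv D50705) (iv F223362) D51962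
theorem F241341 : act 7 n53827 = n53827 := d32_2 F232882 D53827 (iv D53827)
theorem F241342 : act 8 n53827 = n53827 := d33_2 F232883 D53827 (iv D53827)
def n53828 : Q := act 3 n51965
theorem D53828 : act 3 n51965 = n53828 := rfl
theorem F241343 : act 4 n53828 = n52725 := d24_2 (iv F232895) D53828 (iv D52725) (iv F228838) F228837
theorem F241344 : act 6 n53828 = n53828 := d26_2 F232896 D53828 (iv D53828)
theorem F241345 : act 7 n53828 = n51966 := d27_2 (iv F232897) D53828 (iv D51966)
theorem F241346 : act 8 n53828 = n51978 := d28_2 D51965 D53828 (iv D51978) (iv D49886) (iv F223372)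
def n53829 : Q := act 2 n51966
theorem D53829 : act 2 n51966 = n53829 := rfl
theorem F241347 : act 4 n53829 = n52280 := d18_2 F237355 D53829 (iv F237354)
theorem F241348 : act 6 n53829 = n51967 := d20_2 (iv F232898) D53829 (iv D51967)
theorem F241349 : act 8 n53829 = n51979 := d22_2 (iv F232899) D53829 (iv D51979)
theorem F241350 : act 1 n52285 = n53829 := d15_3 F241349 (iv F232947) (iv F234357)
def n53830 : Q := act 0 n51968
theorem D53830 : act 0 n51968 = n53830 := rfl
theorem F241351 : act 1 n53830 = n52694 := d0_2 D51968 D53830 (iv F236882) F236883 F232361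
theorem F241352 : act 2 n53830 = n52174 := d1_2 F237938 D53830 (iv F237937)
theorem F241353 : act 4 n53830 = n52693 := d3_2 F237926 D53830 (iv F237923)
theorem F241354 : act 5 n53830 = n52176 := d4_2 (iv F232905) D53830 F233909
theorem F241355 : act 7 n53830 = n53830 := d6_2 F232906 D53830 (iv D53830)
theorem F241356 : act 8 n53830 = n51980 := d7_2 (iv F232907) D53830 (iv D51980)
def n53831 : Q := act 8 n51969
theorem D53831 : act 8 n51969 = n53831 := rfl
theorem F241357 : act 2 n53831 = n53831 := d22_1 D53831 (iv D53831) F232908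
theorem F241358 : act 4 n53831 = n52727 := d33_1 D53831 F239456 F239452
theorem F241359 : act 5 n53831 = n53831 := d37_1 D53831 (iv D53831) F232909
theorem F241360 : act 6 n53831 = n51973 := d40_1 D53831 (iv D51973) (iv F232910)
theorem F241361 : act 7 n53831 = n51970 := d42_1 D53831 (iv D51970) (iv F232911)
theorem F241362 : act 9 n53831 = n53831 := d44_2 D51969 D53831 (iv D53831) (iv D51969) F223386
def n53832 : Q := act 3 n51970
theorem D53832 : act 3 n51970 = n53832 := rfl
theorem F241363 : act 5 n53832 = n53832 := d25_2 F232913 D53832 (iv D53832)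
theorem F241364 : act 6 n53832 = n51971 := d26_2 (iv F232914) D53832 (iv D51971)
theorem F241365 : act 9 n53832 = n53832 := d29_2 F232915 D53832 (iv D53832)
def n53833 : Q := act 2 n51971
theorem D53833 : act 2 n51971 = n53833 := rfl
theorem F241366 : act 3 n53833 = n53833 := d17_2 D51971 D53833 (iv D53833) (iv D51971) F223390
theorem F241367 : act 5 n53833 = n51972 := d19_2 (iv F232916) D53833 (iv D51972)
theorem F241368 : act 7 n53833 = n51975 := d21_2 (iv F232917) D53833 (iv D51975)
theorem F241369 : act 9 n53833 = n53833 := d23_2 F232918 D53833 (iv D53833)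
def n53834 : Q := act 4 n51971
theorem D53834 : act 4 n51971 = n53834 := rfl
theorem F241370 : act 7 n53834 = n51976 := d32_2 (iv F232917) D53834 (iv D51976)
theorem F241371 : act 9 n53834 = n53834 := d34_2 F232918 D53834 (iv D53834)
def n53835 : Q := act 1 n51972
theorem D53835 : act 1 n51972 = n53835 := rfl
theorem F241372 : act 3 n53835 = n53835 := d10_2 F232919 D53835 (iv D53835)
theorem F241373 : act 4 n53835 = n52770 := d11_2 (iv F232920) D53835 F235845
theorem F241374 : act 6 n53835 = n53835 := d13_2 F232921 D53835 (iv D53835)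
theorem F241375 : act 7 n53835 = n51977 := d14_2 (iv F232922) D53835 (iv D51977)
theorem F241376 : act 9 n53835 = n53835 := d16_2 F232923 D53835 (iv D53835)
def n53836 : Q := act 3 n51973
theorem D53836 : act 3 n51973 = n53836 := rfl
theorem F241377 : act 5 n53836 = n51978 := d25_2 (iv F232926) D53836 (iv D51978)
theorem F241378 : act 7 n53836 = n51974 := d27_2 (iv F232927) D53836 (iv D51974)
theorem F241379 : act 9 n53836 = n53836 := d29_2 F232928 D53836 (iv D53836)
def n53837 : Q := act 2 n51974
theorem D53837 : act 2 n51974 = n53837 := rfl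
theorem F241380 : act 3 n53837 = n53837 := d17_2 D51974 D53837 (iv D53837) (iv D51974) F223400
theorem F241381 : act 5 n53837 = n51979 := d19_2 (iv F232929) D53837 (iv D51979)
theorem F241382 : act 6 n53837 = n51975 := d20_2 (iv F232930) D53837 (iv D51975)
theorem F241383 : act 9 n53837 = n53837 := d23_2 F232931 D53837 (iv D53837)
theorem F241384 : act 1 n52315 = n53837 := d12_3 F241381 (iv F232947) D52315
def n53838 : Q := act 4 n51974
theorem D53838 : act 4 n51974 = n53838 := rfl
theorem F241385 : act 6 n53838 = n51976 := d31_2 (iv F232930) D53838 (iv D51976)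
theorem F241386 : act 9 n53838 = n53838 := d34_2 F232931 D53838 (iv D53838)
def n53839 : Q := act 1 n51975
theorem D53839 : act 1 n51975 = n53839 := rfl
theorem F241387 : act 3 n53839 = n53839 := d10_2 F232932 D53839 (iv D53839)
theorem F241388 : act 5 n53839 = n51977 := d12_2 (iv F232933) D53839 (iv D51977)
theorem F241389 : act 6 n53839 = n52315 := d13_2 F241382 D53839 F241384
theorem F241390 : act 9 n53839 = n53839 := d16_2 F232934 D53839 (iv D53839)
def n53840 : Q := act 4 n51975
theorem D53840 : act 4 n51975 = n53840 := rfl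
theorem F241391 : act 2 n53840 = n51976 := d18_1 D53840 (iv D51976) D51975
theorem F241392 : act 9 n53840 = n53840 := d34_2 F232934 D53840 (iv D53840)
def n53841 : Q := act 0 n51977
theorem D53841 : act 0 n51977 = n53841 := rfl
theorem F241393 : act 1 n53841 = n52760 := d0_2 D51977 D53841 (iv F236994) F236995 F232380
theorem F241394 : act 2 n53841 = n52196 := d1_2 F237984 D53841 (iv F237983)
theorem F241395 : act 3 n53841 = n53841 := d2_2 F232936 D53841 (iv D53841)
theorem F241396 : act 4 n53841 = n52765 := d3_2 F238107 D53841 (iv F238104)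
theorem F241397 : act 6 n53841 = n51980 := d5_2 (iv F232937) D53841 (iv D51980)
theorem F241398 : act 9 n53841 = n53841 := d8_2 F232938 D53841 (iv D53841)
def n53842 : Q := act 2 n51978
theorem D53842 : act 2 n51978 = n53842 := rfl
theorem F241399 : act 3 n53842 = n53842 := d17_2 D51978 D53842 (iv D53842) (iv D51978) F223409
theorem F241400 : act 4 n53842 = n52313 := d18_2 (iv F232939) D53842 F234461
theorem F241401 : act 6 n53842 = n53842 := d20_2 F232940 D53842 (iv D53842)
theorem F241402 : act 7 n53842 = n51979 := d21_2 (iv F232941) D53842 (iv D51979)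
theorem F241403 : act 9 n53842 = n53842 := d23_2 F232942 D53842 (iv D53842)
theorem F241404 : act 1 n52314 = n53842 := d14_3 F241402 (iv F232947) (iv F234467)
def n53843 : Q := act 9 n51982
theorem D53843 : act 9 n51982 = n53843 := rfl
theorem F241405 : act 1 n53843 = n51989 := d16_1 D53843 F233010 (iv F232963)
theorem F241406 : act 3 n53843 = n51983 := d29_1 D53843 (iv D51983) D51982
theorem F241407 : act 5 n53843 = n52000 := d38_1 D53843 F233063 (iv F232964)
theorem F241408 : act 6 n53843 = n51988 := d41_1 D53843 (iv D51988) (iv F232965)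
theorem F241409 : act 7 n53843 = n51993 := d43_1 D53843 F233032 (iv F232966)
def n53844 : Q := act 3 n51984
theorem D53844 : act 3 n51984 = n53844 := rfl
theorem F241410 : act 0 n53844 = n52586 := d2_1 D53844 F235258 (iv F232975)
theorem F241411 : act 1 n53844 = n51988 := d10_1 D53844 F233003 (iv F232976)
theorem F241412 : act 2 n53844 = n52544 := d17_1 D53844 F235141 F226062 (iv F223451) (iv F232977)
theorem F241413 : act 5 n53844 = n53844 := d25_2 F232979 D53844 (iv D53844)
theorem F241414 : act 6 n53844 = n51989 := d26_2 (iv F232980) D53844 (iv D51989)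
theorem F241415 : act 7 n53844 = n51992 := d27_2 (iv F232981) D53844 F233026
theorem F241416 : act 9 n53844 = n51986 := d29_2 (iv F232982) D53844 (iv D51986)
def n53845 : Q := act 9 n51987
theorem D53845 : act 9 n51987 = n53845 := rfl
theorem F241417 : act 0 n53845 = n52717 := d8_1 D53845 (iv D52717) (iv F232997)
theorem F241418 : act 1 n53845 = n52554 := d16_1 D53845 (iv D52554) (iv F232998)
theorem F241419 : act 3 n53845 = n52025 := d29_1 D53845 (iv D52025) (iv F232999)
theorem F241420 : act 5 n53845 = n53845 := d38_1 D53845 (iv D53845) F233000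
theorem F241421 : act 6 n53845 = n52559 := d41_1 D53845 (iv D52559) (iv F233001)
theorem F241422 : act 7 n53845 = n51994 := d43_1 D53845 (iv D51994) (iv F233002)
def n53846 : Q := act 8 n51988
theorem D53846 : act 8 n51988 = n53846 := rfl
theorem F241423 : act 5 n53846 = n53846 := d37_1 D53846 (iv D53846) F233004
theorem F241424 : act 7 n53846 = n51995 := d42_1 D53846 (iv D51995) (iv F233005)
def n53847 : Q := act 4 n51989
theorem D53847 : act 4 n51989 = n53847 := rfl
theorem F241425 : act 0 n53847 = n52593 := d3_1 D53847 F235278 (iv F233006)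
theorem F241426 : act 2 n53847 = n52550 := d18_1 D53847 F235157 (iv F233007)
theorem F241427 : act 7 n53847 = n51997 := d32_2 (iv F233009) D53847 (iv D51997)
theorem F241428 : act 9 n53847 = n52026 := d34_2 (iv F233010) D53847 (iv D52026)
def n53848 : Q := act 8 n51992
theorem D53848 : act 8 n51992 = n53848 := rfl
theorem F241429 : act 1 n53848 = n51995 := d15_1 D53848 (iv D51995) (iv F233025)
theorem F241430 : act 3 n53848 = n52632 := d28_1 D53848 (iv D52632) F226359 (iv F223511) (iv F233026)
theorem F241431 : act 5 n53848 = n53848 := d37_1 D53848 (iv D53848) F233027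
theorem F241432 : act 6 n53848 = n52642 := d40_1 D53848 F235433 (iv F233028)
def n53849 : Q := act 4 n51993
theorem D53849 : act 4 n51993 = n53849 := rfl
theorem F241433 : act 1 n53849 = n51997 := d11_1 D53849 (iv D51997) (iv F233029)
theorem F241434 : act 3 n53849 = n52631 := d24_1 D53849 F235396 F226359 (iv F223514) D51993
theorem F241435 : act 6 n53849 = n52639 := d31_2 (iv F233031) D53849 F235421
theorem F241436 : act 9 n53849 = n52027 := d34_2 (iv F233032) D53849 (iv D52027)
def n53850 : Q := act 8 n51994
theorem D53850 : act 8 n51994 = n53850 := rfl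
theorem F241437 : act 5 n53850 = n53850 := d37_1 D53850 (iv D53850) F233034
theorem F241438 : act 6 n53850 = n52697 := d40_1 D53850 (iv D52697) (iv F233035)
theorem F241439 : act 9 n53850 = n51995 := d44_2 D51994 D53850 (iv D51995) (iv D49908) D49907
def n53851 : Q := act 3 n51995
theorem D53851 : act 3 n51995 = n53851 := rfl
theorem F241440 : act 0 n53851 = n52719 := d2_1 D53851 (iv F240756) F240755
theorem F241441 : act 1 n53851 = n52632 := d10_1 D53851 (iv F241430) F241429
theorem F241442 : act 5 n53851 = n53851 := d25_2 F233036 D53851 (iv D53851)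
theorem F241443 : act 6 n53851 = n52638 := d26_2 (iv F233037) D53851 F235416
theorem F241444 : act 8 n53851 = n51996 := d28_2 D51995 D53851 (iv D51996) (iv D49909) (iv F223521)
def n53852 : Q := act 2 n51996
theorem D53852 : act 2 n51996 = n53852 := rfl
theorem F241445 : act 0 n53852 = n52712 := d1_1 D53852 F235634 (iv F233038)
theorem F241446 : act 1 n53852 = n52236 := d9_1 D53852 F234190 F224938 (iv F226358) (iv F233039)
theorem F241447 : act 3 n53852 = n51998 := d17_2 D51996 D53852 (iv D51998) (iv D49911) (iv F223526)
theorem F241448 : act 5 n53852 = n53852 := d19_2 F233040 D53852 (iv D53852)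
theorem F241449 : act 6 n53852 = n52241 := d20_2 (iv F233041) D53852 F234206
theorem F241450 : act 9 n53852 = n52030 := d23_2 (iv F233042) D53852 (iv D52030)
def n53853 : Q := act 4 n51996
theorem D53853 : act 4 n51996 = n53853 := rfl
theorem F241451 : act 0 n53853 = n52604 := d3_1 D53853 F235307 (iv F233038)
theorem F241452 : act 1 n53853 = n52631 := d11_1 D53853 F235396 (iv F233039)
theorem F241453 : act 3 n53853 = n51997 := d24_1 D53853 (iv D51997) (iv D49910) (iv F223527) D51996
theorem F241454 : act 6 n53853 = n52637 := d31_2 (iv F233041) D53853 F235413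
theorem F241455 : act 9 n53853 = n52031 := d34_2 (iv F233042) D53853 (iv D52031)
def n53854 : Q := act 5 n51997
theorem D53854 : act 5 n51997 = n53854 := rfl
theorem F241456 : act 0 n53854 = n52606 := d4_1 D53854 F235313 (iv F233043)
theorem F241457 : act 2 n53854 = n52102 := d19_1 D53854 F233581 (iv F233044)
theorem F241458 : act 4 n53854 = n52002 := d30_1 D53854 (iv D52002) (iv D49917) (iv F223533) D51997
theorem F241459 : act 9 n53854 = n52032 := d38_2 (iv F233046) D53854 (iv D52032)
def n53855 : Q := act 8 n52005
theorem D53855 : act 8 n52005 = n53855 := rfl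
theorem F241460 : act 0 n53855 = n52016 := d7_1 D53855 (iv D52016) (iv F233089)
theorem F241461 : act 1 n53855 = n52301 := d15_1 D53855 (iv D52301) (iv F233090)
theorem F241462 : act 2 n53855 = n52006 := d22_1 D53855 (iv D52006) (iv F233091)
theorem F241463 : act 4 n53855 = n52298 := d33_1 D53855 (iv D52298) (iv F233092)
theorem F241464 : act 5 n53855 = n53855 := d37_1 D53855 (iv D53855) F233093
theorem F241465 : act 6 n53855 = n52700 := d40_1 D53855 (iv D52700) (iv F233094)
theorem F241466 : act 7 n53855 = n52306 := d42_1 D53855 (iv D52306) (iv F233095)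
theorem F241467 : act 9 n53855 = n53855 := d44_2 D52005 D53855 (iv D53855) (iv D52005) F223656
def n53856 : Q := act 9 n52008
theorem D53856 : act 9 n52008 = n53856 := rfl
theorem F241468 : act 0 n53856 = n52187 := d8_1 D53856 (iv D52187) (iv F233112)
theorem F241469 : act 1 n53856 = n52009 := d16_1 D53856 (iv D52009) D52008
theorem F241470 : act 2 n53856 = n53856 := d23_1 D53856 (iv D53856) F233113
theorem F241471 : act 4 n53856 = n52185 := d34_1 D53856 (iv D52185) (iv F233114)
theorem F241472 : act 5 n53856 = n53856 := d38_1 D53856 (iv D53856) F233115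
theorem F241473 : act 6 n53856 = n52738 := d41_1 D53856 F235731 (iv F233116)
theorem F241474 : act 7 n53856 = n52013 := d43_1 D53856 (iv D52013) (iv F233117)
def n53857 : Q := act 8 n52009
theorem D53857 : act 8 n52009 = n53857 := rfl
theorem F241475 : act 0 n53857 = n52306 := d7_1 D53857 (iv D52306) (iv F233119)
theorem F241476 : act 2 n53857 = n52010 := d22_1 D53857 (iv D52010) (iv F233120)
theorem F241477 : act 4 n53857 = n52303 := d33_1 D53857 (iv D52303) (iv F233121)
theorem F241478 : act 5 n53857 = n53857 := d37_1 D53857 (iv D53857) F233122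
theorem F241479 : act 7 n53857 = n52016 := d42_1 D53857 (iv D52016) (iv F233123)
theorem F241480 : act 9 n53857 = n53857 := d44_2 D52009 D53857 (iv D53857) (iv D52009) F223697
def n53858 : Q := act 9 n52011
theorem D53858 : act 9 n52011 = n53858 := rfl
theorem F241481 : act 0 n53858 = n52013 := d8_1 D53858 (iv D52013) D52011
theorem F241482 : act 1 n53858 = n52182 := d16_1 D53858 (iv D52182) (iv F233130)
theorem F241483 : act 2 n53858 = n53858 := d23_1 D53858 (iv D53858) F233131
theorem F241484 : act 4 n53858 = n52180 := d34_1 D53858 (iv D52180) F233136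
theorem F241485 : act 5 n53858 = n53858 := d38_1 D53858 (iv D53858) F233132
theorem F241486 : act 6 n53858 = n52707 := d41_1 D53858 (iv D52707) (iv F233133)
theorem F241487 : act 7 n53858 = n52187 := d43_1 D53858 (iv D52187) (iv F233134)
def n53859 : Q := act 9 n52012
theorem D53859 : act 9 n52012 = n53859 := rfl
theorem F241488 : act 0 n53859 = n52180 := d8_1 D53859 (iv D52180) (iv F233137)
theorem F241489 : act 1 n53859 = n52015 := d16_1 D53859 (iv D52015) (iv F233138)
theorem F241490 : act 2 n53859 = n53859 := d23_1 D53859 (iv D53859) F233139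
theorem F241491 : act 4 n53859 = n52013 := d34_1 D53859 (iv D52013) D52012
theorem F241492 : act 5 n53859 = n52192 := d38_1 D53859 (iv D52192) F233143
theorem F241493 : act 6 n53859 = n52709 := d41_1 D53859 (iv D52709) (iv F233140)
theorem F241494 : act 7 n53859 = n52185 := d43_1 D53859 (iv D52185) (iv F233141)
def n53860 : Q := act 8 n52013
theorem D53860 : act 8 n52013 = n53860 := rfl
theorem F241495 : act 1 n53860 = n52016 := d15_1 D53860 (iv D52016) (iv F233144)
theorem F241496 : act 2 n53860 = n53860 := d22_1 D53860 (iv D53860) F233145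
theorem F241497 : act 5 n53860 = n53860 := d37_1 D53860 (iv D53860) F233146
theorem F241498 : act 6 n53860 = n52710 := d40_1 D53860 (iv D52710) (iv F233147)
theorem F241499 : act 9 n53860 = n53860 := d44_2 D52013 D53860 (iv D53860) (iv D52013) F223707
def n53861 : Q := act 9 n52014
theorem D53861 : act 9 n52014 = n53861 := rfl
theorem F241500 : act 0 n53861 = n52241 := d8_1 D53861 (iv D52241) (iv F233148)
theorem F241501 : act 2 n53861 = n52023 := d23_1 D53861 (iv D52023) (iv F233149)
theorem F241502 : act 3 n53861 = n52015 := d29_1 D53861 (iv D52015) D52014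
theorem F241503 : act 5 n53861 = n52266 := d38_1 D53861 (iv D52266) (iv F233150)
theorem F241504 : act 6 n53861 = n52712 := d41_1 D53861 (iv D52712) (iv F233151)
theorem F241505 : act 7 n53861 = n52249 := d43_1 D53861 (iv D52249) (iv F233152)
def n53862 : Q := act 8 n52015
theorem D53862 : act 8 n52015 = n53862 := rfl
theorem F241506 : act 0 n53862 = n52298 := d7_1 D53862 (iv D52298) (iv F233153)
theorem F241507 : act 2 n53862 = n52017 := d22_1 D53862 (iv D52017) (iv F233154)
theorem F241508 : act 4 n53862 = n52016 := d33_1 D53862 (iv D52016) (iv F233155)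
theorem F241509 : act 5 n53862 = n52312 := d37_1 D53862 (iv D52312) (iv F233156)
theorem F241510 : act 6 n53862 = n52713 := d40_1 D53862 (iv D52713) (iv F233157)
theorem F241511 : act 7 n53862 = n52303 := d42_1 D53862 (iv D52303) (iv F233158)
theorem F241512 : act 9 n53862 = n53862 := d44_2 D52015 D53862 (iv D53862) (iv D52015) F223712
def n53863 : Q := act 3 n52016
theorem D53863 : act 3 n52016 = n53863 := rfl
theorem F241513 : act 5 n53863 = n53863 := d25_2 F233160 D53863 (iv D53863)
theorem F241514 : act 6 n53863 = n52714 := d26_2 (iv F233161) D53863 (iv D52714)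
theorem F241515 : act 9 n53863 = n53863 := d29_2 F233162 D53863 (iv D53863)
def n53864 : Q := act 9 n52020
theorem D53864 : act 9 n52020 = n53864 := rfl
theorem F241516 : act 0 n53864 = n52559 := d8_1 D53864 (iv D52559) (iv F233186)
theorem F241517 : act 1 n53864 = n52023 := d16_1 D53864 (iv D52023) (iv F233187)
theorem F241518 : act 3 n53864 = n52021 := d29_1 D53864 (iv D52021) D52020
theorem F241519 : act 5 n53864 = n52572 := d38_1 D53864 (iv D52572) (iv F233188)
theorem F241520 : act 6 n53864 = n52717 := d41_1 D53864 (iv D52717) (iv F233189)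
theorem F241521 : act 7 n53864 = n52564 := d43_1 D53864 (iv D52564) (iv F233190)
def n53865 : Q := act 9 n52022
theorem D53865 : act 9 n52022 = n53865 := rfl
theorem F241522 : act 0 n53865 = n52591 := d8_1 D53865 (iv D52591) (iv F233199)
theorem F241523 : act 3 n53865 = n52024 := d29_1 D53865 (iv D52024) (iv F233200)
theorem F241524 : act 5 n53865 = n52612 := d38_1 D53865 (iv D52612) (iv F233201)
theorem F241525 : act 6 n53865 = n52718 := d41_1 D53865 (iv D52718) (iv F233202)
theorem F241526 : act 7 n53865 = n52597 := d43_1 D53865 (iv D52597) (iv F233203)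
def n53866 : Q := act 8 n52023
theorem D53866 : act 8 n52023 = n53866 := rfl
theorem F241527 : act 0 n53866 = n52638 := d7_1 D53866 (iv D52638) (iv F233204)
theorem F241528 : act 3 n53866 = n52577 := d28_1 D53866 (iv D52577) F226204 (iv F223769) (iv F233205)
theorem F241529 : act 5 n53866 = n52672 := d37_1 D53866 (iv D52672) (iv F233206)
theorem F241530 : act 6 n53866 = n52719 := d40_1 D53866 (iv D52719) (iv F233207)
theorem F241531 : act 7 n53866 = n52649 := d42_1 D53866 (iv D52649) (iv F233208)
def n53867 : Q := act 3 n52028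
theorem D53867 : act 3 n52028 = n53867 := rfl
theorem F241532 : act 0 n53867 = n52718 := d2_1 D53867 F235651 (iv F233231)
theorem F241533 : act 1 n53867 = n52586 := d10_1 D53867 F235258 (iv F233232)
theorem F241534 : act 5 n53867 = n53867 := d25_2 F233235 D53867 (iv D53867)
theorem F241535 : act 6 n53867 = n52591 := d26_2 (iv F233236) D53867 F235272
theorem F241536 : act 9 n53867 = n52029 := d29_2 (iv F233237) D53867 (iv D52029)
def n53868 : Q := act 2 n52029
theorem D53868 : act 2 n52029 = n53868 := rfl
theorem F241537 : act 0 n53868 = n52711 := d1_1 D53868 F235631 (iv F233238)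
theorem F241538 : act 1 n53868 = n52204 := d9_1 D53868 (iv D52204) F224807 D50600 (iv F233239)
theorem F241539 : act 3 n53868 = n53868 := d17_2 D52029 D53868 (iv D53868) (iv D52029) F223817
theorem F241540 : act 5 n53868 = n53868 := d19_2 F233240 D53868 (iv D53868)
theorem F241541 : act 6 n53868 = n52207 := d20_2 (iv F233241) D53868 F234066
theorem F241542 : act 8 n53868 = n52030 := d22_2 (iv F233242) D53868 (iv D52030)
def n53869 : Q := act 4 n52029
theorem D53869 : act 4 n52029 = n53869 := rfl
theorem F241543 : act 0 n53869 = n52603 := d3_1 D53869 F235305 (iv F233238)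
theorem F241544 : act 1 n53869 = n52585 := d11_1 D53869 (iv D52585) (iv F233239)
theorem F241545 : act 3 n53869 = n52568 := d24_1 D53869 F235212 F226201 (iv F223818) D52029
theorem F241546 : act 6 n53869 = n52590 := d31_2 (iv F233241) D53869 (iv D52590)
theorem F241547 : act 8 n53869 = n52031 := d33_2 (iv F233242) D53869 (iv D52031)
def n53870 : Q := act 4 n52030
theorem D53870 : act 4 n52030 = n53870 := rfl
theorem F241548 : act 0 n53870 = n52581 := d3_1 D53870 F235248 (iv F233243)
theorem F241549 : act 1 n53870 = n52235 := d11_1 D53870 (iv D52235) (iv F233244)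
theorem F241550 : act 2 n53870 = n52031 := d18_1 D53870 (iv D52031) D52030
theorem F241551 : act 3 n53870 = n52546 := d24_1 D53870 (iv D52546) F226088 (iv F223831) (iv F233245)
theorem F241552 : act 6 n53870 = n52240 := d31_2 (iv F233247) D53870 (iv D52240)
def n53871 : Q := act 5 n52031
theorem D53871 : act 5 n52031 = n53871 := rfl
theorem F241553 : act 0 n53871 = n52602 := d4_1 D53871 (iv D52602) (iv F233248)
theorem F241554 : act 1 n53871 = n52630 := d12_1 D53871 (iv D52630) (iv F233249)
theorem F241555 : act 3 n53871 = n52032 := d25_1 D53871 (iv D52032) (iv F233250)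
theorem F241556 : act 4 n53871 = n53871 := d30_1 D53871 (iv D53871) (iv D52031) F223823 D52031
def n53872 : Q := act 8 n52038
theorem D53872 : act 8 n52038 = n53872 := rfl
theorem F241557 : act 1 n53872 = n52041 := d15_1 D53872 (iv D52041) (iv F233287)
theorem F241558 : act 2 n53872 = n52336 := d22_1 D53872 (iv D52336) (iv F233288)
theorem F241559 : act 4 n53872 = n52039 := d33_1 D53872 (iv D52039) (iv F233290)
theorem F241560 : act 6 n53872 = n52329 := d40_1 D53872 (iv D52329) (iv F233291)
theorem F241561 : act 7 n53872 = n52088 := d42_1 D53872 (iv D52088) (iv F233292)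
theorem F241562 : act 9 n53872 = n52333 := d44_2 D52038 D53872 (iv D52333) (iv D50305) (iv F223905)
def n53873 : Q := act 8 n52040
theorem D53873 : act 8 n52040 = n53873 := rfl
theorem F241563 : act 0 n53873 = n52332 := d7_1 D53873 (iv D52332) (iv F233298)
theorem F241564 : act 2 n53873 = n52042 := d22_1 D53873 (iv D52042) (iv F233299)
theorem F241565 : act 4 n53873 = n52326 := d33_1 D53873 (iv D52326) (iv F233301)
theorem F241566 : act 5 n53873 = n52041 := d37_1 D53873 (iv D52041) (iv F233302)
theorem F241567 : act 7 n53873 = n52090 := d42_1 D53873 (iv D52090) (iv F233303)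
theorem F241568 : act 9 n53873 = n52331 := d44_2 D52040 D53873 (iv D52331) (iv D50302) (iv F223916)
def n53874 : Q := act 3 n52041
theorem D53874 : act 3 n52041 = n53874 := rfl
theorem F241569 : act 6 n53874 = n52330 := d26_2 (iv F233306) D53874 (iv D52330)
theorem F241570 : act 7 n53874 = n52091 := d27_2 (iv F233307) D53874 (iv D52091)
theorem F241571 : act 8 n53874 = n53874 := d28_2 D52041 D53874 (iv D53874) (iv D52041) F223918
theorem F241572 : act 9 n53874 = n52334 := d29_2 (iv F233308) D53874 (iv D52334)
def n53875 : Q := act 9 n52043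
theorem D53875 : act 9 n52043 = n53875 := rfl
theorem F241573 : act 0 n53875 = n52066 := d8_1 D53875 (iv D52066) (iv F233313)
theorem F241574 : act 1 n53875 = n52366 := d16_1 D53875 (iv D52366) (iv F233314)
theorem F241575 : act 3 n53875 = n52153 := d29_1 D53875 (iv D52153) (iv F233315)
theorem F241576 : act 4 n53875 = n52044 := d34_1 D53875 (iv D52044) D52043
theorem F241577 : act 5 n53875 = n52396 := d38_1 D53875 (iv D52396) (iv F233316)
theorem F241578 : act 7 n53875 = n52054 := d43_1 D53875 (iv D52054) (iv F233317)
def n53876 : Q := act 8 n52044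
theorem D53876 : act 8 n52044 = n53876 := rfl
theorem F241579 : act 0 n53876 = n52067 := d7_1 D53876 (iv D52067) (iv F233319)
theorem F241580 : act 1 n53876 = n52367 := d15_1 D53876 (iv D52367) (iv F233320)
theorem F241581 : act 3 n53876 = n52059 := d28_1 D53876 (iv D52059) F224055 (iv F223944) (iv F233321)
theorem F241582 : act 5 n53876 = n52045 := d37_1 D53876 (iv D52045) (iv F233322)
theorem F241583 : act 7 n53876 = n52055 := d42_1 D53876 (iv D52055) (iv F233323)
theorem F241584 : act 9 n53876 = n52048 := d44_2 D52044 D53876 (iv D52048) (iv D49988) (iv F223937)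
def n53877 : Q := act 8 n52047
theorem D53877 : act 8 n52047 = n53877 := rfl
theorem F241585 : act 0 n53877 = n52450 := d7_1 D53877 (iv D52450) (iv F233337)
theorem F241586 : act 1 n53877 = n52378 := d15_1 D53877 (iv D52378) (iv F233338)
theorem F241587 : act 4 n53877 = n52048 := d33_1 D53877 (iv D52048) (iv F233340)
theorem F241588 : act 5 n53877 = n52407 := d37_1 D53877 (iv D52407) (iv F233341)
def n53878 : Q := act 9 n52050
theorem D53878 : act 9 n52050 = n53878 := rfl
theorem F241589 : act 0 n53878 = n52377 := d8_1 D53878 (iv D52377) (iv F233351)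
theorem F241590 : act 1 n53878 = n52054 := d16_1 D53878 (iv D52054) (iv F233352)
theorem F241591 : act 3 n53878 = n52135 := d29_1 D53878 (iv D52135) (iv F233353)
theorem F241592 : act 4 n53878 = n52051 := d34_1 D53878 (iv D52051) D52050
theorem F241593 : act 5 n53878 = n52353 := d38_1 D53878 (iv D52353) (iv F233354)
theorem F241594 : act 7 n53878 = n52366 := d43_1 D53878 (iv D52366) (iv F233355)
def n53879 : Q := act 8 n52051
theorem D53879 : act 8 n52051 = n53879 := rfl
theorem F241595 : act 0 n53879 = n52382 := d7_1 D53879 (iv D52382) (iv F233357)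
theorem F241596 : act 1 n53879 = n52055 := d15_1 D53879 (iv D52055) (iv F233358)
theorem F241597 : act 3 n53879 = n52087 := d28_1 D53879 (iv D52087) F224159 (iv F223992) (iv F233359)
theorem F241598 : act 5 n53879 = n52052 := d37_1 D53879 (iv D52052) (iv F233360)
theorem F241599 : act 7 n53879 = n52367 := d42_1 D53879 (iv D52367) (iv F233361)
theorem F241600 : act 9 n53879 = n52372 := d44_2 D52051 D53879 (iv D52372) (iv D50353) (iv F223985)
def n53880 : Q := act 9 n52053
theorem D53880 : act 9 n52053 = n53880 := rfl
theorem F241601 : act 0 n53880 = n52075 := d8_1 D53880 (iv D52075) (iv F233369)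
theorem F241602 : act 1 n53880 = n52353 := d16_1 D53880 (iv D52353) (iv F233370)
theorem F241603 : act 3 n53880 = n52161 := d29_1 D53880 (iv D52161) (iv F233371)
theorem F241604 : act 4 n53880 = n52056 := d34_1 D53880 (iv D52056) (iv F233372)
theorem F241605 : act 5 n53880 = n52054 := d38_1 D53880 (iv D52054) D52053
theorem F241606 : act 7 n53880 = n52396 := d43_1 D53880 (iv D52396) (iv F233373)
def n53881 : Q := act 8 n52054
theorem D53881 : act 8 n52054 = n53881 := rfl
theorem F241607 : act 0 n53881 = n52076 := d7_1 D53881 (iv D52076) (iv F233375)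
theorem F241608 : act 4 n53881 = n52055 := d33_1 D53881 (iv D52055) (iv F233377)
def n53882 : Q := act 8 n52056
theorem D53882 : act 8 n52056 = n53882 := rfl
theorem F241609 : act 0 n53882 = n52087 := d7_1 D53882 (iv D52087) (iv F233381)
theorem F241610 : act 1 n53882 = n52354 := d15_1 D53882 (iv D52354) (iv F233382)
theorem F241611 : act 3 n53882 = n52382 := d28_1 D53882 (iv D52382) F225506 (iv F224032) (iv F233383)
theorem F241612 : act 5 n53882 = n52057 := d37_1 D53882 (iv D52057) (iv F233384)
theorem F241613 : act 7 n53882 = n52397 := d42_1 D53882 (iv D52397) (iv F233385)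
theorem F241614 : act 9 n53882 = n52404 := d44_2 D52056 D53882 (iv D52404) (iv D50388) (iv F224012)
def n53883 : Q := act 8 n52058
theorem D53883 : act 8 n52058 = n53883 := rfl
theorem F241615 : act 1 n53883 = n52420 := d15_1 D53883 (iv D52420) (iv F233393)
theorem F241616 : act 4 n53883 = n52059 := d33_1 D53883 (iv D52059) (iv F233395)
theorem F241617 : act 5 n53883 = n52435 := d37_1 D53883 (iv D52435) (iv F233396)
theorem F241618 : act 7 n53883 = n52450 := d42_1 D53883 (iv D52450) (iv F233397)
theorem F241619 : act 9 n53883 = n52076 := d44_2 D52058 D53883 (iv D52076) (iv D50020) (iv F224053)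
def n53884 : Q := act 8 n52060
theorem D53884 : act 8 n52060 = n53884 := rfl
theorem F241620 : act 1 n53884 = n52085 := d15_1 D53884 F233508 (iv F233402)
theorem F241621 : act 3 n53884 = n52081 := d28_1 D53884 (iv D52081) F224141 D50049 (iv F233403)
theorem F241622 : act 5 n53884 = n52430 := d37_1 D53884 (iv D52430) (iv F233404)
theorem F241623 : act 6 n53884 = n52061 := d40_1 D53884 (iv D52061) (iv F233405)
theorem F241624 : act 9 n53884 = n52093 := d44_2 D52060 D53884 (iv D52093) (iv D50040) (iv F224066)
def n53885 : Q := act 9 n52062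
theorem D53885 : act 9 n52062 = n53885 := rfl
theorem F241625 : act 1 n53885 = n52429 := d16_1 D53885 (iv D52429) (iv F233411)
theorem F241626 : act 3 n53885 = n52238 := d29_1 D53885 (iv D52238) (iv F233412)
theorem F241627 : act 4 n53885 = n52063 := d34_1 D53885 (iv D52063) D52062
theorem F241628 : act 6 n53885 = n52066 := d41_1 D53885 (iv D52066) (iv F233413)
def n53886 : Q := act 8 n52063
theorem D53886 : act 8 n52063 = n53886 := rfl
theorem F241629 : act 1 n53886 = n52430 := d15_1 D53886 (iv D52430) (iv F233415)
theorem F241630 : act 3 n53886 = n52073 := d28_1 D53886 (iv D52073) F224105 (iv F224085) (iv F233416)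
theorem F241631 : act 5 n53886 = n52085 := d37_1 D53886 F233508 (iv F233417)
theorem F241632 : act 6 n53886 = n52067 := d40_1 D53886 (iv D52067) (iv F233418)
theorem F241633 : act 9 n53886 = n52463 := d44_2 D52063 D53886 (iv D52463) (iv D50446) (iv F224079)
def n53887 : Q := act 9 n52064
theorem D53887 : act 9 n52064 = n53887 := rfl
theorem F241634 : act 2 n53887 = n52066 := d23_1 D53887 (iv D52066) (iv F233419)
theorem F241635 : act 4 n53887 = n52065 := d34_1 D53887 (iv D52065) D52064
theorem F241636 : act 5 n53887 = n52418 := d38_1 D53887 (iv D52418) (iv F233420)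
theorem F241637 : act 7 n53887 = n52072 := d43_1 D53887 (iv D52072) (iv F233421)
def n53888 : Q := act 8 n52065
theorem D53888 : act 8 n52065 = n53888 := rfl
theorem F241638 : act 2 n53888 = n52067 := d22_1 D53888 (iv D52067) (iv F233423)
theorem F241639 : act 5 n53888 = n52078 := d37_1 D53888 (iv D52078) (iv F233425)
theorem F241640 : act 7 n53888 = n52073 := d42_1 D53888 (iv D52073) (iv F233426)
theorem F241641 : act 9 n53888 = n52459 := d44_2 D52065 D53888 (iv D52459) (iv D50442) (iv F224089)
def n53889 : Q := act 8 n52066
theorem D53889 : act 8 n52066 = n53889 := rfl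
theorem F241642 : act 1 n53889 = n52435 := d15_1 D53889 (iv D52435) (iv F233427)
theorem F241643 : act 4 n53889 = n52067 := d33_1 D53889 (iv D52067) (iv F233429)
theorem F241644 : act 5 n53889 = n52420 := d37_1 D53889 (iv D52420) (iv F233430)
theorem F241645 : act 7 n53889 = n52076 := d42_1 D53889 (iv D52076) (iv F233431)
theorem F241646 : act 9 n53889 = n52450 := d44_2 D52066 D53889 (iv D52450) (iv D50433) (iv F224094)
def n53890 : Q := act 5 n52068
theorem D53890 : act 5 n52068 = n53890 := rfl
theorem F241647 : act 1 n53890 = n52071 := d12_1 D53890 (iv D52071) (iv F233436)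
theorem F241648 : act 2 n53890 = n52439 := d19_1 D53890 (iv D52439) (iv F233437)
theorem F241649 : act 3 n53890 = n52509 := d25_1 D53890 (iv D52509) (iv F233438)
theorem F241650 : act 4 n53890 = n52079 := d30_1 D53890 (iv D52079) (iv D50025) (iv F224101) D52068
theorem F241651 : act 7 n53890 = n52415 := d36_2 F238914 D53890 (iv F238912)
theorem F241652 : act 8 n53890 = n52431 := d37_2 F236282 D53890 (iv F236279)
def n53891 : Q := act 9 n52068
theorem D53891 : act 9 n52068 = n53891 := rfl
theorem F241653 : act 1 n53891 = n52072 := d16_1 D53891 (iv D52072) (iv F233436)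
theorem F241654 : act 2 n53891 = n52440 := d23_1 D53891 (iv D52440) (iv F233437)
theorem F241655 : act 3 n53891 = n52510 := d29_1 D53891 (iv D52510) (iv F233438)
theorem F241656 : act 4 n53891 = n52069 := d34_1 D53891 (iv D52069) D52068
theorem F241657 : act 6 n53891 = n52371 := d41_1 D53891 (iv D52371) (iv F233439)
def n53892 : Q := act 8 n52069
theorem D53892 : act 8 n52069 = n53892 := rfl
theorem F241658 : act 1 n53892 = n52073 := d15_1 D53892 (iv D52073) (iv F233440)
theorem F241659 : act 2 n53892 = n52441 := d22_1 D53892 (iv D52441) (iv F233441)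
theorem F241660 : act 3 n53892 = n52430 := d28_1 D53892 (iv D52430) F225665 (iv F224209) (iv F233442)
theorem F241661 : act 5 n53892 = n52081 := d37_1 D53892 (iv D52081) (iv F233443)
theorem F241662 : act 6 n53892 = n52372 := d40_1 D53892 (iv D52372) (iv F233444)
def n53893 : Q := act 5 n52070
theorem D53893 : act 5 n52070 = n53893 := rfl
theorem F241663 : act 0 n53893 = n52633 := d4_1 D53893 F235402 (iv F233445)
theorem F241664 : act 1 n53893 = n52509 := d12_1 D53893 (iv D52509) (iv F233446)
theorem F241665 : act 2 n53893 = n52254 := d19_1 D53893 (iv D52254) (iv F233447)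
theorem F241666 : act 3 n53893 = n52071 := d25_1 D53893 (iv D52071) D52070
theorem F241667 : act 4 n53893 = n53893 := d30_1 D53893 (iv D53893) F233448 F224213 (iv F233448)
theorem F241668 : act 6 n53893 = n52555 := d35_2 (iv F233449) D53893 (iv D52555) F226116 (iv F224335)
theorem F241669 : act 7 n53893 = n52417 := d36_2 F236726 D53893 F236727
def n53894 : Q := act 9 n52070
theorem D53894 : act 9 n52070 = n53894 := rfl
theorem F241670 : act 0 n53894 = n52644 := d8_1 D53894 (iv D52644) (iv F233445)
theorem F241671 : act 1 n53894 = n52510 := d16_1 D53894 (iv D52510) (iv F233446)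
theorem F241672 : act 2 n53894 = n52256 := d23_1 D53894 (iv D52256) (iv F233447)
theorem F241673 : act 3 n53894 = n52072 := d29_1 D53894 (iv D52072) D52070
theorem F241674 : act 4 n53894 = n52094 := d34_1 D53894 (iv D52094) (iv F233448)
theorem F241675 : act 6 n53894 = n52105 := d41_1 D53894 (iv D52105) (iv F233449)
def n53895 : Q := act 6 n52071
theorem D53895 : act 6 n52071 = n53895 := rfl
theorem F241676 : act 0 n53895 = n52428 := d5_1 D53895 (iv F236372) F236367
theorem F241677 : act 2 n53895 = n52074 := d20_1 D53895 (iv D52074) (iv F233450)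
theorem F241678 : act 3 n53895 = n52555 := d26_1 D53895 (iv F241668) F241666
theorem F241679 : act 4 n53895 = n52082 := d31_1 D53895 (iv D52082) (iv F233451)
theorem F241680 : act 5 n53895 = n52401 := d35_1 D53895 F234750 (iv F227965) F227966 D52071
theorem F241681 : act 8 n53895 = n52426 := d40_2 (iv F233453) D53895 F234819
def n53896 : Q := act 9 n52071
theorem D53896 : act 9 n52071 = n53896 := rfl
theorem F241682 : act 2 n53896 = n52075 := d23_1 D53896 (iv D52075) (iv F233450)
theorem F241683 : act 4 n53896 = n52083 := d34_1 D53896 (iv D52083) (iv F233451)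
theorem F241684 : act 5 n53896 = n52072 := d38_1 D53896 (iv D52072) D52071
theorem F241685 : act 7 n53896 = n52418 := d43_1 D53896 (iv D52418) (iv F233452)
def n53897 : Q := act 8 n52072
theorem D53897 : act 8 n52072 = n53897 := rfl
theorem F241686 : act 2 n53897 = n52076 := d22_1 D53897 (iv D52076) (iv F233454)
theorem F241687 : act 4 n53897 = n52073 := d33_1 D53897 (iv D52073) (iv F233455)
def n53898 : Q := act 9 n52074
theorem D53898 : act 9 n52074 = n53898 := rfl
theorem F241688 : act 1 n53898 = n52449 := d16_1 D53898 (iv D52449) (iv F233458)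
theorem F241689 : act 3 n53898 = n52262 := d29_1 D53898 (iv D52262) (iv F233459)
theorem F241690 : act 4 n53898 = n52086 := d34_1 D53898 (iv D52086) (iv F233460)
theorem F241691 : act 6 n53898 = n52075 := d41_1 D53898 (iv D52075) D52074
def n53899 : Q := act 8 n52075
theorem D53899 : act 8 n52075 = n53899 := rfl
theorem F241692 : act 1 n53899 = n52450 := d15_1 D53899 (iv D52450) (iv F233462)
theorem F241693 : act 4 n53899 = n52087 := d33_1 D53899 (iv D52087) (iv F233464)
theorem F241694 : act 5 n53899 = n52076 := d37_1 D53899 (iv D52076) (iv F233465)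
theorem F241695 : act 7 n53899 = n52420 := d42_1 D53899 (iv D52420) (iv F233466)
theorem F241696 : act 9 n53899 = n52435 := d44_2 D52075 D53899 (iv D52435) (iv D50423) (iv F224111)
def n53900 : Q := act 3 n52076
theorem D53900 : act 3 n52076 = n53900 := rfl
theorem F241697 : act 1 n53900 = n52451 := d10_1 D53900 (iv D52451) (iv F233467)
theorem F241698 : act 8 n53900 = n52264 := d28_2 D52076 D53900 (iv D52264) (iv D50218) (iv F224113)
def n53901 : Q := act 8 n52077
theorem D53901 : act 8 n52077 = n53901 := rfl
theorem F241699 : act 1 n53901 = n52078 := d15_1 D53901 (iv D52078) (iv F233469)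
theorem F241700 : act 2 n53901 = n52452 := d22_1 D53901 (iv D52452) (iv F233470)
theorem F241701 : act 4 n53901 = n52421 := d33_1 D53901 (iv D52421) (iv F233472)
theorem F241702 : act 6 n53901 = n52423 := d40_1 D53901 (iv D52423) (iv F233473)
theorem F241703 : act 7 n53901 = n52081 := d42_1 D53901 (iv D52081) (iv F233474)
theorem F241704 : act 9 n53901 = n52456 := d44_2 D52077 D53901 (iv D52456) (iv D50439) (iv F224122)
def n53902 : Q := act 9 n52079
theorem D53902 : act 9 n52079 = n53902 := rfl
theorem F241705 : act 1 n53902 = n52083 := d16_1 D53902 (iv D52083) (iv F233480)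
theorem F241706 : act 2 n53902 = n52455 := d23_1 D53902 (iv D52455) (iv F233481)
theorem F241707 : act 3 n53902 = n53902 := d29_1 D53902 (iv D53902) F233482
theorem F241708 : act 5 n53902 = n52080 := d38_1 D53902 (iv D52080) D52079
theorem F241709 : act 7 n53902 = n52416 := d43_1 D53902 (iv D52416) (iv F233483)
def n53903 : Q := act 8 n52080
theorem D53903 : act 8 n52080 = n53903 := rfl
theorem F241710 : act 1 n53903 = n52084 := d15_1 D53903 (iv D52084) (iv F233485)
theorem F241711 : act 2 n53903 = n52456 := d22_1 D53903 (iv D52456) (iv F233486)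
theorem F241712 : act 4 n53903 = n52081 := d33_1 D53903 (iv D52081) (iv F233488)
theorem F241713 : act 6 n53903 = n52088 := d40_1 D53903 (iv D52088) (iv F233489)
theorem F241714 : act 7 n53903 = n52421 := d42_1 D53903 (iv D52421) (iv F233490)
theorem F241715 : act 9 n53903 = n52452 := d44_2 D52080 D53903 (iv D52452) (iv D50435) (iv F224138)
def n53904 : Q := act 9 n52082
theorem D53904 : act 9 n52082 = n53904 := rfl
theorem F241716 : act 2 n53904 = n52086 := d23_1 D53904 (iv D52086) (iv F233494)
theorem F241717 : act 3 n53904 = n53904 := d29_1 D53904 (iv D53904) F233495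
theorem F241718 : act 5 n53904 = n52089 := d38_1 D53904 (iv D52089) (iv F233496)
theorem F241719 : act 6 n53904 = n52083 := d41_1 D53904 (iv D52083) D52082
def n53905 : Q := act 8 n52083
theorem D53905 : act 8 n52083 = n53905 := rfl
theorem F241720 : act 2 n53905 = n52087 := d22_1 D53905 (iv D52087) (iv F233498)
theorem F241721 : act 5 n53905 = n52084 := d37_1 D53905 (iv D52084) (iv F233500)
theorem F241722 : act 7 n53905 = n52419 := d42_1 D53905 (iv D52419) (iv F233501)
theorem F241723 : act 9 n53905 = n52434 := d44_2 D52083 D53905 (iv D52434) (iv D50422) (iv F224146)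
def n53906 : Q := act 3 n52084
theorem D53906 : act 3 n52084 = n53906 := rfl
theorem F241724 : act 6 n53906 = n52091 := d26_2 (iv F233504) D53906 (iv D52091)
theorem F241725 : act 7 n53906 = n52422 := d27_2 (iv F233505) D53906 (iv D52422)
theorem F241726 : act 8 n53906 = n53906 := d28_2 D52084 D53906 (iv D53906) (iv D52084) F224148
theorem F241727 : act 9 n53906 = n52453 := d29_2 (iv F233506) D53906 (iv D52453)
def n53907 : Q := act 8 n52086
theorem D53907 : act 8 n52086 = n53907 := rfl
theorem F241728 : act 1 n53907 = n52463 := d15_1 D53907 (iv D52463) (iv F233510)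
theorem F241729 : act 5 n53907 = n52093 := d37_1 D53907 (iv D52093) (iv F233512)
theorem F241730 : act 6 n53907 = n52087 := d40_1 D53907 (iv D52087) (iv F233513)
theorem F241731 : act 9 n53907 = n52430 := d44_2 D52086 D53907 (iv D52430) (iv D50419) (iv F224157)
def n53908 : Q := act 3 n52088
theorem D53908 : act 3 n52088 = n53908 := rfl
theorem F241732 : act 1 n53908 = n52091 := d10_1 D53908 (iv D52091) (iv F233518)
theorem F241733 : act 8 n53908 = n53908 := d28_2 D52088 D53908 (iv D53908) (iv D52088) F224169
def n53909 : Q := act 8 n52089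
theorem D53909 : act 8 n52089 = n53909 := rfl
theorem F241734 : act 2 n53909 = n52093 := d22_1 D53909 (iv D52093) (iv F233521)
theorem F241735 : act 6 n53909 = n52090 := d40_1 D53909 (iv D52090) (iv F233523)
def n53910 : Q := act 3 n52090
theorem D53910 : act 3 n52090 = n53910 := rfl
theorem F241736 : act 2 n53910 = n52424 := d17_1 D53910 (iv D52424) (iv F227793) F227794 (iv F233524)
theorem F241737 : act 5 n53910 = n52091 := d25_2 (iv F233525) D53910 (iv D52091)
theorem F241738 : act 8 n53910 = n53910 := d28_2 D52090 D53910 (iv D53910) (iv D52090) F224176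
theorem F241739 : act 9 n53910 = n52468 := d29_2 F236343 D53910 (iv F236339)
def n53911 : Q := act 8 n52092
theorem D53911 : act 8 n52092 = n53911 := rfl
theorem F241740 : act 1 n53911 = n52460 := d15_1 D53911 F234899 (iv F233527)
theorem F241741 : act 3 n53911 = n52456 := d28_1 D53911 (iv D52456) F225712 (iv F224200) (iv F233528)
theorem F241742 : act 6 n53911 = n52467 := d40_1 D53911 F234914 (iv F233529)
theorem F241743 : act 7 n53911 = n52093 := d42_1 D53911 (iv D52093) (iv F233530)
def n53912 : Q := act 8 n52094
theorem D53912 : act 8 n52094 = n53912 := rfl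
theorem F241744 : act 0 n53912 = n52679 := d7_1 D53912 (iv D52679) (iv F233533)
theorem F241745 : act 1 n53912 = n52511 := d15_1 D53912 (iv D52511) (iv F233534)
theorem F241746 : act 2 n53912 = n52309 := d22_1 D53912 (iv D52309) (iv F233535)
theorem F241747 : act 3 n53912 = n52239 := d28_1 D53912 (iv D52239) F224939 (iv F224221) (iv F233536)
theorem F241748 : act 5 n53912 = n53912 := d37_1 D53912 (iv D53912) F233537
theorem F241749 : act 6 n53912 = n52106 := d40_1 D53912 (iv D52106) (iv F233538)
def n53913 : Q := act 4 n52097
theorem D53913 : act 4 n52097 = n53913 := rfl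
theorem F241750 : act 0 n53913 = n52208 := d3_1 D53913 (iv D52208) (iv F233551)
theorem F241751 : act 2 n53913 = n52098 := d18_1 D53913 (iv D52098) D52097
theorem F241752 : act 5 n53913 = n52546 := d30_2 (iv F233553) D53913 (iv D52546) F226089 (iv F224547)
theorem F241753 : act 7 n53913 = n52138 := d32_2 (iv F233554) D53913 (iv D52138)
theorem F241754 : act 8 n53913 = n52150 := d33_2 (iv F233555) D53913 (iv D52150)
def n53914 : Q := act 9 n52097
theorem D53914 : act 9 n52097 = n53914 := rfl
theorem F241755 : act 0 n53914 = n52209 := d8_1 D53914 (iv D52209) (iv F233551)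
theorem F241756 : act 2 n53914 = n52099 := d23_1 D53914 (iv D52099) D52097
theorem F241757 : act 3 n53914 = n53914 := d29_1 D53914 (iv D53914) F233552
theorem F241758 : act 5 n53914 = n52142 := d38_1 D53914 (iv D52142) (iv F233553)
theorem F241759 : act 7 n53914 = n52139 := d43_1 D53914 (iv D52139) (iv F233554)
def n53915 : Q := act 9 n52098
theorem D53915 : act 9 n52098 = n53915 := rfl
theorem F241760 : act 0 n53915 = n52210 := d8_1 D53915 (iv D52210) (iv F233556)
theorem F241761 : act 1 n53915 = n52497 := d16_1 D53915 (iv D52497) (iv F233557)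
theorem F241762 : act 3 n53915 = n52102 := d29_1 D53915 (iv D52102) (iv F233558)
theorem F241763 : act 4 n53915 = n52099 := d34_1 D53915 (iv D52099) D52098
theorem F241764 : act 5 n53915 = n52548 := d38_1 D53915 (iv D52548) (iv F233559)
theorem F241765 : act 7 n53915 = n52140 := d43_1 D53915 (iv D52140) (iv F233560)
def n53916 : Q := act 8 n52099
theorem D53916 : act 8 n52099 = n53916 := rfl
theorem F241766 : act 0 n53916 = n52211 := d7_1 D53916 (iv D52211) (iv F233562)
theorem F241767 : act 1 n53916 = n52498 := d15_1 D53916 (iv D52498) (iv F233563)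
theorem F241768 : act 3 n53916 = n52203 := d28_1 D53916 (iv D52203) F224804 (iv F224300) (iv F233564)
theorem F241769 : act 5 n53916 = n52143 := d37_1 D53916 (iv D52143) (iv F233565)
theorem F241770 : act 7 n53916 = n52141 := d42_1 D53916 (iv D52141) (iv F233566)
theorem F241771 : act 9 n53916 = n52154 := d44_2 D52099 D53916 (iv D52154) (iv D50122) (iv F224293)
def n53917 : Q := act 9 n52100
theorem D53917 : act 9 n52100 = n53917 := rfl
theorem F241772 : act 0 n53917 = n52202 := d8_1 D53917 (iv D52202) (iv F233567)
theorem F241773 : act 1 n53917 = n52501 := d16_1 D53917 (iv D52501) (iv F233568)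
theorem F241774 : act 3 n53917 = n52140 := d29_1 D53917 (iv D52140) (iv F233569)
theorem F241775 : act 4 n53917 = n52101 := d34_1 D53917 (iv D52101) D52100
theorem F241776 : act 5 n53917 = n52550 := d38_1 D53917 (iv D52550) (iv F233570)
theorem F241777 : act 7 n53917 = n52102 := d43_1 D53917 (iv D52102) (iv F233571)
def n53918 : Q := act 8 n52101
theorem D53918 : act 8 n52101 = n53918 := rfl
theorem F241778 : act 0 n53918 = n52203 := d7_1 D53918 (iv D52203) (iv F233573)
theorem F241779 : act 1 n53918 = n52502 := d15_1 D53918 (iv D52502) (iv F233574)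
theorem F241780 : act 3 n53918 = n52211 := d28_1 D53918 (iv D52211) F224826 (iv F224312) (iv F233575)
theorem F241781 : act 5 n53918 = n52104 := d37_1 D53918 (iv D52104) (iv F233576)
theorem F241782 : act 7 n53918 = n52103 := d42_1 D53918 (iv D52103) (iv F233577)
theorem F241783 : act 9 n53918 = n52106 := d44_2 D52101 D53918 (iv D52106) (iv D50069) (iv F224305)
def n53919 : Q := act 8 n52102
theorem D53919 : act 8 n52102 = n53919 := rfl
theorem F241784 : act 0 n53919 = n52610 := d7_1 D53919 (iv D52610) (iv F233578)
theorem F241785 : act 1 n53919 = n52504 := d15_1 D53919 (iv D52504) (iv F233579)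
theorem F241786 : act 4 n53919 = n52103 := d33_1 D53919 (iv D52103) (iv F233580)
theorem F241787 : act 5 n53919 = n52552 := d37_1 D53919 (iv D52552) (iv F233581)
theorem F241788 : act 9 n53919 = n52112 := d44_2 D52102 D53919 (iv D52112) (iv D50073) (iv F224316)
def n53920 : Q := act 8 n52105
theorem D53920 : act 8 n52105 = n53920 := rfl
theorem F241789 : act 0 n53920 = n52645 := d7_1 D53920 (iv D52645) (iv F233594)
theorem F241790 : act 1 n53920 = n52520 := d15_1 D53920 (iv D52520) (iv F233595)
theorem F241791 : act 4 n53920 = n52106 := d33_1 D53920 (iv D52106) (iv F233596)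
theorem F241792 : act 5 n53920 = n52562 := d37_1 D53920 (iv D52562) (iv F233597)
theorem F241793 : act 7 n53920 = n52112 := d42_1 D53920 (iv D52112) (iv F233598)
def n53921 : Q := act 4 n52107
theorem D53921 : act 4 n52107 = n53921 := rfl
theorem F241794 : act 0 n53921 = n52108 := d3_1 D53921 (iv D52108) D52107
theorem F241795 : act 1 n53921 = n52647 := d11_1 D53921 F235443 (iv F233604)
theorem F241796 : act 2 n53921 = n52218 := d18_1 D53921 F234108 (iv F233605)
theorem F241797 : act 5 n53921 = n52563 := d30_2 (iv F233607) D53921 (iv D52563) F226140 (iv F224380)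
theorem F241798 : act 6 n53921 = n52215 := d31_2 (iv F233608) D53921 F234097
theorem F241799 : act 8 n53921 = n52257 := d33_2 (iv F233609) D53921 F234253
def n53922 : Q := act 9 n52107
theorem D53922 : act 9 n52107 = n53922 := rfl
theorem F241800 : act 0 n53922 = n52109 := d8_1 D53922 (iv D52109) D52107
theorem F241801 : act 1 n53922 = n52680 := d16_1 D53922 (iv D52680) (iv F233604)
theorem F241802 : act 2 n53922 = n52229 := d23_1 D53922 (iv D52229) (iv F233605)
theorem F241803 : act 3 n53922 = n52121 := d29_1 D53922 (iv D52121) (iv F233606)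
theorem F241804 : act 5 n53922 = n52116 := d38_1 D53922 (iv D52116) (iv F233607)
theorem F241805 : act 6 n53922 = n52226 := d41_1 D53922 (iv D52226) (iv F233608)
def n53923 : Q := act 9 n52108
theorem D53923 : act 9 n52108 = n53923 := rfl
theorem F241806 : act 1 n53923 = n52110 := d16_1 D53923 (iv D52110) (iv F233610)
theorem F241807 : act 2 n53923 = n52523 := d23_1 D53923 (iv D52523) (iv F233611)
theorem F241808 : act 4 n53923 = n52109 := d34_1 D53923 (iv D52109) D52108
theorem F241809 : act 5 n53923 = n52566 := d38_1 D53923 (iv D52566) (iv F233612)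
def n53924 : Q := act 8 n52109
theorem D53924 : act 8 n52109 = n53924 := rfl
theorem F241810 : act 1 n53924 = n52111 := d15_1 D53924 (iv D52111) (iv F233613)
theorem F241811 : act 2 n53924 = n52524 := d22_1 D53924 (iv D52524) (iv F233614)
theorem F241812 : act 5 n53924 = n52117 := d37_1 D53924 (iv D52117) (iv F233616)
def n53925 : Q := act 8 n52110
theorem D53925 : act 8 n52110 = n53925 := rfl
theorem F241813 : act 0 n53925 = n52663 := d7_1 D53925 (iv D52663) (iv F233617)
theorem F241814 : act 2 n53925 = n52112 := d22_1 D53925 (iv D52112) (iv F233618)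
theorem F241815 : act 4 n53925 = n52111 := d33_1 D53925 (iv D52111) (iv F233619)
theorem F241816 : act 5 n53925 = n52570 := d37_1 D53925 (iv D52570) (iv F233620)
def n53926 : Q := act 3 n52111
theorem D53926 : act 3 n52111 = n53926 := rfl
theorem F241817 : act 0 n53926 = n52687 := d2_1 D53926 (iv D52687) (iv F233621)
theorem F241818 : act 2 n53926 = n52260 := d17_1 D53926 (iv D52260) F224977 (iv F224358) (iv F233622)
theorem F241819 : act 5 n53926 = n52118 := d25_2 (iv F233623) D53926 (iv D52118)
theorem F241820 : act 8 n53926 = n52123 := d28_2 D52111 D53926 (iv D52123) (iv D50086) (iv F224350)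
def n53927 : Q := act 3 n52112
theorem D53927 : act 3 n52112 = n53927 := rfl
theorem F241821 : act 0 n53927 = n52668 := d2_1 D53927 (iv D52668) (iv F233624)
theorem F241822 : act 1 n53927 = n52530 := d10_1 D53927 (iv D52530) (iv F233625)
theorem F241823 : act 4 n53927 = n52264 := d24_2 (iv F233626) D53927 (iv D52264) F224985 (iv F224358)
theorem F241824 : act 5 n53927 = n52571 := d25_2 (iv F233627) D53927 (iv D52571)
def n53928 : Q := act 9 n52113
theorem D53928 : act 9 n52113 = n53928 := rfl
theorem F241825 : act 0 n53928 = n52114 := d8_1 D53928 (iv D52114) D52113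
theorem F241826 : act 1 n53928 = n52671 := d16_1 D53928 (iv D52671) (iv F233628)
theorem F241827 : act 2 n53928 = n52233 := d23_1 D53928 (iv D52233) (iv F233629)
theorem F241828 : act 3 n53928 = n52124 := d29_1 D53928 (iv D52124) (iv F233630)
theorem F241829 : act 4 n53928 = n52572 := d34_1 D53928 (iv D52572) (iv F233631)
theorem F241830 : act 6 n53928 = n53928 := d41_1 D53928 (iv D53928) F233632
theorem F241831 : act 7 n53928 = n52116 := d43_1 D53928 (iv D52116) (iv F233633)
def n53929 : Q := act 8 n52114
theorem D53929 : act 8 n52114 = n53929 := rfl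
theorem F241832 : act 1 n53929 = n52115 := d15_1 D53929 (iv D52115) (iv F233635)
theorem F241833 : act 2 n53929 = n52533 := d22_1 D53929 (iv D52533) (iv F233636)
theorem F241834 : act 4 n53929 = n52573 := d33_1 D53929 (iv D52573) (iv F233638)
theorem F241835 : act 6 n53929 = n53929 := d40_1 D53929 (iv D53929) F233639
theorem F241836 : act 7 n53929 = n52117 := d42_1 D53929 (iv D52117) (iv F233640)
def n53930 : Q := act 3 n52115
theorem D53930 : act 3 n52115 = n53930 := rfl
theorem F241837 : act 0 n53930 = n52676 := d2_1 D53930 (iv D52676) (iv F233641)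
theorem F241838 : act 2 n53930 = n52272 := d17_1 D53930 (iv D52272) F225010 (iv F224373) (iv F233642)
theorem F241839 : act 6 n53930 = n53930 := d26_2 F233644 D53930 (iv D53930)
theorem F241840 : act 7 n53930 = n52118 := d27_2 (iv F233645) D53930 (iv D52118)
theorem F241841 : act 8 n53930 = n52126 := d28_2 D52115 D53930 (iv D52126) (iv D50089) (iv F224367)
def n53931 : Q := act 8 n52116
theorem D53931 : act 8 n52116 = n53931 := rfl
theorem F241842 : act 0 n53931 = n52117 := d7_1 D53931 (iv D52117) (iv F233646)
theorem F241843 : act 1 n53931 = n52681 := d15_1 D53931 (iv D52681) (iv F233647)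
theorem F241844 : act 2 n53931 = n52234 := d22_1 D53931 (iv D52234) (iv F233648)
theorem F241845 : act 4 n53931 = n52574 := d33_1 D53931 (iv D52574) (iv F233650)
theorem F241846 : act 6 n53931 = n52119 := d40_1 D53931 (iv D52119) (iv F233651)
theorem F241847 : act 9 n53931 = n52294 := d44_2 D52116 D53931 (iv D52294) (iv D50246) (iv F224382)
def n53932 : Q := act 3 n52117
theorem D53932 : act 3 n52117 = n53932 := rfl
theorem F241848 : act 1 n53932 = n52118 := d10_1 D53932 (iv D52118) (iv F233652)
theorem F241849 : act 6 n53932 = n52120 := d26_2 (iv F233655) D53932 (iv D52120)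
theorem F241850 : act 8 n53932 = n52128 := d28_2 D52117 D53932 (iv D52128) (iv D50091) (iv F224385)
def n53933 : Q := act 8 n52121
theorem D53933 : act 8 n52121 = n53933 := rfl
theorem F241851 : act 0 n53933 = n52122 := d7_1 D53933 (iv D52122) (iv F233670)
theorem F241852 : act 1 n53933 = n52757 := d15_1 D53933 (iv D52757) (iv F233671)
theorem F241853 : act 2 n53933 = n52130 := d22_1 D53933 (iv D52130) (iv F233672)
theorem F241854 : act 5 n53933 = n52127 := d37_1 D53933 (iv D52127) (iv F233673)
theorem F241855 : act 6 n53933 = n52705 := d40_1 D53933 (iv D52705) (iv F233674)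
theorem F241856 : act 9 n53933 = n53933 := d44_2 D52121 D53933 (iv D53933) (iv D52121) F224411
def n53934 : Q := act 3 n52122
theorem D53934 : act 3 n52122 = n53934 := rfl
theorem F241857 : act 1 n53934 = n52123 := d10_1 D53934 (iv D52123) (iv F233675)
theorem F241858 : act 5 n53934 = n52128 := d25_2 (iv F233677) D53934 (iv D52128)
theorem F241859 : act 9 n53934 = n53934 := d29_2 F233678 D53934 (iv D53934)
def n53935 : Q := act 4 n52123
theorem D53935 : act 4 n52123 = n53935 := rfl
theorem F241860 : act 0 n53935 = n52762 := d3_1 D53935 (iv D52762) (iv F233679)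
theorem F241861 : act 2 n53935 = n52311 := d18_1 D53935 (iv D52311) (iv F233680)
theorem F241862 : act 9 n53935 = n53935 := d34_2 F233682 D53935 (iv D53935)
def n53936 : Q := act 8 n52124
theorem D53936 : act 8 n52124 = n53936 := rfl
theorem F241863 : act 0 n53936 = n52125 := d7_1 D53936 (iv D52125) (iv F233683)
theorem F241864 : act 1 n53936 = n52733 := d15_1 D53936 F235710 (iv F233684)
theorem F241865 : act 2 n53936 = n52132 := d22_1 D53936 (iv D52132) (iv F233685)
theorem F241866 : act 4 n53936 = n52732 := d33_1 D53936 F235704 (iv F233686)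
theorem F241867 : act 6 n53936 = n53936 := d40_1 D53936 (iv D53936) F233687
theorem F241868 : act 7 n53936 = n52127 := d42_1 D53936 (iv D52127) (iv F233688)
theorem F241869 : act 9 n53936 = n53936 := d44_2 D52124 D53936 (iv D53936) (iv D52124) F224424
def n53937 : Q := act 3 n52125
theorem D53937 : act 3 n52125 = n53937 := rfl
theorem F241870 : act 1 n53937 = n52126 := d10_1 D53937 (iv D52126) (iv F233689)
theorem F241871 : act 2 n53937 = n52723 := d17_1 D53937 (iv D52723) F226749 (iv F224485) (iv F233690)
theorem F241872 : act 6 n53937 = n53937 := d26_2 F233692 D53937 (iv D53937)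
theorem F241873 : act 7 n53937 = n52128 := d27_2 (iv F233693) D53937 (iv D52128)
theorem F241874 : act 9 n53937 = n53937 := d29_2 F233694 D53937 (iv D53937)
def n53938 : Q := act 4 n52126
theorem D53938 : act 4 n52126 = n53938 := rfl
theorem F241875 : act 0 n53938 = n52742 := d3_1 D53938 F235749 (iv F233695)
theorem F241876 : act 2 n53938 = n52314 := d18_1 D53938 (iv D52314) (iv F233696)
theorem F241877 : act 3 n53938 = n52734 := d24_1 D53938 (iv D52734) (iv D50789) (iv F224432) D52126
theorem F241878 : act 6 n53938 = n53938 := d31_2 F233697 D53938 (iv D53938)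
theorem F241879 : act 7 n53938 = n52129 := d32_2 (iv F233698) D53938 (iv D52129)
theorem F241880 : act 9 n53938 = n53938 := d34_2 F233699 D53938 (iv D53938)
def n53939 : Q := act 5 n52129
theorem D53939 : act 5 n52129 = n53939 := rfl
theorem F241881 : act 0 n53939 = n52763 := d4_1 D53939 (iv D52763) (iv F233709)
theorem F241882 : act 2 n53939 = n52315 := d19_1 D53939 (iv D52315) (iv F233710)
theorem F241883 : act 3 n53939 = n52735 := d25_1 D53939 (iv D52735) (iv F233711)
theorem F241884 : act 9 n53939 = n53939 := d38_2 F233713 D53939 (iv D53939)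
def n53940 : Q := act 9 n52133
theorem D53940 : act 9 n52133 = n53940 := rfl
theorem F241885 : act 0 n53940 = n52519 := d8_1 D53940 (iv D52519) (iv F233731)
theorem F241886 : act 1 n53940 = n52153 := d16_1 D53940 (iv D52153) (iv F233732)
theorem F241887 : act 3 n53940 = n52366 := d29_1 D53940 (iv D52366) (iv F233733)
theorem F241888 : act 4 n53940 = n52134 := d34_1 D53940 (iv D52134) D52133
theorem F241889 : act 5 n53940 = n52494 := d38_1 D53940 (iv D52494) (iv F233734)
theorem F241890 : act 7 n53940 = n52135 := d43_1 D53940 (iv D52135) (iv F233735)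
def n53941 : Q := act 8 n52134
theorem D53941 : act 8 n52134 = n53941 := rfl
theorem F241891 : act 0 n53941 = n52537 := d7_1 D53941 (iv D52537) (iv F233737)
theorem F241892 : act 1 n53941 = n52154 := d15_1 D53941 (iv D52154) (iv F233738)
theorem F241893 : act 3 n53941 = n52273 := d28_1 D53941 (iv D52273) F225014 (iv F224517) (iv F233739)
theorem F241894 : act 5 n53941 = n52137 := d37_1 D53941 (iv D52137) (iv F233740)
theorem F241895 : act 7 n53941 = n52136 := d42_1 D53941 (iv D52136) (iv F233741)
theorem F241896 : act 9 n53941 = n52498 := d44_2 D52134 D53941 (iv D52498) (iv D50500) (iv F224510)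
def n53942 : Q := act 8 n52135
theorem D53942 : act 8 n52135 = n53942 := rfl
theorem F241897 : act 0 n53942 = n52529 := d7_1 D53942 (iv D52529) (iv F233742)
theorem F241898 : act 1 n53942 = n52162 := d15_1 D53942 (iv D52162) (iv F233743)
theorem F241899 : act 4 n53942 = n52136 := d33_1 D53942 (iv D52136) (iv F233744)
theorem F241900 : act 5 n53942 = n52496 := d37_1 D53942 (iv D52496) (iv F233745)
def n53943 : Q := act 3 n52138
theorem D53943 : act 3 n52138 = n53943 := rfl
theorem F241901 : act 0 n53943 = n52214 := d2_1 D53943 (iv D52214) (iv F233757)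
theorem F241902 : act 4 n53943 = n53943 := d24_2 D52138 D53943 (iv D53943) (iv D52138) F224537
def n53944 : Q := act 9 n52138
theorem D53944 : act 9 n52138 = n53944 := rfl
theorem F241903 : act 0 n53944 = n52216 := d8_1 D53944 (iv D52216) (iv F233757)
theorem F241904 : act 2 n53944 = n52140 := d23_1 D53944 (iv D52140) (iv F233758)
theorem F241905 : act 4 n53944 = n52139 := d34_1 D53944 (iv D52139) D52138
def n53945 : Q := act 8 n52139
theorem D53945 : act 8 n52139 = n53945 := rfl
theorem F241906 : act 0 n53945 = n52217 := d7_1 D53945 (iv D52217) (iv F233760)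
theorem F241907 : act 2 n53945 = n52141 := d22_1 D53945 (iv D52141) (iv F233761)
theorem F241908 : act 5 n53945 = n52144 := d37_1 D53945 (iv D52144) (iv F233763)
theorem F241909 : act 9 n53945 = n52160 := d44_2 D52139 D53945 (iv D52160) (iv D50125) (iv F224539)
def n53946 : Q := act 8 n52140
theorem D53946 : act 8 n52140 = n53946 := rfl
theorem F241910 : act 0 n53946 = n52220 := d7_1 D53946 (iv D52220) (iv F233764)
theorem F241911 : act 4 n53946 = n52141 := d33_1 D53946 (iv D52141) (iv F233765)
theorem F241912 : act 9 n53946 = n52162 := d44_2 D52140 D53946 (iv D52162) (iv D50127) (iv F224541)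
def n53947 : Q := act 8 n52142
theorem D53947 : act 8 n52142 = n53947 := rfl
theorem F241913 : act 0 n53947 = n52222 := d7_1 D53947 (iv D52222) (iv F233770)
theorem F241914 : act 2 n53947 = n52143 := d22_1 D53947 (iv D52143) (iv F233771)
theorem F241915 : act 4 n53947 = n52766 := d33_1 D53947 (iv D52766) (iv F233773)
theorem F241916 : act 6 n53947 = n53947 := d40_1 D53947 (iv D53947) F233774
theorem F241917 : act 7 n53947 = n52144 := d42_1 D53947 (iv D52144) (iv F233775)
theorem F241918 : act 9 n53947 = n52166 := d44_2 D52142 D53947 (iv D52166) (iv D50131) (iv F224550)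
def n53948 : Q := act 3 n52144
theorem D53948 : act 3 n52144 = n53948 := rfl
theorem F241919 : act 0 n53948 = n52228 := d2_1 D53948 (iv D52228) (iv F233783)
theorem F241920 : act 2 n53948 = n52622 := d17_1 D53948 (iv D52622) F226318 (iv F224562) (iv F233784)
theorem F241921 : act 6 n53948 = n52145 := d26_2 (iv F233785) D53948 (iv D52145)
theorem F241922 : act 8 n53948 = n53948 := d28_2 D52144 D53948 (iv D53948) (iv D52144) F224559
theorem F241923 : act 9 n53948 = n52172 := d29_2 (iv F233786) D53948 (iv D52172)
def n53949 : Q := act 1 n52146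
theorem D53949 : act 1 n52146 = n53949 := rfl
theorem F241924 : act 0 n53949 = n52708 := d0_1 D53949 F235621 (iv F233243) F233244 (iv F233792)
theorem F241925 : act 3 n53949 = n52177 := d10_2 (iv F233793) D53949 (iv D52177)
theorem F241926 : act 5 n53949 = n53949 := d12_2 F233794 D53949 (iv D53949)
theorem F241927 : act 6 n53949 = n52149 := d13_2 (iv F233795) D53949 (iv D52149)
theorem F241928 : act 7 n53949 = n52720 := d14_2 (iv F233796) D53949 F235654
def n53950 : Q := act 4 n52146
theorem D53950 : act 4 n52146 = n53950 := rfl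
theorem F241929 : act 0 n53950 = n52235 := d3_1 D53950 (iv D52235) (iv F233792)
theorem F241930 : act 2 n53950 = n52147 := d18_1 D53950 (iv D52147) D52146
theorem F241931 : act 3 n53950 = n52661 := d24_1 D53950 F235477 F226486 (iv F224675) (iv F233793)
theorem F241932 : act 6 n53950 = n52150 := d31_2 (iv F233795) D53950 (iv D52150)
theorem F241933 : act 7 n53950 = n52656 := d32_2 (iv F233796) D53950 F235468
def n53951 : Q := act 9 n52146
theorem D53951 : act 9 n52146 = n53951 := rfl
theorem F241934 : act 0 n53951 = n52236 := d8_1 D53951 (iv D52236) (iv F233792)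
theorem F241935 : act 2 n53951 = n52148 := d23_1 D53951 (iv D52148) D52146
theorem F241936 : act 3 n53951 = n52178 := d29_1 D53951 (iv D52178) (iv F233793)
theorem F241937 : act 5 n53951 = n53951 := d38_1 D53951 (iv D53951) F233794
theorem F241938 : act 6 n53951 = n52151 := d41_1 D53951 (iv D52151) (iv F233795)
theorem F241939 : act 7 n53951 = n52744 := d43_1 D53951 (iv D52744) (iv F233796)
def n53952 : Q := act 5 n52147
theorem D53952 : act 5 n52147 = n53952 := rfl
theorem F241940 : act 0 n53952 = n52237 := d4_1 D53952 (iv D52237) (iv F233797)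
theorem F241941 : act 4 n53952 = n53952 := d30_1 D53952 (iv D53952) (iv D52147) F224570 D52147
def n53953 : Q := act 9 n52147
theorem D53953 : act 9 n52147 = n53953 := rfl
theorem F241942 : act 0 n53953 = n52238 := d8_1 D53953 (iv D52238) (iv F233797)
theorem F241943 : act 4 n53953 = n52148 := d34_1 D53953 (iv D52148) D52147
theorem F241944 : act 6 n53953 = n52153 := d41_1 D53953 (iv D52153) (iv F233798)
def n53954 : Q := act 8 n52148
theorem D53954 : act 8 n52148 = n53954 := rfl
theorem F241945 : act 0 n53954 = n52239 := d7_1 D53954 (iv D52239) (iv F233799)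
theorem F241946 : act 3 n53954 = n52679 := d28_1 D53954 (iv D52679) F226459 (iv F224576) (iv F233800)
theorem F241947 : act 5 n53954 = n53954 := d37_1 D53954 (iv D53954) F233801
theorem F241948 : act 6 n53954 = n52154 := d40_1 D53954 (iv D52154) (iv F233802)
def n53955 : Q := act 4 n52149
theorem D53955 : act 4 n52149 = n53955 := rfl
theorem F241949 : act 1 n53955 = n52150 := d11_1 D53955 (iv D52150) D52149
theorem F241950 : act 7 n53955 = n52155 := d32_2 (iv F233805) D53955 (iv D52155)
def n53956 : Q := act 9 n52149
theorem D53956 : act 9 n52149 = n53956 := rfl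
theorem F241951 : act 1 n53956 = n52151 := d16_1 D53956 (iv D52151) D52149
theorem F241952 : act 3 n53956 = n52180 := d29_1 D53956 (iv D52180) (iv F233803)
theorem F241953 : act 5 n53956 = n52163 := d38_1 D53956 (iv D52163) (iv F233804)
theorem F241954 : act 7 n53956 = n52156 := d43_1 D53956 (iv D52156) (iv F233805)
def n53957 : Q := act 3 n52150
theorem D53957 : act 3 n52150 = n53957 := rfl
theorem F241955 : act 0 n53957 = n52242 := d2_1 D53957 (iv D52242) (iv F233806)
theorem F241956 : act 2 n53957 = n52643 := d17_1 D53957 (iv F236355) F236354 F233315 (iv F233807)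
theorem F241957 : act 4 n53957 = n52181 := d24_2 D52150 D53957 (iv D52181) (iv D50148) (iv F224578)
theorem F241958 : act 6 n53957 = n52661 := d26_2 F241932 D53957 (iv F241931)
theorem F241959 : act 7 n53957 = n52157 := d27_2 (iv F233808) D53957 (iv D52157)
def n53958 : Q := act 5 n52150
theorem D53958 : act 5 n52150 = n53958 := rfl
theorem F241960 : act 0 n53958 = n52243 := d4_1 D53958 (iv D52243) (iv F233806)
theorem F241961 : act 2 n53958 = n52152 := d19_1 D53958 (iv D52152) (iv F233807)
theorem F241962 : act 4 n53958 = n52164 := d30_1 D53958 (iv D52164) (iv D50130) (iv F224579) D52150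
theorem F241963 : act 7 n53958 = n52158 := d36_2 (iv F233808) D53958 (iv D52158)
theorem F241964 : act 8 n53958 = n52546 := d37_2 F241754 D53958 (iv F241752)
def n53959 : Q := act 9 n52150
theorem D53959 : act 9 n52150 = n53959 := rfl
theorem F241965 : act 0 n53959 = n52244 := d8_1 D53959 (iv D52244) (iv F233806)
theorem F241966 : act 2 n53959 = n52153 := d23_1 D53959 (iv D52153) (iv F233807)
theorem F241967 : act 4 n53959 = n52151 := d34_1 D53959 (iv D52151) D52150
theorem F241968 : act 7 n53959 = n52159 := d43_1 D53959 (iv D52159) (iv F233808)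
def n53960 : Q := act 8 n52151
theorem D53960 : act 8 n52151 = n53960 := rfl
theorem F241969 : act 0 n53960 = n52245 := d7_1 D53960 (iv D52245) (iv F233809)
theorem F241970 : act 2 n53960 = n52154 := d22_1 D53960 (iv D52154) (iv F233810)
theorem F241971 : act 5 n53960 = n52166 := d37_1 D53960 (iv D52166) (iv F233812)
theorem F241972 : act 7 n53960 = n52160 := d42_1 D53960 (iv D52160) (iv F233813)
def n53961 : Q := act 9 n52152
theorem D53961 : act 9 n52152 = n53961 := rfl
theorem F241973 : act 0 n53961 = n52246 := d8_1 D53961 (iv D52246) (iv F233814)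
theorem F241974 : act 1 n53961 = n52494 := d16_1 D53961 (iv D52494) (iv F233815)
theorem F241975 : act 3 n53961 = n52396 := d29_1 D53961 (iv D52396) (iv F233816)
theorem F241976 : act 4 n53961 = n52167 := d34_1 D53961 (iv D52167) (iv F233817)
theorem F241977 : act 5 n53961 = n52153 := d38_1 D53961 (iv D52153) D52152
theorem F241978 : act 7 n53961 = n52161 := d43_1 D53961 (iv D52161) (iv F233818)
def n53962 : Q := act 8 n52153
theorem D53962 : act 8 n52153 = n53962 := rfl
theorem F241979 : act 0 n53962 = n52247 := d7_1 D53962 (iv D52247) (iv F233820)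
theorem F241980 : act 4 n53962 = n52154 := d33_1 D53962 (iv D52154) (iv F233821)
theorem F241981 : act 7 n53962 = n52162 := d42_1 D53962 (iv D52162) (iv F233822)
def n53963 : Q := act 3 n52155
theorem D53963 : act 3 n52155 = n53963 := rfl
theorem F241982 : act 1 n53963 = n52157 := d10_1 D53963 (iv D52157) (iv F233827)
theorem F241983 : act 4 n53963 = n52186 := d24_2 D52155 D53963 (iv D52186) (iv D50153) (iv F224587)
theorem F241984 : act 6 n53963 = n52636 := d26_2 (iv F233828) D53963 F235408
def n53964 : Q := act 9 n52155
theorem D53964 : act 9 n52155 = n53964 := rfl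
theorem F241985 : act 1 n53964 = n52159 := d16_1 D53964 (iv D52159) (iv F233827)
theorem F241986 : act 4 n53964 = n52156 := d34_1 D53964 (iv D52156) D52155
theorem F241987 : act 6 n53964 = n52698 := d41_1 D53964 F235578 (iv F233828)
def n53965 : Q := act 8 n52156
theorem D53965 : act 8 n52156 = n53965 := rfl
theorem F241988 : act 1 n53965 = n52160 := d15_1 D53965 (iv D52160) (iv F233829)
theorem F241989 : act 5 n53965 = n52169 := d37_1 D53965 (iv D52169) (iv F233831)
theorem F241990 : act 6 n53965 = n52689 := d40_1 D53965 F235553 (iv F233832)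
def n53966 : Q := act 5 n52157
theorem D53966 : act 5 n52157 = n53966 := rfl
theorem F241991 : act 0 n53966 = n52254 := d4_1 D53966 (iv D52254) (iv F233833)
theorem F241992 : act 2 n53966 = n52633 := d19_1 D53966 F235402 (iv F233834)
theorem F241993 : act 3 n53966 = n52158 := d25_1 D53966 (iv D52158) D52157
theorem F241994 : act 4 n53966 = n53966 := d30_1 D53966 (iv D53966) F233835 F224730 (iv F233835)
theorem F241995 : act 6 n53966 = n52630 := d35_2 (iv F233836) D53966 (iv D52630) F226357 D50650
def n53967 : Q := act 9 n52157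
theorem D53967 : act 9 n52157 = n53967 := rfl
theorem F241996 : act 0 n53967 = n52256 := d8_1 D53967 (iv D52256) (iv F233833)
theorem F241997 : act 2 n53967 = n52644 := d23_1 D53967 (iv D52644) (iv F233834)
theorem F241998 : act 3 n53967 = n52159 := d29_1 D53967 (iv D52159) D52157
theorem F241999 : act 4 n53967 = n52189 := d34_1 D53967 (iv D52189) (iv F233835)
theorem F242000 : act 6 n53967 = n52640 := d41_1 D53967 (iv D52640) (iv F233836)
def n53968 : Q := act 9 n52158
theorem D53968 : act 9 n52158 = n53968 := rfl
theorem F242001 : act 0 n53968 = n52258 := d8_1 D53968 (iv D52258) (iv F233837)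
theorem F242002 : act 2 n53968 = n52161 := d23_1 D53968 (iv D52161) (iv F233838)
theorem F242003 : act 4 n53968 = n52170 := d34_1 D53968 (iv D52170) (iv F233839)
theorem F242004 : act 5 n53968 = n52159 := d38_1 D53968 (iv D52159) D52158
def n53969 : Q := act 8 n52159
theorem D53969 : act 8 n52159 = n53969 := rfl
theorem F242005 : act 0 n53969 = n52259 := d7_1 D53969 (iv D52259) (iv F233840)
theorem F242006 : act 2 n53969 = n52162 := d22_1 D53969 (iv D52162) (iv F233841)
theorem F242007 : act 4 n53969 = n52160 := d33_1 D53969 (iv D52160) (iv F233842)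
def n53970 : Q := act 3 n52160
theorem D53970 : act 3 n52160 = n53970 := rfl
theorem F242008 : act 0 n53970 = n52260 := d2_1 D53970 (iv D52260) (iv F233843)
theorem F242009 : act 2 n53970 = n52687 := d17_1 D53970 (iv D52687) F226492 (iv F224602) (iv F233844)
theorem F242010 : act 5 n53970 = n52172 := d25_2 (iv F233845) D53970 (iv D52172)
theorem F242011 : act 8 n53970 = n52191 := d28_2 D52160 D53970 (iv D52191) (iv D50157) (iv F224594)
def n53971 : Q := act 8 n52161
theorem D53971 : act 8 n52161 = n53971 := rfl
theorem F242012 : act 0 n53971 = n52263 := d7_1 D53971 (iv D52263) (iv F233846)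
theorem F242013 : act 1 n53971 = n52496 := d15_1 D53971 (iv D52496) (iv F233847)
theorem F242014 : act 4 n53971 = n52173 := d33_1 D53971 (iv D52173) (iv F233848)
theorem F242015 : act 5 n53971 = n52162 := d37_1 D53971 (iv D52162) (iv F233849)
def n53972 : Q := act 3 n52162
theorem D53972 : act 3 n52162 = n53972 := rfl
theorem F242016 : act 0 n53972 = n52264 := d2_1 D53972 (iv D52264) (iv F233850)
theorem F242017 : act 4 n53972 = n52668 := d24_2 (iv F233851) D53972 (iv D52668) F226422 (iv F224602)
def n53973 : Q := act 8 n52163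
theorem D53973 : act 8 n52163 = n53973 := rfl
theorem F242018 : act 1 n53973 = n52166 := d15_1 D53973 (iv D52166) (iv F233852)
theorem F242019 : act 6 n53973 = n53973 := d40_1 D53973 (iv D53973) F233854
theorem F242020 : act 7 n53973 = n52169 := d42_1 D53973 (iv D52169) (iv F233855)
def n53974 : Q := act 9 n52164
theorem D53974 : act 9 n52164 = n53974 := rfl
theorem F242021 : act 0 n53974 = n52270 := d8_1 D53974 (iv D52270) (iv F233856)
theorem F242022 : act 2 n53974 = n52167 := d23_1 D53974 (iv D52167) (iv F233857)
theorem F242023 : act 3 n53974 = n53974 := d29_1 D53974 (iv D53974) F233858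
theorem F242024 : act 5 n53974 = n52165 := d38_1 D53974 (iv D52165) D52164
theorem F242025 : act 7 n53974 = n52170 := d43_1 D53974 (iv D52170) (iv F233859)
def n53975 : Q := act 8 n52165
theorem D53975 : act 8 n52165 = n53975 := rfl
theorem F242026 : act 0 n53975 = n52271 := d7_1 D53975 (iv D52271) (iv F233861)
theorem F242027 : act 2 n53975 = n52168 := d22_1 D53975 (iv D52168) (iv F233862)
theorem F242028 : act 4 n53975 = n52166 := d33_1 D53975 (iv D52166) (iv F233864)
theorem F242029 : act 6 n53975 = n53975 := d40_1 D53975 (iv D53975) F233865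
theorem F242030 : act 7 n53975 = n52171 := d42_1 D53975 (iv D52171) (iv F233866)
theorem F242031 : act 9 n53975 = n52766 := d44_2 D52165 D53975 (iv D52766) (iv D50838) (iv F224612)
def n53976 : Q := act 3 n52166
theorem D53976 : act 3 n52166 = n53976 := rfl
theorem F242032 : act 0 n53976 = n52272 := d2_1 D53976 (iv D52272) (iv F233867)
theorem F242033 : act 2 n53976 = n52676 := d17_1 D53976 (iv D52676) F226448 (iv F224630) (iv F233868)
theorem F242034 : act 6 n53976 = n53976 := d26_2 F233869 D53976 (iv D53976)
theorem F242035 : act 7 n53976 = n52172 := d27_2 (iv F233870) D53976 (iv D52172)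
theorem F242036 : act 8 n53976 = n52194 := d28_2 D52166 D53976 (iv D52194) (iv D50161) (iv F224615)
def n53977 : Q := act 8 n52167
theorem D53977 : act 8 n52167 = n53977 := rfl
theorem F242037 : act 0 n53977 = n52273 := d7_1 D53977 (iv D52273) (iv F233871)
theorem F242038 : act 1 n53977 = n52495 := d15_1 D53977 (iv D52495) (iv F233872)
theorem F242039 : act 3 n53977 = n52537 := d28_1 D53977 (iv D52537) F226001 (iv F224673) (iv F233873)
theorem F242040 : act 5 n53977 = n52168 := d37_1 D53977 (iv D52168) (iv F233874)
theorem F242041 : act 7 n53977 = n52173 := d42_1 D53977 (iv D52173) (iv F233875)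
theorem F242042 : act 9 n53977 = n52549 := d44_2 D52167 D53977 (iv D52549) (iv D50559) (iv F224622)
def n53978 : Q := act 3 n52169
theorem D53978 : act 3 n52169 = n53978 := rfl
theorem F242043 : act 1 n53978 = n52172 := d10_1 D53978 (iv D52172) (iv F233883)
theorem F242044 : act 6 n53978 = n52174 := d26_2 (iv F233884) D53978 (iv D52174)
theorem F242045 : act 8 n53978 = n52196 := d28_2 D52169 D53978 (iv D52196) (iv D50163) (iv F224634)
def n53979 : Q := act 8 n52170
theorem D53979 : act 8 n52170 = n53979 := rfl
theorem F242046 : act 0 n53979 = n52283 := d7_1 D53979 (iv D52283) (iv F233885)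
theorem F242047 : act 2 n53979 = n52173 := d22_1 D53979 (iv D52173) (iv F233886)
theorem F242048 : act 5 n53979 = n52171 := d37_1 D53979 (iv D52171) (iv F233888)
def n53980 : Q := act 3 n52171
theorem D53980 : act 3 n52171 = n53980 := rfl
theorem F242049 : act 0 n53980 = n52284 := d2_1 D53980 (iv D52284) (iv F233889)
theorem F242050 : act 2 n53980 = n52541 := d17_1 D53980 (iv D52541) F226021 (iv F224653) (iv F233890)
theorem F242051 : act 6 n53980 = n52175 := d26_2 (iv F233892) D53980 (iv D52175)
theorem F242052 : act 8 n53980 = n53980 := d28_2 D52171 D53980 (iv D53980) (iv D52171) F224641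
def n53981 : Q := act 4 n52172
theorem D53981 : act 4 n52172 = n53981 := rfl
theorem F242053 : act 0 n53981 = n52285 := d3_1 D53981 (iv D52285) (iv F233893)
theorem F242054 : act 2 n53981 = n52688 := d18_1 D53981 (iv D52688) (iv F233894)
theorem F242055 : act 6 n53981 = n52176 := d31_2 (iv F233895) D53981 (iv D52176)
theorem F242056 : act 8 n53981 = n52197 := d33_2 (iv F233896) D53981 (iv D52197)
def n53982 : Q := act 4 n52174
theorem D53982 : act 4 n52174 = n53982 := rfl
theorem F242057 : act 1 n53982 = n52176 := d11_1 D53982 (iv D52176) (iv F233901)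
theorem F242058 : act 2 n53982 = n52693 := d18_1 D53982 (iv F241353) F241352
theorem F242059 : act 5 n53982 = n52694 := d30_2 (iv F233902) D53982 F235567 F226525 D50706
theorem F242060 : act 7 n53982 = n53982 := d32_2 F233903 D53982 (iv D53982)
theorem F242061 : act 8 n53982 = n52198 := d33_2 (iv F233904) D53982 (iv D52198)
def n53983 : Q := act 9 n52177
theorem D53983 : act 9 n52177 = n53983 := rfl
theorem F242062 : act 0 n53983 = n52709 := d8_1 D53983 (iv D52709) (iv F233913)
theorem F242063 : act 1 n53983 = n52178 := d16_1 D53983 (iv D52178) D52177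
theorem F242064 : act 2 n53983 = n53983 := d23_1 D53983 (iv D53983) F233914
theorem F242065 : act 4 n53983 = n52707 := d34_1 D53983 (iv D52707) (iv F233915)
theorem F242066 : act 5 n53983 = n53983 := d38_1 D53983 (iv D53983) F233916
theorem F242067 : act 6 n53983 = n52180 := d41_1 D53983 (iv D52180) (iv F233917)
theorem F242068 : act 7 n53983 = n52740 := d43_1 D53983 (iv D52740) (iv F233918)
def n53984 : Q := act 8 n52178
theorem D53984 : act 8 n52178 = n53984 := rfl
theorem F242069 : act 0 n53984 = n52297 := d7_1 D53984 (iv D52297) (iv F233920)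
theorem F242070 : act 2 n53984 = n52179 := d22_1 D53984 (iv D52179) (iv F233921)
theorem F242071 : act 4 n53984 = n52754 := d33_1 D53984 F235791 (iv F233922)
theorem F242072 : act 5 n53984 = n53984 := d37_1 D53984 (iv D53984) F233923
theorem F242073 : act 6 n53984 = n52183 := d40_1 D53984 (iv D52183) (iv F233924)
theorem F242074 : act 7 n53984 = n52749 := d42_1 D53984 (iv D52749) (iv F233925)
theorem F242075 : act 9 n53984 = n53984 := d44_2 D52178 D53984 (iv D53984) (iv D52178) F224679
def n53985 : Q := act 8 n52180
theorem D53985 : act 8 n52180 = n53985 := rfl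
theorem F242076 : act 1 n53985 = n52183 := d15_1 D53985 (iv D52183) (iv F233934)
theorem F242077 : act 2 n53985 = n53985 := d22_1 D53985 (iv D53985) F233935
theorem F242078 : act 5 n53985 = n52193 := d37_1 D53985 (iv D52193) (iv F233936)
theorem F242079 : act 7 n53985 = n52188 := d42_1 D53985 (iv D52188) (iv F233937)
theorem F242080 : act 9 n53985 = n53985 := d44_2 D52180 D53985 (iv D53985) (iv D52180) F224690
def n53986 : Q := act 9 n52181
theorem D53986 : act 9 n52181 = n53986 := rfl
theorem F242081 : act 0 n53986 = n52300 := d8_1 D53986 (iv D52300) (iv F233938)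
theorem F242082 : act 2 n53986 = n52678 := d23_1 D53986 (iv D52678) (iv F233939)
theorem F242083 : act 3 n53986 = n52182 := d29_1 D53986 (iv D52182) D52181
theorem F242084 : act 5 n53986 = n53986 := d38_1 D53986 (iv D53986) F233940
theorem F242085 : act 6 n53986 = n52685 := d41_1 D53986 (iv D52685) (iv F233941)
theorem F242086 : act 7 n53986 = n52189 := d43_1 D53986 (iv D52189) (iv F233942)
def n53987 : Q := act 8 n52182
theorem D53987 : act 8 n52182 = n53987 := rfl
theorem F242087 : act 0 n53987 = n52301 := d7_1 D53987 (iv D52301) (iv F233943)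
theorem F242088 : act 2 n53987 = n52184 := d22_1 D53987 (iv D52184) (iv F233944)
theorem F242089 : act 4 n53987 = n52183 := d33_1 D53987 (iv D52183) (iv F233945)
theorem F242090 : act 5 n53987 = n53987 := d37_1 D53987 (iv D53987) F233946
theorem F242091 : act 6 n53987 = n52754 := d40_1 D53987 F235791 (iv F233947)
theorem F242092 : act 7 n53987 = n52190 := d42_1 D53987 (iv D52190) (iv F233948)
theorem F242093 : act 9 n53987 = n53987 := d44_2 D52182 D53987 (iv D53987) (iv D52182) F224696
def n53988 : Q := act 3 n52183
theorem D53988 : act 3 n52183 = n53988 := rfl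
theorem F242094 : act 0 n53988 = n52302 := d2_1 D53988 (iv D52302) (iv F233949)
theorem F242095 : act 2 n53988 = n52756 := d17_1 D53988 (iv D52756) F226972 (iv F224710) (iv F233950)
theorem F242096 : act 5 n53988 = n52194 := d25_2 (iv F233951) D53988 (iv D52194)
theorem F242097 : act 7 n53988 = n52191 := d27_2 (iv F233952) D53988 (iv D52191)
theorem F242098 : act 9 n53988 = n53988 := d29_2 F233953 D53988 (iv D53988)
def n53989 : Q := act 8 n52185
theorem D53989 : act 8 n52185 = n53989 := rfl
theorem F242099 : act 0 n53989 = n52188 := d7_1 D53989 (iv D52188) (iv F233962)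
theorem F242100 : act 1 n53989 = n52303 := d15_1 D53989 (iv D52303) (iv F233963)
theorem F242101 : act 2 n53989 = n53989 := d22_1 D53989 (iv D53989) F233964
theorem F242102 : act 5 n53989 = n52195 := d37_1 D53989 (iv D52195) (iv F233965)
theorem F242103 : act 6 n53989 = n52735 := d40_1 D53989 F235720 (iv F233966)
theorem F242104 : act 9 n53989 = n53989 := d44_2 D52185 D53989 (iv D53989) (iv D52185) F224718
def n53990 : Q := act 9 n52186
theorem D53990 : act 9 n52186 = n53990 := rfl
theorem F242105 : act 1 n53990 = n52189 := d16_1 D53990 (iv D52189) (iv F233967)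
theorem F242106 : act 3 n53990 = n52187 := d29_1 D53990 (iv D52187) D52186
theorem F242107 : act 5 n53990 = n53990 := d38_1 D53990 (iv D53990) F233968
theorem F242108 : act 6 n53990 = n52673 := d41_1 D53990 (iv D52673) (iv F233969)
def n53991 : Q := act 8 n52187
theorem D53991 : act 8 n52187 = n53991 := rfl
theorem F242109 : act 1 n53991 = n52190 := d15_1 D53991 (iv D52190) (iv F233970)
theorem F242110 : act 2 n53991 = n53991 := d22_1 D53991 (iv D53991) F233971
theorem F242111 : act 4 n53991 = n52188 := d33_1 D53991 (iv D52188) (iv F233972)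
theorem F242112 : act 5 n53991 = n53991 := d37_1 D53991 (iv D53991) F233973
theorem F242113 : act 6 n53991 = n52753 := d40_1 D53991 F235787 (iv F233974)
theorem F242114 : act 9 n53991 = n53991 := d44_2 D52187 D53991 (iv D53991) (iv D52187) F224723
def n53992 : Q := act 3 n52188
theorem D53992 : act 3 n52188 = n53992 := rfl
theorem F242115 : act 1 n53992 = n52191 := d10_1 D53992 (iv D52191) (iv F233975)
theorem F242116 : act 5 n53992 = n52196 := d25_2 (iv F233977) D53992 (iv D52196)
theorem F242117 : act 6 n53992 = n52763 := d26_2 (iv F233978) D53992 F235823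
theorem F242118 : act 9 n53992 = n53992 := d29_2 F233979 D53992 (iv D53992)
def n53993 : Q := act 8 n52189
theorem D53993 : act 8 n52189 = n53993 := rfl
theorem F242119 : act 0 n53993 = n52309 := d7_1 D53993 (iv D52309) (iv F233980)
theorem F242120 : act 2 n53993 = n52679 := d22_1 D53993 (iv D52679) (iv F233981)
theorem F242121 : act 5 n53993 = n53993 := d37_1 D53993 (iv D53993) F233983
theorem F242122 : act 6 n53993 = n52675 := d40_1 D53993 (iv D52675) (iv F233984)
def n53994 : Q := act 3 n52190
theorem D53994 : act 3 n52190 = n53994 := rfl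
theorem F242123 : act 0 n53994 = n52310 := d2_1 D53994 (iv D52310) (iv F233985)
theorem F242124 : act 5 n53994 = n53994 := d25_2 F233988 D53994 (iv D53994)
theorem F242125 : act 6 n53994 = n52756 := d26_2 (iv F233989) D53994 (iv D52756)
theorem F242126 : act 9 n53994 = n53994 := d29_2 F233990 D53994 (iv D53994)
def n53995 : Q := act 4 n52191
theorem D53995 : act 4 n52191 = n53995 := rfl
theorem F242127 : act 0 n53995 = n52311 := d3_1 D53995 (iv D52311) (iv F233991)
theorem F242128 : act 2 n53995 = n52762 := d18_1 D53995 (iv D52762) (iv F233992)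
theorem F242129 : act 9 n53995 = n53995 := d34_2 F233994 D53995 (iv D53995)
def n53996 : Q := act 8 n52192
theorem D53996 : act 8 n52192 = n53996 := rfl
theorem F242130 : act 0 n53996 = n52193 := d7_1 D53996 (iv D52193) (iv F233995)
theorem F242131 : act 1 n53996 = n52312 := d15_1 D53996 (iv D52312) (iv F233996)
theorem F242132 : act 2 n53996 = n53996 := d22_1 D53996 (iv D53996) F233997
theorem F242133 : act 4 n53996 = n53996 := d33_1 D53996 (iv D53996) F233998
theorem F242134 : act 6 n53996 = n53996 := d40_1 D53996 (iv D53996) F233999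
theorem F242135 : act 7 n53996 = n52195 := d42_1 D53996 (iv D52195) (iv F234000)
theorem F242136 : act 9 n53996 = n53996 := d44_2 D52192 D53996 (iv D53996) (iv D52192) F224752
def n53997 : Q := act 3 n52193
theorem D53997 : act 3 n52193 = n53997 := rfl
theorem F242137 : act 1 n53997 = n52194 := d10_1 D53997 (iv D52194) (iv F234001)
theorem F242138 : act 6 n53997 = n53997 := d26_2 F234004 D53997 (iv D53997)
theorem F242139 : act 7 n53997 = n52196 := d27_2 (iv F234005) D53997 (iv D52196)
theorem F242140 : act 9 n53997 = n53997 := d29_2 F234006 D53997 (iv D53997)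
def n53998 : Q := act 4 n52194
theorem D53998 : act 4 n52194 = n53998 := rfl
theorem F242141 : act 0 n53998 = n52314 := d3_1 D53998 (iv D52314) (iv F234007)
theorem F242142 : act 2 n53998 = n52742 := d18_1 D53998 F235749 (iv F234008)
theorem F242143 : act 3 n53998 = n53998 := d24_1 D53998 (iv D53998) (iv D52194) F224760 D52194
theorem F242144 : act 6 n53998 = n53998 := d31_2 F234009 D53998 (iv D53998)
theorem F242145 : act 7 n53998 = n52197 := d32_2 (iv F234010) D53998 (iv D52197)
theorem F242146 : act 9 n53998 = n53998 := d34_2 F234011 D53998 (iv D53998)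
def n53999 : Q := act 4 n52196
theorem D53999 : act 4 n52196 = n53999 := rfl
theorem F242147 : act 1 n53999 = n52197 := d11_1 D53999 (iv D52197) (iv F234018)
theorem F242148 : act 2 n53999 = n52765 := d18_1 D53999 (iv F241396) F241394
theorem F242149 : act 3 n53999 = n53999 := d24_1 D53999 (iv D53999) (iv D52196) F224771 D52196
theorem F242150 : act 6 n53999 = n52198 := d31_2 (iv F234019) D53999 (iv D52198)
theorem F242151 : act 9 n53999 = n53999 := d34_2 F234020 D53999 (iv D53999)
def n54000 : Q := act 5 n52197
theorem D54000 : act 5 n52197 = n54000 := rfl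
theorem F242152 : act 0 n54000 = n52315 := d4_1 D54000 (iv D52315) (iv F234021)
theorem F242153 : act 2 n54000 = n52763 := d19_1 D54000 (iv D52763) (iv F234022)
theorem F242154 : act 3 n54000 = n54000 := d25_1 D54000 (iv D54000) F234023
theorem F242155 : act 9 n54000 = n54000 := d38_2 F234025 D54000 (iv D54000)
def n54001 : Q := act 0 n52199
theorem D54001 : act 0 n52199 = n54001 := rfl
theorem F242156 : act 1 n54001 = n52281 := d0_2 D52199 D54001 (iv F238036) F238037 F229469
theorem F242157 : act 2 n54001 = n52578 := d1_2 (iv F234032) D54001 (iv D52578)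
theorem F242158 : act 3 n54001 = n54001 := d2_2 F234033 D54001 (iv D54001)
theorem F242159 : act 5 n54001 = n52289 := d4_2 (iv F234034) D54001 F234372
theorem F242160 : act 7 n54001 = n52277 := d6_2 (iv F234035) D54001 F234328
theorem F242161 : act 8 n54001 = n52670 := d7_2 (iv F234036) D54001 F235490
def n54002 : Q := act 4 n52199
theorem D54002 : act 4 n52199 = n54002 := rfl
theorem F242162 : act 1 n54002 = n52200 := d11_1 D54002 (iv D52200) D52199
theorem F242163 : act 2 n54002 = n52579 := d18_1 D54002 (iv D52579) (iv F234032)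
theorem F242164 : act 5 n54002 = n52590 := d30_2 (iv F234034) D54002 (iv D52590) F226232 D50619
theorem F242165 : act 7 n54002 = n52599 := d32_2 (iv F234035) D54002 F235295
theorem F242166 : act 8 n54002 = n52636 := d33_2 (iv F234036) D54002 F235409
def n54003 : Q := act 9 n52199
theorem D54003 : act 9 n52199 = n54003 := rfl
theorem F242167 : act 1 n54003 = n52201 := d16_1 D54003 (iv D52201) D52199
theorem F242168 : act 2 n54003 = n52580 := d23_1 D54003 (iv D52580) (iv F234032)
theorem F242169 : act 3 n54003 = n54003 := d29_1 D54003 (iv D54003) F234033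
theorem F242170 : act 5 n54003 = n52613 := d38_1 D54003 (iv D52613) (iv F234034)
theorem F242171 : act 7 n54003 = n52617 := d43_1 D54003 (iv D52617) (iv F234035)
def n54004 : Q := act 3 n52200
theorem D54004 : act 3 n52200 = n54004 := rfl
theorem F242172 : act 2 n54004 = n52214 := d17_1 D54004 (iv D52214) F224833 (iv F224799) (iv F234037)
theorem F242173 : act 4 n54004 = n54004 := d24_2 D52200 D54004 (iv D54004) (iv D52200) F224794
theorem F242174 : act 5 n54004 = n52592 := d25_2 (iv F234038) D54004 (iv D52592)
theorem F242175 : act 7 n54004 = n52602 := d27_2 (iv F234039) D54004 F235302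
def n54005 : Q := act 9 n52200
theorem D54005 : act 9 n52200 = n54005 := rfl
theorem F242176 : act 2 n54005 = n52202 := d23_1 D54005 (iv D52202) (iv F234037)
theorem F242177 : act 4 n54005 = n52201 := d34_1 D54005 (iv D52201) D52200
theorem F242178 : act 5 n54005 = n52593 := d38_1 D54005 (iv D52593) (iv F234038)
theorem F242179 : act 7 n54005 = n52606 := d43_1 D54005 (iv D52606) (iv F234039)
def n54006 : Q := act 8 n52201
theorem D54006 : act 8 n52201 = n54006 := rfl
theorem F242180 : act 2 n54006 = n52203 := d22_1 D54006 (iv D52203) (iv F234041)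
theorem F242181 : act 5 n54006 = n52615 := d37_1 D54006 (iv D52615) (iv F234043)
theorem F242182 : act 7 n54006 = n52621 := d42_1 D54006 (iv D52621) (iv F234044)
theorem F242183 : act 9 n54006 = n52675 := d44_2 D52201 D54006 (iv D52675) (iv D50678) (iv F224797)
def n54007 : Q := act 8 n52202
theorem D54007 : act 8 n52202 = n54007 := rfl
theorem F242184 : act 1 n54007 = n52584 := d15_1 D54007 (iv D52584) (iv F234045)
theorem F242185 : act 4 n54007 = n52203 := d33_1 D54007 (iv D52203) (iv F234047)
theorem F242186 : act 5 n54007 = n52595 := d37_1 D54007 (iv D52595) (iv F234048)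
theorem F242187 : act 7 n54007 = n52610 := d42_1 D54007 (iv D52610) (iv F234049)
theorem F242188 : act 9 n54007 = n52645 := d44_2 D52202 D54007 (iv D52645) (iv D50654) (iv F224802)
def n54008 : Q := act 4 n52204
theorem D54008 : act 4 n52204 = n54008 := rfl
theorem F242189 : act 2 n54008 = n52205 := d18_1 D54008 (iv D52205) D52204
theorem F242190 : act 6 n54008 = n52208 := d31_2 (iv F234056) D54008 (iv D52208)
theorem F242191 : act 8 n54008 = n52235 := d33_2 (iv F234057) D54008 (iv D52235)
def n54009 : Q := act 9 n52204
theorem D54009 : act 9 n52204 = n54009 := rfl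
theorem F242192 : act 2 n54009 = n52206 := d23_1 D54009 (iv D52206) D52204
theorem F242193 : act 3 n54009 = n54009 := d29_1 D54009 (iv D54009) F234054
theorem F242194 : act 5 n54009 = n54009 := d38_1 D54009 (iv D54009) F234055
theorem F242195 : act 6 n54009 = n52209 := d41_1 D54009 (iv D52209) (iv F234056)
def n54010 : Q := act 9 n52205
theorem D54010 : act 9 n52205 = n54010 := rfl
theorem F242196 : act 1 n54010 = n52588 := d16_1 D54010 (iv D52588) (iv F234058)
theorem F242197 : act 3 n54010 = n52609 := d29_1 D54010 (iv D52609) (iv F234059)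
theorem F242198 : act 4 n54010 = n52206 := d34_1 D54010 (iv D52206) D52205
theorem F242199 : act 6 n54010 = n52210 := d41_1 D54010 (iv D52210) (iv F234060)
def n54011 : Q := act 8 n52206
theorem D54011 : act 8 n52206 = n54011 := rfl
theorem F242200 : act 1 n54011 = n52589 := d15_1 D54011 (iv D52589) (iv F234062)
theorem F242201 : act 5 n54011 = n54011 := d37_1 D54011 (iv D54011) F234064
theorem F242202 : act 6 n54011 = n52211 := d40_1 D54011 (iv D52211) (iv F234065)
theorem F242203 : act 9 n54011 = n52239 := d44_2 D52206 D54011 (iv D52239) (iv D50202) (iv F224810)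
def n54012 : Q := act 4 n52207
theorem D54012 : act 4 n52207 = n54012 := rfl
theorem F242204 : act 1 n54012 = n52208 := d11_1 D54012 (iv D52208) D52207
theorem F242205 : act 2 n54012 = n52590 := d18_1 D54012 (iv D52590) (iv F234066)
theorem F242206 : act 5 n54012 = n52579 := d30_2 (iv F234068) D54012 (iv D52579) F226214 (iv F224850)
theorem F242207 : act 7 n54012 = n52212 := d32_2 (iv F234069) D54012 (iv D52212)
theorem F242208 : act 8 n54012 = n52240 := d33_2 (iv F234070) D54012 (iv D52240)
def n54013 : Q := act 9 n52207
theorem D54013 : act 9 n52207 = n54013 := rfl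
theorem F242209 : act 1 n54013 = n52209 := d16_1 D54013 (iv D52209) D52207
theorem F242210 : act 2 n54013 = n52591 := d23_1 D54013 (iv D52591) (iv F234066)
theorem F242211 : act 3 n54013 = n54013 := d29_1 D54013 (iv D54013) F234067
theorem F242212 : act 5 n54013 = n52221 := d38_1 D54013 (iv D52221) (iv F234068)
theorem F242213 : act 7 n54013 = n52213 := d43_1 D54013 (iv D52213) (iv F234069)
def n54014 : Q := act 3 n52208
theorem D54014 : act 3 n52208 = n54014 := rfl
theorem F242214 : act 2 n54014 = n52602 := d17_1 D54014 F235302 F226256 (iv F224821) (iv F234071)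
theorem F242215 : act 4 n54014 = n54014 := d24_2 D52208 D54014 (iv D54014) (iv D52208) F224816
theorem F242216 : act 5 n54014 = n52581 := d25_2 (iv F234072) D54014 (iv D52581)
theorem F242217 : act 7 n54014 = n52214 := d27_2 (iv F234073) D54014 (iv D52214)
def n54015 : Q := act 9 n52208
theorem D54015 : act 9 n52208 = n54015 := rfl
theorem F242218 : act 2 n54015 = n52210 := d23_1 D54015 (iv D52210) (iv F234071)
theorem F242219 : act 4 n54015 = n52209 := d34_1 D54015 (iv D52209) D52208
theorem F242220 : act 5 n54015 = n52582 := d38_1 D54015 (iv D52582) (iv F234072)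
theorem F242221 : act 7 n54015 = n52216 := d43_1 D54015 (iv D52216) (iv F234073)
def n54016 : Q := act 8 n52209
theorem D54016 : act 8 n52209 = n54016 := rfl
theorem F242222 : act 2 n54016 = n52211 := d22_1 D54016 (iv D52211) (iv F234075)
theorem F242223 : act 5 n54016 = n52222 := d37_1 D54016 (iv D52222) (iv F234077)
theorem F242224 : act 7 n54016 = n52217 := d42_1 D54016 (iv D52217) (iv F234078)
theorem F242225 : act 9 n54016 = n52245 := d44_2 D52209 D54016 (iv D52245) (iv D50205) (iv F224819)
def n54017 : Q := act 8 n52210
theorem D54017 : act 8 n52210 = n54017 := rfl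
theorem F242226 : act 1 n54017 = n52595 := d15_1 D54017 (iv D52595) (iv F234079)
theorem F242227 : act 4 n54017 = n52211 := d33_1 D54017 (iv D52211) (iv F234081)
theorem F242228 : act 5 n54017 = n52584 := d37_1 D54017 (iv D52584) (iv F234082)
theorem F242229 : act 7 n54017 = n52220 := d42_1 D54017 (iv D52220) (iv F234083)
theorem F242230 : act 9 n54017 = n52247 := d44_2 D52210 D54017 (iv D52247) (iv D50207) (iv F224824)
def n54018 : Q := act 3 n52212
theorem D54018 : act 3 n52212 = n54018 := rfl
theorem F242231 : act 1 n54018 = n52214 := d10_1 D54018 (iv D52214) (iv F234088)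
theorem F242232 : act 4 n54018 = n54018 := d24_2 D52212 D54018 (iv D54018) (iv D52212) F224830
def n54019 : Q := act 5 n52212
theorem D54019 : act 5 n52212 = n54019 := rfl
theorem F242233 : act 0 n54019 = n52652 := d4_1 D54019 (iv F241164) F241160
theorem F242234 : act 1 n54019 = n52215 := d12_1 D54019 (iv D52215) (iv F234088)
theorem F242235 : act 2 n54019 = n52599 := d19_1 D54019 (iv D52599) (iv F234089)
theorem F242236 : act 4 n54019 = n52223 := d30_1 D54019 (iv D52223) (iv D50185) (iv F224831) D52212
theorem F242237 : act 6 n54019 = n52647 := d35_2 F237505 D54019 (iv D52647) (iv F232715) (iv F237504)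
theorem F242238 : act 7 n54019 = n52579 := d36_2 F242207 D54019 (iv F242206)
theorem F242239 : act 8 n54019 = n52251 := d37_2 (iv F234090) D54019 (iv D52251)
def n54020 : Q := act 9 n52212
theorem D54020 : act 9 n52212 = n54020 := rfl
theorem F242240 : act 1 n54020 = n52216 := d16_1 D54020 (iv D52216) (iv F234088)
theorem F242241 : act 2 n54020 = n52600 := d23_1 D54020 (iv D52600) (iv F234089)
theorem F242242 : act 4 n54020 = n52213 := d34_1 D54020 (iv D52213) D52212
def n54021 : Q := act 8 n52213
theorem D54021 : act 8 n52213 = n54021 := rfl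
theorem F242243 : act 1 n54021 = n52217 := d15_1 D54021 (iv D52217) (iv F234091)
theorem F242244 : act 2 n54021 = n52601 := d22_1 D54021 (iv D52601) (iv F234092)
theorem F242245 : act 5 n54021 = n52225 := d37_1 D54021 (iv D52225) (iv F234094)
theorem F242246 : act 9 n54021 = n52253 := d44_2 D52213 D54021 (iv D52253) (iv D50211) (iv F224832)
def n54022 : Q := act 5 n52214
theorem D54022 : act 5 n52214 = n54022 := rfl
theorem F242247 : act 2 n54022 = n52592 := d19_1 D54022 (iv F242174) F242172
theorem F242248 : act 3 n54022 = n52215 := d25_1 D54022 (iv D52215) D52214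
theorem F242249 : act 7 n54022 = n52581 := d36_2 F242217 D54022 (iv F242216)
theorem F242250 : act 4 n52703 = n54022 := d32_3 F242249 F235248 (iv F235602)
def n54023 : Q := act 8 n52214
theorem D54023 : act 8 n52214 = n54023 := rfl
theorem F242251 : act 3 n54023 = n52255 := d28_1 D54023 (iv D52255) (iv D50212) (iv F224834) D52214
theorem F242252 : act 4 n54023 = n54023 := d33_1 D54023 (iv D54023) F234095
def n54024 : Q := act 9 n52214
theorem D54024 : act 9 n52214 = n54024 := rfl
theorem F242253 : act 3 n54024 = n52216 := d29_1 D54024 (iv D52216) D52214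
theorem F242254 : act 4 n54024 = n54024 := d34_1 D54024 (iv D54024) F234095
def n54025 : Q := act 9 n52215
theorem D54025 : act 9 n52215 = n54025 := rfl
theorem F242255 : act 2 n54025 = n52219 := d23_1 D54025 (iv D52219) (iv F234096)
theorem F242256 : act 4 n54025 = n52226 := d34_1 D54025 (iv D52226) (iv F234097)
theorem F242257 : act 5 n54025 = n52216 := d38_1 D54025 (iv D52216) D52215
theorem F242258 : act 7 n54025 = n52582 := d43_1 D54025 (iv D52582) (iv F234098)
def n54026 : Q := act 8 n52216
theorem D54026 : act 8 n52216 = n54026 := rfl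
theorem F242259 : act 2 n54026 = n52220 := d22_1 D54026 (iv D52220) (iv F234100)
theorem F242260 : act 4 n54026 = n52217 := d33_1 D54026 (iv D52217) (iv F234101)
theorem F242261 : act 9 n54026 = n52259 := d44_2 D52216 D54026 (iv D52259) (iv D50214) (iv F224834)
def n54027 : Q := act 3 n52217
theorem D54027 : act 3 n52217 = n54027 := rfl
theorem F242262 : act 5 n54027 = n52228 := d25_2 (iv F234103) D54027 (iv D52228)
theorem F242263 : act 8 n54027 = n54027 := d28_2 D52217 D54027 (iv D54027) (iv D52217) F224836
theorem F242264 : act 9 n54027 = n52260 := d29_2 (iv F234104) D54027 (iv D52260)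
def n54028 : Q := act 9 n52218
theorem D54028 : act 9 n52218 = n54028 := rfl
theorem F242265 : act 0 n54028 = n52523 := d8_1 D54028 (iv D52523) (iv F234105)
theorem F242266 : act 1 n54028 = n52609 := d16_1 D54028 (iv D52609) (iv F234106)
theorem F242267 : act 3 n54028 = n52588 := d29_1 D54028 (iv D52588) (iv F234107)
theorem F242268 : act 4 n54028 = n52229 := d34_1 D54028 (iv D52229) (iv F234108)
theorem F242269 : act 6 n54028 = n52219 := d41_1 D54028 (iv D52219) D52218
def n54029 : Q := act 8 n52219
theorem D54029 : act 8 n52219 = n54029 := rfl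
theorem F242270 : act 1 n54029 = n52610 := d15_1 D54029 (iv D52610) (iv F234110)
theorem F242271 : act 4 n54029 = n52230 := d33_1 D54029 (iv D52230) (iv F234112)
theorem F242272 : act 5 n54029 = n52220 := d37_1 D54029 (iv D52220) (iv F234113)
theorem F242273 : act 7 n54029 = n52584 := d42_1 D54029 (iv D52584) (iv F234114)
theorem F242274 : act 9 n54029 = n52263 := d44_2 D52219 D54029 (iv D52263) (iv D50217) (iv F224842)
def n54030 : Q := act 3 n52220
theorem D54030 : act 3 n52220 = n54030 := rfl
theorem F242275 : act 1 n54030 = n52611 := d10_1 D54030 (iv D52611) (iv F234115)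
theorem F242276 : act 9 n54030 = n52264 := d29_2 (iv F234117) D54030 (iv D52264)
def n54031 : Q := act 8 n52221
theorem D54031 : act 8 n52221 = n54031 := rfl
theorem F242277 : act 1 n54031 = n52222 := d15_1 D54031 (iv D52222) (iv F234118)
theorem F242278 : act 2 n54031 = n52614 := d22_1 D54031 (iv D52614) (iv F234119)
theorem F242279 : act 4 n54031 = n52767 := d33_1 D54031 (iv D52767) (iv F234121)
theorem F242280 : act 6 n54031 = n54031 := d40_1 D54031 (iv D54031) F234122
theorem F242281 : act 7 n54031 = n52225 := d42_1 D54031 (iv D52225) (iv F234123)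
theorem F242282 : act 9 n54031 = n52269 := d44_2 D52221 D54031 (iv D52269) (iv D50221) (iv F224853)
def n54032 : Q := act 3 n52222
theorem D54032 : act 3 n52222 = n54032 := rfl
theorem F242283 : act 6 n54032 = n54032 := d26_2 F234126 D54032 (iv D54032)
theorem F242284 : act 7 n54032 = n52228 := d27_2 (iv F234127) D54032 (iv D52228)
theorem F242285 : act 8 n54032 = n54032 := d28_2 D52222 D54032 (iv D54032) (iv D52222) F224855
theorem F242286 : act 9 n54032 = n52272 := d29_2 (iv F234128) D54032 (iv D52272)
def n54033 : Q := act 9 n52223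
theorem D54033 : act 9 n52223 = n54033 := rfl
theorem F242287 : act 0 n54033 = n52682 := d8_1 D54033 (iv D52682) (iv F234129)
theorem F242288 : act 1 n54033 = n52226 := d16_1 D54033 (iv D52226) (iv F234130)
theorem F242289 : act 2 n54033 = n52617 := d23_1 D54033 (iv D52617) (iv F234131)
theorem F242290 : act 3 n54033 = n52702 := d29_1 D54033 (iv D52702) (iv F234132)
theorem F242291 : act 5 n54033 = n52224 := d38_1 D54033 (iv D52224) D52223
theorem F242292 : act 6 n54033 = n52680 := d41_1 D54033 (iv D52680) (iv F234133)
theorem F242293 : act 7 n54033 = n52580 := d43_1 D54033 (iv D52580) (iv F234134)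
def n54034 : Q := act 8 n52224
theorem D54034 : act 8 n52224 = n54034 := rfl
theorem F242294 : act 0 n54034 = n52692 := d7_1 D54034 (iv D52692) (iv F234136)
theorem F242295 : act 1 n54034 = n52227 := d15_1 D54034 (iv D52227) (iv F234137)
theorem F242296 : act 2 n54034 = n52618 := d22_1 D54034 (iv D52618) (iv F234138)
theorem F242297 : act 4 n54034 = n52225 := d33_1 D54034 (iv D52225) (iv F234140)
theorem F242298 : act 6 n54034 = n52231 := d40_1 D54034 (iv D52231) (iv F234141)
theorem F242299 : act 7 n54034 = n52767 := d42_1 D54034 (iv D52767) (iv F234142)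
theorem F242300 : act 9 n54034 = n52279 := d44_2 D52224 D54034 (iv D52279) (iv D50230) (iv F224869)
def n54035 : Q := act 3 n52225
theorem D54035 : act 3 n52225 = n54035 := rfl
theorem F242301 : act 1 n54035 = n52228 := d10_1 D54035 (iv D52228) (iv F234143)
theorem F242302 : act 6 n54035 = n52232 := d26_2 (iv F234145) D54035 (iv D52232)
theorem F242303 : act 8 n54035 = n54035 := d28_2 D52225 D54035 (iv D54035) (iv D52225) F224873
theorem F242304 : act 9 n54035 = n52280 := d29_2 (iv F234146) D54035 (iv D52280)
def n54036 : Q := act 8 n52226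
theorem D54036 : act 8 n52226 = n54036 := rfl
theorem F242305 : act 2 n54036 = n52230 := d22_1 D54036 (iv D52230) (iv F234147)
theorem F242306 : act 5 n54036 = n52227 := d37_1 D54036 (iv D52227) (iv F234149)
theorem F242307 : act 7 n54036 = n52583 := d42_1 D54036 (iv D52583) (iv F234150)
theorem F242308 : act 9 n54036 = n52283 := d44_2 D52226 D54036 (iv D52283) (iv D50233) (iv F224878)
def n54037 : Q := act 8 n52229
theorem D54037 : act 8 n52229 = n54037 := rfl
theorem F242309 : act 0 n54037 = n52524 := d7_1 D54037 (iv D52524) (iv F234159)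
theorem F242310 : act 1 n54037 = n52624 := d15_1 D54037 (iv D52624) (iv F234160)
theorem F242311 : act 5 n54037 = n52234 := d37_1 D54037 (iv D52234) (iv F234162)
theorem F242312 : act 6 n54037 = n52230 := d40_1 D54037 (iv D52230) (iv F234163)
theorem F242313 : act 9 n54037 = n52287 := d44_2 D52229 D54037 (iv D52287) (iv D50237) (iv F224891)
def n54038 : Q := act 8 n52233
theorem D54038 : act 8 n52233 = n54038 := rfl
theorem F242314 : act 0 n54038 = n52533 := d7_1 D54038 (iv D52533) (iv F234179)
theorem F242315 : act 1 n54038 = n52629 := d15_1 D54038 (iv D52629) (iv F234180)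
theorem F242316 : act 6 n54038 = n54038 := d40_1 D54038 (iv D54038) F234182
theorem F242317 : act 7 n54038 = n52234 := d42_1 D54038 (iv D52234) (iv F234183)
theorem F242318 : act 9 n54038 = n52296 := d44_2 D52233 D54038 (iv D52296) (iv D50250) (iv F224923)
def n54039 : Q := act 5 n52235
theorem D54039 : act 5 n52235 = n54039 := rfl
theorem F242319 : act 2 n54039 = n52237 := d19_1 D54039 (iv D52237) (iv F234188)
theorem F242320 : act 4 n54039 = n54039 := d30_1 D54039 (iv D54039) (iv D52235) F224934 D52235
def n54040 : Q := act 9 n52235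
theorem D54040 : act 9 n52235 = n54040 := rfl
theorem F242321 : act 2 n54040 = n52238 := d23_1 D54040 (iv D52238) (iv F234188)
theorem F242322 : act 4 n54040 = n52236 := d34_1 D54040 (iv D52236) D52235
theorem F242323 : act 6 n54040 = n52244 := d41_1 D54040 (iv D52244) (iv F234189)
def n54041 : Q := act 8 n52236
theorem D54041 : act 8 n52236 = n54041 := rfl
theorem F242324 : act 2 n54041 = n52239 := d22_1 D54041 (iv D52239) (iv F234190)
theorem F242325 : act 5 n54041 = n54041 := d37_1 D54041 (iv D54041) F234192
theorem F242326 : act 6 n54041 = n52245 := d40_1 D54041 (iv D52245) (iv F234193)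
def n54042 : Q := act 9 n52237
theorem D54042 : act 9 n52237 = n54042 := rfl
theorem F242327 : act 1 n54042 = n52634 := d16_1 D54042 (iv D52634) (iv F234194)
theorem F242328 : act 4 n54042 = n54042 := d34_1 D54042 (iv D54042) F234195
theorem F242329 : act 5 n54042 = n52238 := d38_1 D54042 (iv D52238) D52237
def n54043 : Q := act 8 n52238
theorem D54043 : act 8 n52238 = n54043 := rfl
theorem F242330 : act 1 n54043 = n52635 := d15_1 D54043 (iv D52635) (iv F234196)
theorem F242331 : act 4 n54043 = n52239 := d33_1 D54043 (iv D52239) (iv F234197)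
theorem F242332 : act 6 n54043 = n52247 := d40_1 D54043 (iv D52247) (iv F234198)
def n54044 : Q := act 5 n52240
theorem D54044 : act 5 n52240 = n54044 := rfl
theorem F242333 : act 1 n54044 = n52243 := d12_1 D54044 (iv D52243) (iv F234202)
theorem F242334 : act 2 n54044 = n52636 := d19_1 D54044 (iv D52636) (iv F234203)
theorem F242335 : act 4 n54044 = n52267 := d30_1 D54044 (iv D52267) (iv D50220) (iv F224944) D52240
theorem F242336 : act 7 n54044 = n52251 := d36_2 (iv F234204) D54044 (iv D52251)
theorem F242337 : act 8 n54044 = n52579 := d37_2 F242208 D54044 (iv F242206)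
def n54045 : Q := act 9 n52240
theorem D54045 : act 9 n52240 = n54045 := rfl
theorem F242338 : act 1 n54045 = n52244 := d16_1 D54045 (iv D52244) (iv F234202)
theorem F242339 : act 2 n54045 = n52637 := d23_1 D54045 (iv D52637) (iv F234203)
theorem F242340 : act 4 n54045 = n52241 := d34_1 D54045 (iv D52241) D52240
theorem F242341 : act 7 n54045 = n52252 := d43_1 D54045 (iv D52252) (iv F234204)
def n54046 : Q := act 8 n52241
theorem D54046 : act 8 n52241 = n54046 := rfl
theorem F242342 : act 1 n54046 = n52245 := d15_1 D54046 (iv D52245) (iv F234205)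
theorem F242343 : act 2 n54046 = n52638 := d22_1 D54046 (iv D52638) (iv F234206)
theorem F242344 : act 5 n54046 = n52269 := d37_1 D54046 (iv D52269) (iv F234208)
theorem F242345 : act 7 n54046 = n52253 := d42_1 D54046 (iv D52253) (iv F234209)
def n54047 : Q := act 5 n52242
theorem D54047 : act 5 n52242 = n54047 := rfl
theorem F242346 : act 2 n54047 = n52417 := d19_1 D54047 F236727 F236723
theorem F242347 : act 3 n54047 = n52243 := d25_1 D54047 (iv D52243) D52242
theorem F242348 : act 4 n54047 = n54047 := d30_1 D54047 (iv D54047) F234210 F225128 (iv F234210)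
theorem F242349 : act 7 n54047 = n52254 := d36_2 (iv F234211) D54047 (iv D52254)
def n54048 : Q := act 8 n52242
theorem D54048 : act 8 n52242 = n54048 := rfl
theorem F242350 : act 4 n54048 = n52299 := d33_1 D54048 (iv D52299) (iv F234210)
theorem F242351 : act 7 n54048 = n52255 := d42_1 D54048 (iv D52255) (iv F234211)
def n54049 : Q := act 9 n52242
theorem D54049 : act 9 n52242 = n54049 := rfl
theorem F242352 : act 3 n54049 = n52244 := d29_1 D54049 (iv D52244) D52242
theorem F242353 : act 4 n54049 = n52300 := d34_1 D54049 (iv D52300) (iv F234210)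
theorem F242354 : act 7 n54049 = n52256 := d43_1 D54049 (iv D52256) (iv F234211)
def n54050 : Q := act 9 n52243
theorem D54050 : act 9 n52243 = n54050 := rfl
theorem F242355 : act 2 n54050 = n52246 := d23_1 D54050 (iv D52246) (iv F234212)
theorem F242356 : act 4 n54050 = n52270 := d34_1 D54050 (iv D52270) (iv F234213)
theorem F242357 : act 5 n54050 = n52244 := d38_1 D54050 (iv D52244) D52243
theorem F242358 : act 7 n54050 = n52258 := d43_1 D54050 (iv D52258) (iv F234214)
def n54051 : Q := act 8 n52244
theorem D54051 : act 8 n52244 = n54051 := rfl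
theorem F242359 : act 2 n54051 = n52247 := d22_1 D54051 (iv D52247) (iv F234216)
theorem F242360 : act 4 n54051 = n52245 := d33_1 D54051 (iv D52245) (iv F234217)
theorem F242361 : act 7 n54051 = n52259 := d42_1 D54051 (iv D52259) (iv F234218)
def n54052 : Q := act 3 n52245
theorem D54052 : act 3 n52245 = n54052 := rfl
theorem F242362 : act 5 n54052 = n52272 := d25_2 (iv F234220) D54052 (iv D52272)
theorem F242363 : act 7 n54052 = n52260 := d27_2 (iv F234221) D54052 (iv D52260)
theorem F242364 : act 8 n54052 = n52302 := d28_2 D52245 D54052 (iv D52302) (iv D50258) (iv F224949)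
def n54053 : Q := act 8 n52246
theorem D54053 : act 8 n52246 = n54053 := rfl
theorem F242365 : act 1 n54053 = n52645 := d15_1 D54053 (iv D52645) (iv F234222)
theorem F242366 : act 4 n54053 = n52273 := d33_1 D54053 (iv D52273) (iv F234224)
theorem F242367 : act 5 n54053 = n52247 := d37_1 D54053 (iv D52247) (iv F234225)
theorem F242368 : act 7 n54053 = n52263 := d42_1 D54053 (iv D52263) (iv F234226)
theorem F242369 : act 9 n54053 = n52584 := d44_2 D52246 D54053 (iv D52584) (iv D50598) (iv F224956)
def n54054 : Q := act 3 n52247
theorem D54054 : act 3 n52247 = n54054 := rfl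
theorem F242370 : act 1 n54054 = n52646 := d10_1 D54054 (iv D52646) (iv F234227)
theorem F242371 : act 7 n54054 = n52264 := d27_2 (iv F234229) D54054 (iv D52264)
def n54055 : Q := act 5 n52248
theorem D54055 : act 5 n52248 = n54055 := rfl
theorem F242372 : act 0 n54055 = n52251 := d4_1 D54055 (iv D52251) (iv F234230)
theorem F242373 : act 1 n54055 = n52605 := d12_1 D54055 (iv F240915) F240912
theorem F242374 : act 2 n54055 = n52647 := d19_1 D54055 (iv D52647) (iv F234231)
theorem F242375 : act 4 n54055 = n52274 := d30_1 D54055 (iv D52274) (iv D50227) (iv F224965) D52248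
theorem F242376 : act 6 n54055 = n52599 := d35_2 F237720 D54055 (iv D52599) (iv F232528) (iv F237719)
theorem F242377 : act 8 n54055 = n52652 := d37_2 F241165 D54055 (iv F241164)
def n54056 : Q := act 9 n52248
theorem D54056 : act 9 n52248 = n54056 := rfl
theorem F242378 : act 0 n54056 = n52252 := d8_1 D54056 (iv D52252) (iv F234230)
theorem F242379 : act 2 n54056 = n52648 := d23_1 D54056 (iv D52648) (iv F234231)
theorem F242380 : act 4 n54056 = n52249 := d34_1 D54056 (iv D52249) D52248
def n54057 : Q := act 8 n52249
theorem D54057 : act 8 n52249 = n54057 := rfl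
theorem F242381 : act 0 n54057 = n52253 := d7_1 D54057 (iv D52253) (iv F234232)
theorem F242382 : act 2 n54057 = n52649 := d22_1 D54057 (iv D52649) (iv F234233)
theorem F242383 : act 5 n54057 = n52276 := d37_1 D54057 (iv D52276) (iv F234235)
def n54058 : Q := act 5 n52250
theorem D54058 : act 5 n52250 = n54058 := rfl
theorem F242384 : act 1 n54058 = n52254 := d12_1 D54058 (iv D52254) (iv F234236)
theorem F242385 : act 3 n54058 = n52251 := d25_1 D54058 (iv D52251) D52250
theorem F242386 : act 4 n54058 = n54058 := d30_1 D54058 (iv D54058) F234237 F225147 (iv F234237)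
def n54059 : Q := act 8 n52250
theorem D54059 : act 8 n52250 = n54059 := rfl
theorem F242387 : act 1 n54059 = n52255 := d15_1 D54059 (iv D52255) (iv F234236)
theorem F242388 : act 4 n54059 = n52304 := d33_1 D54059 (iv D52304) (iv F234237)
def n54060 : Q := act 9 n52250
theorem D54060 : act 9 n52250 = n54060 := rfl
theorem F242389 : act 1 n54060 = n52256 := d16_1 D54060 (iv D52256) (iv F234236)
theorem F242390 : act 3 n54060 = n52252 := d29_1 D54060 (iv D52252) D52250
theorem F242391 : act 4 n54060 = n52305 := d34_1 D54060 (iv D52305) (iv F234237)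
def n54061 : Q := act 6 n52251
theorem D54061 : act 6 n52251 = n54061 := rfl
theorem F242392 : act 0 n54061 = n52599 := d5_1 D54061 (iv F242376) F242372
theorem F242393 : act 1 n54061 = n52257 := d13_1 D54061 (iv D52257) (iv F234238)
theorem F242394 : act 2 n54061 = n52652 := d20_1 D54061 (iv D52652) (iv F234239)
theorem F242395 : act 4 n54061 = n52277 := d31_1 D54061 (iv D52277) (iv F234240)
theorem F242396 : act 5 n54061 = n52596 := d35_1 D54061 F237741 (iv D53072) F229182 D52251
theorem F242397 : act 8 n54061 = n52647 := d40_2 F242239 D54061 (iv F242237)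
def n54062 : Q := act 9 n52251
theorem D54062 : act 9 n52251 = n54062 := rfl
theorem F242398 : act 1 n54062 = n52258 := d16_1 D54062 (iv D52258) (iv F234238)
theorem F242399 : act 2 n54062 = n52653 := d23_1 D54062 (iv D52653) (iv F234239)
theorem F242400 : act 4 n54062 = n52278 := d34_1 D54062 (iv D52278) (iv F234240)
theorem F242401 : act 5 n54062 = n52252 := d38_1 D54062 (iv D52252) D52251
def n54063 : Q := act 8 n52252
theorem D54063 : act 8 n52252 = n54063 := rfl
theorem F242402 : act 1 n54063 = n52259 := d15_1 D54063 (iv D52259) (iv F234241)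
theorem F242403 : act 2 n54063 = n52654 := d22_1 D54063 (iv D52654) (iv F234242)
theorem F242404 : act 4 n54063 = n52253 := d33_1 D54063 (iv D52253) (iv F234243)
def n54064 : Q := act 3 n52253
theorem D54064 : act 3 n52253 = n54064 := rfl
theorem F242405 : act 1 n54064 = n52260 := d10_1 D54064 (iv D52260) (iv F234244)
theorem F242406 : act 5 n54064 = n52280 := d25_2 (iv F234246) D54064 (iv D52280)
theorem F242407 : act 8 n54064 = n52307 := d28_2 D52253 D54064 (iv D52307) (iv D50263) (iv F224970)
def n54065 : Q := act 6 n52254
theorem D54065 : act 6 n52254 = n54065 := rfl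
theorem F242408 : act 0 n54065 = n52630 := d5_1 D54065 (iv F241995) F241991
theorem F242409 : act 2 n54065 = n52555 := d20_1 D54065 (iv F241668) F241665
theorem F242410 : act 3 n54065 = n52257 := d26_1 D54065 (iv D52257) (iv F234247)
theorem F242411 : act 4 n54065 = n54065 := d31_1 D54065 (iv D54065) F234248
theorem F242412 : act 5 n54065 = n52553 := d35_1 D54065 F235168 F229193 F229191 D52254
def n54066 : Q := act 8 n52254
theorem D54066 : act 8 n52254 = n54066 := rfl
theorem F242413 : act 4 n54066 = n54066 := d33_1 D54066 (iv D54066) F234248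
theorem F242414 : act 5 n54066 = n52255 := d37_1 D54066 (iv D52255) D52254
def n54067 : Q := act 9 n52254
theorem D54067 : act 9 n52254 = n54067 := rfl
theorem F242415 : act 3 n54067 = n52258 := d29_1 D54067 (iv D52258) (iv F234247)
theorem F242416 : act 4 n54067 = n54067 := d34_1 D54067 (iv D54067) F234248
theorem F242417 : act 5 n54067 = n52256 := d38_1 D54067 (iv D52256) D52254
def n54068 : Q := act 9 n52255
theorem D54068 : act 9 n52255 = n54068 := rfl
theorem F242418 : act 4 n54068 = n52308 := d34_1 D54068 (iv D52308) (iv F234249)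
def n54069 : Q := act 8 n52256
theorem D54069 : act 8 n52256 = n54069 := rfl
theorem F242419 : act 4 n54069 = n52309 := d33_1 D54069 (iv D52309) (iv F234251)
def n54070 : Q := act 7 n52257
theorem D54070 : act 7 n52257 = n54070 := rfl
theorem F242420 : act 2 n54070 = n52261 := d21_1 D54070 (iv D52261) (iv F234252)
theorem F242421 : act 4 n54070 = n52281 := d32_1 D54070 (iv D52281) (iv F234253)
def n54071 : Q := act 9 n52257
theorem D54071 : act 9 n52257 = n54071 := rfl
theorem F242422 : act 2 n54071 = n52262 := d23_1 D54071 (iv D52262) (iv F234252)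
theorem F242423 : act 4 n54071 = n52282 := d34_1 D54071 (iv D52282) (iv F234253)
theorem F242424 : act 6 n54071 = n52258 := d41_1 D54071 (iv D52258) D52257
def n54072 : Q := act 8 n52258
theorem D54072 : act 8 n52258 = n54072 := rfl
theorem F242425 : act 2 n54072 = n52263 := d22_1 D54072 (iv D52263) (iv F234254)
theorem F242426 : act 4 n54072 = n52283 := d33_1 D54072 (iv D52283) (iv F234255)
theorem F242427 : act 5 n54072 = n52259 := d37_1 D54072 (iv D52259) (iv F234256)
def n54073 : Q := act 3 n52259
theorem D54073 : act 3 n52259 = n54073 := rfl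
def n54074 : Q := act 4 n52260
theorem D54074 : act 4 n52260 = n54074 := rfl
theorem F242428 : act 8 n54074 = n52311 := d33_2 (iv F234260) D54074 (iv D52311)
def n54075 : Q := act 9 n52261
theorem D54075 : act 9 n52261 = n54075 := rfl
theorem F242429 : act 1 n54075 = n52666 := d16_1 D54075 (iv D52666) (iv F234261)
theorem F242430 : act 4 n54075 = n52286 := d34_1 D54075 (iv D52286) (iv F234262)
theorem F242431 : act 7 n54075 = n52262 := d43_1 D54075 (iv D52262) D52261
def n54076 : Q := act 8 n52262
theorem D54076 : act 8 n52262 = n54076 := rfl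
theorem F242432 : act 1 n54076 = n52667 := d15_1 D54076 (iv D52667) (iv F234263)
theorem F242433 : act 4 n54076 = n52287 := d33_1 D54076 (iv D52287) (iv F234264)
theorem F242434 : act 6 n54076 = n52263 := d40_1 D54076 (iv D52263) (iv F234265)
def n54077 : Q := act 3 n52263
theorem D54077 : act 3 n52263 = n54077 := rfl
theorem F242435 : act 1 n54077 = n52668 := d10_1 D54077 (iv D52668) (iv F234266)
theorem F242436 : act 5 n54077 = n52264 := d25_2 (iv F234268) D54077 (iv D52264)
def n54078 : Q := act 2 n52264
theorem D54078 : act 2 n52264 = n54078 := rfl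
def n54079 : Q := act 5 n52265
theorem D54079 : act 5 n52265 = n54079 := rfl
theorem F242437 : act 0 n54079 = n52267 := d4_1 D54079 (iv D52267) (iv F234270)
theorem F242438 : act 1 n54079 = n52619 := d12_1 D54079 F235357 (iv F234271)
theorem F242439 : act 2 n54079 = n52670 := d19_1 D54079 (iv D52670) (iv F234272)
theorem F242440 : act 3 n54079 = n54079 := d25_1 D54079 (iv D54079) F234273
theorem F242441 : act 7 n54079 = n52274 := d36_2 (iv F234275) D54079 (iv D52274)
theorem F242442 : act 8 n54079 = n52578 := d37_2 (iv F234276) D54079 F235241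
def n54080 : Q := act 9 n52265
theorem D54080 : act 9 n52265 = n54080 := rfl
theorem F242443 : act 0 n54080 = n52268 := d8_1 D54080 (iv D52268) (iv F234270)
theorem F242444 : act 1 n54080 = n52626 := d16_1 D54080 (iv D52626) (iv F234271)
theorem F242445 : act 2 n54080 = n52671 := d23_1 D54080 (iv D52671) (iv F234272)
theorem F242446 : act 3 n54080 = n54080 := d29_1 D54080 (iv D54080) F234273
theorem F242447 : act 4 n54080 = n52266 := d34_1 D54080 (iv D52266) D52265
theorem F242448 : act 6 n54080 = n54080 := d41_1 D54080 (iv D54080) F234274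
theorem F242449 : act 7 n54080 = n52275 := d43_1 D54080 (iv D52275) (iv F234275)
def n54081 : Q := act 8 n52266
theorem D54081 : act 8 n52266 = n54081 := rfl
theorem F242450 : act 0 n54081 = n52269 := d7_1 D54081 (iv D52269) (iv F234277)
theorem F242451 : act 2 n54081 = n52672 := d22_1 D54081 (iv D52672) (iv F234278)
theorem F242452 : act 6 n54081 = n54081 := d40_1 D54081 (iv D54081) F234280
theorem F242453 : act 7 n54081 = n52276 := d42_1 D54081 (iv D52276) (iv F234281)
def n54082 : Q := act 9 n52267
theorem D54082 : act 9 n52267 = n54082 := rfl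
theorem F242454 : act 1 n54082 = n52270 := d16_1 D54082 (iv D52270) (iv F234282)
theorem F242455 : act 2 n54082 = n52673 := d23_1 D54082 (iv D52673) (iv F234283)
theorem F242456 : act 3 n54082 = n54082 := d29_1 D54082 (iv D54082) F234284
theorem F242457 : act 5 n54082 = n52268 := d38_1 D54082 (iv D52268) D52267
theorem F242458 : act 7 n54082 = n52278 := d43_1 D54082 (iv D52278) (iv F234285)
def n54083 : Q := act 8 n52268
theorem D54083 : act 8 n52268 = n54083 := rfl
theorem F242459 : act 1 n54083 = n52271 := d15_1 D54083 (iv D52271) (iv F234287)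
theorem F242460 : act 2 n54083 = n52674 := d22_1 D54083 (iv D52674) (iv F234288)
theorem F242461 : act 4 n54083 = n52269 := d33_1 D54083 (iv D52269) (iv F234290)
theorem F242462 : act 6 n54083 = n54083 := d40_1 D54083 (iv D54083) F234291
theorem F242463 : act 7 n54083 = n52279 := d42_1 D54083 (iv D52279) (iv F234292)
theorem F242464 : act 9 n54083 = n52767 := d44_2 D52268 D54083 (iv D52767) (iv D50840) (iv F224995)
def n54084 : Q := act 3 n52269
theorem D54084 : act 3 n52269 = n54084 := rfl
theorem F242465 : act 1 n54084 = n52272 := d10_1 D54084 (iv D52272) (iv F234293)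
theorem F242466 : act 2 n54084 = n52725 := d17_1 D54084 (iv D52725) F226756 (iv F226441) (iv F234294)
theorem F242467 : act 6 n54084 = n54084 := d26_2 F234295 D54084 (iv D54084)
theorem F242468 : act 7 n54084 = n52280 := d27_2 (iv F234296) D54084 (iv D52280)
theorem F242469 : act 8 n54084 = n52313 := d28_2 D52269 D54084 (iv D52313) (iv D50269) (iv F224998)
def n54085 : Q := act 8 n52270
theorem D54085 : act 8 n52270 = n54085 := rfl
theorem F242470 : act 2 n54085 = n52273 := d22_1 D54085 (iv D52273) (iv F234297)
theorem F242471 : act 5 n54085 = n52271 := d37_1 D54085 (iv D52271) (iv F234299)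
theorem F242472 : act 7 n54085 = n52283 := d42_1 D54085 (iv D52283) (iv F234300)
theorem F242473 : act 9 n54085 = n52583 := d44_2 D52270 D54085 (iv D52583) (iv D50597) (iv F225004)
def n54086 : Q := act 3 n52271
theorem D54086 : act 3 n52271 = n54086 := rfl
theorem F242474 : act 6 n54086 = n54086 := d26_2 F234303 D54086 (iv D54086)
theorem F242475 : act 7 n54086 = n52284 := d27_2 (iv F234304) D54086 (iv D52284)
theorem F242476 : act 8 n54086 = n54086 := d28_2 D52271 D54086 (iv D54086) (iv D52271) F225006
theorem F242477 : act 9 n54086 = n52768 := d29_2 (iv F234305) D54086 (iv D52768)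
def n54087 : Q := act 4 n52272
theorem D54087 : act 4 n52272 = n54087 := rfl
theorem F242478 : act 6 n54087 = n54087 := d31_2 F234306 D54087 (iv D54087)
theorem F242479 : act 7 n54087 = n52285 := d32_2 (iv F234307) D54087 (iv D52285)
theorem F242480 : act 8 n54087 = n52314 := d33_2 (iv F234308) D54087 (iv D52314)
def n54088 : Q := act 9 n52274
theorem D54088 : act 9 n52274 = n54088 := rfl
theorem F242481 : act 0 n54088 = n52278 := d8_1 D54088 (iv D52278) (iv F234313)
theorem F242482 : act 1 n54088 = n52620 := d16_1 D54088 (iv D52620) (iv F234314)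
theorem F242483 : act 2 n54088 = n52680 := d23_1 D54088 (iv D52680) (iv F234315)
theorem F242484 : act 3 n54088 = n54088 := d29_1 D54088 (iv D54088) F234316
theorem F242485 : act 5 n54088 = n52275 := d38_1 D54088 (iv D52275) D52274
theorem F242486 : act 6 n54088 = n52617 := d41_1 D54088 (iv D52617) (iv F234317)
def n54089 : Q := act 8 n52275
theorem D54089 : act 8 n52275 = n54089 := rfl
theorem F242487 : act 0 n54089 = n52279 := d7_1 D54089 (iv D52279) (iv F234319)
theorem F242488 : act 1 n54089 = n52627 := d15_1 D54089 (iv D52627) (iv F234320)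
theorem F242489 : act 2 n54089 = n52681 := d22_1 D54089 (iv D52681) (iv F234321)
theorem F242490 : act 4 n54089 = n52276 := d33_1 D54089 (iv D52276) (iv F234323)
theorem F242491 : act 6 n54089 = n52288 := d40_1 D54089 (iv D52288) (iv F234324)
theorem F242492 : act 9 n54089 = n52692 := d44_2 D52275 D54089 (iv D52692) (iv D50700) (iv F225027)
def n54090 : Q := act 9 n52277
theorem D54090 : act 9 n52277 = n54090 := rfl
theorem F242493 : act 0 n54090 = n52617 := d8_1 D54090 (iv D52617) (iv F234328)
theorem F242494 : act 1 n54090 = n52282 := d16_1 D54090 (iv D52282) (iv F234329)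
theorem F242495 : act 2 n54090 = n52682 := d23_1 D54090 (iv D52682) (iv F234330)
theorem F242496 : act 3 n54090 = n54090 := d29_1 D54090 (iv D54090) F234331
theorem F242497 : act 5 n54090 = n52290 := d38_1 D54090 (iv D52290) (iv F234332)
theorem F242498 : act 6 n54090 = n52278 := d41_1 D54090 (iv D52278) D52277
def n54091 : Q := act 8 n52278
theorem D54091 : act 8 n52278 = n54091 := rfl
theorem F242499 : act 1 n54091 = n52283 := d15_1 D54091 (iv D52283) (iv F234334)
theorem F242500 : act 2 n54091 = n52683 := d22_1 D54091 (iv D52683) (iv F234335)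
theorem F242501 : act 5 n54091 = n52279 := d37_1 D54091 (iv D52279) (iv F234337)
def n54092 : Q := act 3 n52279
theorem D54092 : act 3 n52279 = n54092 := rfl
theorem F242502 : act 1 n54092 = n52284 := d10_1 D54092 (iv D52284) (iv F234338)
theorem F242503 : act 6 n54092 = n52292 := d26_2 (iv F234341) D54092 (iv D52292)
theorem F242504 : act 8 n54092 = n54092 := d28_2 D52279 D54092 (iv D54092) (iv D52279) F225037
def n54093 : Q := act 9 n52281
theorem D54093 : act 9 n52281 = n54093 := rfl
theorem F242505 : act 2 n54093 = n52286 := d23_1 D54093 (iv D52286) (iv F234345)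
theorem F242506 : act 3 n54093 = n54093 := d29_1 D54093 (iv D54093) F234346
theorem F242507 : act 5 n54093 = n52293 := d38_1 D54093 (iv D52293) (iv F234347)
theorem F242508 : act 7 n54093 = n52282 := d43_1 D54093 (iv D52282) D52281
def n54094 : Q := act 8 n52282
theorem D54094 : act 8 n52282 = n54094 := rfl
theorem F242509 : act 2 n54094 = n52287 := d22_1 D54094 (iv D52287) (iv F234348)
theorem F242510 : act 5 n54094 = n52294 := d37_1 D54094 (iv D52294) (iv F234350)
theorem F242511 : act 6 n54094 = n52283 := d40_1 D54094 (iv D52283) (iv F234351)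
def n54095 : Q := act 3 n52283
theorem D54095 : act 3 n52283 = n54095 := rfl
theorem F242512 : act 5 n54095 = n52284 := d25_2 (iv F234353) D54095 (iv D52284)
theorem F242513 : act 8 n54095 = n54095 := d28_2 D52283 D54095 (iv D54095) (iv D52283) F225047
def n54096 : Q := act 5 n52285
theorem D54096 : act 5 n52285 = n54096 := rfl
theorem F242514 : act 8 n54096 = n52315 := d37_2 (iv F234357) D54096 (iv D52315)
def n54097 : Q := act 8 n52286
theorem D54097 : act 8 n52286 = n54097 := rfl
theorem F242515 : act 1 n54097 = n52690 := d15_1 D54097 (iv D52690) (iv F234358)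
theorem F242516 : act 5 n54097 = n52296 := d37_1 D54097 (iv D52296) (iv F234360)
theorem F242517 : act 7 n54097 = n52287 := d42_1 D54097 (iv D52287) (iv F234361)
def n54098 : Q := act 3 n52288
theorem D54098 : act 3 n52288 = n54098 := rfl
theorem F242518 : act 0 n54098 = n52292 := d2_1 D54098 (iv D52292) (iv F234365)
theorem F242519 : act 1 n54098 = n52628 := d10_1 D54098 (iv D52628) (iv F234366)
theorem F242520 : act 5 n54098 = n52625 := d25_2 (iv F234369) D54098 (iv D52625)
theorem F242521 : act 7 n54098 = n54098 := d27_2 F234370 D54098 (iv D54098)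
theorem F242522 : act 8 n54098 = n54098 := d28_2 D52288 D54098 (iv D54098) (iv D52288) F225066
theorem F242523 : act 9 n54098 = n52693 := d29_2 (iv F234371) D54098 (iv D52693)
def n54099 : Q := act 9 n52289
theorem D54099 : act 9 n52289 = n54099 := rfl
theorem F242524 : act 0 n54099 = n52613 := d8_1 D54099 (iv D52613) (iv F234372)
theorem F242525 : act 1 n54099 = n52293 := d16_1 D54099 (iv D52293) (iv F234373)
theorem F242526 : act 2 n54099 = n52691 := d23_1 D54099 (iv D52691) (iv F234374)
theorem F242527 : act 3 n54099 = n54099 := d29_1 D54099 (iv D54099) F234375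
theorem F242528 : act 4 n54099 = n52612 := d34_1 D54099 (iv D52612) (iv F234376)
theorem F242529 : act 6 n54099 = n54099 := d41_1 D54099 (iv D54099) F234377
theorem F242530 : act 7 n54099 = n52290 := d43_1 D54099 (iv D52290) D52289
def n54100 : Q := act 8 n52290
theorem D54100 : act 8 n52290 = n54100 := rfl
theorem F242531 : act 0 n54100 = n52618 := d7_1 D54100 (iv D52618) (iv F234379)
theorem F242532 : act 1 n54100 = n52294 := d15_1 D54100 (iv D52294) (iv F234380)
theorem F242533 : act 2 n54100 = n52692 := d22_1 D54100 (iv D52692) (iv F234381)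
theorem F242534 : act 4 n54100 = n52616 := d33_1 D54100 (iv D52616) (iv F234383)
theorem F242535 : act 6 n54100 = n52291 := d40_1 D54100 (iv D52291) (iv F234384)
theorem F242536 : act 9 n54100 = n52681 := d44_2 D52290 D54100 (iv D52681) (iv D50685) (iv F225078)
def n54101 : Q := act 8 n52293
theorem D54101 : act 8 n52293 = n54101 := rfl
theorem F242537 : act 2 n54101 = n52296 := d22_1 D54101 (iv D52296) (iv F234395)
theorem F242538 : act 6 n54101 = n54101 := d40_1 D54101 (iv D54101) F234397
theorem F242539 : act 7 n54101 = n52294 := d42_1 D54101 (iv D52294) (iv F234398)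
def n54102 : Q := act 3 n52294
theorem D54102 : act 3 n52294 = n54102 := rfl
theorem F242540 : act 6 n54102 = n52295 := d26_2 (iv F234400) D54102 (iv D52295)
theorem F242541 : act 8 n54102 = n54102 := d28_2 D52294 D54102 (iv D54102) (iv D52294) F225097
def n54103 : Q := act 3 n52297
theorem D54103 : act 3 n52297 = n54103 := rfl
theorem F242542 : act 2 n54103 = n52310 := d17_1 D54103 (iv D52310) F225160 (iv F225120) (iv F234407)
theorem F242543 : act 5 n54103 = n54103 := d25_2 F234408 D54103 (iv D54103)
theorem F242544 : act 6 n54103 = n52302 := d26_2 (iv F234409) D54103 (iv D52302)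
theorem F242545 : act 9 n54103 = n54103 := d29_2 F234410 D54103 (iv D54103)
def n54104 : Q := act 3 n52298
theorem D54104 : act 3 n52298 = n54104 := rfl
theorem F242546 : act 1 n54104 = n52302 := d10_1 D54104 (iv D52302) (iv F234411)
theorem F242547 : act 2 n54104 = n52482 := d17_1 D54104 (iv D52482) F225795 (iv F225192) (iv F234412)
theorem F242548 : act 5 n54104 = n52313 := d25_2 (iv F234413) D54104 (iv D52313)
theorem F242549 : act 7 n54104 = n52307 := d27_2 (iv F234414) D54104 (iv D52307)
theorem F242550 : act 9 n54104 = n54104 := d29_2 F234415 D54104 (iv D54104)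
def n54105 : Q := act 9 n52299
theorem D54105 : act 9 n52299 = n54105 := rfl
theorem F242551 : act 3 n54105 = n54105 := d29_1 D54105 (iv D54105) F234416
theorem F242552 : act 5 n54105 = n54105 := d38_1 D54105 (iv D54105) F234417
theorem F242553 : act 7 n54105 = n52308 := d43_1 D54105 (iv D52308) (iv F234418)
def n54106 : Q := act 8 n52300
theorem D54106 : act 8 n52300 = n54106 := rfl
theorem F242554 : act 5 n54106 = n54106 := d37_1 D54106 (iv D54106) F234420
theorem F242555 : act 7 n54106 = n52309 := d42_1 D54106 (iv D52309) (iv F234421)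
def n54107 : Q := act 3 n52301
theorem D54107 : act 3 n52301 = n54107 := rfl
theorem F242556 : act 5 n54107 = n54107 := d25_2 F234424 D54107 (iv D54107)
theorem F242557 : act 7 n54107 = n52310 := d27_2 (iv F234425) D54107 (iv D52310)
theorem F242558 : act 9 n54107 = n54107 := d29_2 F234426 D54107 (iv D54107)
def n54108 : Q := act 4 n52302
theorem D54108 : act 4 n52302 = n54108 := rfl
theorem F242559 : act 7 n54108 = n52311 := d32_2 (iv F234428) D54108 (iv D52311)
theorem F242560 : act 9 n54108 = n54108 := d34_2 F234429 D54108 (iv D54108)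
def n54109 : Q := act 9 n52304
theorem D54109 : act 9 n52304 = n54109 := rfl
theorem F242561 : act 1 n54109 = n52308 := d16_1 D54109 (iv D52308) (iv F234434)
theorem F242562 : act 3 n54109 = n54109 := d29_1 D54109 (iv D54109) F234435
theorem F242563 : act 5 n54109 = n54109 := d38_1 D54109 (iv D54109) F234436
def n54110 : Q := act 8 n52305
theorem D54110 : act 8 n52305 = n54110 := rfl
theorem F242564 : act 1 n54110 = n52309 := d15_1 D54110 (iv D52309) (iv F234437)
theorem F242565 : act 5 n54110 = n54110 := d37_1 D54110 (iv D54110) F234439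
def n54111 : Q := act 3 n52306
theorem D54111 : act 3 n52306 = n54111 := rfl
theorem F242566 : act 1 n54111 = n52310 := d10_1 D54111 (iv D52310) (iv F234440)
theorem F242567 : act 5 n54111 = n54111 := d25_2 F234443 D54111 (iv D54111)
theorem F242568 : act 9 n54111 = n54111 := d29_2 F234444 D54111 (iv D54111)
def n54112 : Q := act 4 n52307
theorem D54112 : act 4 n52307 = n54112 := rfl
theorem F242569 : act 1 n54112 = n52311 := d11_1 D54112 (iv D52311) (iv F234445)
theorem F242570 : act 9 n54112 = n54112 := d34_2 F234447 D54112 (iv D54112)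
def n54113 : Q := act 8 n52308
theorem D54113 : act 8 n52308 = n54113 := rfl
theorem F242571 : act 5 n54113 = n54113 := d37_1 D54113 (iv D54113) F234449
theorem F242572 : act 9 n54113 = n52309 := d44_2 D52308 D54113 (iv D52309) (iv D50265) D50264
def n54114 : Q := act 3 n52309
theorem D54114 : act 3 n52309 = n54114 := rfl
theorem F242573 : act 5 n54114 = n54114 := d25_2 F234450 D54114 (iv D54114)
theorem F242574 : act 8 n54114 = n52310 := d28_2 D52309 D54114 (iv D52310) (iv D50266) (iv F225158)
def n54115 : Q := act 4 n52310
theorem D54115 : act 4 n52310 = n54115 := rfl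
theorem F242575 : act 3 n54115 = n52311 := d24_1 D54115 (iv D52311) (iv D50267) (iv F225161) D52310
theorem F242576 : act 9 n54115 = n54115 := d34_2 F234452 D54115 (iv D54115)
def n54116 : Q := act 5 n52311
theorem D54116 : act 5 n52311 = n54116 := rfl
theorem F242577 : act 4 n54116 = n52315 := d30_1 D54116 (iv D52315) (iv D50273) (iv F225164) D52311
theorem F242578 : act 9 n54116 = n54116 := d38_2 F234453 D54116 (iv D54116)
def n54117 : Q := act 5 n52314
theorem D54117 : act 5 n52314 = n54117 := rfl
theorem F242579 : act 3 n54117 = n54117 := d25_1 D54117 (iv D54117) F234465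
theorem F242580 : act 7 n54117 = n52315 := d36_2 (iv F234467) D54117 (iv D52315)
theorem F242581 : act 9 n54117 = n54117 := d38_2 F234468 D54117 (iv D54117)
def n54118 : Q := act 3 n52318
theorem D54118 : act 3 n52318 = n54118 := rfl
theorem F242582 : act 0 n54118 = n52323 := d2_1 D54118 (iv D52323) (iv F234485)
theorem F242583 : act 2 n54118 = n52327 := d17_1 D54118 (iv D52327) F225285 (iv F225241) (iv F234486)
theorem F242584 : act 7 n54118 = n52357 := d27_2 (iv F234487) D54118 (iv D52357)
theorem F242585 : act 8 n54118 = n52320 := d28_2 D52318 D54118 (iv D52320) (iv D50285) (iv F225238)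
def n54119 : Q := act 3 n52319
theorem D54119 : act 3 n52319 = n54119 := rfl
theorem F242586 : act 0 n54119 = n52345 := d2_1 D54119 F234568 (iv F234488)
theorem F242587 : act 1 n54119 = n52320 := d10_1 D54119 (iv D52320) (iv F234489)
theorem F242588 : act 5 n54119 = n52328 := d25_2 (iv F234492) D54119 F234522
theorem F242589 : act 7 n54119 = n52362 := d27_2 (iv F234493) D54119 (iv D52362)
theorem F242590 : act 9 n54119 = n54119 := d29_2 F234494 D54119 (iv D54119)
def n54120 : Q := act 4 n52320
theorem D54120 : act 4 n52320 = n54120 := rfl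
theorem F242591 : act 0 n54120 = n52324 := d3_1 D54120 (iv D52324) (iv F234495)
theorem F242592 : act 2 n54120 = n52328 := d18_1 D54120 (iv D52328) (iv F234496)
theorem F242593 : act 3 n54120 = n54120 := d24_1 D54120 (iv D54120) (iv D52320) F225249 D52320
theorem F242594 : act 7 n54120 = n52363 := d32_2 (iv F234497) D54120 (iv D52363)
theorem F242595 : act 9 n54120 = n54120 := d34_2 F234498 D54120 (iv D54120)
def n54121 : Q := act 3 n52321
theorem D54121 : act 3 n52321 = n54121 := rfl
theorem F242596 : act 2 n54121 = n52330 := d17_1 D54121 (iv D52330) F225299 (iv F225255) (iv F234499)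
theorem F242597 : act 7 n54121 = n52370 := d27_2 (iv F234500) D54121 (iv D52370)
theorem F242598 : act 8 n54121 = n54121 := d28_2 D52321 D54121 (iv D54121) (iv D52321) F225253
theorem F242599 : act 9 n54121 = n52323 := d29_2 (iv F234501) D54121 (iv D52323)
def n54122 : Q := act 3 n52322
theorem D54122 : act 3 n52322 = n54122 := rfl
theorem F242600 : act 7 n54122 = n52386 := d27_2 (iv F234504) D54122 (iv D52386)
theorem F242601 : act 8 n54122 = n54122 := d28_2 D52322 D54122 (iv D54122) (iv D52322) F225261
def n54123 : Q := act 4 n52323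
theorem D54123 : act 4 n52323 = n54123 := rfl
theorem F242602 : act 2 n54123 = n52340 := d18_1 D54123 (iv D52340) (iv F234505)
theorem F242603 : act 7 n54123 = n52387 := d32_2 (iv F234506) D54123 (iv D52387)
theorem F242604 : act 8 n54123 = n52324 := d33_2 (iv F234507) D54123 (iv D52324)
def n54124 : Q := act 5 n52324
theorem D54124 : act 5 n52324 = n54124 := rfl
theorem F242605 : act 2 n54124 = n52345 := d19_1 D54124 (iv D52345) (iv F234508)
theorem F242606 : act 3 n54124 = n54124 := d25_1 D54124 (iv D54124) F234509
theorem F242607 : act 7 n54124 = n52393 := d36_2 (iv F234510) D54124 (iv D52393)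
theorem F242608 : act 9 n54124 = n54124 := d38_2 F234511 D54124 (iv D54124)
def n54125 : Q := act 3 n52325
theorem D54125 : act 3 n52325 = n54125 := rfl
theorem F242609 : act 0 n54125 = n52330 := d2_1 D54125 (iv D52330) (iv F234512)
theorem F242610 : act 7 n54125 = n52400 := d27_2 (iv F234514) D54125 (iv D52400)
theorem F242611 : act 8 n54125 = n54125 := d28_2 D52325 D54125 (iv D54125) (iv D52325) F225274
theorem F242612 : act 9 n54125 = n52327 := d29_2 (iv F234515) D54125 (iv D52327)
def n54126 : Q := act 4 n52327
theorem D54126 : act 4 n52327 = n54126 := rfl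
theorem F242613 : act 0 n54126 = n52340 := d3_1 D54126 (iv D52340) (iv F234518)
theorem F242614 : act 7 n54126 = n52411 := d32_2 (iv F234519) D54126 (iv D52411)
theorem F242615 : act 8 n54126 = n52328 := d33_2 (iv F234520) D54126 (iv D52328)
def n54127 : Q := act 3 n52329
theorem D54127 : act 3 n52329 = n54127 := rfl
theorem F242616 : act 1 n54127 = n52330 := d10_1 D54127 (iv D52330) (iv F234525)
theorem F242617 : act 7 n54127 = n52424 := d27_2 (iv F234526) D54127 (iv D52424)
theorem F242618 : act 8 n54127 = n54127 := d28_2 D52329 D54127 (iv D54127) (iv D52329) F225297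
theorem F242619 : act 9 n54127 = n52337 := d29_2 (iv F234527) D54127 (iv D52337)
def n54128 : Q := act 4 n52330
theorem D54128 : act 4 n52330 = n54128 := rfl
theorem F242620 : act 7 n54128 = n52425 := d32_2 (iv F234528) D54128 (iv D52425)
theorem F242621 : act 8 n54128 = n54128 := d33_2 F234529 D54128 (iv D54128)
theorem F242622 : act 9 n54128 = n52340 := d34_2 (iv F234530) D54128 (iv D52340)
def n54129 : Q := act 3 n52331
theorem D54129 : act 3 n52331 = n54129 := rfl
theorem F242623 : act 2 n54129 = n52337 := d17_1 D54129 (iv D52337) (iv F233294) F233295 (iv F234531)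
theorem F242624 : act 5 n54129 = n52334 := d25_2 (iv F234532) D54129 (iv D52334)
theorem F242625 : act 7 n54129 = n52468 := d27_2 F236342 D54129 (iv F236339)
theorem F242626 : act 8 n54129 = n52341 := d28_2 D52331 D54129 (iv D52341) (iv D50315) (iv F225303)
def n54130 : Q := act 3 n52332
theorem D54130 : act 3 n52332 = n54130 := rfl
theorem F242627 : act 8 n54130 = n54130 := d28_2 D52332 D54130 (iv D54130) (iv D52332) F225305
def n54131 : Q := act 3 n52333
theorem D54131 : act 3 n52333 = n54131 := rfl
theorem F242628 : act 1 n54131 = n52334 := d10_1 D54131 (iv D52334) (iv F234534)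
theorem F242629 : act 6 n54131 = n52337 := d26_2 (iv F234535) D54131 (iv D52337)
theorem F242630 : act 8 n54131 = n52342 := d28_2 D52333 D54131 (iv D52342) (iv D50317) (iv F225309)
def n54132 : Q := act 3 n52335
theorem D54132 : act 3 n52335 = n54132 := rfl
theorem F242631 : act 0 n54132 = n52337 := d2_1 D54132 (iv D52337) (iv F234538)
theorem F242632 : act 7 n54132 = n52465 := d27_2 (iv F234539) D54132 (iv D52465)
theorem F242633 : act 8 n54132 = n52343 := d28_2 D52335 D54132 (iv D52343) (iv D50319) (iv F225314)
def n54133 : Q := act 4 n52337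
theorem D54133 : act 4 n52337 = n54133 := rfl
theorem F242634 : act 1 n54133 = n52340 := d11_1 D54133 (iv D52340) (iv F234543)
theorem F242635 : act 7 n54133 = n52469 := d32_2 (iv F234544) D54133 (iv D52469)
theorem F242636 : act 8 n54133 = n52344 := d33_2 (iv F234545) D54133 (iv D52344)
def n54134 : Q := act 5 n52340
theorem D54134 : act 5 n52340 = n54134 := rfl
theorem F242637 : act 7 n54134 = n52472 := d36_2 (iv F234552) D54134 (iv D52472)
theorem F242638 : act 8 n54134 = n52345 := d37_2 (iv F234553) D54134 (iv D52345)
def n54135 : Q := act 9 n52346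
theorem D54135 : act 9 n52346 = n54135 := rfl
theorem F242639 : act 0 n54135 = n52366 := d8_1 D54135 (iv D52366) (iv F234571)
theorem F242640 : act 1 n54135 = n52403 := d16_1 D54135 (iv D52403) (iv F234572)
theorem F242641 : act 3 n54135 = n52519 := d29_1 D54135 (iv D52519) (iv F234573)
theorem F242642 : act 4 n54135 = n52347 := d34_1 D54135 (iv D52347) D52346
theorem F242643 : act 5 n54135 = n52371 := d38_1 D54135 (iv D52371) (iv F234574)
theorem F242644 : act 7 n54135 = n52377 := d43_1 D54135 (iv D52377) (iv F234575)
def n54136 : Q := act 8 n52347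
theorem D54136 : act 8 n52347 = n54136 := rfl
theorem F242645 : act 0 n54136 = n52367 := d7_1 D54136 (iv D52367) (iv F234577)
theorem F242646 : act 1 n54136 = n52404 := d15_1 D54136 (iv D52404) (iv F234578)
theorem F242647 : act 3 n54136 = n52397 := d28_1 D54136 (iv D52397) F225555 (iv F225380) (iv F234579)
theorem F242648 : act 5 n54136 = n52348 := d37_1 D54136 (iv D52348) (iv F234580)
theorem F242649 : act 7 n54136 = n52382 := d42_1 D54136 (iv D52382) (iv F234581)
theorem F242650 : act 9 n54136 = n52354 := d44_2 D52347 D54136 (iv D52354) (iv D50331) (iv F225373)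
def n54137 : Q := act 9 n52349
theorem D54137 : act 9 n52349 = n54137 := rfl
theorem F242651 : act 0 n54137 = n52371 := d8_1 D54137 (iv D52371) (iv F234589)
theorem F242652 : act 1 n54137 = n52396 := d16_1 D54137 (iv D52396) (iv F234590)
theorem F242653 : act 3 n54137 = n52494 := d29_1 D54137 (iv D52494) (iv F234591)
theorem F242654 : act 4 n54137 = n52350 := d34_1 D54137 (iv D52350) D52349
theorem F242655 : act 5 n54137 = n52366 := d38_1 D54137 (iv D52366) (iv F234592)
theorem F242656 : act 7 n54137 = n52353 := d43_1 D54137 (iv D52353) (iv F234593)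
def n54138 : Q := act 8 n52350
theorem D54138 : act 8 n52350 = n54138 := rfl
theorem F242657 : act 0 n54138 = n52372 := d7_1 D54138 (iv D52372) (iv F234595)
theorem F242658 : act 1 n54138 = n52397 := d15_1 D54138 (iv D52397) (iv F234596)
theorem F242659 : act 3 n54138 = n52404 := d28_1 D54138 (iv D52404) F225579 (iv F225401) (iv F234597)
theorem F242660 : act 5 n54138 = n52355 := d37_1 D54138 (iv D52355) (iv F234598)
theorem F242661 : act 7 n54138 = n52354 := d42_1 D54138 (iv D52354) (iv F234599)
theorem F242662 : act 9 n54138 = n52382 := d44_2 D52350 D54138 (iv D52382) (iv D50363) (iv F225394)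
def n54139 : Q := act 9 n52351
theorem D54139 : act 9 n52351 = n54139 := rfl
theorem F242663 : act 0 n54139 = n52375 := d8_1 D54139 (iv D52375) (iv F234600)
theorem F242664 : act 2 n54139 = n52353 := d23_1 D54139 (iv D52353) (iv F234601)
theorem F242665 : act 4 n54139 = n52352 := d34_1 D54139 (iv D52352) D52351
def n54140 : Q := act 8 n52352
theorem D54140 : act 8 n52352 = n54140 := rfl
theorem F242666 : act 0 n54140 = n52376 := d7_1 D54140 (iv D52376) (iv F234602)
theorem F242667 : act 2 n54140 = n52354 := d22_1 D54140 (iv D52354) (iv F234603)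
theorem F242668 : act 5 n54140 = n52356 := d37_1 D54140 (iv D52356) (iv F234605)
def n54141 : Q := act 8 n52353
theorem D54141 : act 8 n52353 = n54141 := rfl
theorem F242669 : act 0 n54141 = n52378 := d7_1 D54141 (iv D52378) (iv F234606)
theorem F242670 : act 4 n54141 = n52354 := d33_1 D54141 (iv D52354) (iv F234608)
def n54142 : Q := act 3 n52356
theorem D54142 : act 3 n52356 = n54142 := rfl
theorem F242671 : act 0 n54142 = n52381 := d2_1 D54142 (iv D52381) (iv F234619)
theorem F242672 : act 2 n54142 = n52408 := d17_1 D54142 (iv D52408) F225596 (iv F225421) (iv F234620)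
theorem F242673 : act 6 n54142 = n52357 := d26_2 (iv F234621) D54142 (iv D52357)
theorem F242674 : act 8 n54142 = n52361 := d28_2 D52356 D54142 (iv D52361) (iv D50340) (iv F225418)
def n54143 : Q := act 4 n52357
theorem D54143 : act 4 n52357 = n54143 := rfl
theorem F242675 : act 0 n54143 = n52387 := d3_1 D54143 (iv D52387) (iv F234622)
theorem F242676 : act 2 n54143 = n52411 := d18_1 D54143 (iv D52411) (iv F234623)
theorem F242677 : act 8 n54143 = n52363 := d33_2 (iv F234624) D54143 (iv D52363)
def n54144 : Q := act 8 n52358
theorem D54144 : act 8 n52358 = n54144 := rfl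
theorem F242678 : act 0 n54144 = n52727 := d7_1 D54144 F239456 F239449
theorem F242679 : act 1 n54144 = n52359 := d15_1 D54144 (iv D52359) (iv F234625)
theorem F242680 : act 2 n54144 = n54144 := d22_1 D54144 (iv D54144) F234626
theorem F242681 : act 5 n54144 = n52360 := d37_1 D54144 (iv D52360) (iv F234627)
theorem F242682 : act 6 n54144 = n52721 := d40_1 D54144 F236237 F236235
theorem F242683 : act 9 n54144 = n54144 := d44_2 D52358 D54144 (iv D54144) (iv D52358) F225427
def n54145 : Q := act 3 n52359
theorem D54145 : act 3 n52359 = n54145 := rfl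
theorem F242684 : act 0 n54145 = n52391 := d2_1 D54145 (iv D52391) (iv F234628)
theorem F242685 : act 2 n54145 = n52413 := d17_1 D54145 (iv D52413) F225614 (iv F225433) (iv F234629)
theorem F242686 : act 5 n54145 = n52361 := d25_2 (iv F234630) D54145 (iv D52361)
theorem F242687 : act 9 n54145 = n54145 := d29_2 F234631 D54145 (iv D54145)
def n54146 : Q := act 3 n52360
theorem D54146 : act 3 n52360 = n54146 := rfl
theorem F242688 : act 0 n54146 = n52489 := d2_1 D54146 F234973 (iv F234632)
theorem F242689 : act 1 n54146 = n52361 := d10_1 D54146 (iv D52361) (iv F234633)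
theorem F242690 : act 6 n54146 = n52362 := d26_2 (iv F234636) D54146 (iv D52362)
theorem F242691 : act 9 n54146 = n54146 := d29_2 F234637 D54146 (iv D54146)
def n54147 : Q := act 4 n52361
theorem D54147 : act 4 n52361 = n54147 := rfl
theorem F242692 : act 0 n54147 = n52392 := d3_1 D54147 (iv D52392) (iv F234638)
theorem F242693 : act 2 n54147 = n52414 := d18_1 D54147 (iv D52414) (iv F234639)
theorem F242694 : act 3 n54147 = n54147 := d24_1 D54147 (iv D54147) (iv D52361) F225442 D52361
theorem F242695 : act 6 n54147 = n52363 := d31_2 (iv F234640) D54147 (iv D52363)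
theorem F242696 : act 9 n54147 = n54147 := d34_2 F234641 D54147 (iv D54147)
def n54148 : Q := act 3 n52364
theorem D54148 : act 3 n52364 = n54148 := rfl
theorem F242697 : act 4 n54148 = n54148 := d24_2 D52364 D54148 (iv D54148) (iv D52364) F225460
def n54149 : Q := act 9 n52364
theorem D54149 : act 9 n52364 = n54149 := rfl
theorem F242698 : act 2 n54149 = n52366 := d23_1 D54149 (iv D52366) (iv F234650)
theorem F242699 : act 4 n54149 = n52365 := d34_1 D54149 (iv D52365) D52364
def n54150 : Q := act 8 n52365
theorem D54150 : act 8 n52365 = n54150 := rfl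
theorem F242700 : act 2 n54150 = n52367 := d22_1 D54150 (iv D52367) (iv F234652)
theorem F242701 : act 5 n54150 = n52368 := d37_1 D54150 (iv D52368) (iv F234654)
theorem F242702 : act 9 n54150 = n52376 := d44_2 D52365 D54150 (iv D52376) (iv D50355) (iv F225462)
def n54151 : Q := act 8 n52366
theorem D54151 : act 8 n52366 = n54151 := rfl
theorem F242703 : act 4 n54151 = n52367 := d33_1 D54151 (iv D52367) (iv F234655)
theorem F242704 : act 9 n54151 = n52378 := d44_2 D52366 D54151 (iv D52378) (iv D50357) (iv F225463)
def n54152 : Q := act 3 n52368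
theorem D54152 : act 3 n52368 = n54152 := rfl
theorem F242705 : act 2 n54152 = n52422 := d17_1 D54152 (iv D52422) F225649 (iv F225469) (iv F234659)
theorem F242706 : act 6 n54152 = n52370 := d26_2 (iv F234660) D54152 (iv D52370)
theorem F242707 : act 8 n54152 = n54152 := d28_2 D52368 D54152 (iv D54152) (iv D52368) F225467
theorem F242708 : act 9 n54152 = n52381 := d29_2 (iv F234661) D54152 (iv D52381)
def n54153 : Q := act 3 n52369
theorem D54153 : act 3 n52369 = n54153 := rfl
theorem F242709 : act 1 n54153 = n52370 := d10_1 D54153 (iv D52370) (iv F234662)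
theorem F242710 : act 8 n54153 = n54153 := d28_2 D52369 D54153 (iv D54153) (iv D52369) F225473
theorem F242711 : act 9 n54153 = n52385 := d29_2 (iv F234663) D54153 (iv D52385)
def n54154 : Q := act 4 n52370
theorem D54154 : act 4 n52370 = n54154 := rfl
theorem F242712 : act 2 n54154 = n52425 := d18_1 D54154 (iv D52425) (iv F234664)
theorem F242713 : act 8 n54154 = n54154 := d33_2 F234665 D54154 (iv D54154)
theorem F242714 : act 9 n54154 = n52387 := d34_2 (iv F234666) D54154 (iv D52387)
def n54155 : Q := act 8 n52371
theorem D54155 : act 8 n52371 = n54155 := rfl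
theorem F242715 : act 4 n54155 = n52372 := d33_1 D54155 (iv D52372) (iv F234668)
theorem F242716 : act 7 n54155 = n52378 := d42_1 D54155 (iv D52378) (iv F234669)
def n54156 : Q := act 5 n52373
theorem D54156 : act 5 n52373 = n54156 := rfl
theorem F242717 : act 2 n54156 = n52525 := d19_1 D54156 (iv D52525) (iv F234673)
theorem F242718 : act 3 n54156 = n52374 := d25_1 D54156 (iv D52374) D52373
theorem F242719 : act 4 n54156 = n54156 := d30_1 D54156 (iv D54156) F234674 F225523 (iv F234674)
def n54157 : Q := act 8 n52373
theorem D54157 : act 8 n52373 = n54157 := rfl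
theorem F242720 : act 2 n54157 = n52518 := d22_1 D54157 F235061 (iv F234673)
theorem F242721 : act 4 n54157 = n52388 := d33_1 D54157 (iv D52388) (iv F234674)
theorem F242722 : act 6 n54157 = n52515 := d40_1 D54157 F238944 F238942
def n54158 : Q := act 9 n52373
theorem D54158 : act 9 n52373 = n54158 := rfl
theorem F242723 : act 2 n54158 = n52526 := d23_1 D54158 (iv D52526) (iv F234673)
theorem F242724 : act 3 n54158 = n52375 := d29_1 D54158 (iv D52375) D52373
theorem F242725 : act 4 n54158 = n52389 := d34_1 D54158 (iv D52389) (iv F234674)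
def n54159 : Q := act 9 n52374
theorem D54159 : act 9 n52374 = n54159 := rfl
theorem F242726 : act 2 n54159 = n52377 := d23_1 D54159 (iv D52377) (iv F234675)
theorem F242727 : act 4 n54159 = n52379 := d34_1 D54159 (iv D52379) (iv F234676)
theorem F242728 : act 5 n54159 = n52375 := d38_1 D54159 (iv D52375) D52374
def n54160 : Q := act 8 n52375
theorem D54160 : act 8 n52375 = n54160 := rfl
theorem F242729 : act 2 n54160 = n52378 := d22_1 D54160 (iv D52378) (iv F234677)
theorem F242730 : act 4 n54160 = n52376 := d33_1 D54160 (iv D52376) (iv F234678)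
def n54161 : Q := act 3 n52376
theorem D54161 : act 3 n52376 = n54161 := rfl
theorem F242731 : act 2 n54161 = n52447 := d17_1 D54161 (iv D52447) F225693 (iv F225493) (iv F234679)
theorem F242732 : act 5 n54161 = n52381 := d25_2 (iv F234680) D54161 (iv D52381)
theorem F242733 : act 8 n54161 = n52391 := d28_2 D52376 D54161 (iv D52391) (iv D50372) (iv F225486)
def n54162 : Q := act 8 n52377
theorem D54162 : act 8 n52377 = n54162 := rfl
theorem F242734 : act 1 n54162 = n52407 := d15_1 D54162 (iv D52407) (iv F234681)
theorem F242735 : act 4 n54162 = n52382 := d33_1 D54162 (iv D52382) (iv F234683)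
theorem F242736 : act 5 n54162 = n52378 := d37_1 D54162 (iv D52378) (iv F234684)
def n54163 : Q := act 3 n52378
theorem D54163 : act 3 n52378 = n54163 := rfl
theorem F242737 : act 4 n54163 = n52451 := d24_2 (iv F234685) D54163 (iv D52451) F225700 (iv F225493)
theorem F242738 : act 8 n54163 = n52530 := d28_2 D52378 D54163 (iv D52530) (iv D50528) (iv F225491)
def n54164 : Q := act 8 n52379
theorem D54164 : act 8 n52379 = n54164 := rfl
theorem F242739 : act 2 n54164 = n52382 := d22_1 D54164 (iv D52382) (iv F234686)
theorem F242740 : act 5 n54164 = n52380 := d37_1 D54164 (iv D52380) (iv F234688)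
def n54165 : Q := act 3 n52380
theorem D54165 : act 3 n52380 = n54165 := rfl
theorem F242741 : act 6 n54165 = n52386 := d26_2 (iv F234691) D54165 (iv D52386)
theorem F242742 : act 8 n54165 = n54165 := d28_2 D52380 D54165 (iv D54165) (iv D52380) F225500
def n54166 : Q := act 4 n52381
theorem D54166 : act 4 n52381 = n54166 := rfl
theorem F242743 : act 2 n54166 = n52461 := d18_1 D54166 (iv D52461) (iv F234692)
theorem F242744 : act 6 n54166 = n52387 := d31_2 (iv F234693) D54166 (iv D52387)
theorem F242745 : act 8 n54166 = n52392 := d33_2 (iv F234694) D54166 (iv D52392)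
def n54167 : Q := act 3 n52384
theorem D54167 : act 3 n52384 = n54167 := rfl
theorem F242746 : act 1 n54167 = n52386 := d10_1 D54167 (iv D52386) (iv F234698)
theorem F242747 : act 8 n54167 = n54167 := d28_2 D52384 D54167 (iv D54167) (iv D52384) F225515
def n54168 : Q := act 4 n52386
theorem D54168 : act 4 n52386 = n54168 := rfl
theorem F242748 : act 3 n54168 = n52387 := d24_1 D54168 (iv D52387) (iv D50369) (iv F225519) D52386
theorem F242749 : act 8 n54168 = n54168 := d33_2 F234703 D54168 (iv D54168)
def n54169 : Q := act 5 n52387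
theorem D54169 : act 5 n52387 = n54169 := rfl
theorem F242750 : act 2 n54169 = n52472 := d19_1 D54169 (iv D52472) (iv F234704)
theorem F242751 : act 8 n54169 = n52393 := d37_2 (iv F234705) D54169 (iv D52393)
def n54170 : Q := act 9 n52388
theorem D54170 : act 9 n52388 = n54170 := rfl
theorem F242752 : act 2 n54170 = n52536 := d23_1 D54170 (iv D52536) (iv F234706)
theorem F242753 : act 3 n54170 = n54170 := d29_1 D54170 (iv D54170) F234707
theorem F242754 : act 5 n54170 = n54170 := d38_1 D54170 (iv D54170) F234708
theorem F242755 : act 6 n54170 = n52534 := d41_1 D54170 (iv D52534) (iv F234709)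
def n54171 : Q := act 8 n52389
theorem D54171 : act 8 n52389 = n54171 := rfl
theorem F242756 : act 2 n54171 = n52545 := d22_1 D54171 (iv D52545) (iv F234710)
theorem F242757 : act 5 n54171 = n54171 := d37_1 D54171 (iv D54171) F234712
def n54172 : Q := act 3 n52390
theorem D54172 : act 3 n52390 = n54172 := rfl
theorem F242758 : act 5 n54172 = n54172 := d25_2 F234715 D54172 (iv D54172)
theorem F242759 : act 9 n54172 = n54172 := d29_2 F234716 D54172 (iv D54172)
def n54173 : Q := act 4 n52391
theorem D54173 : act 4 n52391 = n54173 := rfl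
theorem F242760 : act 2 n54173 = n52483 := d18_1 D54173 (iv D52483) (iv F234717)
theorem F242761 : act 9 n54173 = n54173 := d34_2 F234719 D54173 (iv D54173)
def n54174 : Q := act 5 n52392
theorem D54174 : act 5 n52392 = n54174 := rfl
theorem F242762 : act 2 n54174 = n52488 := d19_1 D54174 (iv D52488) (iv F234720)
theorem F242763 : act 3 n54174 = n54174 := d25_1 D54174 (iv D54174) F234721
theorem F242764 : act 9 n54174 = n54174 := d38_2 F234723 D54174 (iv D54174)
def n54175 : Q := act 6 n52393
theorem D54175 : act 6 n52393 = n54175 := rfl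
theorem F242765 : act 2 n54175 = n52489 := d20_1 D54175 (iv D52489) (iv F234724)
theorem F242766 : act 3 n54175 = n54175 := d26_1 D54175 (iv D54175) F234725
theorem F242767 : act 9 n54175 = n54175 := d41_2 F234726 D54175 (iv D54175)
def n54176 : Q := act 3 n52394
theorem D54176 : act 3 n52394 = n54176 := rfl
theorem F242768 : act 0 n54176 = n52417 := d2_1 D54176 (iv D52417) (iv F234727)
theorem F242769 : act 4 n54176 = n54176 := d24_2 D52394 D54176 (iv D54176) (iv D52394) F225549
theorem F242770 : act 5 n54176 = n52643 := d25_2 F236356 D54176 (iv F236355)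
theorem F242771 : act 7 n54176 = n52633 := d27_2 F236373 D54176 (iv F236370)
def n54177 : Q := act 9 n52394
theorem D54177 : act 9 n52394 = n54177 := rfl
theorem F242772 : act 0 n54177 = n52418 := d8_1 D54177 (iv D52418) (iv F234727)
theorem F242773 : act 2 n54177 = n52396 := d23_1 D54177 (iv D52396) (iv F234728)
theorem F242774 : act 4 n54177 = n52395 := d34_1 D54177 (iv D52395) D52394
def n54178 : Q := act 8 n52395
theorem D54178 : act 8 n52395 = n54178 := rfl
theorem F242775 : act 0 n54178 = n52419 := d7_1 D54178 (iv D52419) (iv F234730)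
theorem F242776 : act 2 n54178 = n52397 := d22_1 D54178 (iv D52397) (iv F234731)
theorem F242777 : act 5 n54178 = n52398 := d37_1 D54178 (iv D52398) (iv F234733)
theorem F242778 : act 9 n54178 = n52406 := d44_2 D52395 D54178 (iv D52406) (iv D50390) (iv F225551)
def n54179 : Q := act 8 n52396
theorem D54179 : act 8 n52396 = n54179 := rfl
theorem F242779 : act 0 n54179 = n52420 := d7_1 D54179 (iv D52420) (iv F234734)
theorem F242780 : act 4 n54179 = n52397 := d33_1 D54179 (iv D52397) (iv F234735)
theorem F242781 : act 9 n54179 = n52407 := d44_2 D52396 D54179 (iv D52407) (iv D50391) (iv F225553)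
def n54180 : Q := act 3 n52398
theorem D54180 : act 3 n52398 = n54180 := rfl
theorem F242782 : act 0 n54180 = n52422 := d2_1 D54180 (iv D52422) (iv F234739)
theorem F242783 : act 6 n54180 = n52400 := d26_2 (iv F234741) D54180 (iv D52400)
theorem F242784 : act 8 n54180 = n54180 := d28_2 D52398 D54180 (iv D54180) (iv D52398) F225559
theorem F242785 : act 9 n54180 = n52408 := d29_2 (iv F234742) D54180 (iv D52408)
def n54181 : Q := act 3 n52399
theorem D54181 : act 3 n52399 = n54181 := rfl
theorem F242786 : act 1 n54181 = n52400 := d10_1 D54181 (iv D52400) (iv F234743)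
theorem F242787 : act 8 n54181 = n54181 := d28_2 D52399 D54181 (iv D54181) (iv D52399) F225565
theorem F242788 : act 9 n54181 = n52410 := d29_2 (iv F234744) D54181 (iv D52410)
def n54182 : Q := act 9 n52401
theorem D54182 : act 9 n52401 = n54182 := rfl
theorem F242789 : act 0 n54182 = n52429 := d8_1 D54182 (iv D52429) (iv F234748)
theorem F242790 : act 3 n54182 = n52556 := d29_1 D54182 (iv D52556) (iv F234749)
theorem F242791 : act 4 n54182 = n52402 := d34_1 D54182 (iv D52402) D52401
theorem F242792 : act 6 n54182 = n52403 := d41_1 D54182 (iv D52403) (iv F234750)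
def n54183 : Q := act 8 n52402
theorem D54183 : act 8 n52402 = n54183 := rfl
theorem F242793 : act 0 n54183 = n52430 := d7_1 D54183 (iv D52430) (iv F234751)
theorem F242794 : act 6 n54183 = n52404 := d40_1 D54183 (iv D52404) (iv F234753)
def n54184 : Q := act 8 n52403
theorem D54184 : act 8 n52403 = n54184 := rfl
theorem F242795 : act 0 n54184 = n52435 := d7_1 D54184 (iv D52435) (iv F234754)
theorem F242796 : act 4 n54184 = n52404 := d33_1 D54184 (iv D52404) (iv F234756)
theorem F242797 : act 7 n54184 = n52407 := d42_1 D54184 (iv D52407) (iv F234757)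
def n54185 : Q := act 8 n52405
theorem D54185 : act 8 n52405 = n54185 := rfl
theorem F242798 : act 0 n54185 = n52446 := d7_1 D54185 (iv D52446) (iv F234761)
theorem F242799 : act 2 n54185 = n52407 := d22_1 D54185 (iv D52407) (iv F234762)
theorem F242800 : act 4 n54185 = n52406 := d33_1 D54185 (iv D52406) (iv F234763)
def n54186 : Q := act 3 n52406
theorem D54186 : act 3 n52406 = n54186 := rfl
theorem F242801 : act 0 n54186 = n52447 := d2_1 D54186 (iv D52447) (iv F234764)
theorem F242802 : act 5 n54186 = n52408 := d25_2 (iv F234766) D54186 (iv D52408)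
theorem F242803 : act 8 n54186 = n52413 := d28_2 D52406 D54186 (iv D52413) (iv D50400) (iv F225586)
def n54187 : Q := act 3 n52407
theorem D54187 : act 3 n52407 = n54187 := rfl
theorem F242804 : act 0 n54187 = n52451 := d2_1 D54187 (iv D52451) (iv F234767)
theorem F242805 : act 8 n54187 = n52571 := d28_2 D52407 D54187 (iv D52571) (iv D50579) (iv F225589)
def n54188 : Q := act 4 n52408
theorem D54188 : act 4 n52408 = n54188 := rfl
theorem F242806 : act 0 n54188 = n52461 := d3_1 D54188 (iv D52461) (iv F234769)
theorem F242807 : act 6 n54188 = n52411 := d31_2 (iv F234770) D54188 (iv D52411)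
theorem F242808 : act 8 n54188 = n52414 := d33_2 (iv F234771) D54188 (iv D52414)
def n54189 : Q := act 4 n52413
theorem D54189 : act 4 n52413 = n54189 := rfl
theorem F242809 : act 0 n54189 = n52483 := d3_1 D54189 (iv D52483) (iv F234784)
theorem F242810 : act 9 n54189 = n54189 := d34_2 F234786 D54189 (iv D54189)

end Cfsg.Agent.Helper17.Fi23TC
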