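import Cfsg.Agent.Helper17.Fi23TC.Facts13

set_option autoImplicit false
set_option linter.all false

noncomputable section

namespace Cfsg.Agent.Helper17.Fi23TC

def n54190 : Q := act 5 n52414
theorem D54190 : act 5 n52414 = n54190 := rfl
theorem F242811 : act 0 n54190 = n52488 := d4_1 D54190 (iv D52488) (iv F234787)
theorem F242812 : act 3 n54190 = n52721 := d25_1 D54190 (iv D52721) (iv F234788)
theorem F242813 : act 9 n54190 = n54190 := d38_2 F234790 D54190 (iv D54190)
def n54191 : Q := act 9 n52415
theorem D54191 : act 9 n52415 = n54191 := rfl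
theorem F242814 : act 1 n54191 = n52418 := d16_1 D54191 (iv D52418) (iv F234791)
theorem F242815 : act 4 n54191 = n52416 := d34_1 D54191 (iv D52416) D52415
def n54192 : Q := act 8 n52416
theorem D54192 : act 8 n52416 = n54192 := rfl
theorem F242816 : act 1 n54192 = n52419 := d15_1 D54192 (iv D52419) (iv F234793)
theorem F242817 : act 5 n54192 = n52421 := d37_1 D54192 (iv D52421) (iv F234795)
theorem F242818 : act 9 n54192 = n52441 := d44_2 D52416 D54192 (iv D52441) (iv D50427) (iv F225637)
def n54193 : Q := act 8 n52417
theorem D54193 : act 8 n52417 = n54193 := rfl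
theorem F242819 : act 3 n54193 = n52442 := d28_1 D54193 (iv D52442) (iv D50428) (iv F225639) D52417
theorem F242820 : act 4 n54193 = n54193 := d33_1 D54193 (iv D54193) F234796
def n54194 : Q := act 9 n52417
theorem D54194 : act 9 n52417 = n54194 := rfl
theorem F242821 : act 3 n54194 = n52418 := d29_1 D54194 (iv D52418) D52417
theorem F242822 : act 4 n54194 = n54194 := d34_1 D54194 (iv D54194) F234796
def n54195 : Q := act 8 n52418
theorem D54195 : act 8 n52418 = n54195 := rfl
theorem F242823 : act 2 n54195 = n52420 := d22_1 D54195 (iv D52420) (iv F234797)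
theorem F242824 : act 4 n54195 = n52419 := d33_1 D54195 (iv D52419) (iv F234798)
theorem F242825 : act 9 n54195 = n52446 := d44_2 D52418 D54195 (iv D52446) (iv D50430) (iv F225639)
def n54196 : Q := act 3 n52419
theorem D54196 : act 3 n52419 = n54196 := rfl
theorem F242826 : act 5 n54196 = n52422 := d25_2 (iv F234800) D54196 (iv D52422)
theorem F242827 : act 8 n54196 = n54196 := d28_2 D52419 D54196 (iv D54196) (iv D52419) F225641
theorem F242828 : act 9 n54196 = n52447 := d29_2 (iv F234801) D54196 (iv D52447)
def n54197 : Q := act 3 n52420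
theorem D54197 : act 3 n52420 = n54197 := rfl
theorem F242829 : act 9 n54197 = n52451 := d29_2 (iv F234803) D54197 (iv D52451)
def n54198 : Q := act 3 n52421
theorem D54198 : act 3 n52421 = n54198 := rfl
theorem F242830 : act 1 n54198 = n52422 := d10_1 D54198 (iv D52422) (iv F234804)
theorem F242831 : act 6 n54198 = n52424 := d26_2 (iv F234805) D54198 (iv D52424)
theorem F242832 : act 8 n54198 = n54198 := d28_2 D52421 D54198 (iv D54198) (iv D52421) F225647
theorem F242833 : act 9 n54198 = n52457 := d29_2 (iv F234806) D54198 (iv D52457)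
def n54199 : Q := act 4 n52422
theorem D54199 : act 4 n52422 = n54199 := rfl
theorem F242834 : act 6 n54199 = n52425 := d31_2 (iv F234807) D54199 (iv D52425)
theorem F242835 : act 8 n54199 = n54199 := d33_2 F234808 D54199 (iv D54199)
theorem F242836 : act 9 n54199 = n52461 := d34_2 (iv F234809) D54199 (iv D52461)
def n54200 : Q := act 4 n52424
theorem D54200 : act 4 n52424 = n54200 := rfl
theorem F242837 : act 1 n54200 = n52425 := d11_1 D54200 (iv D52425) (iv F234813)
theorem F242838 : act 8 n54200 = n54200 := d33_2 F234814 D54200 (iv D54200)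
theorem F242839 : act 9 n54200 = n52469 := d34_2 (iv F234815) D54200 (iv D52469)
def n54201 : Q := act 9 n52426
theorem D54201 : act 9 n52426 = n54201 := rfl
theorem F242840 : act 2 n54201 = n52429 := d23_1 D54201 (iv D52429) (iv F234818)
theorem F242841 : act 4 n54201 = n52427 := d34_1 D54201 (iv D52427) D52426
theorem F242842 : act 6 n54201 = n52433 := d41_1 D54201 (iv D52433) (iv F234819)
def n54202 : Q := act 8 n52427
theorem D54202 : act 8 n52427 = n54202 := rfl
theorem F242843 : act 2 n54202 = n52430 := d22_1 D54202 (iv D52430) (iv F234820)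
theorem F242844 : act 6 n54202 = n52434 := d40_1 D54202 (iv D52434) (iv F234822)
def n54203 : Q := act 9 n52428
theorem D54203 : act 9 n52428 = n54203 := rfl
theorem F242845 : act 3 n54203 = n52634 := d29_1 D54203 (iv D52634) (iv F234823)
theorem F242846 : act 5 n54203 = n52429 := d38_1 D54203 (iv D52429) D52428
def n54204 : Q := act 8 n52429
theorem D54204 : act 8 n52429 = n54204 := rfl
theorem F242847 : act 4 n54204 = n52430 := d33_1 D54204 (iv D52430) (iv F234825)
theorem F242848 : act 6 n54204 = n52435 := d40_1 D54204 (iv D52435) (iv F234826)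
def n54205 : Q := act 9 n52431
theorem D54205 : act 9 n52431 = n54205 := rfl
theorem F242849 : act 1 n54205 = n52433 := d16_1 D54205 (iv D52433) (iv F234828)
theorem F242850 : act 4 n54205 = n52432 := d34_1 D54205 (iv D52432) D52431
theorem F242851 : act 7 n54205 = n52440 := d43_1 D54205 (iv D52440) (iv F234829)
def n54206 : Q := act 8 n52432
theorem D54206 : act 8 n52432 = n54206 := rfl
theorem F242852 : act 1 n54206 = n52434 := d15_1 D54206 (iv D52434) (iv F234830)
theorem F242853 : act 5 n54206 = n52452 := d37_1 D54206 (iv D52452) (iv F234832)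
theorem F242854 : act 7 n54206 = n52441 := d42_1 D54206 (iv D52441) (iv F234833)
def n54207 : Q := act 8 n52433
theorem D54207 : act 8 n52433 = n54207 := rfl
theorem F242855 : act 2 n54207 = n52435 := d22_1 D54207 (iv D52435) (iv F234834)
theorem F242856 : act 4 n54207 = n52434 := d33_1 D54207 (iv D52434) (iv F234835)
theorem F242857 : act 7 n54207 = n52446 := d42_1 D54207 (iv D52446) (iv F234836)
def n54208 : Q := act 3 n52434
theorem D54208 : act 3 n52434 = n54208 := rfl
theorem F242858 : act 5 n54208 = n52453 := d25_2 (iv F234838) D54208 (iv D52453)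
theorem F242859 : act 7 n54208 = n52447 := d27_2 (iv F234839) D54208 (iv D52447)
theorem F242860 : act 8 n54208 = n52475 := d28_2 D52434 D54208 (iv D52475) (iv D50463) (iv F225673)
def n54209 : Q := act 3 n52435
theorem D54209 : act 3 n52435 = n54209 := rfl
theorem F242861 : act 7 n54209 = n52451 := d27_2 (iv F234841) D54209 (iv D52451)
theorem F242862 : act 8 n54209 = n52646 := d28_2 D52435 D54209 (iv D52646) (iv D50655) (iv F225676)
def n54210 : Q := act 9 n52436
theorem D54210 : act 9 n52436 = n54210 := rfl
theorem F242863 : act 0 n54210 = n52440 := d8_1 D54210 (iv D52440) (iv F234842)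
theorem F242864 : act 4 n54210 = n52437 := d34_1 D54210 (iv D52437) D52436
def n54211 : Q := act 8 n52437
theorem D54211 : act 8 n52437 = n54211 := rfl
theorem F242865 : act 0 n54211 = n52441 := d7_1 D54211 (iv D52441) (iv F234843)
theorem F242866 : act 5 n54211 = n52454 := d37_1 D54211 (iv D52454) (iv F234845)
def n54212 : Q := act 9 n52438
theorem D54212 : act 9 n52438 = n54212 := rfl
theorem F242867 : act 1 n54212 = n52443 := d16_1 D54212 (iv D52443) (iv F234846)
theorem F242868 : act 3 n54212 = n52440 := d29_1 D54212 (iv D52440) D52438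
theorem F242869 : act 4 n54212 = n52477 := d34_1 D54212 (iv D52477) (iv F234847)
def n54213 : Q := act 9 n52439
theorem D54213 : act 9 n52439 = n54213 := rfl
theorem F242870 : act 1 n54213 = n52445 := d16_1 D54213 (iv D52445) (iv F234848)
theorem F242871 : act 4 n54213 = n52455 := d34_1 D54213 (iv D52455) (iv F234849)
theorem F242872 : act 5 n54213 = n52440 := d38_1 D54213 (iv D52440) D52439
def n54214 : Q := act 8 n52440
theorem D54214 : act 8 n52440 = n54214 := rfl
theorem F242873 : act 1 n54214 = n52446 := d15_1 D54214 (iv D52446) (iv F234850)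
theorem F242874 : act 4 n54214 = n52441 := d33_1 D54214 (iv D52441) (iv F234851)
def n54215 : Q := act 3 n52441
theorem D54215 : act 3 n52441 = n54215 := rfl
theorem F242875 : act 1 n54215 = n52447 := d10_1 D54215 (iv D52447) (iv F234852)
theorem F242876 : act 5 n54215 = n52457 := d25_2 (iv F234853) D54215 (iv D52457)
theorem F242877 : act 8 n54215 = n52479 := d28_2 D52441 D54215 (iv D52479) (iv D50467) (iv F225685)
def n54216 : Q := act 9 n52442
theorem D54216 : act 9 n52442 = n54216 := rfl
theorem F242878 : act 2 n54216 = n52659 := d23_1 D54216 (iv D52659) (iv F234854)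
theorem F242879 : act 4 n54216 = n52480 := d34_1 D54216 (iv D52480) (iv F234855)
def n54217 : Q := act 8 n52443
theorem D54217 : act 8 n52443 = n54217 := rfl
theorem F242880 : act 2 n54217 = n52660 := d22_1 D54217 (iv D52660) (iv F234856)
theorem F242881 : act 4 n54217 = n52481 := d33_1 D54217 (iv D52481) (iv F234858)
def n54218 : Q := act 9 n52444
theorem D54218 : act 9 n52444 = n54218 := rfl
theorem F242882 : act 2 n54218 = n52449 := d23_1 D54218 (iv D52449) (iv F234859)
theorem F242883 : act 4 n54218 = n52458 := d34_1 D54218 (iv D52458) (iv F234860)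
theorem F242884 : act 6 n54218 = n52445 := d41_1 D54218 (iv D52445) D52444
def n54219 : Q := act 8 n52445
theorem D54219 : act 8 n52445 = n54219 := rfl
theorem F242885 : act 2 n54219 = n52450 := d22_1 D54219 (iv D52450) (iv F234861)
theorem F242886 : act 4 n54219 = n52459 := d33_1 D54219 (iv D52459) (iv F234862)
theorem F242887 : act 5 n54219 = n52446 := d37_1 D54219 (iv D52446) (iv F234863)
def n54220 : Q := act 3 n52446
theorem D54220 : act 3 n52446 = n54220 := rfl
def n54221 : Q := act 4 n52447
theorem D54221 : act 4 n52447 = n54221 := rfl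
theorem F242888 : act 8 n54221 = n52483 := d33_2 (iv F234867) D54221 (iv D52483)
def n54222 : Q := act 9 n52448
theorem D54222 : act 9 n52448 = n54222 := rfl
theorem F242889 : act 3 n54222 = n52666 := d29_1 D54222 (iv D52666) (iv F234868)
theorem F242890 : act 4 n54222 = n52462 := d34_1 D54222 (iv D52462) (iv F234869)
theorem F242891 : act 7 n54222 = n52449 := d43_1 D54222 (iv D52449) D52448
def n54223 : Q := act 8 n52449
theorem D54223 : act 8 n52449 = n54223 := rfl
theorem F242892 : act 4 n54223 = n52463 := d33_1 D54223 (iv D52463) (iv F234871)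
theorem F242893 : act 6 n54223 = n52450 := d40_1 D54223 (iv D52450) (iv F234872)
def n54224 : Q := act 3 n52450
theorem D54224 : act 3 n52450 = n54224 := rfl
theorem F242894 : act 5 n54224 = n52451 := d25_2 (iv F234874) D54224 (iv D52451)
theorem F242895 : act 8 n54224 = n52668 := d28_2 D52450 D54224 (iv D52668) (iv D50671) (iv F225697)
def n54225 : Q := act 2 n52451
theorem D54225 : act 2 n52451 = n54225 := rfl
theorem F242896 : act 8 n54225 = n52669 := d22_2 (iv F234875) D54225 (iv D52669)
def n54226 : Q := act 3 n52452
theorem D54226 : act 3 n52452 = n54226 := rfl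
theorem F242897 : act 1 n54226 = n52453 := d10_1 D54226 (iv D52453) (iv F234876)
theorem F242898 : act 7 n54226 = n52457 := d27_2 (iv F234877) D54226 (iv D52457)
theorem F242899 : act 8 n54226 = n52484 := d28_2 D52452 D54226 (iv D52484) (iv D50472) (iv F225702)
def n54227 : Q := act 3 n52454
theorem D54227 : act 3 n52454 = n54227 := rfl
theorem F242900 : act 0 n54227 = n52457 := d2_1 D54227 (iv D52457) (iv F234880)
theorem F242901 : act 6 n54227 = n52465 := d26_2 (iv F234881) D54227 (iv D52465)
theorem F242902 : act 8 n54227 = n52485 := d28_2 D52454 D54227 (iv D52485) (iv D50474) (iv F225707)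
def n54228 : Q := act 8 n52455
theorem D54228 : act 8 n52455 = n54228 := rfl
theorem F242903 : act 1 n54228 = n52459 := d15_1 D54228 (iv D52459) (iv F234882)
theorem F242904 : act 5 n54228 = n52456 := d37_1 D54228 (iv D52456) (iv F234884)
def n54229 : Q := act 2 n52457
theorem D54229 : act 2 n52457 = n54229 := rfl
theorem F242905 : act 6 n54229 = n52468 := d20_2 (iv F234889) D54229 (iv D52468)
theorem F242906 : act 8 n54229 = n52486 := d22_2 (iv F234890) D54229 (iv D52486)
def n54230 : Q := act 4 n52457
theorem D54230 : act 4 n52457 = n54230 := rfl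
theorem F242907 : act 1 n54230 = n52461 := d11_1 D54230 (iv D52461) (iv F234888)
theorem F242908 : act 6 n54230 = n52469 := d31_2 (iv F234889) D54230 (iv D52469)
theorem F242909 : act 8 n54230 = n52487 := d33_2 (iv F234890) D54230 (iv D52487)
def n54231 : Q := act 8 n52458
theorem D54231 : act 8 n52458 = n54231 := rfl
theorem F242910 : act 2 n54231 = n52463 := d22_1 D54231 (iv D52463) (iv F234891)
theorem F242911 : act 5 n54231 = n52470 := d37_1 D54231 (iv D52470) (iv F234893)
theorem F242912 : act 6 n54231 = n52459 := d40_1 D54231 (iv D52459) (iv F234894)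
def n54232 : Q := act 3 n52459
theorem D54232 : act 3 n52459 = n54232 := rfl
theorem F242913 : act 5 n54232 = n52460 := d25_2 (iv F234896) D54232 (iv D52460)
theorem F242914 : act 7 n54232 = n52463 := d27_2 F236326 D54232 (iv F236323)
theorem F242915 : act 8 n54232 = n52462 := d28_2 D52459 D54232 F234902 F225760 (iv F225721)
def n54233 : Q := act 5 n52461
theorem D54233 : act 5 n52461 = n54233 := rfl
theorem F242916 : act 8 n54233 = n52488 := d37_2 (iv F234901) D54233 (iv D52488)
def n54234 : Q := act 6 n52472
theorem D54234 : act 6 n52472 = n54234 := rfl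
theorem F242917 : act 8 n54234 = n52489 := d40_2 (iv F234922) D54234 (iv D52489)
def n54235 : Q := act 3 n52473
theorem D54235 : act 3 n52473 = n54235 := rfl
theorem F242918 : act 2 n54235 = n52479 := d17_1 D54235 (iv D52479) F225786 (iv F225764) (iv F234923)
theorem F242919 : act 5 n54235 = n52486 := d25_2 (iv F234924) D54235 F234964
theorem F242920 : act 6 n54235 = n52475 := d26_2 (iv F234925) D54235 (iv D52475)
theorem F242921 : act 9 n54235 = n54235 := d29_2 F234926 D54235 (iv D54235)
def n54236 : Q := act 3 n52474
theorem D54236 : act 3 n52474 = n54236 := rfl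
theorem F242922 : act 1 n54236 = n52475 := d10_1 D54236 (iv D52475) (iv F234927)
theorem F242923 : act 5 n54236 = n52484 := d25_2 (iv F234929) D54236 (iv D52484)
theorem F242924 : act 7 n54236 = n52479 := d27_2 (iv F234930) D54236 (iv D52479)
theorem F242925 : act 9 n54236 = n54236 := d29_2 F234931 D54236 (iv D54236)
def n54237 : Q := act 4 n52475
theorem D54237 : act 4 n52475 = n54237 := rfl
theorem F242926 : act 7 n54237 = n52483 := d32_2 (iv F234933) D54237 (iv D52483)
theorem F242927 : act 9 n54237 = n54237 := d34_2 F234934 D54237 (iv D54237)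
def n54238 : Q := act 3 n52476
theorem D54238 : act 3 n52476 = n54238 := rfl
theorem F242928 : act 0 n54238 = n52479 := d2_1 D54238 (iv D52479) (iv F234935)
theorem F242929 : act 5 n54238 = n52485 := d25_2 (iv F234937) D54238 (iv D52485)
theorem F242930 : act 9 n54238 = n54238 := d29_2 F234938 D54238 (iv D54238)
def n54239 : Q := act 8 n52477
theorem D54239 : act 8 n52477 = n54239 := rfl
theorem F242931 : act 1 n54239 = n52481 := d15_1 D54239 (iv D52481) (iv F234939)
theorem F242932 : act 5 n54239 = n52722 := d37_1 D54239 (iv D52722) (iv F234941)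
def n54240 : Q := act 3 n52478
theorem D54240 : act 3 n52478 = n54240 := rfl
theorem F242933 : act 1 n54240 = n52482 := d10_1 D54240 (iv D52482) (iv F234942)
theorem F242934 : act 5 n54240 = n52723 := d25_2 (iv F234945) D54240 (iv D52723)
theorem F242935 : act 9 n54240 = n54240 := d29_2 F234946 D54240 (iv D54240)
def n54241 : Q := act 4 n52479
theorem D54241 : act 4 n52479 = n54241 := rfl
theorem F242936 : act 1 n54241 = n52483 := d11_1 D54241 (iv D52483) (iv F234947)
theorem F242937 : act 9 n54241 = n54241 := d34_2 F234949 D54241 (iv D54241)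
def n54242 : Q := act 8 n52480
theorem D54242 : act 8 n52480 = n54242 := rfl
theorem F242938 : act 2 n54242 = n52697 := d22_1 D54242 (iv D52697) (iv F234950)
theorem F242939 : act 5 n54242 = n52724 := d37_1 D54242 (iv D52724) (iv F234952)
theorem F242940 : act 9 n54242 = n52481 := d44_2 D52480 D54242 (iv D52481) (iv D50469) D50468
def n54243 : Q := act 3 n52481
theorem D54243 : act 3 n52481 = n54243 := rfl
theorem F242941 : act 5 n54243 = n52725 := d25_2 (iv F234954) D54243 (iv D52725)
theorem F242942 : act 8 n54243 = n52482 := d28_2 D52481 D54243 (iv D52482) (iv D50470) (iv F225793)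
def n54244 : Q := act 4 n52482
theorem D54244 : act 4 n52482 = n54244 := rfl
theorem F242943 : act 3 n54244 = n52483 := d24_1 D54244 (iv D52483) (iv D50471) (iv F225796) D52482
theorem F242944 : act 9 n54244 = n54244 := d34_2 F234956 D54244 (iv D54244)
def n54245 : Q := act 5 n52483
theorem D54245 : act 5 n52483 = n54245 := rfl
theorem F242945 : act 4 n54245 = n52488 := d30_1 D54245 (iv D52488) (iv D50476) (iv F225799) D52483
theorem F242946 : act 9 n54245 = n54245 := d38_2 F234957 D54245 (iv D54245)
def n54246 : Q := act 5 n52487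
theorem D54246 : act 5 n52487 = n54246 := rfl
theorem F242947 : act 1 n54246 = n52488 := d12_1 D54246 (iv D52488) (iv F234967)
theorem F242948 : act 3 n54246 = n52726 := d25_1 D54246 (iv D52726) (iv F234968)
theorem F242949 : act 9 n54246 = n54246 := d38_2 F234970 D54246 (iv D54246)
def n54247 : Q := act 6 n52488
theorem D54247 : act 6 n52488 = n54247 := rfl
theorem F242950 : act 3 n54247 = n52727 := d26_1 D54247 (iv D52727) (iv F234971)
theorem F242951 : act 5 n54247 = n52489 := d35_1 D54247 (iv D52489) (iv D50480) (iv F225817) D52488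
theorem F242952 : act 9 n54247 = n54247 := d41_2 F234972 D54247 (iv D54247)
def n54248 : Q := act 5 n52492
theorem D54248 : act 5 n52492 = n54248 := rfl
theorem F242953 : act 0 n54248 = n52509 := d4_1 D54248 (iv D52509) (iv F234985)
theorem F242954 : act 4 n54248 = n54248 := d30_1 D54248 (iv D54248) (iv D52492) F225876 D52492
def n54249 : Q := act 9 n52492
theorem D54249 : act 9 n52492 = n54249 := rfl
theorem F242955 : act 0 n54249 = n52510 := d8_1 D54249 (iv D52510) (iv F234985)
theorem F242956 : act 4 n54249 = n52493 := d34_1 D54249 (iv D52493) D52492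
theorem F242957 : act 6 n54249 = n52494 := d41_1 D54249 (iv D52494) (iv F234986)
def n54250 : Q := act 8 n52493
theorem D54250 : act 8 n52493 = n54250 := rfl
theorem F242958 : act 0 n54250 = n52511 := d7_1 D54250 (iv D52511) (iv F234987)
theorem F242959 : act 3 n54250 = n52557 := d28_1 D54250 (iv D52557) F226118 (iv F225882) (iv F234988)
theorem F242960 : act 5 n54250 = n54250 := d37_1 D54250 (iv D54250) F234989
theorem F242961 : act 6 n54250 = n52495 := d40_1 D54250 (iv D52495) (iv F234990)
def n54251 : Q := act 8 n52494
theorem D54251 : act 8 n52494 = n54251 := rfl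
theorem F242962 : act 0 n54251 = n52520 := d7_1 D54251 (iv D52520) (iv F234991)
theorem F242963 : act 4 n54251 = n52495 := d33_1 D54251 (iv D52495) (iv F234992)
theorem F242964 : act 7 n54251 = n52496 := d42_1 D54251 (iv D52496) (iv F234993)
def n54252 : Q := act 3 n52496
theorem D54252 : act 3 n52496 = n54252 := rfl
theorem F242965 : act 0 n54252 = n52530 := d2_1 D54252 (iv D52530) (iv F234998)
theorem F242966 : act 4 n54252 = n52571 := d24_2 (iv F234999) D54252 (iv D52571) F226154 (iv F225892)
def n54253 : Q := act 8 n52497
theorem D54253 : act 8 n52497 = n54253 := rfl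
theorem F242967 : act 4 n54253 = n52498 := d33_1 D54253 (iv D52498) (iv F235001)
def n54254 : Q := act 9 n52499
theorem D54254 : act 9 n52499 = n54254 := rfl
theorem F242968 : act 4 n54254 = n52500 := d34_1 D54254 (iv D52500) D52499
theorem F242969 : act 6 n54254 = n52501 := d41_1 D54254 (iv D52501) (iv F235004)
def n54255 : Q := act 8 n52500
theorem D54255 : act 8 n52500 = n54255 := rfl
theorem F242970 : act 3 n54255 = n52589 := d28_1 D54255 (iv D52589) F226228 (iv F225907) (iv F235006)
theorem F242971 : act 5 n54255 = n54255 := d37_1 D54255 (iv D54255) F235007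
theorem F242972 : act 6 n54255 = n52502 := d40_1 D54255 (iv D52502) (iv F235008)
theorem F242973 : act 9 n54255 = n52511 := d44_2 D52500 D54255 (iv D52511) (iv D50514) (iv F225903)
def n54256 : Q := act 8 n52501
theorem D54256 : act 8 n52501 = n54256 := rfl
theorem F242974 : act 4 n54256 = n52502 := d33_1 D54256 (iv D52502) (iv F235009)
theorem F242975 : act 7 n54256 = n52504 := d42_1 D54256 (iv D52504) (iv F235010)
theorem F242976 : act 9 n54256 = n52520 := d44_2 D52501 D54256 (iv D52520) (iv D50519) (iv F225909)
def n54257 : Q := act 8 n52503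
theorem D54257 : act 8 n52503 = n54257 := rfl
theorem F242977 : act 1 n54257 = n52552 := d15_1 D54257 (iv D52552) (iv F235015)
theorem F242978 : act 4 n54257 = n52506 := d33_1 D54257 (iv D52506) (iv F235016)
theorem F242979 : act 5 n54257 = n52504 := d37_1 D54257 (iv D52504) (iv F235017)
theorem F242980 : act 9 n54257 = n52529 := d44_2 D52503 D54257 (iv D52529) (iv D50527) (iv F225915)
def n54258 : Q := act 3 n52504
theorem D54258 : act 3 n52504 = n54258 := rfl
theorem F242981 : act 4 n54258 = n52611 := d24_2 (iv F235018) D54258 (iv D52611) F226268 (iv F225917)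
theorem F242982 : act 9 n54258 = n52530 := d29_2 (iv F235019) D54258 (iv D52530)
def n54259 : Q := act 5 n52507
theorem D54259 : act 5 n52507 = n54259 := rfl
theorem F242983 : act 2 n54259 = n52509 := d19_1 D54259 (iv D52509) (iv F235030)
theorem F242984 : act 4 n54259 = n54259 := d30_1 D54259 (iv D54259) (iv D52507) F225938 D52507
def n54260 : Q := act 9 n52507
theorem D54260 : act 9 n52507 = n54260 := rfl
theorem F242985 : act 2 n54260 = n52510 := d23_1 D54260 (iv D52510) (iv F235030)
theorem F242986 : act 4 n54260 = n52508 := d34_1 D54260 (iv D52508) D52507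
theorem F242987 : act 6 n54260 = n52516 := d41_1 D54260 (iv D52516) (iv F235031)
def n54261 : Q := act 8 n52508
theorem D54261 : act 8 n52508 = n54261 := rfl
theorem F242988 : act 2 n54261 = n52511 := d22_1 D54261 (iv D52511) (iv F235032)
theorem F242989 : act 5 n54261 = n54261 := d37_1 D54261 (iv D54261) F235034
theorem F242990 : act 6 n54261 = n52517 := d40_1 D54261 (iv D52517) (iv F235035)
def n54262 : Q := act 6 n52509
theorem D54262 : act 6 n52509 = n54262 := rfl
theorem F242991 : act 1 n54262 = n52555 := d13_1 D54262 (iv F241668) F241664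
theorem F242992 : act 4 n54262 = n54262 := d31_1 D54262 (iv D54262) F235036
theorem F242993 : act 5 n54262 = n52518 := d35_1 D54262 (iv D52518) (iv D50518) (iv F225940) D52509
theorem F242994 : act 8 n54262 = n52525 := d40_2 (iv F240418) D54262 (iv F240417)
def n54263 : Q := act 9 n52509
theorem D54263 : act 9 n52509 = n54263 := rfl
theorem F242995 : act 4 n54263 = n54263 := d34_1 D54263 (iv D54263) F235036
theorem F242996 : act 5 n54263 = n52510 := d38_1 D54263 (iv D52510) D52509
def n54264 : Q := act 8 n52510
theorem D54264 : act 8 n52510 = n54264 := rfl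
theorem F242997 : act 4 n54264 = n52511 := d33_1 D54264 (iv D52511) (iv F235037)
theorem F242998 : act 6 n54264 = n52520 := d40_1 D54264 (iv D52520) (iv F235038)
def n54265 : Q := act 5 n52512
theorem D54265 : act 5 n52512 = n54265 := rfl
theorem F242999 : act 1 n54265 = n52515 := d12_1 D54265 (iv D52515) (iv F235042)
theorem F243000 : act 2 n54265 = n52558 := d19_1 D54265 F237733 F237732
theorem F243001 : act 4 n54265 = n52531 := d30_1 D54265 (iv D52531) (iv D50529) (iv F225945) D52512
theorem F243002 : act 7 n54265 = n52522 := d36_2 (iv F235043) D54265 (iv D52522)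
def n54266 : Q := act 9 n52512
theorem D54266 : act 9 n52512 = n54266 := rfl
theorem F243003 : act 1 n54266 = n52516 := d16_1 D54266 (iv D52516) (iv F235042)
theorem F243004 : act 4 n54266 = n52513 := d34_1 D54266 (iv D52513) D52512
theorem F243005 : act 7 n54266 = n52523 := d43_1 D54266 (iv D52523) (iv F235043)
def n54267 : Q := act 8 n52513
theorem D54267 : act 8 n52513 = n54267 := rfl
theorem F243006 : act 1 n54267 = n52517 := d15_1 D54267 (iv D52517) (iv F235044)
theorem F243007 : act 5 n54267 = n52533 := d37_1 D54267 (iv D52533) (iv F235046)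
theorem F243008 : act 7 n54267 = n52524 := d42_1 D54267 (iv D52524) (iv F235047)
def n54268 : Q := act 5 n52514
theorem D54268 : act 5 n52514 = n54268 := rfl
theorem F243009 : act 3 n54268 = n52515 := d25_1 D54268 (iv D52515) D52514
theorem F243010 : act 4 n54268 = n54268 := d30_1 D54268 (iv D54268) F235048 F226043 (iv F235048)
theorem F243011 : act 7 n54268 = n52525 := d36_2 (iv F235049) D54268 (iv D52525)
def n54269 : Q := act 9 n52514
theorem D54269 : act 9 n52514 = n54269 := rfl
theorem F243012 : act 3 n54269 = n52516 := d29_1 D54269 (iv D52516) D52514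
theorem F243013 : act 4 n54269 = n52543 := d34_1 D54269 (iv D52543) (iv F235048)
theorem F243014 : act 7 n54269 = n52526 := d43_1 D54269 (iv D52526) (iv F235049)
def n54270 : Q := act 9 n52515
theorem D54270 : act 9 n52515 = n54270 := rfl
theorem F243015 : act 2 n54270 = n52519 := d23_1 D54270 (iv D52519) (iv F235050)
theorem F243016 : act 4 n54270 = n52534 := d34_1 D54270 (iv D52534) (iv F235051)
theorem F243017 : act 5 n54270 = n52516 := d38_1 D54270 (iv D52516) D52515
theorem F243018 : act 7 n54270 = n52527 := d43_1 D54270 (iv D52527) (iv F235052)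
def n54271 : Q := act 8 n52516
theorem D54271 : act 8 n52516 = n54271 := rfl
theorem F243019 : act 2 n54271 = n52520 := d22_1 D54271 (iv D52520) (iv F235053)
theorem F243020 : act 4 n54271 = n52517 := d33_1 D54271 (iv D52517) (iv F235054)
theorem F243021 : act 7 n54271 = n52528 := d42_1 D54271 (iv D52528) (iv F235055)
def n54272 : Q := act 9 n52518
theorem D54272 : act 9 n52518 = n54272 := rfl
theorem F243022 : act 1 n54272 = n52556 := d16_1 D54272 (iv D52556) (iv F235059)
theorem F243023 : act 4 n54272 = n52536 := d34_1 D54272 (iv D52536) (iv F235060)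
theorem F243024 : act 6 n54272 = n52519 := d41_1 D54272 (iv D52519) D52518
def n54273 : Q := act 8 n52519
theorem D54273 : act 8 n52519 = n54273 := rfl
theorem F243025 : act 1 n54273 = n52562 := d15_1 D54273 (iv D52562) (iv F235062)
theorem F243026 : act 4 n54273 = n52537 := d33_1 D54273 (iv D52537) (iv F235063)
theorem F243027 : act 5 n54273 = n52520 := d37_1 D54273 (iv D52520) (iv F235064)
theorem F243028 : act 7 n54273 = n52529 := d42_1 D54273 (iv D52529) (iv F235065)
def n54274 : Q := act 3 n52520
theorem D54274 : act 3 n52520 = n54274 := rfl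
theorem F243029 : act 4 n54274 = n52646 := d24_2 (iv F235066) D54274 (iv D52646) F226390 (iv F225958)
theorem F243030 : act 7 n54274 = n52530 := d27_2 (iv F235067) D54274 (iv D52530)
def n54275 : Q := act 5 n52521
theorem D54275 : act 5 n52521 = n54275 := rfl
theorem F243031 : act 0 n54275 = n52587 := d4_1 D54275 (iv D52587) (iv F235068)
theorem F243032 : act 1 n54275 = n52525 := d12_1 D54275 (iv D52525) (iv F235069)
theorem F243033 : act 3 n54275 = n52522 := d25_1 D54275 (iv D52522) D52521
theorem F243034 : act 4 n54275 = n54275 := d30_1 D54275 (iv D54275) F235070 F226057 (iv F235070)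
theorem F243035 : act 8 n54275 = n52555 := d37_2 F235072 D54275 (iv D52555)
def n54276 : Q := act 9 n52521
theorem D54276 : act 9 n52521 = n54276 := rfl
theorem F243036 : act 0 n54276 = n52588 := d8_1 D54276 (iv D52588) (iv F235068)
theorem F243037 : act 1 n54276 = n52526 := d16_1 D54276 (iv D52526) (iv F235069)
theorem F243038 : act 3 n54276 = n52523 := d29_1 D54276 (iv D52523) D52521
theorem F243039 : act 4 n54276 = n52544 := d34_1 D54276 (iv D52544) (iv F235070)
theorem F243040 : act 6 n54276 = n52550 := d41_1 D54276 (iv D52550) (iv F235071)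
def n54277 : Q := act 9 n52522
theorem D54277 : act 9 n52522 = n54277 := rfl
theorem F243041 : act 1 n54277 = n52527 := d16_1 D54277 (iv D52527) (iv F235073)
theorem F243042 : act 2 n54277 = n52566 := d23_1 D54277 (iv D52566) (iv F235074)
theorem F243043 : act 4 n54277 = n52538 := d34_1 D54277 (iv D52538) (iv F235075)
theorem F243044 : act 5 n54277 = n52523 := d38_1 D54277 (iv D52523) D52522
def n54278 : Q := act 8 n52523
theorem D54278 : act 8 n52523 = n54278 := rfl
theorem F243045 : act 1 n54278 = n52528 := d15_1 D54278 (iv D52528) (iv F235076)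
theorem F243046 : act 4 n54278 = n52524 := d33_1 D54278 (iv D52524) (iv F235077)
def n54279 : Q := act 9 n52525
theorem D54279 : act 9 n52525 = n54279 := rfl
theorem F243047 : act 3 n54279 = n52527 := d29_1 D54279 (iv D52527) (iv F235080)
theorem F243048 : act 4 n54279 = n54279 := d34_1 D54279 (iv D54279) F235081
theorem F243049 : act 5 n54279 = n52526 := d38_1 D54279 (iv D52526) D52525
def n54280 : Q := act 8 n52526
theorem D54280 : act 8 n52526 = n54280 := rfl
theorem F243050 : act 4 n54280 = n52545 := d33_1 D54280 (iv D52545) (iv F235083)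
def n54281 : Q := act 8 n52527
theorem D54281 : act 8 n52527 = n54281 := rfl
theorem F243051 : act 2 n54281 = n52529 := d22_1 D54281 (iv D52529) (iv F235084)
theorem F243052 : act 4 n54281 = n52540 := d33_1 D54281 (iv D52540) (iv F235085)
theorem F243053 : act 5 n54281 = n52528 := d37_1 D54281 (iv D52528) (iv F235086)
def n54282 : Q := act 3 n52528
theorem D54282 : act 3 n52528 = n54282 := rfl
def n54283 : Q := act 3 n52529
theorem D54283 : act 3 n52529 = n54283 := rfl
theorem F243054 : act 1 n54283 = n52571 := d10_1 D54283 (iv D52571) (iv F235089)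
theorem F243055 : act 5 n54283 = n52530 := d25_2 (iv F235091) D54283 (iv D52530)
def n54284 : Q := act 2 n52530
theorem D54284 : act 2 n52530 = n54284 := rfl
theorem F243056 : act 4 n54284 = n52669 := d18_2 (iv F235092) D54284 (iv D52669)
def n54285 : Q := act 9 n52531
theorem D54285 : act 9 n52531 = n54285 := rfl
theorem F243057 : act 1 n54285 = n52534 := d16_1 D54285 (iv D52534) (iv F235093)
theorem F243058 : act 2 n54285 = n52559 := d23_1 D54285 (iv D52559) (iv F235094)
theorem F243059 : act 3 n54285 = n54285 := d29_1 D54285 (iv D54285) F235095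
theorem F243060 : act 5 n54285 = n52532 := d38_1 D54285 (iv D52532) D52531
theorem F243061 : act 7 n54285 = n52538 := d43_1 D54285 (iv D52538) (iv F235096)
def n54286 : Q := act 8 n52532
theorem D54286 : act 8 n52532 = n54286 := rfl
theorem F243062 : act 1 n54286 = n52535 := d15_1 D54286 (iv D52535) (iv F235097)
theorem F243063 : act 2 n54286 = n52573 := d22_1 D54286 (iv D52573) (iv F235098)
theorem F243064 : act 4 n54286 = n52533 := d33_1 D54286 (iv D52533) (iv F235100)
theorem F243065 : act 6 n54286 = n54286 := d40_1 D54286 (iv D54286) F235101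
theorem F243066 : act 7 n54286 = n52539 := d42_1 D54286 (iv D52539) (iv F235102)
def n54287 : Q := act 8 n52534
theorem D54287 : act 8 n52534 = n54287 := rfl
theorem F243067 : act 2 n54287 = n52537 := d22_1 D54287 (iv D52537) (iv F235106)
theorem F243068 : act 5 n54287 = n52535 := d37_1 D54287 (iv D52535) (iv F235108)
theorem F243069 : act 7 n54287 = n52540 := d42_1 D54287 (iv D52540) (iv F235109)
def n54288 : Q := act 3 n52535
theorem D54288 : act 3 n52535 = n54288 := rfl
theorem F243070 : act 6 n54288 = n54288 := d26_2 F235112 D54288 (iv D54288)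
theorem F243071 : act 7 n54288 = n52541 := d27_2 (iv F235113) D54288 (iv D52541)
theorem F243072 : act 8 n54288 = n54288 := d28_2 D52535 D54288 (iv D54288) (iv D52535) F225989
def n54289 : Q := act 8 n52536
theorem D54289 : act 8 n52536 = n54289 := rfl
theorem F243073 : act 1 n54289 = n52557 := d15_1 D54289 (iv D52557) (iv F235114)
theorem F243074 : act 5 n54289 = n54289 := d37_1 D54289 (iv D54289) F235116
theorem F243075 : act 6 n54289 = n52537 := d40_1 D54289 (iv D52537) (iv F235117)
theorem F243076 : act 9 n54289 = n52545 := d44_2 D52536 D54289 (iv D52545) (iv D50553) (iv F225999)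
def n54290 : Q := act 8 n52538
theorem D54290 : act 8 n52538 = n54290 := rfl
theorem F243077 : act 1 n54290 = n52540 := d15_1 D54290 (iv D52540) (iv F235121)
theorem F243078 : act 2 n54290 = n52567 := d22_1 D54290 (iv D52567) (iv F235122)
theorem F243079 : act 5 n54290 = n52539 := d37_1 D54290 (iv D52539) (iv F235124)
def n54291 : Q := act 3 n52539
theorem D54291 : act 3 n52539 = n54291 := rfl
theorem F243080 : act 1 n54291 = n52541 := d10_1 D54291 (iv D52541) (iv F235125)
theorem F243081 : act 6 n54291 = n52542 := d26_2 (iv F235128) D54291 (iv D52542)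
theorem F243082 : act 8 n54291 = n54291 := d28_2 D52539 D54291 (iv D54291) (iv D52539) F226013
def n54292 : Q := act 3 n52540
theorem D54292 : act 3 n52540 = n54292 := rfl
theorem F243083 : act 5 n54292 = n52541 := d25_2 (iv F235130) D54292 (iv D52541)
theorem F243084 : act 8 n54292 = n54292 := d28_2 D52540 D54292 (iv D54292) (iv D52540) F226019
def n54293 : Q := act 8 n52543
theorem D54293 : act 8 n52543 = n54293 := rfl
theorem F243085 : act 5 n54293 = n54293 := d37_1 D54293 (iv D54293) F235137
theorem F243086 : act 7 n54293 = n52545 := d42_1 D54293 (iv D52545) (iv F235138)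
def n54294 : Q := act 8 n52544
theorem D54294 : act 8 n52544 = n54294 := rfl
theorem F243087 : act 0 n54294 = n52589 := d7_1 D54294 (iv D52589) (iv F235139)
theorem F243088 : act 1 n54294 = n52545 := d15_1 D54294 (iv D52545) (iv F235140)
theorem F243089 : act 5 n54294 = n54294 := d37_1 D54294 (iv D54294) F235142
theorem F243090 : act 6 n54294 = n52551 := d40_1 D54294 (iv D52551) (iv F235143)
theorem F243091 : act 9 n54294 = n52557 := d44_2 D52544 D54294 (iv D52557) (iv D50567) (iv F226059)
def n54295 : Q := act 9 n52546
theorem D54295 : act 9 n52546 = n54295 := rfl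
theorem F243092 : act 0 n54295 = n52582 := d8_1 D54295 (iv D52582) (iv F235145)
theorem F243093 : act 2 n54295 = n52548 := d23_1 D54295 (iv D52548) (iv F235146)
theorem F243094 : act 4 n54295 = n52547 := d34_1 D54295 (iv D52547) D52546
def n54296 : Q := act 8 n52547
theorem D54296 : act 8 n52547 = n54296 := rfl
theorem F243095 : act 0 n54296 = n52583 := d7_1 D54296 (iv D52583) (iv F235147)
theorem F243096 : act 2 n54296 = n52549 := d22_1 D54296 (iv D52549) (iv F235148)
theorem F243097 : act 5 n54296 = n52766 := d37_1 D54296 (iv D52766) (iv F235150)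
def n54297 : Q := act 8 n52548
theorem D54297 : act 8 n52548 = n54297 := rfl
theorem F243098 : act 0 n54297 = n52584 := d7_1 D54297 (iv D52584) (iv F235151)
theorem F243099 : act 4 n54297 = n52549 := d33_1 D54297 (iv D52549) (iv F235153)
def n54298 : Q := act 8 n52550
theorem D54298 : act 8 n52550 = n54298 := rfl
theorem F243100 : act 0 n54298 = n52595 := d7_1 D54298 (iv D52595) (iv F235156)
theorem F243101 : act 4 n54298 = n52551 := d33_1 D54298 (iv D52551) (iv F235157)
theorem F243102 : act 7 n54298 = n52552 := d42_1 D54298 (iv D52552) (iv F235158)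
theorem F243103 : act 9 n54298 = n52562 := d44_2 D52550 D54298 (iv D52562) (iv D50571) (iv F226097)
def n54299 : Q := act 3 n52552
theorem D54299 : act 3 n52552 = n54299 := rfl
theorem F243104 : act 0 n54299 = n52611 := d2_1 D54299 (iv D52611) (iv F235163)
theorem F243105 : act 9 n54299 = n52571 := d29_2 (iv F235165) D54299 (iv D52571)
def n54300 : Q := act 9 n52553
theorem D54300 : act 9 n52553 = n54300 := rfl
theorem F243106 : act 0 n54300 = n52631 := d8_1 D54300 (iv D52631) (iv F235166)
theorem F243107 : act 2 n54300 = n52556 := d23_1 D54300 (iv D52556) (iv F235167)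
theorem F243108 : act 4 n54300 = n52554 := d34_1 D54300 (iv D52554) D52553
theorem F243109 : act 6 n54300 = n52560 := d41_1 D54300 (iv D52560) (iv F235168)
def n54301 : Q := act 8 n52554
theorem D54301 : act 8 n52554 = n54301 := rfl
theorem F243110 : act 0 n54301 = n52632 := d7_1 D54301 (iv D52632) (iv F235169)
theorem F243111 : act 2 n54301 = n52557 := d22_1 D54301 (iv D52557) (iv F235170)
theorem F243112 : act 5 n54301 = n54301 := d37_1 D54301 (iv D54301) F235172
theorem F243113 : act 6 n54301 = n52561 := d40_1 D54301 (iv D52561) (iv F235173)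
def n54302 : Q := act 9 n52555
theorem D54302 : act 9 n52555 = n54302 := rfl
theorem F243114 : act 0 n54302 = n52634 := d8_1 D54302 (iv D52634) (iv F235174)
theorem F243115 : act 4 n54302 = n54302 := d34_1 D54302 (iv D54302) F235175
theorem F243116 : act 5 n54302 = n52556 := d38_1 D54302 (iv D52556) D52555
def n54303 : Q := act 8 n52556
theorem D54303 : act 8 n52556 = n54303 := rfl
theorem F243117 : act 0 n54303 = n52635 := d7_1 D54303 (iv D52635) (iv F235176)
theorem F243118 : act 4 n54303 = n52557 := d33_1 D54303 (iv D52557) (iv F235177)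
theorem F243119 : act 6 n54303 = n52562 := d40_1 D54303 (iv D52562) (iv F235178)
def n54304 : Q := act 9 n52558
theorem D54304 : act 9 n52558 = n54304 := rfl
theorem F243120 : act 1 n54304 = n52560 := d16_1 D54304 (iv D52560) (iv F235182)
theorem F243121 : act 4 n54304 = n52559 := d34_1 D54304 (iv D52559) D52558
theorem F243122 : act 7 n54304 = n52566 := d43_1 D54304 (iv D52566) (iv F235183)
def n54305 : Q := act 8 n52559
theorem D54305 : act 8 n52559 = n54305 := rfl
theorem F243123 : act 1 n54305 = n52561 := d15_1 D54305 (iv D52561) (iv F235184)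
theorem F243124 : act 5 n54305 = n52573 := d37_1 D54305 (iv D52573) (iv F235186)
theorem F243125 : act 7 n54305 = n52567 := d42_1 D54305 (iv D52567) (iv F235187)
def n54306 : Q := act 8 n52560
theorem D54306 : act 8 n52560 = n54306 := rfl
theorem F243126 : act 0 n54306 = n52641 := d7_1 D54306 (iv D52641) (iv F235188)
theorem F243127 : act 2 n54306 = n52562 := d22_1 D54306 (iv D52562) (iv F235189)
theorem F243128 : act 4 n54306 = n52561 := d33_1 D54306 (iv D52561) (iv F235190)
theorem F243129 : act 7 n54306 = n52570 := d42_1 D54306 (iv D52570) (iv F235191)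
def n54307 : Q := act 3 n52562
theorem D54307 : act 3 n52562 = n54307 := rfl
theorem F243130 : act 0 n54307 = n52646 := d2_1 D54307 (iv D52646) (iv F235196)
theorem F243131 : act 7 n54307 = n52571 := d27_2 (iv F235198) D54307 (iv D52571)
def n54308 : Q := act 9 n52563
theorem D54308 : act 9 n52563 = n54308 := rfl
theorem F243132 : act 0 n54308 = n52566 := d8_1 D54308 (iv D52566) (iv F235199)
theorem F243133 : act 1 n54308 = n52648 := d16_1 D54308 (iv D52648) (iv F235200)
theorem F243134 : act 4 n54308 = n52564 := d34_1 D54308 (iv D52564) D52563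
def n54309 : Q := act 8 n52564
theorem D54309 : act 8 n52564 = n54309 := rfl
theorem F243135 : act 0 n54309 = n52567 := d7_1 D54309 (iv D52567) (iv F235201)
theorem F243136 : act 1 n54309 = n52649 := d15_1 D54309 (iv D52649) (iv F235202)
theorem F243137 : act 5 n54309 = n52574 := d37_1 D54309 (iv D52574) (iv F235204)
def n54310 : Q := act 9 n52565
theorem D54310 : act 9 n52565 = n54310 := rfl
theorem F243138 : act 1 n54310 = n52569 := d16_1 D54310 (iv D52569) (iv F235205)
theorem F243139 : act 3 n54310 = n52566 := d29_1 D54310 (iv D52566) D52565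
theorem F243140 : act 4 n54310 = n52575 := d34_1 D54310 (iv D52575) (iv F235206)
def n54311 : Q := act 8 n52566
theorem D54311 : act 8 n52566 = n54311 := rfl
theorem F243141 : act 1 n54311 = n52570 := d15_1 D54311 (iv D52570) (iv F235207)
theorem F243142 : act 4 n54311 = n52567 := d33_1 D54311 (iv D52567) (iv F235208)
def n54312 : Q := act 9 n52568
theorem D54312 : act 9 n52568 = n54312 := rfl
theorem F243143 : act 0 n54312 = n52659 := d8_1 D54312 (iv D52659) (iv F235211)
theorem F243144 : act 4 n54312 = n52576 := d34_1 D54312 (iv D52576) (iv F235212)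
def n54313 : Q := act 8 n52569
theorem D54313 : act 8 n52569 = n54313 := rfl
theorem F243145 : act 0 n54313 = n52660 := d7_1 D54313 (iv D52660) (iv F235213)
theorem F243146 : act 4 n54313 = n52577 := d33_1 D54313 (iv D52577) (iv F235215)
def n54314 : Q := act 3 n52570
theorem D54314 : act 3 n52570 = n54314 := rfl
theorem F243147 : act 0 n54314 = n52664 := d2_1 D54314 (iv D52664) (iv F235216)
def n54315 : Q := act 2 n52571
theorem D54315 : act 2 n52571 = n54315 := rfl
theorem F243148 : act 0 n54315 = n52669 := d1_1 D54315 (iv D52669) (iv F235219)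
def n54316 : Q := act 8 n52572
theorem D54316 : act 8 n52572 = n54316 := rfl
theorem F243149 : act 0 n54316 = n52573 := d7_1 D54316 (iv D52573) (iv F235220)
theorem F243150 : act 1 n54316 = n52672 := d15_1 D54316 (iv D52672) (iv F235221)
theorem F243151 : act 3 n54316 = n52736 := d28_1 D54316 (iv D52736) F226879 (iv F226212) (iv F235222)
theorem F243152 : act 6 n54316 = n54316 := d40_1 D54316 (iv D54316) F235223
theorem F243153 : act 7 n54316 = n52574 := d42_1 D54316 (iv D52574) (iv F235224)
def n54317 : Q := act 8 n52575
theorem D54317 : act 8 n52575 = n54317 := rfl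
theorem F243154 : act 1 n54317 = n52577 := d15_1 D54317 (iv D52577) (iv F235231)
theorem F243155 : act 5 n54317 = n52736 := d37_1 D54317 (iv D52736) (iv F235233)
def n54318 : Q := act 8 n52576
theorem D54318 : act 8 n52576 = n54318 := rfl
theorem F243156 : act 0 n54318 = n52697 := d7_1 D54318 (iv D52697) (iv F235234)
theorem F243157 : act 5 n54318 = n52737 := d37_1 D54318 (iv D52737) (iv F235236)
theorem F243158 : act 9 n54318 = n52577 := d44_2 D52576 D54318 (iv D52577) (iv D50593) D50592
def n54319 : Q := act 4 n52578
theorem D54319 : act 4 n52578 = n54319 := rfl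
theorem F243159 : act 0 n54319 = n52579 := d3_1 D54319 (iv D52579) D52578
theorem F243160 : act 1 n54319 = n52661 := d11_1 D54319 F235477 (iv F235239)
theorem F243161 : act 7 n54319 = n52652 := d32_2 (iv F235242) D54319 F235457
def n54320 : Q := act 9 n52578
theorem D54320 : act 9 n52578 = n54320 := rfl
theorem F243162 : act 0 n54320 = n52580 := d8_1 D54320 (iv D52580) D52578
theorem F243163 : act 1 n54320 = n52685 := d16_1 D54320 (iv D52685) (iv F235239)
theorem F243164 : act 3 n54320 = n52707 := d29_1 D54320 (iv D52707) (iv F235240)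
theorem F243165 : act 5 n54320 = n52691 := d38_1 D54320 (iv D52691) (iv F235241)
theorem F243166 : act 7 n54320 = n52682 := d43_1 D54320 (iv D52682) (iv F235242)
def n54321 : Q := act 3 n52579
theorem D54321 : act 3 n52579 = n54321 := rfl
theorem F243167 : act 1 n54321 = n52581 := d10_1 D54321 (iv D52581) (iv F235243)
theorem F243168 : act 4 n54321 = n52708 := d24_2 D52579 D54321 (iv D52708) (iv D50726) (iv F226213)
def n54322 : Q := act 9 n52579
theorem D54322 : act 9 n52579 = n54322 := rfl
theorem F243169 : act 1 n54322 = n52582 := d16_1 D54322 (iv D52582) (iv F235243)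
theorem F243170 : act 4 n54322 = n52580 := d34_1 D54322 (iv D52580) D52579
def n54323 : Q := act 8 n52580
theorem D54323 : act 8 n52580 = n54323 := rfl
theorem F243171 : act 1 n54323 = n52583 := d15_1 D54323 (iv D52583) (iv F235244)
theorem F243172 : act 5 n54323 = n52767 := d37_1 D54323 (iv D52767) (iv F235246)
def n54324 : Q := act 8 n52581
theorem D54324 : act 8 n52581 = n54324 := rfl
theorem F243173 : act 2 n54324 = n52603 := d22_1 D54324 (iv D52603) (iv F235247)
theorem F243174 : act 4 n54324 = n52711 := d33_1 D54324 (iv D52711) (iv F235248)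
def n54325 : Q := act 9 n52581
theorem D54325 : act 9 n52581 = n54325 := rfl
theorem F243175 : act 2 n54325 = n52604 := d23_1 D54325 (iv D52604) (iv F235247)
theorem F243176 : act 3 n54325 = n52582 := d29_1 D54325 (iv D52582) D52581
theorem F243177 : act 4 n54325 = n52712 := d34_1 D54325 (iv D52712) (iv F235248)
def n54326 : Q := act 8 n52582
theorem D54326 : act 8 n52582 = n54326 := rfl
theorem F243178 : act 2 n54326 = n52584 := d22_1 D54326 (iv D52584) (iv F235249)
theorem F243179 : act 4 n54326 = n52583 := d33_1 D54326 (iv D52583) (iv F235250)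
def n54327 : Q := act 3 n52583
theorem D54327 : act 3 n52583 = n54327 := rfl
theorem F243180 : act 5 n54327 = n52768 := d25_2 (iv F235252) D54327 (iv D52768)
theorem F243181 : act 8 n54327 = n52714 := d28_2 D52583 D54327 (iv D52714) (iv D50730) (iv F226217)
def n54328 : Q := act 3 n52584
theorem D54328 : act 3 n52584 = n54328 := rfl
theorem F243182 : act 8 n54328 = n52611 := d28_2 D52584 D54328 (iv D52611) (iv D50617) (iv F226219)
def n54329 : Q := act 5 n52585
theorem D54329 : act 5 n52585 = n54329 := rfl
theorem F243183 : act 2 n54329 = n52587 := d19_1 D54329 (iv D52587) (iv F235254)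
theorem F243184 : act 4 n54329 = n54329 := d30_1 D54329 (iv D54329) (iv D52585) F226223 D52585
theorem F243185 : act 8 n54329 = n52630 := d37_2 (iv F235256) D54329 (iv D52630)
def n54330 : Q := act 9 n52585
theorem D54330 : act 9 n52585 = n54330 := rfl
theorem F243186 : act 2 n54330 = n52588 := d23_1 D54330 (iv D52588) (iv F235254)
theorem F243187 : act 4 n54330 = n52586 := d34_1 D54330 (iv D52586) D52585
theorem F243188 : act 6 n54330 = n52593 := d41_1 D54330 (iv D52593) (iv F235255)
def n54331 : Q := act 8 n52586
theorem D54331 : act 8 n52586 = n54331 := rfl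
theorem F243189 : act 2 n54331 = n52589 := d22_1 D54331 (iv D52589) (iv F235257)
theorem F243190 : act 5 n54331 = n54331 := d37_1 D54331 (iv D54331) F235259
theorem F243191 : act 6 n54331 = n52594 := d40_1 D54331 (iv D52594) (iv F235260)
theorem F243192 : act 9 n54331 = n52632 := d44_2 D52586 D54331 (iv D52632) (iv D50643) (iv F226225)
def n54332 : Q := act 9 n52587
theorem D54332 : act 9 n52587 = n54332 := rfl
theorem F243193 : act 4 n54332 = n54332 := d34_1 D54332 (iv D54332) F235261
theorem F243194 : act 5 n54332 = n52588 := d38_1 D54332 (iv D52588) D52587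
def n54333 : Q := act 8 n52588
theorem D54333 : act 8 n52588 = n54333 := rfl
theorem F243195 : act 4 n54333 = n52589 := d33_1 D54333 (iv D52589) (iv F235263)
theorem F243196 : act 6 n54333 = n52595 := d40_1 D54333 (iv D52595) (iv F235264)
theorem F243197 : act 9 n54333 = n52635 := d44_2 D52588 D54333 (iv D52635) (iv D50645) (iv F226227)
def n54334 : Q := act 9 n52590
theorem D54334 : act 9 n52590 = n54334 := rfl
theorem F243198 : act 1 n54334 = n52593 := d16_1 D54334 (iv D52593) (iv F235268)
theorem F243199 : act 4 n54334 = n52591 := d34_1 D54334 (iv D52591) D52590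
theorem F243200 : act 7 n54334 = n52600 := d43_1 D54334 (iv D52600) (iv F235269)
def n54335 : Q := act 8 n52591
theorem D54335 : act 8 n52591 = n54335 := rfl
theorem F243201 : act 1 n54335 = n52594 := d15_1 D54335 (iv D52594) (iv F235271)
theorem F243202 : act 3 n54335 = n52697 := d28_1 D54335 (iv D52697) F226545 (iv F226622) (iv F235272)
theorem F243203 : act 5 n54335 = n52614 := d37_1 D54335 (iv D52614) (iv F235273)
theorem F243204 : act 7 n54335 = n52601 := d42_1 D54335 (iv D52601) (iv F235274)
theorem F243205 : act 9 n54335 = n52638 := d44_2 D52591 D54335 (iv D52638) (iv D50648) (iv F226234)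
def n54336 : Q := act 9 n52592
theorem D54336 : act 9 n52592 = n54336 := rfl
theorem F243206 : act 3 n54336 = n52593 := d29_1 D54336 (iv D52593) D52592
theorem F243207 : act 4 n54336 = n52715 := d34_1 D54336 (iv D52715) (iv F235275)
theorem F243208 : act 7 n54336 = n52604 := d43_1 D54336 (iv D52604) (iv F235276)
def n54337 : Q := act 8 n52593
theorem D54337 : act 8 n52593 = n54337 := rfl
theorem F243209 : act 2 n54337 = n52595 := d22_1 D54337 (iv D52595) (iv F235277)
theorem F243210 : act 4 n54337 = n52594 := d33_1 D54337 (iv D52594) (iv F235278)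
theorem F243211 : act 7 n54337 = n52607 := d42_1 D54337 (iv D52607) (iv F235279)
theorem F243212 : act 9 n54337 = n52641 := d44_2 D52593 D54337 (iv D52641) (iv D50651) (iv F226237)
def n54338 : Q := act 3 n52595
theorem D54338 : act 3 n52595 = n54338 := rfl
theorem F243213 : act 7 n54338 = n52611 := d27_2 (iv F235285) D54338 (iv D52611)
theorem F243214 : act 9 n54338 = n52646 := d29_2 (iv F235286) D54338 (iv D52646)
def n54339 : Q := act 9 n52596
theorem D54339 : act 9 n52596 = n54339 := rfl
theorem F243215 : act 0 n54339 = n52600 := d8_1 D54339 (iv D52600) (iv F235287)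
theorem F243216 : act 4 n54339 = n52597 := d34_1 D54339 (iv D52597) D52596
def n54340 : Q := act 8 n52597
theorem D54340 : act 8 n52597 = n54340 := rfl
theorem F243217 : act 0 n54340 = n52601 := d7_1 D54340 (iv D52601) (iv F235289)
theorem F243218 : act 5 n54340 = n52616 := d37_1 D54340 (iv D52616) (iv F235291)
theorem F243219 : act 9 n54340 = n52649 := d44_2 D52597 D54340 (iv D52649) (iv D50657) (iv F226249)
def n54341 : Q := act 2 n52598
theorem D54341 : act 2 n52598 = n54341 := rfl
theorem F243220 : act 4 n54341 = n52716 := d18_2 (iv F235293) D54341 (iv D52716)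
def n54342 : Q := act 5 n52598
theorem D54342 : act 5 n52598 = n54342 := rfl
theorem F243221 : act 1 n54342 = n52602 := d12_1 D54342 (iv D52602) (iv F235292)
theorem F243222 : act 3 n54342 = n52599 := d25_1 D54342 (iv D52599) D52598
theorem F243223 : act 4 n54342 = n54342 := d30_1 D54342 (iv D54342) F235293 F226633 (iv F235293)
def n54343 : Q := act 9 n52598
theorem D54343 : act 9 n52598 = n54343 := rfl
theorem F243224 : act 1 n54343 = n52604 := d16_1 D54343 (iv D52604) (iv F235292)
theorem F243225 : act 3 n54343 = n52600 := d29_1 D54343 (iv D52600) D52598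
theorem F243226 : act 4 n54343 = n52717 := d34_1 D54343 (iv D52717) (iv F235293)
def n54344 : Q := act 9 n52599
theorem D54344 : act 9 n52599 = n54344 := rfl
theorem F243227 : act 1 n54344 = n52606 := d16_1 D54344 (iv D52606) (iv F235294)
theorem F243228 : act 4 n54344 = n52617 := d34_1 D54344 (iv D52617) (iv F235295)
theorem F243229 : act 5 n54344 = n52600 := d38_1 D54344 (iv D52600) D52599
def n54345 : Q := act 8 n52600
theorem D54345 : act 8 n52600 = n54345 := rfl
theorem F243230 : act 1 n54345 = n52607 := d15_1 D54345 (iv D52607) (iv F235297)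
theorem F243231 : act 4 n54345 = n52601 := d33_1 D54345 (iv D52601) (iv F235298)
theorem F243232 : act 9 n54345 = n52654 := d44_2 D52600 D54345 (iv D52654) (iv D50660) (iv F226251)
def n54346 : Q := act 6 n52602
theorem D54346 : act 6 n52602 = n54346 := rfl
theorem F243233 : act 3 n54346 = n52605 := d26_1 D54346 (iv D52605) (iv F235302)
theorem F243234 : act 4 n54346 = n54346 := d31_1 D54346 (iv D54346) F235303
def n54347 : Q := act 8 n52602
theorem D54347 : act 8 n52602 = n54347 := rfl
theorem F243235 : act 3 n54347 = n52657 := d28_1 D54347 (iv D52657) F226405 (iv F226258) (iv F235302)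
theorem F243236 : act 4 n54347 = n54347 := d33_1 D54347 (iv D54347) F235303
theorem F243237 : act 5 n54347 = n52603 := d37_1 D54347 (iv D52603) D52602
def n54348 : Q := act 9 n52602
theorem D54348 : act 9 n52602 = n54348 := rfl
theorem F243238 : act 3 n54348 = n52606 := d29_1 D54348 (iv D52606) (iv F235302)
theorem F243239 : act 4 n54348 = n54348 := d34_1 D54348 (iv D54348) F235303
theorem F243240 : act 5 n54348 = n52604 := d38_1 D54348 (iv D52604) D52602
def n54349 : Q := act 9 n52603
theorem D54349 : act 9 n52603 = n54349 := rfl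
theorem F243241 : act 3 n54349 = n52659 := d29_1 D54349 (iv D52659) (iv F235304)
theorem F243242 : act 4 n54349 = n52718 := d34_1 D54349 (iv D52718) (iv F235305)
def n54350 : Q := act 8 n52604
theorem D54350 : act 8 n52604 = n54350 := rfl
theorem F243243 : act 4 n54350 = n52719 := d33_1 D54350 (iv D52719) (iv F235307)
def n54351 : Q := act 7 n52605
theorem D54351 : act 7 n52605 = n54351 := rfl
theorem F243244 : act 2 n54351 = n52608 := d21_1 D54351 (iv D52608) (iv F235308)
theorem F243245 : act 4 n54351 = n52619 := d32_1 D54351 (iv D52619) (iv F235309)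
theorem F243246 : act 8 n54351 = n52661 := d42_2 (iv F235310) D54351 (iv D52661)
def n54352 : Q := act 9 n52605
theorem D54352 : act 9 n52605 = n54352 := rfl
theorem F243247 : act 2 n54352 = n52609 := d23_1 D54352 (iv D52609) (iv F235308)
theorem F243248 : act 4 n54352 = n52620 := d34_1 D54352 (iv D52620) (iv F235309)
theorem F243249 : act 6 n54352 = n52606 := d41_1 D54352 (iv D52606) D52605
def n54353 : Q := act 8 n52606
theorem D54353 : act 8 n52606 = n54353 := rfl
theorem F243250 : act 2 n54353 = n52610 := d22_1 D54353 (iv D52610) (iv F235311)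
theorem F243251 : act 4 n54353 = n52621 := d33_1 D54353 (iv D52621) (iv F235312)
theorem F243252 : act 5 n54353 = n52607 := d37_1 D54353 (iv D52607) (iv F235313)
theorem F243253 : act 9 n54353 = n52663 := d44_2 D52606 D54353 (iv D52663) (iv D50666) (iv F226258)
def n54354 : Q := act 3 n52607
theorem D54354 : act 3 n52607 = n54354 := rfl
theorem F243254 : act 9 n54354 = n52664 := d29_2 (iv F235316) D54354 (iv D52664)
def n54355 : Q := act 9 n52608
theorem D54355 : act 9 n52608 = n54355 := rfl
theorem F243255 : act 4 n54355 = n52623 := d34_1 D54355 (iv D52623) (iv F235317)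
theorem F243256 : act 7 n54355 = n52609 := d43_1 D54355 (iv D52609) D52608
def n54356 : Q := act 8 n52609
theorem D54356 : act 8 n52609 = n54356 := rfl
theorem F243257 : act 4 n54356 = n52624 := d33_1 D54356 (iv D52624) (iv F235319)
theorem F243258 : act 6 n54356 = n52610 := d40_1 D54356 (iv D52610) (iv F235320)
theorem F243259 : act 9 n54356 = n52667 := d44_2 D52609 D54356 (iv D52667) (iv D50670) (iv F226265)
def n54357 : Q := act 3 n52610
theorem D54357 : act 3 n52610 = n54357 := rfl
theorem F243260 : act 5 n54357 = n52611 := d25_2 (iv F235322) D54357 (iv D52611)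
theorem F243261 : act 9 n54357 = n52668 := d29_2 (iv F235323) D54357 (iv D52668)
def n54358 : Q := act 2 n52611
theorem D54358 : act 2 n52611 = n54358 := rfl
theorem F243262 : act 9 n54358 = n52669 := d23_2 (iv F235324) D54358 (iv D52669)
def n54359 : Q := act 8 n52612
theorem D54359 : act 8 n52612 = n54359 := rfl
theorem F243263 : act 0 n54359 = n52614 := d7_1 D54359 (iv D52614) (iv F235325)
theorem F243264 : act 3 n54359 = n52737 := d28_1 D54359 (iv D52737) F226882 (iv F226647) (iv F235326)
theorem F243265 : act 6 n54359 = n54359 := d40_1 D54359 (iv D54359) F235327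
theorem F243266 : act 7 n54359 = n52616 := d42_1 D54359 (iv D52616) (iv F235328)
theorem F243267 : act 9 n54359 = n52672 := d44_2 D52612 D54359 (iv D52672) (iv D50674) (iv F226273)
def n54360 : Q := act 8 n52613
theorem D54360 : act 8 n52613 = n54360 := rfl
theorem F243268 : act 1 n54360 = n52615 := d15_1 D54360 (iv D52615) (iv F235329)
theorem F243269 : act 2 n54360 = n52767 := d22_1 D54360 (iv D52767) (iv F235330)
theorem F243270 : act 4 n54360 = n52614 := d33_1 D54360 (iv D52614) (iv F235332)
theorem F243271 : act 6 n54360 = n54360 := d40_1 D54360 (iv D54360) F235333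
theorem F243272 : act 7 n54360 = n52618 := d42_1 D54360 (iv D52618) (iv F235334)
theorem F243273 : act 9 n54360 = n52674 := d44_2 D52613 D54360 (iv D52674) (iv D50676) (iv F226279)
def n54361 : Q := act 3 n52615
theorem D54361 : act 3 n52615 = n54361 := rfl
theorem F243274 : act 6 n54361 = n54361 := d26_2 F235342 D54361 (iv D54361)
theorem F243275 : act 7 n54361 = n52622 := d27_2 (iv F235343) D54361 (iv D52622)
theorem F243276 : act 8 n54361 = n54361 := d28_2 D52615 D54361 (iv D54361) (iv D52615) F226285
theorem F243277 : act 9 n54361 = n52676 := d29_2 (iv F235344) D54361 (iv D52676)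
def n54362 : Q := act 8 n52617
theorem D54362 : act 8 n52617 = n54362 := rfl
theorem F243278 : act 1 n54362 = n52621 := d15_1 D54362 (iv D52621) (iv F235348)
theorem F243279 : act 5 n54362 = n52618 := d37_1 D54362 (iv D52618) (iv F235350)
theorem F243280 : act 9 n54362 = n52683 := d44_2 D52617 D54362 (iv D52683) (iv D50688) (iv F226303)
def n54363 : Q := act 3 n52618
theorem D54363 : act 3 n52618 = n54363 := rfl
theorem F243281 : act 1 n54363 = n52622 := d10_1 D54363 (iv D52622) (iv F235351)
theorem F243282 : act 6 n54363 = n52625 := d26_2 (iv F235353) D54363 (iv D52625)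
theorem F243283 : act 8 n54363 = n54363 := d28_2 D52618 D54363 (iv D54363) (iv D52618) F226305
theorem F243284 : act 9 n54363 = n52684 := d29_2 (iv F235354) D54363 (iv D52684)
def n54364 : Q := act 9 n52619
theorem D54364 : act 9 n52619 = n54364 := rfl
theorem F243285 : act 2 n54364 = n52623 := d23_1 D54364 (iv D52623) (iv F235355)
theorem F243286 : act 3 n54364 = n54364 := d29_1 D54364 (iv D54364) F235356
theorem F243287 : act 5 n54364 = n52626 := d38_1 D54364 (iv D52626) (iv F235357)
theorem F243288 : act 7 n54364 = n52620 := d43_1 D54364 (iv D52620) D52619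
def n54365 : Q := act 8 n52620
theorem D54365 : act 8 n52620 = n54365 := rfl
theorem F243289 : act 2 n54365 = n52624 := d22_1 D54365 (iv D52624) (iv F235359)
theorem F243290 : act 5 n54365 = n52627 := d37_1 D54365 (iv D52627) (iv F235361)
theorem F243291 : act 6 n54365 = n52621 := d40_1 D54365 (iv D52621) (iv F235362)
theorem F243292 : act 9 n54365 = n52686 := d44_2 D52620 D54365 (iv D52686) (iv D50692) (iv F226314)
def n54366 : Q := act 3 n52621
theorem D54366 : act 3 n52621 = n54366 := rfl
theorem F243293 : act 5 n54366 = n52622 := d25_2 (iv F235364) D54366 (iv D52622)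
theorem F243294 : act 8 n54366 = n54366 := d28_2 D52621 D54366 (iv D54366) (iv D52621) F226316
theorem F243295 : act 9 n54366 = n52687 := d29_2 (iv F235365) D54366 (iv D52687)
def n54367 : Q := act 8 n52623
theorem D54367 : act 8 n52623 = n54367 := rfl
theorem F243296 : act 5 n54367 = n52629 := d37_1 D54367 (iv D52629) (iv F235370)
theorem F243297 : act 7 n54367 = n52624 := d42_1 D54367 (iv D52624) (iv F235371)
theorem F243298 : act 9 n54367 = n52690 := d44_2 D52623 D54367 (iv D52690) (iv D50696) (iv F226324)
def n54368 : Q := act 2 n52625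
theorem D54368 : act 2 n52625 = n54368 := rfl
theorem F243299 : act 4 n54368 = n52628 := d18_2 F237264 D54368 (iv F237263)
theorem F243300 : act 7 n54368 = n54368 := d21_2 F235376 D54368 (iv D54368)
theorem F243301 : act 8 n54368 = n54368 := d22_2 F235377 D54368 (iv D54368)
theorem F243302 : act 9 n54368 = n52694 := d23_2 (iv F235378) D54368 (iv D52694)
def n54369 : Q := act 8 n52626
theorem D54369 : act 8 n52626 = n54369 := rfl
theorem F243303 : act 2 n54369 = n52629 := d22_1 D54369 (iv D52629) (iv F235379)
theorem F243304 : act 6 n54369 = n54369 := d40_1 D54369 (iv D54369) F235381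
theorem F243305 : act 7 n54369 = n52627 := d42_1 D54369 (iv D52627) (iv F235382)
theorem F243306 : act 9 n54369 = n52695 := d44_2 D52626 D54369 (iv D52695) (iv D50703) (iv F226340)
def n54370 : Q := act 3 n52627
theorem D54370 : act 3 n52627 = n54370 := rfl
theorem F243307 : act 6 n54370 = n52628 := d26_2 (iv F235384) D54370 (iv D52628)
theorem F243308 : act 8 n54370 = n54370 := d28_2 D52627 D54370 (iv D54370) (iv D52627) F226342
theorem F243309 : act 9 n54370 = n52696 := d29_2 (iv F235385) D54370 (iv D52696)
def n54371 : Q := act 9 n52630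
theorem D54371 : act 9 n52630 = n54371 := rfl
theorem F243310 : act 2 n54371 = n52634 := d23_1 D54371 (iv D52634) (iv F235393)
theorem F243311 : act 4 n54371 = n54371 := d34_1 D54371 (iv D54371) F235394
theorem F243312 : act 5 n54371 = n52631 := d38_1 D54371 (iv D52631) D52630
def n54372 : Q := act 8 n52631
theorem D54372 : act 8 n52631 = n54372 := rfl
theorem F243313 : act 2 n54372 = n52635 := d22_1 D54372 (iv D52635) (iv F235395)
theorem F243314 : act 4 n54372 = n52632 := d33_1 D54372 (iv D52632) (iv F235396)
theorem F243315 : act 6 n54372 = n52641 := d40_1 D54372 (iv D52641) (iv F235397)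
def n54373 : Q := act 9 n52633
theorem D54373 : act 9 n52633 = n54373 := rfl
theorem F243316 : act 4 n54373 = n54373 := d34_1 D54373 (iv D54373) F235401
theorem F243317 : act 5 n54373 = n52644 := d38_1 D54373 (iv D52644) (iv F235402)
theorem F243318 : act 6 n54373 = n52634 := d41_1 D54373 (iv D52634) D52633
def n54374 : Q := act 8 n52634
theorem D54374 : act 8 n52634 = n54374 := rfl
theorem F243319 : act 4 n54374 = n54374 := d33_1 D54374 (iv D54374) F235403
theorem F243320 : act 5 n54374 = n52635 := d37_1 D54374 (iv D52635) (iv F235404)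
def n54375 : Q := act 3 n52635
theorem D54375 : act 3 n52635 = n54375 := rfl
theorem F243321 : act 6 n54375 = n52646 := d26_2 (iv F235406) D54375 (iv D52646)
def n54376 : Q := act 9 n52636
theorem D54376 : act 9 n52636 = n54376 := rfl
theorem F243322 : act 1 n54376 = n52640 := d16_1 D54376 (iv D52640) (iv F235407)
theorem F243323 : act 3 n54376 = n52698 := d29_1 D54376 F235578 (iv F235408)
theorem F243324 : act 4 n54376 = n52673 := d34_1 D54376 (iv D52673) (iv F235409)
theorem F243325 : act 5 n54376 = n52637 := d38_1 D54376 (iv D52637) D52636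
theorem F243326 : act 7 n54376 = n52653 := d43_1 D54376 (iv D52653) (iv F235410)
def n54377 : Q := act 8 n52637
theorem D54377 : act 8 n52637 = n54377 := rfl
theorem F243327 : act 1 n54377 = n52641 := d15_1 D54377 (iv D52641) (iv F235411)
theorem F243328 : act 4 n54377 = n52638 := d33_1 D54377 (iv D52638) (iv F235413)
theorem F243329 : act 7 n54377 = n52654 := d42_1 D54377 (iv D52654) (iv F235414)
def n54378 : Q := act 8 n52639
theorem D54378 : act 8 n52639 = n54378 := rfl
theorem F243330 : act 1 n54378 = n52665 := d15_1 D54378 F235484 (iv F235419)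
theorem F243331 : act 4 n54378 = n52655 := d33_1 D54378 F235466 (iv F235421)
theorem F243332 : act 7 n54378 = n52660 := d42_1 D54378 (iv D52660) (iv F235422)
def n54379 : Q := act 8 n52640
theorem D54379 : act 8 n52640 = n54379 := rfl
theorem F243333 : act 2 n54379 = n52645 := d22_1 D54379 (iv D52645) (iv F235423)
theorem F243334 : act 4 n54379 = n52675 := d33_1 D54379 (iv D52675) (iv F235424)
theorem F243335 : act 5 n54379 = n52641 := d37_1 D54379 (iv D52641) (iv F235425)
theorem F243336 : act 7 n54379 = n52663 := d42_1 D54379 (iv D52663) (iv F235426)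
def n54380 : Q := act 3 n52641
theorem D54380 : act 3 n52641 = n54380 := rfl
theorem F243337 : act 7 n54380 = n52664 := d27_2 (iv F235429) D54380 (iv D52664)
def n54381 : Q := act 4 n52642
theorem D54381 : act 4 n52642 = n54381 := rfl
theorem F243338 : act 1 n54381 = n52660 := d11_1 D54381 F235475 (iv F235430)
theorem F243339 : act 7 n54381 = n52665 := d32_2 (iv F235432) D54381 (iv D52665)
theorem F243340 : act 8 n54381 = n52651 := d33_2 (iv F235433) D54381 F235454
def n54382 : Q := act 9 n52643
theorem D54382 : act 9 n52643 = n54382 := rfl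
theorem F243341 : act 4 n54382 = n52678 := d34_1 D54382 (iv D52678) (iv F235434)
theorem F243342 : act 6 n54382 = n52666 := d41_1 D54382 (iv D52666) (iv F235435)
theorem F243343 : act 7 n54382 = n52644 := d43_1 D54382 (iv D52644) D52643
def n54383 : Q := act 8 n52644
theorem D54383 : act 8 n52644 = n54383 := rfl
theorem F243344 : act 4 n54383 = n52679 := d33_1 D54383 (iv D52679) (iv F235436)
theorem F243345 : act 6 n54383 = n52645 := d40_1 D54383 (iv D52645) (iv F235437)
def n54384 : Q := act 3 n52645
theorem D54384 : act 3 n52645 = n54384 := rfl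
theorem F243346 : act 5 n54384 = n52646 := d25_2 (iv F235439) D54384 (iv D52646)
theorem F243347 : act 7 n54384 = n52668 := d27_2 (iv F235440) D54384 (iv D52668)
def n54385 : Q := act 2 n52646
theorem D54385 : act 2 n52646 = n54385 := rfl
theorem F243348 : act 7 n54385 = n52669 := d21_2 (iv F235441) D54385 (iv D52669)
def n54386 : Q := act 9 n52647
theorem D54386 : act 9 n52647 = n54386 := rfl
theorem F243349 : act 0 n54386 = n52653 := d8_1 D54386 (iv D52653) (iv F235442)
theorem F243350 : act 4 n54386 = n52680 := d34_1 D54386 (iv D52680) (iv F235443)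
theorem F243351 : act 5 n54386 = n52648 := d38_1 D54386 (iv D52648) D52647
def n54387 : Q := act 8 n52648
theorem D54387 : act 8 n52648 = n54387 := rfl
theorem F243352 : act 0 n54387 = n52654 := d7_1 D54387 (iv D52654) (iv F235444)
theorem F243353 : act 4 n54387 = n52649 := d33_1 D54387 (iv D52649) (iv F235445)
def n54388 : Q := act 6 n52650
theorem D54388 : act 6 n52650 = n54388 := rfl
theorem F243354 : act 1 n54388 = n52656 := d13_1 D54388 (iv D52656) (iv F235448)
theorem F243355 : act 3 n54388 = n52652 := d26_1 D54388 (iv D52652) (iv F235449)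
theorem F243356 : act 4 n54388 = n52720 := d31_1 D54388 (iv D52720) (iv F235450)
def n54389 : Q := act 9 n52650
theorem D54389 : act 9 n52650 = n54389 := rfl
theorem F243357 : act 1 n54389 = n52658 := d16_1 D54389 (iv D52658) (iv F235448)
theorem F243358 : act 3 n54389 = n52653 := d29_1 D54389 (iv D52653) (iv F235449)
theorem F243359 : act 4 n54389 = n52699 := d34_1 D54389 F235582 (iv F235450)
theorem F243360 : act 5 n54389 = n52651 := d38_1 D54389 (iv D52651) D52650
theorem F243361 : act 7 n54389 = n52698 := d43_1 D54389 F235578 (iv F235451)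
def n54390 : Q := act 9 n52652
theorem D54390 : act 9 n52652 = n54390 := rfl
theorem F243362 : act 1 n54390 = n52662 := d16_1 D54390 (iv D52662) (iv F235456)
theorem F243363 : act 4 n54390 = n52682 := d34_1 D54390 (iv D52682) (iv F235457)
theorem F243364 : act 6 n54390 = n52653 := d41_1 D54390 (iv D52653) D52652
def n54391 : Q := act 8 n52653
theorem D54391 : act 8 n52653 = n54391 := rfl
theorem F243365 : act 1 n54391 = n52663 := d15_1 D54391 (iv D52663) (iv F235458)
theorem F243366 : act 4 n54391 = n52683 := d33_1 D54391 (iv D52683) (iv F235459)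
theorem F243367 : act 5 n54391 = n52654 := d37_1 D54391 (iv D52654) (iv F235460)
def n54392 : Q := act 3 n52654
theorem D54392 : act 3 n52654 = n54392 := rfl
theorem F243368 : act 1 n54392 = n52664 := d10_1 D54392 (iv D52664) (iv F235461)
def n54393 : Q := act 8 n52656
theorem D54393 : act 8 n52656 = n54393 := rfl
theorem F243369 : act 4 n54393 = n52743 := d33_1 D54393 (iv D52743) (iv F235468)
theorem F243370 : act 6 n54393 = n52657 := d40_1 D54393 (iv D52657) D52656
def n54394 : Q := act 9 n52656
theorem D54394 : act 9 n52656 = n54394 := rfl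
theorem F243371 : act 3 n54394 = n52662 := d29_1 D54394 (iv D52662) (iv F235467)
theorem F243372 : act 4 n54394 = n52744 := d34_1 D54394 (iv D52744) (iv F235468)
theorem F243373 : act 6 n54394 = n52658 := d41_1 D54394 (iv D52658) D52656
def n54395 : Q := act 9 n52657
theorem D54395 : act 9 n52657 = n54395 := rfl
theorem F243374 : act 4 n54395 = n52745 := d34_1 D54395 (iv D52745) (iv F235469)
theorem F243375 : act 5 n54395 = n52659 := d38_1 D54395 (iv D52659) (iv F235470)
def n54396 : Q := act 8 n52658
theorem D54396 : act 8 n52658 = n54396 := rfl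
theorem F243376 : act 4 n54396 = n52746 := d33_1 D54396 (iv D52746) (iv F235472)
theorem F243377 : act 5 n54396 = n52660 := d37_1 D54396 (iv D52660) (iv F235473)
def n54397 : Q := act 8 n52659
theorem D54397 : act 8 n52659 = n54397 := rfl
theorem F243378 : act 4 n54397 = n52697 := d33_1 D54397 (iv D52697) (iv F235474)
theorem F243379 : act 9 n54397 = n52660 := d44_2 D52659 D54397 (iv D52660) (iv D50664) D50663
def n54398 : Q := act 3 n52660
theorem D54398 : act 3 n52660 = n54398 := rfl
theorem F243380 : act 8 n54398 = n52664 := d28_2 D52660 D54398 (iv D52664) (iv D50667) (iv F226408)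
def n54399 : Q := act 9 n52661
theorem D54399 : act 9 n52661 = n54399 := rfl
theorem F243381 : act 2 n54399 = n52666 := d23_1 D54399 (iv D52666) (iv F235476)
theorem F243382 : act 4 n54399 = n52685 := d34_1 D54399 (iv D52685) (iv F235477)
theorem F243383 : act 7 n54399 = n52662 := d43_1 D54399 (iv D52662) D52661
def n54400 : Q := act 8 n52662
theorem D54400 : act 8 n52662 = n54400 := rfl
theorem F243384 : act 2 n54400 = n52667 := d22_1 D54400 (iv D52667) (iv F235478)
theorem F243385 : act 4 n54400 = n52686 := d33_1 D54400 (iv D52686) (iv F235479)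
theorem F243386 : act 6 n54400 = n52663 := d40_1 D54400 (iv D52663) (iv F235480)
def n54401 : Q := act 3 n52663
theorem D54401 : act 3 n52663 = n54401 := rfl
theorem F243387 : act 5 n54401 = n52664 := d25_2 (iv F235483) D54401 (iv D52664)
def n54402 : Q := act 2 n52664
theorem D54402 : act 2 n52664 = n54402 := rfl
theorem F243388 : act 3 n54402 = n52669 := d17_2 D52664 D54402 (iv D52669) (iv D50672) (iv F226415)
def n54403 : Q := act 4 n52664
theorem D54403 : act 4 n52664 = n54403 := rfl
theorem F243389 : act 3 n54403 = n52665 := d24_1 D54403 (iv D52665) (iv D50668) (iv F226416) D52664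
def n54404 : Q := act 5 n52665
theorem D54404 : act 5 n52665 = n54404 := rfl
theorem F243390 : act 4 n54404 = n52689 := d30_1 D54404 (iv D52689) (iv D50695) (iv F226417) D52665
theorem F243391 : act 8 n54404 = n52698 := d37_2 (iv F235484) D54404 (iv D52698)
def n54405 : Q := act 8 n52666
theorem D54405 : act 8 n52666 = n54405 := rfl
theorem F243392 : act 4 n54405 = n52690 := d33_1 D54405 (iv D52690) (iv F235485)
theorem F243393 : act 7 n54405 = n52667 := d42_1 D54405 (iv D52667) (iv F235486)
def n54406 : Q := act 3 n52667
theorem D54406 : act 3 n52667 = n54406 := rfl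
theorem F243394 : act 6 n54406 = n52668 := d26_2 (iv F235488) D54406 (iv D52668)
def n54407 : Q := act 2 n52668
theorem D54407 : act 2 n52668 = n54407 := rfl
theorem F243395 : act 5 n54407 = n52669 := d19_2 (iv F235489) D54407 (iv D52669)
def n54408 : Q := act 1 n52669
theorem D54408 : act 1 n52669 = n54408 := rfl
def n54409 : Q := act 9 n52670
theorem D54409 : act 9 n52670 = n54409 := rfl
theorem F243396 : act 0 n54409 = n52673 := d8_1 D54409 (iv D52673) (iv F235490)
theorem F243397 : act 3 n54409 = n52738 := d29_1 D54409 F235731 (iv F235491)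
theorem F243398 : act 5 n54409 = n52671 := d38_1 D54409 (iv D52671) D52670
theorem F243399 : act 7 n54409 = n52680 := d43_1 D54409 (iv D52680) (iv F235492)
def n54410 : Q := act 8 n52671
theorem D54410 : act 8 n52671 = n54410 := rfl
theorem F243400 : act 0 n54410 = n52674 := d7_1 D54410 (iv D52674) (iv F235493)
theorem F243401 : act 4 n54410 = n52672 := d33_1 D54410 (iv D52672) (iv F235495)
theorem F243402 : act 6 n54410 = n54410 := d40_1 D54410 (iv D54410) F235496
theorem F243403 : act 7 n54410 = n52681 := d42_1 D54410 (iv D52681) (iv F235497)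
def n54411 : Q := act 8 n52673
theorem D54411 : act 8 n52673 = n54411 := rfl
theorem F243404 : act 1 n54411 = n52675 := d15_1 D54411 (iv D52675) (iv F235502)
theorem F243405 : act 5 n54411 = n52674 := d37_1 D54411 (iv D52674) (iv F235504)
theorem F243406 : act 7 n54411 = n52683 := d42_1 D54411 (iv D52683) (iv F235505)
def n54412 : Q := act 3 n52674
theorem D54412 : act 3 n52674 = n54412 := rfl
theorem F243407 : act 1 n54412 = n52676 := d10_1 D54412 (iv D52676) (iv F235506)
theorem F243408 : act 4 n54412 = n52748 := d24_2 (iv F235507) D54412 (iv D52748) F226929 (iv F226441)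
theorem F243409 : act 6 n54412 = n54412 := d26_2 F235508 D54412 (iv D54412)
theorem F243410 : act 7 n54412 = n52684 := d27_2 (iv F235509) D54412 (iv D52684)
theorem F243411 : act 8 n54412 = n52752 := d28_2 D52674 D54412 F235779 F226945 (iv F226436)
def n54413 : Q := act 3 n52675
theorem D54413 : act 3 n52675 = n54413 := rfl
theorem F243412 : act 5 n54413 = n52676 := d25_2 (iv F235511) D54413 (iv D52676)
theorem F243413 : act 7 n54413 = n52687 := d27_2 (iv F235512) D54413 (iv D52687)
theorem F243414 : act 8 n54413 = n52756 := d28_2 D52675 D54413 (iv D52756) (iv D50817) (iv F226445)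
def n54414 : Q := act 4 n52676
theorem D54414 : act 4 n52676 = n54414 := rfl
theorem F243415 : act 1 n54414 = n52748 := d11_1 D54414 (iv F243408) F243407
theorem F243416 : act 3 n54414 = n52677 := d24_1 D54414 (iv D52677) (iv D50680) (iv F226449) D52676
theorem F243417 : act 6 n54414 = n54414 := d31_2 F235513 D54414 (iv D54414)
theorem F243418 : act 7 n54414 = n52688 := d32_2 (iv F235514) D54414 (iv D52688)
theorem F243419 : act 8 n54414 = n52742 := d33_2 (iv F235515) D54414 F235749
def n54415 : Q := act 5 n52677
theorem D54415 : act 5 n52677 = n54415 := rfl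
theorem F243420 : act 1 n54415 = n52746 := d12_1 D54415 F235761 (iv F235516)
theorem F243421 : act 7 n54415 = n52689 := d36_2 (iv F235518) D54415 (iv D52689)
theorem F243422 : act 8 n54415 = n52699 := d37_2 (iv F235519) D54415 (iv D52699)
def n54416 : Q := act 8 n52678
theorem D54416 : act 8 n52678 = n54416 := rfl
theorem F243423 : act 5 n54416 = n54416 := d37_1 D54416 (iv D54416) F235521
theorem F243424 : act 6 n54416 = n52690 := d40_1 D54416 (iv D52690) (iv F235522)
theorem F243425 : act 7 n54416 = n52679 := d42_1 D54416 (iv D52679) (iv F235523)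
def n54417 : Q := act 8 n52680
theorem D54417 : act 8 n52680 = n54417 := rfl
theorem F243426 : act 0 n54417 = n52683 := d7_1 D54417 (iv D52683) (iv F235526)
theorem F243427 : act 5 n54417 = n52681 := d37_1 D54417 (iv D52681) (iv F235528)
def n54418 : Q := act 8 n52682
theorem D54418 : act 8 n52682 = n54418 := rfl
theorem F243428 : act 1 n54418 = n52686 := d15_1 D54418 (iv D52686) (iv F235532)
theorem F243429 : act 5 n54418 = n52692 := d37_1 D54418 (iv D52692) (iv F235534)
theorem F243430 : act 6 n54418 = n52683 := d40_1 D54418 (iv D52683) (iv F235535)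
def n54419 : Q := act 3 n52683
theorem D54419 : act 3 n52683 = n54419 := rfl
theorem F243431 : act 1 n54419 = n52687 := d10_1 D54419 (iv D52687) (iv F235536)
theorem F243432 : act 5 n54419 = n52684 := d25_2 (iv F235537) D54419 (iv D52684)
theorem F243433 : act 8 n54419 = n52759 := d28_2 D52683 D54419 (iv D52759) (iv D50822) (iv F226476)
def n54420 : Q := act 2 n52684
theorem D54420 : act 2 n52684 = n54420 := rfl
theorem F243434 : act 4 n54420 = n52696 := d18_2 F237332 D54420 (iv F237331)
theorem F243435 : act 6 n54420 = n52694 := d20_2 (iv F235539) D54420 (iv D52694)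
theorem F243436 : act 8 n54420 = n52760 := d22_2 (iv F235540) D54420 (iv D52760)
def n54421 : Q := act 8 n52685
theorem D54421 : act 8 n52685 = n54421 := rfl
theorem F243437 : act 2 n54421 = n52690 := d22_1 D54421 (iv D52690) (iv F235541)
theorem F243438 : act 5 n54421 = n52695 := d37_1 D54421 (iv D52695) (iv F235543)
theorem F243439 : act 7 n54421 = n52686 := d42_1 D54421 (iv D52686) (iv F235544)
def n54422 : Q := act 3 n52686
theorem D54422 : act 3 n52686 = n54422 := rfl
theorem F243440 : act 5 n54422 = n52696 := d25_2 (iv F235546) D54422 (iv D52696)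
theorem F243441 : act 6 n54422 = n52687 := d26_2 (iv F235547) D54422 (iv D52687)
theorem F243442 : act 8 n54422 = n52761 := d28_2 D52686 D54422 (iv D52761) (iv D50825) (iv F226489)
def n54423 : Q := act 4 n52687
theorem D54423 : act 4 n52687 = n54423 := rfl
theorem F243443 : act 8 n54423 = n52762 := d33_2 (iv F235549) D54423 (iv D52762)
def n54424 : Q := act 5 n52688
theorem D54424 : act 5 n52688 = n54424 := rfl
theorem F243444 : act 3 n54424 = n52689 := d25_1 D54424 (iv D52689) (iv F235550)
theorem F243445 : act 8 n54424 = n52763 := d37_2 (iv F235552) D54424 (iv D52763)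
def n54425 : Q := act 8 n52691
theorem D54425 : act 8 n52691 = n54425 := rfl
theorem F243446 : act 0 n54425 = n52767 := d7_1 D54425 (iv D52767) (iv F235556)
theorem F243447 : act 1 n54425 = n52695 := d15_1 D54425 (iv D52695) (iv F235557)
theorem F243448 : act 6 n54425 = n54425 := d40_1 D54425 (iv D54425) F235559
theorem F243449 : act 7 n54425 = n52692 := d42_1 D54425 (iv D52692) (iv F235560)
def n54426 : Q := act 3 n52692
theorem D54426 : act 3 n52692 = n54426 := rfl
theorem F243450 : act 1 n54426 = n52696 := d10_1 D54426 (iv D52696) (iv F235561)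
theorem F243451 : act 6 n54426 = n52693 := d26_2 (iv F235562) D54426 (iv D52693)
theorem F243452 : act 8 n54426 = n52765 := d28_2 D52692 D54426 (iv D52765) (iv D50832) (iv F226511)
def n54427 : Q := act 3 n52695
theorem D54427 : act 3 n52695 = n54427 := rfl
theorem F243453 : act 2 n54427 = n52748 := d17_1 D54427 (iv D52748) (iv F228836) F228837 (iv F235570)
theorem F243454 : act 6 n54427 = n54427 := d26_2 F235571 D54427 (iv D54427)
theorem F243455 : act 7 n54427 = n52696 := d27_2 (iv F235572) D54427 (iv D52696)
theorem F243456 : act 8 n54427 = n52751 := d28_2 D52695 D54427 F235774 F226960 (iv F226520)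
def n54428 : Q := act 6 n52699
theorem D54428 : act 6 n52699 = n54428 := rfl
theorem F243457 : act 1 n54428 = n52744 := d13_1 D54428 F235758 (iv F235579)
theorem F243458 : act 3 n54428 = n52740 := d26_1 D54428 F235741 (iv F235580)
theorem F243459 : act 5 n54428 = n54428 := d35_1 D54428 (iv D54428) (iv D52699) F226551 D52699
theorem F243460 : act 9 n54428 = n52720 := d41_2 (iv F235582) D54428 (iv D52720)
def n54429 : Q := act 3 n52700
theorem D54429 : act 3 n52700 = n54429 := rfl
theorem F243461 : act 0 n54429 = n52714 := d2_1 D54429 (iv D52714) (iv F235583)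
theorem F243462 : act 5 n54429 = n52769 := d25_2 (iv F235585) D54429 (iv D52769)
theorem F243463 : act 9 n54429 = n54429 := d29_2 F235586 D54429 (iv D54429)
def n54430 : Q := act 9 n52701
theorem D54430 : act 9 n52701 = n54430 := rfl
theorem F243464 : act 0 n54430 = n52740 := d8_1 D54430 (iv D52740) (iv F235587)
theorem F243465 : act 1 n54430 = n52704 := d16_1 D54430 (iv D52704) (iv F235588)
theorem F243466 : act 2 n54430 = n54430 := d23_1 D54430 (iv D54430) F235589
theorem F243467 : act 4 n54430 = n52702 := d34_1 D54430 (iv D52702) D52701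
theorem F243468 : act 5 n54430 = n54430 := d38_1 D54430 (iv D54430) F235590
theorem F243469 : act 6 n54430 = n52739 := d41_1 D54430 F235736 (iv F235591)
theorem F243470 : act 7 n54430 = n52709 := d43_1 D54430 (iv D52709) (iv F235592)
def n54431 : Q := act 8 n52702
theorem D54431 : act 8 n52702 = n54431 := rfl
theorem F243471 : act 0 n54431 = n52758 := d7_1 D54431 (iv D52758) (iv F235594)
theorem F243472 : act 1 n54431 = n52705 := d15_1 D54431 (iv D52705) (iv F235595)
theorem F243473 : act 2 n54431 = n54431 := d22_1 D54431 (iv D54431) F235596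
theorem F243474 : act 5 n54431 = n52764 := d37_1 D54431 (iv D52764) (iv F235597)
theorem F243475 : act 6 n54431 = n52757 := d40_1 D54431 (iv D52757) (iv F235598)
theorem F243476 : act 7 n54431 = n52710 := d42_1 D54431 (iv D52710) (iv F235599)
theorem F243477 : act 9 n54431 = n54431 := d44_2 D52702 D54431 (iv D54431) (iv D52702) F226574
def n54432 : Q := act 9 n52703
theorem D54432 : act 9 n52703 = n54432 := rfl
theorem F243478 : act 2 n54432 = n52715 := d23_1 D54432 (iv D52715) (iv F235600)
theorem F243479 : act 3 n54432 = n52704 := d29_1 D54432 (iv D52704) D52703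
theorem F243480 : act 5 n54432 = n54432 := d38_1 D54432 (iv D54432) F235601
theorem F243481 : act 7 n54432 = n52712 := d43_1 D54432 (iv D52712) (iv F235602)
def n54433 : Q := act 8 n52704
theorem D54433 : act 8 n52704 = n54433 := rfl
theorem F243482 : act 2 n54433 = n52706 := d22_1 D54433 (iv D52706) (iv F235603)
theorem F243483 : act 4 n54433 = n52705 := d33_1 D54433 (iv D52705) (iv F235604)
theorem F243484 : act 5 n54433 = n54433 := d37_1 D54433 (iv D54433) F235605
theorem F243485 : act 7 n54433 = n52713 := d42_1 D54433 (iv D52713) (iv F235606)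
theorem F243486 : act 9 n54433 = n54433 := d44_2 D52704 D54433 (iv D54433) (iv D52704) F226578
def n54434 : Q := act 8 n52707
theorem D54434 : act 8 n52707 = n54434 := rfl
theorem F243487 : act 0 n54434 = n52710 := d7_1 D54434 (iv D52710) (iv F235616)
theorem F243488 : act 1 n54434 = n52754 := d15_1 D54434 F235791 (iv F235617)
theorem F243489 : act 2 n54434 = n54434 := d22_1 D54434 (iv D54434) F235618
theorem F243490 : act 5 n54434 = n52755 := d37_1 D54434 F235798 (iv F235619)
theorem F243491 : act 7 n54434 = n52758 := d42_1 D54434 (iv D52758) (iv F235620)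
theorem F243492 : act 9 n54434 = n54434 := d44_2 D52707 D54434 (iv D54434) (iv D52707) F226595
def n54435 : Q := act 9 n52708
theorem D54435 : act 9 n52708 = n54435 := rfl
theorem F243493 : act 1 n54435 = n52712 := d16_1 D54435 (iv D52712) (iv F235621)
theorem F243494 : act 3 n54435 = n52709 := d29_1 D54435 (iv D52709) D52708
theorem F243495 : act 5 n54435 = n54435 := d38_1 D54435 (iv D54435) F235622
def n54436 : Q := act 8 n52709
theorem D54436 : act 8 n52709 = n54436 := rfl
theorem F243496 : act 1 n54436 = n52713 := d15_1 D54436 (iv D52713) (iv F235623)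
theorem F243497 : act 2 n54436 = n54436 := d22_1 D54436 (iv D54436) F235624
theorem F243498 : act 4 n54436 = n52710 := d33_1 D54436 (iv D52710) (iv F235625)
theorem F243499 : act 5 n54436 = n54436 := d37_1 D54436 (iv D54436) F235626
theorem F243500 : act 9 n54436 = n54436 := d44_2 D52709 D54436 (iv D54436) (iv D52709) F226599
def n54437 : Q := act 3 n52710
theorem D54437 : act 3 n52710 = n54437 := rfl
theorem F243501 : act 1 n54437 = n52714 := d10_1 D54437 (iv D52714) (iv F235627)
theorem F243502 : act 5 n54437 = n52770 := d25_2 (iv F235629) D54437 (iv D52770)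
theorem F243503 : act 9 n54437 = n54437 := d29_2 F235630 D54437 (iv D54437)
def n54438 : Q := act 9 n52711
theorem D54438 : act 9 n52711 = n54438 := rfl
theorem F243504 : act 2 n54438 = n52718 := d23_1 D54438 (iv D52718) (iv F235631)
theorem F243505 : act 3 n54438 = n54438 := d29_1 D54438 (iv D54438) F235632
theorem F243506 : act 5 n54438 = n54438 := d38_1 D54438 (iv D54438) F235633
def n54439 : Q := act 8 n52712
theorem D54439 : act 8 n52712 = n54439 := rfl
theorem F243507 : act 2 n54439 = n52719 := d22_1 D54439 (iv D52719) (iv F235634)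
theorem F243508 : act 5 n54439 = n54439 := d37_1 D54439 (iv D54439) F235636
def n54440 : Q := act 3 n52713
theorem D54440 : act 3 n52713 = n54440 := rfl
theorem F243509 : act 5 n54440 = n54440 := d25_2 F235639 D54440 (iv D54440)
theorem F243510 : act 9 n54440 = n54440 := d29_2 F235640 D54440 (iv D54440)
def n54441 : Q := act 4 n52714
theorem D54441 : act 4 n52714 = n54441 := rfl
theorem F243511 : act 9 n54441 = n54441 := d34_2 F235642 D54441 (iv D54441)
def n54442 : Q := act 8 n52715
theorem D54442 : act 8 n52715 = n54442 := rfl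
theorem F243512 : act 5 n54442 = n54442 := d37_1 D54442 (iv D54442) F235644
theorem F243513 : act 7 n54442 = n52719 := d42_1 D54442 (iv D52719) (iv F235645)
def n54443 : Q := act 9 n52716
theorem D54443 : act 9 n52716 = n54443 := rfl
theorem F243514 : act 2 n54443 = n52717 := d23_1 D54443 (iv D52717) D52716
theorem F243515 : act 3 n54443 = n54443 := d29_1 D54443 (iv D54443) F235646
theorem F243516 : act 5 n54443 = n54443 := d38_1 D54443 (iv D54443) F235647
def n54444 : Q := act 8 n52717
theorem D54444 : act 8 n52717 = n54444 := rfl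
theorem F243517 : act 1 n54444 = n52719 := d15_1 D54444 (iv D52719) (iv F235648)
theorem F243518 : act 5 n54444 = n54444 := d37_1 D54444 (iv D54444) F235650
def n54445 : Q := act 8 n52718
theorem D54445 : act 8 n52718 = n54445 := rfl
theorem F243519 : act 5 n54445 = n54445 := d37_1 D54445 (iv D54445) F235652
theorem F243520 : act 9 n54445 = n52719 := d44_2 D52718 D54445 (iv D52719) (iv D50740) D50739
def n54446 : Q := act 3 n52722
theorem D54446 : act 3 n52722 = n54446 := rfl
theorem F243521 : act 1 n54446 = n52725 := d10_1 D54446 (iv D52725) (iv F235660)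
theorem F243522 : act 6 n54446 = n54446 := d26_2 F235661 D54446 (iv D54446)
theorem F243523 : act 8 n54446 = n52723 := d28_2 D52722 D54446 (iv D52723) (iv D50765) (iv F226746)
def n54447 : Q := act 3 n52724
theorem D54447 : act 3 n52724 = n54447 := rfl
theorem F243524 : act 6 n54447 = n54447 := d26_2 F235666 D54447 (iv D54447)
theorem F243525 : act 8 n54447 = n54447 := d28_2 D52724 D54447 (iv D54447) (iv D52724) F226754
theorem F243526 : act 9 n54447 = n52725 := d29_2 (iv F235667) D54447 (iv D52725)
def n54448 : Q := act 5 n52733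
theorem D54448 : act 5 n52733 = n54448 := rfl
theorem F243527 : act 0 n54448 = n52753 := d4_1 D54448 (iv D52753) (iv F235706)
theorem F243528 : act 2 n54448 = n54448 := d19_1 D54448 (iv D54448) F235707
theorem F243529 : act 4 n54448 = n52735 := d30_1 D54448 (iv D52735) (iv D50792) (iv F226843) D52733
theorem F243530 : act 7 n54448 = n52757 := d36_2 (iv F235709) D54448 F235805
theorem F243531 : act 8 n54448 = n52738 := d37_2 (iv F235710) D54448 (iv D52738)
theorem F243532 : act 9 n54448 = n54448 := d38_2 F235711 D54448 (iv D54448)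
def n54449 : Q := act 5 n52734
theorem D54449 : act 5 n52734 = n54449 := rfl
theorem F243533 : act 0 n54449 = n52741 := d4_1 D54449 F235745 (iv F235712)
theorem F243534 : act 2 n54449 = n54449 := d19_1 D54449 (iv D54449) F235713
theorem F243535 : act 4 n54449 = n52757 := d30_1 D54449 F235805 F226984 (iv F226860) D52734
theorem F243536 : act 7 n54449 = n52735 := d36_2 (iv F235715) D54449 (iv D52735)
theorem F243537 : act 8 n54449 = n52739 := d37_2 (iv F235716) D54449 (iv D52739)
theorem F243538 : act 9 n54449 = n54449 := d38_2 F235717 D54449 (iv D54449)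
def n54450 : Q := act 8 n52740
theorem D54450 : act 8 n52740 = n54450 := rfl
theorem F243539 : act 1 n54450 = n52749 := d15_1 D54450 (iv D52749) (iv F235737)
theorem F243540 : act 2 n54450 = n54450 := d22_1 D54450 (iv D54450) F235738
theorem F243541 : act 4 n54450 = n52758 := d33_1 D54450 (iv D52758) (iv F235739)
theorem F243542 : act 5 n54450 = n54450 := d37_1 D54450 (iv D54450) F235740
theorem F243543 : act 6 n54450 = n52741 := d40_1 D54450 (iv D52741) (iv F235741)
theorem F243544 : act 9 n54450 = n54450 := d44_2 D52740 D54450 (iv D54450) (iv D52740) F226908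
def n54451 : Q := act 3 n52741
theorem D54451 : act 3 n52741 = n54451 := rfl
theorem F243545 : act 1 n54451 = n52750 := d10_1 D54451 (iv D52750) (iv F235742)
theorem F243546 : act 5 n54451 = n52742 := d25_2 (iv F235745) D54451 (iv D52742)
theorem F243547 : act 7 n54451 = n52763 := d27_2 (iv F235746) D54451 F235823
theorem F243548 : act 9 n54451 = n54451 := d29_2 F235747 D54451 (iv D54451)
def n54452 : Q := act 9 n52743
theorem D54452 : act 9 n52743 = n54452 := rfl
theorem F243549 : act 3 n54452 = n54452 := d29_1 D54452 (iv D54452) F235753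
theorem F243550 : act 5 n54452 = n54452 := d38_1 D54452 (iv D54452) F235754
theorem F243551 : act 6 n54452 = n52745 := d41_1 D54452 (iv D52745) (iv F235755)
def n54453 : Q := act 8 n52744
theorem D54453 : act 8 n52744 = n54453 := rfl
theorem F243552 : act 5 n54453 = n54453 := d37_1 D54453 (iv D54453) F235757
theorem F243553 : act 6 n54453 = n52746 := d40_1 D54453 (iv D52746) (iv F235758)
def n54454 : Q := act 8 n52745
theorem D54454 : act 8 n52745 = n54454 := rfl
theorem F243554 : act 5 n54454 = n52747 := d37_1 D54454 (iv D52747) (iv F235760)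
theorem F243555 : act 9 n54454 = n52746 := d44_2 D52745 D54454 (iv D52746) (iv D50805) D50804
def n54455 : Q := act 3 n52746
theorem D54455 : act 3 n52746 = n54455 := rfl
theorem F243556 : act 5 n54455 = n52748 := d25_2 (iv F235761) D54455 (iv D52748)
theorem F243557 : act 8 n54455 = n52750 := d28_2 D52746 D54455 (iv D52750) (iv D50809) (iv F226924)
def n54456 : Q := act 3 n52747
theorem D54456 : act 3 n52747 = n54456 := rfl
theorem F243558 : act 6 n54456 = n54456 := d26_2 F235763 D54456 (iv D54456)
theorem F243559 : act 8 n54456 = n54456 := d28_2 D52747 D54456 (iv D54456) (iv D52747) F226926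
theorem F243560 : act 9 n54456 = n52748 := d29_2 (iv F235764) D54456 (iv D52748)
def n54457 : Q := act 3 n52749
theorem D54457 : act 3 n52749 = n54457 := rfl
theorem F243561 : act 5 n54457 = n54457 := d25_2 F235769 D54457 (iv D54457)
theorem F243562 : act 6 n54457 = n52750 := d26_2 (iv F235770) D54457 (iv D52750)
theorem F243563 : act 9 n54457 = n54457 := d29_2 F235771 D54457 (iv D54457)
def n54458 : Q := act 2 n52750
theorem D54458 : act 2 n52750 = n54458 := rfl
theorem F243564 : act 3 n54458 = n52754 := d17_2 D52750 D54458 (iv D52754) (iv D50813) (iv F226935)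
theorem F243565 : act 5 n54458 = n52751 := d19_2 (iv F235772) D54458 (iv D52751)
theorem F243566 : act 7 n54458 = n52761 := d21_2 F237417 D54458 (iv F237414)
theorem F243567 : act 9 n54458 = n54458 := d23_2 F235773 D54458 (iv D54458)
def n54459 : Q := act 4 n52750
theorem D54459 : act 4 n52750 = n54459 := rfl
theorem F243568 : act 3 n54459 = n52762 := d24_1 D54459 (iv D52762) (iv D50826) (iv F226936) D52750
theorem F243569 : act 9 n54459 = n54459 := d34_2 F235773 D54459 (iv D54459)
def n54460 : Q := act 1 n52751
theorem D54460 : act 1 n52751 = n54460 := rfl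
theorem F243570 : act 0 n54460 = n52770 := d0_1 D54460 F235845 (iv F235842) (iv F236982) F236981
theorem F243571 : act 3 n54460 = n52755 := d10_2 (iv F235774) D54460 (iv D52755)
theorem F243572 : act 6 n54460 = n54460 := d13_2 F235775 D54460 (iv D54460)
theorem F243573 : act 7 n54460 = n52765 := d14_2 (iv F235776) D54460 F235832
theorem F243574 : act 9 n54460 = n54460 := d16_2 F235777 D54460 (iv D54460)
def n54461 : Q := act 4 n52751
theorem D54461 : act 4 n52751 = n54461 := rfl
theorem F243575 : act 2 n54461 = n52752 := d18_1 D54461 (iv D52752) D52751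
theorem F243576 : act 3 n54461 = n54461 := d24_1 D54461 (iv D54461) F235774 F226957 (iv F235774)
theorem F243577 : act 6 n54461 = n54461 := d31_2 F235775 D54461 (iv D54461)
theorem F243578 : act 7 n54461 = n52760 := d32_2 (iv F235776) D54461 F235816
theorem F243579 : act 9 n54461 = n54461 := d34_2 F235777 D54461 (iv D54461)
def n54462 : Q := act 5 n52752
theorem D54462 : act 5 n52752 = n54462 := rfl
theorem F243580 : act 1 n54462 = n52756 := d12_1 D54462 F235800 (iv F235778)
theorem F243581 : act 3 n54462 = n52753 := d25_1 D54462 (iv D52753) (iv F235779)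
theorem F243582 : act 7 n54462 = n52759 := d36_2 (iv F235781) D54462 F235813
theorem F243583 : act 9 n54462 = n54462 := d38_2 F235782 D54462 (iv D54462)
def n54463 : Q := act 4 n52756
theorem D54463 : act 4 n52756 = n54463 := rfl
theorem F243584 : act 7 n54463 = n52762 := d32_2 (iv F235801) D54463 (iv D52762)
theorem F243585 : act 9 n54463 = n54463 := d34_2 F235802 D54463 (iv D54463)
def n54464 : Q := act 3 n52758
theorem D54464 : act 3 n52758 = n54464 := rfl
theorem F243586 : act 1 n54464 = n52761 := d10_1 D54464 (iv D52761) (iv F235807)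
theorem F243587 : act 5 n54464 = n52765 := d25_2 (iv F235809) D54464 (iv D52765)
theorem F243588 : act 6 n54464 = n52759 := d26_2 (iv F235810) D54464 (iv D52759)
theorem F243589 : act 9 n54464 = n54464 := d29_2 F235811 D54464 (iv D54464)
def n54465 : Q := act 2 n52759
theorem D54465 : act 2 n52759 = n54465 := rfl
theorem F243590 : act 3 n54465 = n54465 := d17_2 D52759 D54465 (iv D54465) (iv D52759) F226992
theorem F243591 : act 5 n54465 = n52760 := d19_2 (iv F235813) D54465 (iv D52760)
theorem F243592 : act 9 n54465 = n54465 := d23_2 F235814 D54465 (iv D54465)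
def n54466 : Q := act 4 n52759
theorem D54466 : act 4 n52759 = n54466 := rfl
theorem F243593 : act 1 n54466 = n52762 := d11_1 D54466 (iv D52762) (iv F235812)
theorem F243594 : act 9 n54466 = n54466 := d34_2 F235814 D54466 (iv D54466)
def n54467 : Q := act 4 n52761
theorem D54467 : act 4 n52761 = n54467 := rfl
theorem F243595 : act 6 n54467 = n52762 := d31_2 (iv F235820) D54467 (iv D52762)
theorem F243596 : act 9 n54467 = n54467 := d34_2 F235821 D54467 (iv D54467)
def n54468 : Q := act 5 n52762
theorem D54468 : act 5 n52762 = n54468 := rfl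
theorem F243597 : act 4 n54468 = n52763 := d30_1 D54468 (iv D52763) (iv D50827) (iv F227005) D52762
theorem F243598 : act 9 n54468 = n54468 := d38_2 F235822 D54468 (iv D54468)
def n54469 : Q := act 3 n52766
theorem D54469 : act 3 n52766 = n54469 := rfl
theorem F243599 : act 0 n54469 = n52768 := d2_1 D54469 (iv D52768) (iv F235835)
theorem F243600 : act 6 n54469 = n54469 := d26_2 F235837 D54469 (iv D54469)
theorem F243601 : act 8 n54469 = n52769 := d28_2 D52766 D54469 (iv D52769) (iv D50844) (iv F227052)
def n54470 : Q := act 3 n52767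
theorem D54470 : act 3 n52767 = n54470 := rfl
theorem F243602 : act 1 n54470 = n52768 := d10_1 D54470 (iv D52768) (iv F235838)
theorem F243603 : act 6 n54470 = n54470 := d26_2 F235839 D54470 (iv D54470)
theorem F243604 : act 8 n54470 = n52770 := d28_2 D52767 D54470 (iv D52770) (iv D50846) (iv F227057)
def n54471 : Q := act 2 n52770
theorem D54471 : act 2 n52770 = n54471 := rfl
theorem F243605 : act 3 n54471 = n54471 := d17_2 D52770 D54471 (iv D54471) (iv D52770) F227078
theorem F243606 : act 6 n54471 = n54471 := d20_2 F235846 D54471 (iv D54471)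
theorem F243607 : act 9 n54471 = n54471 := d23_2 F235847 D54471 (iv D54471)
def n54472 : Q := act 8 n52772
theorem D54472 : act 8 n52772 = n54472 := rfl
theorem F243608 : act 0 n54472 = n53144 := d7_1 D54472 F238122 (iv F235857)
theorem F243609 : act 1 n54472 = n54472 := d15_1 D54472 (iv D54472) F235858
theorem F243610 : act 2 n54472 = n53116 := d22_1 D54472 (iv D53116) (iv F235859)
theorem F243611 : act 3 n54472 = n53143 := d28_1 D54472 (iv D53143) F229535 (iv F232404) (iv F235860)
theorem F243612 : act 4 n54472 = n53319 := d33_1 D54472 (iv D53319) (iv F235861)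
theorem F243613 : act 5 n54472 = n52774 := d37_1 D54472 (iv D52774) (iv F235862)
theorem F243614 : act 6 n54472 = n53398 := d40_1 D54472 (iv D53398) (iv F235863)
theorem F243615 : act 7 n54472 = n52773 := d42_1 D54472 (iv D52773) (iv F235864)
theorem F243616 : act 9 n54472 = n54472 := d44_2 D52772 D54472 (iv D54472) (iv D52772) F227197
def n54473 : Q := act 8 n52780
theorem D54473 : act 8 n52780 = n54473 := rfl
theorem F243617 : act 0 n54473 = n53204 := d7_1 D54473 (iv D53204) (iv F235926)
theorem F243618 : act 1 n54473 = n53162 := d15_1 D54473 (iv D53162) (iv F235927)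
theorem F243619 : act 2 n54473 = n53216 := d22_1 D54473 (iv D53216) (iv F235928)
theorem F243620 : act 4 n54473 = n52781 := d33_1 D54473 (iv D52781) (iv F235930)
theorem F243621 : act 5 n54473 = n53183 := d37_1 D54473 (iv D53183) (iv F235931)
theorem F243622 : act 6 n54473 = n53213 := d40_1 D54473 (iv D53213) (iv F235932)
theorem F243623 : act 7 n54473 = n52801 := d42_1 D54473 (iv D52801) (iv F235933)
theorem F243624 : act 9 n54473 = n52786 := d44_2 D52780 D54473 (iv D52786) (iv D50884) (iv F227334)
def n54474 : Q := act 8 n52782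
theorem D54474 : act 8 n52782 = n54474 := rfl
theorem F243625 : act 0 n54474 = n53216 := d7_1 D54474 (iv D53216) (iv F235942)
theorem F243626 : act 1 n54474 = n53154 := d15_1 D54474 (iv D53154) (iv F235943)
theorem F243627 : act 2 n54474 = n53204 := d22_1 D54474 (iv D53204) (iv F235944)
theorem F243628 : act 3 n54474 = n54126 := d28_1 D54474 F242615 F234522 F227390 (iv F235945)
theorem F243629 : act 4 n54474 = n52783 := d33_1 D54474 (iv D52783) (iv F235946)
theorem F243630 : act 5 n54474 = n53202 := d37_1 D54474 (iv D53202) (iv F235947)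
theorem F243631 : act 6 n54474 = n52786 := d40_1 D54474 (iv D52786) (iv F235948)
theorem F243632 : act 7 n54474 = n53253 := d42_1 D54474 (iv D53253) (iv F235949)
theorem F243633 : act 9 n54474 = n53213 := d44_2 D52782 D54474 (iv D53213) (iv D51353) (iv F227349)
def n54475 : Q := act 8 n52784
theorem D54475 : act 8 n52784 = n54475 := rfl
theorem F243634 : act 0 n54475 = n53213 := d7_1 D54475 (iv D53213) (iv F235958)
theorem F243635 : act 1 n54475 = n53206 := d15_1 D54475 (iv D53206) (iv F235959)
theorem F243636 : act 2 n54475 = n52786 := d22_1 D54475 (iv D52786) (iv F235960)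
theorem F243637 : act 4 n54475 = n52785 := d33_1 D54475 (iv D52785) (iv F235962)
theorem F243638 : act 5 n54475 = n53190 := d37_1 D54475 (iv D53190) (iv F235963)
theorem F243639 : act 6 n54475 = n53204 := d40_1 D54475 (iv D53204) (iv F235964)
theorem F243640 : act 7 n54475 = n52823 := d42_1 D54475 (iv D52823) (iv F235965)
theorem F243641 : act 9 n54475 = n53216 := d44_2 D52784 D54475 (iv D53216) (iv D51356) (iv F227364)
theorem F243642 : act 3 n54128 = n54475 := d29_3 F243641 F238544 (iv F242622)
def n54476 : Q := act 3 n52786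
theorem D54476 : act 3 n52786 = n54476 := rfl
theorem F243643 : act 0 n54476 = n53217 := d2_1 D54476 (iv D53217) (iv F235974)
theorem F243644 : act 1 n54476 = n53168 := d10_1 D54476 (iv D53168) (iv F235975)
theorem F243645 : act 4 n54476 = n52793 := d24_2 (iv F235976) D54476 (iv D52793) F227488 (iv F227380)
theorem F243646 : act 5 n54476 = n53192 := d25_2 (iv F235977) D54476 (iv D53192)
theorem F243647 : act 6 n54476 = n54126 := d26_2 F243631 D54476 (iv F243628)
theorem F243648 : act 7 n54476 = n52824 := d27_2 (iv F235978) D54476 (iv D52824)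
theorem F243649 : act 8 n54476 = n52787 := d28_2 D52786 D54476 (iv D52787) (iv D50887) (iv F227374)
def n54477 : Q := act 2 n52787
theorem D54477 : act 2 n52787 = n54477 := rfl
theorem F243650 : act 0 n54477 = n53219 := d1_1 D54477 (iv D53219) (iv F235979)
theorem F243651 : act 1 n54477 = n54124 := d9_1 D54477 F242605 F238300 (iv D53170) (iv F235980)
theorem F243652 : act 3 n54477 = n54477 := d17_2 D52787 D54477 (iv D54477) (iv D52787) F227393
theorem F243653 : act 4 n54477 = n52795 := d18_2 (iv F235981) D54477 (iv D52795)
theorem F243654 : act 5 n54477 = n53194 := d19_2 (iv F235982) D54477 (iv D53194)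
theorem F243655 : act 6 n54477 = n54120 := d20_2 (iv F235983) D54477 F242592
theorem F243656 : act 7 n54477 = n52828 := d21_2 (iv F235984) D54477 (iv D52828)
theorem F243657 : act 9 n54477 = n54477 := d23_2 F235985 D54477 (iv D54477)
def n54478 : Q := act 3 n52790
theorem D54478 : act 3 n52790 = n54478 := rfl
theorem F243658 : act 0 n54478 = n53874 := d2_1 D54478 (iv D53874) (iv F236004)
theorem F243659 : act 1 n54478 = n53205 := d10_1 D54478 (iv D53205) (iv F236005)
theorem F243660 : act 2 n54478 = n54122 := d17_1 D54478 (iv D54122) F234502 (iv F233272) (iv F236006)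
theorem F243661 : act 5 n54478 = n54130 := d25_2 (iv F236008) D54478 (iv D54130)
theorem F243662 : act 6 n54478 = n54125 := d26_2 (iv F236009) D54478 (iv D54125)
theorem F243663 : act 7 n54478 = n52852 := d27_2 (iv F236010) D54478 (iv D52852)
theorem F243664 : act 8 n54478 = n54478 := d28_2 D52790 D54478 (iv D54478) (iv D52790) F227444
theorem F243665 : act 9 n54478 = n52793 := d29_2 (iv F236011) D54478 (iv D52793)
def n54479 : Q := act 8 n52791
theorem D54479 : act 8 n52791 = n54479 := rfl
theorem F243666 : act 0 n54479 = n53165 := d7_1 D54479 (iv D53165) (iv F236012)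
theorem F243667 : act 1 n54479 = n53216 := d15_1 D54479 (iv D53216) (iv F236013)
theorem F243668 : act 2 n54479 = n53184 := d22_1 D54479 (iv D53184) (iv F236014)
theorem F243669 : act 3 n54479 = n54133 := d28_1 D54479 F242636 F234565 F227498 (iv F236015)
theorem F243670 : act 4 n54479 = n53197 := d33_1 D54479 (iv D53197) (iv F236016)
theorem F243671 : act 5 n54479 = n53186 := d37_1 D54479 (iv D53186) (iv F236017)
theorem F243672 : act 6 n54479 = n52792 := d40_1 D54479 (iv D52792) (iv F236018)
theorem F243673 : act 7 n54479 = n53300 := d42_1 D54479 (iv D53300) (iv F236019)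
theorem F243674 : act 9 n54479 = n53206 := d44_2 D52791 D54479 (iv D53206) (iv D51344) (iv F227476)
def n54480 : Q := act 3 n52792
theorem D54480 : act 3 n52792 = n54480 := rfl
theorem F243675 : act 0 n54480 = n54129 := d2_1 D54480 (iv D54129) (iv F236020)
theorem F243676 : act 1 n54480 = n53217 := d10_1 D54480 (iv D53217) (iv F236021)
theorem F243677 : act 2 n54480 = n54132 := d17_1 D54480 (iv D54132) (iv F238318) F238319 (iv F236022)
theorem F243678 : act 4 n54480 = n54131 := d24_2 (iv F236023) D54480 (iv D54131) (iv F235990) F235989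
theorem F243679 : act 5 n54480 = n52793 := d25_2 (iv F236024) D54480 (iv D52793)
theorem F243680 : act 6 n54480 = n54133 := d26_2 F243672 D54480 (iv F243669)
theorem F243681 : act 7 n54480 = n52868 := d27_2 (iv F236025) D54480 (iv D52868)
theorem F243682 : act 8 n54480 = n52794 := d28_2 D52792 D54480 (iv D52794) (iv D50901) (iv F227481)
theorem F243683 : act 9 n54480 = n54130 := d29_2 (iv F236026) D54480 (iv D54130)
def n54481 : Q := act 2 n52793
theorem D54481 : act 2 n52793 = n54481 := rfl
theorem F243684 : act 0 n54481 = n53212 := d1_1 D54481 F238531 (iv F236027)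
theorem F243685 : act 3 n54481 = n53210 := d17_2 D52793 D54481 F238517 F234480 (iv F227487)
theorem F243686 : act 5 n54481 = n54132 := d19_2 F243679 D54481 (iv F243677)
theorem F243687 : act 6 n54481 = n54118 := d20_2 (iv F236029) D54481 F242583
theorem F243688 : act 7 n54481 = n52869 := d21_2 (iv F236030) D54481 (iv D52869)
theorem F243689 : act 8 n54481 = n52795 := d22_2 (iv F236031) D54481 (iv D52795)
theorem F243690 : act 9 n54481 = n54122 := d23_2 F243665 D54481 (iv F243660)
def n54482 : Q := act 1 n52795
theorem D54482 : act 1 n52795 = n54482 := rfl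
theorem F243691 : act 0 n54482 = n53195 := d0_1 D54482 F238441 F230061 (iv F230200) (iv F236040)
theorem F243692 : act 2 n54482 = n53220 := d9_2 D52795 D54482 (iv D53220) (iv D51361) (iv F227508)
theorem F243693 : act 3 n54482 = n53193 := d10_2 (iv F236041) D54482 F238427
theorem F243694 : act 4 n54482 = n54124 := d11_2 F243653 D54482 (iv F243651)
theorem F243695 : act 5 n54482 = n53172 := d12_2 (iv F236042) D54482 F238310
theorem F243696 : act 6 n54482 = n54119 := d13_2 (iv F236043) D54482 F242587
theorem F243697 : act 7 n54482 = n52875 := d14_2 (iv F236044) D54482 (iv D52875)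
theorem F243698 : act 9 n54482 = n54482 := d16_2 F236045 D54482 (iv D54482)
def n54483 : Q := act 5 n52796
theorem D54483 : act 5 n52796 = n54483 := rfl
theorem F243699 : act 0 n54483 = n53428 := d4_1 D54483 F239610 (iv F236046)
theorem F243700 : act 1 n54483 = n53268 := d12_1 D54483 (iv D53268) (iv F236047)
theorem F243701 : act 2 n54483 = n53469 := d19_1 D54483 F239768 (iv F236048)
theorem F243702 : act 3 n54483 = n53952 := d25_1 D54483 (iv D53952) (iv F236049)
theorem F243703 : act 4 n54483 = n52798 := d30_1 D54483 (iv D52798) (iv D50905) (iv F227515) D52796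
theorem F243704 : act 6 n54483 = n53346 := d35_2 (iv F236050) D54483 (iv D53346) F230908 (iv F233316)
theorem F243705 : act 7 n54483 = n53465 := d36_2 (iv F236051) D54483 F239756
theorem F243706 : act 8 n54483 = n52806 := d37_2 (iv F236052) D54483 (iv D52806)
def n54484 : Q := act 9 n52796
theorem D54484 : act 9 n52796 = n54484 := rfl
theorem F243707 : act 0 n54484 = n53885 := d8_1 D54484 (iv D53885) (iv F236046)
theorem F243708 : act 1 n54484 = n53269 := d16_1 D54484 (iv D53269) (iv F236047)
theorem F243709 : act 2 n54484 = n54222 := d23_1 D54484 (iv D54222) (iv F236048)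
theorem F243710 : act 3 n54484 = n53953 := d29_1 D54484 (iv D53953) (iv F236049)
theorem F243711 : act 4 n54484 = n52797 := d34_1 D54484 (iv D52797) D52796
theorem F243712 : act 6 n54484 = n53875 := d41_1 D54484 (iv D53875) (iv F236050)
theorem F243713 : act 7 n54484 = n54218 := d43_1 D54484 (iv D54218) (iv F236051)
def n54485 : Q := act 8 n52797
theorem D54485 : act 8 n52797 = n54485 := rfl
theorem F243714 : act 0 n54485 = n53886 := d7_1 D54485 (iv D53886) (iv F236053)
theorem F243715 : act 1 n54485 = n53270 := d15_1 D54485 (iv D53270) (iv F236054)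
theorem F243716 : act 2 n54485 = n54232 := d22_1 D54485 F242915 (iv F236055)
theorem F243717 : act 3 n54485 = n52845 := d28_1 D54485 (iv D52845) F227903 (iv F227526) (iv F236056)
theorem F243718 : act 5 n54485 = n52800 := d37_1 D54485 (iv D52800) (iv F236057)
theorem F243719 : act 6 n54485 = n53876 := d40_1 D54485 (iv D53876) (iv F236058)
theorem F243720 : act 7 n54485 = n54231 := d42_1 D54485 (iv D54231) (iv F236059)
theorem F243721 : act 9 n54485 = n52808 := d44_2 D52797 D54485 (iv D52808) (iv D50915) (iv F227518)
def n54486 : Q := act 9 n52798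
theorem D54486 : act 9 n52798 = n54486 := rfl
theorem F243722 : act 0 n54486 = n53438 := d8_1 D54486 (iv D53438) (iv F236060)
theorem F243723 : act 1 n54486 = n53275 := d16_1 D54486 (iv D53275) (iv F236061)
theorem F243724 : act 2 n54486 = n53486 := d23_1 D54486 (iv D53486) (iv F236062)
theorem F243725 : act 3 n54486 = n54486 := d29_1 D54486 (iv D54486) F236063
theorem F243726 : act 5 n54486 = n52799 := d38_1 D54486 (iv D52799) D52798
theorem F243727 : act 6 n54486 = n53355 := d41_1 D54486 (iv D53355) (iv F236064)
theorem F243728 : act 7 n54486 = n53482 := d43_1 D54486 (iv D53482) (iv F236065)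
def n54487 : Q := act 8 n52799
theorem D54487 : act 8 n52799 = n54487 := rfl
theorem F243729 : act 0 n54487 = n53444 := d7_1 D54487 (iv D53444) (iv F236067)
theorem F243730 : act 1 n54487 = n53276 := d15_1 D54487 (iv D53276) (iv F236068)
theorem F243731 : act 2 n54487 = n53497 := d22_1 D54487 (iv D53497) (iv F236069)
theorem F243732 : act 4 n54487 = n52800 := d33_1 D54487 (iv D52800) (iv F236071)
theorem F243733 : act 6 n54487 = n52801 := d40_1 D54487 (iv D52801) (iv F236072)
theorem F243734 : act 7 n54487 = n53492 := d42_1 D54487 (iv D53492) (iv F236073)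
theorem F243735 : act 9 n54487 = n52819 := d44_2 D52799 D54487 (iv D52819) (iv D50922) (iv F227533)
def n54488 : Q := act 3 n52801
theorem D54488 : act 3 n52801 = n54488 := rfl
theorem F243736 : act 0 n54488 = n53445 := d2_1 D54488 (iv D53445) (iv F236081)
theorem F243737 : act 1 n54488 = n53282 := d10_1 D54488 (iv D53282) (iv F236082)
theorem F243738 : act 2 n54488 = n54168 := d17_1 D54488 F242748 F234704 (iv F234920) (iv F236083)
theorem F243739 : act 4 n54488 = n52852 := d24_2 (iv F236084) D54488 (iv D52852) F227947 (iv F227567)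
theorem F243740 : act 5 n54488 = n53360 := d25_2 (iv F236085) D54488 (iv D53360)
theorem F243741 : act 8 n54488 = n54488 := d28_2 D52801 D54488 (iv D54488) (iv D52801) F227561
theorem F243742 : act 9 n54488 = n52824 := d29_2 (iv F236086) D54488 (iv D52824)
def n54489 : Q := act 5 n52802
theorem D54489 : act 5 n52802 = n54489 := rfl
theorem F243743 : act 0 n54489 = n53469 := d4_1 D54489 F239768 (iv F236087)
theorem F243744 : act 1 n54489 = n53244 := d12_1 D54489 F238715 (iv F236088)
theorem F243745 : act 2 n54489 = n53428 := d19_1 D54489 F239610 (iv F236089)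
theorem F243746 : act 3 n54489 = n52904 := d25_1 D54489 (iv D52904) (iv F236090)
theorem F243747 : act 4 n54489 = n52809 := d30_1 D54489 (iv D52809) (iv D50916) (iv F227573) D52802
theorem F243748 : act 6 n54489 = n53425 := d35_2 (iv F236091) D54489 (iv D53425) F231242 (iv F233420)
theorem F243749 : act 7 n54489 = n52806 := d36_2 (iv F236092) D54489 (iv D52806)
theorem F243750 : act 8 n54489 = n53465 := d37_2 (iv F236093) D54489 F239756
def n54490 : Q := act 9 n52802
theorem D54490 : act 9 n52802 = n54490 := rfl
theorem F243751 : act 0 n54490 = n54222 := d8_1 D54490 (iv D54222) (iv F236087)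
theorem F243752 : act 1 n54490 = n53285 := d16_1 D54490 (iv D53285) (iv F236088)
theorem F243753 : act 2 n54490 = n53885 := d23_1 D54490 (iv D53885) (iv F236089)
theorem F243754 : act 3 n54490 = n52905 := d29_1 D54490 (iv D52905) (iv F236090)
theorem F243755 : act 4 n54490 = n52803 := d34_1 D54490 (iv D52803) D52802
theorem F243756 : act 6 n54490 = n53887 := d41_1 D54490 (iv D53887) (iv F236091)
theorem F243757 : act 7 n54490 = n52807 := d43_1 D54490 (iv D52807) (iv F236092)
def n54491 : Q := act 8 n52803
theorem D54491 : act 8 n52803 = n54491 := rfl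
theorem F243758 : act 0 n54491 = n54232 := d7_1 D54491 F242915 (iv F236094)
theorem F243759 : act 1 n54491 = n53286 := d15_1 D54491 (iv D53286) (iv F236095)
theorem F243760 : act 2 n54491 = n53886 := d22_1 D54491 (iv D53886) (iv F236096)
theorem F243761 : act 3 n54491 = n52854 := d28_1 D54491 (iv D52854) F227958 (iv F227584) (iv F236097)
theorem F243762 : act 5 n54491 = n52811 := d37_1 D54491 (iv D52811) (iv F236098)
theorem F243763 : act 6 n54491 = n53888 := d40_1 D54491 (iv D53888) (iv F236099)
theorem F243764 : act 7 n54491 = n52808 := d42_1 D54491 (iv D52808) (iv F236100)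
theorem F243765 : act 9 n54491 = n54231 := d44_2 D52803 D54491 (iv D54231) (iv D52458) (iv F227576)
def n54492 : Q := act 5 n52804
theorem D54492 : act 5 n52804 = n54492 := rfl
theorem F243766 : act 0 n54492 = n53465 := d4_1 D54492 F239756 (iv F236101)
theorem F243767 : act 1 n54492 = n53447 := d12_1 D54492 (iv D53447) (iv F236102)
theorem F243768 : act 2 n54492 = n52806 := d19_1 D54492 (iv D52806) (iv F236103)
theorem F243769 : act 3 n54492 = n53058 := d25_1 D54492 (iv D53058) (iv F236104)
theorem F243770 : act 4 n54492 = n52815 := d30_1 D54492 (iv D52815) (iv D50919) (iv F227587) D52804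
theorem F243771 : act 6 n54492 = n53371 := d35_2 (iv F236105) D54492 (iv D53371) F230995 (iv F227953)
theorem F243772 : act 7 n54492 = n53428 := d36_2 (iv F236106) D54492 F239610
theorem F243773 : act 8 n54492 = n53469 := d37_2 (iv F236107) D54492 F239768
def n54493 : Q := act 9 n52804
theorem D54493 : act 9 n52804 = n54493 := rfl
theorem F243774 : act 0 n54493 = n54218 := d8_1 D54493 (iv D54218) (iv F236101)
theorem F243775 : act 1 n54493 = n53448 := d16_1 D54493 (iv D53448) (iv F236102)
theorem F243776 : act 2 n54493 = n52807 := d23_1 D54493 (iv D52807) (iv F236103)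
theorem F243777 : act 3 n54493 = n53059 := d29_1 D54493 (iv D53059) (iv F236104)
theorem F243778 : act 4 n54493 = n52805 := d34_1 D54493 (iv D52805) D52804
theorem F243779 : act 6 n54493 = n52853 := d41_1 D54493 (iv D52853) (iv F236105)
theorem F243780 : act 7 n54493 = n53885 := d43_1 D54493 (iv D53885) (iv F236106)
def n54494 : Q := act 8 n52805
theorem D54494 : act 8 n52805 = n54494 := rfl
theorem F243781 : act 0 n54494 = n54231 := d7_1 D54494 (iv D54231) (iv F236108)
theorem F243782 : act 1 n54494 = n53449 := d15_1 D54494 (iv D53449) (iv F236109)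
theorem F243783 : act 2 n54494 = n52808 := d22_1 D54494 (iv D52808) (iv F236110)
theorem F243784 : act 3 n54494 = n53888 := d28_1 D54494 (iv D53888) F233424 (iv F227716) (iv F236111)
theorem F243785 : act 5 n54494 = n52817 := d37_1 D54494 (iv D52817) (iv F236112)
theorem F243786 : act 6 n54494 = n52854 := d40_1 D54494 (iv D52854) (iv F236113)
theorem F243787 : act 7 n54494 = n53886 := d42_1 D54494 (iv D53886) (iv F236114)
theorem F243788 : act 9 n54494 = n54232 := d44_2 D52805 D54494 F242915 (iv D52462) (iv F227590)
def n54495 : Q := act 9 n52806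
theorem D54495 : act 9 n52806 = n54495 := rfl
theorem F243789 : act 0 n54495 = n53470 := d8_1 D54495 (iv D53470) (iv F236115)
theorem F243790 : act 1 n54495 = n53293 := d16_1 D54495 (iv D53293) (iv F236116)
theorem F243791 : act 3 n54495 = n52913 := d29_1 D54495 (iv D52913) (iv F236117)
theorem F243792 : act 4 n54495 = n52818 := d34_1 D54495 (iv D52818) (iv F236118)
theorem F243793 : act 5 n54495 = n52807 := d38_1 D54495 (iv D52807) D52806
theorem F243794 : act 6 n54495 = n53374 := d41_1 D54495 (iv D53374) (iv F236119)
def n54496 : Q := act 8 n52807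
theorem D54496 : act 8 n52807 = n54496 := rfl
theorem F243795 : act 0 n54496 = n54223 := d7_1 D54496 (iv D54223) (iv F236120)
theorem F243796 : act 1 n54496 = n53294 := d15_1 D54496 (iv D53294) (iv F236121)
theorem F243797 : act 4 n54496 = n52808 := d33_1 D54496 (iv D52808) (iv F236123)
theorem F243798 : act 6 n54496 = n53877 := d40_1 D54496 (iv D53877) (iv F236124)
def n54497 : Q := act 9 n52809
theorem D54497 : act 9 n52809 = n54497 := rfl
theorem F243799 : act 0 n54497 = n53486 := d8_1 D54497 (iv D53486) (iv F236130)
theorem F243800 : act 1 n54497 = n53245 := d16_1 D54497 (iv D53245) (iv F236131)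
theorem F243801 : act 2 n54497 = n53438 := d23_1 D54497 (iv D53438) (iv F236132)
theorem F243802 : act 3 n54497 = n52825 := d29_1 D54497 (iv D52825) (iv F236133)
theorem F243803 : act 5 n54497 = n52810 := d38_1 D54497 (iv D52810) D52809
theorem F243804 : act 6 n54497 = n53435 := d41_1 D54497 (iv D53435) (iv F236134)
theorem F243805 : act 7 n54497 = n52818 := d43_1 D54497 (iv D52818) (iv F236135)
def n54498 : Q := act 8 n52810
theorem D54498 : act 8 n52810 = n54498 := rfl
theorem F243806 : act 0 n54498 = n53497 := d7_1 D54498 (iv D53497) (iv F236137)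
theorem F243807 : act 1 n54498 = n53250 := d15_1 D54498 (iv D53250) (iv F236138)
theorem F243808 : act 2 n54498 = n53444 := d22_1 D54498 (iv D53444) (iv F236139)
theorem F243809 : act 3 n54498 = n54188 := d28_1 D54498 F242808 F234788 F227690 (iv F236140)
theorem F243810 : act 4 n54498 = n52811 := d33_1 D54498 (iv D52811) (iv F236141)
theorem F243811 : act 6 n54498 = n53253 := d40_1 D54498 (iv D53253) (iv F236142)
theorem F243812 : act 7 n54498 = n52819 := d42_1 D54498 (iv D52819) (iv F236143)
theorem F243813 : act 9 n54498 = n53492 := d44_2 D52810 D54498 (iv D53492) (iv D51636) (iv F227607)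
def n54499 : Q := act 9 n52812
theorem D54499 : act 9 n52812 = n54499 := rfl
theorem F243814 : act 0 n54499 = n52814 := d8_1 D54499 (iv D52814) D52812
theorem F243815 : act 1 n54499 = n53233 := d16_1 D54499 (iv D53233) (iv F236151)
theorem F243816 : act 2 n54499 = n52866 := d23_1 D54499 (iv D52866) (iv F236152)
theorem F243817 : act 3 n54499 = n52829 := d29_1 D54499 (iv D52829) (iv F236153)
theorem F243818 : act 4 n54499 = n53272 := d34_1 D54499 (iv D53272) F236158
theorem F243819 : act 5 n54499 = n53362 := d38_1 D54499 (iv D53362) (iv F236154)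
theorem F243820 : act 6 n54499 = n52820 := d41_1 D54499 (iv D52820) (iv F236155)
theorem F243821 : act 7 n54499 = n52864 := d43_1 D54499 (iv D52864) (iv F236156)
def n54500 : Q := act 5 n52813
theorem D54500 : act 5 n52813 = n54500 := rfl
theorem F243822 : act 0 n54500 = n53265 := d4_1 D54500 F238836 (iv F236159)
theorem F243823 : act 1 n54500 = n52815 := d12_1 D54500 (iv D52815) (iv F236160)
theorem F243824 : act 2 n54500 = n53222 := d19_1 D54500 F238578 (iv F236161)
theorem F243825 : act 3 n54500 = n54500 := d25_1 D54500 (iv D54500) F236162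
theorem F243826 : act 4 n54500 = n53447 := d30_1 D54500 (iv D53447) (iv D51599) (iv F227616) D52813
theorem F243827 : act 6 n54500 = n53340 := d35_2 (iv F236163) D54500 F239204 F230918 (iv F227655)
theorem F243828 : act 7 n54500 = n52847 := d36_2 (iv F236164) D54500 F236400
theorem F243829 : act 8 n54500 = n52860 := d37_2 (iv F236165) D54500 F236482
def n54501 : Q := act 9 n52813
theorem D54501 : act 9 n52813 = n54501 := rfl
theorem F243830 : act 0 n54501 = n53272 := d8_1 D54501 (iv D53272) (iv F236159)
theorem F243831 : act 1 n54501 = n52816 := d16_1 D54501 (iv D52816) (iv F236160)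
theorem F243832 : act 2 n54501 = n53226 := d23_1 D54501 (iv D53226) (iv F236161)
theorem F243833 : act 3 n54501 = n54501 := d29_1 D54501 (iv D54501) F236162
theorem F243834 : act 4 n54501 = n52814 := d34_1 D54501 (iv D52814) D52813
theorem F243835 : act 6 n54501 = n52821 := d41_1 D54501 (iv D52821) (iv F236163)
theorem F243836 : act 7 n54501 = n52850 := d43_1 D54501 (iv D52850) (iv F236164)
def n54502 : Q := act 8 n52814
theorem D54502 : act 8 n52814 = n54502 := rfl
theorem F243837 : act 1 n54502 = n52817 := d15_1 D54502 (iv D52817) (iv F236166)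
theorem F243838 : act 2 n54502 = n53295 := d22_1 D54502 (iv D53295) (iv F236167)
theorem F243839 : act 3 n54502 = n53901 := d28_1 D54502 (iv D53901) F233471 (iv F227730) (iv F236168)
theorem F243840 : act 5 n54502 = n53449 := d37_1 D54502 (iv D53449) (iv F236169)
theorem F243841 : act 6 n54502 = n52822 := d40_1 D54502 (iv D52822) (iv F236170)
theorem F243842 : act 7 n54502 = n53884 := d42_1 D54502 (iv D53884) (iv F236171)
theorem F243843 : act 9 n54502 = n53911 := d44_2 D52814 D54502 (iv D53911) (iv D52092) (iv F227619)
def n54503 : Q := act 9 n52815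
theorem D54503 : act 9 n52815 = n54503 := rfl
theorem F243844 : act 0 n54503 = n53482 := d8_1 D54503 (iv D53482) (iv F236172)
theorem F243845 : act 2 n54503 = n52818 := d23_1 D54503 (iv D52818) (iv F236173)
theorem F243846 : act 3 n54503 = n54503 := d29_1 D54503 (iv D54503) F236174
theorem F243847 : act 5 n54503 = n52816 := d38_1 D54503 (iv D52816) D52815
theorem F243848 : act 6 n54503 = n53381 := d41_1 D54503 (iv D53381) (iv F236175)
theorem F243849 : act 7 n54503 = n53438 := d43_1 D54503 (iv D53438) (iv F236176)
def n54504 : Q := act 8 n52816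
theorem D54504 : act 8 n52816 = n54504 := rfl
theorem F243850 : act 0 n54504 = n53492 := d7_1 D54504 (iv D53492) (iv F236178)
theorem F243851 : act 2 n54504 = n52819 := d22_1 D54504 (iv D52819) (iv F236179)
theorem F243852 : act 4 n54504 = n52817 := d33_1 D54504 (iv D52817) (iv F236181)
theorem F243853 : act 6 n54504 = n52823 := d40_1 D54504 (iv D52823) (iv F236182)
theorem F243854 : act 7 n54504 = n53444 := d42_1 D54504 (iv D53444) (iv F236183)
theorem F243855 : act 9 n54504 = n53497 := d44_2 D52816 D54504 (iv D53497) (iv D51640) (iv F227625)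
theorem F243856 : act 3 n54199 = n54504 := d29_3 F243855 F239865 (iv F242836)
def n54505 : Q := act 8 n52818
theorem D54505 : act 8 n52818 = n54505 := rfl
theorem F243857 : act 0 n54505 = n53487 := d7_1 D54505 (iv D53487) (iv F236190)
theorem F243858 : act 1 n54505 = n53298 := d15_1 D54505 (iv D53298) (iv F236191)
theorem F243859 : act 5 n54505 = n52819 := d37_1 D54505 (iv D52819) (iv F236193)
theorem F243860 : act 6 n54505 = n53384 := d40_1 D54505 (iv D53384) (iv F236194)
def n54506 : Q := act 3 n52819
theorem D54506 : act 3 n52819 = n54506 := rfl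
theorem F243861 : act 0 n54506 = n53498 := d2_1 D54506 (iv D53498) (iv F236195)
theorem F243862 : act 1 n54506 = n53299 := d10_1 D54506 (iv D53299) (iv F236196)
theorem F243863 : act 4 n54506 = n52863 := d24_2 (iv F236197) D54506 (iv D52863) F228017 (iv F227642)
theorem F243864 : act 6 n54506 = n52824 := d26_2 (iv F236198) D54506 (iv D52824)
theorem F243865 : act 7 n54506 = n54188 := d27_2 F243812 D54506 (iv F243809)
theorem F243866 : act 8 n54506 = n52827 := d28_2 D52819 D54506 (iv D52827) (iv D50933) (iv F227637)
def n54507 : Q := act 8 n52820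
theorem D54507 : act 8 n52820 = n54507 := rfl
theorem F243867 : act 0 n54507 = n52822 := d7_1 D54507 (iv D52822) (iv F236199)
theorem F243868 : act 1 n54507 = n53278 := d15_1 D54507 (iv D53278) (iv F236200)
theorem F243869 : act 2 n54507 = n53300 := d22_1 D54507 (iv D53300) (iv F236201)
theorem F243870 : act 3 n54507 = n53304 := d28_1 D54507 (iv D53304) (iv F236274) (iv D52830) (iv F236202)
theorem F243871 : act 4 n54507 = n53277 := d33_1 D54507 (iv D53277) (iv F236203)
theorem F243872 : act 5 n54507 = n53185 := d37_1 D54507 (iv D53185) (iv F236204)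
theorem F243873 : act 7 n54507 = n53184 := d42_1 D54507 (iv D53184) (iv F236205)
theorem F243874 : act 9 n54507 = n53301 := d44_2 D52820 D54507 (iv D53301) (iv D51451) (iv F227649)
def n54508 : Q := act 8 n52821
theorem D54508 : act 8 n52821 = n54508 := rfl
theorem F243875 : act 0 n54508 = n53277 := d7_1 D54508 (iv D53277) (iv F236206)
theorem F243876 : act 1 n54508 = n52823 := d15_1 D54508 (iv D52823) (iv F236207)
theorem F243877 : act 2 n54508 = n53301 := d22_1 D54508 (iv D53301) (iv F236208)
theorem F243878 : act 4 n54508 = n52822 := d33_1 D54508 (iv D52822) (iv F236210)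
theorem F243879 : act 5 n54508 = n53387 := d37_1 D54508 (iv D53387) (iv F236211)
theorem F243880 : act 7 n54508 = n53206 := d42_1 D54508 (iv D53206) (iv F236212)
theorem F243881 : act 9 n54508 = n53300 := d44_2 D52821 D54508 (iv D53300) (iv D51450) (iv F227657)
theorem F243882 : act 3 n54200 = n54508 := d29_3 F243881 F238979 (iv F242839)
def n54509 : Q := act 2 n52824
theorem D54509 : act 2 n52824 = n54509 := rfl
theorem F243883 : act 0 n54509 = n53491 := d1_1 D54509 F239847 (iv F236225)
theorem F243884 : act 1 n54509 = n54169 := d9_1 D54509 F242750 F239023 (iv D53308) (iv F236226)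
theorem F243885 : act 3 n54509 = n54154 := d17_2 D52824 D54509 F242712 F236224 F236220
theorem F243886 : act 4 n54509 = n52869 := d18_2 (iv F236227) D54509 (iv D52869)
theorem F243887 : act 5 n54509 = n53391 := d19_2 (iv F236228) D54509 (iv D53391)
theorem F243888 : act 8 n54509 = n52828 := d22_2 (iv F236229) D54509 (iv D52828)
theorem F243889 : act 9 n54509 = n54168 := d23_2 F243742 D54509 (iv F243738)
def n54510 : Q := act 3 n52826
theorem D54510 : act 3 n52826 = n54510 := rfl
theorem F243890 : act 0 n54510 = n53500 := d2_1 D54510 (iv D53500) (iv F236238)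
theorem F243891 : act 1 n54510 = n53310 := d10_1 D54510 (iv D53310) (iv F236239)
theorem F243892 : act 5 n54510 = n52827 := d25_2 (iv F236242) D54510 (iv D52827)
theorem F243893 : act 6 n54510 = n53394 := d26_2 (iv F236243) D54510 (iv D53394)
theorem F243894 : act 7 n54510 = n54190 := d27_2 (iv F236244) D54510 F242812
theorem F243895 : act 9 n54510 = n54510 := d29_2 F236245 D54510 (iv D54510)
def n54511 : Q := act 2 n52827
theorem D54511 : act 2 n52827 = n54511 := rfl
theorem F243896 : act 0 n54511 = n53504 := d1_1 D54511 (iv D53504) (iv F236246)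
theorem F243897 : act 1 n54511 = n54175 := d9_1 D54511 F242765 F239040 (iv D53311) (iv F236247)
theorem F243898 : act 3 n54511 = n54511 := d17_2 D52827 D54511 (iv D54511) (iv D52827) F227699
theorem F243899 : act 4 n54511 = n52873 := d18_2 (iv F236248) D54511 (iv D52873)
theorem F243900 : act 6 n54511 = n52828 := d20_2 (iv F236249) D54511 (iv D52828)
theorem F243901 : act 7 n54511 = n54147 := d21_2 (iv F236250) D54511 F242693
theorem F243902 : act 9 n54511 = n54511 := d23_2 F236251 D54511 (iv D54511)
def n54512 : Q := act 9 n52831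
theorem D54512 : act 9 n52831 = n54512 := rfl
theorem F243903 : act 0 n54512 = n53328 := d8_1 D54512 (iv D53328) (iv F236275)
theorem F243904 : act 1 n54512 = n52836 := d16_1 D54512 (iv D52836) (iv F236276)
theorem F243905 : act 2 n54512 = n54191 := d23_1 D54512 (iv D54191) (iv F236277)
theorem F243906 : act 3 n54512 = n52964 := d29_1 D54512 (iv D52964) (iv F236278)
theorem F243907 : act 4 n54512 = n52832 := d34_1 D54512 (iv D52832) D52831
theorem F243908 : act 5 n54512 = n54205 := d38_1 D54512 (iv D54205) (iv F236279)
theorem F243909 : act 6 n54512 = n53878 := d41_1 D54512 (iv D53878) (iv F236280)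
theorem F243910 : act 7 n54512 = n54213 := d43_1 D54512 (iv D54213) (iv F236281)
def n54513 : Q := act 8 n52832
theorem D54513 : act 8 n52832 = n54513 := rfl
theorem F243911 : act 0 n54513 = n53329 := d7_1 D54513 (iv D53329) (iv F236283)
theorem F243912 : act 1 n54513 = n52837 := d15_1 D54513 (iv D52837) (iv F236284)
theorem F243913 : act 2 n54513 = n54192 := d22_1 D54513 (iv D54192) (iv F236285)
theorem F243914 : act 3 n54513 = n53907 := d28_1 D54513 (iv D53907) F233511 (iv F227775) (iv F236286)
theorem F243915 : act 5 n54513 = n52833 := d37_1 D54513 (iv D52833) (iv F236287)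
theorem F243916 : act 6 n54513 = n53879 := d40_1 D54513 (iv D53879) (iv F236288)
theorem F243917 : act 7 n54513 = n54228 := d42_1 D54513 (iv D54228) (iv F236289)
theorem F243918 : act 9 n54513 = n53892 := d44_2 D52832 D54513 (iv D53892) (iv D52069) (iv F227766)
def n54514 : Q := act 3 n52834
theorem D54514 : act 3 n52834 = n54514 := rfl
theorem F243919 : act 0 n54514 = n53307 := d2_1 D54514 (iv D53307) (iv F236298)
theorem F243920 : act 1 n54514 = n52840 := d10_1 D54514 (iv D52840) (iv F236299)
theorem F243921 : act 2 n54514 = n53302 := d17_1 D54514 (iv D53302) (iv F236214) F236215 (iv F236300)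
theorem F243922 : act 4 n54514 = n52868 := d24_2 (iv F236301) D54514 (iv D52868) F228061 (iv F227794)
theorem F243923 : act 5 n54514 = n53255 := d25_2 (iv F236302) D54514 (iv D53255)
theorem F243924 : act 6 n54514 = n54226 := d26_2 (iv F236303) D54514 (iv D54226)
theorem F243925 : act 7 n54514 = n54131 := d27_2 (iv F236304) D54514 (iv D54131)
theorem F243926 : act 8 n54514 = n52835 := d28_2 D52834 D54514 (iv D52835) (iv D50947) (iv F227786)
theorem F243927 : act 9 n54514 = n53908 := d29_2 (iv F236305) D54514 (iv D53908)
def n54515 : Q := act 8 n52836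
theorem D54515 : act 8 n52836 = n54515 := rfl
theorem F243928 : act 0 n54515 = n52859 := d7_1 D54515 (iv D52859) (iv F236314)
theorem F243929 : act 2 n54515 = n53883 := d22_1 D54515 (iv D53883) (iv F236315)
theorem F243930 : act 4 n54515 = n52837 := d33_1 D54515 (iv D52837) (iv F236317)
theorem F243931 : act 5 n54515 = n54207 := d37_1 D54515 (iv D54207) (iv F236318)
theorem F243932 : act 6 n54515 = n53881 := d40_1 D54515 (iv D53881) (iv F236319)
theorem F243933 : act 7 n54515 = n54219 := d42_1 D54515 (iv D54219) (iv F236320)
theorem F243934 : act 9 n54515 = n53897 := d44_2 D52836 D54515 (iv D53897) (iv D52072) (iv F227811)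
def n54516 : Q := act 8 n52838
theorem D54516 : act 8 n52838 = n54516 := rfl
theorem F243935 : act 0 n54516 = n52867 := d7_1 D54516 (iv D52867) (iv F236328)
theorem F243936 : act 1 n54516 = n53252 := d15_1 D54516 (iv D53252) (iv F236329)
theorem F243937 : act 2 n54516 = n53884 := d22_1 D54516 (iv D53884) (iv F236330)
theorem F243938 : act 3 n54516 = n54229 := d28_1 D54516 F242906 F234964 F227853 (iv F236331)
theorem F243939 : act 4 n54516 = n53227 := d33_1 D54516 (iv D53227) (iv F236332)
theorem F243940 : act 5 n54516 = n54202 := d37_1 D54516 (iv D54202) (iv F236333)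
theorem F243941 : act 6 n54516 = n52839 := d40_1 D54516 (iv D52839) (iv F236334)
theorem F243942 : act 7 n54516 = n53295 := d42_1 D54516 (iv D53295) (iv F236335)
theorem F243943 : act 9 n54516 = n53909 := d44_2 D52838 D54516 (iv D53909) (iv D52089) (iv F227832)
def n54517 : Q := act 9 n52841
theorem D54517 : act 9 n52841 = n54517 := rfl
theorem F243944 : act 0 n54517 = n53887 := d8_1 D54517 (iv D53887) (iv F236352)
theorem F243945 : act 1 n54517 = n53420 := d16_1 D54517 (iv D53420) (iv F236353)
theorem F243946 : act 2 n54517 = n53875 := d23_1 D54517 (iv D53875) (iv F236354)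
theorem F243947 : act 3 n54517 = n54382 := d29_1 D54517 (iv D54382) (iv F236355)
theorem F243948 : act 4 n54517 = n52842 := d34_1 D54517 (iv D52842) D52841
theorem F243949 : act 5 n54517 = n54177 := d38_1 D54517 (iv D54177) (iv F236356)
theorem F243950 : act 6 n54517 = n54222 := d41_1 D54517 (iv D54222) (iv F236357)
theorem F243951 : act 7 n54517 = n52844 := d43_1 D54517 (iv D52844) (iv F236358)
def n54518 : Q := act 8 n52842
theorem D54518 : act 8 n52842 = n54518 := rfl
theorem F243952 : act 0 n54518 = n53888 := d7_1 D54518 (iv D53888) (iv F236360)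
theorem F243953 : act 1 n54518 = n53421 := d15_1 D54518 (iv D53421) (iv F236361)
theorem F243954 : act 2 n54518 = n53876 := d22_1 D54518 (iv D53876) (iv F236362)
theorem F243955 : act 3 n54518 = n54231 := d28_1 D54518 (iv D54231) F234892 (iv F227893) (iv F236363)
theorem F243956 : act 5 n54518 = n52846 := d37_1 D54518 (iv D52846) (iv F236364)
theorem F243957 : act 6 n54518 = n54232 := d40_1 D54518 F242915 (iv F236365)
theorem F243958 : act 7 n54518 = n52845 := d42_1 D54518 (iv D52845) (iv F236366)
theorem F243959 : act 9 n54518 = n52854 := d44_2 D52842 D54518 (iv D52854) (iv D50970) (iv F227885)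
def n54519 : Q := act 9 n52843
theorem D54519 : act 9 n52843 = n54519 := rfl
theorem F243960 : act 0 n54519 = n53896 := d8_1 D54519 (iv D53896) (iv F236367)
theorem F243961 : act 1 n54519 = n53429 := d16_1 D54519 (iv D53429) (iv F236368)
theorem F243962 : act 2 n54519 = n53880 := d23_1 D54519 (iv D53880) (iv F236369)
theorem F243963 : act 3 n54519 = n54373 := d29_1 D54519 (iv D54373) (iv F236370)
theorem F243964 : act 4 n54519 = n52848 := d34_1 D54519 (iv D52848) (iv F236371)
theorem F243965 : act 5 n54519 = n52844 := d38_1 D54519 (iv D52844) D52843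
theorem F243966 : act 6 n54519 = n54203 := d41_1 D54519 (iv D54203) (iv F236372)
theorem F243967 : act 7 n54519 = n54177 := d43_1 D54519 (iv D54177) (iv F236373)
def n54520 : Q := act 8 n52844
theorem D54520 : act 8 n52844 = n54520 := rfl
theorem F243968 : act 0 n54520 = n53897 := d7_1 D54520 (iv D53897) (iv F236375)
theorem F243969 : act 1 n54520 = n53430 := d15_1 D54520 (iv D53430) (iv F236376)
theorem F243970 : act 2 n54520 = n53881 := d22_1 D54520 (iv D53881) (iv F236377)
theorem F243971 : act 4 n54520 = n52845 := d33_1 D54520 (iv D52845) (iv F236379)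
theorem F243972 : act 6 n54520 = n53883 := d40_1 D54520 (iv D53883) (iv F236380)
theorem F243973 : act 9 n54520 = n52859 := d44_2 D52844 D54520 (iv D52859) (iv D50974) (iv F227899)
def n54521 : Q := act 9 n52847
theorem D54521 : act 9 n52847 = n54521 := rfl
theorem F243974 : act 0 n54521 = n53904 := d8_1 D54521 (iv D53904) (iv F236395)
theorem F243975 : act 1 n54521 = n53438 := d16_1 D54521 (iv D53438) (iv F236396)
theorem F243976 : act 2 n54521 = n53225 := d23_1 D54521 (iv D53225) (iv F236397)
theorem F243977 : act 3 n54521 = n54521 := d29_1 D54521 (iv D54521) F236398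
theorem F243978 : act 4 n54521 = n54203 := d34_1 D54521 (iv D54203) (iv F236399)
theorem F243979 : act 5 n54521 = n52850 := d38_1 D54521 (iv D52850) (iv F236400)
theorem F243980 : act 6 n54521 = n52848 := d41_1 D54521 (iv D52848) D52847
def n54522 : Q := act 8 n52848
theorem D54522 : act 8 n52848 = n54522 := rfl
theorem F243981 : act 0 n54522 = n53905 := d7_1 D54522 (iv D53905) (iv F236402)
theorem F243982 : act 1 n54522 = n53439 := d15_1 D54522 (iv D53439) (iv F236403)
theorem F243983 : act 2 n54522 = n53882 := d22_1 D54522 (iv D53882) (iv F236404)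
theorem F243984 : act 5 n54522 = n52849 := d37_1 D54522 (iv D52849) (iv F236406)
theorem F243985 : act 7 n54522 = n54178 := d42_1 D54522 (iv D54178) (iv F236407)
theorem F243986 : act 9 n54522 = n52862 := d44_2 D52848 D54522 (iv D52862) (iv D50979) (iv F227918)
def n54523 : Q := act 3 n52849
theorem D54523 : act 3 n52849 = n54523 := rfl
theorem F243987 : act 0 n54523 = n53906 := d2_1 D54523 (iv D53906) (iv F236408)
theorem F243988 : act 1 n54523 = n53440 := d10_1 D54523 (iv D53440) (iv F236409)
theorem F243989 : act 2 n54523 = n54165 := d17_1 D54523 (iv D54165) F234689 (iv F233388) (iv F236410)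
theorem F243990 : act 6 n54523 = n52852 := d26_2 (iv F236412) D54523 (iv D52852)
theorem F243991 : act 7 n54523 = n54180 := d27_2 (iv F236413) D54523 (iv D54180)
theorem F243992 : act 8 n54523 = n54523 := d28_2 D52849 D54523 (iv D54523) (iv D52849) F227922
theorem F243993 : act 9 n54523 = n52863 := d29_2 (iv F236414) D54523 (iv D52863)
def n54524 : Q := act 8 n52850
theorem D54524 : act 8 n52850 = n54524 := rfl
theorem F243994 : act 0 n54524 = n53909 := d7_1 D54524 (iv D53909) (iv F236415)
theorem F243995 : act 1 n54524 = n53444 := d15_1 D54524 (iv D53444) (iv F236416)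
theorem F243996 : act 2 n54524 = n53227 := d22_1 D54524 (iv D53227) (iv F236417)
theorem F243997 : act 4 n54524 = n53884 := d33_1 D54524 (iv D53884) (iv F236419)
theorem F243998 : act 6 n54524 = n52851 := d40_1 D54524 (iv D52851) (iv F236420)
theorem F243999 : act 9 n54524 = n52867 := d44_2 D52850 D54524 (iv D52867) (iv D50986) (iv F227936)
def n54525 : Q := act 3 n52851
theorem D54525 : act 3 n52851 = n54525 := rfl
theorem F244000 : act 0 n54525 = n53910 := d2_1 D54525 (iv D53910) (iv F236421)
theorem F244001 : act 1 n54525 = n53445 := d10_1 D54525 (iv D53445) (iv F236422)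
theorem F244002 : act 2 n54525 = n53334 := d17_1 D54525 (iv D53334) F230872 (iv F230322) (iv F236423)
theorem F244003 : act 4 n54525 = n53908 := d24_2 (iv F236424) D54525 (iv D53908) F233520 (iv F233407)
theorem F244004 : act 5 n54525 = n52852 := d25_2 (iv F236425) D54525 (iv D52852)
theorem F244005 : act 7 n54525 = n54130 := d27_2 (iv F236426) D54525 (iv D54130)
theorem F244006 : act 8 n54525 = n54525 := d28_2 D52851 D54525 (iv D54525) (iv D52851) F227940
theorem F244007 : act 9 n54525 = n52868 := d29_2 (iv F236427) D54525 (iv D52868)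
def n54526 : Q := act 8 n52853
theorem D54526 : act 8 n52853 = n54526 := rfl
theorem F244008 : act 0 n54526 = n54219 := d7_1 D54526 (iv D54219) (iv F236433)
theorem F244009 : act 1 n54526 = n53455 := d15_1 D54526 (iv D53455) (iv F236434)
theorem F244010 : act 2 n54526 = n53877 := d22_1 D54526 (iv D53877) (iv F236435)
theorem F244011 : act 4 n54526 = n52854 := d33_1 D54526 (iv D52854) (iv F236437)
theorem F244012 : act 5 n54526 = n54185 := d37_1 D54526 (iv D54185) (iv F236438)
theorem F244013 : act 7 n54526 = n52859 := d42_1 D54526 (iv D52859) (iv F236439)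
def n54527 : Q := act 8 n52855
theorem D54527 : act 8 n52855 = n54527 := rfl
theorem F244014 : act 0 n54527 = n53883 := d7_1 D54527 (iv D53883) (iv F236445)
theorem F244015 : act 1 n54527 = n54155 := d15_1 D54527 (iv D54155) (iv F236446)
theorem F244016 : act 2 n54527 = n52859 := d22_1 D54527 (iv D52859) (iv F236447)
theorem F244017 : act 4 n54527 = n52856 := d33_1 D54527 (iv D52856) (iv F236449)
theorem F244018 : act 5 n54527 = n54184 := d37_1 D54527 (iv D54184) (iv F236450)
theorem F244019 : act 6 n54527 = n53897 := d40_1 D54527 (iv D53897) (iv F236451)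
theorem F244020 : act 7 n54527 = n53877 := d42_1 D54527 (iv D53877) (iv F236452)
theorem F244021 : act 9 n54527 = n53881 := d44_2 D52855 D54527 (iv D53881) (iv D52054) (iv F227968)
def n54528 : Q := act 7 n52857
theorem D54528 : act 7 n52857 = n54528 := rfl
theorem F244022 : act 0 n54528 = n53287 := d6_1 D54528 F238931 (iv F236461)
theorem F244023 : act 1 n54528 = n53469 := d14_1 D54528 (iv D53469) (iv F236462)
theorem F244024 : act 2 n54528 = n53361 := d21_1 D54528 F239305 (iv F236463)
theorem F244025 : act 3 n54528 = n53081 := d27_1 D54528 (iv D53081) (iv F236464)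
theorem F244026 : act 4 n54528 = n52860 := d32_1 D54528 (iv D52860) (iv F236465)
theorem F244027 : act 5 n54528 = n53415 := d36_1 D54528 F239555 (iv F236466)
theorem F244028 : act 6 n54528 = n53363 := d39_1 D54528 F239312 F230995 (iv F227981) D52857
theorem F244029 : act 8 n54528 = n53447 := d42_2 (iv F236467) D54528 F239681
def n54529 : Q := act 9 n52857
theorem D54529 : act 9 n52857 = n54529 := rfl
theorem F244030 : act 0 n54529 = n54201 := d8_1 D54529 (iv D54201) (iv F236461)
theorem F244031 : act 1 n54529 = n53470 := d16_1 D54529 (iv D53470) (iv F236462)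
theorem F244032 : act 2 n54529 = n54182 := d23_1 D54529 (iv D54182) (iv F236463)
theorem F244033 : act 3 n54529 = n53082 := d29_1 D54529 (iv D53082) (iv F236464)
theorem F244034 : act 4 n54529 = n52861 := d34_1 D54529 (iv D52861) (iv F236465)
theorem F244035 : act 5 n54529 = n53898 := d38_1 D54529 (iv D53898) (iv F236466)
theorem F244036 : act 6 n54529 = n52858 := d41_1 D54529 (iv D52858) D52857
def n54530 : Q := act 8 n52858
theorem D54530 : act 8 n52858 = n54530 := rfl
theorem F244037 : act 0 n54530 = n54207 := d7_1 D54530 (iv D54207) (iv F236468)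
theorem F244038 : act 1 n54530 = n53471 := d15_1 D54530 (iv D53471) (iv F236469)
theorem F244039 : act 2 n54530 = n54184 := d22_1 D54530 (iv D54184) (iv F236470)
theorem F244040 : act 4 n54530 = n52862 := d33_1 D54530 (iv D52862) (iv F236472)
theorem F244041 : act 5 n54530 = n52859 := d37_1 D54530 (iv D52859) (iv F236473)
theorem F244042 : act 7 n54530 = n54185 := d42_1 D54530 (iv D54185) (iv F236474)
def n54531 : Q := act 3 n52859
theorem D54531 : act 3 n52859 = n54531 := rfl
theorem F244043 : act 1 n54531 = n53472 := d10_1 D54531 (iv D53472) (iv F236475)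
theorem F244044 : act 6 n54531 = n53900 := d26_2 (iv F236477) D54531 (iv D53900)
theorem F244045 : act 8 n54531 = n53084 := d28_2 D52859 D54531 (iv D53084) (iv D51188) (iv F227983)
def n54532 : Q := act 9 n52860
theorem D54532 : act 9 n52860 = n54532 := rfl
theorem F244046 : act 0 n54532 = n53288 := d8_1 D54532 (iv D53288) (iv F236478)
theorem F244047 : act 1 n54532 = n53486 := d16_1 D54532 (iv D53486) (iv F236479)
theorem F244048 : act 2 n54532 = n53362 := d23_1 D54532 (iv D53362) (iv F236480)
theorem F244049 : act 3 n54532 = n52870 := d29_1 D54532 (iv D52870) (iv F236481)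
theorem F244050 : act 5 n54532 = n52866 := d38_1 D54532 (iv D52866) (iv F236482)
theorem F244051 : act 6 n54532 = n53364 := d41_1 D54532 (iv D53364) (iv F236483)
theorem F244052 : act 7 n54532 = n52861 := d43_1 D54532 (iv D52861) D52860
def n54533 : Q := act 8 n52861
theorem D54533 : act 8 n52861 = n54533 := rfl
theorem F244053 : act 0 n54533 = n54202 := d7_1 D54533 (iv D54202) (iv F236484)
theorem F244054 : act 1 n54533 = n53487 := d15_1 D54533 (iv D53487) (iv F236485)
theorem F244055 : act 2 n54533 = n54183 := d22_1 D54533 (iv D54183) (iv F236486)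
theorem F244056 : act 5 n54533 = n52867 := d37_1 D54533 (iv D52867) (iv F236488)
theorem F244057 : act 6 n54533 = n52862 := d40_1 D54533 (iv D52862) (iv F236489)
def n54534 : Q := act 3 n52862
theorem D54534 : act 3 n52862 = n54534 := rfl
theorem F244058 : act 0 n54534 = n54208 := d2_1 D54534 (iv D54208) (iv F236490)
theorem F244059 : act 1 n54534 = n53488 := d10_1 D54534 (iv D53488) (iv F236491)
theorem F244060 : act 5 n54534 = n52863 := d25_2 (iv F236493) D54534 (iv D52863)
theorem F244061 : act 7 n54534 = n54186 := d27_2 (iv F236494) D54534 (iv D54186)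
theorem F244062 : act 8 n54534 = n52872 := d28_2 D52862 D54534 (iv D52872) (iv D50991) (iv F228011)
def n54535 : Q := act 2 n52863
theorem D54535 : act 2 n52863 = n54535 := rfl
theorem F244063 : act 0 n54535 = n53481 := d1_1 D54535 F239818 (iv F236495)
theorem F244064 : act 3 n54535 = n53478 := d17_2 D52863 D54535 F239799 F234614 (iv F228016)
theorem F244065 : act 6 n54535 = n52869 := d20_2 (iv F236497) D54535 (iv D52869)
theorem F244066 : act 7 n54535 = n54142 := d21_2 (iv F236498) D54535 F242672
theorem F244067 : act 8 n54535 = n52873 := d22_2 (iv F236499) D54535 (iv D52873)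
theorem F244068 : act 9 n54535 = n54165 := d23_2 F243993 D54535 (iv F243989)
def n54536 : Q := act 8 n52864
theorem D54536 : act 8 n52864 = n54536 := rfl
theorem F244069 : act 0 n54536 = n53884 := d7_1 D54536 (iv D53884) (iv F236500)
theorem F244070 : act 1 n54536 = n53237 := d15_1 D54536 (iv D53237) (iv F236501)
theorem F244071 : act 2 n54536 = n52867 := d22_1 D54536 (iv D52867) (iv F236502)
theorem F244072 : act 3 n54536 = n53322 := d28_1 D54536 (iv D53322) F230818 (iv F230284) (iv F236503)
theorem F244073 : act 4 n54536 = n53909 := d33_1 D54536 (iv D53909) (iv F236504)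
theorem F244074 : act 5 n54536 = n54183 := d37_1 D54536 (iv D54183) (iv F236505)
theorem F244075 : act 6 n54536 = n52865 := d40_1 D54536 (iv D52865) (iv F236506)
theorem F244076 : act 9 n54536 = n53227 := d44_2 D52864 D54536 (iv D53227) (iv D51380) (iv F228035)
def n54537 : Q := act 8 n52866
theorem D54537 : act 8 n52866 = n54537 := rfl
theorem F244077 : act 0 n54537 = n53295 := d7_1 D54537 (iv D53295) (iv F236515)
theorem F244078 : act 1 n54537 = n53497 := d15_1 D54537 (iv D53497) (iv F236516)
theorem F244079 : act 3 n54537 = n54230 := d28_1 D54537 F242909 F234968 F228096 (iv F236517)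
theorem F244080 : act 4 n54537 = n53911 := d33_1 D54537 (iv D53911) (iv F236518)
theorem F244081 : act 6 n54537 = n53300 := d40_1 D54537 (iv D53300) (iv F236519)
theorem F244082 : act 7 n54537 = n52867 := d42_1 D54537 (iv D52867) (iv F236520)
def n54538 : Q := act 3 n52867
theorem D54538 : act 3 n52867 = n54538 := rfl
theorem F244083 : act 0 n54538 = n54229 := d2_1 D54538 (iv F243938) F243935
theorem F244084 : act 1 n54538 = n53498 := d10_1 D54538 (iv D53498) (iv F236521)
theorem F244085 : act 2 n54538 = n54227 := d17_1 D54538 (iv D54227) (iv F239108) (iv F244072) F244071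
theorem F244086 : act 4 n54538 = n54226 := d24_2 (iv F236522) D54538 (iv D54226) (iv F236294) F236293
theorem F244087 : act 6 n54538 = n52868 := d26_2 (iv F236523) D54538 (iv D52868)
theorem F244088 : act 7 n54538 = n54230 := d27_2 F244082 D54538 (iv F244079)
theorem F244089 : act 8 n54538 = n52874 := d28_2 D52867 D54538 (iv D52874) (iv D50994) (iv F228057)
def n54539 : Q := act 1 n52869
theorem D54539 : act 1 n52869 = n54539 := rfl
theorem F244090 : act 0 n54539 = n53388 := d0_1 D54539 F239411 F231070 (iv F231451) (iv F236529)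
theorem F244091 : act 2 n54539 = n53496 := d9_2 D52869 D54539 F239862 (iv D51643) (iv F228063)
theorem F244092 : act 3 n54539 = n53386 := d10_2 (iv F236530) D54539 F239402
theorem F244093 : act 4 n54539 = n54169 := d11_2 F243886 D54539 (iv F243884)
theorem F244094 : act 5 n54539 = n53305 := d12_2 (iv F236531) D54539 F239004
theorem F244095 : act 8 n54539 = n52875 := d15_2 (iv F236532) D54539 (iv D52875)
theorem F244096 : act 9 n54539 = n54167 := d16_2 (iv F236533) D54539 F242746
def n54540 : Q := act 3 n52871
theorem D54540 : act 3 n52871 = n54540 := rfl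
theorem F244097 : act 0 n54540 = n54235 := d2_1 D54540 (iv D54235) (iv F236542)
theorem F244098 : act 1 n54540 = n53500 := d10_1 D54540 (iv D53500) (iv F236543)
theorem F244099 : act 2 n54540 = n54238 := d17_1 D54540 (iv D54238) F234936 (iv F234780) (iv F236544)
theorem F244100 : act 5 n54540 = n52874 := d25_2 (iv F236546) D54540 (iv D52874)
theorem F244101 : act 6 n54540 = n52872 := d26_2 (iv F236547) D54540 (iv D52872)
theorem F244102 : act 7 n54540 = n54246 := d27_2 (iv F236548) D54540 F242948
theorem F244103 : act 9 n54540 = n54540 := d29_2 F236549 D54540 (iv D54540)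
def n54541 : Q := act 2 n52872
theorem D54541 : act 2 n52872 = n54541 := rfl
theorem F244104 : act 0 n54541 = n53515 := d1_1 D54541 F239957 (iv F236550)
theorem F244105 : act 3 n54541 = n53511 := d17_2 D52872 D54541 F239932 F231609 (iv F228080)
theorem F244106 : act 5 n54541 = n52873 := d19_2 (iv F236552) D54541 (iv D52873)
theorem F244107 : act 6 n54541 = n54238 := d20_2 F244101 D54541 (iv F244099)
theorem F244108 : act 7 n54541 = n54145 := d21_2 (iv F236553) D54541 F242685
theorem F244109 : act 9 n54541 = n54541 := d23_2 F236554 D54541 (iv D54541)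
def n54542 : Q := act 4 n52872
theorem D54542 : act 4 n52872 = n54542 := rfl
theorem F244110 : act 0 n54542 = n54237 := d3_1 D54542 (iv D54237) (iv F236550)
theorem F244111 : act 1 n54542 = n53502 := d11_1 D54542 (iv D53502) (iv F236551)
theorem F244112 : act 3 n54542 = n53119 := d24_1 D54542 (iv D53119) (iv D51224) (iv F228081) D52872
theorem F244113 : act 7 n54542 = n54189 := d32_2 (iv F236553) D54542 (iv D54189)
theorem F244114 : act 9 n54542 = n54542 := d34_2 F236554 D54542 (iv D54542)
def n54543 : Q := act 1 n52873
theorem D54543 : act 1 n52873 = n54543 := rfl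
theorem F244115 : act 0 n54543 = n53402 := d0_1 D54543 F239489 F231173 (iv F231592) (iv F236555)
theorem F244116 : act 2 n54543 = n53503 := d9_2 D52873 D54543 (iv D53503) (iv D51649) (iv F228086)
theorem F244117 : act 3 n54543 = n53401 := d10_2 (iv F236556) D54543 F239483
theorem F244118 : act 4 n54543 = n54175 := d11_2 F243899 D54543 (iv F243897)
theorem F244119 : act 6 n54543 = n52875 := d13_2 (iv F236557) D54543 (iv D52875)
theorem F244120 : act 7 n54543 = n54146 := d14_2 (iv F236558) D54543 F242689
theorem F244121 : act 9 n54543 = n54543 := d16_2 F236559 D54543 (iv D54543)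
def n54544 : Q := act 4 n52876
theorem D54544 : act 4 n52876 = n54544 := rfl
theorem F244122 : act 0 n54544 = n53022 := d3_1 D54544 (iv D53022) (iv F236573)
theorem F244123 : act 1 n54544 = n53545 := d11_1 D54544 (iv D53545) (iv F236574)
theorem F244124 : act 2 n54544 = n54393 := d18_1 D54544 F243369 F236579
theorem F244125 : act 3 n54544 = n52884 := d24_1 D54544 (iv D52884) (iv D51001) (iv F228116) D52876
theorem F244126 : act 6 n54544 = n52977 := d31_2 (iv F236576) D54544 (iv D52977)
theorem F244127 : act 7 n54544 = n52879 := d32_2 (iv F236577) D54544 (iv D52879)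
theorem F244128 : act 8 n54544 = n52990 := d33_2 (iv F236578) D54544 (iv D52990)
def n54545 : Q := act 9 n52876
theorem D54545 : act 9 n52876 = n54545 := rfl
theorem F244129 : act 0 n54545 = n53023 := d8_1 D54545 (iv D53023) (iv F236573)
theorem F244130 : act 1 n54545 = n53546 := d16_1 D54545 (iv D53546) (iv F236574)
theorem F244131 : act 2 n54545 = n54452 := d23_1 D54545 (iv D54452) F236579
theorem F244132 : act 3 n54545 = n52877 := d29_1 D54545 (iv D52877) D52876
theorem F244133 : act 5 n54545 = n54545 := d38_1 D54545 (iv D54545) F236575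
theorem F244134 : act 6 n54545 = n52978 := d41_1 D54545 (iv D52978) (iv F236576)
theorem F244135 : act 7 n54545 = n52880 := d43_1 D54545 (iv D52880) (iv F236577)
def n54546 : Q := act 1 n52878
theorem D54546 : act 1 n52878 = n54546 := rfl
theorem F244136 : act 0 n54546 = n53799 := d0_1 D54546 F241233 (iv F241537) F241538 (iv F236588)
theorem F244137 : act 2 n54546 = n52918 := d9_2 D52878 D54546 F236822 (iv D51705) (iv F228121)
theorem F244138 : act 3 n54546 = n54546 := d10_2 F236589 D54546 (iv D54546)
theorem F244139 : act 5 n54546 = n54546 := d12_2 F236590 D54546 (iv D54546)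
theorem F244140 : act 6 n54546 = n52915 := d13_2 (iv F236591) D54546 F236804
theorem F244141 : act 7 n54546 = n53657 := d14_2 (iv F236592) D54546 F240640
theorem F244142 : act 8 n54546 = n53949 := d15_2 (iv F236593) D54546 (iv D53949)
def n54547 : Q := act 4 n52878
theorem D54547 : act 4 n52878 = n54547 := rfl
theorem F244143 : act 0 n54547 = n54008 := d3_1 D54547 (iv D54008) (iv F236588)
theorem F244144 : act 2 n54547 = n52879 := d18_1 D54547 (iv D52879) D52878
theorem F244145 : act 6 n54547 = n53913 := d31_2 (iv F236591) D54547 (iv D53913)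
theorem F244146 : act 7 n54547 = n54393 := d32_2 (iv F236592) D54547 F243369
theorem F244147 : act 8 n54547 = n53950 := d33_2 (iv F236593) D54547 (iv D53950)
def n54548 : Q := act 9 n52878
theorem D54548 : act 9 n52878 = n54548 := rfl
theorem F244148 : act 0 n54548 = n54009 := d8_1 D54548 (iv D54009) (iv F236588)
theorem F244149 : act 2 n54548 = n52880 := d23_1 D54548 (iv D52880) D52878
theorem F244150 : act 3 n54548 = n54548 := d29_1 D54548 (iv D54548) F236589
theorem F244151 : act 5 n54548 = n54548 := d38_1 D54548 (iv D54548) F236590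
theorem F244152 : act 6 n54548 = n53914 := d41_1 D54548 (iv D53914) (iv F236591)
theorem F244153 : act 7 n54548 = n54452 := d43_1 D54548 (iv D54452) (iv F236592)
def n54549 : Q := act 5 n52879
theorem D54549 : act 5 n52879 = n54549 := rfl
theorem F244154 : act 0 n54549 = n53696 := d4_1 D54549 F240820 (iv F236594)
theorem F244155 : act 1 n54549 = n53549 := d12_1 D54549 (iv D53549) (iv F236595)
theorem F244156 : act 3 n54549 = n52888 := d25_1 D54549 (iv D52888) (iv F236596)
theorem F244157 : act 4 n54549 = n54549 := d30_1 D54549 (iv D54549) (iv D52879) F228122 D52879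
theorem F244158 : act 6 n54549 = n53619 := d35_2 (iv F236597) D54549 (iv D53619) F232165 (iv F233559)
theorem F244159 : act 8 n54549 = n53952 := d37_2 (iv F236598) D54549 (iv D53952)
def n54550 : Q := act 9 n52879
theorem D54550 : act 9 n52879 = n54550 := rfl
theorem F244160 : act 0 n54550 = n54010 := d8_1 D54550 (iv D54010) (iv F236594)
theorem F244161 : act 1 n54550 = n53550 := d16_1 D54550 (iv D53550) (iv F236595)
theorem F244162 : act 3 n54550 = n52889 := d29_1 D54550 (iv D52889) (iv F236596)
theorem F244163 : act 4 n54550 = n52880 := d34_1 D54550 (iv D52880) D52879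
theorem F244164 : act 6 n54550 = n53915 := d41_1 D54550 (iv D53915) (iv F236597)
def n54551 : Q := act 8 n52880
theorem D54551 : act 8 n52880 = n54551 := rfl
theorem F244165 : act 0 n54551 = n54011 := d7_1 D54551 (iv D54011) (iv F236599)
theorem F244166 : act 1 n54551 = n53551 := d15_1 D54551 (iv D53551) (iv F236600)
theorem F244167 : act 3 n54551 = n53021 := d28_1 D54551 (iv D53021) F228982 (iv F228131) (iv F236601)
theorem F244168 : act 5 n54551 = n54551 := d37_1 D54551 (iv D54551) F236602
theorem F244169 : act 6 n54551 = n53916 := d40_1 D54551 (iv D53916) (iv F236603)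
theorem F244170 : act 9 n54551 = n53954 := d44_2 D52880 D54551 (iv D53954) (iv D52148) (iv F228124)
def n54552 : Q := act 4 n52881
theorem D54552 : act 4 n52881 = n54552 := rfl
theorem F244171 : act 0 n54552 = n53014 := d3_1 D54552 (iv D53014) (iv F236604)
theorem F244172 : act 1 n54552 = n53552 := d11_1 D54552 (iv D53552) (iv F236605)
theorem F244173 : act 2 n54552 = n54048 := d18_1 D54552 F242350 F236610
theorem F244174 : act 3 n54552 = n52977 := d24_1 D54552 (iv D52977) (iv D51095) (iv F228135) D52881
theorem F244175 : act 6 n54552 = n52884 := d31_2 (iv F236607) D54552 (iv D52884)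
theorem F244176 : act 7 n54552 = n52975 := d32_2 (iv F236608) D54552 (iv D52975)
theorem F244177 : act 8 n54552 = n52900 := d33_2 (iv F236609) D54552 (iv D52900)
theorem F244178 : act 5 n54193 = n54552 := d37_3 F244177 (iv F236727) D54193
def n54553 : Q := act 9 n52881
theorem D54553 : act 9 n52881 = n54553 := rfl
theorem F244179 : act 0 n54553 = n53015 := d8_1 D54553 (iv D53015) (iv F236604)
theorem F244180 : act 1 n54553 = n53553 := d16_1 D54553 (iv D53553) (iv F236605)
theorem F244181 : act 2 n54553 = n54105 := d23_1 D54553 (iv D54105) F236610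
theorem F244182 : act 3 n54553 = n52882 := d29_1 D54553 (iv D52882) D52881
theorem F244183 : act 5 n54553 = n54553 := d38_1 D54553 (iv D54553) F236606
theorem F244184 : act 6 n54553 = n52885 := d41_1 D54553 (iv D52885) (iv F236607)
theorem F244185 : act 7 n54553 = n52976 := d43_1 D54553 (iv D52976) (iv F236608)
def n54554 : Q := act 4 n52883
theorem D54554 : act 4 n52883 = n54554 := rfl
theorem F244186 : act 0 n54554 = n54351 := d3_1 D54554 F243245 (iv F236619)
theorem F244187 : act 1 n54554 = n53958 := d11_1 D54554 F241962 (iv F236620)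
theorem F244188 : act 2 n54554 = n52884 := d18_1 D54554 (iv D52884) D52883
theorem F244189 : act 5 n54554 = n53955 := d30_2 (iv F236622) D54554 (iv D53955) F233804 F228171
theorem F244190 : act 6 n54554 = n54048 := d31_2 (iv F236623) D54554 F242350
theorem F244191 : act 7 n54554 = n52886 := d32_2 (iv F236624) D54554 (iv D52886)
theorem F244192 : act 8 n54554 = n52902 := d33_2 (iv F236625) D54554 (iv D52902)
def n54555 : Q := act 9 n52883
theorem D54555 : act 9 n52883 = n54555 := rfl
theorem F244193 : act 0 n54555 = n54364 := d8_1 D54555 (iv D54364) (iv F236619)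
theorem F244194 : act 1 n54555 = n53974 := d16_1 D54555 (iv D53974) (iv F236620)
theorem F244195 : act 2 n54555 = n52885 := d23_1 D54555 (iv D52885) D52883
theorem F244196 : act 3 n54555 = n54555 := d29_1 D54555 (iv D54555) F236621
theorem F244197 : act 5 n54555 = n52891 := d38_1 D54555 (iv D52891) (iv F236622)
theorem F244198 : act 6 n54555 = n54105 := d41_1 D54555 (iv D54105) (iv F236623)
theorem F244199 : act 7 n54555 = n52887 := d43_1 D54555 (iv D52887) (iv F236624)
def n54556 : Q := act 5 n52884
theorem D54556 : act 5 n52884 = n54556 := rfl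
theorem F244200 : act 0 n54556 = n53721 := d4_1 D54556 F240927 (iv F236626)
theorem F244201 : act 1 n54556 = n53554 := d12_1 D54556 (iv D53554) (iv F236627)
theorem F244202 : act 2 n54556 = n53955 := d19_1 D54556 (iv F244189) F244188
theorem F244203 : act 4 n54556 = n52892 := d30_1 D54556 (iv D52892) (iv D51007) (iv F228141) D52884
theorem F244204 : act 7 n54556 = n52888 := d36_2 (iv F236628) D54556 (iv D52888)
theorem F244205 : act 8 n54556 = n52904 := d37_2 (iv F236629) D54556 (iv D52904)
def n54557 : Q := act 9 n52884
theorem D54557 : act 9 n52884 = n54557 := rfl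
theorem F244206 : act 0 n54557 = n54355 := d8_1 D54557 (iv D54355) (iv F236626)
theorem F244207 : act 1 n54557 = n53555 := d16_1 D54557 (iv D53555) (iv F236627)
theorem F244208 : act 4 n54557 = n52885 := d34_1 D54557 (iv D52885) D52884
theorem F244209 : act 7 n54557 = n52889 := d43_1 D54557 (iv D52889) (iv F236628)
def n54558 : Q := act 8 n52885
theorem D54558 : act 8 n52885 = n54558 := rfl
theorem F244210 : act 0 n54558 = n54367 := d7_1 D54558 (iv D54367) (iv F236630)
theorem F244211 : act 1 n54558 = n53556 := d15_1 D54558 (iv D53556) (iv F236631)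
theorem F244212 : act 3 n54558 = n53029 := d28_1 D54558 (iv D53029) F229005 (iv F228149) (iv F236632)
theorem F244213 : act 5 n54558 = n52894 := d37_1 D54558 (iv D52894) (iv F236633)
theorem F244214 : act 7 n54558 = n52890 := d42_1 D54558 (iv D52890) (iv F236634)
theorem F244215 : act 9 n54558 = n52906 := d44_2 D52885 D54558 (iv D52906) (iv D51019) (iv F228143)
def n54559 : Q := act 3 n52886
theorem D54559 : act 3 n52886 = n54559 := rfl
theorem F244216 : act 0 n54559 = n54346 := d2_1 D54559 F243233 (iv F236635)
theorem F244217 : act 1 n54559 = n53966 := d10_1 D54559 F241993 (iv F236636)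
theorem F244218 : act 4 n54559 = n54559 := d24_2 D52886 D54559 (iv D54559) (iv D52886) F228152
theorem F244219 : act 5 n54559 = n53963 := d25_2 (iv F236638) D54559 (iv D53963)
theorem F244220 : act 6 n54559 = n53871 := d26_2 (iv F236639) D54559 F241555
def n54560 : Q := act 9 n52886
theorem D54560 : act 9 n52886 = n54560 := rfl
theorem F244221 : act 0 n54560 = n54352 := d8_1 D54560 (iv D54352) (iv F236635)
theorem F244222 : act 1 n54560 = n53968 := d16_1 D54560 (iv D53968) (iv F236636)
theorem F244223 : act 2 n54560 = n52889 := d23_1 D54560 (iv D52889) (iv F236637)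
theorem F244224 : act 4 n54560 = n52887 := d34_1 D54560 (iv D52887) D52886
theorem F244225 : act 5 n54560 = n53964 := d38_1 D54560 (iv D53964) (iv F236638)
theorem F244226 : act 6 n54560 = n53854 := d41_1 D54560 F241459 (iv F236639)
def n54561 : Q := act 8 n52887
theorem D54561 : act 8 n52887 = n54561 := rfl
theorem F244227 : act 0 n54561 = n54365 := d7_1 D54561 (iv D54365) (iv F236641)
theorem F244228 : act 1 n54561 = n53979 := d15_1 D54561 (iv D53979) (iv F236642)
theorem F244229 : act 2 n54561 = n52890 := d22_1 D54561 (iv D52890) (iv F236643)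
theorem F244230 : act 5 n54561 = n52895 := d37_1 D54561 (iv D52895) (iv F236645)
theorem F244231 : act 6 n54561 = n53817 := d40_1 D54561 F241308 (iv F236646)
theorem F244232 : act 9 n54561 = n52912 := d44_2 D52887 D54561 (iv D52912) (iv D51022) (iv F228155)
def n54562 : Q := act 9 n52888
theorem D54562 : act 9 n52888 = n54562 := rfl
theorem F244233 : act 0 n54562 = n53722 := d8_1 D54562 (iv D53722) (iv F236647)
theorem F244234 : act 1 n54562 = n53557 := d16_1 D54562 (iv D53557) (iv F236648)
theorem F244235 : act 2 n54562 = n53964 := d23_1 D54562 (iv D53964) (iv F236649)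
theorem F244236 : act 4 n54562 = n52896 := d34_1 D54562 (iv D52896) (iv F236650)
theorem F244237 : act 5 n54562 = n52889 := d38_1 D54562 (iv D52889) D52888
theorem F244238 : act 6 n54562 = n53627 := d41_1 D54562 (iv D53627) (iv F236651)
def n54563 : Q := act 8 n52889
theorem D54563 : act 8 n52889 = n54563 := rfl
theorem F244239 : act 0 n54563 = n54356 := d7_1 D54563 (iv D54356) (iv F236653)
theorem F244240 : act 1 n54563 = n53558 := d15_1 D54563 (iv D53558) (iv F236654)
theorem F244241 : act 4 n54563 = n52890 := d33_1 D54563 (iv D52890) (iv F236655)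
theorem F244242 : act 6 n54563 = n53919 := d40_1 D54563 (iv D53919) (iv F236656)
theorem F244243 : act 9 n54563 = n52914 := d44_2 D52889 D54563 (iv D52914) (iv D51024) (iv F228159)
def n54564 : Q := act 8 n52891
theorem D54564 : act 8 n52891 = n54564 := rfl
theorem F244244 : act 0 n54564 = n54369 := d7_1 D54564 (iv D54369) (iv F236663)
theorem F244245 : act 1 n54564 = n53975 := d15_1 D54564 (iv D53975) (iv F236664)
theorem F244246 : act 2 n54564 = n52894 := d22_1 D54564 (iv D52894) (iv F236665)
theorem F244247 : act 4 n54564 = n53973 := d33_1 D54564 (iv D53973) (iv F236667)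
theorem F244248 : act 6 n54564 = n54564 := d40_1 D54564 (iv D54564) F236668
theorem F244249 : act 7 n54564 = n52895 := d42_1 D54564 (iv D52895) (iv F236669)
theorem F244250 : act 9 n54564 = n52917 := d44_2 D52891 D54564 (iv D52917) (iv D51027) (iv F228170)
def n54565 : Q := act 6 n52892
theorem D54565 : act 6 n52892 = n54565 := rfl
theorem F244251 : act 0 n54565 = n53729 := d5_1 D54565 F240965 (iv F236670)
theorem F244252 : act 1 n54565 = n53260 := d13_1 D54565 F238813 (iv F236671)
theorem F244253 : act 2 n54565 = n53949 := d20_1 D54565 F241927 (iv F236672)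
theorem F244254 : act 3 n54565 = n54565 := d26_1 D54565 (iv D54565) F236673
theorem F244255 : act 5 n54565 = n54565 := d35_1 D54565 (iv D54565) (iv D52892) F228176 D52892
theorem F244256 : act 7 n54565 = n53629 := d39_2 (iv F236674) D54565 (iv D53629) F232211 (iv F228194)
theorem F244257 : act 8 n54565 = n52918 := d40_2 (iv F236675) D54565 (iv D52918)
def n54566 : Q := act 9 n52892
theorem D54566 : act 9 n52892 = n54566 := rfl
theorem F244258 : act 0 n54566 = n53737 := d8_1 D54566 (iv D53737) (iv F236670)
theorem F244259 : act 1 n54566 = n53559 := d16_1 D54566 (iv D53559) (iv F236671)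
theorem F244260 : act 2 n54566 = n53956 := d23_1 D54566 (iv D53956) (iv F236672)
theorem F244261 : act 3 n54566 = n54566 := d29_1 D54566 (iv D54566) F236673
theorem F244262 : act 5 n54566 = n52893 := d38_1 D54566 (iv D52893) D52892
theorem F244263 : act 7 n54566 = n52896 := d43_1 D54566 (iv D52896) (iv F236674)
def n54567 : Q := act 8 n52893
theorem D54567 : act 8 n52893 = n54567 := rfl
theorem F244264 : act 0 n54567 = n53743 := d7_1 D54567 (iv D53743) (iv F236676)
theorem F244265 : act 1 n54567 = n53560 := d15_1 D54567 (iv D53560) (iv F236677)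
theorem F244266 : act 2 n54567 = n53973 := d22_1 D54567 (iv D53973) (iv F236678)
theorem F244267 : act 4 n54567 = n52894 := d33_1 D54567 (iv D52894) (iv F236680)
theorem F244268 : act 6 n54567 = n54567 := d40_1 D54567 (iv D54567) F236681
theorem F244269 : act 7 n54567 = n52897 := d42_1 D54567 (iv D52897) (iv F236682)
theorem F244270 : act 9 n54567 = n52920 := d44_2 D52893 D54567 (iv D52920) (iv D51029) (iv F228178)
def n54568 : Q := act 3 n52895
theorem D54568 : act 3 n52895 = n54568 := rfl
theorem F244271 : act 0 n54568 = n54370 := d2_1 D54568 (iv D54370) (iv F236689)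
theorem F244272 : act 1 n54568 = n53980 := d10_1 D54568 (iv D53980) (iv F236690)
theorem F244273 : act 2 n54568 = n53047 := d17_1 D54568 (iv D53047) F229081 (iv F228204) (iv F236691)
theorem F244274 : act 6 n54568 = n52898 := d26_2 (iv F236693) D54568 (iv D52898)
theorem F244275 : act 8 n54568 = n54568 := d28_2 D52895 D54568 (iv D54568) (iv D52895) F228187
theorem F244276 : act 9 n54568 = n52924 := d29_2 (iv F236694) D54568 (iv D52924)
def n54569 : Q := act 8 n52896
theorem D54569 : act 8 n52896 = n54569 := rfl
theorem F244277 : act 0 n54569 = n53738 := d7_1 D54569 (iv D53738) (iv F236695)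
theorem F244278 : act 1 n54569 = n53561 := d15_1 D54569 (iv D53561) (iv F236696)
theorem F244279 : act 2 n54569 = n53965 := d22_1 D54569 (iv D53965) (iv F236697)
theorem F244280 : act 5 n54569 = n52897 := d37_1 D54569 (iv D52897) (iv F236699)
theorem F244281 : act 6 n54569 = n53632 := d40_1 D54569 (iv D53632) (iv F236700)
theorem F244282 : act 9 n54569 = n52925 := d44_2 D52896 D54569 (iv D52925) (iv D51035) (iv F228195)
def n54570 : Q := act 3 n52897
theorem D54570 : act 3 n52897 = n54570 := rfl
theorem F244283 : act 0 n54570 = n53744 := d2_1 D54570 (iv D53744) (iv F236701)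
theorem F244284 : act 1 n54570 = n53562 := d10_1 D54570 (iv D53562) (iv F236702)
theorem F244285 : act 4 n54570 = n53051 := d24_2 (iv F236704) D54570 (iv D53051) F229094 (iv F228204)
theorem F244286 : act 6 n54570 = n52899 := d26_2 (iv F236705) D54570 (iv D52899)
theorem F244287 : act 8 n54570 = n54570 := d28_2 D52897 D54570 (iv D54570) (iv D52897) F228199
theorem F244288 : act 9 n54570 = n52926 := d29_2 (iv F236706) D54570 (iv D52926)
def n54571 : Q := act 4 n52898
theorem D54571 : act 4 n52898 = n54571 := rfl
theorem F244289 : act 0 n54571 = n54368 := d3_1 D54571 F243299 (iv F236707)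
theorem F244290 : act 1 n54571 = n53634 := d11_1 D54571 F240537 (iv F236708)
theorem F244291 : act 2 n54571 = n53053 := d18_1 D54571 (iv D53053) (iv F236709)
theorem F244292 : act 3 n54571 = n53982 := d24_1 D54571 (iv D53982) (iv D52174) (iv F228210) D52898
theorem F244293 : act 5 n54571 = n53827 := d30_2 (iv F236710) D54571 (iv D53827) F232881 D51964
theorem F244294 : act 7 n54571 = n54571 := d32_2 F236711 D54571 (iv D54571)
theorem F244295 : act 8 n54571 = n54571 := d33_2 F236712 D54571 (iv D54571)
theorem F244296 : act 9 n54571 = n52929 := d34_2 (iv F236713) D54571 (iv D52929)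
def n54572 : Q := act 2 n52899
theorem D54572 : act 2 n52899 = n54572 := rfl
theorem F244297 : act 0 n54572 = n53745 := d1_1 D54572 (iv D53745) (iv F236714)
theorem F244298 : act 1 n54572 = n53827 := d9_1 D54572 F241339 F234392 (iv F231863) (iv F236715)
theorem F244299 : act 3 n54572 = n53830 := d17_2 D52899 D54572 F241352 (iv D52174) (iv F228216)
theorem F244300 : act 4 n54572 = n53057 := d18_2 (iv F236716) D54572 (iv D53057)
theorem F244301 : act 5 n54572 = n53634 := d19_2 (iv F236717) D54572 (iv D53634)
theorem F244302 : act 7 n54572 = n54572 := d21_2 F236718 D54572 (iv D54572)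
theorem F244303 : act 8 n54572 = n54572 := d22_2 F236719 D54572 (iv D54572)
theorem F244304 : act 9 n54572 = n52930 := d23_2 (iv F236720) D54572 (iv D52930)
def n54573 : Q := act 9 n52900
theorem D54573 : act 9 n52900 = n54573 := rfl
theorem F244305 : act 0 n54573 = n54382 := d8_1 D54573 (iv D54382) (iv F236721)
theorem F244306 : act 1 n54573 = n53566 := d16_1 D54573 (iv D53566) (iv F236722)
theorem F244307 : act 2 n54573 = n54049 := d23_1 D54573 (iv D54049) (iv F236723)
theorem F244308 : act 3 n54573 = n53887 := d29_1 D54573 (iv D53887) (iv F236724)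
theorem F244309 : act 4 n54573 = n52901 := d34_1 D54573 (iv D52901) D52900
theorem F244310 : act 5 n54573 = n54194 := d38_1 D54573 (iv D54194) F236727
theorem F244311 : act 6 n54573 = n52905 := d41_1 D54573 (iv D52905) (iv F236725)
theorem F244312 : act 7 n54573 = n53894 := d43_1 D54573 (iv D53894) (iv F236726)
def n54574 : Q := act 8 n52901
theorem D54574 : act 8 n52901 = n54574 := rfl
theorem F244313 : act 0 n54574 = n54416 := d7_1 D54574 (iv D54416) (iv F236728)
theorem F244314 : act 1 n54574 = n53567 := d15_1 D54574 (iv D53567) (iv F236729)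
theorem F244315 : act 2 n54574 = n54106 := d22_1 D54574 (iv D54106) (iv F236730)
theorem F244316 : act 3 n54574 = n53060 := d28_1 D54574 (iv D53060) F229144 (iv F228234) (iv F236731)
theorem F244317 : act 5 n54574 = n54574 := d37_1 D54574 (iv D54574) F236732
theorem F244318 : act 6 n54574 = n52906 := d40_1 D54574 (iv D52906) (iv F236733)
theorem F244319 : act 7 n54574 = n53912 := d42_1 D54574 (iv D53912) (iv F236734)
def n54575 : Q := act 5 n52902
theorem D54575 : act 5 n52902 = n54575 := rfl
theorem F244320 : act 0 n54575 = n53786 := d4_1 D54575 F241191 (iv F236735)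
theorem F244321 : act 1 n54575 = n53913 := d12_1 D54575 F241752 (iv F236736)
theorem F244322 : act 2 n54575 = n52904 := d19_1 D54575 (iv D52904) (iv F236737)
theorem F244323 : act 3 n54575 = n54039 := d25_1 D54575 (iv D54039) (iv F236738)
theorem F244324 : act 4 n54575 = n52915 := d30_1 D54575 (iv D52915) (iv D51026) (iv F228238) D52902
theorem F244325 : act 7 n54575 = n52910 := d36_2 (iv F236740) D54575 (iv D52910)
theorem F244326 : act 8 n54575 = n53955 := d37_2 F244192 D54575 (iv F244189)
def n54576 : Q := act 9 n52902
theorem D54576 : act 9 n52902 = n54576 := rfl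
theorem F244327 : act 0 n54576 = n54399 := d8_1 D54576 (iv D54399) (iv F236735)
theorem F244328 : act 1 n54576 = n54295 := d16_1 D54576 (iv D54295) (iv F236736)
theorem F244329 : act 2 n54576 = n52905 := d23_1 D54576 (iv D52905) (iv F236737)
theorem F244330 : act 3 n54576 = n54040 := d29_1 D54576 (iv D54040) (iv F236738)
theorem F244331 : act 4 n54576 = n52903 := d34_1 D54576 (iv D52903) D52902
theorem F244332 : act 6 n54576 = n54049 := d41_1 D54576 (iv D54049) (iv F236739)
theorem F244333 : act 7 n54576 = n52911 := d43_1 D54576 (iv D52911) (iv F236740)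
def n54577 : Q := act 8 n52903
theorem D54577 : act 8 n52903 = n54577 := rfl
theorem F244334 : act 0 n54577 = n54421 := d7_1 D54577 (iv D54421) (iv F236741)
theorem F244335 : act 1 n54577 = n54296 := d15_1 D54577 (iv D54296) (iv F236742)
theorem F244336 : act 2 n54577 = n52906 := d22_1 D54577 (iv D52906) (iv F236743)
theorem F244337 : act 5 n54577 = n52917 := d37_1 D54577 (iv D52917) (iv F236745)
theorem F244338 : act 6 n54577 = n54106 := d40_1 D54577 (iv D54106) (iv F236746)
theorem F244339 : act 7 n54577 = n52912 := d42_1 D54577 (iv D52912) (iv F236747)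
def n54578 : Q := act 6 n52904
theorem D54578 : act 6 n52904 = n54578 := rfl
theorem F244340 : act 0 n54578 = n53769 := d5_1 D54578 F241140 (iv F236748)
theorem F244341 : act 1 n54578 = n53547 := d13_1 D54578 F240123 (iv F236749)
theorem F244342 : act 3 n54578 = n53425 := d26_1 D54578 (iv F243748) F243746
theorem F244343 : act 4 n54578 = n52918 := d31_1 D54578 (iv D52918) (iv F236750)
theorem F244344 : act 5 n54578 = n53424 := d35_1 D54578 F239595 F236727 F236725 D52904
theorem F244345 : act 7 n54578 = n53644 := d39_2 (iv F236751) D54578 (iv D53644) F232267 (iv F228267)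
def n54579 : Q := act 9 n52904
theorem D54579 : act 9 n52904 = n54579 := rfl
theorem F244346 : act 0 n54579 = n53791 := d8_1 D54579 (iv D53791) (iv F236748)
theorem F244347 : act 1 n54579 = n53570 := d16_1 D54579 (iv D53570) (iv F236749)
theorem F244348 : act 4 n54579 = n52919 := d34_1 D54579 (iv D52919) (iv F236750)
theorem F244349 : act 5 n54579 = n52905 := d38_1 D54579 (iv D52905) D52904
theorem F244350 : act 7 n54579 = n52913 := d43_1 D54579 (iv D52913) (iv F236751)
def n54580 : Q := act 8 n52905
theorem D54580 : act 8 n52905 = n54580 := rfl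
theorem F244351 : act 0 n54580 = n54405 := d7_1 D54580 (iv D54405) (iv F236752)
theorem F244352 : act 1 n54580 = n53571 := d15_1 D54580 (iv D53571) (iv F236753)
theorem F244353 : act 4 n54580 = n52906 := d33_1 D54580 (iv D52906) (iv F236754)
theorem F244354 : act 7 n54580 = n52914 := d42_1 D54580 (iv D52914) (iv F236755)
def n54581 : Q := act 3 n52907
theorem D54581 : act 3 n52907 = n54581 := rfl
theorem F244355 : act 0 n54581 = n54022 := d2_1 D54581 F242248 (iv F236761)
theorem F244356 : act 1 n54581 = n52909 := d10_1 D54581 (iv D52909) (iv F236762)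
theorem F244357 : act 2 n54581 = n53747 := d17_1 D54581 F241050 F233224 (iv F231904) (iv F236763)
theorem F244358 : act 4 n54581 = n52938 := d24_2 D52907 D54581 (iv D52938) (iv D51049) (iv F228250)
theorem F244359 : act 5 n54581 = n53943 := d25_2 (iv F236764) D54581 (iv D53943)
theorem F244360 : act 6 n54581 = n53062 := d26_2 (iv F236765) D54581 F237683
theorem F244361 : act 7 n54581 = n53870 := d27_2 (iv F236766) D54581 F241551
def n54582 : Q := act 9 n52907
theorem D54582 : act 9 n52907 = n54582 := rfl
theorem F244362 : act 0 n54582 = n54025 := d8_1 D54582 (iv D54025) (iv F236761)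
theorem F244363 : act 1 n54582 = n52911 := d16_1 D54582 (iv D52911) (iv F236762)
theorem F244364 : act 2 n54582 = n53572 := d23_1 D54582 (iv D53572) (iv F236763)
theorem F244365 : act 4 n54582 = n52908 := d34_1 D54582 (iv D52908) D52907
theorem F244366 : act 5 n54582 = n53944 := d38_1 D54582 (iv D53944) (iv F236764)
theorem F244367 : act 6 n54582 = n53923 := d41_1 D54582 (iv D53923) (iv F236765)
theorem F244368 : act 7 n54582 = n54295 := d43_1 D54582 (iv D54295) (iv F236766)
def n54583 : Q := act 8 n52908
theorem D54583 : act 8 n52908 = n54583 := rfl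
theorem F244369 : act 0 n54583 = n54036 := d7_1 D54583 (iv D54036) (iv F236768)
theorem F244370 : act 1 n54583 = n52912 := d15_1 D54583 (iv D52912) (iv F236769)
theorem F244371 : act 2 n54583 = n53573 := d22_1 D54583 (iv D53573) (iv F236770)
theorem F244372 : act 5 n54583 = n52921 := d37_1 D54583 (iv D52921) (iv F236772)
theorem F244373 : act 6 n54583 = n53924 := d40_1 D54583 (iv D53924) (iv F236773)
theorem F244374 : act 7 n54583 = n54296 := d42_1 D54583 (iv D54296) (iv F236774)
theorem F244375 : act 9 n54583 = n53979 := d44_2 D52908 D54583 (iv D53979) (iv D52170) (iv F228254)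
def n54584 : Q := act 5 n52909
theorem D54584 : act 5 n52909 = n54584 := rfl
theorem F244376 : act 0 n54584 = n53781 := d4_1 D54584 F241179 (iv F236775)
theorem F244377 : act 1 n54584 = n53943 := d12_1 D54584 (iv F244359) F244356
theorem F244378 : act 2 n54584 = n53058 := d19_1 D54584 (iv D53058) (iv F236776)
theorem F244379 : act 3 n54584 = n52910 := d25_1 D54584 (iv D52910) D52909
theorem F244380 : act 4 n54584 = n54584 := d30_1 D54584 (iv D54584) F236777 F228427 (iv F236777)
theorem F244381 : act 6 n54584 = n53650 := d35_2 (iv F236778) D54584 (iv D53650) F232285 (iv F229155)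
theorem F244382 : act 7 n54584 = n54039 := d36_2 (iv F236779) D54584 (iv D54039)
def n54585 : Q := act 8 n52909
theorem D54585 : act 8 n52909 = n54585 := rfl
theorem F244383 : act 0 n54585 = n54393 := d7_1 D54585 (iv D54393) (iv F236775)
theorem F244384 : act 2 n54585 = n53022 := d22_1 D54585 F237466 (iv F236776)
theorem F244385 : act 4 n54585 = n52941 := d33_1 D54585 (iv D52941) (iv F236777)
theorem F244386 : act 6 n54585 = n53025 := d40_1 D54585 F237482 (iv F236778)
theorem F244387 : act 7 n54585 = n54008 := d42_1 D54585 F242191 (iv F236779)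
def n54586 : Q := act 9 n52909
theorem D54586 : act 9 n52909 = n54586 := rfl
theorem F244388 : act 0 n54586 = n54394 := d8_1 D54586 (iv D54394) (iv F236775)
theorem F244389 : act 2 n54586 = n53059 := d23_1 D54586 (iv D53059) (iv F236776)
theorem F244390 : act 3 n54586 = n52911 := d29_1 D54586 (iv D52911) D52909
theorem F244391 : act 4 n54586 = n52942 := d34_1 D54586 (iv D52942) (iv F236777)
theorem F244392 : act 6 n54586 = n53064 := d41_1 D54586 (iv D53064) (iv F236778)
theorem F244393 : act 7 n54586 = n54040 := d43_1 D54586 (iv D54040) (iv F236779)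
def n54587 : Q := act 9 n52910
theorem D54587 : act 9 n52910 = n54587 := rfl
theorem F244394 : act 0 n54587 = n53787 := d8_1 D54587 (iv D53787) (iv F236780)
theorem F244395 : act 1 n54587 = n53944 := d16_1 D54587 (iv D53944) (iv F236781)
theorem F244396 : act 2 n54587 = n52913 := d23_1 D54587 (iv D52913) (iv F236782)
theorem F244397 : act 4 n54587 = n52922 := d34_1 D54587 (iv D52922) (iv F236783)
theorem F244398 : act 5 n54587 = n52911 := d38_1 D54587 (iv D52911) D52910
theorem F244399 : act 6 n54587 = n53653 := d41_1 D54587 (iv D53653) (iv F236784)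
def n54588 : Q := act 8 n52911
theorem D54588 : act 8 n52911 = n54588 := rfl
theorem F244400 : act 0 n54588 = n54400 := d7_1 D54588 (iv D54400) (iv F236786)
theorem F244401 : act 2 n54588 = n52914 := d22_1 D54588 (iv D52914) (iv F236787)
theorem F244402 : act 4 n54588 = n52912 := d33_1 D54588 (iv D52912) (iv F236788)
theorem F244403 : act 6 n54588 = n53925 := d40_1 D54588 (iv D53925) (iv F236789)
def n54589 : Q := act 3 n52912
theorem D54589 : act 3 n52912 = n54589 := rfl
theorem F244404 : act 0 n54589 = n54422 := d2_1 D54589 (iv D54422) (iv F236790)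
theorem F244405 : act 2 n54589 = n53080 := d17_1 D54589 (iv D53080) F229202 (iv F228274) (iv F236791)
theorem F244406 : act 5 n54589 = n52924 := d25_2 (iv F236792) D54589 (iv D52924)
theorem F244407 : act 6 n54589 = n53926 := d26_2 (iv F236793) D54589 (iv D53926)
theorem F244408 : act 8 n54589 = n52944 := d28_2 D52912 D54589 (iv D52944) (iv D51053) (iv F228261)
def n54590 : Q := act 8 n52913
theorem D54590 : act 8 n52913 = n54590 := rfl
theorem F244409 : act 0 n54590 = n53792 := d7_1 D54590 (iv D53792) (iv F236794)
theorem F244410 : act 1 n54590 = n53579 := d15_1 D54590 (iv D53579) (iv F236795)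
theorem F244411 : act 4 n54590 = n52925 := d33_1 D54590 (iv D52925) (iv F236796)
theorem F244412 : act 5 n54590 = n52914 := d37_1 D54590 (iv D52914) (iv F236797)
theorem F244413 : act 6 n54590 = n53655 := d40_1 D54590 (iv D53655) (iv F236798)
def n54591 : Q := act 3 n52914
theorem D54591 : act 3 n52914 = n54591 := rfl
theorem F244414 : act 0 n54591 = n54406 := d2_1 D54591 (iv D54406) (iv F236799)
theorem F244415 : act 1 n54591 = n53580 := d10_1 D54591 (iv D53580) (iv F236800)
theorem F244416 : act 4 n54591 = n53084 := d24_2 (iv F236801) D54591 (iv D53084) F229212 (iv F228274)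
theorem F244417 : act 6 n54591 = n53927 := d26_2 (iv F236802) D54591 (iv D53927)
def n54592 : Q := act 9 n52915
theorem D54592 : act 9 n52915 = n54592 := rfl
theorem F244418 : act 0 n54592 = n53812 := d8_1 D54592 (iv D53812) (iv F236803)
theorem F244419 : act 1 n54592 = n53914 := d16_1 D54592 (iv D53914) (iv F236804)
theorem F244420 : act 2 n54592 = n52919 := d23_1 D54592 (iv D52919) (iv F236805)
theorem F244421 : act 3 n54592 = n54592 := d29_1 D54592 (iv D54592) F236806
theorem F244422 : act 5 n54592 = n52916 := d38_1 D54592 (iv D52916) D52915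
theorem F244423 : act 7 n54592 = n52922 := d43_1 D54592 (iv D52922) (iv F236807)
def n54593 : Q := act 8 n52916
theorem D54593 : act 8 n52916 = n54593 := rfl
theorem F244424 : act 0 n54593 = n53825 := d7_1 D54593 (iv D53825) (iv F236809)
theorem F244425 : act 1 n54593 = n53947 := d15_1 D54593 (iv D53947) (iv F236810)
theorem F244426 : act 2 n54593 = n52920 := d22_1 D54593 (iv D52920) (iv F236811)
theorem F244427 : act 4 n54593 = n52917 := d33_1 D54593 (iv D52917) (iv F236813)
theorem F244428 : act 6 n54593 = n54593 := d40_1 D54593 (iv D54593) F236814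
theorem F244429 : act 7 n54593 = n52923 := d42_1 D54593 (iv D52923) (iv F236815)
theorem F244430 : act 9 n54593 = n53973 := d44_2 D52916 D54593 (iv D53973) (iv D52163) (iv F228283)
def n54594 : Q := act 3 n52917
theorem D54594 : act 3 n52917 = n54594 := rfl
theorem F244431 : act 0 n54594 = n54427 := d2_1 D54594 (iv D54427) (iv F236816)
theorem F244432 : act 1 n54594 = n54469 := d10_1 D54594 (iv D54469) (iv F236817)
theorem F244433 : act 2 n54594 = n53087 := d17_1 D54594 (iv D53087) F229228 (iv F228302) (iv F236818)
theorem F244434 : act 6 n54594 = n54594 := d26_2 F236819 D54594 (iv D54594)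
theorem F244435 : act 7 n54594 = n52924 := d27_2 (iv F236820) D54594 (iv D52924)
theorem F244436 : act 8 n54594 = n52945 := d28_2 D52917 D54594 (iv D52945) (iv D51055) (iv F228287)
def n54595 : Q := act 9 n52918
theorem D54595 : act 9 n52918 = n54595 := rfl
theorem F244437 : act 0 n54595 = n53804 := d8_1 D54595 (iv D53804) (iv F236821)
theorem F244438 : act 1 n54595 = n53548 := d16_1 D54595 (iv D53548) (iv F236822)
theorem F244439 : act 3 n54595 = n52931 := d29_1 D54595 (iv D52931) (iv F236823)
theorem F244440 : act 5 n54595 = n54595 := d38_1 D54595 (iv D54595) F236824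
theorem F244441 : act 6 n54595 = n52919 := d41_1 D54595 (iv D52919) D52918
theorem F244442 : act 7 n54595 = n53660 := d43_1 D54595 (iv D53660) (iv F236825)
def n54596 : Q := act 8 n52919
theorem D54596 : act 8 n52919 = n54596 := rfl
theorem F244443 : act 0 n54596 = n53818 := d7_1 D54596 (iv D53818) (iv F236826)
theorem F244444 : act 1 n54596 = n53581 := d15_1 D54596 (iv D53581) (iv F236827)
theorem F244445 : act 5 n54596 = n52920 := d37_1 D54596 (iv D52920) (iv F236829)
theorem F244446 : act 7 n54596 = n52925 := d42_1 D54596 (iv D52925) (iv F236830)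
def n54597 : Q := act 3 n52920
theorem D54597 : act 3 n52920 = n54597 := rfl
theorem F244447 : act 0 n54597 = n53828 := d2_1 D54597 (iv D53828) (iv F236831)
theorem F244448 : act 1 n54597 = n53582 := d10_1 D54597 (iv D53582) (iv F236832)
theorem F244449 : act 4 n54597 = n53091 := d24_2 (iv F236833) D54597 (iv D53091) F229246 (iv F228302)
theorem F244450 : act 6 n54597 = n54597 := d26_2 F236834 D54597 (iv D54597)
theorem F244451 : act 7 n54597 = n52926 := d27_2 (iv F236835) D54597 (iv D52926)
theorem F244452 : act 8 n54597 = n52933 := d28_2 D52920 D54597 (iv D52933) (iv D51043) (iv F228296)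
def n54598 : Q := act 3 n52921
theorem D54598 : act 3 n52921 = n54598 := rfl
theorem F244453 : act 0 n54598 = n53587 := d2_1 D54598 F240312 (iv F236836)
theorem F244454 : act 1 n54598 = n52924 := d10_1 D54598 (iv D52924) (iv F236837)
theorem F244455 : act 2 n54598 = n53542 := d17_1 D54598 (iv D53542) F231759 (iv F231964) (iv F236838)
theorem F244456 : act 6 n54598 = n52927 := d26_2 (iv F236840) D54598 (iv D52927)
theorem F244457 : act 7 n54598 = n54469 := d27_2 (iv F236841) D54598 (iv D54469)
theorem F244458 : act 8 n54598 = n52946 := d28_2 D52921 D54598 (iv D52946) (iv D51056) (iv F228308)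
theorem F244459 : act 9 n54598 = n53980 := d29_2 (iv F236842) D54598 (iv D53980)
theorem F244460 : act 4 n53666 = n54598 := d33_3 F244458 (iv F236993) (iv F240683)
def n54599 : Q := act 8 n52922
theorem D54599 : act 8 n52922 = n54599 := rfl
theorem F244461 : act 0 n54599 = n53813 := d7_1 D54599 (iv D53813) (iv F236843)
theorem F244462 : act 1 n54599 = n53945 := d15_1 D54599 (iv D53945) (iv F236844)
theorem F244463 : act 2 n54599 = n52925 := d22_1 D54599 (iv D52925) (iv F236845)
theorem F244464 : act 5 n54599 = n52923 := d37_1 D54599 (iv D52923) (iv F236847)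
theorem F244465 : act 6 n54599 = n53663 := d40_1 D54599 (iv D53663) (iv F236848)
theorem F244466 : act 9 n54599 = n53965 := d44_2 D52922 D54599 (iv D53965) (iv D52156) (iv F228317)
def n54600 : Q := act 3 n52923
theorem D54600 : act 3 n52923 = n54600 := rfl
theorem F244467 : act 0 n54600 = n53826 := d2_1 D54600 (iv D53826) (iv F236849)
theorem F244468 : act 1 n54600 = n53948 := d10_1 D54600 (iv D53948) (iv F236850)
theorem F244469 : act 6 n54600 = n52928 := d26_2 (iv F236853) D54600 (iv D52928)
theorem F244470 : act 8 n54600 = n54600 := d28_2 D52923 D54600 (iv D54600) (iv D52923) F228321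
theorem F244471 : act 9 n54600 = n53978 := d29_2 (iv F236854) D54600 (iv D53978)
def n54601 : Q := act 4 n52924
theorem D54601 : act 4 n52924 = n54601 := rfl
theorem F244472 : act 0 n54601 = n54420 := d3_1 D54601 F243434 (iv F236855)
theorem F244473 : act 1 n54601 = n53666 := d11_1 D54601 F244460 F244454
theorem F244474 : act 2 n54601 = n53099 := d18_1 D54601 (iv D53099) (iv F236856)
theorem F244475 : act 6 n54601 = n52929 := d31_2 (iv F236857) D54601 (iv D52929)
theorem F244476 : act 8 n54601 = n52947 := d33_2 (iv F236858) D54601 (iv D52947)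
def n54602 : Q := act 3 n52925
theorem D54602 : act 3 n52925 = n54602 := rfl
theorem F244477 : act 0 n54602 = n53819 := d2_1 D54602 (iv D53819) (iv F236859)
theorem F244478 : act 1 n54602 = n53586 := d10_1 D54602 (iv D53586) (iv F236860)
theorem F244479 : act 5 n54602 = n52926 := d25_2 (iv F236861) D54602 (iv D52926)
theorem F244480 : act 6 n54602 = n53665 := d26_2 (iv F236862) D54602 (iv D53665)
theorem F244481 : act 8 n54602 = n52934 := d28_2 D52925 D54602 (iv D52934) (iv D51044) (iv F228329)
def n54603 : Q := act 2 n52926
theorem D54603 : act 2 n52926 = n54603 := rfl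
theorem F244482 : act 0 n54603 = n53829 := d1_1 D54603 (iv D53829) (iv F236863)
theorem F244483 : act 4 n54603 = n53103 := d18_2 (iv F236865) D54603 (iv D53103)
theorem F244484 : act 6 n54603 = n52930 := d20_2 (iv F236866) D54603 (iv D52930)
theorem F244485 : act 8 n54603 = n52935 := d22_2 (iv F236867) D54603 (iv D52935)
def n54604 : Q := act 2 n52928
theorem D54604 : act 2 n52928 = n54604 := rfl
theorem F244486 : act 0 n54604 = n53746 := d1_1 D54604 F241041 (iv F236876)
theorem F244487 : act 1 n54604 = n54368 := d9_1 D54604 (iv D54368) F235375 (iv F233788) (iv F236877)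
theorem F244488 : act 3 n54604 = n52930 := d17_2 D52928 D54604 (iv D52930) (iv D51040) (iv F228345)
theorem F244489 : act 5 n54604 = n53667 := d19_2 (iv F236878) D54604 (iv D53667)
theorem F244490 : act 7 n54604 = n54604 := d21_2 F236879 D54604 (iv D54604)
theorem F244491 : act 8 n54604 = n54604 := d22_2 F236880 D54604 (iv D54604)
theorem F244492 : act 9 n54604 = n53830 := d23_2 (iv F236881) D54604 F241352
theorem F244493 : act 4 n54098 = n54604 := d34_3 F244492 F241353 (iv F242523)
def n54605 : Q := act 4 n52928
theorem D54605 : act 4 n52928 = n54605 := rfl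
theorem F244494 : act 0 n54605 = n53827 := d3_1 D54605 (iv D53827) (iv F236876)
theorem F244495 : act 1 n54605 = n53667 := d11_1 D54605 F240686 (iv F236877)
theorem F244496 : act 2 n54605 = n54098 := d18_1 D54605 F244493 (iv D54604)
theorem F244497 : act 3 n54605 = n52929 := d24_1 D54605 (iv D52929) (iv D51039) (iv F228346) D52928
theorem F244498 : act 5 n54605 = n54368 := d30_2 (iv F236878) D54605 F243299 F235386 (iv F232357)
theorem F244499 : act 7 n54605 = n54605 := d32_2 F236879 D54605 (iv D54605)
theorem F244500 : act 8 n54605 = n54605 := d33_2 F236880 D54605 (iv D54605)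
theorem F244501 : act 9 n54605 = n53982 := d34_2 (iv F236881) D54605 (iv D53982)
def n54606 : Q := act 5 n52929
theorem D54606 : act 5 n52929 = n54606 := rfl
theorem F244502 : act 0 n54606 = n53982 := d4_1 D54606 F242059 (iv F236882)
theorem F244503 : act 1 n54606 = n52930 := d12_1 D54606 F236889 (iv F236883)
theorem F244504 : act 2 n54606 = n53108 := d19_1 D54606 (iv D53108) (iv F236884)
theorem F244505 : act 3 n54606 = n54368 := d25_1 D54606 (iv F244498) F244497
theorem F244506 : act 4 n54606 = n53111 := d30_1 D54606 F237940 F232643 (iv F228352) D52929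
theorem F244507 : act 7 n54606 = n54606 := d36_2 F236885 D54606 (iv D54606)
theorem F244508 : act 8 n54606 = n52936 := d37_2 (iv F236886) D54606 F236926
theorem F244509 : act 9 n54606 = n53827 := d38_2 F244296 D54606 (iv F244293)
def n54607 : Q := act 8 n52931
theorem D54607 : act 8 n52931 = n54607 := rfl
theorem F244510 : act 0 n54607 = n53831 := d7_1 D54607 (iv D53831) (iv F236892)
theorem F244511 : act 1 n54607 = n53590 := d15_1 D54607 (iv D53590) (iv F236893)
theorem F244512 : act 2 n54607 = n54607 := d22_1 D54607 (iv D54607) F236894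
theorem F244513 : act 4 n54607 = n54144 := d33_1 D54607 (iv D54144) (iv F236895)
theorem F244514 : act 5 n54607 = n54607 := d37_1 D54607 (iv D54607) F236896
theorem F244515 : act 6 n54607 = n52932 := d40_1 D54607 (iv D52932) (iv F236897)
theorem F244516 : act 7 n54607 = n53668 := d42_1 D54607 (iv D53668) (iv F236898)
theorem F244517 : act 9 n54607 = n54607 := d44_2 D52931 D54607 (iv D54607) (iv D52931) F228367
def n54608 : Q := act 3 n52932
theorem D54608 : act 3 n52932 = n54608 := rfl
theorem F244518 : act 0 n54608 = n53836 := d2_1 D54608 (iv D53836) (iv F236899)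
theorem F244519 : act 1 n54608 = n53591 := d10_1 D54608 (iv D53591) (iv F236900)
theorem F244520 : act 5 n54608 = n52933 := d25_2 (iv F236903) D54608 (iv D52933)
theorem F244521 : act 7 n54608 = n52934 := d27_2 (iv F236904) D54608 (iv D52934)
theorem F244522 : act 9 n54608 = n54608 := d29_2 F236905 D54608 (iv D54608)
def n54609 : Q := act 2 n52933
theorem D54609 : act 2 n52933 = n54609 := rfl
theorem F244523 : act 0 n54609 = n53842 := d1_1 D54609 (iv D53842) (iv F236906)
theorem F244524 : act 1 n54609 = n54471 := d9_1 D54609 (iv D54471) F235845 (iv F232022) (iv F236907)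
theorem F244525 : act 3 n54609 = n54609 := d17_2 D52933 D54609 (iv D54609) (iv D52933) F228375
theorem F244526 : act 4 n54609 = n53115 := d18_2 (iv F236908) D54609 (iv D53115)
theorem F244527 : act 6 n54609 = n54609 := d20_2 F236909 D54609 (iv D54609)
theorem F244528 : act 7 n54609 = n52935 := d21_2 (iv F236910) D54609 (iv D52935)
theorem F244529 : act 9 n54609 = n54609 := d23_2 F236911 D54609 (iv D54609)
def n54610 : Q := act 2 n52934
theorem D54610 : act 2 n52934 = n54610 := rfl
theorem F244530 : act 0 n54610 = n53837 := d1_1 D54610 (iv D53837) (iv F236912)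
theorem F244531 : act 3 n54610 = n54610 := d17_2 D52934 D54610 (iv D54610) (iv D52934) F228382
theorem F244532 : act 5 n54610 = n52935 := d19_2 (iv F236914) D54610 (iv D52935)
theorem F244533 : act 6 n54610 = n53671 := d20_2 (iv F236915) D54610 (iv D53671)
theorem F244534 : act 9 n54610 = n54610 := d23_2 F236916 D54610 (iv D54610)
def n54611 : Q := act 4 n52934
theorem D54611 : act 4 n52934 = n54611 := rfl
theorem F244535 : act 0 n54611 = n53838 := d3_1 D54611 (iv D53838) (iv F236912)
theorem F244536 : act 1 n54611 = n53595 := d11_1 D54611 (iv D53595) (iv F236913)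
theorem F244537 : act 5 n54611 = n53119 := d30_2 (iv F236914) D54611 (iv D53119) F229396 (iv F228388)
theorem F244538 : act 6 n54611 = n53672 := d31_2 (iv F236915) D54611 (iv D53672)
theorem F244539 : act 9 n54611 = n54611 := d34_2 F236916 D54611 (iv D54611)
def n54612 : Q := act 1 n52935
theorem D54612 : act 1 n52935 = n54612 := rfl
theorem F244540 : act 0 n54612 = n53999 := d0_1 D54612 F242147 F234021 F232947 (iv F236917)
theorem F244541 : act 2 n54612 = n53142 := d9_2 D52935 D54612 F238105 (iv D51758) (iv F228387)
theorem F244542 : act 3 n54612 = n54612 := d10_2 F236918 D54612 (iv D54612)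
theorem F244543 : act 4 n54612 = n53120 := d11_2 (iv F236919) D54612 (iv D53120)
theorem F244544 : act 6 n54612 = n52936 := d13_2 (iv F236920) D54612 (iv D52936)
theorem F244545 : act 7 n54612 = n54471 := d14_2 F244528 D54612 (iv F244524)
theorem F244546 : act 9 n54612 = n54612 := d16_2 F236921 D54612 (iv D54612)
def n54613 : Q := act 3 n52937
theorem D54613 : act 3 n52937 = n54613 := rfl
theorem F244547 : act 0 n54613 = n54458 := d2_1 D54613 F243564 (iv F236929)
theorem F244548 : act 1 n54613 = n54429 := d10_1 D54613 (iv D54429) (iv F236930)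
theorem F244549 : act 2 n54613 = n53125 := d17_1 D54613 (iv D53125) F229436 (iv F228406) (iv F236931)
theorem F244550 : act 5 n54613 = n52945 := d25_2 (iv F236933) D54613 (iv D52945)
theorem F244551 : act 6 n54613 = n54107 := d26_2 (iv F236934) D54613 (iv D54107)
theorem F244552 : act 7 n54613 = n52944 := d27_2 (iv F236935) D54613 (iv D52944)
theorem F244553 : act 9 n54613 = n54613 := d29_2 F236936 D54613 (iv D54613)
def n54614 : Q := act 8 n52938
theorem D54614 : act 8 n52938 = n54614 := rfl
theorem F244554 : act 0 n54614 = n53677 := d7_1 D54614 F240743 (iv F236937)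
theorem F244555 : act 1 n54614 = n52941 := d15_1 D54614 (iv D52941) (iv F236938)
theorem F244556 : act 2 n54614 = n53675 := d22_1 D54614 F240729 (iv F236939)
theorem F244557 : act 3 n54614 = n54614 := d28_1 D54614 (iv D54614) (iv D52938) F228418 D52938
theorem F244558 : act 5 n54614 = n54614 := d37_1 D54614 (iv D54614) F236940
theorem F244559 : act 6 n54614 = n53024 := d40_1 D54614 F237477 (iv F236941)
theorem F244560 : act 7 n54614 = n53868 := d42_1 D54614 F241542 (iv F236942)
def n54615 : Q := act 9 n52938
theorem D54615 : act 9 n52938 = n54615 := rfl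
theorem F244561 : act 0 n54615 = n54432 := d8_1 D54615 (iv D54432) (iv F236937)
theorem F244562 : act 1 n54615 = n52942 := d16_1 D54615 (iv D52942) (iv F236938)
theorem F244563 : act 2 n54615 = n53748 := d23_1 D54615 (iv D53748) (iv F236939)
theorem F244564 : act 3 n54615 = n52939 := d29_1 D54615 (iv D52939) D52938
theorem F244565 : act 5 n54615 = n54615 := d38_1 D54615 (iv D54615) F236940
theorem F244566 : act 6 n54615 = n53063 := d41_1 D54615 (iv D53063) (iv F236941)
theorem F244567 : act 7 n54615 = n53852 := d43_1 D54615 F241450 (iv F236942)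
def n54616 : Q := act 8 n52939
theorem D54616 : act 8 n52939 = n54616 := rfl
theorem F244568 : act 0 n54616 = n54433 := d7_1 D54616 (iv D54433) (iv F236943)
theorem F244569 : act 1 n54616 = n52943 := d15_1 D54616 (iv D52943) (iv F236944)
theorem F244570 : act 2 n54616 = n52948 := d22_1 D54616 (iv D52948) (iv F236945)
theorem F244571 : act 4 n54616 = n52940 := d33_1 D54616 (iv D52940) (iv F236946)
theorem F244572 : act 5 n54616 = n54616 := d37_1 D54616 (iv D54616) F236947
theorem F244573 : act 6 n54616 = n53124 := d40_1 D54616 (iv D53124) (iv F236948)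
theorem F244574 : act 7 n54616 = n53520 := d42_1 D54616 F239979 (iv F236949)
theorem F244575 : act 9 n54616 = n54616 := d44_2 D52939 D54616 (iv D54616) (iv D52939) F228418
def n54617 : Q := act 3 n52940
theorem D54617 : act 3 n52940 = n54617 := rfl
theorem F244576 : act 0 n54617 = n53594 := d2_1 D54617 F240347 (iv F236950)
theorem F244577 : act 1 n54617 = n52944 := d10_1 D54617 (iv D52944) (iv F236951)
theorem F244578 : act 2 n54617 = n53544 := d17_1 D54617 (iv D53544) F237016 (iv D52949) (iv F236952)
theorem F244579 : act 5 n54617 = n52946 := d25_2 (iv F236953) D54617 (iv D52946)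
theorem F244580 : act 6 n54617 = n53934 := d26_2 (iv F236954) D54617 (iv D53934)
theorem F244581 : act 7 n54617 = n54429 := d27_2 (iv F236955) D54617 (iv D54429)
theorem F244582 : act 9 n54617 = n54617 := d29_2 F236956 D54617 (iv D54617)
def n54618 : Q := act 9 n52941
theorem D54618 : act 9 n52941 = n54618 := rfl
theorem F244583 : act 0 n54618 = n54452 := d8_1 D54618 (iv D54452) (iv F236957)
theorem F244584 : act 2 n54618 = n53023 := d23_1 D54618 (iv D53023) (iv F236958)
theorem F244585 : act 3 n54618 = n54618 := d29_1 D54618 (iv D54618) F236959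
theorem F244586 : act 5 n54618 = n54618 := d38_1 D54618 (iv D54618) F236960
theorem F244587 : act 6 n54618 = n53026 := d41_1 D54618 (iv D53026) (iv F236961)
theorem F244588 : act 7 n54618 = n54009 := d43_1 D54618 (iv D54009) (iv F236962)
def n54619 : Q := act 8 n52942
theorem D54619 : act 8 n52942 = n54619 := rfl
theorem F244589 : act 0 n54619 = n54453 := d7_1 D54619 (iv D54453) (iv F236963)
theorem F244590 : act 2 n54619 = n53060 := d22_1 D54619 (iv D53060) (iv F236964)
theorem F244591 : act 5 n54619 = n54619 := d37_1 D54619 (iv D54619) F236966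
theorem F244592 : act 6 n54619 = n53065 := d40_1 D54619 (iv D53065) (iv F236967)
theorem F244593 : act 7 n54619 = n54041 := d42_1 D54619 (iv D54041) (iv F236968)
def n54620 : Q := act 3 n52943
theorem D54620 : act 3 n52943 = n54620 := rfl
theorem F244594 : act 0 n54620 = n54457 := d2_1 D54620 (iv D54457) (iv F236969)
theorem F244595 : act 2 n54620 = n54107 := d17_1 D54620 (iv D54107) F234422 (iv F228443) (iv F236970)
theorem F244596 : act 5 n54620 = n54620 := d25_2 F236972 D54620 (iv D54620)
theorem F244597 : act 6 n54620 = n53125 := d26_2 (iv F236973) D54620 (iv D53125)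
theorem F244598 : act 7 n54620 = n54103 := d27_2 (iv F236974) D54620 (iv D54103)
theorem F244599 : act 9 n54620 = n54620 := d29_2 F236975 D54620 (iv D54620)
def n54621 : Q := act 4 n52944
theorem D54621 : act 4 n52944 = n54621 := rfl
theorem F244600 : act 0 n54621 = n54467 := d3_1 D54621 (iv D54467) (iv F236976)
theorem F244601 : act 2 n54621 = n53136 := d18_1 D54621 (iv D53136) (iv F236977)
theorem F244602 : act 6 n54621 = n53935 := d31_2 (iv F236979) D54621 (iv D53935)
theorem F244603 : act 9 n54621 = n54621 := d34_2 F236980 D54621 (iv D54621)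
def n54622 : Q := act 4 n52945
theorem D54622 : act 4 n52945 = n54622 := rfl
theorem F244604 : act 0 n54622 = n54461 := d3_1 D54622 (iv D54461) (iv F236981)
theorem F244605 : act 1 n54622 = n53670 := d11_1 D54622 F240701 (iv F236982)
theorem F244606 : act 2 n54622 = n53139 := d18_1 D54622 (iv D53139) (iv F236983)
theorem F244607 : act 3 n54622 = n54622 := d24_1 D54622 (iv D54622) (iv D52945) F228452 D52945
theorem F244608 : act 6 n54622 = n54622 := d31_2 F236984 D54622 (iv D54622)
theorem F244609 : act 7 n54622 = n52947 := d32_2 (iv F236985) D54622 (iv D52947)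
theorem F244610 : act 9 n54622 = n54622 := d34_2 F236986 D54622 (iv D54622)
def n54623 : Q := act 5 n52947
theorem D54623 : act 5 n52947 = n54623 := rfl
theorem F244611 : act 0 n54623 = n54465 := d4_1 D54623 F243591 (iv F236994)
theorem F244612 : act 1 n54623 = n53671 := d12_1 D54623 F240707 (iv F236995)
theorem F244613 : act 2 n54623 = n53141 := d19_1 D54623 (iv D53141) (iv F236996)
theorem F244614 : act 3 n54623 = n54623 := d25_1 D54623 (iv D54623) F236997
theorem F244615 : act 9 n54623 = n54623 := d38_2 F236999 D54623 (iv D54623)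
def n54624 : Q := act 4 n52950
theorem D54624 : act 4 n52950 = n54624 := rfl
theorem F244616 : act 0 n54624 = n53598 := d3_1 D54624 (iv D53598) (iv F237017)
theorem F244617 : act 1 n54624 = n52977 := d11_1 D54624 (iv D52977) (iv F237018)
theorem F244618 : act 2 n54624 = n53577 := d18_1 D54624 F240277 (iv F237019)
theorem F244619 : act 3 n54624 = n53552 := d24_1 D54624 (iv D53552) (iv D51708) (iv F228556) D52950
theorem F244620 : act 5 n54624 = n53605 := d30_2 (iv F237020) D54624 (iv D53605) F232109 F228579
theorem F244621 : act 6 n54624 = n53545 := d31_2 (iv F237021) D54624 (iv D53545)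
theorem F244622 : act 7 n54624 = n52952 := d32_2 (iv F237022) D54624 (iv D52952)
theorem F244623 : act 8 n54624 = n52959 := d33_2 (iv F237023) D54624 (iv D52959)
def n54625 : Q := act 9 n52950
theorem D54625 : act 9 n52950 = n54625 := rfl
theorem F244624 : act 0 n54625 = n53599 := d8_1 D54625 (iv D53599) (iv F237017)
theorem F244625 : act 1 n54625 = n52978 := d16_1 D54625 (iv D52978) (iv F237018)
theorem F244626 : act 2 n54625 = n53584 := d23_1 D54625 (iv D53584) (iv F237019)
theorem F244627 : act 3 n54625 = n52951 := d29_1 D54625 (iv D52951) D52950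
theorem F244628 : act 5 n54625 = n52954 := d38_1 D54625 (iv D52954) (iv F237020)
theorem F244629 : act 6 n54625 = n53546 := d41_1 D54625 (iv D53546) (iv F237021)
theorem F244630 : act 7 n54625 = n52953 := d43_1 D54625 (iv D52953) (iv F237022)
def n54626 : Q := act 9 n52952
theorem D54626 : act 9 n52952 = n54626 := rfl
theorem F244631 : act 0 n54626 = n53600 := d8_1 D54626 (iv D53600) (iv F237032)
theorem F244632 : act 1 n54626 = n52982 := d16_1 D54626 (iv D52982) (iv F237033)
theorem F244633 : act 2 n54626 = n53578 := d23_1 D54626 (iv D53578) (iv F237034)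
theorem F244634 : act 3 n54626 = n54254 := d29_1 D54626 (iv D54254) (iv F237035)
theorem F244635 : act 4 n54626 = n52953 := d34_1 D54626 (iv D52953) D52952
theorem F244636 : act 5 n54626 = n53610 := d38_1 D54626 (iv D53610) (iv F237036)
theorem F244637 : act 6 n54626 = n53575 := d41_1 D54626 (iv D53575) (iv F237037)
def n54627 : Q := act 8 n52953
theorem D54627 : act 8 n52953 = n54627 := rfl
theorem F244638 : act 0 n54627 = n53601 := d7_1 D54627 (iv D53601) (iv F237039)
theorem F244639 : act 1 n54627 = n52983 := d15_1 D54627 (iv D52983) (iv F237040)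
theorem F244640 : act 2 n54627 = n53585 := d22_1 D54627 (iv D53585) (iv F237041)
theorem F244641 : act 3 n54627 = n54037 := d28_1 D54627 (iv D54037) F234161 (iv F228572) (iv F237042)
theorem F244642 : act 5 n54627 = n52955 := d37_1 D54627 (iv D52955) (iv F237043)
theorem F244643 : act 6 n54627 = n53583 := d40_1 D54627 (iv D53583) (iv F237044)
theorem F244644 : act 9 n54627 = n52965 := d44_2 D52953 D54627 (iv D52965) (iv D51081) (iv F228565)
def n54628 : Q := act 8 n52954
theorem D54628 : act 8 n52954 = n54628 := rfl
theorem F244645 : act 0 n54628 = n53602 := d7_1 D54628 (iv D53602) (iv F237045)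
theorem F244646 : act 1 n54628 = n52984 := d15_1 D54628 (iv D52984) (iv F237046)
theorem F244647 : act 2 n54628 = n53588 := d22_1 D54628 (iv D53588) (iv F237047)
theorem F244648 : act 3 n54628 = n54038 := d28_1 D54628 (iv D54038) F234181 (iv F228586) (iv F237048)
theorem F244649 : act 4 n54628 = n53613 := d33_1 D54628 (iv D53613) (iv F237049)
theorem F244650 : act 6 n54628 = n54628 := d40_1 D54628 (iv D54628) F237050
theorem F244651 : act 7 n54628 = n52955 := d42_1 D54628 (iv D52955) (iv F237051)
theorem F244652 : act 9 n54628 = n52967 := d44_2 D52954 D54628 (iv D52967) (iv D51083) (iv F228578)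
def n54629 : Q := act 2 n52956
theorem D54629 : act 2 n52956 = n54629 := rfl
theorem F244653 : act 0 n54629 = n53512 := d1_1 D54629 F239938 (iv F237059)
theorem F244654 : act 1 n54629 = n53629 := d9_1 D54629 F240511 F235654 (iv F228788) (iv F237060)
theorem F244655 : act 3 n54629 = n54629 := d17_2 D52956 D54629 (iv D54629) (iv D52956) F228603
theorem F244656 : act 5 n54629 = n54629 := d19_2 F237061 D54629 (iv D54629)
theorem F244657 : act 6 n54629 = n52958 := d20_2 (iv F237062) D54629 (iv D52958)
theorem F244658 : act 7 n54629 = n53260 := d21_2 (iv F237063) D54629 (iv D53260)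
theorem F244659 : act 8 n54629 = n53509 := d22_2 (iv F237064) D54629 F239920
def n54630 : Q := act 4 n52956
theorem D54630 : act 4 n52956 = n54630 := rfl
theorem F244660 : act 0 n54630 = n53603 := d3_1 D54630 (iv D53603) (iv F237059)
theorem F244661 : act 1 n54630 = n52990 := d11_1 D54630 (iv D52990) (iv F237060)
theorem F244662 : act 3 n54630 = n53263 := d24_1 D54630 (iv D53263) (iv D51417) (iv F228604) D52956
theorem F244663 : act 6 n54630 = n52959 := d31_2 (iv F237062) D54630 (iv D52959)
theorem F244664 : act 7 n54630 = n53261 := d32_2 (iv F237063) D54630 (iv D53261)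
theorem F244665 : act 8 n54630 = n53545 := d33_2 (iv F237064) D54630 (iv D53545)
def n54631 : Q := act 9 n52956
theorem D54631 : act 9 n52956 = n54631 := rfl
theorem F244666 : act 0 n54631 = n53604 := d8_1 D54631 (iv D53604) (iv F237059)
theorem F244667 : act 1 n54631 = n52991 := d16_1 D54631 (iv D52991) (iv F237060)
theorem F244668 : act 3 n54631 = n52957 := d29_1 D54631 (iv D52957) D52956
theorem F244669 : act 5 n54631 = n54631 := d38_1 D54631 (iv D54631) F237061
theorem F244670 : act 6 n54631 = n52960 := d41_1 D54631 (iv D52960) (iv F237062)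
theorem F244671 : act 7 n54631 = n53262 := d43_1 D54631 (iv D53262) (iv F237063)
def n54632 : Q := act 4 n52958
theorem D54632 : act 4 n52958 = n54632 := rfl
theorem F244672 : act 0 n54632 = n53605 := d3_1 D54632 (iv D53605) (iv F237073)
theorem F244673 : act 1 n54632 = n53624 := d11_1 D54632 F240488 (iv F237074)
theorem F244674 : act 2 n54632 = n52959 := d18_1 D54632 (iv D52959) D52958
theorem F244675 : act 5 n54632 = n53598 := d30_2 (iv F237076) D54632 (iv D53598) F232070 (iv F228636)
theorem F244676 : act 7 n54632 = n52961 := d32_2 (iv F237077) D54632 (iv D52961)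
theorem F244677 : act 8 n54632 = n53577 := d33_2 (iv F237078) D54632 F240277
theorem F244678 : act 3 n54632 = n54259 := d46_3 (iv F228639) (iv F237076) D54632 F242983 (iv F241664) F241663 (iv F237453) (iv D53019) (iv D51139) (iv D49058) F209712 F209711 (iv F212709) (iv D47518) F179512 (iv D42976) F125096 F87397 F61223 F61222 D13968 F61306 F43104 F30404 (iv F43080) (iv F60291) (iv F85993) (iv D19921) (iv F85675) (iv F122535) (iv F175735) F205942 F128419 F89701 F89704 (iv F90457) D30563 F129567 (iv F130597) (iv F187523) (iv F213537) F213542 F213540 F213539 F187520 (iv F190735) (iv F216416) (iv D48428) F190418 F133825 F93398 F66595 F66594 (iv D15248) F46741 (iv F46630) (iv F66432) D22141 D32265 (iv F207117) (iv F217061) (iv F222603)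
def n54633 : Q := act 9 n52958
theorem D54633 : act 9 n52958 = n54633 := rfl
theorem F244679 : act 0 n54633 = n53606 := d8_1 D54633 (iv D53606) (iv F237073)
theorem F244680 : act 1 n54633 = n53630 := d16_1 D54633 (iv D53630) (iv F237074)
theorem F244681 : act 2 n54633 = n52960 := d23_1 D54633 (iv D52960) D52958
theorem F244682 : act 3 n54633 = n54633 := d29_1 D54633 (iv D54633) F237075
theorem F244683 : act 5 n54633 = n52966 := d38_1 D54633 (iv D52966) (iv F237076)
theorem F244684 : act 7 n54633 = n52962 := d43_1 D54633 (iv D52962) (iv F237077)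
def n54634 : Q := act 9 n52959
theorem D54634 : act 9 n52959 = n54634 := rfl
theorem F244685 : act 0 n54634 = n53607 := d8_1 D54634 (iv D53607) (iv F237079)
theorem F244686 : act 1 n54634 = n52992 := d16_1 D54634 (iv D52992) (iv F237080)
theorem F244687 : act 3 n54634 = n54213 := d29_1 D54634 (iv D54213) (iv F237081)
theorem F244688 : act 4 n54634 = n52960 := d34_1 D54634 (iv D52960) D52959
theorem F244689 : act 5 n54634 = n54212 := d38_1 D54634 (iv D54212) (iv F237082)
theorem F244690 : act 7 n54634 = n52964 := d43_1 D54634 (iv D52964) (iv F237083)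
def n54635 : Q := act 8 n52960
theorem D54635 : act 8 n52960 = n54635 := rfl
theorem F244691 : act 0 n54635 = n53608 := d7_1 D54635 (iv D53608) (iv F237084)
theorem F244692 : act 1 n54635 = n52993 := d15_1 D54635 (iv D52993) (iv F237085)
theorem F244693 : act 3 n54635 = n54097 := d28_1 D54635 (iv D54097) F234359 (iv F228618) (iv F237086)
theorem F244694 : act 5 n54635 = n52967 := d37_1 D54635 (iv D52967) (iv F237087)
theorem F244695 : act 7 n54635 = n52965 := d42_1 D54635 (iv D52965) (iv F237088)
def n54636 : Q := act 3 n52961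
theorem D54636 : act 3 n52961 = n54636 := rfl
theorem F244696 : act 0 n54636 = n53609 := d2_1 D54636 (iv D53609) (iv F237089)
theorem F244697 : act 1 n54636 = n53619 := d10_1 D54636 F240462 (iv F237090)
theorem F244698 : act 2 n54636 = n53565 := d17_1 D54636 F240211 (iv F236277) F236278 (iv F237091)
theorem F244699 : act 4 n54636 = n54636 := d24_2 D52961 D54636 (iv D54636) (iv D52961) F228621
theorem F244700 : act 5 n54636 = n53563 := d25_2 (iv F237092) D54636 F240199
theorem F244701 : act 6 n54636 = n53549 := d26_2 (iv F237093) D54636 F240130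
theorem F244702 : act 7 n54636 = n54259 := d27_2 F244676 D54636 (iv F244678)
theorem F244703 : act 8 n54248 = n54636 := d37_0 F244700 F240202 D54248
def n54637 : Q := act 9 n52961
theorem D54637 : act 9 n52961 = n54637 := rfl
theorem F244704 : act 0 n54637 = n53610 := d8_1 D54637 (iv D53610) (iv F237089)
theorem F244705 : act 1 n54637 = n53627 := d16_1 D54637 (iv D53627) (iv F237090)
theorem F244706 : act 2 n54637 = n52964 := d23_1 D54637 (iv D52964) (iv F237091)
theorem F244707 : act 4 n54637 = n52962 := d34_1 D54637 (iv D52962) D52961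
theorem F244708 : act 5 n54637 = n53600 := d38_1 D54637 (iv D53600) (iv F237092)
theorem F244709 : act 6 n54637 = n53557 := d41_1 D54637 (iv D53557) (iv F237093)
def n54638 : Q := act 8 n52962
theorem D54638 : act 8 n52962 = n54638 := rfl
theorem F244710 : act 0 n54638 = n53611 := d7_1 D54638 (iv D53611) (iv F237095)
theorem F244711 : act 1 n54638 = n53632 := d15_1 D54638 (iv D53632) (iv F237096)
theorem F244712 : act 2 n54638 = n52965 := d22_1 D54638 (iv D52965) (iv F237097)
theorem F244713 : act 5 n54638 = n52968 := d37_1 D54638 (iv D52968) (iv F237099)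
theorem F244714 : act 6 n54638 = n53561 := d40_1 D54638 (iv D53561) (iv F237100)
theorem F244715 : act 9 n54638 = n53585 := d44_2 D52962 D54638 (iv D53585) (iv D51745) (iv F228624)
def n54639 : Q := act 9 n52963
theorem D54639 : act 9 n52963 = n54639 := rfl
theorem F244716 : act 0 n54639 = n53578 := d8_1 D54639 (iv D53578) (iv F237101)
theorem F244717 : act 1 n54639 = n52997 := d16_1 D54639 (iv D52997) (iv F237102)
theorem F244718 : act 2 n54639 = n53600 := d23_1 D54639 (iv D53600) (iv F237103)
theorem F244719 : act 3 n54639 = n54205 := d29_1 D54639 (iv D54205) (iv F237104)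
theorem F244720 : act 4 n54639 = n52969 := d34_1 D54639 (iv D52969) (iv F237105)
theorem F244721 : act 5 n54639 = n52964 := d38_1 D54639 (iv D52964) D52963
theorem F244722 : act 6 n54639 = n53538 := d41_1 D54639 (iv D53538) (iv F237106)
theorem F244723 : act 7 n54639 = n54212 := d43_1 D54639 (iv D54212) (iv F237107)
def n54640 : Q := act 8 n52964
theorem D54640 : act 8 n52964 = n54640 := rfl
theorem F244724 : act 0 n54640 = n53612 := d7_1 D54640 (iv D53612) (iv F237109)
theorem F244725 : act 1 n54640 = n52998 := d15_1 D54640 (iv D52998) (iv F237110)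
theorem F244726 : act 4 n54640 = n52965 := d33_1 D54640 (iv D52965) (iv F237111)
theorem F244727 : act 6 n54640 = n53942 := d40_1 D54640 (iv D53942) (iv F237112)
def n54641 : Q := act 8 n52966
theorem D54641 : act 8 n52966 = n54641 := rfl
theorem F244728 : act 0 n54641 = n53613 := d7_1 D54641 (iv D53613) (iv F237118)
theorem F244729 : act 1 n54641 = n53631 := d15_1 D54641 (iv D53631) (iv F237119)
theorem F244730 : act 2 n54641 = n52967 := d22_1 D54641 (iv D52967) (iv F237120)
theorem F244731 : act 4 n54641 = n53602 := d33_1 D54641 (iv D53602) (iv F237122)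
theorem F244732 : act 6 n54641 = n54641 := d40_1 D54641 (iv D54641) F237123
theorem F244733 : act 7 n54641 = n52968 := d42_1 D54641 (iv D52968) (iv F237124)
theorem F244734 : act 9 n54641 = n53588 := d44_2 D52966 D54641 (iv D53588) (iv D51748) (iv F228639)
def n54642 : Q := act 3 n52968
theorem D54642 : act 3 n52968 = n54642 := rfl
theorem F244735 : act 0 n54642 = n53614 := d2_1 D54642 (iv D53614) (iv F237131)
theorem F244736 : act 1 n54642 = n53633 := d10_1 D54642 (iv D53633) (iv F237132)
theorem F244737 : act 2 n54642 = n54102 := d17_1 D54642 (iv D54102) F234399 (iv F228668) (iv F237133)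
theorem F244738 : act 4 n54642 = n54291 := d24_2 (iv F237134) D54642 (iv D54291) F235127 (iv F232094)
theorem F244739 : act 6 n54642 = n52971 := d26_2 (iv F237135) D54642 (iv D52971)
theorem F244740 : act 8 n54642 = n54642 := d28_2 D52968 D54642 (iv D54642) (iv D52968) F228649
theorem F244741 : act 9 n54642 = n53589 := d29_2 (iv F237136) D54642 (iv D53589)
def n54643 : Q := act 8 n52969
theorem D54643 : act 8 n52969 = n54643 := rfl
theorem F244742 : act 0 n54643 = n53585 := d7_1 D54643 (iv D53585) (iv F237137)
theorem F244743 : act 1 n54643 = n53002 := d15_1 D54643 (iv D53002) (iv F237138)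
theorem F244744 : act 2 n54643 = n53601 := d22_1 D54643 (iv D53601) (iv F237139)
theorem F244745 : act 5 n54643 = n52970 := d37_1 D54643 (iv D52970) (iv F237141)
theorem F244746 : act 6 n54643 = n53541 := d40_1 D54643 (iv D53541) (iv F237142)
theorem F244747 : act 7 n54643 = n54239 := d42_1 D54643 (iv D54239) (iv F237143)
theorem F244748 : act 9 n54643 = n53611 := d44_2 D52969 D54643 (iv D53611) (iv D51775) (iv F228658)
def n54644 : Q := act 3 n52970
theorem D54644 : act 3 n52970 = n54644 := rfl
theorem F244749 : act 0 n54644 = n53589 := d2_1 D54644 (iv D53589) (iv F237144)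
theorem F244750 : act 1 n54644 = n53003 := d10_1 D54644 (iv D53003) (iv F237145)
theorem F244751 : act 2 n54644 = n53932 := d17_1 D54644 (iv D53932) F233653 (iv F232094) (iv F237146)
theorem F244752 : act 4 n54644 = n53110 := d24_2 (iv F237147) D54644 (iv D53110) F229353 (iv F228668)
theorem F244753 : act 6 n54644 = n52972 := d26_2 (iv F237148) D54644 (iv D52972)
theorem F244754 : act 7 n54644 = n54446 := d27_2 (iv F237149) D54644 (iv D54446)
theorem F244755 : act 8 n54644 = n52974 := d28_2 D52970 D54644 (iv D52974) (iv D51091) (iv F228662)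
theorem F244756 : act 9 n54644 = n53614 := d29_2 (iv F237150) D54644 (iv D53614)
def n54645 : Q := act 3 n52973
theorem D54645 : act 3 n52973 = n54645 := rfl
theorem F244757 : act 0 n54645 = n53593 := d2_1 D54645 (iv D53593) (iv F237167)
theorem F244758 : act 1 n54645 = n53009 := d10_1 D54645 (iv D53009) (iv F237168)
theorem F244759 : act 2 n54645 = n53934 := d17_1 D54645 (iv D53934) F233676 D52131 (iv F237169)
theorem F244760 : act 5 n54645 = n52974 := d25_2 (iv F237171) D54645 (iv D52974)
theorem F244761 : act 6 n54645 = n53544 := d26_2 (iv F237172) D54645 (iv D53544)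
theorem F244762 : act 7 n54645 = n54240 := d27_2 (iv F237173) D54645 (iv D54240)
theorem F244763 : act 9 n54645 = n54645 := d29_2 F237174 D54645 (iv D54645)
def n54646 : Q := act 5 n52975
theorem D54646 : act 5 n52975 = n54646 := rfl
theorem F244764 : act 0 n54646 = n53019 := d4_1 D54646 (iv D53019) (iv F237182)
theorem F244765 : act 1 n54646 = n53609 := d12_1 D54646 F240416 (iv F237183)
theorem F244766 : act 2 n54646 = n54066 := d19_1 D54646 F242414 (iv F237184)
theorem F244767 : act 3 n54646 = n52981 := d25_1 D54646 (iv D52981) (iv F237185)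
theorem F244768 : act 4 n54646 = n54646 := d30_1 D54646 (iv D54646) (iv D52975) F228707 D52975
theorem F244769 : act 6 n54646 = n54275 := d35_2 (iv F237186) D54646 (iv D54275) F235071 (iv F233570)
theorem F244770 : act 7 n54646 = n54193 := d36_2 F244176 D54646 F244178
theorem F244771 : act 8 n54646 = n53893 := d37_2 (iv F237187) D54646 (iv D53893)
def n54647 : Q := act 9 n52975
theorem D54647 : act 9 n52975 = n54647 := rfl
theorem F244772 : act 0 n54647 = n53020 := d8_1 D54647 (iv D53020) (iv F237182)
theorem F244773 : act 1 n54647 = n54254 := d16_1 D54647 (iv D54254) (iv F237183)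
theorem F244774 : act 2 n54647 = n54068 := d23_1 D54647 (iv D54068) (iv F237184)
theorem F244775 : act 3 n54647 = n52982 := d29_1 D54647 (iv D52982) (iv F237185)
theorem F244776 : act 4 n54647 = n52976 := d34_1 D54647 (iv D52976) D52975
theorem F244777 : act 6 n54647 = n53917 := d41_1 D54647 (iv D53917) (iv F237186)
def n54648 : Q := act 8 n52976
theorem D54648 : act 8 n52976 = n54648 := rfl
theorem F244778 : act 0 n54648 = n53021 := d7_1 D54648 (iv D53021) (iv F237188)
theorem F244779 : act 1 n54648 = n54255 := d15_1 D54648 (iv D54255) (iv F237189)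
theorem F244780 : act 2 n54648 = n54113 := d22_1 D54648 (iv D54113) (iv F237190)
theorem F244781 : act 3 n54648 = n54011 := d28_1 D54648 (iv D54011) F234063 (iv F228717) (iv F237191)
theorem F244782 : act 5 n54648 = n54648 := d37_1 D54648 (iv D54648) F237192
theorem F244783 : act 6 n54648 = n53918 := d40_1 D54648 (iv D53918) (iv F237193)
theorem F244784 : act 9 n54648 = n53912 := d44_2 D52976 D54648 (iv D53912) (iv D52094) (iv F228709)
def n54649 : Q := act 9 n52977
theorem D54649 : act 9 n52977 = n54649 := rfl
theorem F244785 : act 0 n54649 = n53028 := d8_1 D54649 (iv D53028) (iv F237194)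
theorem F244786 : act 2 n54649 = n54395 := d23_1 D54649 (iv D54395) (iv F237195)
theorem F244787 : act 4 n54649 = n52978 := d34_1 D54649 (iv D52978) D52977
theorem F244788 : act 5 n54649 = n54216 := d38_1 D54649 (iv D54216) (iv F237196)
theorem F244789 : act 7 n54649 = n52982 := d43_1 D54649 (iv D52982) (iv F237197)
def n54650 : Q := act 8 n52978
theorem D54650 : act 8 n52978 = n54650 := rfl
theorem F244790 : act 0 n54650 = n53029 := d7_1 D54650 (iv D53029) (iv F237199)
theorem F244791 : act 2 n54650 = n54454 := d22_1 D54650 (iv D54454) (iv F237200)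
theorem F244792 : act 3 n54650 = n54367 := d28_1 D54650 (iv D54367) F235369 (iv F228727) (iv F237201)
theorem F244793 : act 5 n54650 = n52984 := d37_1 D54650 (iv D52984) (iv F237202)
theorem F244794 : act 7 n54650 = n52983 := d42_1 D54650 (iv D52983) (iv F237203)
theorem F244795 : act 9 n54650 = n52993 := d44_2 D52978 D54650 (iv D52993) (iv D51110) (iv F228721)
def n54651 : Q := act 3 n52979
theorem D54651 : act 3 n52979 = n54651 := rfl
theorem F244796 : act 0 n54651 = n53032 := d2_1 D54651 (iv D53032) (iv F237204)
theorem F244797 : act 1 n54651 = n53650 := d10_1 D54651 F240613 (iv F237205)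
theorem F244798 : act 2 n54651 = n54023 := d17_1 D54651 F242251 (iv F237184) F237185 (iv F237206)
theorem F244799 : act 4 n54651 = n54651 := d24_2 D52979 D54651 (iv D54651) (iv D52979) F228730
theorem F244800 : act 5 n54651 = n53647 := d25_2 (iv F237207) D54651 (iv D53647)
theorem F244801 : act 6 n54651 = n53943 := d26_2 (iv F237208) D54651 (iv D53943)
theorem F244802 : act 7 n54651 = n54347 := d27_2 (iv F237209) D54651 F243235
theorem F244803 : act 8 n54651 = n54004 := d28_2 (iv F237210) D54651 (iv D54004) F234040 (iv F228812)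
def n54652 : Q := act 9 n52979
theorem D54652 : act 9 n52979 = n54652 := rfl
theorem F244804 : act 0 n54652 = n53034 := d8_1 D54652 (iv D53034) (iv F237204)
theorem F244805 : act 1 n54652 = n53653 := d16_1 D54652 (iv D53653) (iv F237205)
theorem F244806 : act 2 n54652 = n52982 := d23_1 D54652 (iv D52982) (iv F237206)
theorem F244807 : act 4 n54652 = n52980 := d34_1 D54652 (iv D52980) D52979
theorem F244808 : act 5 n54652 = n53648 := d38_1 D54652 (iv D53648) (iv F237207)
theorem F244809 : act 6 n54652 = n53944 := d41_1 D54652 (iv D53944) (iv F237208)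
theorem F244810 : act 7 n54652 = n54395 := d43_1 D54652 (iv D54395) (iv F237209)
def n54653 : Q := act 8 n52980
theorem D54653 : act 8 n52980 = n54653 := rfl
theorem F244811 : act 0 n54653 = n53035 := d7_1 D54653 (iv D53035) (iv F237211)
theorem F244812 : act 1 n54653 = n53663 := d15_1 D54653 (iv D53663) (iv F237212)
theorem F244813 : act 2 n54653 = n52983 := d22_1 D54653 (iv D52983) (iv F237213)
theorem F244814 : act 5 n54653 = n52985 := d37_1 D54653 (iv D52985) (iv F237215)
theorem F244815 : act 6 n54653 = n53945 := d40_1 D54653 (iv D53945) (iv F237216)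
theorem F244816 : act 7 n54653 = n54454 := d42_1 D54653 (iv D54454) (iv F237217)
theorem F244817 : act 9 n54653 = n52995 := d44_2 D52980 D54653 (iv D52995) (iv D51112) (iv F228734)
def n54654 : Q := act 9 n52981
theorem D54654 : act 9 n52981 = n54654 := rfl
theorem F244818 : act 0 n54654 = n53037 := d8_1 D54654 (iv D53037) (iv F237218)
theorem F244819 : act 1 n54654 = n53610 := d16_1 D54654 (iv D53610) (iv F237219)
theorem F244820 : act 2 n54654 = n53648 := d23_1 D54654 (iv D53648) (iv F237220)
theorem F244821 : act 4 n54654 = n52986 := d34_1 D54654 (iv D52986) (iv F237221)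
theorem F244822 : act 5 n54654 = n52982 := d38_1 D54654 (iv D52982) D52981
theorem F244823 : act 6 n54654 = n54277 := d41_1 D54654 (iv D54277) (iv F237222)
theorem F244824 : act 7 n54654 = n54216 := d43_1 D54654 (iv D54216) (iv F237223)
def n54655 : Q := act 8 n52982
theorem D54655 : act 8 n52982 = n54655 := rfl
theorem F244825 : act 0 n54655 = n53038 := d7_1 D54655 (iv D53038) (iv F237225)
theorem F244826 : act 4 n54655 = n52983 := d33_1 D54655 (iv D52983) (iv F237226)
theorem F244827 : act 6 n54655 = n53946 := d40_1 D54655 (iv D53946) (iv F237227)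
theorem F244828 : act 9 n54655 = n52998 := d44_2 D52982 D54655 (iv D52998) (iv D51114) (iv F228737)
def n54656 : Q := act 3 n52985
theorem D54656 : act 3 n52985 = n54656 := rfl
theorem F244829 : act 0 n54656 = n53047 := d2_1 D54656 (iv D53047) (iv F237240)
theorem F244830 : act 1 n54656 = n53664 := d10_1 D54656 (iv D53664) (iv F237241)
theorem F244831 : act 2 n54656 = n54370 := d17_1 D54656 (iv D54370) F235383 (iv F228770) (iv F237242)
theorem F244832 : act 4 n54656 = n54363 := d24_2 (iv F237243) D54656 (iv D54363) F235352 (iv F232338)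
theorem F244833 : act 6 n54656 = n52988 := d26_2 (iv F237244) D54656 (iv D52988)
theorem F244834 : act 7 n54656 = n54456 := d27_2 (iv F237245) D54656 (iv D54456)
theorem F244835 : act 8 n54656 = n54656 := d28_2 D52985 D54656 (iv D54656) (iv D52985) F228751
theorem F244836 : act 9 n54656 = n52999 := d29_2 (iv F237246) D54656 (iv D52999)
def n54657 : Q := act 8 n52986
theorem D54657 : act 8 n52986 = n54657 := rfl
theorem F244837 : act 0 n54657 = n53050 := d7_1 D54657 (iv D53050) (iv F237247)
theorem F244838 : act 1 n54657 = n53611 := d15_1 D54657 (iv D53611) (iv F237248)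
theorem F244839 : act 2 n54657 = n53649 := d22_1 D54657 (iv D53649) (iv F237249)
theorem F244840 : act 5 n54657 = n52987 := d37_1 D54657 (iv D52987) (iv F237251)
theorem F244841 : act 6 n54657 = n54290 := d40_1 D54657 (iv D54290) (iv F237252)
theorem F244842 : act 7 n54657 = n54242 := d42_1 D54657 (iv D54242) (iv F237253)
theorem F244843 : act 9 n54657 = n53002 := d44_2 D52986 D54657 (iv D53002) (iv D51119) (iv F228761)
def n54658 : Q := act 3 n52987
theorem D54658 : act 3 n52987 = n54658 := rfl
theorem F244844 : act 0 n54658 = n53051 := d2_1 D54658 (iv D53051) (iv F237254)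
theorem F244845 : act 1 n54658 = n53614 := d10_1 D54658 (iv D53614) (iv F237255)
theorem F244846 : act 2 n54658 = n54035 := d17_1 D54658 (iv D54035) F234144 (iv F232338) (iv F237256)
theorem F244847 : act 4 n54658 = n53744 := d24_2 (iv F237257) D54658 (iv D53744) F232652 (iv F228770)
theorem F244848 : act 6 n54658 = n52989 := d26_2 (iv F237258) D54658 (iv D52989)
theorem F244849 : act 7 n54658 = n54447 := d27_2 (iv F237259) D54658 (iv D54447)
theorem F244850 : act 8 n54658 = n54658 := d28_2 D52987 D54658 (iv D54658) (iv D52987) F228765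
theorem F244851 : act 9 n54658 = n53003 := d29_2 (iv F237260) D54658 (iv D53003)
def n54659 : Q := act 5 n52990
theorem D54659 : act 5 n52990 = n54659 := rfl
theorem F244852 : act 0 n54659 = n53058 := d4_1 D54659 (iv D53058) (iv F237277)
theorem F244853 : act 2 n54659 = n53781 := d19_1 D54659 F241179 (iv F237278)
theorem F244854 : act 3 n54659 = n53465 := d25_1 D54659 F239756 (iv F237279)
theorem F244855 : act 4 n54659 = n54659 := d30_1 D54659 (iv D54659) (iv D52990) F228789 D52990
theorem F244856 : act 6 n54659 = n53462 := d35_2 (iv F237280) D54659 (iv D53462) F231360 (iv F228802)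
theorem F244857 : act 7 n54659 = n53952 := d36_2 (iv F237281) D54659 (iv D53952)
def n54660 : Q := act 9 n52990
theorem D54660 : act 9 n52990 = n54660 := rfl
theorem F244858 : act 0 n54660 = n53059 := d8_1 D54660 (iv D53059) (iv F237277)
theorem F244859 : act 2 n54660 = n54394 := d23_1 D54660 (iv D54394) (iv F237278)
theorem F244860 : act 3 n54660 = n54218 := d29_1 D54660 (iv D54218) (iv F237279)
theorem F244861 : act 4 n54660 = n52991 := d34_1 D54660 (iv D52991) D52990
theorem F244862 : act 6 n54660 = n52992 := d41_1 D54660 (iv D52992) (iv F237280)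
theorem F244863 : act 7 n54660 = n53953 := d43_1 D54660 (iv D53953) (iv F237281)
def n54661 : Q := act 8 n52991
theorem D54661 : act 8 n52991 = n54661 := rfl
theorem F244864 : act 0 n54661 = n53060 := d7_1 D54661 (iv D53060) (iv F237282)
theorem F244865 : act 2 n54661 = n54453 := d22_1 D54661 (iv D54453) (iv F237283)
theorem F244866 : act 3 n54661 = n54416 := d28_1 D54661 (iv D54416) F235520 (iv F228798) (iv F237284)
theorem F244867 : act 5 n54661 = n54661 := d37_1 D54661 (iv D54661) F237285
theorem F244868 : act 6 n54661 = n52993 := d40_1 D54661 (iv D52993) (iv F237286)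
theorem F244869 : act 7 n54661 = n53954 := d42_1 D54661 (iv D53954) (iv F237287)
def n54662 : Q := act 8 n52992
theorem D54662 : act 8 n52992 = n54662 := rfl
theorem F244870 : act 0 n54662 = n53068 := d7_1 D54662 (iv D53068) (iv F237288)
theorem F244871 : act 2 n54662 = n54396 := d22_1 D54662 (iv D54396) (iv F237289)
theorem F244872 : act 4 n54662 = n52993 := d33_1 D54662 (iv D52993) (iv F237291)
theorem F244873 : act 5 n54662 = n54217 := d37_1 D54662 (iv D54217) (iv F237292)
theorem F244874 : act 7 n54662 = n52998 := d42_1 D54662 (iv D52998) (iv F237293)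
def n54663 : Q := act 8 n52994
theorem D54663 : act 8 n52994 = n54663 := rfl
theorem F244875 : act 0 n54663 = n53079 := d7_1 D54663 (iv D53079) (iv F237299)
theorem F244876 : act 1 n54663 = n54404 := d15_1 D54663 F243391 (iv F237300)
theorem F244877 : act 2 n54663 = n52998 := d22_1 D54663 (iv D52998) (iv F237301)
theorem F244878 : act 4 n54663 = n52995 := d33_1 D54663 (iv D52995) (iv F237303)
theorem F244879 : act 5 n54663 = n54378 := d37_1 D54663 (iv D54378) (iv F237304)
theorem F244880 : act 6 n54663 = n53969 := d40_1 D54663 (iv D53969) (iv F237305)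
theorem F244881 : act 7 n54663 = n54396 := d42_1 D54663 (iv D54396) (iv F237306)
def n54664 : Q := act 3 n52995
theorem D54664 : act 3 n52995 = n54664 := rfl
theorem F244882 : act 0 n54664 = n53080 := d2_1 D54664 (iv D53080) (iv F237307)
theorem F244883 : act 1 n54664 = n54424 := d10_1 D54664 F243444 (iv F237308)
theorem F244884 : act 2 n54664 = n54422 := d17_1 D54664 (iv D54422) F235545 (iv F228832) (iv F237309)
theorem F244885 : act 5 n54664 = n52999 := d25_2 (iv F237310) D54664 (iv D52999)
theorem F244886 : act 6 n54664 = n53970 := d26_2 (iv F237311) D54664 (iv D53970)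
theorem F244887 : act 7 n54664 = n54455 := d27_2 (iv F237312) D54664 (iv D54455)
theorem F244888 : act 8 n54664 = n53012 := d28_2 D52995 D54664 (iv D53012) (iv D51134) (iv F228819)
def n54665 : Q := act 7 n52996
theorem D54665 : act 7 n52996 = n54665 := rfl
theorem F244889 : act 0 n54665 = n53081 := d6_1 D54665 (iv D53081) (iv F237313)
theorem F244890 : act 1 n54665 = n53289 := d14_1 D54665 F238943 (iv F237314)
theorem F244891 : act 2 n54665 = n53749 := d21_1 D54665 F241062 (iv F237315)
theorem F244892 : act 3 n54665 = n53287 := d27_1 D54665 F238931 (iv F237316)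
theorem F244893 : act 4 n54665 = n53000 := d32_1 D54665 (iv D53000) (iv F237317)
theorem F244894 : act 5 n54665 = n53524 := d36_1 D54665 F240002 (iv F237318)
theorem F244895 : act 6 n54665 = n53450 := d39_1 D54665 F239691 F231360 (iv F228827) D52996
theorem F244896 : act 8 n54665 = n54265 := d42_2 (iv F237319) D54665 F243002
def n54666 : Q := act 9 n52996
theorem D54666 : act 9 n52996 = n54666 := rfl
theorem F244897 : act 0 n54666 = n53082 := d8_1 D54666 (iv D53082) (iv F237313)
theorem F244898 : act 1 n54666 = n53538 := d16_1 D54666 (iv D53538) (iv F237314)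
theorem F244899 : act 2 n54666 = n53849 := d23_1 D54666 F241436 (iv F237315)
theorem F244900 : act 3 n54666 = n54201 := d29_1 D54666 (iv D54201) (iv F237316)
theorem F244901 : act 4 n54666 = n53001 := d34_1 D54666 (iv D53001) (iv F237317)
theorem F244902 : act 5 n54666 = n53528 := d38_1 D54666 (iv D53528) (iv F237318)
theorem F244903 : act 6 n54666 = n52997 := d41_1 D54666 (iv D52997) D52996
def n54667 : Q := act 8 n52997
theorem D54667 : act 8 n52997 = n54667 := rfl
theorem F244904 : act 0 n54667 = n53083 := d7_1 D54667 (iv D53083) (iv F237320)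
theorem F244905 : act 2 n54667 = n54378 := d22_1 D54667 (iv D54378) (iv F237321)
theorem F244906 : act 4 n54667 = n53002 := d33_1 D54667 (iv D53002) (iv F237323)
theorem F244907 : act 5 n54667 = n52998 := d37_1 D54667 (iv D52998) (iv F237324)
theorem F244908 : act 7 n54667 = n54217 := d42_1 D54667 (iv D54217) (iv F237325)
def n54668 : Q := act 3 n52998
theorem D54668 : act 3 n52998 = n54668 := rfl
theorem F244909 : act 0 n54668 = n53084 := d2_1 D54668 (iv D53084) (iv F237326)
theorem F244910 : act 4 n54668 = n54406 := d24_2 (iv F237327) D54668 (iv D54406) F235487 (iv F228832)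
theorem F244911 : act 6 n54668 = n53972 := d26_2 (iv F237328) D54668 (iv D53972)
def n54669 : Q := act 9 n53000
theorem D54669 : act 9 n53000 = n54669 := rfl
theorem F244912 : act 0 n54669 = n53100 := d8_1 D54669 (iv D53100) (iv F237336)
theorem F244913 : act 1 n54669 = n53314 := d16_1 D54669 (iv D53314) (iv F237337)
theorem F244914 : act 2 n54669 = n53843 := d23_1 D54669 (iv D53843) (iv F237338)
theorem F244915 : act 3 n54669 = n53007 := d29_1 D54669 (iv D53007) (iv F237339)
theorem F244916 : act 5 n54669 = n53004 := d38_1 D54669 (iv D53004) (iv F237340)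
theorem F244917 : act 6 n54669 = n53506 := d41_1 D54669 (iv D53506) (iv F237341)
theorem F244918 : act 7 n54669 = n53001 := d43_1 D54669 (iv D53001) D53000
def n54670 : Q := act 8 n53001
theorem D54670 : act 8 n53001 = n54670 := rfl
theorem F244919 : act 0 n54670 = n53101 := d7_1 D54670 (iv D53101) (iv F237343)
theorem F244920 : act 1 n54670 = n53541 := d15_1 D54670 (iv D53541) (iv F237344)
theorem F244921 : act 2 n54670 = n53780 := d22_1 D54670 F241175 (iv F237345)
theorem F244922 : act 5 n54670 = n53005 := d37_1 D54670 (iv D53005) (iv F237347)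
theorem F244923 : act 6 n54670 = n53002 := d40_1 D54670 (iv D53002) (iv F237348)
theorem F244924 : act 9 n54670 = n54290 := d44_2 D53001 D54670 (iv D54290) (iv D52538) (iv F228852)
def n54671 : Q := act 3 n53002
theorem D54671 : act 3 n53002 = n54671 := rfl
theorem F244925 : act 0 n54671 = n53102 := d2_1 D54671 (iv D53102) (iv F237349)
theorem F244926 : act 2 n54671 = n54064 := d17_1 D54671 (iv D54064) F234245 D52655 (iv F237350)
theorem F244927 : act 5 n54671 = n53003 := d25_2 (iv F237351) D54671 (iv D53003)
theorem F244928 : act 7 n54671 = n54243 := d27_2 (iv F237352) D54671 (iv D54243)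
theorem F244929 : act 8 n54671 = n53009 := d28_2 D53002 D54671 (iv D53009) (iv D51128) (iv F228855)
def n54672 : Q := act 8 n53004
theorem D54672 : act 8 n53004 = n54672 := rfl
theorem F244930 : act 0 n54672 = n53109 := d7_1 D54672 (iv D53109) (iv F237359)
theorem F244931 : act 1 n54672 = n53540 := d15_1 D54672 (iv D53540) (iv F237360)
theorem F244932 : act 2 n54672 = n53798 := d22_1 D54672 F241231 (iv F237361)
theorem F244933 : act 4 n54672 = n53531 := d33_1 D54672 (iv D53531) (iv F237363)
theorem F244934 : act 6 n54672 = n54672 := d40_1 D54672 (iv D54672) F237364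
theorem F244935 : act 7 n54672 = n53005 := d42_1 D54672 (iv D53005) (iv F237365)
theorem F244936 : act 9 n54672 = n54286 := d44_2 D53004 D54672 (iv D54286) (iv D52532) (iv F228876)
def n54673 : Q := act 3 n53005
theorem D54673 : act 3 n53005 = n54673 := rfl
theorem F244937 : act 0 n54673 = n53110 := d2_1 D54673 (iv D53110) (iv F237366)
theorem F244938 : act 1 n54673 = n53542 := d10_1 D54673 (iv D53542) (iv F237367)
theorem F244939 : act 2 n54673 = n53095 := d17_1 D54673 (iv D53095) F229270 D51946 (iv F237368)
theorem F244940 : act 4 n54673 = n53589 := d24_2 (iv F237369) D54673 (iv D53589) F232002 (iv F231697)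
theorem F244941 : act 6 n54673 = n53006 := d26_2 (iv F237370) D54673 (iv D53006)
theorem F244942 : act 8 n54673 = n53011 := d28_2 D53005 D54673 (iv D53011) (iv D51131) (iv F228880)
theorem F244943 : act 9 n54673 = n54291 := d29_2 (iv F237371) D54673 (iv D54291)
def n54674 : Q := act 8 n53007
theorem D54674 : act 8 n53007 = n54674 := rfl
theorem F244944 : act 0 n54674 = n53116 := d7_1 D54674 (iv D53116) (iv F237380)
theorem F244945 : act 1 n54674 = n53315 := d15_1 D54674 (iv D53315) (iv F237381)
theorem F244946 : act 2 n54674 = n53144 := d22_1 D54674 F238122 (iv F237382)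
theorem F244947 : act 4 n54674 = n53313 := d33_1 D54674 (iv D53313) (iv F237383)
theorem F244948 : act 5 n54674 = n53010 := d37_1 D54674 (iv D53010) (iv F237384)
theorem F244949 : act 6 n54674 = n53507 := d40_1 D54674 (iv D53507) (iv F237385)
theorem F244950 : act 7 n54674 = n53008 := d42_1 D54674 (iv D53008) (iv F237386)
theorem F244951 : act 9 n54674 = n54674 := d44_2 D53007 D54674 (iv D54674) (iv D53007) F228901
def n54675 : Q := act 3 n53008
theorem D54675 : act 3 n53008 = n54675 := rfl
theorem F244952 : act 0 n54675 = n53117 := d2_1 D54675 (iv D53117) (iv F237387)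
theorem F244953 : act 1 n54675 = n53544 := d10_1 D54675 (iv D53544) (iv F237388)
theorem F244954 : act 2 n54675 = n53132 := d17_1 D54675 (iv D53132) F229465 D51256 (iv F237389)
theorem F244955 : act 5 n54675 = n53011 := d25_2 (iv F237391) D54675 (iv D53011)
theorem F244956 : act 6 n54675 = n53009 := d26_2 (iv F237392) D54675 (iv D53009)
theorem F244957 : act 9 n54675 = n54675 := d29_2 F237393 D54675 (iv D54675)
def n54676 : Q := act 4 n53009
theorem D54676 : act 4 n53009 = n54676 := rfl
theorem F244958 : act 0 n54676 = n53119 := d3_1 D54676 (iv D53119) (iv F237394)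
theorem F244959 : act 2 n54676 = n54112 := d18_1 D54676 (iv D54112) (iv F237395)
theorem F244960 : act 3 n54676 = n54237 := d24_1 D54676 (iv D54237) (iv D52475) (iv F228910) D53009
theorem F244961 : act 5 n54676 = n53838 := d30_2 (iv F237396) D54676 (iv D53838) F232929 (iv F228916)
theorem F244962 : act 7 n54676 = n54244 := d32_2 (iv F237397) D54676 (iv D54244)
theorem F244963 : act 9 n54676 = n54676 := d34_2 F237398 D54676 (iv D54676)
def n54677 : Q := act 3 n53010
theorem D54677 : act 3 n53010 = n54677 := rfl
theorem F244964 : act 0 n54677 = n53121 := d2_1 D54677 (iv D53121) (iv F237399)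
theorem F244965 : act 1 n54677 = n53543 := d10_1 D54677 (iv D53543) (iv F237400)
theorem F244966 : act 2 n54677 = n53138 := d17_1 D54677 (iv D53138) F229498 D51258 (iv F237401)
theorem F244967 : act 4 n54677 = n53596 := d24_2 (iv F237402) D54677 (iv D53596) F232047 (iv F228941)
theorem F244968 : act 6 n54677 = n54677 := d26_2 F237403 D54677 (iv D54677)
theorem F244969 : act 7 n54677 = n53011 := d27_2 (iv F237404) D54677 (iv D53011)
theorem F244970 : act 9 n54677 = n54677 := d29_2 F237405 D54677 (iv D54677)
def n54678 : Q := act 4 n53012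
theorem D54678 : act 4 n53012 = n54678 := rfl
theorem F244971 : act 0 n54678 = n53136 := d3_1 D54678 (iv D53136) (iv F237412)
theorem F244972 : act 1 n54678 = n54468 := d11_1 D54678 F243597 (iv F237413)
theorem F244973 : act 2 n54678 = n54467 := d18_1 D54678 (iv D54467) (iv F237414)
theorem F244974 : act 3 n54678 = n54463 := d24_1 D54678 (iv D54463) (iv D52756) (iv F228949) D53012
theorem F244975 : act 5 n54678 = n54466 := d30_2 (iv F237415) D54678 (iv D54466) F235813 (iv F228957)
theorem F244976 : act 6 n54678 = n53995 := d31_2 (iv F237416) D54678 (iv D53995)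
theorem F244977 : act 7 n54678 = n54459 := d32_2 (iv F237417) D54678 (iv D54459)
theorem F244978 : act 9 n54678 = n54678 := d34_2 F237418 D54678 (iv D54678)
def n54679 : Q := act 1 n53013
theorem D54679 : act 1 n53013 = n54679 := rfl
theorem F244979 : act 0 n54679 = n53409 := d0_1 D54679 (iv D53409) (iv F239184) F239185 (iv F237419)
theorem F244980 : act 2 n54679 = n53683 := d9_2 D53013 D54679 (iv D53683) (iv D51847) (iv F228961)
theorem F244981 : act 3 n54679 = n54679 := d10_2 F237420 D54679 (iv D54679)
theorem F244982 : act 5 n54679 = n54679 := d12_2 F237421 D54679 (iv D54679)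
theorem F244983 : act 6 n54679 = n54079 := d13_2 (iv F237422) D54679 F242438
theorem F244984 : act 7 n54679 = n53016 := d14_2 (iv F237423) D54679 (iv D53016)
theorem F244985 : act 8 n54679 = n53689 := d15_2 (iv F237424) D54679 F240793
def n54680 : Q := act 4 n53013
theorem D54680 : act 4 n53013 = n54680 := rfl
theorem F244986 : act 0 n54680 = n54048 := d3_1 D54680 F242350 (iv F237419)
theorem F244987 : act 2 n54680 = n53014 := d18_1 D54680 (iv D53014) D53013
theorem F244988 : act 6 n54680 = n54351 := d31_2 (iv F237422) D54680 F243245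
theorem F244989 : act 7 n54680 = n53017 := d32_2 (iv F237423) D54680 (iv D53017)
theorem F244990 : act 8 n54680 = n53957 := d33_2 (iv F237424) D54680 F241957
def n54681 : Q := act 9 n53013
theorem D54681 : act 9 n53013 = n54681 := rfl
theorem F244991 : act 0 n54681 = n54105 := d8_1 D54681 (iv D54105) (iv F237419)
theorem F244992 : act 2 n54681 = n53015 := d23_1 D54681 (iv D53015) D53013
theorem F244993 : act 3 n54681 = n54681 := d29_1 D54681 (iv D54681) F237420
theorem F244994 : act 5 n54681 = n54681 := d38_1 D54681 (iv D54681) F237421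
theorem F244995 : act 6 n54681 = n54364 := d41_1 D54681 (iv D54364) (iv F237422)
theorem F244996 : act 7 n54681 = n53018 := d43_1 D54681 (iv D53018) (iv F237423)
def n54682 : Q := act 5 n53014
theorem D54682 : act 5 n53014 = n54682 := rfl
theorem F244997 : act 0 n54682 = n54193 := d4_1 D54682 F244178 F244171
theorem F244998 : act 1 n54682 = n53686 := d12_1 D54682 (iv D53686) (iv F237425)
theorem F244999 : act 3 n54682 = n53027 := d25_1 D54682 (iv D53027) (iv F237426)
theorem F245000 : act 4 n54682 = n54682 := d30_1 D54682 (iv D54682) (iv D53014) F228962 D53014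
theorem F245001 : act 7 n54682 = n53019 := d36_2 (iv F237428) D54682 (iv D53019)
theorem F245002 : act 8 n54682 = n54176 := d37_2 (iv F237429) D54682 F242770
def n54683 : Q := act 9 n53014
theorem D54683 : act 9 n53014 = n54683 := rfl
theorem F245003 : act 1 n54683 = n53687 := d16_1 D54683 (iv D53687) (iv F237425)
theorem F245004 : act 3 n54683 = n53028 := d29_1 D54683 (iv D53028) (iv F237426)
theorem F245005 : act 4 n54683 = n53015 := d34_1 D54683 (iv D53015) D53014
theorem F245006 : act 6 n54683 = n54355 := d41_1 D54683 (iv D54355) (iv F237427)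
theorem F245007 : act 7 n54683 = n53020 := d43_1 D54683 (iv D53020) (iv F237428)
def n54684 : Q := act 8 n53015
theorem D54684 : act 8 n53015 = n54684 := rfl
theorem F245008 : act 1 n54684 = n53688 := d15_1 D54684 (iv D53688) (iv F237430)
theorem F245009 : act 5 n54684 = n54684 := d37_1 D54684 (iv D54684) F237432
theorem F245010 : act 6 n54684 = n54367 := d40_1 D54684 (iv D54367) (iv F237433)
theorem F245011 : act 7 n54684 = n53021 := d42_1 D54684 (iv D53021) (iv F237434)
theorem F245012 : act 9 n54684 = n54416 := d44_2 D53015 D54684 (iv D54416) (iv D52678) (iv F228965)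
def n54685 : Q := act 0 n53016
theorem D54685 : act 0 n53016 = n54685 := rfl
theorem F245013 : act 1 n54685 = n53406 := d0_2 D53016 D54685 F239511 F234434 (iv F228972)
theorem F245014 : act 2 n54685 = n53689 := d1_2 (iv F237435) D54685 (iv D53689)
theorem F245015 : act 3 n54685 = n54685 := d2_2 F237436 D54685 (iv D54685)
theorem F245016 : act 5 n54685 = n54685 := d4_2 F237437 D54685 (iv D54685)
theorem F245017 : act 6 n54685 = n54001 := d5_2 (iv F237438) D54685 (iv D54001)
theorem F245018 : act 7 n54685 = n53409 := d6_2 F244984 D54685 (iv F244979)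
theorem F245019 : act 8 n54685 = n53683 := d7_2 (iv F237439) D54685 F240771
def n54686 : Q := act 4 n53016
theorem D54686 : act 4 n53016 = n54686 := rfl
theorem F245020 : act 1 n54686 = n53017 := d11_1 D54686 (iv D53017) D53016
theorem F245021 : act 2 n54686 = n53690 := d18_1 D54686 (iv D53690) (iv F237435)
theorem F245022 : act 6 n54686 = n54002 := d31_2 (iv F237438) D54686 (iv D54002)
theorem F245023 : act 8 n54686 = n53963 := d33_2 (iv F237439) D54686 F241983
def n54687 : Q := act 9 n53016
theorem D54687 : act 9 n53016 = n54687 := rfl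
theorem F245024 : act 1 n54687 = n53018 := d16_1 D54687 (iv D53018) D53016
theorem F245025 : act 2 n54687 = n53691 := d23_1 D54687 (iv D53691) (iv F237435)
theorem F245026 : act 3 n54687 = n54687 := d29_1 D54687 (iv D54687) F237436
theorem F245027 : act 5 n54687 = n54687 := d38_1 D54687 (iv D54687) F237437
theorem F245028 : act 6 n54687 = n54003 := d41_1 D54687 (iv D54003) (iv F237438)
def n54688 : Q := act 3 n53017
theorem D54688 : act 3 n53017 = n54688 := rfl
theorem F245029 : act 0 n54688 = n54023 := d2_1 D54688 F242251 (iv F237440)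
theorem F245030 : act 2 n54688 = n53032 := d17_1 D54688 (iv D53032) F229014 (iv F228978) (iv F237441)
theorem F245031 : act 4 n54688 = n54688 := d24_2 D53017 D54688 (iv D54688) (iv D53017) F228973
theorem F245032 : act 6 n54688 = n54004 := d26_2 (iv F237442) D54688 (iv D54004)
theorem F245033 : act 8 n54688 = n53943 := d28_2 (iv F237443) D54688 (iv D53943) F233759 D52157
def n54689 : Q := act 5 n53017
theorem D54689 : act 5 n53017 = n54689 := rfl
theorem F245034 : act 0 n54689 = n54066 := d4_1 D54689 F242414 (iv F237440)
theorem F245035 : act 2 n54689 = n53019 := d19_1 D54689 (iv D53019) (iv F237441)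
theorem F245036 : act 4 n54689 = n54689 := d30_1 D54689 (iv D54689) (iv D53017) F228974 D53017
theorem F245037 : act 6 n54689 = n54329 := d35_2 (iv F237442) D54689 (iv D54329) F235255 (iv F234038)
theorem F245038 : act 8 n54689 = n53966 := d37_2 (iv F237443) D54689 (iv D53966)
def n54690 : Q := act 9 n53017
theorem D54690 : act 9 n53017 = n54690 := rfl
theorem F245039 : act 0 n54690 = n54068 := d8_1 D54690 (iv D54068) (iv F237440)
theorem F245040 : act 2 n54690 = n53020 := d23_1 D54690 (iv D53020) (iv F237441)
theorem F245041 : act 4 n54690 = n53018 := d34_1 D54690 (iv D53018) D53017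
theorem F245042 : act 6 n54690 = n54005 := d41_1 D54690 (iv D54005) (iv F237442)
def n54691 : Q := act 8 n53018
theorem D54691 : act 8 n53018 = n54691 := rfl
theorem F245043 : act 0 n54691 = n54113 := d7_1 D54691 (iv D54113) (iv F237444)
theorem F245044 : act 2 n54691 = n53021 := d22_1 D54691 (iv D53021) (iv F237445)
theorem F245045 : act 5 n54691 = n54691 := d37_1 D54691 (iv D54691) F237447
theorem F245046 : act 6 n54691 = n54006 := d40_1 D54691 (iv D54006) (iv F237448)
theorem F245047 : act 9 n54691 = n53993 := d44_2 D53018 D54691 (iv D53993) (iv D52189) (iv F228976)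
def n54692 : Q := act 9 n53019
theorem D54692 : act 9 n53019 = n54692 := rfl
theorem F245048 : act 1 n54692 = n53697 := d16_1 D54692 (iv D53697) (iv F237449)
theorem F245049 : act 3 n54692 = n53037 := d29_1 D54692 (iv D53037) (iv F237450)
theorem F245050 : act 4 n54692 = n54692 := d34_1 D54692 (iv D54692) F237451
theorem F245051 : act 5 n54692 = n53020 := d38_1 D54692 (iv D53020) D53019
theorem F245052 : act 6 n54692 = n54332 := d41_1 D54692 (iv D54332) (iv F237452)
def n54693 : Q := act 8 n53020
theorem D54693 : act 8 n53020 = n54693 := rfl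
theorem F245053 : act 1 n54693 = n53698 := d15_1 D54693 (iv D53698) (iv F237454)
theorem F245054 : act 4 n54693 = n53021 := d33_1 D54693 (iv D53021) (iv F237456)
theorem F245055 : act 6 n54693 = n54007 := d40_1 D54693 (iv D54007) (iv F237457)
theorem F245056 : act 9 n54693 = n54383 := d44_2 D53020 D54693 (iv D54383) (iv D52644) (iv F228980)
def n54694 : Q := act 5 n53022
theorem D54694 : act 5 n53022 = n54694 := rfl
theorem F245057 : act 1 n54694 = n53701 := d12_1 D54694 (iv D53701) (iv F237462)
theorem F245058 : act 3 n54694 = n53721 := d25_1 D54694 F240927 (iv F237463)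
theorem F245059 : act 4 n54694 = n54694 := d30_1 D54694 (iv D54694) (iv D53022) F228986 D53022
theorem F245060 : act 7 n54694 = n53696 := d36_2 (iv F237465) D54694 F240820
theorem F245061 : act 8 n54694 = n53058 := d37_2 (iv F237466) D54694 (iv D53058)
def n54695 : Q := act 9 n53022
theorem D54695 : act 9 n53022 = n54695 := rfl
theorem F245062 : act 1 n54695 = n53702 := d16_1 D54695 (iv D53702) (iv F237462)
theorem F245063 : act 3 n54695 = n54355 := d29_1 D54695 (iv D54355) (iv F237463)
theorem F245064 : act 4 n54695 = n53023 := d34_1 D54695 (iv D53023) D53022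
theorem F245065 : act 6 n54695 = n53028 := d41_1 D54695 (iv D53028) (iv F237464)
theorem F245066 : act 7 n54695 = n54010 := d43_1 D54695 (iv D54010) (iv F237465)
def n54696 : Q := act 8 n53023
theorem D54696 : act 8 n53023 = n54696 := rfl
theorem F245067 : act 1 n54696 = n53703 := d15_1 D54696 (iv D53703) (iv F237467)
theorem F245068 : act 5 n54696 = n54696 := d37_1 D54696 (iv D54696) F237469
theorem F245069 : act 6 n54696 = n53029 := d40_1 D54696 (iv D53029) (iv F237470)
theorem F245070 : act 7 n54696 = n54011 := d42_1 D54696 (iv D54011) (iv F237471)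
theorem F245071 : act 9 n54696 = n53060 := d44_2 D53023 D54696 (iv D53060) (iv D51172) (iv F228989)
def n54697 : Q := act 4 n53024
theorem D54697 : act 4 n53024 = n54697 := rfl
theorem F245072 : act 0 n54697 = n53759 := d3_1 D54697 F241104 (iv F237472)
theorem F245073 : act 1 n54697 = n53025 := d11_1 D54697 (iv D53025) D53024
theorem F245074 : act 2 n54697 = n53704 := d18_1 D54697 (iv D53704) (iv F237473)
theorem F245075 : act 5 n54697 = n53756 := d30_2 (iv F237475) D54697 (iv D53756) F232687 (iv F229034)
theorem F245076 : act 7 n54697 = n53030 := d32_2 (iv F237476) D54697 (iv D53030)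
theorem F245077 : act 8 n54697 = n53062 := d33_2 (iv F237477) D54697 (iv D53062)
theorem F245078 : act 3 n54697 = n54329 := d46_3 (iv F229037) (iv F237475) D54697 F243183 (iv F240817) (iv F244154) F244159 (iv D53952) (iv D52147) (iv D50118) F214658 F187160 F187159 (iv D30798) F91097 (iv F129523) (iv F184316) F206410 F147881 (iv F206427) D46619 F208109 F174794 F121906 (iv F205769) F103147 (iv F205385) (iv F205514) F89686 (iv F128424) (iv F184339) (iv F206414) F206413 (iv F211094) D49331 F221015 F215695 D48404 D50565 (iv F232998) F232997 (iv F232409) F232407 (iv F240567) (iv D53640) F232256 (iv F232112) (iv F237079) (iv F244623) F244620 (iv D53605) F232108 (iv D51771) F222761 F212772 (iv F212965) F212963 D47578 F212984 (iv F223131) (iv F229214) (iv D51189)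
def n54698 : Q := act 9 n53024
theorem D54698 : act 9 n53024 = n54698 := rfl
theorem F245079 : act 0 n54698 = n53796 := d8_1 D54698 (iv D53796) (iv F237472)
theorem F245080 : act 1 n54698 = n53026 := d16_1 D54698 (iv D53026) D53024
theorem F245081 : act 2 n54698 = n53705 := d23_1 D54698 (iv D53705) (iv F237473)
theorem F245082 : act 3 n54698 = n54698 := d29_1 D54698 (iv D54698) F237474
theorem F245083 : act 5 n54698 = n53039 := d38_1 D54698 (iv D53039) (iv F237475)
theorem F245084 : act 7 n54698 = n53031 := d43_1 D54698 (iv D53031) (iv F237476)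
def n54699 : Q := act 3 n53025
theorem D54699 : act 3 n53025 = n54699 := rfl
theorem F245085 : act 0 n54699 = n54347 := d2_1 D54699 F243235 (iv F237478)
theorem F245086 : act 1 n54699 = n54329 := d10_1 D54699 (iv F245078) F245073
theorem F245087 : act 4 n54699 = n54699 := d24_2 D53025 D54699 (iv D54699) (iv D53025) F228997
theorem F245088 : act 5 n54699 = n53869 := d25_2 (iv F237480) D54699 F241545
theorem F245089 : act 7 n54699 = n53032 := d27_2 (iv F237481) D54699 (iv D53032)
theorem F245090 : act 8 n54699 = n53871 := d28_2 (iv F237482) D54699 F241555 F233255 (iv F229154)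
def n54700 : Q := act 9 n53025
theorem D54700 : act 9 n53025 = n54700 := rfl
theorem F245091 : act 0 n54700 = n54395 := d8_1 D54700 (iv D54395) (iv F237478)
theorem F245092 : act 2 n54700 = n53028 := d23_1 D54700 (iv D53028) (iv F237479)
theorem F245093 : act 4 n54700 = n53026 := d34_1 D54700 (iv D53026) D53025
theorem F245094 : act 5 n54700 = n54312 := d38_1 D54700 (iv D54312) (iv F237480)
theorem F245095 : act 7 n54700 = n53034 := d43_1 D54700 (iv D53034) (iv F237481)
def n54701 : Q := act 8 n53026
theorem D54701 : act 8 n53026 = n54701 := rfl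
theorem F245096 : act 0 n54701 = n54454 := d7_1 D54701 (iv D54454) (iv F237483)
theorem F245097 : act 2 n54701 = n53029 := d22_1 D54701 (iv D53029) (iv F237484)
theorem F245098 : act 5 n54701 = n53040 := d37_1 D54701 (iv D53040) (iv F237486)
theorem F245099 : act 7 n54701 = n53035 := d42_1 D54701 (iv D53035) (iv F237487)
theorem F245100 : act 9 n54701 = n53065 := d44_2 D53026 D54701 (iv D53065) (iv D51175) (iv F229000)
def n54702 : Q := act 6 n53027
theorem D54702 : act 6 n53027 = n54702 := rfl
theorem F245101 : act 0 n54702 = n53463 := d5_1 D54702 F239749 (iv F237488)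
theorem F245102 : act 1 n54702 = n53709 := d13_1 D54702 (iv D53709) (iv F237489)
theorem F245103 : act 2 n54702 = n53651 := d20_1 D54702 F240619 (iv F237490)
theorem F245104 : act 4 n54702 = n53041 := d31_1 D54702 (iv D53041) (iv F237491)
theorem F245105 : act 8 n54702 = n53066 := d40_2 (iv F237493) D54702 (iv D53066)
theorem F245106 : act 7 n54341 = n54702 := d32_0 F245104 (iv F237562) (iv F243220)
def n54703 : Q := act 9 n53027
theorem D54703 : act 9 n53027 = n54703 := rfl
theorem F245107 : act 0 n54703 = n54216 := d8_1 D54703 (iv D54216) (iv F237488)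
theorem F245108 : act 1 n54703 = n53710 := d16_1 D54703 (iv D53710) (iv F237489)
theorem F245109 : act 2 n54703 = n54312 := d23_1 D54703 (iv D54312) (iv F237490)
theorem F245110 : act 4 n54703 = n53042 := d34_1 D54703 (iv D53042) (iv F237491)
theorem F245111 : act 5 n54703 = n53028 := d38_1 D54703 (iv D53028) D53027
theorem F245112 : act 7 n54703 = n53037 := d43_1 D54703 (iv D53037) (iv F237492)
def n54704 : Q := act 8 n53028
theorem D54704 : act 8 n53028 = n54704 := rfl
theorem F245113 : act 1 n54704 = n53711 := d15_1 D54704 (iv D53711) (iv F237494)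
theorem F245114 : act 4 n54704 = n53029 := d33_1 D54704 (iv D53029) (iv F237495)
theorem F245115 : act 7 n54704 = n53038 := d42_1 D54704 (iv D53038) (iv F237496)
theorem F245116 : act 9 n54704 = n53068 := d44_2 D53028 D54704 (iv D53068) (iv D51177) (iv F229003)
def n54705 : Q := act 3 n53030
theorem D54705 : act 3 n53030 = n54705 := rfl
theorem F245117 : act 0 n54705 = n53775 := d2_1 D54705 F241154 (iv F237501)
theorem F245118 : act 1 n54705 = n53032 := d10_1 D54705 (iv D53032) (iv F237502)
theorem F245119 : act 4 n54705 = n54705 := d24_2 D53030 D54705 (iv D54705) (iv D53030) F229010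
theorem F245120 : act 5 n54705 = n53699 := d25_2 (iv F237504) D54705 F240829
theorem F245121 : act 6 n54705 = n54018 := d26_2 (iv F237505) D54705 (iv D54018)
theorem F245122 : act 7 n54705 = n54329 := d27_2 F245076 D54705 (iv F245078)
theorem F245123 : act 2 n53701 = n54705 := d21_3 F245122 F243183 (iv F240840)
theorem F245124 : act 8 n53750 = n54705 := d42_0 F245122 F243185 (iv F241066)
def n54706 : Q := act 9 n53030
theorem D54706 : act 9 n53030 = n54706 := rfl
theorem F245125 : act 0 n54706 = n53778 := d8_1 D54706 (iv D53778) (iv F237501)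
theorem F245126 : act 1 n54706 = n53034 := d16_1 D54706 (iv D53034) (iv F237502)
theorem F245127 : act 2 n54706 = n53713 := d23_1 D54706 (iv D53713) (iv F237503)
theorem F245128 : act 4 n54706 = n53031 := d34_1 D54706 (iv D53031) D53030
theorem F245129 : act 5 n54706 = n53773 := d38_1 D54706 (iv D53773) (iv F237504)
theorem F245130 : act 6 n54706 = n54020 := d41_1 D54706 (iv D54020) (iv F237505)
def n54707 : Q := act 8 n53031
theorem D54707 : act 8 n53031 = n54707 := rfl
theorem F245131 : act 0 n54707 = n53810 := d7_1 D54707 (iv D53810) (iv F237507)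
theorem F245132 : act 1 n54707 = n53035 := d15_1 D54707 (iv D53035) (iv F237508)
theorem F245133 : act 2 n54707 = n53714 := d22_1 D54707 (iv D53714) (iv F237509)
theorem F245134 : act 5 n54707 = n53044 := d37_1 D54707 (iv D53044) (iv F237511)
theorem F245135 : act 6 n54707 = n54021 := d40_1 D54707 (iv D54021) (iv F237512)
theorem F245136 : act 9 n54707 = n53074 := d44_2 D53031 D54707 (iv D53074) (iv D51181) (iv F229013)
def n54708 : Q := act 5 n53032
theorem D54708 : act 5 n53032 = n54708 := rfl
theorem F245137 : act 0 n54708 = n53647 := d4_1 D54708 (iv F244800) F244796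
theorem F245138 : act 1 n54708 = n53699 := d12_1 D54708 (iv F245120) F245118
theorem F245139 : act 3 n54708 = n53033 := d25_1 D54708 (iv D53033) D53032
theorem F245140 : act 7 n54708 = n53869 := d36_2 F245089 D54708 (iv F245088)
theorem F245141 : act 4 n53675 = n54708 := d32_3 F245140 (iv D53869) (iv F240728)
theorem F245142 : act 6 n53704 = n54708 := d39_5 F245140 F241546 F235269 (iv F232528) (iv F240852)
theorem F245143 : act 8 n53747 = n54708 := d42_0 F245140 F241547 (iv F241052)
def n54709 : Q := act 8 n53032
theorem D54709 : act 8 n53032 = n54709 := rfl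
theorem F245144 : act 0 n54709 = n54004 := d7_1 D54709 (iv F244803) F244796
theorem F245145 : act 1 n54709 = n53750 := d15_1 D54709 F245124 F245118
theorem F245146 : act 2 n54709 = n53943 := d22_1 D54709 (iv F245033) F245030
theorem F245147 : act 3 n54709 = n53075 := d28_1 D54709 (iv D53075) (iv D51182) (iv F229016) D53032
theorem F245148 : act 4 n54709 = n54709 := d33_1 D54709 (iv D54709) F237513
theorem F245149 : act 5 n54709 = n53747 := d37_1 D54709 F245143 (iv D54708)
theorem F245150 : act 6 n54709 = n54023 := d40_1 D54709 (iv D54023) (iv F237514)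
theorem F245151 : act 7 n54709 = n53871 := d42_1 D54709 (iv F245090) F245089
def n54710 : Q := act 9 n53032
theorem D54710 : act 9 n53032 = n54710 := rfl
theorem F245152 : act 3 n54710 = n53034 := d29_1 D54710 (iv D53034) D53032
theorem F245153 : act 4 n54710 = n54710 := d34_1 D54710 (iv D54710) F237513
theorem F245154 : act 6 n54710 = n54024 := d41_1 D54710 (iv D54024) (iv F237514)
def n54711 : Q := act 9 n53033
theorem D54711 : act 9 n53033 = n54711 := rfl
theorem F245155 : act 0 n54711 = n53648 := d8_1 D54711 (iv D53648) (iv F237515)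
theorem F245156 : act 1 n54711 = n53773 := d16_1 D54711 (iv D53773) (iv F237516)
theorem F245157 : act 2 n54711 = n53037 := d23_1 D54711 (iv D53037) (iv F237517)
theorem F245158 : act 4 n54711 = n53045 := d34_1 D54711 (iv D53045) (iv F237518)
theorem F245159 : act 5 n54711 = n53034 := d38_1 D54711 (iv D53034) D53033
theorem F245160 : act 6 n54711 = n54308 := d41_1 D54711 (iv D54308) F237521
theorem F245161 : act 7 n54711 = n54312 := d43_1 D54711 (iv D54312) (iv F237519)
def n54712 : Q := act 8 n53034
theorem D54712 : act 8 n53034 = n54712 := rfl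
theorem F245162 : act 2 n54712 = n53038 := d22_1 D54712 (iv D53038) (iv F237522)
theorem F245163 : act 4 n54712 = n53035 := d33_1 D54712 (iv D53035) (iv F237523)
theorem F245164 : act 6 n54712 = n54026 := d40_1 D54712 (iv D54026) (iv F237524)
theorem F245165 : act 9 n54712 = n53079 := d44_2 D53034 D54712 (iv D53079) (iv D51184) (iv F229016)
def n54713 : Q := act 3 n53035
theorem D54713 : act 3 n53035 = n54713 := rfl
theorem F245166 : act 5 n54713 = n53047 := d25_2 (iv F237526) D54713 (iv D53047)
theorem F245167 : act 6 n54713 = n54027 := d26_2 (iv F237527) D54713 (iv D54027)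
theorem F245168 : act 8 n54713 = n54713 := d28_2 D53035 D54713 (iv D54713) (iv D53035) F229018
theorem F245169 : act 9 n54713 = n53080 := d29_2 (iv F237528) D54713 (iv D53080)
def n54714 : Q := act 7 n53036
theorem D54714 : act 7 n53036 = n54714 := rfl
theorem F245170 : act 0 n54714 = n54265 := d6_1 D54714 F243002 (iv F237529)
theorem F245171 : act 1 n54714 = n53721 := d14_1 D54714 (iv D53721) (iv F237530)
theorem F245172 : act 2 n54714 = n53712 := d21_1 D54714 F240888 (iv F237531)
theorem F245173 : act 3 n54714 = n53701 := d27_1 D54714 F240840 (iv F237532)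
theorem F245174 : act 4 n54714 = n53048 := d32_1 D54714 (iv D53048) (iv F237533)
theorem F245175 : act 5 n54714 = n53681 := d36_1 D54714 F240763 (iv F237534)
theorem F245176 : act 6 n54714 = n54341 := d39_1 D54714 F245106 (iv D54702) F237492 D53036
theorem F245177 : act 8 n54714 = n53081 := d42_2 (iv F237535) D54714 (iv D53081)
def n54715 : Q := act 9 n53036
theorem D54715 : act 9 n53036 = n54715 := rfl
theorem F245178 : act 0 n54715 = n54277 := d8_1 D54715 (iv D54277) (iv F237529)
theorem F245179 : act 1 n54715 = n53722 := d16_1 D54715 (iv D53722) (iv F237530)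
theorem F245180 : act 2 n54715 = n54308 := d23_1 D54715 (iv D54308) (iv F237531)
theorem F245181 : act 3 n54715 = n54332 := d29_1 D54715 (iv D54332) (iv F237532)
theorem F245182 : act 4 n54715 = n53049 := d34_1 D54715 (iv D53049) (iv F237533)
theorem F245183 : act 5 n54715 = n54028 := d38_1 D54715 (iv D54028) (iv F237534)
theorem F245184 : act 6 n54715 = n53037 := d41_1 D54715 (iv D53037) D53036
def n54716 : Q := act 8 n53037
theorem D54716 : act 8 n53037 = n54716 := rfl
theorem F245185 : act 1 n54716 = n53723 := d15_1 D54716 (iv D53723) (iv F237536)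
theorem F245186 : act 4 n54716 = n53050 := d33_1 D54716 (iv D53050) (iv F237537)
theorem F245187 : act 5 n54716 = n53038 := d37_1 D54716 (iv D53038) (iv F237538)
theorem F245188 : act 9 n54716 = n53083 := d44_2 D53037 D54716 (iv D53083) (iv D51187) (iv F229023)
def n54717 : Q := act 3 n53038
theorem D54717 : act 3 n53038 = n54717 := rfl
theorem F245189 : act 1 n54717 = n53724 := d10_1 D54717 (iv D53724) (iv F237539)
theorem F245190 : act 6 n54717 = n54030 := d26_2 (iv F237541) D54717 (iv D54030)
theorem F245191 : act 9 n54717 = n53084 := d29_2 (iv F237542) D54717 (iv D53084)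
def n54718 : Q := act 8 n53039
theorem D54718 : act 8 n53039 = n54718 := rfl
theorem F245192 : act 0 n54718 = n53797 := d7_1 D54718 (iv D53797) (iv F237543)
theorem F245193 : act 1 n54718 = n53040 := d15_1 D54718 (iv D53040) (iv F237544)
theorem F245194 : act 2 n54718 = n53725 := d22_1 D54718 (iv D53725) (iv F237545)
theorem F245195 : act 4 n54718 = n53795 := d33_1 D54718 (iv D53795) (iv F237547)
theorem F245196 : act 6 n54718 = n54718 := d40_1 D54718 (iv D54718) F237548
theorem F245197 : act 7 n54718 = n53044 := d42_1 D54718 (iv D53044) (iv F237549)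
theorem F245198 : act 9 n54718 = n53086 := d44_2 D53039 D54718 (iv D53086) (iv D51190) (iv F229037)
def n54719 : Q := act 3 n53040
theorem D54719 : act 3 n53040 = n54719 := rfl
theorem F245199 : act 0 n54719 = n54456 := d2_1 D54719 (iv D54456) (iv F237550)
theorem F245200 : act 6 n54719 = n54719 := d26_2 F237553 D54719 (iv D54719)
theorem F245201 : act 7 n54719 = n53047 := d27_2 (iv F237554) D54719 (iv D53047)
theorem F245202 : act 8 n54719 = n54719 := d28_2 D53040 D54719 (iv D54719) (iv D53040) F229040
theorem F245203 : act 9 n54719 = n53087 := d29_2 (iv F237555) D54719 (iv D53087)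
def n54720 : Q := act 9 n53041
theorem D54720 : act 9 n53041 = n54720 := rfl
theorem F245204 : act 0 n54720 = n53516 := d8_1 D54720 (iv D53516) (iv F237556)
theorem F245205 : act 1 n54720 = n53730 := d16_1 D54720 (iv D53730) (iv F237557)
theorem F245206 : act 2 n54720 = n53679 := d23_1 D54720 (iv D53679) (iv F237558)
theorem F245207 : act 3 n54720 = n54720 := d29_1 D54720 (iv D54720) F237559
theorem F245208 : act 5 n54720 = n54720 := d38_1 D54720 (iv D54720) F237560
theorem F245209 : act 6 n54720 = n53042 := d41_1 D54720 (iv D53042) D53041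
theorem F245210 : act 7 n54720 = n54443 := d43_1 D54720 (iv D54443) F237562
def n54721 : Q := act 8 n53042
theorem D54721 : act 8 n53042 = n54721 := rfl
theorem F245211 : act 0 n54721 = n54242 := d7_1 D54721 (iv D54242) (iv F237563)
theorem F245212 : act 1 n54721 = n53731 := d15_1 D54721 (iv D53731) (iv F237564)
theorem F245213 : act 2 n54721 = n54318 := d22_1 D54721 (iv D54318) (iv F237565)
theorem F245214 : act 5 n54721 = n53043 := d37_1 D54721 (iv D53043) (iv F237567)
theorem F245215 : act 7 n54721 = n53050 := d42_1 D54721 (iv D53050) (iv F237568)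
theorem F245216 : act 9 n54721 = n53090 := d44_2 D53042 D54721 (iv D53090) (iv D51193) (iv F229049)
def n54722 : Q := act 3 n53043
theorem D54722 : act 3 n53043 = n54722 := rfl
theorem F245217 : act 0 n54722 = n54447 := d2_1 D54722 (iv D54447) (iv F237569)
theorem F245218 : act 1 n54722 = n53732 := d10_1 D54722 (iv D53732) (iv F237570)
theorem F245219 : act 6 n54722 = n54722 := d26_2 F237573 D54722 (iv D54722)
theorem F245220 : act 7 n54722 = n53051 := d27_2 (iv F237574) D54722 (iv D53051)
theorem F245221 : act 8 n54722 = n54722 := d28_2 D53043 D54722 (iv D54722) (iv D53043) F229053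
theorem F245222 : act 9 n54722 = n53091 := d29_2 (iv F237575) D54722 (iv D53091)
def n54723 : Q := act 3 n53044
theorem D54723 : act 3 n53044 = n54723 := rfl
theorem F245223 : act 0 n54723 = n53811 := d2_1 D54723 (iv D53811) (iv F237576)
theorem F245224 : act 1 n54723 = n53047 := d10_1 D54723 (iv D53047) (iv F237577)
theorem F245225 : act 2 n54723 = n54291 := d17_1 D54723 (iv D54291) F235126 (iv F232593) (iv F237578)
theorem F245226 : act 4 n54723 = n54102 := d24_2 (iv F237579) D54723 (iv D54102) (iv F237920) F237919
theorem F245227 : act 6 n54723 = n53052 := d26_2 (iv F237580) D54723 (iv D53052)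
theorem F245228 : act 8 n54723 = n54723 := d28_2 D53044 D54723 (iv D54723) (iv D53044) F229064
theorem F245229 : act 9 n54723 = n53095 := d29_2 (iv F237581) D54723 (iv D53095)
def n54724 : Q := act 8 n53045
theorem D54724 : act 8 n53045 = n54724 := rfl
theorem F245230 : act 0 n54724 = n53649 := d7_1 D54724 (iv D53649) (iv F237582)
theorem F245231 : act 1 n54724 = n53774 := d15_1 D54724 (iv D53774) (iv F237583)
theorem F245232 : act 2 n54724 = n53050 := d22_1 D54724 (iv D53050) (iv F237584)
theorem F245233 : act 3 n54724 = n54340 := d28_1 D54724 (iv D54340) F235290 (iv F232430) (iv F237585)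
theorem F245234 : act 5 n54724 = n53046 := d37_1 D54724 (iv D53046) (iv F237586)
theorem F245235 : act 6 n54724 = n54309 := d40_1 D54724 (iv D54309) (iv F237587)
theorem F245236 : act 7 n54724 = n54318 := d42_1 D54724 (iv D54318) (iv F237588)
theorem F245237 : act 9 n54724 = n53098 := d44_2 D53045 D54724 (iv D53098) (iv D51200) (iv F229073)
def n54725 : Q := act 4 n53047
theorem D54725 : act 4 n53047 = n54725 := rfl
theorem F245238 : act 0 n54725 = n54363 := d3_1 D54725 (iv F244832) F244829
theorem F245239 : act 1 n54725 = n54102 := d11_1 D54725 (iv F245226) F245224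
theorem F245240 : act 3 n54725 = n54100 := d24_1 D54725 F242534 (iv F237592) F237593 D53047
theorem F245241 : act 6 n54725 = n53053 := d31_2 (iv F237597) D54725 (iv D53053)
theorem F245242 : act 8 n54725 = n54725 := d33_2 F237598 D54725 (iv D54725)
theorem F245243 : act 9 n54725 = n53099 := d34_2 (iv F237599) D54725 (iv D53099)
def n54726 : Q := act 9 n53048
theorem D54726 : act 9 n53048 = n54726 := rfl
theorem F245244 : act 0 n54726 = n54285 := d8_1 D54726 (iv D54285) (iv F237600)
theorem F245245 : act 1 n54726 = n53737 := d16_1 D54726 (iv D53737) (iv F237601)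
theorem F245246 : act 2 n54726 = n53864 := d23_1 D54726 (iv D53864) (iv F237602)
theorem F245247 : act 3 n54726 = n54726 := d29_1 D54726 (iv D54726) F237603
theorem F245248 : act 5 n54726 = n53054 := d38_1 D54726 (iv D53054) (iv F237604)
theorem F245249 : act 6 n54726 = n54443 := d41_1 D54726 (iv D54443) (iv F237605)
theorem F245250 : act 7 n54726 = n53049 := d43_1 D54726 (iv D53049) D53048
def n54727 : Q := act 8 n53049
theorem D54727 : act 8 n53049 = n54727 := rfl
theorem F245251 : act 0 n54727 = n54290 := d7_1 D54727 (iv D54290) (iv F237607)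
theorem F245252 : act 1 n54727 = n53738 := d15_1 D54727 (iv D53738) (iv F237608)
theorem F245253 : act 2 n54727 = n54309 := d22_1 D54727 (iv D54309) (iv F237609)
theorem F245254 : act 5 n54727 = n53055 := d37_1 D54727 (iv D53055) (iv F237611)
theorem F245255 : act 6 n54727 = n53050 := d40_1 D54727 (iv D53050) (iv F237612)
theorem F245256 : act 9 n54727 = n53101 := d44_2 D53049 D54727 (iv D53101) (iv D51204) (iv F229089)
def n54728 : Q := act 3 n53050
theorem D54728 : act 3 n53050 = n54728 := rfl
theorem F245257 : act 1 n54728 = n53739 := d10_1 D54728 (iv D53739) (iv F237613)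
theorem F245258 : act 5 n54728 = n53051 := d25_2 (iv F237614) D54728 (iv D53051)
theorem F245259 : act 8 n54728 = n54728 := d28_2 D53050 D54728 (iv D54728) (iv D53050) F229091
theorem F245260 : act 9 n54728 = n53102 := d29_2 (iv F237615) D54728 (iv D53102)
def n54729 : Q := act 2 n53051
theorem D54729 : act 2 n53051 = n54729 := rfl
theorem F245261 : act 0 n54729 = n54035 := d1_1 D54729 (iv F244846) F244844
theorem F245262 : act 3 n54729 = n53824 := d17_2 D53051 D54729 F241329 (iv F237592) F237591
theorem F245263 : act 6 n54729 = n53057 := d20_2 (iv F237617) D54729 (iv D53057)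
theorem F245264 : act 8 n54729 = n54729 := d22_2 F237618 D54729 (iv D54729)
theorem F245265 : act 9 n54729 = n53103 := d23_2 (iv F237619) D54729 (iv D53103)
theorem F245266 : act 1 n53826 = n54729 := d13_3 F245263 (iv F237662) (iv F241337)
def n54730 : Q := act 8 n53054
theorem D54730 : act 8 n53054 = n54730 := rfl
theorem F245267 : act 0 n54730 = n54286 := d7_1 D54730 (iv D54286) (iv F237635)
theorem F245268 : act 1 n54730 = n53743 := d15_1 D54730 (iv D53743) (iv F237636)
theorem F245269 : act 2 n54730 = n54316 := d22_1 D54730 (iv D54316) (iv F237637)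
theorem F245270 : act 4 n54730 = n54038 := d33_1 D54730 (iv D54038) (iv F237639)
theorem F245271 : act 6 n54730 = n54730 := d40_1 D54730 (iv D54730) F237640
theorem F245272 : act 7 n54730 = n53055 := d42_1 D54730 (iv D53055) (iv F237641)
theorem F245273 : act 9 n54730 = n53109 := d44_2 D53054 D54730 (iv D53109) (iv D51214) (iv F229122)
def n54731 : Q := act 3 n53055
theorem D54731 : act 3 n53055 = n54731 := rfl
theorem F245274 : act 0 n54731 = n54291 := d2_1 D54731 (iv D54291) (iv F237642)
theorem F245275 : act 1 n54731 = n53744 := d10_1 D54731 (iv D53744) (iv F237643)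
theorem F245276 : act 2 n54731 = n53811 := d17_1 D54731 (iv D53811) (iv F237848) F237849 (iv F237644)
theorem F245277 : act 4 n54731 = n53614 := d24_2 (iv F237645) D54731 (iv D53614) (iv F237056) F237055
theorem F245278 : act 6 n54731 = n53056 := d26_2 (iv F237646) D54731 (iv D53056)
theorem F245279 : act 8 n54731 = n54731 := d28_2 D53055 D54731 (iv D54731) (iv D53055) F229126
theorem F245280 : act 9 n54731 = n53110 := d29_2 (iv F237647) D54731 (iv D53110)
def n54732 : Q := act 6 n53058
theorem D54732 : act 6 n53058 = n54732 := rfl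
theorem F245281 : act 0 n54732 = n53462 := d5_1 D54732 (iv F244856) F244852
theorem F245282 : act 1 n54732 = n53753 := d13_1 D54732 (iv D53753) (iv F237663)
theorem F245283 : act 2 n54732 = n53650 := d20_1 D54732 (iv F244381) F244378
theorem F245284 : act 3 n54732 = n53371 := d26_1 D54732 (iv F243771) F243769
theorem F245285 : act 4 n54732 = n54732 := d31_1 D54732 (iv D54732) F237664
theorem F245286 : act 5 n54732 = n53066 := d35_1 D54732 (iv D53066) (iv D51176) (iv F229141) D53058
def n54733 : Q := act 9 n53058
theorem D54733 : act 9 n53058 = n54733 := rfl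
theorem F245287 : act 1 n54733 = n53754 := d16_1 D54733 (iv D53754) (iv F237663)
theorem F245288 : act 4 n54733 = n54733 := d34_1 D54733 (iv D54733) F237664
theorem F245289 : act 5 n54733 = n53059 := d38_1 D54733 (iv D53059) D53058
theorem F245290 : act 7 n54733 = n54042 := d43_1 D54733 (iv D54042) (iv F237665)
def n54734 : Q := act 8 n53059
theorem D54734 : act 8 n53059 = n54734 := rfl
theorem F245291 : act 1 n54734 = n53755 := d15_1 D54734 (iv D53755) (iv F237666)
theorem F245292 : act 4 n54734 = n53060 := d33_1 D54734 (iv D53060) (iv F237667)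
theorem F245293 : act 6 n54734 = n53068 := d40_1 D54734 (iv D53068) (iv F237668)
theorem F245294 : act 7 n54734 = n54043 := d42_1 D54734 (iv D54043) (iv F237669)
def n54735 : Q := act 4 n53061
theorem D54735 : act 4 n53061 = n54735 := rfl
theorem F245295 : act 0 n54735 = n53062 := d3_1 D54735 (iv D53062) D53061
theorem F245296 : act 1 n54735 = n53706 := d11_1 D54735 F240862 (iv F237674)
theorem F245297 : act 2 n54735 = n53756 := d18_1 D54735 (iv D53756) (iv F237675)
theorem F245298 : act 3 n54735 = n53921 := d24_1 D54735 (iv D53921) F233606 (iv F229425) (iv F237676)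
theorem F245299 : act 5 n54735 = n53704 := d30_2 (iv F237677) D54735 (iv D53704) F232506 (iv F229217)
theorem F245300 : act 6 n54735 = n54022 := d31_2 (iv F237678) D54735 (iv F242250)
theorem F245301 : act 7 n54735 = n53069 := d32_2 (iv F237679) D54735 (iv D53069)
theorem F245302 : act 8 n54735 = n53759 := d33_2 (iv F237680) D54735 F241104
def n54736 : Q := act 9 n53061
theorem D54736 : act 9 n53061 = n54736 := rfl
theorem F245303 : act 0 n54736 = n53063 := d8_1 D54736 (iv D53063) D53061
theorem F245304 : act 1 n54736 = n53727 := d16_1 D54736 (iv D53727) (iv F237674)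
theorem F245305 : act 2 n54736 = n53757 := d23_1 D54736 (iv D53757) (iv F237675)
theorem F245306 : act 3 n54736 = n53123 := d29_1 D54736 (iv D53123) (iv F237676)
theorem F245307 : act 5 n54736 = n53085 := d38_1 D54736 (iv D53085) (iv F237677)
theorem F245308 : act 6 n54736 = n54432 := d41_1 D54736 (iv D54432) (iv F237678)
theorem F245309 : act 7 n54736 = n53070 := d43_1 D54736 (iv D53070) (iv F237679)
def n54737 : Q := act 9 n53062
theorem D54737 : act 9 n53062 = n54737 := rfl
theorem F245310 : act 1 n54737 = n53064 := d16_1 D54737 (iv D53064) (iv F237681)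
theorem F245311 : act 2 n54737 = n53760 := d23_1 D54737 (iv D53760) (iv F237682)
theorem F245312 : act 3 n54737 = n53923 := d29_1 D54737 (iv D53923) (iv F237683)
theorem F245313 : act 4 n54737 = n53063 := d34_1 D54737 (iv D53063) D53062
theorem F245314 : act 5 n54737 = n54310 := d38_1 D54737 (iv D54310) (iv F237684)
theorem F245315 : act 7 n54737 = n53073 := d43_1 D54737 (iv D53073) (iv F237685)
def n54738 : Q := act 8 n53063
theorem D54738 : act 8 n53063 = n54738 := rfl
theorem F245316 : act 1 n54738 = n53065 := d15_1 D54738 (iv D53065) (iv F237686)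
theorem F245317 : act 2 n54738 = n53761 := d22_1 D54738 (iv D53761) (iv F237687)
theorem F245318 : act 5 n54738 = n53086 := d37_1 D54738 (iv D53086) (iv F237689)
theorem F245319 : act 7 n54738 = n53074 := d42_1 D54738 (iv D53074) (iv F237690)
def n54739 : Q := act 8 n53064
theorem D54739 : act 8 n53064 = n54739 := rfl
theorem F245320 : act 0 n54739 = n54396 := d7_1 D54739 (iv D54396) (iv F237691)
theorem F245321 : act 2 n54739 = n53068 := d22_1 D54739 (iv D53068) (iv F237692)
theorem F245322 : act 4 n54739 = n53065 := d33_1 D54739 (iv D53065) (iv F237694)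
theorem F245323 : act 5 n54739 = n54313 := d37_1 D54739 (iv D54313) (iv F237695)
theorem F245324 : act 7 n54739 = n53079 := d42_1 D54739 (iv D53079) (iv F237696)
def n54740 : Q := act 3 n53065
theorem D54740 : act 3 n53065 = n54740 := rfl
theorem F245325 : act 0 n54740 = n54455 := d2_1 D54740 (iv D54455) (iv F237697)
theorem F245326 : act 5 n54740 = n53087 := d25_2 (iv F237699) D54740 (iv D53087)
theorem F245327 : act 7 n54740 = n53080 := d27_2 (iv F237700) D54740 (iv D53080)
theorem F245328 : act 8 n54740 = n53125 := d28_2 D53065 D54740 (iv D53125) (iv D51232) (iv F229159)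
def n54741 : Q := act 7 n53066
theorem D54741 : act 7 n53066 = n54741 := rfl
theorem F245329 : act 0 n54741 = n53450 := d6_1 D54741 F239691 (iv F237701)
theorem F245330 : act 1 n54741 = n53769 := d14_1 D54741 (iv D53769) (iv F237702)
theorem F245331 : act 2 n54741 = n53640 := d21_1 D54741 F240568 (iv F237703)
theorem F245332 : act 3 n54741 = n53363 := d27_1 D54741 F239312 (iv F237704)
theorem F245333 : act 4 n54741 = n53088 := d32_1 D54741 (iv D53088) (iv F237705)
theorem F245334 : act 6 n54741 = n53081 := d39_1 D54741 (iv D53081) (iv D51186) (iv F229167) D53066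
theorem F245335 : act 8 n54741 = n54341 := d42_2 F245105 D54741 F245106
def n54742 : Q := act 9 n53066
theorem D54742 : act 9 n53066 = n54742 := rfl
theorem F245336 : act 0 n54742 = n53464 := d8_1 D54742 (iv D53464) (iv F237701)
theorem F245337 : act 1 n54742 = n53770 := d16_1 D54742 (iv D53770) (iv F237702)
theorem F245338 : act 2 n54742 = n53652 := d23_1 D54742 (iv D53652) (iv F237703)
theorem F245339 : act 3 n54742 = n53372 := d29_1 D54742 (iv D53372) (iv F237704)
theorem F245340 : act 4 n54742 = n53089 := d34_1 D54742 (iv D53089) (iv F237705)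
theorem F245341 : act 6 n54742 = n53067 := d41_1 D54742 (iv D53067) D53066
def n54743 : Q := act 8 n53067
theorem D54743 : act 8 n53067 = n54743 := rfl
theorem F245342 : act 0 n54743 = n54217 := d7_1 D54743 (iv D54217) (iv F237706)
theorem F245343 : act 1 n54743 = n53771 := d15_1 D54743 (iv D53771) (iv F237707)
theorem F245344 : act 2 n54743 = n54313 := d22_1 D54743 (iv D54313) (iv F237708)
theorem F245345 : act 4 n54743 = n53090 := d33_1 D54743 (iv D53090) (iv F237710)
theorem F245346 : act 5 n54743 = n53068 := d37_1 D54743 (iv D53068) (iv F237711)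
theorem F245347 : act 7 n54743 = n53083 := d42_1 D54743 (iv D53083) (iv F237712)
def n54744 : Q := act 3 n53068
theorem D54744 : act 3 n53068 = n54744 := rfl
theorem F245348 : act 1 n54744 = n53772 := d10_1 D54744 (iv D53772) (iv F237713)
theorem F245349 : act 7 n54744 = n53084 := d27_2 (iv F237715) D54744 (iv D53084)
def n54745 : Q := act 3 n53069
theorem D54745 : act 3 n53069 = n54745 := rfl
theorem F245350 : act 0 n54745 = n53071 := d2_1 D54745 (iv D53071) (iv F237716)
theorem F245351 : act 1 n54745 = n53715 := d10_1 D54745 F240898 (iv F237717)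
theorem F245352 : act 2 n54745 = n53681 := d17_1 D54745 F240761 (iv F240828) F240829 (iv F237718)
theorem F245353 : act 4 n54745 = n53126 := d24_2 D53069 D54745 (iv D53126) (iv D51233) (iv F229176)
theorem F245354 : act 5 n54745 = n53712 := d25_2 (iv F237719) D54745 (iv D53712)
theorem F245355 : act 6 n54745 = n53684 := d26_2 (iv F237720) D54745 F240778
theorem F245356 : act 7 n54745 = n53921 := d27_2 F245301 D54745 (iv F245298)
theorem F245357 : act 8 n54070 = n54745 := d42_0 F245356 F241799 D54070
def n54746 : Q := act 9 n53069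
theorem D54746 : act 9 n53069 = n54746 := rfl
theorem F245358 : act 0 n54746 = n53073 := d8_1 D54746 (iv D53073) (iv F237716)
theorem F245359 : act 1 n54746 = n53719 := d16_1 D54746 (iv D53719) (iv F237717)
theorem F245360 : act 2 n54746 = n53773 := d23_1 D54746 (iv D53773) (iv F237718)
theorem F245361 : act 4 n54746 = n53070 := d34_1 D54746 (iv D53070) D53069
theorem F245362 : act 5 n54746 = n53713 := d38_1 D54746 (iv D53713) (iv F237719)
theorem F245363 : act 6 n54746 = n54056 := d41_1 D54746 (iv D54056) (iv F237720)
def n54747 : Q := act 8 n53070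
theorem D54747 : act 8 n53070 = n54747 := rfl
theorem F245364 : act 0 n54747 = n53074 := d7_1 D54747 (iv D53074) (iv F237722)
theorem F245365 : act 1 n54747 = n53735 := d15_1 D54747 (iv D53735) (iv F237723)
theorem F245366 : act 2 n54747 = n53774 := d22_1 D54747 (iv D53774) (iv F237724)
theorem F245367 : act 5 n54747 = n53092 := d37_1 D54747 (iv D53092) (iv F237726)
theorem F245368 : act 6 n54747 = n54057 := d40_1 D54747 (iv D54057) (iv F237727)
theorem F245369 : act 9 n54747 = n53810 := d44_2 D53070 D54747 (iv D53810) (iv D51944) (iv F229179)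
def n54748 : Q := act 8 n53071
theorem D54748 : act 8 n53071 = n54748 := rfl
theorem F245370 : act 0 n54748 = n54070 := d7_1 D54748 F245357 F245350
theorem F245371 : act 1 n54748 = n53075 := d15_1 D54748 (iv D53075) (iv F237728)
theorem F245372 : act 2 n54748 = n53524 := d22_1 D54748 F240003 (iv F237732)
theorem F245373 : act 3 n54748 = n53750 := d28_1 D54748 F245124 (iv D54705) F237506 D53071
theorem F245374 : act 4 n54748 = n53129 := d33_1 D54748 (iv D53129) (iv F237729)
theorem F245375 : act 5 n54748 = n53749 := d37_1 D54748 F241063 F237733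
theorem F245376 : act 6 n54748 = n54059 := d40_1 D54748 (iv D54059) (iv F237730)
theorem F245377 : act 7 n54748 = n53526 := d42_1 D54748 F240014 (iv F237731)
def n54749 : Q := act 9 n53071
theorem D54749 : act 9 n53071 = n54749 := rfl
theorem F245378 : act 1 n54749 = n53076 := d16_1 D54749 (iv D53076) (iv F237728)
theorem F245379 : act 2 n54749 = n54266 := d23_1 D54749 (iv D54266) (iv F237732)
theorem F245380 : act 3 n54749 = n53073 := d29_1 D54749 (iv D53073) D53071
theorem F245381 : act 4 n54749 = n53130 := d34_1 D54749 (iv D53130) (iv F237729)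
theorem F245382 : act 5 n54749 = n54304 := d38_1 D54749 (iv D54304) F237733
theorem F245383 : act 6 n54749 = n54060 := d41_1 D54749 (iv D54060) (iv F237730)
theorem F245384 : act 7 n54749 = n53923 := d43_1 D54749 (iv D53923) (iv F237731)
def n54750 : Q := act 9 n53072
theorem D54750 : act 9 n53072 = n54750 := rfl
theorem F245385 : act 0 n54750 = n53713 := d8_1 D54750 (iv D53713) (iv F237734)
theorem F245386 : act 1 n54750 = n53078 := d16_1 D54750 (iv D53078) (iv F237735)
theorem F245387 : act 2 n54750 = n53778 := d23_1 D54750 (iv D53778) (iv F237736)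
theorem F245388 : act 3 n54750 = n54304 := d29_1 D54750 (iv D54304) (iv F237737)
theorem F245389 : act 4 n54750 = n53093 := d34_1 D54750 (iv D53093) (iv F237738)
theorem F245390 : act 5 n54750 = n53073 := d38_1 D54750 (iv D53073) D53072
theorem F245391 : act 6 n54750 = n54339 := d41_1 D54750 (iv D54339) F237741
theorem F245392 : act 7 n54750 = n54310 := d43_1 D54750 (iv D54310) (iv F237739)
def n54751 : Q := act 8 n53073
theorem D54751 : act 8 n53073 = n54751 := rfl
theorem F245393 : act 1 n54751 = n53079 := d15_1 D54751 (iv D53079) (iv F237742)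
theorem F245394 : act 2 n54751 = n53779 := d22_1 D54751 (iv D53779) (iv F237743)
theorem F245395 : act 4 n54751 = n53074 := d33_1 D54751 (iv D53074) (iv F237744)
theorem F245396 : act 6 n54751 = n54063 := d40_1 D54751 (iv D54063) (iv F237745)
def n54752 : Q := act 3 n53074
theorem D54752 : act 3 n53074 = n54752 := rfl
theorem F245397 : act 1 n54752 = n53080 := d10_1 D54752 (iv D53080) (iv F237746)
theorem F245398 : act 5 n54752 = n53095 := d25_2 (iv F237748) D54752 (iv D53095)
theorem F245399 : act 6 n54752 = n54064 := d26_2 (iv F237749) D54752 (iv D54064)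
theorem F245400 : act 8 n54752 = n53132 := d28_2 D53074 D54752 (iv D53132) (iv D51237) (iv F229185)
def n54753 : Q := act 9 n53075
theorem D54753 : act 9 n53075 = n54753 := rfl
theorem F245401 : act 0 n54753 = n54005 := d8_1 D54753 (iv D54005) (iv F237750)
theorem F245402 : act 2 n54753 = n53917 := d23_1 D54753 (iv D53917) (iv F237751)
theorem F245403 : act 4 n54753 = n53133 := d34_1 D54753 (iv D53133) (iv F237752)
theorem F245404 : act 5 n54753 = n53847 := d38_1 D54753 F241428 (iv F237753)
theorem F245405 : act 6 n54753 = n54068 := d41_1 D54753 (iv D54068) (iv F237754)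
theorem F245406 : act 7 n54753 = n53854 := d43_1 D54753 F241459 (iv F237755)
def n54754 : Q := act 8 n53076
theorem D54754 : act 8 n53076 = n54754 := rfl
theorem F245407 : act 0 n54754 = n54379 := d7_1 D54754 (iv D54379) (iv F237756)
theorem F245408 : act 2 n54754 = n53920 := d22_1 D54754 (iv D53920) (iv F237757)
theorem F245409 : act 4 n54754 = n53134 := d33_1 D54754 (iv D53134) (iv F237759)
theorem F245410 : act 5 n54754 = n54306 := d37_1 D54754 (iv D54306) (iv F237760)
theorem F245411 : act 6 n54754 = n54069 := d40_1 D54754 (iv D54069) (iv F237761)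
theorem F245412 : act 7 n54754 = n53925 := d42_1 D54754 (iv D53925) (iv F237762)
def n54755 : Q := act 7 n53077
theorem D54755 : act 7 n53077 = n54755 := rfl
theorem F245413 : act 0 n54755 = n53749 := d6_1 D54755 F241062 (iv F237763)
theorem F245414 : act 1 n54755 = n53716 := d14_1 D54755 F240905 (iv F237764)
theorem F245415 : act 2 n54755 = n53081 := d21_1 D54755 (iv D53081) (iv F237765)
theorem F245416 : act 3 n54755 = n53635 := d27_1 D54755 F240545 (iv F237766)
theorem F245417 : act 4 n54755 = n53096 := d32_1 D54755 (iv D53096) (iv F237767)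
theorem F245418 : act 5 n54755 = n54070 := d36_1 D54755 (iv D54070) (iv F237768)
theorem F245419 : act 6 n54755 = n53640 := d39_1 D54755 F240568 F232285 (iv F229198) D53077
theorem F245420 : act 8 n54755 = n53712 := d42_2 (iv F237769) D54755 F240888
def n54756 : Q := act 9 n53077
theorem D54756 : act 9 n53077 = n54756 := rfl
theorem F245421 : act 0 n54756 = n53849 := d8_1 D54756 F241436 (iv F237763)
theorem F245422 : act 1 n54756 = n54339 := d16_1 D54756 (iv D54339) (iv F237764)
theorem F245423 : act 2 n54756 = n53082 := d23_1 D54756 (iv D53082) (iv F237765)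
theorem F245424 : act 3 n54756 = n54300 := d29_1 D54756 (iv D54300) (iv F237766)
theorem F245425 : act 4 n54756 = n53097 := d34_1 D54756 (iv D53097) (iv F237767)
theorem F245426 : act 5 n54756 = n54071 := d38_1 D54756 (iv D54071) (iv F237768)
theorem F245427 : act 6 n54756 = n53078 := d41_1 D54756 (iv D53078) D53077
def n54757 : Q := act 8 n53078
theorem D54757 : act 8 n53078 = n54757 := rfl
theorem F245428 : act 0 n54757 = n54378 := d7_1 D54757 (iv D54378) (iv F237770)
theorem F245429 : act 2 n54757 = n53083 := d22_1 D54757 (iv D53083) (iv F237771)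
theorem F245430 : act 4 n54757 = n53098 := d33_1 D54757 (iv D53098) (iv F237773)
theorem F245431 : act 5 n54757 = n53079 := d37_1 D54757 (iv D53079) (iv F237774)
theorem F245432 : act 7 n54757 = n54313 := d42_1 D54757 (iv D54313) (iv F237775)
def n54758 : Q := act 3 n53079
theorem D54758 : act 3 n53079 = n54758 := rfl
theorem F245433 : act 6 n54758 = n54073 := d26_2 (iv F237778) D54758 (iv D54073)
def n54759 : Q := act 4 n53080
theorem D54759 : act 4 n53080 = n54759 := rfl
theorem F245434 : act 6 n54759 = n54074 := d31_2 (iv F237780) D54759 (iv D54074)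
theorem F245435 : act 8 n54759 = n53136 := d33_2 (iv F237781) D54759 (iv D53136)
def n54760 : Q := act 9 n53081
theorem D54760 : act 9 n53081 = n54760 := rfl
theorem F245436 : act 1 n54760 = n53791 := d16_1 D54760 (iv D53791) (iv F237782)
theorem F245437 : act 4 n54760 = n53100 := d34_1 D54760 (iv D53100) (iv F237783)
theorem F245438 : act 5 n54760 = n54075 := d38_1 D54760 (iv D54075) (iv F237784)
theorem F245439 : act 7 n54760 = n53082 := d43_1 D54760 (iv D53082) D53081
def n54761 : Q := act 8 n53082
theorem D54761 : act 8 n53082 = n54761 := rfl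
theorem F245440 : act 1 n54761 = n53792 := d15_1 D54761 (iv D53792) (iv F237785)
theorem F245441 : act 4 n54761 = n53101 := d33_1 D54761 (iv D53101) (iv F237786)
theorem F245442 : act 5 n54761 = n54076 := d37_1 D54761 (iv D54076) (iv F237787)
theorem F245443 : act 6 n54761 = n53083 := d40_1 D54761 (iv D53083) (iv F237788)
def n54762 : Q := act 3 n53083
theorem D54762 : act 3 n53083 = n54762 := rfl
theorem F245444 : act 1 n54762 = n53793 := d10_1 D54762 (iv D53793) (iv F237789)
theorem F245445 : act 5 n54762 = n53084 := d25_2 (iv F237791) D54762 (iv D53084)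
def n54763 : Q := act 2 n53084
theorem D54763 : act 2 n53084 = n54763 := rfl
theorem F245446 : act 6 n54763 = n54078 := d20_2 (iv F237793) D54763 (iv D54078)
def n54764 : Q := act 8 n53085
theorem D54764 : act 8 n53085 = n54764 := rfl
theorem F245447 : act 0 n54764 = n53086 := d7_1 D54764 (iv D53086) (iv F237794)
theorem F245448 : act 1 n54764 = n53728 := d15_1 D54764 (iv D53728) (iv F237795)
theorem F245449 : act 2 n54764 = n53795 := d22_1 D54764 (iv D53795) (iv F237796)
theorem F245450 : act 4 n54764 = n53725 := d33_1 D54764 (iv D53725) (iv F237798)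
theorem F245451 : act 6 n54764 = n54764 := d40_1 D54764 (iv D54764) F237799
theorem F245452 : act 7 n54764 = n53092 := d42_1 D54764 (iv D53092) (iv F237800)
theorem F245453 : act 9 n54764 = n53797 := d44_2 D53085 D54764 (iv D53797) (iv D51932) (iv F229220)
def n54765 : Q := act 3 n53086
theorem D54765 : act 3 n53086 = n54765 := rfl
theorem F245454 : act 1 n54765 = n53087 := d10_1 D54765 (iv D53087) (iv F237801)
theorem F245455 : act 6 n54765 = n54765 := d26_2 F237804 D54765 (iv D54765)
theorem F245456 : act 7 n54765 = n53095 := d27_2 (iv F237805) D54765 (iv D53095)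
theorem F245457 : act 8 n54765 = n53138 := d28_2 D53086 D54765 (iv D53138) (iv D51243) (iv F229223)
def n54766 : Q := act 4 n53087
theorem D54766 : act 4 n53087 = n54766 := rfl
theorem F245458 : act 0 n54766 = n54412 := d3_1 D54766 F243408 (iv F237806)
theorem F245459 : act 3 n54766 = n54410 := d24_1 D54766 F243401 F235499 (iv F229229) D53087
theorem F245460 : act 6 n54766 = n54766 := d31_2 F237807 D54766 (iv D54766)
theorem F245461 : act 7 n54766 = n53099 := d32_2 (iv F237808) D54766 (iv D53099)
theorem F245462 : act 8 n54766 = n53139 := d33_2 (iv F237809) D54766 (iv D53139)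
def n54767 : Q := act 9 n53088
theorem D54767 : act 9 n53088 = n54767 := rfl
theorem F245463 : act 0 n54767 = n53506 := d8_1 D54767 (iv D53506) (iv F237810)
theorem F245464 : act 1 n54767 = n53804 := d16_1 D54767 (iv D53804) (iv F237811)
theorem F245465 : act 2 n54767 = n53674 := d23_1 D54767 (iv D53674) (iv F237812)
theorem F245466 : act 3 n54767 = n53112 := d29_1 D54767 (iv D53112) (iv F237813)
theorem F245467 : act 5 n54767 = n54767 := d38_1 D54767 (iv D54767) F237814
theorem F245468 : act 6 n54767 = n53100 := d41_1 D54767 (iv D53100) (iv F237815)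
theorem F245469 : act 7 n54767 = n53089 := d43_1 D54767 (iv D53089) D53088
def n54768 : Q := act 8 n53089
theorem D54768 : act 8 n53089 = n54768 := rfl
theorem F245470 : act 0 n54768 = n53517 := d7_1 D54768 (iv D53517) (iv F237817)
theorem F245471 : act 1 n54768 = n53805 := d15_1 D54768 (iv D53805) (iv F237818)
theorem F245472 : act 2 n54768 = n53680 := d22_1 D54768 (iv D53680) (iv F237819)
theorem F245473 : act 5 n54768 = n54768 := d37_1 D54768 (iv D54768) F237821
theorem F245474 : act 6 n54768 = n53090 := d40_1 D54768 (iv D53090) (iv F237822)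
def n54769 : Q := act 3 n53090
theorem D54769 : act 3 n53090 = n54769 := rfl
theorem F245475 : act 0 n54769 = n54243 := d2_1 D54769 (iv D54243) (iv F237823)
theorem F245476 : act 1 n54769 = n53806 := d10_1 D54769 (iv D53806) (iv F237824)
theorem F245477 : act 5 n54769 = n53091 := d25_2 (iv F237826) D54769 (iv D53091)
theorem F245478 : act 7 n54769 = n53102 := d27_2 (iv F237827) D54769 (iv D53102)
theorem F245479 : act 8 n54769 = n53114 := d28_2 D53090 D54769 (iv D53114) (iv D51220) (iv F229240)
def n54770 : Q := act 2 n53091
theorem D54770 : act 2 n53091 = n54770 := rfl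
theorem F245480 : act 0 n54770 = n54084 := d1_1 D54770 F242466 (iv F237828)
theorem F245481 : act 3 n54770 = n54081 := d17_2 D53091 D54770 F242451 F235499 (iv F229245)
theorem F245482 : act 6 n54770 = n54770 := d20_2 F237830 D54770 (iv D54770)
theorem F245483 : act 7 n54770 = n53103 := d21_2 (iv F237831) D54770 (iv D53103)
theorem F245484 : act 8 n54770 = n53115 := d22_2 (iv F237832) D54770 (iv D53115)
def n54771 : Q := act 3 n53092
theorem D54771 : act 3 n53092 = n54771 := rfl
theorem F245485 : act 0 n54771 = n53095 := d2_1 D54771 (iv D53095) (iv F237833)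
theorem F245486 : act 1 n54771 = n53736 := d10_1 D54771 (iv D53736) (iv F237834)
theorem F245487 : act 2 n54771 = n53110 := d17_1 D54771 (iv D53110) (iv F237918) F237919 (iv F237835)
theorem F245488 : act 4 n54771 = n53932 := d24_2 (iv F237836) D54771 (iv D53932) F233654 (iv F232593)
theorem F245489 : act 6 n54771 = n53104 := d26_2 (iv F237837) D54771 (iv D53104)
theorem F245490 : act 8 n54771 = n53122 := d28_2 D53092 D54771 F237995 (iv D51245) (iv F229252)
theorem F245491 : act 9 n54771 = n53811 := d29_2 (iv F237838) D54771 (iv D53811)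
def n54772 : Q := act 8 n53093
theorem D54772 : act 8 n53093 = n54772 := rfl
theorem F245492 : act 0 n54772 = n53714 := d7_1 D54772 (iv D53714) (iv F237839)
theorem F245493 : act 1 n54772 = n53098 := d15_1 D54772 (iv D53098) (iv F237840)
theorem F245494 : act 2 n54772 = n53810 := d22_1 D54772 (iv D53810) (iv F237841)
theorem F245495 : act 3 n54772 = n54309 := d28_1 D54772 (iv D54309) F235203 (iv F233185) (iv F237842)
theorem F245496 : act 5 n54772 = n53094 := d37_1 D54772 (iv D53094) (iv F237843)
theorem F245497 : act 6 n54772 = n54340 := d40_1 D54772 (iv D54340) (iv F237844)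
theorem F245498 : act 7 n54772 = n54317 := d42_1 D54772 (iv D54317) (iv F237845)
theorem F245499 : act 9 n54772 = n53774 := d44_2 D53093 D54772 (iv D53774) (iv D51914) (iv F229261)
def n54773 : Q := act 4 n53095
theorem D54773 : act 4 n53095 = n54773 := rfl
theorem F245500 : act 0 n54773 = n53932 := d3_1 D54773 (iv F245488) F245485
theorem F245501 : act 1 n54773 = n53099 := d11_1 D54773 (iv D53099) (iv F237854)
theorem F245502 : act 2 n54773 = n53589 := d18_1 D54773 (iv F244940) F244939
theorem F245503 : act 3 n54773 = n53931 := d24_1 D54773 F241845 (iv F237849) F237850 D53095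
theorem F245504 : act 6 n54773 = n53105 := d31_2 (iv F237855) D54773 (iv D53105)
theorem F245505 : act 8 n54773 = n53140 := d33_2 (iv F237856) D54773 (iv D53140)
theorem F245506 : act 9 n54773 = n54102 := d34_2 F245229 D54773 (iv F245226)
def n54774 : Q := act 9 n53096
theorem D54774 : act 9 n53096 = n54774 := rfl
theorem F245507 : act 0 n54774 = n53843 := d8_1 D54774 (iv D53843) (iv F237857)
theorem F245508 : act 1 n54774 = n53865 := d16_1 D54774 (iv D53865) (iv F237858)
theorem F245509 : act 2 n54774 = n53100 := d23_1 D54774 (iv D53100) (iv F237859)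
theorem F245510 : act 3 n54774 = n53673 := d29_1 D54774 (iv D53673) (iv F237860)
theorem F245511 : act 5 n54774 = n53106 := d38_1 D54774 (iv D53106) (iv F237861)
theorem F245512 : act 6 n54774 = n53674 := d41_1 D54774 (iv D53674) (iv F237862)
theorem F245513 : act 7 n54774 = n53097 := d43_1 D54774 (iv D53097) D53096
def n54775 : Q := act 8 n53097
theorem D54775 : act 8 n53097 = n54775 := rfl
theorem F245514 : act 0 n54775 = n53780 := d7_1 D54775 F241175 (iv F237864)
theorem F245515 : act 1 n54775 = n54340 := d15_1 D54775 (iv D54340) (iv F237865)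
theorem F245516 : act 2 n54775 = n53101 := d22_1 D54775 (iv D53101) (iv F237866)
theorem F245517 : act 3 n54775 = n53774 := d28_1 D54775 (iv D53774) F232717 D51991 (iv F237867)
theorem F245518 : act 5 n54775 = n53107 := d37_1 D54775 (iv D53107) (iv F237868)
theorem F245519 : act 6 n54775 = n53098 := d40_1 D54775 (iv D53098) (iv F237869)
theorem F245520 : act 9 n54775 = n54309 := d44_2 D53097 D54775 (iv D54309) (iv D52564) (iv F229277)
def n54776 : Q := act 5 n53099
theorem D54776 : act 5 n53099 = n54776 := rfl
theorem F245521 : act 0 n54776 = n54419 := d4_1 D54776 F243432 (iv F237875)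
theorem F245522 : act 3 n54776 = n54417 := d25_1 D54776 F243427 (iv F237876)
theorem F245523 : act 8 n54776 = n53141 := d37_2 (iv F237878) D54776 (iv D53141)
def n54777 : Q := act 8 n53100
theorem D54777 : act 8 n53100 = n54777 := rfl
theorem F245524 : act 1 n54777 = n53818 := d15_1 D54777 (iv D53818) (iv F237879)
theorem F245525 : act 5 n54777 = n53109 := d37_1 D54777 (iv D53109) (iv F237881)
theorem F245526 : act 7 n54777 = n53101 := d42_1 D54777 (iv D53101) (iv F237882)
def n54778 : Q := act 3 n53101
theorem D54778 : act 3 n53101 = n54778 := rfl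
theorem F245527 : act 1 n54778 = n53819 := d10_1 D54778 (iv D53819) (iv F237883)
theorem F245528 : act 5 n54778 = n53110 := d25_2 (iv F237884) D54778 (iv D53110)
theorem F245529 : act 6 n54778 = n53102 := d26_2 (iv F237885) D54778 (iv D53102)
theorem F245530 : act 8 n54778 = n53117 := d28_2 D53101 D54778 (iv D53117) (iv D51223) (iv F229295)
def n54779 : Q := act 2 n53102
theorem D54779 : act 2 n53102 = n54779 := rfl
theorem F245531 : act 0 n54779 = n54064 := d1_1 D54779 (iv F244926) F244925
theorem F245532 : act 3 n54779 = n54057 := d17_2 D53102 D54779 F242382 (iv F237872) F237871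
theorem F245533 : act 5 n54779 = n53103 := d19_2 (iv F237887) D54779 (iv D53103)
theorem F245534 : act 8 n54779 = n53118 := d22_2 (iv F237888) D54779 (iv D53118)
def n54780 : Q := act 4 n53102
theorem D54780 : act 4 n53102 = n54780 := rfl
theorem F245535 : act 1 n54780 = n53821 := d11_1 D54780 (iv D53821) (iv F237886)
theorem F245536 : act 8 n54780 = n53119 := d33_2 (iv F237888) D54780 (iv D53119)
def n54781 : Q := act 1 n53103
theorem D54781 : act 1 n53103 = n54781 := rfl
theorem F245537 : act 0 n54781 = n53978 := d0_1 D54781 F242043 F233893 (iv F234342) (iv F237889)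
theorem F245538 : act 2 n54781 = n53822 := d9_2 D53103 D54781 (iv D53822) (iv D51955) (iv F229300)
theorem F245539 : act 3 n54781 = n53742 := d10_2 (iv F237890) D54781 F241022
theorem F245540 : act 6 n54781 = n53111 := d13_2 (iv F237891) D54781 (iv D53111)
theorem F245541 : act 8 n54781 = n53120 := d15_2 (iv F237892) D54781 (iv D53120)
theorem F245542 : act 9 n54781 = n53826 := d16_2 F245265 D54781 F245266
def n54782 : Q := act 8 n53106
theorem D54782 : act 8 n53106 = n54782 := rfl
theorem F245543 : act 0 n54782 = n53798 := d7_1 D54782 F241231 (iv F237909)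
theorem F245544 : act 1 n54782 = n54359 := d15_1 D54782 (iv D54359) (iv F237910)
theorem F245545 : act 2 n54782 = n53109 := d22_1 D54782 (iv D53109) (iv F237911)
theorem F245546 : act 3 n54782 = n53795 := d28_1 D54782 (iv D53795) F232763 D51999 (iv F237912)
theorem F245547 : act 4 n54782 = n54101 := d33_1 D54782 (iv D54101) (iv F237913)
theorem F245548 : act 6 n54782 = n54782 := d40_1 D54782 (iv D54782) F237914
theorem F245549 : act 7 n54782 = n53107 := d42_1 D54782 (iv D53107) (iv F237915)
theorem F245550 : act 9 n54782 = n54316 := d44_2 D53106 D54782 (iv D54316) (iv D52572) (iv F229328)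
def n54783 : Q := act 6 n53108
theorem D54783 : act 6 n53108 = n54783 := rfl
theorem F245551 : act 0 n54783 = n54426 := d5_1 D54783 F243451 (iv F237923)
theorem F245552 : act 1 n54783 = n53587 := d13_1 D54783 F240314 (iv F237924)
theorem F245553 : act 3 n54783 = n54034 := d26_1 D54783 F242298 (iv F237925)
theorem F245554 : act 4 n54783 = n53822 := d31_1 D54783 F241318 (iv F237926)
theorem F245555 : act 8 n54783 = n53142 := d40_2 (iv F237928) D54783 (iv D53142)
theorem F245556 : act 9 n54783 = n54092 := d41_2 (iv F237929) D54783 F242503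
theorem F245557 : act 7 n54470 = n54783 := d42_3 F245555 (iv F238109) (iv F243604)
def n54784 : Q := act 3 n53109
theorem D54784 : act 3 n53109 = n54784 := rfl
theorem F245558 : act 1 n54784 = n53828 := d10_1 D54784 (iv D53828) (iv F237930)
theorem F245559 : act 4 n54784 = n54446 := d24_2 (iv F237931) D54784 (iv D54446) (iv F237128) F237127
theorem F245560 : act 6 n54784 = n54784 := d26_2 F237932 D54784 (iv D54784)
theorem F245561 : act 7 n54784 = n53110 := d27_2 (iv F237933) D54784 (iv D53110)
theorem F245562 : act 8 n54784 = n53121 := d28_2 D53109 D54784 (iv D53121) (iv D51226) (iv F229348)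
def n54785 : Q := act 8 n53112
theorem D54785 : act 8 n53112 = n54785 := rfl
theorem F245563 : act 0 n54785 = n53507 := d7_1 D54785 (iv D53507) (iv F237944)
theorem F245564 : act 1 n54785 = n53831 := d15_1 D54785 (iv D53831) (iv F237945)
theorem F245565 : act 2 n54785 = n53398 := d22_1 D54785 (iv D53398) (iv F237946)
theorem F245566 : act 4 n54785 = n53397 := d33_1 D54785 (iv D53397) (iv F237947)
theorem F245567 : act 5 n54785 = n54785 := d37_1 D54785 (iv D54785) F237948
theorem F245568 : act 6 n54785 = n53116 := d40_1 D54785 (iv D53116) (iv F237949)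
theorem F245569 : act 7 n54785 = n53113 := d42_1 D54785 (iv D53113) (iv F237950)
theorem F245570 : act 9 n54785 = n54785 := d44_2 D53112 D54785 (iv D54785) (iv D53112) F229369
def n54786 : Q := act 3 n53113
theorem D54786 : act 3 n53113 = n54786 := rfl
theorem F245571 : act 0 n54786 = n53518 := d2_1 D54786 (iv D53518) (iv F237951)
theorem F245572 : act 1 n54786 = n53832 := d10_1 D54786 (iv D53832) (iv F237952)
theorem F245573 : act 2 n54786 = n54440 := d17_1 D54786 (iv D54440) F235637 (iv F231142) (iv F237953)
theorem F245574 : act 5 n54786 = n54786 := d25_2 F237955 D54786 (iv D54786)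
theorem F245575 : act 6 n54786 = n53114 := d26_2 (iv F237956) D54786 (iv D53114)
theorem F245576 : act 9 n54786 = n54786 := d29_2 F237957 D54786 (iv D54786)
def n54787 : Q := act 2 n53114
theorem D54787 : act 2 n53114 = n54787 := rfl
theorem F245577 : act 0 n54787 = n54104 := d1_1 D54787 F242547 (iv F237958)
theorem F245578 : act 3 n54787 = n53862 := d17_2 D53114 D54787 F241507 F233165 (iv F229378)
theorem F245579 : act 5 n54787 = n53115 := d19_2 (iv F237960) D54787 (iv D53115)
theorem F245580 : act 6 n54787 = n54440 := d20_2 F245575 D54787 (iv F245573)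
theorem F245581 : act 7 n54787 = n53118 := d21_2 (iv F237961) D54787 (iv D53118)
theorem F245582 : act 9 n54787 = n54787 := d23_2 F237962 D54787 (iv D54787)
def n54788 : Q := act 4 n53114
theorem D54788 : act 4 n53114 = n54788 := rfl
theorem F245583 : act 0 n54788 = n54244 := d3_1 D54788 (iv D54244) (iv F237958)
theorem F245584 : act 1 n54788 = n53834 := d11_1 D54788 (iv D53834) (iv F237959)
theorem F245585 : act 3 n54788 = n54189 := d24_1 D54788 (iv D54189) (iv D52413) (iv F229379) D53114
theorem F245586 : act 7 n54788 = n53119 := d32_2 (iv F237961) D54788 (iv D53119)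
theorem F245587 : act 9 n54788 = n54788 := d34_2 F237962 D54788 (iv D54788)
def n54789 : Q := act 1 n53115
theorem D54789 : act 1 n53115 = n54789 := rfl
theorem F245588 : act 0 n54789 = n53997 := d0_1 D54789 F242137 F234007 (iv F234460) (iv F237963)
theorem F245589 : act 2 n54789 = n53835 := d9_2 D53115 D54789 (iv D53835) (iv D51972) (iv F229384)
theorem F245590 : act 3 n54789 = n53996 := d10_2 (iv F237964) D54789 F242131
theorem F245591 : act 4 n54789 = n54471 := d11_2 F244526 D54789 (iv F244524)
theorem F245592 : act 6 n54789 = n54789 := d13_2 F237965 D54789 (iv D54789)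
theorem F245593 : act 7 n54789 = n53120 := d14_2 (iv F237966) D54789 (iv D53120)
theorem F245594 : act 9 n54789 = n54789 := d16_2 F237967 D54789 (iv D54789)
def n54790 : Q := act 3 n53116
theorem D54790 : act 3 n53116 = n54790 := rfl
theorem F245595 : act 1 n54790 = n53836 := d10_1 D54790 (iv D53836) (iv F237968)
theorem F245596 : act 5 n54790 = n53121 := d25_2 (iv F237970) D54790 (iv D53121)
theorem F245597 : act 7 n54790 = n53117 := d27_2 (iv F237971) D54790 (iv D53117)
theorem F245598 : act 9 n54790 = n54790 := d29_2 F237972 D54790 (iv D54790)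
def n54791 : Q := act 2 n53117
theorem D54791 : act 2 n53117 = n54791 := rfl
theorem F245599 : act 0 n54791 = n53132 := d1_1 D54791 (iv F244954) F244952
theorem F245600 : act 1 n54791 = n53939 := d9_1 D54791 F241882 F241384 (iv D53837) (iv F237973)
theorem F245601 : act 3 n54791 = n53128 := d17_2 D53117 D54791 F238032 (iv F235868) F235867
theorem F245602 : act 5 n54791 = n53122 := d19_2 (iv F237974) D54791 (iv D53122)
theorem F245603 : act 6 n54791 = n53118 := d20_2 (iv F237975) D54791 (iv D53118)
theorem F245604 : act 9 n54791 = n54791 := d23_2 F237976 D54791 (iv D54791)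
def n54792 : Q := act 4 n53117
theorem D54792 : act 4 n53117 = n54792 := rfl
theorem F245605 : act 1 n54792 = n53838 := d11_1 D54792 (iv D53838) (iv F237973)
theorem F245606 : act 6 n54792 = n53119 := d31_2 (iv F237975) D54792 (iv D53119)
theorem F245607 : act 9 n54792 = n54792 := d34_2 F237976 D54792 (iv D54792)
def n54793 : Q := act 1 n53118
theorem D54793 : act 1 n53118 = n54793 := rfl
theorem F245608 : act 0 n54793 = n53992 := d0_1 D54793 F242115 F233991 (iv F234445) (iv F237977)
theorem F245609 : act 2 n54793 = n53839 := d9_2 D53118 D54793 (iv D53839) (iv D51975) (iv F229395)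
theorem F245610 : act 3 n54793 = n53989 := d10_2 (iv F237978) D54793 F242100
theorem F245611 : act 5 n54793 = n53120 := d12_2 (iv F237979) D54793 (iv D53120)
theorem F245612 : act 6 n54793 = n53939 := d13_2 F245603 D54793 (iv F245600)
theorem F245613 : act 9 n54793 = n54793 := d16_2 F237980 D54793 (iv D54793)
def n54794 : Q := act 4 n53118
theorem D54794 : act 4 n53118 = n54794 := rfl
theorem F245614 : act 0 n54794 = n54112 := d3_1 D54794 (iv D54112) (iv F237977)
theorem F245615 : act 2 n54794 = n53119 := d18_1 D54794 (iv D53119) D53118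
theorem F245616 : act 9 n54794 = n54794 := d34_2 F237980 D54794 (iv D54794)
def n54795 : Q := act 2 n53121
theorem D54795 : act 2 n53121 = n54795 := rfl
theorem F245617 : act 0 n54795 = n53138 := d1_1 D54795 (iv F244966) F244964
theorem F245618 : act 1 n54795 = n53938 := d9_1 D54795 F241876 F241404 (iv D53842) (iv F237988)
theorem F245619 : act 3 n54795 = n53137 := d17_2 D53121 D54795 F238081 (iv F235876) F235875
theorem F245620 : act 4 n54795 = n53937 := d18_2 (iv F237989) D54795 F241871
theorem F245621 : act 6 n54795 = n54795 := d20_2 F237990 D54795 (iv D54795)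
theorem F245622 : act 7 n54795 = n53122 := d21_2 (iv F237991) D54795 (iv D53122)
theorem F245623 : act 9 n54795 = n54795 := d23_2 F237992 D54795 (iv D54795)
def n54796 : Q := act 8 n53123
theorem D54796 : act 8 n53123 = n54796 := rfl
theorem F245624 : act 0 n54796 = n53124 := d7_1 D54796 (iv D53124) (iv F237999)
theorem F245625 : act 1 n54796 = n54449 := d15_1 D54796 F243537 (iv F238000)
theorem F245626 : act 2 n54796 = n53143 := d22_1 D54796 (iv D53143) (iv F238001)
theorem F245627 : act 4 n54796 = n53933 := d33_1 D54796 (iv D53933) (iv F238002)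
theorem F245628 : act 5 n54796 = n53137 := d37_1 D54796 (iv D53137) (iv F238003)
theorem F245629 : act 6 n54796 = n54433 := d40_1 D54796 (iv D54433) (iv F238004)
theorem F245630 : act 7 n54796 = n53128 := d42_1 D54796 (iv D53128) (iv F238005)
theorem F245631 : act 9 n54796 = n54796 := d44_2 D53123 D54796 (iv D54796) (iv D53123) F229429
def n54797 : Q := act 3 n53124
theorem D54797 : act 3 n53124 = n54797 := rfl
theorem F245632 : act 1 n54797 = n53125 := d10_1 D54797 (iv D53125) (iv F238006)
theorem F245633 : act 5 n54797 = n53138 := d25_2 (iv F238009) D54797 (iv D53138)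
theorem F245634 : act 7 n54797 = n53132 := d27_2 (iv F238010) D54797 (iv D53132)
theorem F245635 : act 9 n54797 = n54797 := d29_2 F238011 D54797 (iv D54797)
def n54798 : Q := act 4 n53125
theorem D54798 : act 4 n53125 = n54798 := rfl
theorem F245636 : act 0 n54798 = n54459 := d3_1 D54798 (iv D54459) (iv F238012)
theorem F245637 : act 3 n54798 = n53935 := d24_1 D54798 (iv D53935) (iv D52123) (iv F229437) D53125
theorem F245638 : act 7 n54798 = n53136 := d32_2 (iv F238014) D54798 (iv D53136)
theorem F245639 : act 9 n54798 = n54798 := d34_2 F238015 D54798 (iv D54798)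
def n54799 : Q := act 9 n53126
theorem D54799 : act 9 n53126 = n54799 := rfl
theorem F245640 : act 0 n54799 = n53130 := d8_1 D54799 (iv D53130) (iv F238016)
theorem F245641 : act 1 n54799 = n54409 := d16_1 D54799 (iv D54409) (iv F238017)
theorem F245642 : act 2 n54799 = n53682 := d23_1 D54799 (iv D53682) (iv F238018)
theorem F245643 : act 3 n54799 = n53127 := d29_1 D54799 (iv D53127) D53126
theorem F245644 : act 5 n54799 = n53928 := d38_1 D54799 (iv D53928) (iv F238019)
theorem F245645 : act 6 n54799 = n53685 := d41_1 D54799 (iv D53685) (iv F238020)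
theorem F245646 : act 7 n54799 = n53922 := d43_1 D54799 (iv D53922) (iv F238021)
def n54800 : Q := act 8 n53127
theorem D54800 : act 8 n53127 = n54800 := rfl
theorem F245647 : act 0 n54800 = n53131 := d7_1 D54800 (iv D53131) (iv F238023)
theorem F245648 : act 1 n54800 = n54448 := d15_1 D54800 F243531 (iv F238024)
theorem F245649 : act 2 n54800 = n53145 := d22_1 D54800 (iv D53145) (iv F238025)
theorem F245650 : act 4 n54800 = n53128 := d33_1 D54800 (iv D53128) (iv F238026)
theorem F245651 : act 5 n54800 = n53936 := d37_1 D54800 (iv D53936) (iv F238027)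
theorem F245652 : act 6 n54800 = n53857 := d40_1 D54800 (iv D53857) (iv F238028)
theorem F245653 : act 7 n54800 = n53933 := d42_1 D54800 (iv D53933) (iv F238029)
theorem F245654 : act 9 n54800 = n54800 := d44_2 D53127 D54800 (iv D54800) (iv D53127) F229447
def n54801 : Q := act 9 n53129
theorem D54801 : act 9 n53129 = n54801 := rfl
theorem F245655 : act 0 n54801 = n54093 := d8_1 D54801 (iv D54093) (iv F238036)
theorem F245656 : act 1 n54801 = n53133 := d16_1 D54801 (iv D53133) (iv F238037)
theorem F245657 : act 2 n54801 = n53525 := d23_1 D54801 (iv D53525) (iv F238038)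
theorem F245658 : act 3 n54801 = n54801 := d29_1 D54801 (iv D54801) F238039
theorem F245659 : act 5 n54801 = n53530 := d38_1 D54801 (iv D53530) (iv F238040)
theorem F245660 : act 6 n54801 = n54109 := d41_1 D54801 (iv D54109) (iv F238041)
theorem F245661 : act 7 n54801 = n53527 := d43_1 D54801 (iv D53527) (iv F238042)
def n54802 : Q := act 8 n53130
theorem D54802 : act 8 n53130 = n54802 := rfl
theorem F245662 : act 1 n54802 = n53134 := d15_1 D54802 (iv D53134) (iv F238043)
theorem F245663 : act 2 n54802 = n54267 := d22_1 D54802 (iv D54267) (iv F238044)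
theorem F245664 : act 5 n54802 = n53929 := d37_1 D54802 (iv D53929) (iv F238046)
theorem F245665 : act 6 n54802 = n54110 := d40_1 D54802 (iv D54110) (iv F238047)
theorem F245666 : act 7 n54802 = n53924 := d42_1 D54802 (iv D53924) (iv F238048)
def n54803 : Q := act 3 n53131
theorem D54803 : act 3 n53131 = n54803 := rfl
theorem F245667 : act 1 n54803 = n53135 := d10_1 D54803 (iv D53135) (iv F238049)
theorem F245668 : act 2 n54803 = n54240 := d17_1 D54803 (iv D54240) F234943 (iv F229566) (iv F238050)
theorem F245669 : act 5 n54803 = n53937 := d25_2 (iv F238052) D54803 (iv D53937)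
theorem F245670 : act 6 n54803 = n54111 := d26_2 (iv F238053) D54803 (iv D54111)
theorem F245671 : act 7 n54803 = n53934 := d27_2 (iv F238054) D54803 (iv D53934)
theorem F245672 : act 9 n54803 = n54803 := d29_2 F238055 D54803 (iv D54803)
def n54804 : Q := act 4 n53132
theorem D54804 : act 4 n53132 = n54804 := rfl
theorem F245673 : act 1 n54804 = n53136 := d11_1 D54804 (iv D53136) (iv F238056)
theorem F245674 : act 6 n54804 = n54112 := d31_2 (iv F238058) D54804 (iv D54112)
theorem F245675 : act 9 n54804 = n54804 := d34_2 F238059 D54804 (iv D54804)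
def n54805 : Q := act 8 n53133
theorem D54805 : act 8 n53133 = n54805 := rfl
theorem F245676 : act 0 n54805 = n54006 := d7_1 D54805 (iv D54006) (iv F238060)
theorem F245677 : act 2 n54805 = n53918 := d22_1 D54805 (iv D53918) (iv F238061)
theorem F245678 : act 5 n54805 = n53803 := d37_1 D54805 F241253 (iv F238063)
theorem F245679 : act 6 n54805 = n54113 := d40_1 D54805 (iv D54113) (iv F238064)
theorem F245680 : act 7 n54805 = n53817 := d42_1 D54805 F241308 (iv F238065)
theorem F245681 : act 9 n54805 = n53134 := d44_2 D53133 D54805 (iv D53134) (iv D51239) D51238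
def n54806 : Q := act 3 n53134
theorem D54806 : act 3 n53134 = n54806 := rfl
theorem F245682 : act 0 n54806 = n54413 := d2_1 D54806 (iv D54413) (iv F238066)
theorem F245683 : act 2 n54806 = n54052 := d17_1 D54806 (iv D54052) F234219 (iv F233601) (iv F238067)
theorem F245684 : act 5 n54806 = n53930 := d25_2 (iv F238068) D54806 (iv D53930)
theorem F245685 : act 6 n54806 = n54114 := d26_2 (iv F238069) D54806 (iv D54114)
theorem F245686 : act 7 n54806 = n53926 := d27_2 (iv F238070) D54806 (iv D53926)
theorem F245687 : act 8 n54806 = n53135 := d28_2 D53134 D54806 (iv D53135) (iv D51240) (iv F229477)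
def n54807 : Q := act 4 n53135
theorem D54807 : act 4 n53135 = n54807 := rfl
theorem F245688 : act 0 n54807 = n54463 := d3_1 D54807 (iv D54463) (iv F238071)
theorem F245689 : act 2 n54807 = n54108 := d18_1 D54807 (iv D54108) (iv F238072)
theorem F245690 : act 3 n54807 = n53136 := d24_1 D54807 (iv D53136) (iv D51241) (iv F229483) D53135
theorem F245691 : act 6 n54807 = n54115 := d31_2 (iv F238074) D54807 (iv D54115)
theorem F245692 : act 7 n54807 = n53935 := d32_2 (iv F238075) D54807 (iv D53935)
theorem F245693 : act 9 n54807 = n54807 := d34_2 F238076 D54807 (iv D54807)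
def n54808 : Q := act 5 n53136
theorem D54808 : act 5 n53136 = n54808 := rfl
theorem F245694 : act 0 n54808 = n54466 := d4_1 D54808 (iv F244975) F244971
theorem F245695 : act 4 n54808 = n53141 := d30_1 D54808 (iv D53141) (iv D51247) (iv F229488) D53136
theorem F245696 : act 9 n54808 = n54808 := d38_2 F238078 D54808 (iv D54808)
def n54809 : Q := act 4 n53138
theorem D54809 : act 4 n53138 = n54809 := rfl
theorem F245697 : act 0 n54809 = n53937 := d3_1 D54809 (iv F245620) F245617
theorem F245698 : act 1 n54809 = n53139 := d11_1 D54809 (iv D53139) (iv F238086)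
theorem F245699 : act 2 n54809 = n53596 := d18_1 D54809 (iv F244967) F244966
theorem F245700 : act 3 n54809 = n53936 := d24_1 D54809 F241866 (iv D52732) (iv F229499) D53138
theorem F245701 : act 6 n54809 = n54809 := d31_2 F238087 D54809 (iv D54809)
theorem F245702 : act 7 n54809 = n53140 := d32_2 (iv F238088) D54809 (iv D53140)
theorem F245703 : act 9 n54809 = n54809 := d34_2 F238089 D54809 (iv D54809)
def n54810 : Q := act 5 n53139
theorem D54810 : act 5 n53139 = n54810 := rfl
theorem F245704 : act 0 n54810 = n54462 := d4_1 D54810 (iv D54462) (iv F238090)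
theorem F245705 : act 3 n54810 = n54448 := d25_1 D54810 (iv D54448) (iv F238091)
theorem F245706 : act 7 n54810 = n53141 := d36_2 (iv F238093) D54810 (iv D53141)
theorem F245707 : act 9 n54810 = n54810 := d38_2 F238094 D54810 (iv D54810)
def n54811 : Q := act 5 n53140
theorem D54811 : act 5 n53140 = n54811 := rfl
theorem F245708 : act 0 n54811 = n53934 := d4_1 D54811 F241858 (iv F238095)
theorem F245709 : act 1 n54811 = n53141 := d12_1 D54811 (iv D53141) (iv F238096)
theorem F245710 : act 2 n54811 = n53593 := d19_1 D54811 F240344 (iv F238097)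
theorem F245711 : act 3 n54811 = n53933 := d25_1 D54811 F241854 (iv F238098)
theorem F245712 : act 6 n54811 = n53594 := d35_2 (iv F238099) D54811 F240348 F232041 (iv F229524)
theorem F245713 : act 9 n54811 = n54811 := d38_2 F238100 D54811 (iv D54811)
def n54812 : Q := act 6 n53141
theorem D54812 : act 6 n53141 = n54812 := rfl
theorem F245714 : act 0 n54812 = n54464 := d5_1 D54812 F243588 (iv F238101)
theorem F245715 : act 1 n54812 = n53594 := d13_1 D54812 (iv F245712) F245709
theorem F245716 : act 3 n54812 = n54431 := d26_1 D54812 F243475 (iv F238102)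
theorem F245717 : act 5 n54812 = n53142 := d35_1 D54812 (iv D53142) (iv D51249) (iv F229518) D53141
theorem F245718 : act 9 n54812 = n54812 := d41_2 F238103 D54812 (iv D54812)
theorem F245719 : act 7 n54437 = n54812 := d36_0 F245717 (iv F238109) (iv F243502)
def n54813 : Q := act 8 n53146
theorem D54813 : act 8 n53146 = n54813 := rfl
theorem F245720 : act 0 n54813 = n53197 := d7_1 D54813 (iv D53197) (iv F238132)
theorem F245721 : act 1 n54813 = n53153 := d15_1 D54813 (iv D53153) (iv F238133)
theorem F245722 : act 2 n54813 = n53206 := d22_1 D54813 (iv D53206) (iv F238134)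
theorem F245723 : act 3 n54813 = n53174 := d28_1 D54813 (iv D53174) F229898 (iv F229674) (iv F238135)
theorem F245724 : act 4 n54813 = n53165 := d33_1 D54813 (iv D53165) (iv F238136)
theorem F245725 : act 5 n54813 = n53179 := d37_1 D54813 (iv D53179) (iv F238137)
theorem F245726 : act 6 n54813 = n53147 := d40_1 D54813 (iv D53147) (iv F238138)
theorem F245727 : act 7 n54813 = n53301 := d42_1 D54813 (iv D53301) (iv F238139)
theorem F245728 : act 9 n54813 = n53184 := d44_2 D53146 D54813 (iv D53184) (iv D51317) (iv F229665)
def n54814 : Q := act 8 n53148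
theorem D54814 : act 8 n53148 = n54814 := rfl
theorem F245729 : act 0 n54814 = n53158 := d7_1 D54814 (iv D53158) (iv F238148)
theorem F245730 : act 1 n54814 = n53184 := d15_1 D54814 (iv D53184) (iv F238149)
theorem F245731 : act 2 n54814 = n53162 := d22_1 D54814 (iv D53162) (iv F238150)
theorem F245732 : act 3 n54814 = n53179 := d28_1 D54814 (iv D53179) F229942 (iv F229697) (iv F238151)
theorem F245733 : act 4 n54814 = n53160 := d33_1 D54814 (iv D53160) (iv F238152)
theorem F245734 : act 5 n54814 = n53174 := d37_1 D54814 (iv D53174) (iv F238153)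
theorem F245735 : act 6 n54814 = n53151 := d40_1 D54814 (iv D53151) (iv F238154)
theorem F245736 : act 7 n54814 = n53278 := d42_1 D54814 (iv D53278) (iv F238155)
theorem F245737 : act 9 n54814 = n53153 := d44_2 D53148 D54814 (iv D53153) (iv D51279) (iv F229687)
def n54815 : Q := act 8 n53149
theorem D54815 : act 8 n53149 = n54815 := rfl
theorem F245738 : act 0 n54815 = n53160 := d7_1 D54815 (iv D53160) (iv F238156)
theorem F245739 : act 1 n54815 = n53213 := d15_1 D54815 (iv D53213) (iv F238157)
theorem F245740 : act 2 n54815 = n53151 := d22_1 D54815 (iv D53151) (iv F238158)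
theorem F245741 : act 4 n54815 = n53158 := d33_1 D54815 (iv D53158) (iv F238160)
theorem F245742 : act 5 n54815 = n53211 := d37_1 D54815 (iv D53211) (iv F238161)
theorem F245743 : act 6 n54815 = n53162 := d40_1 D54815 (iv D53162) (iv F238162)
theorem F245744 : act 7 n54815 = n53238 := d42_1 D54815 (iv D53238) (iv F238163)
theorem F245745 : act 9 n54815 = n53154 := d44_2 D53149 D54815 (iv D53154) (iv D51280) (iv F229704)
def n54816 : Q := act 8 n53150
theorem D54816 : act 8 n53150 = n54816 := rfl
theorem F245746 : act 0 n54816 = n53162 := d7_1 D54816 (iv D53162) (iv F238164)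
theorem F245747 : act 1 n54816 = n53873 := d15_1 D54816 (iv D53873) (iv F238165)
theorem F245748 : act 2 n54816 = n53158 := d22_1 D54816 (iv D53158) (iv F238166)
theorem F245749 : act 4 n54816 = n53151 := d33_1 D54816 (iv D53151) (iv F238168)
theorem F245750 : act 5 n54816 = n53872 := d37_1 D54816 (iv D53872) (iv F238169)
theorem F245751 : act 6 n54816 = n53160 := d40_1 D54816 (iv D53160) (iv F238170)
theorem F245752 : act 7 n54816 = n53239 := d42_1 D54816 (iv D53239) (iv F238171)
theorem F245753 : act 9 n54816 = n53155 := d44_2 D53150 D54816 (iv D53155) (iv D51281) (iv F229713)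
def n54817 : Q := act 8 n53152
theorem D54817 : act 8 n53152 = n54817 := rfl
theorem F245754 : act 0 n54817 = n53163 := d7_1 D54817 (iv D53163) (iv F238178)
theorem F245755 : act 1 n54817 = n53179 := d15_1 D54817 (iv D53179) (iv F238179)
theorem F245756 : act 2 n54817 = n53167 := d22_1 D54817 (iv D53167) (iv F238180)
theorem F245757 : act 3 n54817 = n53184 := d28_1 D54817 (iv D53184) F229974 (iv F229741) (iv F238181)
theorem F245758 : act 4 n54817 = n53176 := d33_1 D54817 (iv D53176) (iv F238182)
theorem F245759 : act 5 n54817 = n53153 := d37_1 D54817 (iv D53153) (iv F238183)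
theorem F245760 : act 6 n54817 = n53173 := d40_1 D54817 (iv D53173) (iv F238184)
theorem F245761 : act 7 n54817 = n53304 := d42_1 D54817 (iv D53304) (iv F238185)
theorem F245762 : act 9 n54817 = n53174 := d44_2 D53152 D54817 (iv D53174) (iv D51304) (iv F229733)
def n54818 : Q := act 3 n53154
theorem D54818 : act 3 n53154 = n54818 := rfl
theorem F245763 : act 0 n54818 = n53166 := d2_1 D54818 (iv D53166) (iv F238192)
theorem F245764 : act 1 n54818 = n54126 := d10_1 D54818 (iv F243628) F243626
theorem F245765 : act 2 n54818 = n53191 := d17_1 D54818 (iv D53191) F230015 (iv F229772) (iv F238193)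
theorem F245766 : act 4 n54818 = n53209 := d24_2 (iv F238194) D54818 (iv D53209) F230135 (iv F229838)
theorem F245767 : act 5 n54818 = n54118 := d25_2 (iv F238195) D54818 (iv D54118)
theorem F245768 : act 6 n54818 = n53168 := d26_2 (iv F238196) D54818 (iv D53168)
theorem F245769 : act 7 n54818 = n53254 := d27_2 (iv F238197) D54818 (iv D53254)
theorem F245770 : act 8 n54818 = n53157 := d28_2 D53154 D54818 (iv D53157) (iv D51284) (iv F229758)
def n54819 : Q := act 3 n53155
theorem D54819 : act 3 n53155 = n54819 := rfl
theorem F245771 : act 0 n54819 = n53168 := d2_1 D54819 (iv D53168) (iv F238198)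
theorem F245772 : act 1 n54819 = n54129 := d10_1 D54819 (iv D54129) (iv F238199)
theorem F245773 : act 2 n54819 = n53208 := d17_1 D54819 (iv D53208) F230131 (iv F229838) (iv F238200)
theorem F245774 : act 4 n54819 = n53192 := d24_2 (iv F238201) D54819 (iv D53192) F230019 (iv F229772)
theorem F245775 : act 5 n54819 = n54131 := d25_2 (iv F238202) D54819 (iv D54131)
theorem F245776 : act 6 n54819 = n53166 := d26_2 (iv F238203) D54819 (iv D53166)
theorem F245777 : act 7 n54819 = n53255 := d27_2 (iv F238204) D54819 (iv D53255)
theorem F245778 : act 8 n54819 = n53156 := d28_2 D53155 D54819 (iv D53156) (iv D51283) (iv F229766)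
def n54820 : Q := act 8 n53159
theorem D54820 : act 8 n53159 = n54820 := rfl
theorem F245779 : act 0 n54820 = n53206 := d7_1 D54820 (iv D53206) (iv F238227)
theorem F245780 : act 1 n54820 = n53160 := d15_1 D54820 (iv D53160) (iv F238228)
theorem F245781 : act 2 n54820 = n53197 := d22_1 D54820 (iv D53197) (iv F238229)
theorem F245782 : act 4 n54820 = n53184 := d33_1 D54820 (iv D53184) (iv F238231)
theorem F245783 : act 5 n54820 = n53199 := d37_1 D54820 (iv D53199) (iv F238232)
theorem F245784 : act 6 n54820 = n53873 := d40_1 D54820 (iv D53873) (iv F238233)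
theorem F245785 : act 7 n54820 = n53277 := d42_1 D54820 (iv D53277) (iv F238234)
theorem F245786 : act 9 n54820 = n53165 := d44_2 D53159 D54820 (iv D53165) (iv D51294) (iv F229803)
def n54821 : Q := act 3 n53160
theorem D54821 : act 3 n53160 = n54821 := rfl
theorem F245787 : act 2 n54821 = n53203 := d17_1 D54821 (iv D53203) F230102 (iv F229819) (iv F238235)
theorem F245788 : act 5 n54821 = n54121 := d25_2 (iv F238236) D54821 (iv D54121)
theorem F245789 : act 7 n54821 = n53279 := d27_2 (iv F238237) D54821 (iv D53279)
theorem F245790 : act 8 n54821 = n54821 := d28_2 D53160 D54821 (iv D54821) (iv D53160) F229805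
theorem F245791 : act 9 n54821 = n53166 := d29_2 (iv F238238) D54821 (iv D53166)
def n54822 : Q := act 8 n53161
theorem D54822 : act 8 n53161 = n54822 := rfl
theorem F245792 : act 0 n54822 = n53872 := d7_1 D54822 (iv D53872) (iv F238239)
theorem F245793 : act 1 n54822 = n53183 := d15_1 D54822 (iv D53183) (iv F238240)
theorem F245794 : act 2 n54822 = n53174 := d22_1 D54822 (iv D53174) (iv F238241)
theorem F245795 : act 4 n54822 = n53173 := d33_1 D54822 (iv D53173) (iv F238243)
theorem F245796 : act 5 n54822 = n53162 := d37_1 D54822 (iv D53162) (iv F238244)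
theorem F245797 : act 6 n54822 = n53176 := d40_1 D54822 (iv D53176) (iv F238245)
theorem F245798 : act 7 n54822 = n53281 := d42_1 D54822 (iv D53281) (iv F238246)
theorem F245799 : act 9 n54822 = n53167 := d44_2 D53161 D54822 (iv D53167) (iv D51296) (iv F229815)
def n54823 : Q := act 3 n53162
theorem D54823 : act 3 n53162 = n54823 := rfl
theorem F245800 : act 4 n54823 = n53205 := d24_2 (iv F238247) D54823 (iv D53205) F230111 (iv F229819)
theorem F245801 : act 7 n54823 = n53282 := d27_2 (iv F238248) D54823 (iv D53282)
theorem F245802 : act 8 n54823 = n54823 := d28_2 D53162 D54823 (iv D54823) (iv D53162) F229816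
theorem F245803 : act 9 n54823 = n53168 := d29_2 (iv F238249) D54823 (iv D53168)
def n54824 : Q := act 3 n53165
theorem D54824 : act 3 n53165 = n54824 := rfl
theorem F245804 : act 0 n54824 = n54133 := d2_1 D54824 (iv F243669) F243666
theorem F245805 : act 1 n54824 = n53166 := d10_1 D54824 (iv D53166) (iv F238267)
theorem F245806 : act 2 n54824 = n54131 := d17_1 D54824 (iv D54131) (iv F238251) F238252 (iv F238268)
theorem F245807 : act 4 n54824 = n54132 := d24_2 F245724 D54824 (iv D54132) (iv F238325) (iv F245723)
theorem F245808 : act 5 n54824 = n53208 := d25_2 (iv F238269) D54824 (iv D53208)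
theorem F245809 : act 6 n54824 = n54129 := d26_2 (iv F238270) D54824 (iv D54129)
theorem F245810 : act 7 n54824 = n53302 := d27_2 (iv F238271) D54824 (iv D53302)
theorem F245811 : act 8 n54824 = n53171 := d28_2 D53165 D54824 (iv D53171) (iv D51300) (iv F229842)
def n54825 : Q := act 4 n53166
theorem D54825 : act 4 n53166 = n54825 := rfl
theorem F245812 : act 0 n54825 = n53209 := d3_1 D54825 (iv F245766) F245763
theorem F245813 : act 1 n54825 = n54132 := d11_1 D54825 (iv F245807) F245805
theorem F245814 : act 2 n54825 = n53215 := d18_1 D54825 (iv D53215) (iv F238272)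
theorem F245815 : act 3 n54825 = n53188 := d24_1 D54825 F238409 (iv F238188) F238189 D53166
theorem F245816 : act 6 n54825 = n53192 := d31_2 F245776 D54825 (iv F245774)
theorem F245817 : act 7 n54825 = n53305 := d32_2 (iv F238274) D54825 (iv D53305)
theorem F245818 : act 8 n54825 = n53172 := d33_2 (iv F238275) D54825 (iv D53172)
def n54826 : Q := act 3 n53167
theorem D54826 : act 3 n53167 = n54826 := rfl
theorem F245819 : act 0 n54826 = n54131 := d2_1 D54826 (iv D54131) (iv F238276)
theorem F245820 : act 1 n54826 = n53192 := d10_1 D54826 (iv D53192) (iv F238277)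
theorem F245821 : act 2 n54826 = n54133 := d17_1 D54826 (iv F243669) F243668 (iv F245757) F245756
theorem F245822 : act 4 n54826 = n54129 := d24_2 (iv F238278) D54826 (iv D54129) (iv F238144) F238143
theorem F245823 : act 5 n54826 = n53168 := d25_2 (iv F238279) D54826 (iv D53168)
theorem F245824 : act 6 n54826 = n54132 := d26_2 (iv F238280) D54826 (iv D54132)
theorem F245825 : act 7 n54826 = n53307 := d27_2 (iv F238281) D54826 (iv D53307)
theorem F245826 : act 8 n54826 = n53169 := d28_2 D53167 D54826 (iv D53169) (iv D51298) (iv F229851)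
def n54827 : Q := act 2 n53168
theorem D54827 : act 2 n53168 = n54827 := rfl
theorem F245827 : act 0 n54827 = n53208 := d1_1 D54827 (iv F245773) F245771
theorem F245828 : act 3 n54827 = n53186 := d17_2 D53168 D54827 F238396 (iv F238188) F238187
theorem F245829 : act 4 n54827 = n53218 := d18_2 (iv F238282) D54827 (iv D53218)
theorem F245830 : act 5 n54827 = n54133 := d19_2 F245823 D54827 (iv F245821)
theorem F245831 : act 6 n54827 = n53191 := d20_2 F245768 D54827 (iv F245765)
theorem F245832 : act 7 n54827 = n53308 := d21_2 (iv F238283) D54827 (iv D53308)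
theorem F245833 : act 8 n54827 = n53170 := d22_2 (iv F238284) D54827 (iv D53170)
theorem F245834 : act 1 n54134 = n54827 := d15_3 F245833 (iv F238300) (iv F242638)
def n54828 : Q := act 8 n53175
theorem D54828 : act 8 n53175 = n54828 := rfl
theorem F245835 : act 0 n54828 = n53200 := d7_1 D54828 (iv D53200) (iv F238328)
theorem F245836 : act 1 n54828 = n53176 := d15_1 D54828 (iv D53176) (iv F238329)
theorem F245837 : act 2 n54828 = n53189 := d22_1 D54828 (iv D53189) (iv F238330)
theorem F245838 : act 4 n54828 = n53179 := d33_1 D54828 (iv D53179) (iv F238332)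
theorem F245839 : act 5 n54828 = n53207 := d37_1 D54828 (iv D53207) (iv F238333)
theorem F245840 : act 6 n54828 = n53183 := d40_1 D54828 (iv D53183) (iv F238334)
theorem F245841 : act 7 n54828 = n53333 := d42_1 D54828 (iv D53333) (iv F238335)
theorem F245842 : act 9 n54828 = n53188 := d44_2 D53175 D54828 (iv D53188) (iv D51321) (iv F229909)
def n54829 : Q := act 3 n53176
theorem D54829 : act 3 n53176 = n54829 := rfl
theorem F245843 : act 0 n54829 = n54127 := d2_1 D54829 (iv D54127) (iv F238336)
theorem F245844 : act 2 n54829 = n54130 := d17_1 D54829 (iv D54130) (iv F238142) F238143 (iv F238337)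
theorem F245845 : act 5 n54829 = n54122 := d25_2 (iv F238338) D54829 (iv D54122)
theorem F245846 : act 7 n54829 = n53334 := d27_2 (iv F238339) D54829 (iv D53334)
theorem F245847 : act 8 n54829 = n54829 := d28_2 D53176 D54829 (iv D54829) (iv D53176) F229912
theorem F245848 : act 9 n54829 = n54132 := d29_2 (iv F238340) D54829 (iv D54132)
def n54830 : Q := act 8 n53177
theorem D54830 : act 8 n53177 = n54830 := rfl
theorem F245849 : act 0 n54830 = n53198 := d7_1 D54830 (iv D53198) (iv F238341)
theorem F245850 : act 1 n54830 = n53304 := d15_1 D54830 (iv D53304) (iv F238342)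
theorem F245851 : act 2 n54830 = n53387 := d22_1 D54830 (iv D53387) (iv F238343)
theorem F245852 : act 3 n54830 = n53278 := d28_1 D54830 (iv D53278) F230566 (iv F229932) (iv F238344)
theorem F245853 : act 4 n54830 = n53333 := d33_1 D54830 (iv D53333) (iv F238345)
theorem F245854 : act 5 n54830 = n53301 := d37_1 D54830 (iv D53301) (iv F238346)
theorem F245855 : act 6 n54830 = n53350 := d40_1 D54830 (iv D53350) (iv F238347)
theorem F245856 : act 7 n54830 = n53179 := d42_1 D54830 (iv D53179) (iv F238348)
theorem F245857 : act 9 n54830 = n53185 := d44_2 D53177 D54830 (iv D53185) (iv D51318) (iv F229923)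
def n54831 : Q := act 8 n53178
theorem D54831 : act 8 n53178 = n54831 := rfl
theorem F245858 : act 0 n54831 = n53199 := d7_1 D54831 (iv D53199) (iv F238349)
theorem F245859 : act 1 n54831 = n53190 := d15_1 D54831 (iv D53190) (iv F238350)
theorem F245860 : act 2 n54831 = n53179 := d22_1 D54831 (iv D53179) (iv F238351)
theorem F245861 : act 4 n54831 = n53189 := d33_1 D54831 (iv D53189) (iv F238353)
theorem F245862 : act 5 n54831 = n53206 := d37_1 D54831 (iv D53206) (iv F238354)
theorem F245863 : act 6 n54831 = n53182 := d40_1 D54831 (iv D53182) (iv F238355)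
theorem F245864 : act 7 n54831 = n53387 := d42_1 D54831 (iv D53387) (iv F238356)
theorem F245865 : act 9 n54831 = n53186 := d44_2 D53178 D54831 (iv D53186) (iv D51319) (iv F229940)
def n54832 : Q := act 8 n53180
theorem D54832 : act 8 n53180 = n54832 := rfl
theorem F245866 : act 0 n54832 = n53207 := d7_1 D54832 (iv D53207) (iv F238360)
theorem F245867 : act 1 n54832 = n53182 := d15_1 D54832 (iv D53182) (iv F238361)
theorem F245868 : act 2 n54832 = n53188 := d22_1 D54832 (iv D53188) (iv F238362)
theorem F245869 : act 4 n54832 = n53186 := d33_1 D54832 (iv D53186) (iv F238364)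
theorem F245870 : act 5 n54832 = n53200 := d37_1 D54832 (iv D53200) (iv F238365)
theorem F245871 : act 6 n54832 = n53190 := d40_1 D54832 (iv D53190) (iv F238366)
theorem F245872 : act 7 n54832 = n53357 := d42_1 D54832 (iv D53357) (iv F238367)
theorem F245873 : act 9 n54832 = n53189 := d44_2 D53180 D54832 (iv D53189) (iv D51323) (iv F229950)
def n54833 : Q := act 8 n53181
theorem D54833 : act 8 n53181 = n54833 := rfl
theorem F245874 : act 0 n54833 = n53202 := d7_1 D54833 (iv D53202) (iv F238368)
theorem F245875 : act 1 n54833 = n53186 := d15_1 D54833 (iv D53186) (iv F238369)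
theorem F245876 : act 2 n54833 = n53183 := d22_1 D54833 (iv D53183) (iv F238370)
theorem F245877 : act 3 n54833 = n54134 := d28_1 D54833 F242638 F234568 F230045 (iv F238371)
theorem F245878 : act 4 n54833 = n53182 := d33_1 D54833 (iv D53182) (iv F238372)
theorem F245879 : act 5 n54833 = n53216 := d37_1 D54833 (iv D53216) (iv F238373)
theorem F245880 : act 6 n54833 = n53189 := d40_1 D54833 (iv D53189) (iv F238374)
theorem F245881 : act 7 n54833 = n53358 := d42_1 D54833 (iv D53358) (iv F238375)
theorem F245882 : act 9 n54833 = n53190 := d44_2 D53181 D54833 (iv D53190) (iv D51324) (iv F229958)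
def n54834 : Q := act 3 n53182
theorem D54834 : act 3 n53182 = n54834 := rfl
theorem F245883 : act 0 n54834 = n53203 := d2_1 D54834 (iv D53203) (iv F238376)
theorem F245884 : act 5 n54834 = n54125 := d25_2 (iv F238378) D54834 (iv D54125)
theorem F245885 : act 7 n54834 = n53359 := d27_2 (iv F238379) D54834 (iv D53359)
theorem F245886 : act 8 n54834 = n54834 := d28_2 D53182 D54834 (iv D54834) (iv D53182) F229962
theorem F245887 : act 9 n54834 = n53191 := d29_2 (iv F238380) D54834 (iv D53191)
def n54835 : Q := act 3 n53183
theorem D54835 : act 3 n53183 = n54835 := rfl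
theorem F245888 : act 0 n54835 = n53205 := d2_1 D54835 (iv D53205) (iv F238381)
theorem F245889 : act 7 n54835 = n53360 := d27_2 (iv F238383) D54835 (iv D53360)
theorem F245890 : act 8 n54835 = n54835 := d28_2 D53183 D54835 (iv D54835) (iv D53183) F229966
theorem F245891 : act 9 n54835 = n53192 := d29_2 (iv F238384) D54835 (iv D53192)
def n54836 : Q := act 8 n53187
theorem D54836 : act 8 n53187 = n54836 := rfl
theorem F245892 : act 0 n54836 = n53189 := d7_1 D54836 (iv D53189) (iv F238399)
theorem F245893 : act 1 n54836 = n53210 := d15_1 D54836 (iv D53210) (iv F238400)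
theorem F245894 : act 2 n54836 = n53200 := d22_1 D54836 (iv D53200) (iv F238401)
theorem F245895 : act 4 n54836 = n53199 := d33_1 D54836 (iv D53199) (iv F238403)
theorem F245896 : act 5 n54836 = n53188 := d37_1 D54836 (iv D53188) (iv F238404)
theorem F245897 : act 6 n54836 = n53202 := d40_1 D54836 (iv D53202) (iv F238405)
theorem F245898 : act 7 n54836 = n53386 := d42_1 D54836 (iv D53386) (iv F238406)
theorem F245899 : act 9 n54836 = n53207 := d44_2 D53187 D54836 (iv D53207) (iv D51347) (iv F229996)
def n54837 : Q := act 3 n53189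
theorem D54837 : act 3 n53189 = n54837 := rfl
theorem F245900 : act 1 n54837 = n53191 := d10_1 D54837 (iv D53191) (iv F238412)
theorem F245901 : act 5 n54837 = n53209 := d25_2 (iv F238413) D54837 (iv D53209)
theorem F245902 : act 6 n54837 = n54134 := d26_2 F245880 D54837 (iv F245877)
theorem F245903 : act 7 n54837 = n53388 := d27_2 (iv F238414) D54837 (iv D53388)
theorem F245904 : act 8 n54837 = n53195 := d28_2 D53189 D54837 (iv D53195) (iv D51332) (iv F230006)
def n54838 : Q := act 3 n53190
theorem D54838 : act 3 n53190 = n54838 := rfl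
theorem F245905 : act 0 n54838 = n53214 := d2_1 D54838 (iv D53214) (iv F238415)
theorem F245906 : act 5 n54838 = n54128 := d25_2 F243638 D54838 F243642
theorem F245907 : act 7 n54838 = n53389 := d27_2 (iv F238418) D54838 (iv D53389)
theorem F245908 : act 8 n54838 = n54838 := d28_2 D53190 D54838 (iv D54838) (iv D53190) F230011
theorem F245909 : act 9 n54838 = n54134 := d29_2 F245882 D54838 (iv F245877)
def n54839 : Q := act 4 n53191
theorem D54839 : act 4 n53191 = n54839 := rfl
theorem F245910 : act 0 n54839 = n53215 := d3_1 D54839 (iv D53215) (iv F238419)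
theorem F245911 : act 2 n54839 = n53209 := d18_1 D54839 (iv F245766) F245765
theorem F245912 : act 6 n54839 = n53218 := d31_2 F245831 D54839 (iv F245829)
theorem F245913 : act 7 n54839 = n53390 := d32_2 (iv F238421) D54839 (iv D53390)
theorem F245914 : act 8 n54839 = n53196 := d33_2 (iv F238422) D54839 (iv D53196)
def n54840 : Q := act 2 n53192
theorem D54840 : act 2 n53192 = n54840 := rfl
theorem F245915 : act 0 n54840 = n53218 := d1_1 D54840 (iv D53218) (iv F238423)
theorem F245916 : act 1 n54840 = n54123 := d9_1 D54840 F242602 (iv F242634) (iv F245821) F245820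
theorem F245917 : act 4 n54840 = n53208 := d18_2 F245774 D54840 (iv F245773)
theorem F245918 : act 6 n54840 = n53215 := d20_2 F245816 D54840 (iv F245814)
theorem F245919 : act 7 n54840 = n53391 := d21_2 (iv F238424) D54840 (iv D53391)
theorem F245920 : act 8 n54840 = n53194 := d22_2 (iv F238425) D54840 (iv D53194)
def n54841 : Q := act 2 n53195
theorem D54841 : act 2 n53195 = n54841 := rfl
theorem F245921 : act 0 n54841 = n53220 := d1_1 D54841 (iv F243692) F243691
theorem F245922 : act 1 n54841 = n54120 := d9_1 D54841 F242592 (iv F238214) F238215 (iv F238441)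
theorem F245923 : act 3 n54841 = n54841 := d17_2 D53195 D54841 (iv D54841) (iv D53195) F230055
theorem F245924 : act 5 n54841 = n53196 := d19_2 (iv F238442) D54841 F238447
theorem F245925 : act 6 n54841 = n54124 := d20_2 (iv F238443) D54841 F242605
theorem F245926 : act 7 n54841 = n53404 := d21_2 (iv F238444) D54841 (iv D53404)
theorem F245927 : act 9 n54841 = n54841 := d23_2 F238445 D54841 (iv D54841)
theorem F245928 : act 4 n54119 = n54841 := d46_2 F242615 (iv F242588) F245923 (iv D54841) F238441 F230061 (iv F230167) F230165 D52340 (iv F238544) (iv F243619) F243618 (iv F245746) (iv D54816) F238169 F233290 F223908 F213938 F185126 F128972 (iv F206201) F91530 F64036 F44972 F32517 (iv F46124) (iv F65622) F65626 F65624 (iv F93814) (iv F134451) F206478 F175370 (iv F177337) D47072 F210669 (iv F208236) F208235 (iv F207771) F207770 F207769 (iv D46351) F134639 (iv F131127) F131126 (iv F131052) (iv F184984) (iv F213807) F213813 (iv F208362) F208361 (iv F218069) F218068 (iv F223867) F223866 D50291 (iv F229916) (iv F238278) D54826 F245821 F242634 (iv F242613)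
def n54842 : Q := act 4 n53195
theorem D54842 : act 4 n53195 = n54842 := rfl
theorem F245929 : act 0 n54842 = n54124 := d3_1 D54842 (iv F243694) F243691
theorem F245930 : act 1 n54842 = n53196 := d11_1 D54842 (iv D53196) (iv F238441)
theorem F245931 : act 2 n54842 = n54119 := d18_1 D54842 F245928 (iv D54841)
theorem F245932 : act 3 n54842 = n54842 := d24_1 D54842 (iv D54842) (iv D53195) F230056 D53195
theorem F245933 : act 5 n54842 = n54120 := d30_2 (iv F238442) D54842 (iv D54120) (iv F238217) F238216
theorem F245934 : act 6 n54842 = n53220 := d31_2 (iv F238443) D54842 F238563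
theorem F245935 : act 7 n54842 = n53405 := d32_2 (iv F238444) D54842 (iv D53405)
theorem F245936 : act 9 n54842 = n54842 := d34_2 F238445 D54842 (iv D54842)
def n54843 : Q := act 3 n53199
theorem D54843 : act 3 n53199 = n54843 := rfl
theorem F245937 : act 1 n54843 = n54121 := d10_1 D54843 (iv D54121) (iv F238466)
theorem F245938 : act 6 n54843 = n53203 := d26_2 (iv F238468) D54843 (iv D53203)
theorem F245939 : act 7 n54843 = n54153 := d27_2 (iv F238469) D54843 (iv D54153)
theorem F245940 : act 8 n54843 = n54843 := d28_2 D53199 D54843 (iv D54843) (iv D53199) F230079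
theorem F245941 : act 9 n54843 = n53208 := d29_2 (iv F238470) D54843 (iv D53208)
def n54844 : Q := act 3 n53200
theorem D54844 : act 3 n53200 = n54844 := rfl
theorem F245942 : act 1 n54844 = n54125 := d10_1 D54844 (iv D54125) (iv F238471)
theorem F245943 : act 6 n54844 = n53205 := d26_2 (iv F238473) D54844 (iv D53205)
theorem F245944 : act 7 n54844 = n54181 := d27_2 (iv F238474) D54844 (iv D54181)
theorem F245945 : act 8 n54844 = n54844 := d28_2 D53200 D54844 (iv D54844) (iv D53200) F230083
theorem F245946 : act 9 n54844 = n53209 := d29_2 (iv F238475) D54844 (iv D53209)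
def n54845 : Q := act 3 n53201
theorem D54845 : act 3 n53201 = n54845 := rfl
theorem F245947 : act 0 n54845 = n54122 := d2_1 D54845 (iv D54122) (iv F238476)
theorem F245948 : act 1 n54845 = n53203 := d10_1 D54845 (iv D53203) (iv F238477)
theorem F245949 : act 2 n54845 = n53874 := d17_1 D54845 (iv D53874) F233304 (iv F233265) (iv F238478)
theorem F245950 : act 5 n54845 = n54127 := d25_2 (iv F238480) D54845 (iv D54127)
theorem F245951 : act 6 n54845 = n54121 := d26_2 (iv F238481) D54845 (iv D54121)
theorem F245952 : act 7 n54845 = n53441 := d27_2 (iv F238482) D54845 (iv D53441)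
theorem F245953 : act 8 n54845 = n54845 := d28_2 D53201 D54845 (iv D54845) (iv D53201) F230092
theorem F245954 : act 9 n54845 = n53212 := d29_2 (iv F238483) D54845 (iv D53212)
def n54846 : Q := act 3 n53202
theorem D54846 : act 3 n53202 = n54846 := rfl
theorem F245955 : act 0 n54846 = n54134 := d2_1 D54846 (iv F245877) F245874
theorem F245956 : act 1 n54846 = n54118 := d10_1 D54846 (iv D54118) (iv F238484)
theorem F245957 : act 5 n54846 = n54126 := d25_2 F243630 D54846 (iv F243628)
theorem F245958 : act 7 n54846 = n53442 := d27_2 (iv F238487) D54846 (iv D53442)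
theorem F245959 : act 8 n54846 = n54119 := d28_2 D53202 D54846 (iv D54119) (iv D52319) (iv F230099)
theorem F245960 : act 9 n54846 = n53214 := d29_2 (iv F238488) D54846 (iv D53214)
def n54847 : Q := act 4 n53203
theorem D54847 : act 4 n53203 = n54847 := rfl
theorem F245961 : act 7 n54847 = n53443 := d32_2 (iv F238490) D54847 (iv D53443)
theorem F245962 : act 8 n54847 = n54847 := d33_2 F238491 D54847 (iv D54847)
theorem F245963 : act 9 n54847 = n53215 := d34_2 (iv F238492) D54847 (iv D53215)
def n54848 : Q := act 3 n53204
theorem D54848 : act 3 n53204 = n54848 := rfl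
theorem F245964 : act 1 n54848 = n54130 := d10_1 D54848 (iv D54130) (iv F238493)
theorem F245965 : act 4 n54848 = n53874 := d24_2 (iv F238494) D54848 (iv D53874) F233305 (iv F233278)
theorem F245966 : act 5 n54848 = n53205 := d25_2 (iv F238495) D54848 (iv D53205)
theorem F245967 : act 6 n54848 = n54128 := d26_2 F243639 D54848 F243642
theorem F245968 : act 7 n54848 = n53445 := d27_2 (iv F238496) D54848 (iv D53445)
theorem F245969 : act 8 n54848 = n54848 := d28_2 D53204 D54848 (iv D54848) (iv D53204) F230107
theorem F245970 : act 9 n54848 = n53217 := d29_2 (iv F238497) D54848 (iv D53217)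
def n54849 : Q := act 2 n53205
theorem D54849 : act 2 n53205 = n54849 := rfl
theorem F245971 : act 7 n54849 = n53446 := d21_2 (iv F238498) D54849 (iv D53446)
theorem F245972 : act 8 n54849 = n54849 := d22_2 F238499 D54849 (iv D54849)
theorem F245973 : act 9 n54849 = n53218 := d23_2 (iv F238500) D54849 (iv D53218)
def n54850 : Q := act 3 n53206
theorem D54850 : act 3 n53206 = n54850 := rfl
theorem F245974 : act 1 n54850 = n54128 := d10_1 D54850 F243642 F243635
theorem F245975 : act 4 n54850 = n54127 := d24_2 (iv F238501) D54850 (iv D54127) (iv F238253) F238252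
theorem F245976 : act 6 n54850 = n54130 := d26_2 (iv F238502) D54850 (iv D54130)
theorem F245977 : act 7 n54850 = n54200 := d27_2 F243880 D54850 F243882
theorem F245978 : act 8 n54850 = n54850 := d28_2 D53206 D54850 (iv D54850) (iv D53206) F230114
theorem F245979 : act 9 n54850 = n54133 := d29_2 F243674 D54850 (iv F243669)
def n54851 : Q := act 3 n53207
theorem D54851 : act 3 n53207 = n54851 := rfl
theorem F245980 : act 1 n54851 = n54122 := d10_1 D54851 (iv D54122) (iv F238503)
theorem F245981 : act 6 n54851 = n53214 := d26_2 (iv F238506) D54851 (iv D53214)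
theorem F245982 : act 7 n54851 = n54167 := d27_2 (iv F238507) D54851 (iv D54167)
theorem F245983 : act 8 n54851 = n54851 := d28_2 D53207 D54851 (iv D54851) (iv D53207) F230126
def n54852 : Q := act 3 n53211
theorem D54852 : act 3 n53211 = n54852 := rfl
theorem F245984 : act 0 n54852 = n54121 := d2_1 D54852 (iv D54121) (iv F238523)
theorem F245985 : act 1 n54852 = n53214 := d10_1 D54852 (iv D53214) (iv F238524)
theorem F245986 : act 2 n54852 = n54125 := d17_1 D54852 (iv D54125) F234513 (iv F234473) (iv F238525)
theorem F245987 : act 6 n54852 = n54122 := d26_2 (iv F238527) D54852 (iv D54122)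
theorem F245988 : act 7 n54852 = n53490 := d27_2 (iv F238528) D54852 (iv D53490)
theorem F245989 : act 8 n54852 = n54852 := d28_2 D53211 D54852 (iv D54852) (iv D53211) F230148
theorem F245990 : act 9 n54852 = n54118 := d29_2 (iv F238529) D54852 (iv D54118)
def n54853 : Q := act 4 n53212
theorem D54853 : act 4 n53212 = n54853 := rfl
theorem F245991 : act 1 n54853 = n53215 := d11_1 D54853 (iv D53215) (iv F238530)
theorem F245992 : act 2 n54853 = n53217 := d18_1 D54853 F238548 (iv F238531)
theorem F245993 : act 5 n54853 = n53218 := d30_2 (iv F238532) D54853 (iv F245829) F245830 (iv D54133)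
theorem F245994 : act 6 n54853 = n54123 := d31_2 (iv F238533) D54853 (iv D54123)
theorem F245995 : act 7 n54853 = n53491 := d32_2 (iv F238534) D54853 (iv D53491)
theorem F245996 : act 8 n54853 = n53219 := d33_2 (iv F238535) D54853 F238557
def n54854 : Q := act 3 n53213
theorem D54854 : act 3 n53213 = n54854 := rfl
theorem F245997 : act 0 n54854 = n54128 := d2_1 D54854 F243642 F243634
theorem F245998 : act 4 n54854 = n54125 := d24_2 (iv F238537) D54854 (iv D54125) (iv F235999) F235998
theorem F245999 : act 5 n54854 = n53214 := d25_2 (iv F238538) D54854 (iv D53214)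
theorem F246000 : act 7 n54854 = n53493 := d27_2 (iv F238539) D54854 (iv D53493)
theorem F246001 : act 8 n54854 = n54854 := d28_2 D53213 D54854 (iv D54854) (iv D53213) F230158
theorem F246002 : act 9 n54854 = n54126 := d29_2 F243633 D54854 (iv F243628)
def n54855 : Q := act 2 n53214
theorem D54855 : act 2 n53214 = n54855 := rfl
theorem F246003 : act 3 n54855 = n53218 := d17_2 D53214 D54855 (iv D53218) (iv D51358) (iv F230162)
theorem F246004 : act 7 n54855 = n53494 := d21_2 (iv F238540) D54855 (iv D53494)
theorem F246005 : act 8 n54855 = n54855 := d22_2 F238541 D54855 (iv D54855)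
def n54856 : Q := act 4 n53214
theorem D54856 : act 4 n53214 = n54856 := rfl
theorem F246006 : act 3 n54856 = n53215 := d24_1 D54856 (iv D53215) (iv D51355) (iv F230163) D53214
theorem F246007 : act 7 n54856 = n53495 := d32_2 (iv F238540) D54856 (iv D53495)
theorem F246008 : act 8 n54856 = n54856 := d33_2 F238541 D54856 (iv D54856)
def n54857 : Q := act 5 n53215
theorem D54857 : act 5 n53215 = n54857 := rfl
theorem F246009 : act 1 n54857 = n53218 := d12_1 D54857 (iv F245993) F245991
theorem F246010 : act 4 n54857 = n54134 := d30_1 D54857 (iv D54134) (iv D52340) (iv F230165) D53215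
theorem F246011 : act 7 n54857 = n53496 := d36_2 (iv F238542) D54857 (iv D53496)
theorem F246012 : act 8 n54857 = n53220 := d37_2 (iv F238543) D54857 F238564
def n54858 : Q := act 4 n53222
theorem D54858 : act 4 n53222 = n54858 := rfl
theorem F246013 : act 0 n54858 = n53415 := d3_1 D54858 (iv D53415) (iv F238576)
theorem F246014 : act 1 n54858 = n53242 := d11_1 D54858 (iv D53242) (iv F238577)
theorem F246015 : act 2 n54858 = n53447 := d18_1 D54858 (iv F243826) F243824
theorem F246016 : act 3 n54858 = n53524 := d24_1 D54858 (iv D53524) (iv D51678) (iv F230288) D53222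
theorem F246017 : act 5 n54858 = n53287 := d30_2 (iv F238578) D54858 (iv D53287) F230607 (iv F230306)
theorem F246018 : act 6 n54858 = n53341 := d31_2 (iv F238579) D54858 (iv D53341)
theorem F246019 : act 7 n54858 = n53224 := d32_2 (iv F238580) D54858 (iv D53224)
theorem F246020 : act 8 n54858 = n53361 := d33_2 (iv F238581) D54858 (iv D53361)
def n54859 : Q := act 9 n53222
theorem D54859 : act 9 n53222 = n54859 := rfl
theorem F246021 : act 0 n54859 = n53416 := d8_1 D54859 (iv D53416) (iv F238576)
theorem F246022 : act 1 n54859 = n53243 := d16_1 D54859 (iv D53243) (iv F238577)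
theorem F246023 : act 3 n54859 = n53223 := d29_1 D54859 (iv D53223) D53222
theorem F246024 : act 5 n54859 = n53226 := d38_1 D54859 (iv D53226) (iv F238578)
theorem F246025 : act 6 n54859 = n53342 := d41_1 D54859 (iv D53342) (iv F238579)
theorem F246026 : act 7 n54859 = n53225 := d43_1 D54859 (iv D53225) (iv F238580)
def n54860 : Q := act 9 n53224
theorem D54860 : act 9 n53224 = n54860 := rfl
theorem F246027 : act 0 n54860 = n53898 := d8_1 D54860 (iv D53898) (iv F238590)
theorem F246028 : act 1 n54860 = n53247 := d16_1 D54860 (iv D53247) (iv F238591)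
theorem F246029 : act 2 n54860 = n54203 := d23_1 D54860 (iv D54203) (iv F238592)
theorem F246030 : act 3 n54860 = n53528 := d29_1 D54860 (iv D53528) (iv F238593)
theorem F246031 : act 4 n54860 = n53225 := d34_1 D54860 (iv D53225) D53224
theorem F246032 : act 5 n54860 = n54201 := d38_1 D54860 (iv D54201) (iv F238594)
theorem F246033 : act 6 n54860 = n53880 := d41_1 D54860 (iv D53880) (iv F238595)
def n54861 : Q := act 8 n53225
theorem D54861 : act 8 n53225 = n54861 := rfl
theorem F246034 : act 0 n54861 = n53907 := d7_1 D54861 (iv D53907) (iv F238597)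
theorem F246035 : act 1 n54861 = n53248 := d15_1 D54861 (iv D53248) (iv F238598)
theorem F246036 : act 3 n54861 = n53329 := d28_1 D54861 (iv D53329) F230844 (iv F230303) (iv F238599)
theorem F246037 : act 5 n54861 = n53227 := d37_1 D54861 (iv D53227) (iv F238600)
theorem F246038 : act 6 n54861 = n53882 := d40_1 D54861 (iv D53882) (iv F238601)
theorem F246039 : act 9 n54861 = n54183 := d44_2 D53225 D54861 (iv D54183) (iv D52402) (iv F230296)
def n54862 : Q := act 8 n53226
theorem D54862 : act 8 n53226 = n54862 := rfl
theorem F246040 : act 0 n54862 = n53911 := d7_1 D54862 (iv D53911) (iv F238602)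
theorem F246041 : act 1 n54862 = n53249 := d15_1 D54862 (iv D53249) (iv F238603)
theorem F246042 : act 3 n54862 = n53330 := d28_1 D54862 (iv D53330) F230849 (iv F230315) (iv F238604)
theorem F246043 : act 4 n54862 = n53295 := d33_1 D54862 (iv D53295) (iv F238605)
theorem F246044 : act 6 n54862 = n53301 := d40_1 D54862 (iv D53301) (iv F238606)
theorem F246045 : act 7 n54862 = n53227 := d42_1 D54862 (iv D53227) (iv F238607)
def n54863 : Q := act 4 n53228
theorem D54863 : act 4 n53228 = n54863 := rfl
theorem F246046 : act 0 n54863 = n53263 := d3_1 D54863 (iv D53263) (iv F238612)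
theorem F246047 : act 1 n54863 = n53361 := d11_1 D54863 (iv D53361) (iv F238613)
theorem F246048 : act 2 n54863 = n53268 := d18_1 D54863 F238847 (iv F238618)
theorem F246049 : act 3 n54863 = n53603 := d24_1 D54863 (iv D53603) (iv D51769) (iv F230327) D53228
theorem F246050 : act 5 n54863 = n53266 := d30_2 (iv F238614) D54863 (iv D53266) F230532 F230348
theorem F246051 : act 6 n54863 = n53323 := d31_2 (iv F238615) D54863 (iv D53323)
theorem F246052 : act 7 n54863 = n53231 := d32_2 (iv F238616) D54863 (iv D53231)
theorem F246053 : act 8 n54863 = n53242 := d33_2 (iv F238617) D54863 (iv D53242)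
def n54864 : Q := act 9 n53228
theorem D54864 : act 9 n53228 = n54864 := rfl
theorem F246054 : act 0 n54864 = n53264 := d8_1 D54864 (iv D53264) (iv F238612)
theorem F246055 : act 1 n54864 = n53362 := d16_1 D54864 (iv D53362) (iv F238613)
theorem F246056 : act 2 n54864 = n53275 := d23_1 D54864 (iv D53275) (iv F238618)
theorem F246057 : act 3 n54864 = n53229 := d29_1 D54864 (iv D53229) D53228
theorem F246058 : act 5 n54864 = n53233 := d38_1 D54864 (iv D53233) (iv F238614)
theorem F246059 : act 6 n54864 = n53324 := d41_1 D54864 (iv D53324) (iv F238615)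
theorem F246060 : act 7 n54864 = n53232 := d43_1 D54864 (iv D53232) (iv F238616)
def n54865 : Q := act 4 n53230
theorem D54865 : act 4 n53230 = n54865 := rfl
theorem F246061 : act 0 n54865 = n53266 := d3_1 D54865 (iv D53266) (iv F238627)
theorem F246062 : act 1 n54865 = n53465 := d11_1 D54865 F239755 (iv F238628)
theorem F246063 : act 2 n54865 = n53231 := d18_1 D54865 (iv D53231) D53230
theorem F246064 : act 5 n54865 = n53263 := d30_2 (iv F238630) D54865 (iv D53263) F230521 F230361
theorem F246065 : act 6 n54865 = n53459 := d31_2 (iv F238631) D54865 F239731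
theorem F246066 : act 7 n54865 = n53268 := d32_2 (iv F238632) D54865 F238847
theorem F246067 : act 8 n54865 = n53244 := d33_2 (iv F238633) D54865 (iv D53244)
def n54866 : Q := act 9 n53230
theorem D54866 : act 9 n53230 = n54866 := rfl
theorem F246068 : act 0 n54866 = n53267 := d8_1 D54866 (iv D53267) (iv F238627)
theorem F246069 : act 1 n54866 = n53482 := d16_1 D54866 (iv D53482) (iv F238628)
theorem F246070 : act 2 n54866 = n53232 := d23_1 D54866 (iv D53232) D53230
theorem F246071 : act 3 n54866 = n54866 := d29_1 D54866 (iv D54866) F238629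
theorem F246072 : act 5 n54866 = n53234 := d38_1 D54866 (iv D53234) (iv F238630)
theorem F246073 : act 6 n54866 = n53479 := d41_1 D54866 (iv D53479) (iv F238631)
theorem F246074 : act 7 n54866 = n53275 := d43_1 D54866 (iv D53275) (iv F238632)
def n54867 : Q := act 5 n53231
theorem D54867 : act 5 n53231 = n54867 := rfl
theorem F246075 : act 0 n54867 = n53268 := d4_1 D54867 (iv D53268) (iv F238634)
theorem F246076 : act 1 n54867 = n53895 := d12_1 D54867 F241680 (iv F238635)
theorem F246077 : act 2 n54867 = n53263 := d19_1 D54867 (iv F246064) F246063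
theorem F246078 : act 3 n54867 = n54262 := d25_1 D54867 F242993 (iv F238636)
theorem F246079 : act 4 n54867 = n53235 := d30_1 D54867 (iv D53235) (iv D51388) (iv F230333) D53231
theorem F246080 : act 6 n54867 = n53890 := d35_2 (iv F238637) D54867 (iv D53890) F233439 (iv F234574)
theorem F246081 : act 7 n54867 = n53266 := d36_2 F246052 D54867 (iv F246050)
theorem F246082 : act 8 n54867 = n53246 := d37_2 (iv F238638) D54867 (iv D53246)
def n54868 : Q := act 9 n53231
theorem D54868 : act 9 n53231 = n54868 := rfl
theorem F246083 : act 0 n54868 = n53269 := d8_1 D54868 (iv D53269) (iv F238634)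
theorem F246084 : act 1 n54868 = n54182 := d16_1 D54868 (iv D54182) (iv F238635)
theorem F246085 : act 3 n54868 = n54272 := d29_1 D54868 (iv D54272) (iv F238636)
theorem F246086 : act 4 n54868 = n53232 := d34_1 D54868 (iv D53232) D53231
theorem F246087 : act 6 n54868 = n54135 := d41_1 D54868 (iv D54135) (iv F238637)
def n54869 : Q := act 8 n53232
theorem D54869 : act 8 n53232 = n54869 := rfl
theorem F246088 : act 0 n54869 = n53270 := d7_1 D54869 (iv D53270) (iv F238639)
theorem F246089 : act 1 n54869 = n54183 := d15_1 D54869 (iv D54183) (iv F238640)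
theorem F246090 : act 3 n54869 = n53348 := d28_1 D54869 (iv D53348) F230911 (iv F230342) (iv F238641)
theorem F246091 : act 5 n54869 = n53237 := d37_1 D54869 (iv D53237) (iv F238642)
theorem F246092 : act 6 n54869 = n54136 := d40_1 D54869 (iv D54136) (iv F238643)
theorem F246093 : act 9 n54869 = n53248 := d44_2 D53232 D54869 (iv D53248) (iv D51398) (iv F230335)
def n54870 : Q := act 8 n53233
theorem D54870 : act 8 n53233 = n54870 := rfl
theorem F246094 : act 0 n54870 = n53271 := d7_1 D54870 (iv D53271) (iv F238644)
theorem F246095 : act 2 n54870 = n53276 := d22_1 D54870 (iv D53276) (iv F238645)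
theorem F246096 : act 3 n54870 = n53350 := d28_1 D54870 (iv D53350) F230922 (iv F230354) (iv F238646)
theorem F246097 : act 4 n54870 = n53273 := d33_1 D54870 (iv D53273) (iv F238647)
theorem F246098 : act 6 n54870 = n53278 := d40_1 D54870 (iv D53278) (iv F238648)
theorem F246099 : act 7 n54870 = n53237 := d42_1 D54870 (iv D53237) (iv F238649)
theorem F246100 : act 9 n54870 = n53249 := d44_2 D53233 D54870 (iv D53249) (iv D51399) (iv F230346)
def n54871 : Q := act 8 n53234
theorem D54871 : act 8 n53234 = n54871 := rfl
theorem F246101 : act 0 n54871 = n53273 := d7_1 D54871 (iv D53273) (iv F238650)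
theorem F246102 : act 1 n54871 = n53492 := d15_1 D54871 (iv D53492) (iv F238651)
theorem F246103 : act 2 n54871 = n53237 := d22_1 D54871 (iv D53237) (iv F238652)
theorem F246104 : act 4 n54871 = n53271 := d33_1 D54871 (iv D53271) (iv F238654)
theorem F246105 : act 6 n54871 = n53238 := d40_1 D54871 (iv D53238) (iv F238655)
theorem F246106 : act 7 n54871 = n53276 := d42_1 D54871 (iv D53276) (iv F238656)
theorem F246107 : act 9 n54871 = n53250 := d44_2 D53234 D54871 (iv D53250) (iv D51400) (iv F230360)
def n54872 : Q := act 9 n53235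
theorem D54872 : act 9 n53235 = n54872 := rfl
theorem F246108 : act 0 n54872 = n53275 := d8_1 D54872 (iv D53275) (iv F238657)
theorem F246109 : act 1 n54872 = n53904 := d16_1 D54872 (iv D53904) (iv F238658)
theorem F246110 : act 2 n54872 = n53264 := d23_1 D54872 (iv D53264) (iv F238659)
theorem F246111 : act 3 n54872 = n54872 := d29_1 D54872 (iv D54872) F238660
theorem F246112 : act 5 n54872 = n53236 := d38_1 D54872 (iv D53236) D53235
theorem F246113 : act 6 n54872 = n53902 := d41_1 D54872 (iv D53902) (iv F238661)
theorem F246114 : act 7 n54872 = n53267 := d43_1 D54872 (iv D53267) (iv F238662)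
def n54873 : Q := act 8 n53236
theorem D54873 : act 8 n53236 = n54873 := rfl
theorem F246115 : act 0 n54873 = n53276 := d7_1 D54873 (iv D53276) (iv F238664)
theorem F246116 : act 1 n54873 = n53909 := d15_1 D54873 (iv D53909) (iv F238665)
theorem F246117 : act 2 n54873 = n53271 := d22_1 D54873 (iv D53271) (iv F238666)
theorem F246118 : act 4 n54873 = n53237 := d33_1 D54873 (iv D53237) (iv F238668)
theorem F246119 : act 6 n54873 = n53239 := d40_1 D54873 (iv D53239) (iv F238669)
theorem F246120 : act 7 n54873 = n53273 := d42_1 D54873 (iv D53273) (iv F238670)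
theorem F246121 : act 9 n54873 = n53252 := d44_2 D53236 D54873 (iv D53252) (iv D51402) (iv F230368)
def n54874 : Q := act 3 n53238
theorem D54874 : act 3 n53238 = n54874 := rfl
theorem F246122 : act 0 n54874 = n53279 := d2_1 D54874 (iv D53279) (iv F238675)
theorem F246123 : act 1 n54874 = n53493 := d10_1 D54874 (iv D53493) (iv F238676)
theorem F246124 : act 2 n54874 = n53359 := d17_1 D54874 (iv D53359) F230965 (iv F230385) (iv F238677)
theorem F246125 : act 4 n54874 = n54181 := d24_2 (iv F238678) D54874 (iv D54181) (iv F238461) F238460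
theorem F246126 : act 5 n54874 = n53490 := d25_2 (iv F238679) D54874 (iv D53490)
theorem F246127 : act 8 n54874 = n54874 := d28_2 D53238 D54874 (iv D54874) (iv D53238) F230375
theorem F246128 : act 9 n54874 = n53254 := d29_2 (iv F238680) D54874 (iv D53254)
def n54875 : Q := act 3 n53239
theorem D54875 : act 3 n53239 = n54875 := rfl
theorem F246129 : act 0 n54875 = n53282 := d2_1 D54875 (iv D53282) (iv F238681)
theorem F246130 : act 1 n54875 = n53910 := d10_1 D54875 (iv D53910) (iv F238682)
theorem F246131 : act 2 n54875 = n54153 := d17_1 D54875 (iv D54153) (iv F238459) F238460 (iv F238683)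
theorem F246132 : act 4 n54875 = n53360 := d24_2 (iv F238684) D54875 (iv D53360) F230969 (iv F230385)
theorem F246133 : act 5 n54875 = n53908 := d25_2 (iv F238685) D54875 (iv D53908)
theorem F246134 : act 8 n54875 = n54875 := d28_2 D53239 D54875 (iv D54875) (iv D53239) F230381
theorem F246135 : act 9 n54875 = n53255 := d29_2 (iv F238686) D54875 (iv D53255)
def n54876 : Q := act 4 n53240
theorem D54876 : act 4 n53240 = n54876 := rfl
theorem F246136 : act 0 n54876 = n53283 := d3_1 D54876 (iv D53283) (iv F238687)
theorem F246137 : act 1 n54876 = n53341 := d11_1 D54876 (iv D53341) (iv F238688)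
theorem F246138 : act 2 n54876 = n53292 := d18_1 D54876 F238954 (iv F238689)
theorem F246139 : act 3 n54876 = n53534 := d24_1 D54876 (iv D53534) (iv D51688) (iv F230391) D53240
theorem F246140 : act 5 n54876 = n53326 := d30_2 (iv F238690) D54876 (iv D53326) F230837 (iv F230655)
theorem F246141 : act 6 n54876 = n53242 := d31_2 (iv F238691) D54876 (iv D53242)
theorem F246142 : act 7 n54876 = n53320 := d32_2 (iv F238692) D54876 (iv D53320)
theorem F246143 : act 8 n54876 = n53323 := d33_2 (iv F238693) D54876 (iv D53323)
def n54877 : Q := act 9 n53240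
theorem D54877 : act 9 n53240 = n54877 := rfl
theorem F246144 : act 0 n54877 = n53284 := d8_1 D54877 (iv D53284) (iv F238687)
theorem F246145 : act 1 n54877 = n53342 := d16_1 D54877 (iv D53342) (iv F238688)
theorem F246146 : act 2 n54877 = n53297 := d23_1 D54877 (iv D53297) (iv F238689)
theorem F246147 : act 3 n54877 = n53241 := d29_1 D54877 (iv D53241) D53240
theorem F246148 : act 5 n54877 = n53303 := d38_1 D54877 (iv D53303) (iv F238690)
theorem F246149 : act 6 n54877 = n53243 := d41_1 D54877 (iv D53243) (iv F238691)
theorem F246150 : act 7 n54877 = n53321 := d43_1 D54877 (iv D53321) (iv F238692)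
def n54878 : Q := act 9 n53242
theorem D54878 : act 9 n53242 = n54878 := rfl
theorem F246151 : act 0 n54878 = n53285 := d8_1 D54878 (iv D53285) (iv F238702)
theorem F246152 : act 2 n54878 = n53293 := d23_1 D54878 (iv D53293) (iv F238703)
theorem F246153 : act 3 n54878 = n53536 := d29_1 D54878 (iv D53536) (iv F238704)
theorem F246154 : act 4 n54878 = n53243 := d34_1 D54878 (iv D53243) D53242
theorem F246155 : act 5 n54878 = n53290 := d38_1 D54878 (iv D53290) (iv F238705)
theorem F246156 : act 7 n54878 = n53247 := d43_1 D54878 (iv D53247) (iv F238706)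
def n54879 : Q := act 8 n53243
theorem D54879 : act 8 n53243 = n54879 := rfl
theorem F246157 : act 0 n54879 = n53286 := d7_1 D54879 (iv D53286) (iv F238707)
theorem F246158 : act 2 n54879 = n53298 := d22_1 D54879 (iv D53298) (iv F238708)
theorem F246159 : act 3 n54879 = n53367 := d28_1 D54879 (iv D53367) F230987 (iv F230404) (iv F238709)
theorem F246160 : act 5 n54879 = n53249 := d37_1 D54879 (iv D53249) (iv F238710)
theorem F246161 : act 7 n54879 = n53248 := d42_1 D54879 (iv D53248) (iv F238711)
def n54880 : Q := act 9 n53244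
theorem D54880 : act 9 n53244 = n54880 := rfl
theorem F246162 : act 0 n54880 = n53290 := d8_1 D54880 (iv D53290) (iv F238712)
theorem F246163 : act 2 n54880 = n53247 := d23_1 D54880 (iv D53247) (iv F238713)
theorem F246164 : act 3 n54880 = n53570 := d29_1 D54880 (iv D53570) (iv F238714)
theorem F246165 : act 4 n54880 = n53245 := d34_1 D54880 (iv D53245) D53244
theorem F246166 : act 5 n54880 = n53285 := d38_1 D54880 (iv D53285) (iv F238715)
theorem F246167 : act 6 n54880 = n54139 := d41_1 D54880 (iv D54139) (iv F238716)
theorem F246168 : act 7 n54880 = n53293 := d43_1 D54880 (iv D53293) (iv F238717)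
def n54881 : Q := act 8 n53245
theorem D54881 : act 8 n53245 = n54881 := rfl
theorem F246169 : act 0 n54881 = n53291 := d7_1 D54881 (iv D53291) (iv F238718)
theorem F246170 : act 2 n54881 = n53248 := d22_1 D54881 (iv D53248) (iv F238719)
theorem F246171 : act 5 n54881 = n53250 := d37_1 D54881 (iv D53250) (iv F238721)
theorem F246172 : act 6 n54881 = n54140 := d40_1 D54881 (iv D54140) (iv F238722)
theorem F246173 : act 7 n54881 = n53298 := d42_1 D54881 (iv D53298) (iv F238723)
def n54882 : Q := act 9 n53246
theorem D54882 : act 9 n53246 = n54882 := rfl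
theorem F246174 : act 0 n54882 = n53293 := d8_1 D54882 (iv D53293) (iv F238724)
theorem F246175 : act 1 n54882 = n54201 := d16_1 D54882 (iv D54201) (iv F238725)
theorem F246176 : act 2 n54882 = n53285 := d23_1 D54882 (iv D53285) (iv F238726)
theorem F246177 : act 3 n54882 = n53538 := d29_1 D54882 (iv D53538) (iv F238727)
theorem F246178 : act 4 n54882 = n53251 := d34_1 D54882 (iv D53251) (iv F238728)
theorem F246179 : act 5 n54882 = n53247 := d38_1 D54882 (iv D53247) D53246
theorem F246180 : act 6 n54882 = n54205 := d41_1 D54882 (iv D54205) (iv F238729)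
theorem F246181 : act 7 n54882 = n53290 := d43_1 D54882 (iv D53290) (iv F238730)
def n54883 : Q := act 8 n53247
theorem D54883 : act 8 n53247 = n54883 := rfl
theorem F246182 : act 0 n54883 = n53294 := d7_1 D54883 (iv D53294) (iv F238731)
theorem F246183 : act 4 n54883 = n53248 := d33_1 D54883 (iv D53248) (iv F238733)
theorem F246184 : act 6 n54883 = n54141 := d40_1 D54883 (iv D54141) (iv F238734)
def n54884 : Q := act 3 n53250
theorem D54884 : act 3 n53250 = n54884 := rfl
theorem F246185 : act 0 n54884 = n53296 := d2_1 D54884 (iv D53296) (iv F238745)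
theorem F246186 : act 1 n54884 = n54188 := d10_1 D54884 (iv F243809) F243807
theorem F246187 : act 2 n54884 = n53383 := d17_1 D54884 (iv D53383) F231047 (iv F230442) (iv F238746)
theorem F246188 : act 4 n54884 = n53477 := d24_2 (iv F238747) D54884 (iv D53477) F231396 (iv F230624)
theorem F246189 : act 6 n54884 = n53254 := d26_2 (iv F238748) D54884 (iv D53254)
theorem F246190 : act 7 n54884 = n53299 := d27_2 (iv F238749) D54884 (iv D53299)
theorem F246191 : act 8 n54884 = n53259 := d28_2 D53250 D54884 (iv D53259) (iv D51413) (iv F230425)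
def n54885 : Q := act 8 n53251
theorem D54885 : act 8 n53251 = n54885 := rfl
theorem F246192 : act 0 n54885 = n53298 := d7_1 D54885 (iv D53298) (iv F238750)
theorem F246193 : act 1 n54885 = n54202 := d15_1 D54885 (iv D54202) (iv F238751)
theorem F246194 : act 2 n54885 = n53286 := d22_1 D54885 (iv D53286) (iv F238752)
theorem F246195 : act 5 n54885 = n53252 := d37_1 D54885 (iv D53252) (iv F238754)
theorem F246196 : act 6 n54885 = n54206 := d40_1 D54885 (iv D54206) (iv F238755)
theorem F246197 : act 7 n54885 = n53291 := d42_1 D54885 (iv D53291) (iv F238756)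
def n54886 : Q := act 3 n53252
theorem D54886 : act 3 n53252 = n54886 := rfl
theorem F246198 : act 0 n54886 = n53299 := d2_1 D54886 (iv D53299) (iv F238757)
theorem F246199 : act 1 n54886 = n54229 := d10_1 D54886 (iv F243938) F243936
theorem F246200 : act 2 n54886 = n53475 := d17_1 D54886 (iv D53475) F231388 (iv F230624) (iv F238758)
theorem F246201 : act 4 n54886 = n53385 := d24_2 (iv F238759) D54886 (iv D53385) F231053 (iv F230442)
theorem F246202 : act 6 n54886 = n53255 := d26_2 (iv F238760) D54886 (iv D53255)
theorem F246203 : act 7 n54886 = n53296 := d27_2 (iv F238761) D54886 (iv D53296)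
theorem F246204 : act 8 n54886 = n53257 := d28_2 D53252 D54886 (iv D53257) (iv D51408) (iv F230437)
def n54887 : Q := act 3 n53256
theorem D54887 : act 3 n53256 = n54887 := rfl
theorem F246205 : act 0 n54887 = n53310 := d2_1 D54887 (iv D53310) (iv F238780)
theorem F246206 : act 1 n54887 = n54235 := d10_1 D54887 (iv D54235) (iv F238781)
theorem F246207 : act 2 n54887 = n53508 := d17_1 D54887 (iv D53508) F231521 (iv F230718) (iv F238782)
theorem F246208 : act 5 n54887 = n53257 := d25_2 (iv F238784) D54887 (iv D53257)
theorem F246209 : act 6 n54887 = n54236 := d26_2 (iv F238785) D54887 (iv D54236)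
theorem F246210 : act 7 n54887 = n53316 := d27_2 (iv F238786) D54887 (iv D53316)
theorem F246211 : act 9 n54887 = n54887 := d29_2 F238787 D54887 (iv D54887)
def n54888 : Q := act 3 n53258
theorem D54888 : act 3 n53258 = n54888 := rfl
theorem F246212 : act 0 n54888 = n53316 := d2_1 D54888 (iv D53316) (iv F238795)
theorem F246213 : act 1 n54888 = n54190 := d10_1 D54888 F242812 (iv F238796)
theorem F246214 : act 2 n54888 = n53400 := d17_1 D54888 (iv D53400) F231136 (iv F230490) (iv F238797)
theorem F246215 : act 5 n54888 = n53259 := d25_2 (iv F238799) D54888 (iv D53259)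
theorem F246216 : act 6 n54888 = n54145 := d26_2 (iv F238800) D54888 (iv D54145)
theorem F246217 : act 7 n54888 = n53310 := d27_2 (iv F238801) D54888 (iv D53310)
theorem F246218 : act 9 n54888 = n54888 := d29_2 F238802 D54888 (iv D54888)
def n54889 : Q := act 4 n53260
theorem D54889 : act 4 n53260 = n54889 := rfl
theorem F246219 : act 0 n54889 = n54157 := d3_1 D54889 F242721 (iv F238810)
theorem F246220 : act 2 n54889 = n53261 := d18_1 D54889 (iv D53261) D53260
theorem F246221 : act 6 n54889 = n53554 := d31_2 (iv F238813) D54889 F240153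
theorem F246222 : act 8 n54889 = n53547 := d33_2 (iv F238814) D54889 (iv D53547)
def n54890 : Q := act 9 n53260
theorem D54890 : act 9 n53260 = n54890 := rfl
theorem F246223 : act 0 n54890 = n54170 := d8_1 D54890 (iv D54170) (iv F238810)
theorem F246224 : act 2 n54890 = n53262 := d23_1 D54890 (iv D53262) D53260
theorem F246225 : act 3 n54890 = n54890 := d29_1 D54890 (iv D54890) F238811
theorem F246226 : act 5 n54890 = n54890 := d38_1 D54890 (iv D54890) F238812
theorem F246227 : act 6 n54890 = n53559 := d41_1 D54890 (iv D53559) (iv F238813)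
def n54891 : Q := act 5 n53261
theorem D54891 : act 5 n53261 = n54891 := rfl
theorem F246228 : act 0 n54891 = n54262 := d4_1 D54891 F242993 (iv F238815)
theorem F246229 : act 1 n54891 = n53952 := d12_1 D54891 (iv D53952) (iv F238816)
theorem F246230 : act 3 n54891 = n53268 := d25_1 D54891 (iv D53268) (iv F238817)
theorem F246231 : act 4 n54891 = n54891 := d30_1 D54891 (iv D54891) (iv D53261) F230510 D53261
theorem F246232 : act 6 n54891 = n54248 := d35_2 (iv F238818) D54891 (iv D54248) F234986 (iv F233734)
theorem F246233 : act 8 n54891 = n53549 := d37_2 (iv F238819) D54891 (iv D53549)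
def n54892 : Q := act 9 n53261
theorem D54892 : act 9 n53261 = n54892 := rfl
theorem F246234 : act 0 n54892 = n54272 := d8_1 D54892 (iv D54272) (iv F238815)
theorem F246235 : act 1 n54892 = n53953 := d16_1 D54892 (iv D53953) (iv F238816)
theorem F246236 : act 3 n54892 = n53269 := d29_1 D54892 (iv D53269) (iv F238817)
theorem F246237 : act 4 n54892 = n53262 := d34_1 D54892 (iv D53262) D53261
theorem F246238 : act 6 n54892 = n53940 := d41_1 D54892 (iv D53940) (iv F238818)
def n54893 : Q := act 8 n53262
theorem D54893 : act 8 n53262 = n54893 := rfl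
theorem F246239 : act 0 n54893 = n54289 := d7_1 D54893 (iv D54289) (iv F238820)
theorem F246240 : act 1 n54893 = n53954 := d15_1 D54893 (iv D53954) (iv F238821)
theorem F246241 : act 3 n54893 = n53414 := d28_1 D54893 (iv D53414) F231209 (iv F230519) (iv F238822)
theorem F246242 : act 5 n54893 = n54893 := d37_1 D54893 (iv D54893) F238823
theorem F246243 : act 6 n54893 = n53941 := d40_1 D54893 (iv D53941) (iv F238824)
theorem F246244 : act 9 n54893 = n53551 := d44_2 D53262 D54893 (iv D53551) (iv D51707) (iv F230512)
def n54894 : Q := act 9 n53263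
theorem D54894 : act 9 n53263 = n54894 := rfl
theorem F246245 : act 1 n54894 = n54218 := d16_1 D54894 (iv D54218) (iv F238825)
theorem F246246 : act 4 n54894 = n53264 := d34_1 D54894 (iv D53264) D53263
theorem F246247 : act 6 n54894 = n54213 := d41_1 D54894 (iv D54213) (iv F238826)
theorem F246248 : act 7 n54894 = n53269 := d43_1 D54894 (iv D53269) (iv F238827)
def n54895 : Q := act 8 n53264
theorem D54895 : act 8 n53264 = n54895 := rfl
theorem F246249 : act 1 n54895 = n54231 := d15_1 D54895 (iv D54231) (iv F238829)
theorem F246250 : act 3 n54895 = n53421 := d28_1 D54895 (iv D53421) F231231 (iv F230530) (iv F238830)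
theorem F246251 : act 5 n54895 = n53271 := d37_1 D54895 (iv D53271) (iv F238831)
theorem F246252 : act 6 n54895 = n54228 := d40_1 D54895 (iv D54228) (iv F238832)
theorem F246253 : act 7 n54895 = n53270 := d42_1 D54895 (iv D53270) (iv F238833)
theorem F246254 : act 9 n54895 = n53286 := d44_2 D53264 D54895 (iv D53286) (iv D51437) (iv F230524)
def n54896 : Q := act 4 n53265
theorem D54896 : act 4 n53265 = n54896 := rfl
theorem F246255 : act 0 n54896 = n53447 := d3_1 D54896 (iv F243826) F243822
theorem F246256 : act 1 n54896 = n53266 := d11_1 D54896 (iv D53266) D53265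
theorem F246257 : act 2 n54896 = n53415 := d18_1 D54896 (iv D53415) (iv F238834)
theorem F246258 : act 5 n54896 = n53361 := d30_2 (iv F238836) D54896 (iv D53361) (iv F236154) (iv F236158)
theorem F246259 : act 6 n54896 = n53417 := d31_2 (iv F238837) D54896 (iv D53417)
theorem F246260 : act 7 n54896 = n53895 := d32_2 (iv F238838) D54896 F241679
theorem F246261 : act 8 n54896 = n53287 := d33_2 (iv F238839) D54896 (iv D53287)
theorem F246262 : act 3 n53637 = n54896 := d27_3 F246260 F241678 (iv F240556)
def n54897 : Q := act 9 n53265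
theorem D54897 : act 9 n53265 = n54897 := rfl
theorem F246263 : act 1 n54897 = n53267 := d16_1 D54897 (iv D53267) D53265
theorem F246264 : act 2 n54897 = n53416 := d23_1 D54897 (iv D53416) (iv F238834)
theorem F246265 : act 3 n54897 = n54897 := d29_1 D54897 (iv D54897) F238835
theorem F246266 : act 5 n54897 = n53272 := d38_1 D54897 (iv D53272) (iv F238836)
theorem F246267 : act 6 n54897 = n53418 := d41_1 D54897 (iv D53418) (iv F238837)
theorem F246268 : act 7 n54897 = n53904 := d43_1 D54897 (iv D53904) (iv F238838)
def n54898 : Q := act 3 n53266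
theorem D54898 : act 3 n53266 = n54898 := rfl
theorem F246269 : act 1 n54898 = n53637 := d10_1 D54898 F246262 F246256
theorem F246270 : act 4 n54898 = n54898 := d24_2 D53266 D54898 (iv D54898) (iv D53266) F230531
theorem F246271 : act 5 n54898 = n53603 := d25_2 F246050 D54898 (iv F246049)
theorem F246272 : act 6 n54898 = n54148 := d26_2 (iv F238841) D54898 (iv D54148)
theorem F246273 : act 7 n54898 = n54262 := d27_2 F246081 D54898 (iv F246078)
theorem F246274 : act 8 n54898 = n54268 := d28_2 (iv F238842) D54898 F243009 F238944 (iv D53289)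
def n54899 : Q := act 9 n53266
theorem D54899 : act 9 n53266 = n54899 := rfl
theorem F246275 : act 2 n54899 = n53269 := d23_1 D54899 (iv D53269) (iv F238840)
theorem F246276 : act 4 n54899 = n53267 := d34_1 D54899 (iv D53267) D53266
theorem F246277 : act 6 n54899 = n54149 := d41_1 D54899 (iv D54149) (iv F238841)
def n54900 : Q := act 8 n53267
theorem D54900 : act 8 n53267 = n54900 := rfl
theorem F246278 : act 2 n54900 = n53270 := d22_1 D54900 (iv D53270) (iv F238843)
theorem F246279 : act 5 n54900 = n53273 := d37_1 D54900 (iv D53273) (iv F238845)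
theorem F246280 : act 6 n54900 = n54150 := d40_1 D54900 (iv D54150) (iv F238846)
theorem F246281 : act 9 n54900 = n53291 := d44_2 D53267 D54900 (iv D53291) (iv D51440) (iv F230534)
def n54901 : Q := act 6 n53268
theorem D54901 : act 6 n53268 = n54901 := rfl
theorem F246282 : act 0 n54901 = n53890 := d5_1 D54901 (iv F246080) F246075
theorem F246283 : act 1 n54901 = n53346 := d13_1 D54901 (iv F243704) F243700
theorem F246284 : act 2 n54901 = n53323 := d20_1 D54901 (iv F246051) F246048
theorem F246285 : act 3 n54901 = n54248 := d26_1 D54901 (iv F246232) F246230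
theorem F246286 : act 4 n54901 = n53274 := d31_1 D54901 (iv D53274) (iv F238847)
theorem F246287 : act 5 n54901 = n53320 := d35_1 D54901 F239098 F234592 (iv F230535) D53268
theorem F246288 : act 7 n54901 = n53326 := d39_2 F246066 D54901 F239130 (iv F239732) (iv F246065)
theorem F246289 : act 8 n54901 = n53292 := d40_2 (iv F238848) D54901 (iv D53292)
def n54902 : Q := act 9 n53268
theorem D54902 : act 9 n53268 = n54902 := rfl
theorem F246290 : act 4 n54902 = n53275 := d34_1 D54902 (iv D53275) (iv F238847)
theorem F246291 : act 5 n54902 = n53269 := d38_1 D54902 (iv D53269) D53268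
def n54903 : Q := act 8 n53269
theorem D54903 : act 8 n53269 = n54903 := rfl
theorem F246292 : act 4 n54903 = n53270 := d33_1 D54903 (iv D53270) (iv F238849)
theorem F246293 : act 6 n54903 = n54151 := d40_1 D54903 (iv D54151) (iv F238850)
theorem F246294 : act 9 n54903 = n53294 := d44_2 D53269 D54903 (iv D53294) (iv D51442) (iv F230536)
def n54904 : Q := act 8 n53272
theorem D54904 : act 8 n53272 = n54904 := rfl
theorem F246295 : act 1 n54904 = n53273 := d15_1 D54904 (iv D53273) (iv F238860)
theorem F246296 : act 2 n54904 = n53911 := d22_1 D54904 (iv D53911) (iv F238861)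
theorem F246297 : act 6 n54904 = n53277 := d40_1 D54904 (iv D53277) (iv F238863)
theorem F246298 : act 7 n54904 = n53909 := d42_1 D54904 (iv D53909) (iv F238864)
theorem F246299 : act 9 n54904 = n53295 := d44_2 D53272 D54904 (iv D53295) (iv D51445) (iv F230548)
def n54905 : Q := act 3 n53273
theorem D54905 : act 3 n53273 = n54905 := rfl
theorem F246300 : act 2 n54905 = n53437 := d17_1 D54905 (iv D53437) F231287 (iv F230557) (iv F238865)
theorem F246301 : act 6 n54905 = n53279 := d26_2 (iv F238866) D54905 (iv D53279)
theorem F246302 : act 8 n54905 = n54905 := d28_2 D53273 D54905 (iv D54905) (iv D53273) F230550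
theorem F246303 : act 9 n54905 = n53296 := d29_2 (iv F238867) D54905 (iv D53296)
def n54906 : Q := act 9 n53274
theorem D54906 : act 9 n53274 = n54906 := rfl
theorem F246304 : act 0 n54906 = n53902 := d8_1 D54906 (iv D53902) (iv F238868)
theorem F246305 : act 1 n54906 = n53355 := d16_1 D54906 (iv D53355) (iv F238869)
theorem F246306 : act 2 n54906 = n53324 := d23_1 D54906 (iv D53324) (iv F238870)
theorem F246307 : act 3 n54906 = n54906 := d29_1 D54906 (iv D54906) F238871
theorem F246308 : act 5 n54906 = n53280 := d38_1 D54906 (iv D53280) (iv F238872)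
theorem F246309 : act 6 n54906 = n53275 := d41_1 D54906 (iv D53275) D53274
theorem F246310 : act 7 n54906 = n53327 := d43_1 D54906 (iv D53327) (iv F238873)
def n54907 : Q := act 8 n53275
theorem D54907 : act 8 n53275 = n54907 := rfl
theorem F246311 : act 5 n54907 = n53276 := d37_1 D54907 (iv D53276) (iv F238876)
theorem F246312 : act 9 n54907 = n53298 := d44_2 D53275 D54907 (iv D53298) (iv D51448) (iv F230553)
def n54908 : Q := act 3 n53276
theorem D54908 : act 3 n53276 = n54908 := rfl
theorem F246313 : act 4 n54908 = n53440 := d24_2 (iv F238877) D54908 (iv D53440) F231295 (iv F230557)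
theorem F246314 : act 6 n54908 = n53282 := d26_2 (iv F238878) D54908 (iv D53282)
theorem F246315 : act 8 n54908 = n54908 := d28_2 D53276 D54908 (iv D54908) (iv D53276) F230554
theorem F246316 : act 9 n54908 = n53299 := d29_2 (iv F238879) D54908 (iv D53299)
def n54909 : Q := act 3 n53277
theorem D54909 : act 3 n53277 = n54909 := rfl
theorem F246317 : act 0 n54909 = n54200 := d2_1 D54909 F243882 F243875
theorem F246318 : act 1 n54909 = n53279 := d10_1 D54909 (iv D53279) (iv F238880)
theorem F246319 : act 2 n54909 = n53908 := d17_1 D54909 (iv D53908) F233519 D52467 (iv F238881)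
theorem F246320 : act 4 n54909 = n53334 := d24_2 F243871 D54909 (iv D53334) (iv F239000) (iv F243870)
theorem F246321 : act 5 n54909 = n54153 := d25_2 (iv F238882) D54909 (iv D54153)
theorem F246322 : act 8 n54909 = n54909 := d28_2 D53277 D54909 (iv D54909) (iv D53277) F230562
theorem F246323 : act 9 n54909 = n53302 := d29_2 (iv F238883) D54909 (iv D53302)
def n54910 : Q := act 4 n53279
theorem D54910 : act 4 n53279 = n54910 := rfl
theorem F246324 : act 0 n54910 = n54181 := d3_1 D54910 (iv F246125) F246122
theorem F246325 : act 1 n54910 = n53334 := d11_1 D54910 (iv F246320) F246318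
theorem F246326 : act 2 n54910 = n53443 := d18_1 D54910 (iv D53443) (iv F238889)
theorem F246327 : act 3 n54910 = n53333 := d24_1 D54910 (iv F245853) F245852 F238886 D53279
theorem F246328 : act 8 n54910 = n54910 := d33_2 F238891 D54910 (iv D54910)
theorem F246329 : act 9 n54910 = n53305 := d34_2 (iv F238892) D54910 (iv D53305)
theorem F246330 : act 5 n54167 = n54910 := d45_3 D50366 D52384 D54167 (iv D54910) (iv D53279) (iv F238880) F238881 (iv D52467) (iv F234812) (iv D52423) F227744 F227740 F220352 (iv F220382) F220380 F216992 (iv D48601) (iv F208206) (iv D46631) F175134 F175135 (iv F208179) F208178 (iv F210388) F210389 F210390 F177131 D42442 D47092 (iv F218246) D50925 F227654 F227652 F218249 F208496 D46683 D48854 D50934 F227707 (iv F230472) (iv D51409) F221183 (iv D48319) (iv D45468) F131862 (iv D31168) (iv F129595) (iv F175961) F205912 F130836 F130835 F205554 F121254 (iv D19649) (iv D13526) (iv F59294) F59295 (iv D13498) F41744 (iv F41738) F41739 (iv F59281) F59282 (iv F205456) (iv F205629) F59797 F42083 F31090 F31089 F22005 F22006 D6794 (iv F44074)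 (iv F62642) F205654 F85134 (iv F85432) (iv F122157) (iv F175133) F175134 F175137 F205387 F94174 F65911 (iv F91865) (iv F131575) D45340 (iv F215619) F215620
def n54911 : Q := act 8 n53280
theorem D54911 : act 8 n53280 = n54911 := rfl
theorem F246331 : act 0 n54911 = n53903 := d7_1 D54911 (iv D53903) (iv F238893)
theorem F246332 : act 1 n54911 = n53356 := d15_1 D54911 (iv D53356) (iv F238894)
theorem F246333 : act 2 n54911 = n53330 := d22_1 D54911 (iv D53330) (iv F238895)
theorem F246334 : act 4 n54911 = n53322 := d33_1 D54911 (iv D53322) (iv F238897)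
theorem F246335 : act 6 n54911 = n53281 := d40_1 D54911 (iv D53281) (iv F238898)
theorem F246336 : act 7 n54911 = n53332 := d42_1 D54911 (iv D53332) (iv F238899)
theorem F246337 : act 9 n54911 = n53306 := d44_2 D53280 D54911 (iv D53306) (iv D51457) (iv F230578)
def n54912 : Q := act 3 n53281
theorem D54912 : act 3 n53281 = n54912 := rfl
theorem F246338 : act 0 n54912 = n53908 := d2_1 D54912 (iv D53908) (iv F238900)
theorem F246339 : act 1 n54912 = n53360 := d10_1 D54912 (iv D53360) (iv F238901)
theorem F246340 : act 2 n54912 = n54200 := d17_1 D54912 F243882 F243877 F238984 (iv F238902)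
theorem F246341 : act 4 n54912 = n53910 := d24_2 (iv F238903) D54912 (iv D53910) (iv F236511) F236510
theorem F246342 : act 5 n54912 = n53282 := d25_2 (iv F238904) D54912 (iv D53282)
theorem F246343 : act 8 n54912 = n54912 := d28_2 D53281 D54912 (iv D54912) (iv D53281) F230582
theorem F246344 : act 9 n54912 = n53307 := d29_2 (iv F238905) D54912 (iv D53307)
def n54913 : Q := act 2 n53282
theorem D54913 : act 2 n53282 = n54913 := rfl
theorem F246345 : act 0 n54913 = n54153 := d1_1 D54913 (iv F246131) F246129
theorem F246346 : act 3 n54913 = n53387 := d17_2 D53282 D54913 (iv F245851) F245852 F238885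
theorem F246347 : act 4 n54913 = n53446 := d18_2 (iv F238906) D54913 (iv D53446)
theorem F246348 : act 5 n54913 = n54200 := d19_2 F246342 D54913 (iv F246340)
theorem F246349 : act 8 n54913 = n54913 := d22_2 F238907 D54913 (iv D54913)
theorem F246350 : act 9 n54913 = n53308 := d23_2 (iv F238908) D54913 (iv D53308)
theorem F246351 : act 1 n53389 = n54913 := d45_6 F215772 (iv F225603) (iv D50397) (iv F221741) (iv F231069) D53389 (iv D54913) (iv D53282) F230586 (iv D49408) F211332 (iv F211355) F211354 F202943 F124183 F86809 F60822 (iv D13845) (iv D9542) F30171 (iv D4560) (iv D3161) F10799 F8070 F8071 F6253 (iv F8756) F8755 F8752 F8753 D2514 D3631 F17320 F200177 F17356 (iv D3640) (iv D2518) (iv D1747) D1748 F8767 (iv F12307) (iv F17332) (iv F24465) (iv F31708) F31709 D6958 D10097 F45124 D10099 (iv F60844) (iv F85728) (iv F121193) F121194 D41586 D46579 D48759 F217657 (iv D48652) (iv D46438) F135427 (iv F207147) D48633 F217098 F220926 F220923 F217042 (iv F226742) (iv F230647) F230646 F221336 F211332 (iv D42589) F124083 (iv F178004) D47212 F211331 (iv D42625)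 F124168 F86793 D20122 D29282 D42671 (iv F211262) F211263 F188575 F188574 F131663 (iv F189068) D48227
def n54914 : Q := act 9 n53283
theorem D54914 : act 9 n53283 = n54914 := rfl
theorem F246352 : act 1 n54914 = n53887 := d16_1 D54914 (iv D53887) (iv F238909)
theorem F246353 : act 2 n54914 = n54205 := d23_1 D54914 (iv D54205) (iv F238910)
theorem F246354 : act 3 n54914 = n53566 := d29_1 D54914 (iv D53566) (iv F238911)
theorem F246355 : act 4 n54914 = n53284 := d34_1 D54914 (iv D53284) D53283
theorem F246356 : act 5 n54914 = n54191 := d38_1 D54914 (iv D54191) (iv F238912)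
theorem F246357 : act 6 n54914 = n53285 := d41_1 D54914 (iv D53285) (iv F238913)
theorem F246358 : act 7 n54914 = n53891 := d43_1 D54914 (iv D53891) (iv F238914)
def n54915 : Q := act 8 n53284
theorem D54915 : act 8 n53284 = n54915 := rfl
theorem F246359 : act 1 n54915 = n53888 := d15_1 D54915 (iv D53888) (iv F238916)
theorem F246360 : act 2 n54915 = n54206 := d22_1 D54915 (iv D54206) (iv F238917)
theorem F246361 : act 3 n54915 = n53449 := d28_1 D54915 (iv D53449) F231322 (iv F230599) (iv F238918)
theorem F246362 : act 5 n54915 = n53901 := d37_1 D54915 (iv D53901) (iv F238919)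
theorem F246363 : act 6 n54915 = n53286 := d40_1 D54915 (iv D53286) (iv F238920)
theorem F246364 : act 7 n54915 = n53892 := d42_1 D54915 (iv D53892) (iv F238921)
theorem F246365 : act 9 n54915 = n54228 := d44_2 D53284 D54915 (iv D54228) (iv D52455) (iv F230592)
def n54916 : Q := act 8 n53285
theorem D54916 : act 8 n53285 = n54916 := rfl
theorem F246366 : act 4 n54916 = n53286 := d33_1 D54916 (iv D53286) (iv F238923)
theorem F246367 : act 7 n54916 = n53294 := d42_1 D54916 (iv D53294) (iv F238924)
def n54917 : Q := act 9 n53287
theorem D54917 : act 9 n53287 = n54917 := rfl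
theorem F246368 : act 1 n54917 = n53290 := d16_1 D54917 (iv D53290) (iv F238928)
theorem F246369 : act 2 n54917 = n53448 := d23_1 D54917 (iv D53448) (iv F238929)
theorem F246370 : act 4 n54917 = n53288 := d34_1 D54917 (iv D53288) D53287
theorem F246371 : act 6 n54917 = n53452 := d41_1 D54917 (iv D53452) (iv F238930)
theorem F246372 : act 7 n54917 = n54201 := d43_1 D54917 (iv D54201) (iv F238931)
def n54918 : Q := act 8 n53288
theorem D54918 : act 8 n53288 = n54918 := rfl
theorem F246373 : act 1 n54918 = n53291 := d15_1 D54918 (iv D53291) (iv F238932)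
theorem F246374 : act 2 n54918 = n53449 := d22_1 D54918 (iv D53449) (iv F238933)
theorem F246375 : act 5 n54918 = n53295 := d37_1 D54918 (iv D53295) (iv F238935)
theorem F246376 : act 6 n54918 = n53453 := d40_1 D54918 (iv D53453) (iv F238936)
theorem F246377 : act 7 n54918 = n54202 := d42_1 D54918 (iv D54202) (iv F238937)
def n54919 : Q := act 9 n53289
theorem D54919 : act 9 n53289 = n54919 := rfl
theorem F246378 : act 0 n54919 = n53570 := d8_1 D54919 (iv D53570) (iv F238938)
theorem F246379 : act 2 n54919 = n53574 := d23_1 D54919 (iv D53574) (iv F238939)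
theorem F246380 : act 3 n54919 = n53290 := d29_1 D54919 (iv D53290) D53289
theorem F246381 : act 4 n54919 = n53314 := d34_1 D54919 (iv D53314) (iv F238940)
theorem F246382 : act 5 n54919 = n53536 := d38_1 D54919 (iv D53536) (iv F238941)
theorem F246383 : act 6 n54919 = n54158 := d41_1 D54919 (iv D54158) (iv F238942)
theorem F246384 : act 7 n54919 = n53538 := d43_1 D54919 (iv D53538) (iv F238943)
def n54920 : Q := act 8 n53290
theorem D54920 : act 8 n53290 = n54920 := rfl
theorem F246385 : act 2 n54920 = n53294 := d22_1 D54920 (iv D53294) (iv F238945)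
theorem F246386 : act 4 n54920 = n53291 := d33_1 D54920 (iv D53291) (iv F238946)
theorem F246387 : act 6 n54920 = n54160 := d40_1 D54920 (iv D54160) (iv F238947)
def n54921 : Q := act 3 n53291
theorem D54921 : act 3 n53291 = n54921 := rfl
theorem F246388 : act 2 n54921 = n53468 := d17_1 D54921 (iv D53468) F231366 (iv F230621) (iv F238948)
theorem F246389 : act 5 n54921 = n53296 := d25_2 (iv F238949) D54921 (iv D53296)
theorem F246390 : act 6 n54921 = n54161 := d26_2 (iv F238950) D54921 (iv D54161)
theorem F246391 : act 8 n54921 = n53316 := d28_2 D53291 D54921 (iv D53316) (iv D51471) (iv F230613)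
def n54922 : Q := act 9 n53292
theorem D54922 : act 9 n53292 = n54922 := rfl
theorem F246392 : act 0 n54922 = n54205 := d8_1 D54922 (iv D54205) (iv F238951)
theorem F246393 : act 1 n54922 = n53374 := d16_1 D54922 (iv D53374) (iv F238952)
theorem F246394 : act 3 n54922 = n53578 := d29_1 D54922 (iv D53578) (iv F238953)
theorem F246395 : act 4 n54922 = n53297 := d34_1 D54922 (iv D53297) (iv F238954)
theorem F246396 : act 5 n54922 = n53328 := d38_1 D54922 (iv D53328) (iv F238955)
theorem F246397 : act 6 n54922 = n53293 := d41_1 D54922 (iv D53293) D53292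
theorem F246398 : act 7 n54922 = n54210 := d43_1 D54922 (iv D54210) F238956
def n54923 : Q := act 8 n53293
theorem D54923 : act 8 n53293 = n54923 := rfl
theorem F246399 : act 4 n54923 = n53298 := d33_1 D54923 (iv D53298) (iv F238958)
theorem F246400 : act 5 n54923 = n53294 := d37_1 D54923 (iv D53294) (iv F238959)
def n54924 : Q := act 3 n53294
theorem D54924 : act 3 n53294 = n54924 := rfl
theorem F246401 : act 4 n54924 = n53472 := d24_2 (iv F238960) D54924 (iv D53472) F231375 (iv F230621)
theorem F246402 : act 6 n54924 = n54163 := d26_2 (iv F238961) D54924 (iv D54163)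
theorem F246403 : act 8 n54924 = n53580 := d28_2 D53294 D54924 (iv D53580) (iv D51737) (iv F230618)
def n54925 : Q := act 3 n53295
theorem D54925 : act 3 n53295 = n54925 := rfl
theorem F246404 : act 0 n54925 = n54230 := d2_1 D54925 (iv F244079) F244077
theorem F246405 : act 1 n54925 = n53296 := d10_1 D54925 (iv D53296) (iv F238962)
theorem F246406 : act 2 n54925 = n54226 := d17_1 D54925 (iv D54226) (iv F241700) (iv F243839) F243838
theorem F246407 : act 4 n54925 = n54227 := d24_2 F246043 D54925 (iv D54227) (iv F239146) (iv F246042)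
theorem F246408 : act 6 n54925 = n53302 := d26_2 (iv F238963) D54925 (iv D53302)
theorem F246409 : act 7 n54925 = n54229 := d27_2 F243942 D54925 (iv F243938)
theorem F246410 : act 8 n54925 = n53317 := d28_2 D53295 D54925 (iv D53317) (iv D51473) (iv F230627)
def n54926 : Q := act 4 n53296
theorem D54926 : act 4 n53296 = n54926 := rfl
theorem F246411 : act 0 n54926 = n53477 := d3_1 D54926 (iv F246188) F246185
theorem F246412 : act 1 n54926 = n54227 := d11_1 D54926 (iv F246407) F246405
theorem F246413 : act 2 n54926 = n53485 := d18_1 D54926 (iv D53485) (iv F238964)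
theorem F246414 : act 3 n54926 = n53378 := d24_1 D54926 F239373 (iv F238741) F238742 D53296
theorem F246415 : act 6 n54926 = n53305 := d31_2 (iv F238965) D54926 (iv D53305)
theorem F246416 : act 7 n54926 = n53385 := d32_2 F246203 D54926 (iv F246201)
theorem F246417 : act 8 n54926 = n53318 := d33_2 (iv F238966) D54926 (iv D53318)
def n54927 : Q := act 8 n53297
theorem D54927 : act 8 n53297 = n54927 := rfl
theorem F246418 : act 0 n54927 = n54206 := d7_1 D54927 (iv D54206) (iv F238967)
theorem F246419 : act 1 n54927 = n53384 := d15_1 D54927 (iv D53384) (iv F238968)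
theorem F246420 : act 5 n54927 = n53306 := d37_1 D54927 (iv D53306) (iv F238970)
theorem F246421 : act 6 n54927 = n53298 := d40_1 D54927 (iv D53298) (iv F238971)
theorem F246422 : act 7 n54927 = n54211 := d42_1 D54927 (iv D54211) (iv F238972)
def n54928 : Q := act 3 n53298
theorem D54928 : act 3 n53298 = n54928 := rfl
theorem F246423 : act 5 n54928 = n53299 := d25_2 (iv F238973) D54928 (iv D53299)
theorem F246424 : act 8 n54928 = n53310 := d28_2 D53298 D54928 (iv D53310) (iv D51461) (iv F230636)
def n54929 : Q := act 2 n53299
theorem D54929 : act 2 n53299 = n54929 := rfl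
theorem F246425 : act 0 n54929 = n53475 := d1_1 D54929 (iv F246200) F246198
theorem F246426 : act 3 n54929 = n53376 := d17_2 D53299 D54929 F239363 (iv F238741) F238740
theorem F246427 : act 4 n54929 = n53489 := d18_2 (iv F238974) D54929 (iv D53489)
theorem F246428 : act 6 n54929 = n53308 := d20_2 (iv F238975) D54929 (iv D53308)
theorem F246429 : act 7 n54929 = n53383 := d21_2 F246190 D54929 (iv F246187)
theorem F246430 : act 8 n54929 = n53311 := d22_2 (iv F238976) D54929 (iv D53311)
theorem F246431 : act 1 n54234 = n54929 := d15_3 F246430 (iv F239040) (iv F242917)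
def n54930 : Q := act 8 n53303
theorem D54930 : act 8 n53303 = n54930 := rfl
theorem F246432 : act 0 n54930 = n53901 := d7_1 D54930 (iv D53901) (iv F238991)
theorem F246433 : act 1 n54930 = n53350 := d15_1 D54930 (iv D53350) (iv F238992)
theorem F246434 : act 2 n54930 = n53306 := d22_1 D54930 (iv D53306) (iv F238993)
theorem F246435 : act 4 n54930 = n53332 := d33_1 D54930 (iv D53332) (iv F238995)
theorem F246436 : act 6 n54930 = n53304 := d40_1 D54930 (iv D53304) (iv F238996)
theorem F246437 : act 7 n54930 = n53322 := d42_1 D54930 (iv D53322) (iv F238997)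
theorem F246438 : act 9 n54930 = n53330 := d44_2 D53303 D54930 (iv D53330) (iv D51491) (iv F230657)
def n54931 : Q := act 3 n53306
theorem D54931 : act 3 n53306 = n54931 := rfl
theorem F246439 : act 0 n54931 = n54226 := d2_1 D54931 (iv D54226) (iv F239008)
theorem F246440 : act 1 n54931 = n53385 := d10_1 D54931 (iv D53385) (iv F239009)
theorem F246441 : act 4 n54931 = n54229 := d24_2 (iv F239010) D54931 (iv F243938) F243939 F238610
theorem F246442 : act 6 n54931 = n53307 := d26_2 (iv F239011) D54931 (iv D53307)
theorem F246443 : act 7 n54931 = n54227 := d27_2 (iv F239012) D54931 (iv D54227)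
theorem F246444 : act 8 n54931 = n53312 := d28_2 D53306 D54931 (iv D53312) (iv D51463) (iv F230669)
theorem F246445 : act 2 n54230 = n54931 := d22_3 F246444 F239043 (iv F242909)
def n54932 : Q := act 3 n53309
theorem D54932 : act 3 n53309 = n54932 := rfl
theorem F246446 : act 0 n54932 = n54236 := d2_1 D54932 (iv D54236) (iv F239024)
theorem F246447 : act 1 n54932 = n53394 := d10_1 D54932 (iv D53394) (iv F239025)
theorem F246448 : act 2 n54932 = n54246 := d17_1 D54932 F242948 (iv F239088) F239089 (iv F239026)
theorem F246449 : act 5 n54932 = n53312 := d25_2 (iv F239028) D54932 (iv D53312)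
theorem F246450 : act 6 n54932 = n53310 := d26_2 (iv F239029) D54932 (iv D53310)
theorem F246451 : act 7 n54932 = n54238 := d27_2 (iv F239030) D54932 (iv D54238)
theorem F246452 : act 9 n54932 = n54932 := d29_2 F239031 D54932 (iv D54932)
def n54933 : Q := act 2 n53310
theorem D54933 : act 2 n53310 = n54933 := rfl
theorem F246453 : act 0 n54933 = n53508 := d1_1 D54933 (iv F246207) F246205
theorem F246454 : act 3 n54933 = n53397 := d17_2 D53310 D54933 F239459 (iv F238570) F238569
theorem F246455 : act 5 n54933 = n53311 := d19_2 (iv F239032) D54933 (iv D53311)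
theorem F246456 : act 6 n54933 = n54246 := d20_2 F246450 D54933 (iv F246448)
theorem F246457 : act 7 n54933 = n53400 := d21_2 F246217 D54933 (iv F246214)
theorem F246458 : act 9 n54933 = n54933 := d23_2 F239033 D54933 (iv D54933)
theorem F246459 : act 1 n54247 = n54933 := d13_3 F246456 F242947 D54247
def n54934 : Q := act 4 n53310
theorem D54934 : act 4 n53310 = n54934 := rfl
theorem F246460 : act 3 n54934 = n53595 := d24_1 D54934 (iv D53595) (iv D51757) (iv F230685) D53310
theorem F246461 : act 5 n54934 = n53502 := d30_2 (iv F239032) D54934 (iv D53502) F231493 (iv F230688)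
theorem F246462 : act 9 n54934 = n54934 := d34_2 F239033 D54934 (iv D54934)
def n54935 : Q := act 3 n53313
theorem D54935 : act 3 n53313 = n54935 := rfl
theorem F246463 : act 0 n54935 = n54246 := d2_1 D54935 F242948 (iv F239048)
theorem F246464 : act 1 n54935 = n53316 := d10_1 D54935 (iv D53316) (iv F239049)
theorem F246465 : act 2 n54935 = n54236 := d17_1 D54935 (iv D54236) F234928 (iv F230784) (iv F239050)
theorem F246466 : act 5 n54935 = n53317 := d25_2 (iv F239051) D54935 (iv D53317)
theorem F246467 : act 6 n54935 = n53508 := d26_2 (iv F239052) D54935 (iv D53508)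
theorem F246468 : act 7 n54935 = n54235 := d27_2 (iv F239053) D54935 (iv D54235)
theorem F246469 : act 9 n54935 = n54935 := d29_2 F239054 D54935 (iv D54935)
def n54936 : Q := act 8 n53314
theorem D54936 : act 8 n53314 = n54936 := rfl
theorem F246470 : act 0 n54936 = n53581 := d7_1 D54936 (iv D53581) (iv F239055)
theorem F246471 : act 2 n54936 = n53597 := d22_1 D54936 (iv D53597) (iv F239056)
theorem F246472 : act 5 n54936 = n53540 := d37_1 D54936 (iv D53540) (iv F239058)
theorem F246473 : act 6 n54936 = n54171 := d40_1 D54936 (iv D54171) (iv F239059)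
theorem F246474 : act 7 n54936 = n53541 := d42_1 D54936 (iv D53541) (iv F239060)
theorem F246475 : act 9 n54936 = n54287 := d44_2 D53314 D54936 (iv D54287) (iv D52534) F230733
def n54937 : Q := act 3 n53315
theorem D54937 : act 3 n53315 = n54937 := rfl
theorem F246476 : act 0 n54937 = n53591 := d2_1 D54937 (iv D53591) (iv F239061)
theorem F246477 : act 2 n54937 = n54429 := d17_1 D54937 (iv D54429) F235584 (iv F230746) (iv F239062)
theorem F246478 : act 5 n54937 = n53543 := d25_2 (iv F239064) D54937 (iv D53543)
theorem F246479 : act 6 n54937 = n54172 := d26_2 (iv F239065) D54937 (iv D54172)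
theorem F246480 : act 7 n54937 = n53544 := d27_2 (iv F239066) D54937 (iv D53544)
theorem F246481 : act 9 n54937 = n54937 := d29_2 F239067 D54937 (iv D54937)
def n54938 : Q := act 4 n53316
theorem D54938 : act 4 n53316 = n54938 := rfl
theorem F246482 : act 2 n54938 = n53519 := d18_1 D54938 (iv D53519) (iv F239068)
theorem F246483 : act 6 n54938 = n54173 := d31_2 (iv F239070) D54938 (iv D54173)
theorem F246484 : act 9 n54938 = n54938 := d34_2 F239071 D54938 (iv D54938)
def n54939 : Q := act 5 n53318
theorem D54939 : act 5 n53318 = n54939 := rfl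
theorem F246485 : act 0 n54939 = n53499 := d4_1 D54939 F239874 (iv F239079)
theorem F246486 : act 1 n54939 = n54238 := d12_1 D54939 F242929 (iv F239080)
theorem F246487 : act 2 n54939 = n53521 := d19_1 D54939 (iv D53521) (iv F239081)
theorem F246488 : act 3 n54939 = n53393 := d25_1 D54939 F239436 (iv F239082)
theorem F246489 : act 7 n54939 = n53394 := d36_2 (iv F239084) D54939 F239440
theorem F246490 : act 9 n54939 = n54939 := d38_2 F239085 D54939 (iv D54939)
def n54940 : Q := act 9 n53320
theorem D54940 : act 9 n53320 = n54940 := rfl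
theorem F246491 : act 0 n54940 = n53891 := d8_1 D54940 (iv D53891) (iv F239094)
theorem F246492 : act 1 n54940 = n53347 := d16_1 D54940 (iv D53347) (iv F239095)
theorem F246493 : act 2 n54940 = n54210 := d23_1 D54940 (iv D54210) (iv F239096)
theorem F246494 : act 3 n54940 = n54249 := d29_1 D54940 (iv D54249) (iv F239097)
theorem F246495 : act 4 n54940 = n53321 := d34_1 D54940 (iv D53321) D53320
theorem F246496 : act 6 n54940 = n54137 := d41_1 D54940 (iv D54137) (iv F239098)
def n54941 : Q := act 8 n53321
theorem D54941 : act 8 n53321 = n54941 := rfl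
theorem F246497 : act 0 n54941 = n53892 := d7_1 D54941 (iv D53892) (iv F239100)
theorem F246498 : act 1 n54941 = n53348 := d15_1 D54941 (iv D53348) (iv F239101)
theorem F246499 : act 2 n54941 = n54211 := d22_1 D54941 (iv D54211) (iv F239102)
theorem F246500 : act 3 n54941 = n54183 := d28_1 D54941 (iv D54183) F234752 (iv F230809) (iv F239103)
theorem F246501 : act 5 n54941 = n53322 := d37_1 D54941 (iv D53322) (iv F239104)
theorem F246502 : act 6 n54941 = n54138 := d40_1 D54941 (iv D54138) (iv F239105)
theorem F246503 : act 9 n54941 = n53329 := d44_2 D53321 D54941 (iv D53329) (iv D51490) (iv F230802)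
def n54942 : Q := act 9 n53323
theorem D54942 : act 9 n53323 = n54942 := rfl
theorem F246504 : act 0 n54942 = n54213 := d8_1 D54942 (iv D54213) (iv F239111)
theorem F246505 : act 1 n54942 = n53366 := d16_1 D54942 (iv D53366) (iv F239112)
theorem F246506 : act 3 n54942 = n53607 := d29_1 D54942 (iv D53607) (iv F239113)
theorem F246507 : act 4 n54942 = n53324 := d34_1 D54942 (iv D53324) D53323
theorem F246508 : act 5 n54942 = n54210 := d38_1 D54942 (iv D54210) (iv F239114)
theorem F246509 : act 7 n54942 = n53328 := d43_1 D54942 (iv D53328) (iv F239115)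
def n54943 : Q := act 8 n53324
theorem D54943 : act 8 n53324 = n54943 := rfl
theorem F246510 : act 0 n54943 = n54228 := d7_1 D54943 (iv D54228) (iv F239116)
theorem F246511 : act 1 n54943 = n53367 := d15_1 D54943 (iv D53367) (iv F239117)
theorem F246512 : act 5 n54943 = n53330 := d37_1 D54943 (iv D53330) (iv F239119)
theorem F246513 : act 7 n54943 = n53329 := d42_1 D54943 (iv D53329) (iv F239120)
def n54944 : Q := act 4 n53325
theorem D54944 : act 4 n53325 = n54944 := rfl
theorem F246514 : act 0 n54944 = n53419 := d3_1 D54944 F239572 (iv F239121)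
theorem F246515 : act 1 n54944 = n53326 := d11_1 D54944 (iv D53326) D53325
theorem F246516 : act 2 n54944 = n53369 := d18_1 D54944 (iv D53369) (iv F239122)
theorem F246517 : act 5 n54944 = n53341 := d30_2 (iv F239124) D54944 (iv D53341) F230895 (iv F230856)
theorem F246518 : act 6 n54944 = n53451 := d31_2 (iv F239125) D54944 F239694
theorem F246519 : act 7 n54944 = n53346 := d32_2 (iv F239126) D54944 F239231
theorem F246520 : act 8 n54944 = n53365 := d33_2 (iv F239127) D54944 F239321
def n54945 : Q := act 9 n53325
theorem D54945 : act 9 n53325 = n54945 := rfl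
theorem F246521 : act 0 n54945 = n53432 := d8_1 D54945 (iv D53432) (iv F239121)
theorem F246522 : act 1 n54945 = n53327 := d16_1 D54945 (iv D53327) D53325
theorem F246523 : act 2 n54945 = n53370 := d23_1 D54945 (iv D53370) (iv F239122)
theorem F246524 : act 3 n54945 = n54945 := d29_1 D54945 (iv D54945) F239123
theorem F246525 : act 5 n54945 = n53331 := d38_1 D54945 (iv D53331) (iv F239124)
theorem F246526 : act 6 n54945 = n53473 := d41_1 D54945 (iv D53473) (iv F239125)
theorem F246527 : act 7 n54945 = n53355 := d43_1 D54945 (iv D53355) (iv F239126)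
def n54946 : Q := act 3 n53326
theorem D54946 : act 3 n53326 = n54946 := rfl
theorem F246528 : act 0 n54946 = n53565 := d2_1 D54946 F240211 (iv F239128)
theorem F246529 : act 2 n54946 = n53609 := d17_1 D54946 (iv D53609) F232118 (iv F230841) (iv F239129)
theorem F246530 : act 4 n54946 = n54946 := d24_2 D53326 D54946 (iv D54946) (iv D53326) F230836
theorem F246531 : act 5 n54946 = n53534 := d25_2 F246140 D54946 (iv F246139)
theorem F246532 : act 6 n54946 = n54156 := d26_2 (iv F239130) D54946 F242718
theorem F246533 : act 7 n54946 = n54248 := d27_2 F246288 D54946 (iv F246285)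
theorem F246534 : act 8 n54946 = n54259 := d28_2 (iv F239131) D54946 (iv F244678) F244677 F240276
def n54947 : Q := act 9 n53326
theorem D54947 : act 9 n53326 = n54947 := rfl
theorem F246535 : act 0 n54947 = n54191 := d8_1 D54947 (iv D54191) (iv F239128)
theorem F246536 : act 2 n54947 = n53328 := d23_1 D54947 (iv D53328) (iv F239129)
theorem F246537 : act 4 n54947 = n53327 := d34_1 D54947 (iv D53327) D53326
theorem F246538 : act 6 n54947 = n54159 := d41_1 D54947 (iv D54159) (iv F239130)
def n54948 : Q := act 8 n53327
theorem D54948 : act 8 n53327 = n54948 := rfl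
theorem F246539 : act 0 n54948 = n54192 := d7_1 D54948 (iv D54192) (iv F239132)
theorem F246540 : act 2 n54948 = n53329 := d22_1 D54948 (iv D53329) (iv F239133)
theorem F246541 : act 5 n54948 = n53332 := d37_1 D54948 (iv D53332) (iv F239135)
theorem F246542 : act 6 n54948 = n54164 := d40_1 D54948 (iv D54164) (iv F239136)
theorem F246543 : act 9 n54948 = n54211 := d44_2 D53327 D54948 (iv D54211) (iv D52437) (iv F230839)
def n54949 : Q := act 8 n53328
theorem D54949 : act 8 n53328 = n54949 := rfl
theorem F246544 : act 1 n54949 = n53375 := d15_1 D54949 (iv D53375) (iv F239137)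
theorem F246545 : act 4 n54949 = n53329 := d33_1 D54949 (iv D53329) (iv F239139)
theorem F246546 : act 6 n54949 = n54162 := d40_1 D54949 (iv D54162) (iv F239140)
def n54950 : Q := act 8 n53331
theorem D54950 : act 8 n53331 = n54950 := rfl
theorem F246547 : act 0 n54950 = n53433 := d7_1 D54950 (iv D53433) (iv F239149)
theorem F246548 : act 1 n54950 = n53332 := d15_1 D54950 (iv D53332) (iv F239150)
theorem F246549 : act 2 n54950 = n53380 := d22_1 D54950 (iv D53380) (iv F239151)
theorem F246550 : act 4 n54950 = n53350 := d33_1 D54950 (iv D53350) (iv F239153)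
theorem F246551 : act 6 n54950 = n53333 := d40_1 D54950 (iv D53333) (iv F239154)
theorem F246552 : act 7 n54950 = n53356 := d42_1 D54950 (iv D53356) (iv F239155)
theorem F246553 : act 9 n54950 = n53378 := d44_2 D53331 D54950 (iv D53378) (iv D51530) (iv F230859)
def n54951 : Q := act 3 n53332
theorem D54951 : act 3 n53332 = n54951 := rfl
theorem F246554 : act 0 n54951 = n54198 := d2_1 D54951 (iv D54198) (iv F239156)
theorem F246555 : act 6 n54951 = n53334 := d26_2 (iv F239158) D54951 (iv D53334)
theorem F246556 : act 8 n54951 = n54951 := d28_2 D53332 D54951 (iv D54951) (iv D53332) F230862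
theorem F246557 : act 9 n54951 = n54227 := d29_2 (iv F239159) D54951 (iv D54227)
def n54952 : Q := act 4 n53335
theorem D54952 : act 4 n53335 = n54952 := rfl
theorem F246558 : act 0 n54952 = n53407 := d3_1 D54952 (iv D53407) (iv F239169)
theorem F246559 : act 1 n54952 = n53534 := d11_1 D54952 (iv D53534) (iv F239170)
theorem F246560 : act 2 n54952 = n54059 := d18_1 D54952 F242388 (iv F239175)
theorem F246561 : act 3 n54952 = n53341 := d24_1 D54952 (iv D53341) (iv D51500) (iv F230878) D53335
theorem F246562 : act 6 n54952 = n53524 := d31_2 (iv F239172) D54952 (iv D53524)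
theorem F246563 : act 7 n54952 = n53338 := d32_2 (iv F239173) D54952 (iv D53338)
theorem F246564 : act 8 n54952 = n53615 := d33_2 (iv F239174) D54952 (iv D53615)
def n54953 : Q := act 9 n53335
theorem D54953 : act 9 n53335 = n54953 := rfl
theorem F246565 : act 0 n54953 = n53408 := d8_1 D54953 (iv D53408) (iv F239169)
theorem F246566 : act 1 n54953 = n53535 := d16_1 D54953 (iv D53535) (iv F239170)
theorem F246567 : act 2 n54953 = n54109 := d23_1 D54953 (iv D54109) (iv F239175)
theorem F246568 : act 3 n54953 = n53336 := d29_1 D54953 (iv D53336) D53335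
theorem F246569 : act 5 n54953 = n54953 := d38_1 D54953 (iv D54953) F239171
theorem F246570 : act 6 n54953 = n53525 := d41_1 D54953 (iv D53525) (iv F239172)
theorem F246571 : act 7 n54953 = n53339 := d43_1 D54953 (iv D53339) (iv F239173)
def n54954 : Q := act 4 n53337
theorem D54954 : act 4 n53337 = n54954 := rfl
theorem F246572 : act 0 n54954 = n53410 := d3_1 D54954 (iv D53410) (iv F239184)
theorem F246573 : act 1 n54954 = n54048 := d11_1 D54954 F242350 (iv F239185)
theorem F246574 : act 2 n54954 = n53338 := d18_1 D54954 (iv D53338) D53337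
theorem F246575 : act 6 n54954 = n53958 := d31_2 (iv F239188) D54954 F241962
theorem F246576 : act 7 n54954 = n54059 := d32_2 (iv F239189) D54954 F242388
theorem F246577 : act 8 n54954 = n53617 := d33_2 (iv F239190) D54954 (iv D53617)
def n54955 : Q := act 9 n53337
theorem D54955 : act 9 n53337 = n54955 := rfl
theorem F246578 : act 0 n54955 = n53411 := d8_1 D54955 (iv D53411) (iv F239184)
theorem F246579 : act 1 n54955 = n54105 := d16_1 D54955 (iv D54105) (iv F239185)
theorem F246580 : act 2 n54955 = n53339 := d23_1 D54955 (iv D53339) D53337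
theorem F246581 : act 3 n54955 = n54955 := d29_1 D54955 (iv D54955) F239186
theorem F246582 : act 5 n54955 = n54955 := d38_1 D54955 (iv D54955) F239187
theorem F246583 : act 6 n54955 = n53974 := d41_1 D54955 (iv D53974) (iv F239188)
theorem F246584 : act 7 n54955 = n54109 := d43_1 D54955 (iv D54109) (iv F239189)
def n54956 : Q := act 5 n53338
theorem D54956 : act 5 n53338 = n54956 := rfl
theorem F246585 : act 0 n54956 = n53412 := d4_1 D54956 (iv D53412) (iv F239191)
theorem F246586 : act 1 n54956 = n54248 := d12_1 D54956 (iv D54248) (iv F239192)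
theorem F246587 : act 3 n54956 = n53346 := d25_1 D54956 (iv D53346) (iv F239193)
theorem F246588 : act 4 n54956 = n54956 := d30_1 D54956 (iv D54956) (iv D53338) F230884 D53338
theorem F246589 : act 6 n54956 = n53952 := d35_2 (iv F239194) D54956 (iv D53952) F233798 D52152
theorem F246590 : act 8 n54956 = n53619 := d37_2 (iv F239195) D54956 (iv D53619)
def n54957 : Q := act 9 n53338
theorem D54957 : act 9 n53338 = n54957 := rfl
theorem F246591 : act 0 n54957 = n53413 := d8_1 D54957 (iv D53413) (iv F239191)
theorem F246592 : act 1 n54957 = n54249 := d16_1 D54957 (iv D54249) (iv F239192)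
theorem F246593 : act 3 n54957 = n53347 := d29_1 D54957 (iv D53347) (iv F239193)
theorem F246594 : act 4 n54957 = n53339 := d34_1 D54957 (iv D53339) D53338
theorem F246595 : act 6 n54957 = n53961 := d41_1 D54957 (iv D53961) (iv F239194)
def n54958 : Q := act 8 n53339
theorem D54958 : act 8 n53339 = n54958 := rfl
theorem F246596 : act 0 n54958 = n53414 := d7_1 D54958 (iv D53414) (iv F239196)
theorem F246597 : act 1 n54958 = n54250 := d15_1 D54958 (iv D54250) (iv F239197)
theorem F246598 : act 3 n54958 = n54289 := d28_1 D54958 (iv D54289) F235115 (iv F230893) (iv F239198)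
theorem F246599 : act 5 n54958 = n54958 := d37_1 D54958 (iv D54958) F239199
theorem F246600 : act 6 n54958 = n53977 := d40_1 D54958 (iv D53977) (iv F239200)
theorem F246601 : act 9 n54958 = n53621 := d44_2 D53339 D54958 (iv D53621) (iv D51786) (iv F230886)
def n54959 : Q := act 4 n53340
theorem D54959 : act 4 n53340 = n54959 := rfl
theorem F246602 : act 0 n54959 = n53417 := d3_1 D54959 (iv D53417) (iv F239201)
theorem F246603 : act 1 n54959 = n53371 := d11_1 D54959 F239346 (iv F239202)
theorem F246604 : act 2 n54959 = n53341 := d18_1 D54959 (iv D53341) D53340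
theorem F246605 : act 5 n54959 = n53369 := d30_2 (iv F239204) D54959 (iv D53369) F230991 (iv F230917)
theorem F246606 : act 6 n54959 = n53447 := d31_2 F243827 D54959 (iv F243826)
theorem F246607 : act 7 n54959 = n53344 := d32_2 (iv F239205) D54959 (iv D53344)
theorem F246608 : act 8 n54959 = n53363 := d33_2 (iv F239206) D54959 (iv D53363)
theorem F246609 : act 3 n53753 = n54959 := d26_3 F246606 F239680 D53753
def n54960 : Q := act 9 n53340
theorem D54960 : act 9 n53340 = n54960 := rfl
theorem F246610 : act 0 n54960 = n53418 := d8_1 D54960 (iv D53418) (iv F239201)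
theorem F246611 : act 1 n54960 = n53381 := d16_1 D54960 (iv D53381) (iv F239202)
theorem F246612 : act 2 n54960 = n53342 := d23_1 D54960 (iv D53342) D53340
theorem F246613 : act 3 n54960 = n54960 := d29_1 D54960 (iv D54960) F239203
theorem F246614 : act 5 n54960 = n53349 := d38_1 D54960 (iv D53349) (iv F239204)
theorem F246615 : act 7 n54960 = n53345 := d43_1 D54960 (iv D53345) (iv F239205)
def n54961 : Q := act 9 n53341
theorem D54961 : act 9 n53341 = n54961 := rfl
theorem F246616 : act 0 n54961 = n53420 := d8_1 D54961 (iv D53420) (iv F239207)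
theorem F246617 : act 4 n54961 = n53342 := d34_1 D54961 (iv D53342) D53341
theorem F246618 : act 7 n54961 = n53347 := d43_1 D54961 (iv D53347) (iv F239208)
def n54962 : Q := act 8 n53342
theorem D54962 : act 8 n53342 = n54962 := rfl
theorem F246619 : act 0 n54962 = n53421 := d7_1 D54962 (iv D53421) (iv F239210)
theorem F246620 : act 5 n54962 = n53350 := d37_1 D54962 (iv D53350) (iv F239212)
theorem F246621 : act 7 n54962 = n53348 := d42_1 D54962 (iv D53348) (iv F239213)
theorem F246622 : act 9 n54962 = n53367 := d44_2 D53342 D54962 (iv D53367) (iv D51521) (iv F230897)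
def n54963 : Q := act 4 n53343
theorem D54963 : act 4 n53343 = n54963 := rfl
theorem F246623 : act 0 n54963 = n53451 := d3_1 D54963 F239694 (iv F239214)
theorem F246624 : act 1 n54963 = n53344 := d11_1 D54963 (iv D53344) D53343
theorem F246625 : act 2 n54963 = n53365 := d18_1 D54963 F239321 (iv F239215)
theorem F246626 : act 5 n54963 = n53363 := d30_2 (iv F239217) D54963 (iv D53363) F230981 F230930
theorem F246627 : act 6 n54963 = n53419 := d31_2 (iv F239218) D54963 F239572
theorem F246628 : act 7 n54963 = n53371 := d32_2 (iv F239219) D54963 F239346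
theorem F246629 : act 8 n54963 = n53369 := d33_2 (iv F239220) D54963 (iv D53369)
def n54964 : Q := act 9 n53343
theorem D54964 : act 9 n53343 = n54964 := rfl
theorem F246630 : act 0 n54964 = n53473 := d8_1 D54964 (iv D53473) (iv F239214)
theorem F246631 : act 1 n54964 = n53345 := d16_1 D54964 (iv D53345) D53343
theorem F246632 : act 2 n54964 = n53377 := d23_1 D54964 (iv D53377) (iv F239215)
theorem F246633 : act 3 n54964 = n54964 := d29_1 D54964 (iv D54964) F239216
theorem F246634 : act 5 n54964 = n53351 := d38_1 D54964 (iv D53351) (iv F239217)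
theorem F246635 : act 6 n54964 = n53432 := d41_1 D54964 (iv D53432) (iv F239218)
theorem F246636 : act 7 n54964 = n53381 := d43_1 D54964 (iv D53381) (iv F239219)
def n54965 : Q := act 3 n53344
theorem D54965 : act 3 n53344 = n54965 := rfl
theorem F246637 : act 0 n54965 = n53424 := d2_1 D54965 (iv D53424) (iv F239221)
theorem F246638 : act 4 n54965 = n54965 := d24_2 D53344 D54965 (iv D54965) (iv D53344) F230903
theorem F246639 : act 6 n54965 = n54176 := d26_2 (iv F239223) D54965 (iv D54176)
theorem F246640 : act 7 n54965 = n53753 := d27_2 F246607 D54965 F246609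
theorem F246641 : act 5 n53769 = n54965 := d36_3 F246640 F241076 D53769
def n54966 : Q := act 5 n53344
theorem D54966 : act 5 n53344 = n54966 := rfl
theorem F246642 : act 0 n54966 = n53425 := d4_1 D54966 (iv D53425) (iv F239221)
theorem F246643 : act 1 n54966 = n53363 := d12_1 D54966 (iv F246626) F246624
theorem F246644 : act 2 n54966 = n53346 := d19_1 D54966 (iv D53346) (iv F239222)
theorem F246645 : act 3 n54966 = n53769 := d25_1 D54966 F246641 (iv D54965)
theorem F246646 : act 4 n54966 = n53352 := d30_1 D54966 (iv D53352) (iv D51508) (iv F230904) D53344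
theorem F246647 : act 6 n54966 = n53469 := d35_2 (iv F239223) D54966 F239768 (iv F236357) F236356
theorem F246648 : act 7 n54966 = n53369 := d36_2 F246607 D54966 (iv F246605)
theorem F246649 : act 8 n54966 = n53371 := d37_2 (iv F239224) D54966 (iv D53371)
def n54967 : Q := act 9 n53344
theorem D54967 : act 9 n53344 = n54967 := rfl
theorem F246650 : act 0 n54967 = n53426 := d8_1 D54967 (iv D53426) (iv F239221)
theorem F246651 : act 2 n54967 = n53347 := d23_1 D54967 (iv D53347) (iv F239222)
theorem F246652 : act 4 n54967 = n53345 := d34_1 D54967 (iv D53345) D53344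
theorem F246653 : act 6 n54967 = n54177 := d41_1 D54967 (iv D54177) (iv F239223)
def n54968 : Q := act 8 n53345
theorem D54968 : act 8 n53345 = n54968 := rfl
theorem F246654 : act 0 n54968 = n53427 := d7_1 D54968 (iv D53427) (iv F239225)
theorem F246655 : act 2 n54968 = n53348 := d22_1 D54968 (iv D53348) (iv F239226)
theorem F246656 : act 5 n54968 = n53354 := d37_1 D54968 (iv D53354) (iv F239228)
theorem F246657 : act 6 n54968 = n54178 := d40_1 D54968 (iv D54178) (iv F239229)
theorem F246658 : act 9 n54968 = n53373 := d44_2 D53345 D54968 (iv D53373) (iv D51524) (iv F230906)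
def n54969 : Q := act 9 n53346
theorem D54969 : act 9 n53346 = n54969 := rfl
theorem F246659 : act 0 n54969 = n53429 := d8_1 D54969 (iv D53429) (iv F239230)
theorem F246660 : act 4 n54969 = n53355 := d34_1 D54969 (iv D53355) (iv F239231)
theorem F246661 : act 5 n54969 = n53347 := d38_1 D54969 (iv D53347) D53346
def n54970 : Q := act 8 n53347
theorem D54970 : act 8 n53347 = n54970 := rfl
theorem F246662 : act 0 n54970 = n53430 := d7_1 D54970 (iv D53430) (iv F239233)
theorem F246663 : act 4 n54970 = n53348 := d33_1 D54970 (iv D53348) (iv F239234)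
theorem F246664 : act 6 n54970 = n54179 := d40_1 D54970 (iv D54179) (iv F239235)
theorem F246665 : act 9 n54970 = n53375 := d44_2 D53347 D54970 (iv D53375) (iv D51526) (iv F230909)
def n54971 : Q := act 8 n53349
theorem D54971 : act 8 n53349 = n54971 := rfl
theorem F246666 : act 0 n54971 = n53431 := d7_1 D54971 (iv D53431) (iv F239240)
theorem F246667 : act 1 n54971 = n53382 := d15_1 D54971 (iv D53382) (iv F239241)
theorem F246668 : act 2 n54971 = n53350 := d22_1 D54971 (iv D53350) (iv F239242)
theorem F246669 : act 4 n54971 = n53380 := d33_1 D54971 (iv D53380) (iv F239244)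
theorem F246670 : act 6 n54971 = n53387 := d40_1 D54971 (iv D53387) (iv F239245)
theorem F246671 : act 7 n54971 = n53354 := d42_1 D54971 (iv D53354) (iv F239246)
theorem F246672 : act 9 n54971 = n53376 := d44_2 D53349 D54971 (iv D53376) (iv D51528) (iv F230920)
def n54972 : Q := act 8 n53351
theorem D54972 : act 8 n53351 = n54972 := rfl
theorem F246673 : act 0 n54972 = n53474 := d7_1 D54972 (iv D53474) (iv F239250)
theorem F246674 : act 1 n54972 = n53354 := d15_1 D54972 (iv D53354) (iv F239251)
theorem F246675 : act 2 n54972 = n53378 := d22_1 D54972 (iv D53378) (iv F239252)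
theorem F246676 : act 4 n54972 = n53376 := d33_1 D54972 (iv D53376) (iv F239254)
theorem F246677 : act 6 n54972 = n53357 := d40_1 D54972 (iv D53357) (iv F239255)
theorem F246678 : act 7 n54972 = n53382 := d42_1 D54972 (iv D53382) (iv F239256)
theorem F246679 : act 9 n54972 = n53380 := d44_2 D53351 D54972 (iv D53380) (iv D51533) (iv F230929)
def n54973 : Q := act 9 n53352
theorem D54973 : act 9 n53352 = n54973 := rfl
theorem F246680 : act 0 n54973 = n53435 := d8_1 D54973 (iv D53435) (iv F239257)
theorem F246681 : act 1 n54973 = n53364 := d16_1 D54973 (iv D53364) (iv F239258)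
theorem F246682 : act 2 n54973 = n53355 := d23_1 D54973 (iv D53355) (iv F239259)
theorem F246683 : act 3 n54973 = n53396 := d29_1 D54973 (iv D53396) (iv F239260)
theorem F246684 : act 5 n54973 = n53353 := d38_1 D54973 (iv D53353) D53352
theorem F246685 : act 6 n54973 = n53486 := d41_1 D54973 (iv D53486) (iv F239261)
theorem F246686 : act 7 n54973 = n53370 := d43_1 D54973 (iv D53370) (iv F239262)
def n54974 : Q := act 8 n53353
theorem D54974 : act 8 n53353 = n54974 := rfl
theorem F246687 : act 0 n54974 = n53436 := d7_1 D54974 (iv D53436) (iv F239264)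
theorem F246688 : act 1 n54974 = n53376 := d15_1 D54974 (iv D53376) (iv F239265)
theorem F246689 : act 2 n54974 = n53356 := d22_1 D54974 (iv D53356) (iv F239266)
theorem F246690 : act 3 n54974 = n54234 := d28_1 D54974 F242917 F234973 F231153 (iv F239267)
theorem F246691 : act 4 n54974 = n53354 := d33_1 D54974 (iv D53354) (iv F239268)
theorem F246692 : act 6 n54974 = n53358 := d40_1 D54974 (iv D53358) (iv F239269)
theorem F246693 : act 7 n54974 = n53380 := d42_1 D54974 (iv D53380) (iv F239270)
theorem F246694 : act 9 n54974 = n53382 := d44_2 D53353 D54974 (iv D53382) (iv D51535) (iv F230936)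
def n54975 : Q := act 3 n53354
theorem D54975 : act 3 n53354 = n54975 := rfl
theorem F246695 : act 0 n54975 = n53437 := d2_1 D54975 (iv D53437) (iv F239271)
theorem F246696 : act 6 n54975 = n53359 := d26_2 (iv F239273) D54975 (iv D53359)
theorem F246697 : act 8 n54975 = n54975 := d28_2 D53354 D54975 (iv D54975) (iv D53354) F230940
theorem F246698 : act 9 n54975 = n53383 := d29_2 (iv F239274) D54975 (iv D53383)
def n54976 : Q := act 8 n53355
theorem D54976 : act 8 n53355 = n54976 := rfl
theorem F246699 : act 0 n54976 = n53439 := d7_1 D54976 (iv D53439) (iv F239275)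
theorem F246700 : act 5 n54976 = n53356 := d37_1 D54976 (iv D53356) (iv F239277)
theorem F246701 : act 9 n54976 = n53384 := d44_2 D53355 D54976 (iv D53384) (iv D51537) (iv F230944)
def n54977 : Q := act 3 n53356
theorem D54977 : act 3 n53356 = n54977 := rfl
theorem F246702 : act 0 n54977 = n53440 := d2_1 D54977 (iv D53440) (iv F239278)
theorem F246703 : act 6 n54977 = n53360 := d26_2 (iv F239280) D54977 (iv D53360)
theorem F246704 : act 8 n54977 = n54977 := d28_2 D53356 D54977 (iv D54977) (iv D53356) F230946
theorem F246705 : act 9 n54977 = n53385 := d29_2 (iv F239281) D54977 (iv D53385)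
def n54978 : Q := act 3 n53357
theorem D54978 : act 3 n53357 = n54978 := rfl
theorem F246706 : act 0 n54978 = n54167 := d2_1 D54978 (iv D54167) (iv F239282)
theorem F246707 : act 1 n54978 = n53359 := d10_1 D54978 (iv D53359) (iv F239283)
theorem F246708 : act 2 n54978 = n53495 := d17_1 D54978 F239860 (iv F239005) F239006 (iv F239284)
theorem F246709 : act 4 n54978 = n53494 := d24_2 (iv F239285) D54978 F239858 (iv F239020) F239019
theorem F246710 : act 5 n54978 = n54181 := d25_2 (iv F239286) D54978 (iv D54181)
theorem F246711 : act 8 n54978 = n54978 := d28_2 D53357 D54978 (iv D54978) (iv D53357) F230955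
theorem F246712 : act 9 n54978 = n53388 := d29_2 (iv F239287) D54978 (iv D53388)
def n54979 : Q := act 4 n53359
theorem D54979 : act 4 n53359 = n54979 := rfl
theorem F246713 : act 0 n54979 = n53443 := d3_1 D54979 (iv D53443) (iv F239295)
theorem F246714 : act 1 n54979 = n53494 := d11_1 D54979 (iv F246709) F246707
theorem F246715 : act 2 n54979 = n54181 := d18_1 D54979 (iv F246125) F246124
theorem F246716 : act 3 n54979 = n53496 := d24_1 D54979 F239863 (iv F239291) F239292 D53359
theorem F246717 : act 5 n54979 = n53495 := d30_2 (iv F239296) D54979 (iv D53495) (iv F239855) F239854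
theorem F246718 : act 8 n54979 = n54979 := d33_2 F239297 D54979 (iv D54979)
theorem F246719 : act 9 n54979 = n53390 := d34_2 (iv F239298) D54979 (iv D53390)
def n54980 : Q := act 2 n53360
theorem D54980 : act 2 n53360 = n54980 := rfl
theorem F246720 : act 0 n54980 = n53446 := d1_1 D54980 (iv D53446) (iv F239299)
theorem F246721 : act 1 n54980 = n54154 := d9_1 D54980 F242712 (iv F242837) (iv F246340) F246339
theorem F246722 : act 3 n54980 = n54169 := d17_2 D53360 D54980 F242750 (iv F239291) F239290
theorem F246723 : act 4 n54980 = n54153 := d18_2 F246132 D54980 (iv F246131)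
theorem F246724 : act 5 n54980 = n54168 := d19_2 F243740 D54980 (iv F243738)
theorem F246725 : act 8 n54980 = n54980 := d22_2 F239300 D54980 (iv D54980)
theorem F246726 : act 9 n54980 = n53391 := d23_2 (iv F239301) D54980 (iv D53391)
def n54981 : Q := act 9 n53361
theorem D54981 : act 9 n53361 = n54981 := rfl
theorem F246727 : act 0 n54981 = n53448 := d8_1 D54981 (iv D53448) (iv F239302)
theorem F246728 : act 3 n54981 = n53638 := d29_1 D54981 (iv D53638) (iv F239303)
theorem F246729 : act 4 n54981 = n53362 := d34_1 D54981 (iv D53362) D53361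
theorem F246730 : act 6 n54981 = n53366 := d41_1 D54981 (iv D53366) (iv F239304)
theorem F246731 : act 7 n54981 = n54182 := d43_1 D54981 (iv D54182) (iv F239305)
def n54982 : Q := act 8 n53362
theorem D54982 : act 8 n53362 = n54982 := rfl
theorem F246732 : act 0 n54982 = n53449 := d7_1 D54982 (iv D53449) (iv F239306)
theorem F246733 : act 6 n54982 = n53367 := d40_1 D54982 (iv D53367) (iv F239308)
theorem F246734 : act 7 n54982 = n54183 := d42_1 D54982 (iv D54183) (iv F239309)
def n54983 : Q := act 9 n53363
theorem D54983 : act 9 n53363 = n54983 := rfl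
theorem F246735 : act 0 n54983 = n53452 := d8_1 D54983 (iv D53452) (iv F239310)
theorem F246736 : act 2 n54983 = n53366 := d23_1 D54983 (iv D53366) (iv F239311)
theorem F246737 : act 4 n54983 = n53364 := d34_1 D54983 (iv D53364) D53363
theorem F246738 : act 7 n54983 = n53372 := d43_1 D54983 (iv D53372) (iv F239312)
def n54984 : Q := act 8 n53364
theorem D54984 : act 8 n53364 = n54984 := rfl
theorem F246739 : act 0 n54984 = n53453 := d7_1 D54984 (iv D53453) (iv F239313)
theorem F246740 : act 2 n54984 = n53367 := d22_1 D54984 (iv D53367) (iv F239314)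
theorem F246741 : act 5 n54984 = n53376 := d37_1 D54984 (iv D53376) (iv F239316)
theorem F246742 : act 7 n54984 = n53373 := d42_1 D54984 (iv D53373) (iv F239317)
def n54985 : Q := act 6 n53365
theorem D54985 : act 6 n53365 = n54985 := rfl
theorem F246743 : act 0 n54985 = n53369 := d5_1 D54985 F239339 (iv F239318)
theorem F246744 : act 1 n54985 = n53456 := d13_1 D54985 F239714 (iv F239319)
theorem F246745 : act 2 n54985 = n53419 := d20_1 D54985 (iv F246627) F246625
theorem F246746 : act 3 n54985 = n53644 := d26_1 D54985 (iv D53644) (iv F239320)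
theorem F246747 : act 4 n54985 = n53368 := d31_1 D54985 F239334 (iv F239321)
theorem F246748 : act 5 n54985 = n53417 := d35_1 D54985 (iv F246259) F246258 F239304 D53365
theorem F246749 : act 7 n54985 = n53425 := d39_2 (iv F239322) D54985 (iv F243748) F243749 F236119
theorem F246750 : act 8 n54985 = n53451 := d40_2 F246520 D54985 (iv F246518)
def n54986 : Q := act 9 n53365
theorem D54986 : act 9 n53365 = n54986 := rfl
theorem F246751 : act 0 n54986 = n53454 := d8_1 D54986 (iv D53454) (iv F239318)
theorem F246752 : act 1 n54986 = n54210 := d16_1 D54986 (iv D54210) (iv F239319)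
theorem F246753 : act 3 n54986 = n53645 := d29_1 D54986 (iv D53645) (iv F239320)
theorem F246754 : act 4 n54986 = n53377 := d34_1 D54986 (iv D53377) (iv F239321)
theorem F246755 : act 5 n54986 = n53366 := d38_1 D54986 (iv D53366) D53365
theorem F246756 : act 7 n54986 = n53374 := d43_1 D54986 (iv D53374) (iv F239322)
def n54987 : Q := act 8 n53366
theorem D54987 : act 8 n53366 = n54987 := rfl
theorem F246757 : act 0 n54987 = n53455 := d7_1 D54987 (iv D53455) (iv F239323)
theorem F246758 : act 4 n54987 = n53367 := d33_1 D54987 (iv D53367) (iv F239325)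
theorem F246759 : act 7 n54987 = n53375 := d42_1 D54987 (iv D53375) (iv F239326)
def n54988 : Q := act 9 n53368
theorem D54988 : act 9 n53368 = n54988 := rfl
theorem F246760 : act 0 n54988 = n53370 := d8_1 D54988 (iv D53370) D53368
theorem F246761 : act 1 n54988 = n53457 := d16_1 D54988 (iv D53457) (iv F239330)
theorem F246762 : act 2 n54988 = n53432 := d23_1 D54988 (iv D53432) (iv F239331)
theorem F246763 : act 3 n54988 = n53392 := d29_1 D54988 (iv D53392) (iv F239332)
theorem F246764 : act 5 n54988 = n53379 := d38_1 D54988 (iv D53379) (iv F239333)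
theorem F246765 : act 6 n54988 = n53377 := d41_1 D54988 (iv D53377) (iv F239334)
theorem F246766 : act 7 n54988 = n53435 := d43_1 D54988 (iv D53435) (iv F239335)
def n54989 : Q := act 9 n53369
theorem D54989 : act 9 n53369 = n54989 := rfl
theorem F246767 : act 1 n54989 = n53372 := d16_1 D54989 (iv D53372) (iv F239337)
theorem F246768 : act 3 n54989 = n53770 := d29_1 D54989 (iv D53770) (iv F239338)
theorem F246769 : act 4 n54989 = n53370 := d34_1 D54989 (iv D53370) D53369
theorem F246770 : act 6 n54989 = n53454 := d41_1 D54989 (iv D53454) (iv F239339)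
def n54990 : Q := act 8 n53370
theorem D54990 : act 8 n53370 = n54990 := rfl
theorem F246771 : act 1 n54990 = n53373 := d15_1 D54990 (iv D53373) (iv F239340)
theorem F246772 : act 5 n54990 = n53380 := d37_1 D54990 (iv D53380) (iv F239342)
theorem F246773 : act 6 n54990 = n53476 := d40_1 D54990 (iv D53476) (iv F239343)
def n54991 : Q := act 9 n53371
theorem D54991 : act 9 n53371 = n54991 := rfl
theorem F246774 : act 0 n54991 = n53466 := d8_1 D54991 (iv D53466) (iv F239344)
theorem F246775 : act 2 n54991 = n53374 := d23_1 D54991 (iv D53374) (iv F239345)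
theorem F246776 : act 4 n54991 = n53381 := d34_1 D54991 (iv D53381) (iv F239346)
theorem F246777 : act 5 n54991 = n53372 := d38_1 D54991 (iv D53372) D53371
def n54992 : Q := act 8 n53372
theorem D54992 : act 8 n53372 = n54992 := rfl
theorem F246778 : act 0 n54992 = n53467 := d7_1 D54992 (iv D53467) (iv F239347)
theorem F246779 : act 2 n54992 = n53375 := d22_1 D54992 (iv D53375) (iv F239348)
theorem F246780 : act 4 n54992 = n53373 := d33_1 D54992 (iv D53373) (iv F239349)
theorem F246781 : act 6 n54992 = n54185 := d40_1 D54992 (iv D54185) (iv F239350)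
def n54993 : Q := act 3 n53373
theorem D54993 : act 3 n53373 = n54993 := rfl
theorem F246782 : act 0 n54993 = n53468 := d2_1 D54993 (iv D53468) (iv F239351)
theorem F246783 : act 5 n54993 = n53383 := d25_2 (iv F239353) D54993 (iv D53383)
theorem F246784 : act 6 n54993 = n54186 := d26_2 (iv F239354) D54993 (iv D54186)
theorem F246785 : act 8 n54993 = n53400 := d28_2 D53373 D54993 (iv D53400) (iv D51556) (iv F230998)
def n54994 : Q := act 8 n53374
theorem D54994 : act 8 n53374 = n54994 := rfl
theorem F246786 : act 0 n54994 = n53471 := d7_1 D54994 (iv D53471) (iv F239355)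
theorem F246787 : act 4 n54994 = n53384 := d33_1 D54994 (iv D53384) (iv F239357)
theorem F246788 : act 5 n54994 = n53375 := d37_1 D54994 (iv D53375) (iv F239358)
def n54995 : Q := act 3 n53375
theorem D54995 : act 3 n53375 = n54995 := rfl
theorem F246789 : act 0 n54995 = n53472 := d2_1 D54995 (iv D53472) (iv F239359)
theorem F246790 : act 6 n54995 = n54187 := d26_2 (iv F239361) D54995 (iv D54187)
theorem F246791 : act 8 n54995 = n53656 := d28_2 D53375 D54995 (iv D53656) (iv D51815) (iv F231005)
def n54996 : Q := act 8 n53377
theorem D54996 : act 8 n53377 = n54996 := rfl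
theorem F246792 : act 0 n54996 = n53476 := d7_1 D54996 (iv D53476) (iv F239366)
theorem F246793 : act 1 n54996 = n54211 := d15_1 D54996 (iv D54211) (iv F239367)
theorem F246794 : act 5 n54996 = n53378 := d37_1 D54996 (iv D53378) (iv F239369)
theorem F246795 : act 7 n54996 = n53384 := d42_1 D54996 (iv D53384) (iv F239370)
def n54997 : Q := act 8 n53379
theorem D54997 : act 8 n53379 = n54997 := rfl
theorem F246796 : act 0 n54997 = n53380 := d7_1 D54997 (iv D53380) (iv F239376)
theorem F246797 : act 1 n54997 = n53478 := d15_1 D54997 (iv D53478) (iv F239377)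
theorem F246798 : act 2 n54997 = n53433 := d22_1 D54997 (iv D53433) (iv F239378)
theorem F246799 : act 4 n54997 = n53431 := d33_1 D54997 (iv D53431) (iv F239380)
theorem F246800 : act 6 n54997 = n53386 := d40_1 D54997 (iv D53386) (iv F239381)
theorem F246801 : act 7 n54997 = n53436 := d42_1 D54997 (iv D53436) (iv F239382)
theorem F246802 : act 9 n54997 = n53474 := d44_2 D53379 D54997 (iv D53474) (iv D51617) (iv F231034)
def n54998 : Q := act 3 n53380
theorem D54998 : act 3 n53380 = n54998 := rfl
theorem F246803 : act 1 n54998 = n53383 := d10_1 D54998 (iv D53383) (iv F239383)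
theorem F246804 : act 6 n54998 = n53388 := d26_2 (iv F239384) D54998 (iv D53388)
theorem F246805 : act 7 n54998 = n54234 := d27_2 F246693 D54998 (iv F246690)
theorem F246806 : act 8 n54998 = n53402 := d28_2 D53380 D54998 (iv D53402) (iv D51561) (iv F231036)
def n54999 : Q := act 8 n53381
theorem D54999 : act 8 n53381 = n54999 := rfl
theorem F246807 : act 0 n54999 = n53483 := d7_1 D54999 (iv D53483) (iv F239385)
theorem F246808 : act 2 n54999 = n53384 := d22_1 D54999 (iv D53384) (iv F239386)
theorem F246809 : act 5 n54999 = n53382 := d37_1 D54999 (iv D53382) (iv F239388)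
def n55000 : Q := act 3 n53382
theorem D55000 : act 3 n53382 = n55000 := rfl
theorem F246810 : act 0 n55000 = n53484 := d2_1 D55000 (iv D53484) (iv F239389)
theorem F246811 : act 6 n55000 = n53389 := d26_2 (iv F239392) D55000 (iv D53389)
theorem F246812 : act 8 n55000 = n55000 := d28_2 D53382 D55000 (iv D55000) (iv D53382) F231043
theorem F246813 : act 9 n55000 = n54234 := d29_2 F246694 D55000 (iv F246690)
def n55001 : Q := act 4 n53383
theorem D55001 : act 4 n53383 = n55001 := rfl
theorem F246814 : act 0 n55001 = n53485 := d3_1 D55001 (iv D53485) (iv F239393)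
theorem F246815 : act 2 n55001 = n53477 := d18_1 D55001 (iv F246188) F246187
theorem F246816 : act 6 n55001 = n53390 := d31_2 (iv F239394) D55001 (iv D53390)
theorem F246817 : act 7 n55001 = n53489 := d32_2 F246429 D55001 (iv F246427)
theorem F246818 : act 8 n55001 = n53403 := d33_2 (iv F239395) D55001 (iv D53403)
def n55002 : Q := act 3 n53384
theorem D55002 : act 3 n53384 = n55002 := rfl
theorem F246819 : act 0 n55002 = n53488 := d2_1 D55002 (iv D53488) (iv F239396)
theorem F246820 : act 5 n55002 = n53385 := d25_2 (iv F239397) D55002 (iv D53385)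
theorem F246821 : act 8 n55002 = n53394 := d28_2 D53384 D55002 (iv D53394) (iv D51548) (iv F231050)
def n55003 : Q := act 2 n53385
theorem D55003 : act 2 n53385 = n55003 := rfl
theorem F246822 : act 0 n55003 = n53489 := d1_1 D55003 (iv D53489) (iv F239398)
theorem F246823 : act 1 n55003 = n54166 := d9_1 D55003 F242743 (iv F242907) F246445 F246440
theorem F246824 : act 4 n55003 = n53475 := d18_2 F246201 D55003 (iv F246200)
theorem F246825 : act 6 n55003 = n53391 := d20_2 (iv F239399) D55003 (iv D53391)
theorem F246826 : act 7 n55003 = n53485 := d21_2 F246416 D55003 (iv F246413)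
theorem F246827 : act 8 n55003 = n53395 := d22_2 (iv F239400) D55003 (iv D53395)
def n55004 : Q := act 2 n53388
theorem D55004 : act 2 n53388 = n55004 := rfl
theorem F246828 : act 0 n55004 = n53496 := d1_1 D55004 (iv F244091) F244090
theorem F246829 : act 1 n55004 = n54143 := d9_1 D55004 F242676 (iv F238770) F238771 (iv F239411)
theorem F246830 : act 3 n55004 = n53443 := d17_2 D53388 D55004 (iv F246326) F246327 F239162
theorem F246831 : act 5 n55004 = n53390 := d19_2 (iv F239412) D55004 F239419
theorem F246832 : act 8 n55004 = n53404 := d22_2 (iv F239413) D55004 (iv D53404)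
theorem F246833 : act 9 n55004 = n53495 := d23_2 F246712 D55004 (iv F246708)
theorem F246834 : act 4 n53442 = n55004 := d34_3 F246833 (iv D53495) (iv F239668)
def n55005 : Q := act 4 n53388
theorem D55005 : act 4 n53388 = n55005 := rfl
theorem F246835 : act 0 n55005 = n54169 := d3_1 D55005 (iv F244093) F244090
theorem F246836 : act 1 n55005 = n53390 := d11_1 D55005 (iv D53390) (iv F239411)
theorem F246837 : act 2 n55005 = n53442 := d18_1 D55005 F246834 (iv D55004)
theorem F246838 : act 3 n55005 = n53446 := d24_1 D55005 (iv F246347) F246346 F239409 D53388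
theorem F246839 : act 5 n55005 = n54143 := d30_2 (iv F239412) D55005 (iv D54143) (iv F238773) F238772
theorem F246840 : act 8 n55005 = n53405 := d33_2 (iv F239413) D55005 (iv D53405)
theorem F246841 : act 9 n55005 = n53494 := d34_2 F246712 D55005 (iv F246709)
def n55006 : Q := act 2 n53389
theorem D55006 : act 2 n53389 = n55006 := rfl
theorem F246842 : act 0 n55006 = n53494 := d1_1 D55006 (iv D53494) (iv F239414)
theorem F246843 : act 1 n55006 = n54168 := d9_1 D55006 (iv F243738) F243737 D54913 (iv F246351)
theorem F246844 : act 3 n55006 = n53391 := d17_2 D53389 D55006 (iv D53391) (iv D51544) (iv F231068)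
theorem F246845 : act 5 n55006 = n54154 := d19_2 (iv F239415) D55006 F242712
theorem F246846 : act 8 n55006 = n55006 := d22_2 F239416 D55006 (iv D55006)
theorem F246847 : act 9 n55006 = n54169 := d23_2 (iv F239417) D55006 F242750
theorem F246848 : act 4 n54167 = n55006 := d34_3 F246847 (iv F244093) F244096
def n55007 : Q := act 4 n53389
theorem D55007 : act 4 n53389 = n55007 := rfl
theorem F246849 : act 0 n55007 = n53495 := d3_1 D55007 (iv D53495) (iv F239414)
theorem F246850 : act 1 n55007 = n53446 := d11_1 D55007 (iv F246347) (iv F246351)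
theorem F246851 : act 2 n55007 = n54167 := d18_1 D55007 F246848 (iv D55006)
theorem F246852 : act 3 n55007 = n53390 := d24_1 D55007 (iv D53390) (iv D51543) (iv F231069) D53389
theorem F246853 : act 5 n55007 = n53443 := d30_2 (iv F239415) D55007 (iv D53443) F231308 D52425
theorem F246854 : act 8 n55007 = n55007 := d33_2 F239416 D55007 (iv D55007)
theorem F246855 : act 9 n55007 = n53496 := d34_2 (iv F239417) D55007 F239863
def n55008 : Q := act 8 n53392
theorem D55008 : act 8 n53392 = n55008 := rfl
theorem F246856 : act 0 n55008 = n53399 := d7_1 D55008 (iv D53399) (iv F239425)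
theorem F246857 : act 1 n55008 = n53511 := d15_1 D55008 (iv D53511) (iv F239426)
theorem F246858 : act 2 n55008 = n55008 := d22_1 D55008 (iv D55008) F239427
theorem F246859 : act 4 n55008 = n53668 := d33_1 D55008 (iv D53668) (iv F239428)
theorem F246860 : act 5 n55008 = n53401 := d37_1 D55008 (iv D53401) (iv F239429)
theorem F246861 : act 6 n55008 = n53393 := d40_1 D55008 (iv D53393) (iv F239430)
theorem F246862 : act 7 n55008 = n54144 := d42_1 D55008 (iv D54144) (iv F239431)
theorem F246863 : act 9 n55008 = n55008 := d44_2 D53392 D55008 (iv D55008) (iv D53392) F231081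
def n55009 : Q := act 2 n53394
theorem D55009 : act 2 n53394 = n55009 := rfl
theorem F246864 : act 0 n55009 = n53501 := d1_1 D55009 (iv D53501) (iv F239439)
theorem F246865 : act 1 n55009 = n54174 := d9_1 D55009 F242762 (iv F242947) (iv F246448) F246447
theorem F246866 : act 3 n55009 = n55009 := d17_2 D53394 D55009 (iv D55009) (iv D53394) F231096
theorem F246867 : act 5 n55009 = n53395 := d19_2 (iv F239440) D55009 (iv D53395)
theorem F246868 : act 7 n55009 = n53521 := d21_2 F246489 D55009 (iv F246487)
theorem F246869 : act 9 n55009 = n55009 := d23_2 F239441 D55009 (iv D55009)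
def n55010 : Q := act 4 n53394
theorem D55010 : act 4 n53394 = n55010 := rfl
theorem F246870 : act 0 n55010 = n53502 := d3_1 D55010 (iv D53502) (iv F239439)
theorem F246871 : act 3 n55010 = n53672 := d24_1 D55010 (iv D53672) (iv D51832) (iv F231097) D53394
theorem F246872 : act 9 n55010 = n55010 := d34_2 F239441 D55010 (iv D55010)
def n55011 : Q := act 3 n53399
theorem D55011 : act 3 n53399 = n55011 := rfl
theorem F246873 : act 1 n55011 = n53400 := d10_1 D55011 (iv D53400) (iv F239471)
theorem F246874 : act 5 n55011 = n53402 := d25_2 (iv F239474) D55011 (iv D53402)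
theorem F246875 : act 6 n55011 = n53499 := d26_2 (iv F239475) D55011 (iv D53499)
theorem F246876 : act 7 n55011 = n54247 := d27_2 (iv F239476) D55011 F242950
theorem F246877 : act 9 n55011 = n55011 := d29_2 F239477 D55011 (iv D55011)
def n55012 : Q := act 4 n53400
theorem D55012 : act 4 n53400 = n55012 := rfl
theorem F246878 : act 0 n55012 = n53519 := d3_1 D55012 (iv D53519) (iv F239478)
theorem F246879 : act 6 n55012 = n54189 := d31_2 (iv F239480) D55012 (iv D54189)
theorem F246880 : act 9 n55012 = n55012 := d34_2 F239481 D55012 (iv D55012)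
def n55013 : Q := act 2 n53402
theorem D55013 : act 2 n53402 = n55013 := rfl
theorem F246881 : act 0 n55013 = n53503 := d1_1 D55013 (iv F244116) F244115
theorem F246882 : act 1 n55013 = n54147 := d9_1 D55013 F242693 (iv F238804) F238805 (iv F239489)
theorem F246883 : act 3 n55013 = n55013 := d17_2 D53402 D55013 (iv D55013) (iv D53402) F231168
theorem F246884 : act 6 n55013 = n53404 := d20_2 (iv F239490) D55013 (iv D53404)
theorem F246885 : act 7 n55013 = n54175 := d21_2 (iv F239491) D55013 F242765
theorem F246886 : act 9 n55013 = n55013 := d23_2 F239492 D55013 (iv D55013)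
theorem F246887 : act 4 n54146 = n55013 := d32_3 F246885 (iv F244118) F244120
def n55014 : Q := act 4 n53402
theorem D55014 : act 4 n53402 = n55014 := rfl
theorem F246888 : act 0 n55014 = n54175 := d3_1 D55014 (iv F244118) F244115
theorem F246889 : act 1 n55014 = n53403 := d11_1 D55014 (iv D53403) (iv F239489)
theorem F246890 : act 2 n55014 = n54146 := d18_1 D55014 F246887 (iv D55013)
theorem F246891 : act 3 n55014 = n55014 := d24_1 D55014 (iv D55014) (iv D53402) F231169 D53402
theorem F246892 : act 6 n55014 = n53405 := d31_2 (iv F239490) D55014 (iv D53405)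
theorem F246893 : act 7 n55014 = n53503 := d32_2 (iv F239491) D55014 F239887
theorem F246894 : act 9 n55014 = n55014 := d34_2 F239492 D55014 (iv D55014)
def n55015 : Q := act 5 n53403
theorem D55015 : act 5 n53403 = n55015 := rfl
theorem F246895 : act 0 n55015 = n53521 := d4_1 D55015 (iv D53521) (iv F239493)
theorem F246896 : act 2 n55015 = n53499 := d19_1 D55015 F239874 (iv F239494)
theorem F246897 : act 3 n55015 = n55015 := d25_1 D55015 (iv D55015) F239495
theorem F246898 : act 7 n55015 = n53501 := d36_2 (iv F239497) D55015 F239882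
theorem F246899 : act 9 n55015 = n55015 := d38_2 F239498 D55015 (iv D55015)
def n55016 : Q := act 4 n53406
theorem D55016 : act 4 n53406 = n55016 := rfl
theorem F246900 : act 0 n55016 = n54059 := d3_1 D55016 F242388 (iv F239511)
theorem F246901 : act 2 n55016 = n53407 := d18_1 D55016 (iv D53407) D53406
theorem F246902 : act 6 n55016 = n54070 := d31_2 (iv F239514) D55016 F242421
theorem F246903 : act 7 n55016 = n53410 := d32_2 (iv F239515) D55016 (iv D53410)
theorem F246904 : act 8 n55016 = n53684 := d33_2 (iv F239516) D55016 (iv D53684)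
def n55017 : Q := act 9 n53406
theorem D55017 : act 9 n53406 = n55017 := rfl
theorem F246905 : act 0 n55017 = n54109 := d8_1 D55017 (iv D54109) (iv F239511)
theorem F246906 : act 2 n55017 = n53408 := d23_1 D55017 (iv D53408) D53406
theorem F246907 : act 3 n55017 = n55017 := d29_1 D55017 (iv D55017) F239512
theorem F246908 : act 5 n55017 = n55017 := d38_1 D55017 (iv D55017) F239513
theorem F246909 : act 6 n55017 = n54093 := d41_1 D55017 (iv D54093) (iv F239514)
theorem F246910 : act 7 n55017 = n53411 := d43_1 D55017 (iv D53411) (iv F239515)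
def n55018 : Q := act 5 n53407
theorem D55018 : act 5 n53407 = n55018 := rfl
theorem F246911 : act 1 n55018 = n54176 := d12_1 D55018 F242770 (iv F239517)
theorem F246912 : act 3 n55018 = n53419 := d25_1 D55018 (iv D53419) (iv F239518)
theorem F246913 : act 4 n55018 = n55018 := d30_1 D55018 (iv D55018) (iv D53407) F231190 D53407
theorem F246914 : act 7 n55018 = n53412 := d36_2 (iv F239520) D55018 (iv D53412)
theorem F246915 : act 8 n55018 = n53686 := d37_2 (iv F239521) D55018 (iv D53686)
def n55019 : Q := act 9 n53407
theorem D55019 : act 9 n53407 = n55019 := rfl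
theorem F246916 : act 1 n55019 = n54382 := d16_1 D55019 (iv D54382) (iv F239517)
theorem F246917 : act 3 n55019 = n53420 := d29_1 D55019 (iv D53420) (iv F239518)
theorem F246918 : act 4 n55019 = n53408 := d34_1 D55019 (iv D53408) D53407
theorem F246919 : act 6 n55019 = n54075 := d41_1 D55019 (iv D54075) (iv F239519)
theorem F246920 : act 7 n55019 = n53413 := d43_1 D55019 (iv D53413) (iv F239520)
def n55020 : Q := act 8 n53408
theorem D55020 : act 8 n53408 = n55020 := rfl
theorem F246921 : act 1 n55020 = n54416 := d15_1 D55020 (iv D54416) (iv F239522)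
theorem F246922 : act 5 n55020 = n55020 := d37_1 D55020 (iv D55020) F239524
theorem F246923 : act 6 n55020 = n54097 := d40_1 D55020 (iv D54097) (iv F239525)
theorem F246924 : act 7 n55020 = n53414 := d42_1 D55020 (iv D53414) (iv F239526)
theorem F246925 : act 9 n55020 = n53688 := d44_2 D53408 D55020 (iv D53688) (iv D51849) (iv F231193)
def n55021 : Q := act 4 n53409
theorem D55021 : act 4 n53409 = n55021 := rfl
theorem F246926 : act 1 n55021 = n53410 := d11_1 D55021 (iv D53410) D53409
theorem F246927 : act 2 n55021 = n53963 := d18_1 D55021 F241983 (iv F239527)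
theorem F246928 : act 6 n55021 = n54044 := d31_2 (iv F239530) D55021 F242335
theorem F246929 : act 8 n55021 = n53690 := d33_2 (iv F239531) D55021 (iv D53690)
def n55022 : Q := act 9 n53409
theorem D55022 : act 9 n53409 = n55022 := rfl
theorem F246930 : act 1 n55022 = n53411 := d16_1 D55022 (iv D53411) D53409
theorem F246931 : act 2 n55022 = n53990 := d23_1 D55022 (iv D53990) (iv F239527)
theorem F246932 : act 3 n55022 = n55022 := d29_1 D55022 (iv D55022) F239528
theorem F246933 : act 5 n55022 = n55022 := d38_1 D55022 (iv D55022) F239529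
theorem F246934 : act 6 n55022 = n54082 := d41_1 D55022 (iv D54082) (iv F239530)
def n55023 : Q := act 3 n53410
theorem D55023 : act 3 n53410 = n55023 := rfl
theorem F246935 : act 2 n55023 = n53424 := d17_1 D55023 (iv D53424) F231241 (iv F231205) (iv F239532)
theorem F246936 : act 4 n55023 = n55023 := d24_2 D53410 D55023 (iv D55023) (iv D53410) F231200
theorem F246937 : act 6 n55023 = n54047 := d26_2 (iv F239533) D55023 F242347
def n55024 : Q := act 5 n53410
theorem D55024 : act 5 n53410 = n55024 := rfl
theorem F246938 : act 2 n55024 = n53412 := d19_1 D55024 (iv D53412) (iv F239532)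
theorem F246939 : act 4 n55024 = n55024 := d30_1 D55024 (iv D55024) (iv D53410) F231201 D53410
theorem F246940 : act 6 n55024 = n54039 := d35_2 (iv F239533) D55024 (iv D54039) F234189 D52243
theorem F246941 : act 8 n55024 = n53693 := d37_2 (iv F239534) D55024 (iv D53693)
def n55025 : Q := act 9 n53410
theorem D55025 : act 9 n53410 = n55025 := rfl
theorem F246942 : act 2 n55025 = n53413 := d23_1 D55025 (iv D53413) (iv F239532)
theorem F246943 : act 4 n55025 = n53411 := d34_1 D55025 (iv D53411) D53410
theorem F246944 : act 6 n55025 = n54050 := d41_1 D55025 (iv D54050) (iv F239533)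
def n55026 : Q := act 8 n53411
theorem D55026 : act 8 n53411 = n55026 := rfl
theorem F246945 : act 2 n55026 = n53414 := d22_1 D55026 (iv D53414) (iv F239535)
theorem F246946 : act 5 n55026 = n55026 := d37_1 D55026 (iv D55026) F239537
theorem F246947 : act 6 n55026 = n54085 := d40_1 D55026 (iv D54085) (iv F239538)
theorem F246948 : act 9 n55026 = n53695 := d44_2 D53411 D55026 (iv D53695) (iv D51852) (iv F231203)
def n55027 : Q := act 9 n53412
theorem D55027 : act 9 n53412 = n55027 := rfl
theorem F246949 : act 1 n55027 = n54373 := d16_1 D55027 (iv D54373) (iv F239539)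
theorem F246950 : act 3 n55027 = n53429 := d29_1 D55027 (iv D53429) (iv F239540)
theorem F246951 : act 4 n55027 = n55027 := d34_1 D55027 (iv D55027) F239541
theorem F246952 : act 5 n55027 = n53413 := d38_1 D55027 (iv D53413) D53412
theorem F246953 : act 6 n55027 = n54042 := d41_1 D55027 (iv D54042) (iv F239542)
def n55028 : Q := act 8 n53413
theorem D55028 : act 8 n53413 = n55028 := rfl
theorem F246954 : act 1 n55028 = n54383 := d15_1 D55028 (iv D54383) (iv F239544)
theorem F246955 : act 4 n55028 = n53414 := d33_1 D55028 (iv D53414) (iv F239546)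
theorem F246956 : act 6 n55028 = n54053 := d40_1 D55028 (iv D54053) (iv F239547)
theorem F246957 : act 9 n55028 = n53698 := d44_2 D53413 D55028 (iv D53698) (iv D51854) (iv F231207)
def n55029 : Q := act 9 n53415
theorem D55029 : act 9 n53415 = n55029 := rfl
theorem F246958 : act 1 n55029 = n54222 := d16_1 D55029 (iv D54222) (iv F239552)
theorem F246959 : act 3 n55029 = n54075 := d29_1 D55029 (iv D54075) (iv F239553)
theorem F246960 : act 4 n55029 = n53416 := d34_1 D55029 (iv D53416) D53415
theorem F246961 : act 6 n55029 = n53420 := d41_1 D55029 (iv D53420) (iv F239554)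
theorem F246962 : act 7 n55029 = n53898 := d43_1 D55029 (iv D53898) (iv F239555)
def n55030 : Q := act 8 n53416
theorem D55030 : act 8 n53416 = n55030 := rfl
theorem F246963 : act 1 n55030 = n54232 := d15_1 D55030 F242915 (iv F239557)
theorem F246964 : act 3 n55030 = n54228 := d28_1 D55030 (iv D54228) F234883 (iv F231223) (iv F239558)
theorem F246965 : act 5 n55030 = n53911 := d37_1 D55030 (iv D53911) (iv F239559)
theorem F246966 : act 6 n55030 = n53421 := d40_1 D55030 (iv D53421) (iv F239560)
theorem F246967 : act 7 n55030 = n53907 := d42_1 D55030 (iv D53907) (iv F239561)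
theorem F246968 : act 9 n55030 = n53449 := d44_2 D53416 D55030 (iv D53449) (iv D51600) (iv F231216)
def n55031 : Q := act 3 n53417
theorem D55031 : act 3 n53417 = n55031 := rfl
theorem F246969 : act 0 n55031 = n53753 := d2_1 D55031 F246609 F246602
theorem F246970 : act 1 n55031 = n54148 := d10_1 D55031 (iv D54148) (iv F239562)
theorem F246971 : act 4 n55031 = n55031 := d24_2 D53417 D55031 (iv D55031) (iv D53417) F231225
theorem F246972 : act 5 n55031 = n53644 := d25_2 F246748 D55031 (iv F246746)
theorem F246973 : act 6 n55031 = n53637 := d26_2 F246259 D55031 F246262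
theorem F246974 : act 7 n55031 = n53424 := d27_2 (iv F239564) D55031 (iv D53424)
def n55032 : Q := act 9 n53417
theorem D55032 : act 9 n53417 = n55032 := rfl
theorem F246975 : act 1 n55032 = n54149 := d16_1 D55032 (iv D54149) (iv F239562)
theorem F246976 : act 2 n55032 = n53420 := d23_1 D55032 (iv D53420) (iv F239563)
theorem F246977 : act 4 n55032 = n53418 := d34_1 D55032 (iv D53418) D53417
theorem F246978 : act 7 n55032 = n53426 := d43_1 D55032 (iv D53426) (iv F239564)
def n55033 : Q := act 8 n53418
theorem D55033 : act 8 n53418 = n55033 := rfl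
theorem F246979 : act 1 n55033 = n54150 := d15_1 D55033 (iv D54150) (iv F239566)
theorem F246980 : act 2 n55033 = n53421 := d22_1 D55033 (iv D53421) (iv F239567)
theorem F246981 : act 5 n55033 = n53431 := d37_1 D55033 (iv D53431) (iv F239569)
theorem F246982 : act 7 n55033 = n53427 := d42_1 D55033 (iv D53427) (iv F239570)
theorem F246983 : act 9 n55033 = n53453 := d44_2 D53418 D55033 (iv D53453) (iv D51602) (iv F231228)
def n55034 : Q := act 9 n53419
theorem D55034 : act 9 n53419 = n55034 := rfl
theorem F246984 : act 1 n55034 = n54177 := d16_1 D55034 (iv D54177) (iv F239571)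
theorem F246985 : act 4 n55034 = n53432 := d34_1 D55034 (iv D53432) (iv F239572)
theorem F246986 : act 5 n55034 = n53420 := d38_1 D55034 (iv D53420) D53419
theorem F246987 : act 7 n55034 = n53429 := d43_1 D55034 (iv D53429) (iv F239573)
def n55035 : Q := act 8 n53420
theorem D55035 : act 8 n53420 = n55035 := rfl
theorem F246988 : act 4 n55035 = n53421 := d33_1 D55035 (iv D53421) (iv F239575)
theorem F246989 : act 7 n55035 = n53430 := d42_1 D55035 (iv D53430) (iv F239576)
theorem F246990 : act 9 n55035 = n53455 := d44_2 D53420 D55035 (iv D53455) (iv D51604) (iv F231230)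
def n55036 : Q := act 3 n53422
theorem D55036 : act 3 n53422 = n55036 := rfl
theorem F246991 : act 0 n55036 = n54156 := d2_1 D55036 F242718 (iv F239580)
theorem F246992 : act 1 n55036 = n53424 := d10_1 D55036 (iv D53424) (iv F239581)
theorem F246993 : act 2 n55036 = n53549 := d17_1 D55036 F240130 F231823 (iv F233353) (iv F239582)
theorem F246994 : act 4 n55036 = n55036 := d24_2 D53422 D55036 (iv D55036) (iv D53422) F231235
theorem F246995 : act 5 n55036 = n53547 := d25_2 (iv F239583) D55036 F240122
theorem F246996 : act 6 n55036 = n53565 := d26_2 (iv F239584) D55036 F240211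
theorem F246997 : act 7 n55036 = n54148 := d27_2 (iv F239585) D55036 (iv D54148)
def n55037 : Q := act 9 n53422
theorem D55037 : act 9 n53422 = n55037 := rfl
theorem F246998 : act 0 n55037 = n54159 := d8_1 D55037 (iv D54159) (iv F239580)
theorem F246999 : act 1 n55037 = n53426 := d16_1 D55037 (iv D53426) (iv F239581)
theorem F247000 : act 2 n55037 = n53878 := d23_1 D55037 (iv D53878) (iv F239582)
theorem F247001 : act 4 n55037 = n53423 := d34_1 D55037 (iv D53423) D53422
theorem F247002 : act 5 n55037 = n54139 := d38_1 D55037 (iv D54139) (iv F239583)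
theorem F247003 : act 6 n55037 = n54191 := d41_1 D55037 (iv D54191) (iv F239584)
theorem F247004 : act 7 n55037 = n54149 := d43_1 D55037 (iv D54149) (iv F239585)
def n55038 : Q := act 8 n53423
theorem D55038 : act 8 n53423 = n55038 := rfl
theorem F247005 : act 0 n55038 = n54164 := d7_1 D55038 (iv D54164) (iv F239587)
theorem F247006 : act 1 n55038 = n53427 := d15_1 D55038 (iv D53427) (iv F239588)
theorem F247007 : act 2 n55038 = n53879 := d22_1 D55038 (iv D53879) (iv F239589)
theorem F247008 : act 5 n55038 = n53434 := d37_1 D55038 (iv D53434) (iv F239591)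
theorem F247009 : act 6 n55038 = n54192 := d40_1 D55038 (iv D54192) (iv F239592)
theorem F247010 : act 7 n55038 = n54150 := d42_1 D55038 (iv D54150) (iv F239593)
theorem F247011 : act 9 n55038 = n53461 := d44_2 D53423 D55038 (iv D53461) (iv D51608) (iv F231239)
def n55039 : Q := act 8 n53424
theorem D55039 : act 8 n53424 = n55039 := rfl
theorem F247012 : act 3 n55039 = n53463 := d28_1 D55039 (iv D53463) (iv D51609) (iv F231243) D53424
theorem F247013 : act 4 n55039 = n55039 := d33_1 D55039 (iv D55039) F239594
theorem F247014 : act 6 n55039 = n54193 := d40_1 D55039 (iv D54193) (iv F239595)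
def n55040 : Q := act 9 n53424
theorem D55040 : act 9 n53424 = n55040 := rfl
theorem F247015 : act 3 n55040 = n53426 := d29_1 D55040 (iv D53426) D53424
theorem F247016 : act 4 n55040 = n55040 := d34_1 D55040 (iv D55040) F239594
theorem F247017 : act 6 n55040 = n54194 := d41_1 D55040 (iv D54194) (iv F239595)
def n55041 : Q := act 9 n53425
theorem D55041 : act 9 n53425 = n55041 := rfl
theorem F247018 : act 1 n55041 = n54139 := d16_1 D55041 (iv D54139) (iv F239596)
theorem F247019 : act 2 n55041 = n53429 := d23_1 D55041 (iv D53429) (iv F239597)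
theorem F247020 : act 4 n55041 = n53435 := d34_1 D55041 (iv D53435) (iv F239598)
theorem F247021 : act 5 n55041 = n53426 := d38_1 D55041 (iv D53426) D53425
def n55042 : Q := act 8 n53426
theorem D55042 : act 8 n53426 = n55042 := rfl
theorem F247022 : act 2 n55042 = n53430 := d22_1 D55042 (iv D53430) (iv F239600)
theorem F247023 : act 4 n55042 = n53427 := d33_1 D55042 (iv D53427) (iv F239601)
theorem F247024 : act 6 n55042 = n54195 := d40_1 D55042 (iv D54195) (iv F239602)
theorem F247025 : act 9 n55042 = n53467 := d44_2 D53426 D55042 (iv D53467) (iv D51611) (iv F231243)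
def n55043 : Q := act 3 n53427
theorem D55043 : act 3 n53427 = n55043 := rfl
theorem F247026 : act 5 n55043 = n53437 := d25_2 (iv F239604) D55043 (iv D53437)
theorem F247027 : act 6 n55043 = n54196 := d26_2 (iv F239605) D55043 (iv D54196)
theorem F247028 : act 8 n55043 = n55043 := d28_2 D53427 D55043 (iv D55043) (iv D53427) F231245
theorem F247029 : act 9 n55043 = n53468 := d29_2 (iv F239606) D55043 (iv D53468)
def n55044 : Q := act 9 n53428
theorem D55044 : act 9 n53428 = n55044 := rfl
theorem F247030 : act 1 n55044 = n54203 := d16_1 D55044 (iv D54203) (iv F239607)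
theorem F247031 : act 3 n55044 = n54042 := d29_1 D55044 (iv D54042) (iv F239608)
theorem F247032 : act 4 n55044 = n53438 := d34_1 D55044 (iv D53438) (iv F239609)
theorem F247033 : act 5 n55044 = n53885 := d38_1 D55044 (iv D53885) (iv F239610)
theorem F247034 : act 6 n55044 = n53429 := d41_1 D55044 (iv D53429) D53428
def n55045 : Q := act 8 n53429
theorem D55045 : act 8 n53429 = n55045 := rfl
theorem F247035 : act 4 n55045 = n53439 := d33_1 D55045 (iv D53439) (iv F239612)
theorem F247036 : act 5 n55045 = n53430 := d37_1 D55045 (iv D53430) (iv F239613)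
theorem F247037 : act 9 n55045 = n53471 := d44_2 D53429 D55045 (iv D53471) (iv D51614) (iv F231249)
def n55046 : Q := act 3 n53430
theorem D55046 : act 3 n53430 = n55046 := rfl
theorem F247038 : act 6 n55046 = n54197 := d26_2 (iv F239615) D55046 (iv D54197)
theorem F247039 : act 9 n55046 = n53472 := d29_2 (iv F239616) D55046 (iv D53472)
def n55047 : Q := act 3 n53431
theorem D55047 : act 3 n53431 = n55047 := rfl
theorem F247040 : act 1 n55047 = n54152 := d10_1 D55047 (iv D54152) (iv F239617)
theorem F247041 : act 6 n55047 = n54153 := d26_2 (iv F239619) D55047 (iv D54153)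
theorem F247042 : act 7 n55047 = n53437 := d27_2 (iv F239620) D55047 (iv D53437)
theorem F247043 : act 8 n55047 = n55047 := d28_2 D53431 D55047 (iv D55047) (iv D53431) F231257
theorem F247044 : act 9 n55047 = n53475 := d29_2 (iv F239621) D55047 (iv D53475)
def n55048 : Q := act 8 n53432
theorem D55048 : act 8 n53432 = n55048 := rfl
theorem F247045 : act 1 n55048 = n54178 := d15_1 D55048 (iv D54178) (iv F239622)
theorem F247046 : act 5 n55048 = n53433 := d37_1 D55048 (iv D53433) (iv F239624)
theorem F247047 : act 7 n55048 = n53439 := d42_1 D55048 (iv D53439) (iv F239625)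
theorem F247048 : act 9 n55048 = n53476 := d44_2 D53432 D55048 (iv D53476) (iv D51619) (iv F231263)
def n55049 : Q := act 3 n53433
theorem D55049 : act 3 n53433 = n55049 := rfl
theorem F247049 : act 1 n55049 = n54180 := d10_1 D55049 (iv D54180) (iv F239626)
theorem F247050 : act 6 n55049 = n54181 := d26_2 (iv F239628) D55049 (iv D54181)
theorem F247051 : act 7 n55049 = n53440 := d27_2 (iv F239629) D55049 (iv D53440)
theorem F247052 : act 8 n55049 = n55049 := d28_2 D53433 D55049 (iv D55049) (iv D53433) F231265
theorem F247053 : act 9 n55049 = n53477 := d29_2 (iv F239630) D55049 (iv D53477)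
def n55050 : Q := act 3 n53434
theorem D55050 : act 3 n53434 = n55050 := rfl
theorem F247054 : act 0 n55050 = n54165 := d2_1 D55050 (iv D54165) (iv F239631)
theorem F247055 : act 1 n55050 = n53437 := d10_1 D55050 (iv D53437) (iv F239632)
theorem F247056 : act 2 n55050 = n53906 := d17_1 D55050 (iv D53906) F233502 (iv F233364) (iv F239633)
theorem F247057 : act 6 n55050 = n53441 := d26_2 (iv F239635) D55050 (iv D53441)
theorem F247058 : act 7 n55050 = n54152 := d27_2 (iv F239636) D55050 (iv D54152)
theorem F247059 : act 8 n55050 = n55050 := d28_2 D53434 D55050 (iv D55050) (iv D53434) F231274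
theorem F247060 : act 9 n55050 = n53481 := d29_2 (iv F239637) D55050 (iv D53481)
def n55051 : Q := act 8 n53435
theorem D55051 : act 8 n53435 = n55051 := rfl
theorem F247061 : act 1 n55051 = n54140 := d15_1 D55051 (iv D54140) (iv F239638)
theorem F247062 : act 2 n55051 = n53439 := d22_1 D55051 (iv D53439) (iv F239639)
theorem F247063 : act 5 n55051 = n53436 := d37_1 D55051 (iv D53436) (iv F239641)
theorem F247064 : act 9 n55051 = n53483 := d44_2 D53435 D55051 (iv D53483) (iv D51626) (iv F231281)
def n55052 : Q := act 3 n53436
theorem D55052 : act 3 n53436 = n55052 := rfl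
theorem F247065 : act 0 n55052 = n54234 := d2_1 D55052 (iv F246690) F246687
theorem F247066 : act 1 n55052 = n54142 := d10_1 D55052 (iv D54142) (iv F239642)
theorem F247067 : act 6 n55052 = n53442 := d26_2 (iv F239645) D55052 (iv D53442)
theorem F247068 : act 8 n55052 = n54146 := d28_2 D53436 D55052 (iv D54146) (iv D52360) (iv F231284)
theorem F247069 : act 9 n55052 = n53484 := d29_2 (iv F239646) D55052 (iv D53484)
def n55053 : Q := act 4 n53437
theorem D55053 : act 4 n53437 = n55053 := rfl
theorem F247070 : act 6 n55053 = n53443 := d31_2 (iv F239647) D55053 (iv D53443)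
theorem F247071 : act 8 n55053 = n55053 := d33_2 F239648 D55053 (iv D55053)
theorem F247072 : act 9 n55053 = n53485 := d34_2 (iv F239649) D55053 (iv D53485)
def n55054 : Q := act 8 n53438
theorem D55054 : act 8 n53438 = n55054 := rfl
theorem F247073 : act 5 n55054 = n53444 := d37_1 D55054 (iv D53444) (iv F239651)
theorem F247074 : act 6 n55054 = n53439 := d40_1 D55054 (iv D53439) (iv F239652)
theorem F247075 : act 9 n55054 = n53487 := d44_2 D53438 D55054 (iv D53487) (iv D51630) (iv F231292)
def n55055 : Q := act 3 n53439
theorem D55055 : act 3 n53439 = n55055 := rfl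
theorem F247076 : act 5 n55055 = n53440 := d25_2 (iv F239653) D55055 (iv D53440)
theorem F247077 : act 8 n55055 = n55055 := d28_2 D53439 D55055 (iv D55055) (iv D53439) F231293
theorem F247078 : act 9 n55055 = n53488 := d29_2 (iv F239654) D55055 (iv D53488)
def n55056 : Q := act 2 n53440
theorem D55056 : act 2 n53440 = n55056 := rfl
theorem F247079 : act 6 n55056 = n53446 := d20_2 (iv F239655) D55056 (iv D53446)
theorem F247080 : act 8 n55056 = n55056 := d22_2 F239656 D55056 (iv D55056)
theorem F247081 : act 9 n55056 = n53489 := d23_2 (iv F239657) D55056 (iv D53489)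
def n55057 : Q := act 4 n53441
theorem D55057 : act 4 n53441 = n55057 := rfl
theorem F247082 : act 0 n55057 = n54168 := d3_1 D55057 (iv D54168) (iv F239658)
theorem F247083 : act 1 n55057 = n53443 := d11_1 D55057 (iv D53443) (iv F239659)
theorem F247084 : act 2 n55057 = n53445 := d18_1 D55057 F239674 (iv F239660)
theorem F247085 : act 3 n55057 = n54143 := d24_1 D55057 (iv D54143) (iv D52357) (iv F231301) D53441
theorem F247086 : act 5 n55057 = n53446 := d30_2 (iv F239661) D55057 (iv F246347) F246348 (iv D54200)
theorem F247087 : act 8 n55057 = n55057 := d33_2 F239662 D55057 (iv D55057)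
theorem F247088 : act 9 n55057 = n53491 := d34_2 (iv F239663) D55057 (iv D53491)
def n55058 : Q := act 3 n53444
theorem D55058 : act 3 n53444 = n55058 := rfl
theorem F247089 : act 4 n55058 = n53906 := d24_2 (iv F239671) D55058 (iv D53906) F233503 D52085
theorem F247090 : act 6 n55058 = n53445 := d26_2 (iv F239672) D55058 (iv D53445)
theorem F247091 : act 7 n55058 = n54199 := d27_2 F243854 D55058 F243856
theorem F247092 : act 8 n55058 = n55058 := d28_2 D53444 D55058 (iv D55058) (iv D53444) F231311
theorem F247093 : act 9 n55058 = n53498 := d29_2 (iv F239673) D55058 (iv D53498)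
def n55059 : Q := act 9 n53447
theorem D55059 : act 9 n53447 = n55059 := rfl
theorem F247094 : act 3 n55059 = n53754 := d29_1 D55059 (iv D53754) (iv F239680)
theorem F247095 : act 5 n55059 = n53448 := d38_1 D55059 (iv D53448) D53447
theorem F247096 : act 7 n55059 = n54203 := d43_1 D55059 (iv D54203) (iv F239681)
def n55060 : Q := act 8 n53448
theorem D55060 : act 8 n53448 = n55060 := rfl
theorem F247097 : act 4 n55060 = n53449 := d33_1 D55060 (iv D53449) (iv F239683)
theorem F247098 : act 6 n55060 = n53455 := d40_1 D55060 (iv D53455) (iv F239684)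
theorem F247099 : act 7 n55060 = n54204 := d42_1 D55060 (iv D54204) (iv F239685)
def n55061 : Q := act 5 n53450
theorem D55061 : act 5 n53450 = n55061 := rfl
theorem F247100 : act 1 n55061 = n54156 := d12_1 D55061 (iv D54156) (iv F239688)
theorem F247101 : act 2 n55061 = n53762 := d19_1 D55061 (iv D53762) (iv F239689)
theorem F247102 : act 3 n55061 = n53451 := d25_1 D55061 (iv D53451) D53450
theorem F247103 : act 4 n55061 = n55061 := d30_1 D55061 (iv D55061) F239690 F231513 (iv F239690)
theorem F247104 : act 7 n55061 = n53462 := d36_2 (iv F239691) D55061 (iv D53462)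
def n55062 : Q := act 8 n53450
theorem D55062 : act 8 n53450 = n55062 := rfl
theorem F247105 : act 0 n55062 = n54341 := d7_1 D55062 (iv F245335) F245329
theorem F247106 : act 1 n55062 = n54157 := d15_1 D55062 (iv D54157) (iv F239688)
theorem F247107 : act 2 n55062 = n53763 := d22_1 D55062 (iv D53763) (iv F239689)
theorem F247108 : act 4 n55062 = n53505 := d33_1 D55062 (iv D53505) (iv F239690)
theorem F247109 : act 6 n55062 = n54265 := d40_1 D55062 (iv F244896) F244895
theorem F247110 : act 7 n55062 = n53463 := d42_1 D55062 (iv D53463) (iv F239691)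
def n55063 : Q := act 9 n53450
theorem D55063 : act 9 n53450 = n55063 := rfl
theorem F247111 : act 1 n55063 = n54158 := d16_1 D55063 (iv D54158) (iv F239688)
theorem F247112 : act 2 n55063 = n53764 := d23_1 D55063 (iv D53764) (iv F239689)
theorem F247113 : act 3 n55063 = n53452 := d29_1 D55063 (iv D53452) D53450
theorem F247114 : act 4 n55063 = n53506 := d34_1 D55063 (iv D53506) (iv F239690)
theorem F247115 : act 7 n55063 = n53464 := d43_1 D55063 (iv D53464) (iv F239691)
def n55064 : Q := act 9 n53451
theorem D55064 : act 9 n53451 = n55064 := rfl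
theorem F247116 : act 1 n55064 = n54159 := d16_1 D55064 (iv D54159) (iv F239692)
theorem F247117 : act 2 n55064 = n53454 := d23_1 D55064 (iv D53454) (iv F239693)
theorem F247118 : act 4 n55064 = n53473 := d34_1 D55064 (iv D53473) (iv F239694)
theorem F247119 : act 5 n55064 = n53452 := d38_1 D55064 (iv D53452) D53451
theorem F247120 : act 7 n55064 = n53466 := d43_1 D55064 (iv D53466) (iv F239695)
def n55065 : Q := act 8 n53452
theorem D55065 : act 8 n53452 = n55065 := rfl
theorem F247121 : act 1 n55065 = n54160 := d15_1 D55065 (iv D54160) (iv F239696)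
theorem F247122 : act 2 n55065 = n53455 := d22_1 D55065 (iv D53455) (iv F239697)
theorem F247123 : act 4 n55065 = n53453 := d33_1 D55065 (iv D53453) (iv F239698)
theorem F247124 : act 7 n55065 = n53467 := d42_1 D55065 (iv D53467) (iv F239699)
def n55066 : Q := act 3 n53453
theorem D55066 : act 3 n53453 = n55066 := rfl
theorem F247125 : act 1 n55066 = n54161 := d10_1 D55066 (iv D54161) (iv F239700)
theorem F247126 : act 5 n55066 = n53475 := d25_2 (iv F239702) D55066 (iv D53475)
theorem F247127 : act 7 n55066 = n53468 := d27_2 (iv F239703) D55066 (iv D53468)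
theorem F247128 : act 8 n55066 = n53508 := d28_2 D53453 D55066 (iv D53508) (iv D51655) (iv F231330)
def n55067 : Q := act 8 n53454
theorem D55067 : act 8 n53454 = n55067 := rfl
theorem F247129 : act 1 n55067 = n54185 := d15_1 D55067 (iv D54185) (iv F239704)
theorem F247130 : act 4 n55067 = n53476 := d33_1 D55067 (iv D53476) (iv F239706)
theorem F247131 : act 5 n55067 = n53455 := d37_1 D55067 (iv D53455) (iv F239707)
theorem F247132 : act 7 n55067 = n53471 := d42_1 D55067 (iv D53471) (iv F239708)
def n55068 : Q := act 3 n53455
theorem D55068 : act 3 n53455 = n55068 := rfl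
theorem F247133 : act 7 n55068 = n53472 := d27_2 (iv F239710) D55068 (iv D53472)
theorem F247134 : act 8 n55068 = n53772 := d28_2 D53455 D55068 (iv D53772) (iv D51912) (iv F231337)
def n55069 : Q := act 3 n53456
theorem D55069 : act 3 n53456 = n55069 := rfl
theorem F247135 : act 0 n55069 = n53458 := d2_1 D55069 (iv D53458) (iv F239711)
theorem F247136 : act 1 n55069 = n53644 := d10_1 D55069 (iv F246746) F246744
theorem F247137 : act 2 n55069 = n53545 := d17_1 D55069 F240114 F231814 (iv F234591) (iv F239712)
theorem F247138 : act 4 n55069 = n53509 := d24_2 D53456 D55069 (iv D53509) (iv D51657) (iv F231343)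
theorem F247139 : act 5 n55069 = n54148 := d25_2 (iv F239713) D55069 (iv D54148)
theorem F247140 : act 6 n55069 = n53577 := d26_2 (iv F239714) D55069 F240276
theorem F247141 : act 7 n55069 = n53547 := d27_2 (iv F239715) D55069 F240122
def n55070 : Q := act 9 n53456
theorem D55070 : act 9 n53456 = n55070 := rfl
theorem F247142 : act 0 n55070 = n53460 := d8_1 D55070 (iv D53460) (iv F239711)
theorem F247143 : act 2 n55070 = n54137 := d23_1 D55070 (iv D54137) (iv F239712)
theorem F247144 : act 4 n55070 = n53457 := d34_1 D55070 (iv D53457) D53456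
theorem F247145 : act 5 n55070 = n54149 := d38_1 D55070 (iv D54149) (iv F239713)
theorem F247146 : act 6 n55070 = n54210 := d41_1 D55070 (iv D54210) (iv F239714)
theorem F247147 : act 7 n55070 = n54139 := d43_1 D55070 (iv D54139) (iv F239715)
def n55071 : Q := act 8 n53457
theorem D55071 : act 8 n53457 = n55071 := rfl
theorem F247148 : act 0 n55071 = n53461 := d7_1 D55071 (iv D53461) (iv F239717)
theorem F247149 : act 2 n55071 = n54138 := d22_1 D55071 (iv D54138) (iv F239718)
theorem F247150 : act 5 n55071 = n53478 := d37_1 D55071 (iv D53478) (iv F239720)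
theorem F247151 : act 6 n55071 = n54211 := d40_1 D55071 (iv D54211) (iv F239721)
theorem F247152 : act 7 n55071 = n54140 := d42_1 D55071 (iv D54140) (iv F239722)
theorem F247153 : act 9 n55071 = n54164 := d44_2 D53457 D55071 (iv D54164) (iv D52379) (iv F231347)
def n55072 : Q := act 5 n53458
theorem D55072 : act 5 n53458 = n55072 := rfl
theorem F247154 : act 0 n55072 = n54148 := d4_1 D55072 (iv F247139) F247135
theorem F247155 : act 1 n55072 = n53462 := d12_1 D55072 (iv D53462) (iv F239723)
theorem F247156 : act 2 n55072 = n54268 := d19_1 D55072 (iv D54268) (iv F239724)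
theorem F247157 : act 3 n55072 = n53459 := d25_1 D55072 (iv D53459) D53458
theorem F247158 : act 4 n55072 = n55072 := d30_1 D55072 (iv D55072) F239725 F231544 (iv F239725)
theorem F247159 : act 7 n55072 = n54156 := d36_2 (iv F239727) D55072 (iv D54156)
def n55073 : Q := act 8 n53458
theorem D55073 : act 8 n53458 = n55073 := rfl
theorem F247160 : act 1 n55073 = n53463 := d15_1 D55073 (iv D53463) (iv F239723)
theorem F247161 : act 2 n55073 = n53603 := d22_1 D55073 F240394 (iv F239724)
theorem F247162 : act 4 n55073 = n53512 := d33_1 D55073 (iv D53512) (iv F239725)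
theorem F247163 : act 6 n55073 = n53605 := d40_1 D55073 F240403 (iv F239726)
theorem F247164 : act 7 n55073 = n54157 := d42_1 D55073 (iv D54157) (iv F239727)
def n55074 : Q := act 9 n53458
theorem D55074 : act 9 n53458 = n55074 := rfl
theorem F247165 : act 1 n55074 = n53464 := d16_1 D55074 (iv D53464) (iv F239723)
theorem F247166 : act 2 n55074 = n54269 := d23_1 D55074 (iv D54269) (iv F239724)
theorem F247167 : act 3 n55074 = n53460 := d29_1 D55074 (iv D53460) D53458
theorem F247168 : act 4 n55074 = n53513 := d34_1 D55074 (iv D53513) (iv F239725)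
theorem F247169 : act 6 n55074 = n54212 := d41_1 D55074 (iv D54212) (iv F239726)
theorem F247170 : act 7 n55074 = n54158 := d43_1 D55074 (iv D54158) (iv F239727)
def n55075 : Q := act 9 n53459
theorem D55075 : act 9 n53459 = n55075 := rfl
theorem F247171 : act 0 n55075 = n54149 := d8_1 D55075 (iv D54149) (iv F239728)
theorem F247172 : act 1 n55075 = n53466 := d16_1 D55075 (iv D53466) (iv F239729)
theorem F247173 : act 2 n55075 = n54135 := d23_1 D55075 (iv D54135) (iv F239730)
theorem F247174 : act 4 n55075 = n53479 := d34_1 D55075 (iv D53479) (iv F239731)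
theorem F247175 : act 5 n55075 = n53460 := d38_1 D55075 (iv D53460) D53459
theorem F247176 : act 7 n55075 = n54159 := d43_1 D55075 (iv D54159) (iv F239732)
def n55076 : Q := act 8 n53460
theorem D55076 : act 8 n53460 = n55076 := rfl
theorem F247177 : act 1 n55076 = n53467 := d15_1 D55076 (iv D53467) (iv F239734)
theorem F247178 : act 2 n55076 = n54155 := d22_1 D55076 (iv D54155) (iv F239735)
theorem F247179 : act 4 n55076 = n53461 := d33_1 D55076 (iv D53461) (iv F239736)
theorem F247180 : act 6 n55076 = n54214 := d40_1 D55076 (iv D54214) (iv F239737)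
theorem F247181 : act 7 n55076 = n54160 := d42_1 D55076 (iv D54160) (iv F239738)
def n55077 : Q := act 3 n53461
theorem D55077 : act 3 n53461 = n55077 := rfl
theorem F247182 : act 1 n55077 = n53468 := d10_1 D55077 (iv D53468) (iv F239739)
theorem F247183 : act 2 n55077 = n54208 := d17_1 D55077 (iv D54208) F234837 (iv F234670) (iv F239740)
theorem F247184 : act 5 n55077 = n53481 := d25_2 (iv F239741) D55077 (iv D53481)
theorem F247185 : act 6 n55077 = n54215 := d26_2 (iv F239742) D55077 (iv D54215)
theorem F247186 : act 7 n55077 = n54161 := d27_2 (iv F239743) D55077 (iv D54161)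
theorem F247187 : act 8 n55077 = n53515 := d28_2 D53461 D55077 (iv D53515) (iv D51661) (iv F231354)
def n55078 : Q := act 8 n53462
theorem D55078 : act 8 n53462 = n55078 := rfl
theorem F247188 : act 2 n55078 = n53782 := d22_1 D55078 (iv D53782) (iv F239744)
theorem F247189 : act 4 n55078 = n55078 := d33_1 D55078 (iv D55078) F239746
theorem F247190 : act 5 n55078 = n53463 := d37_1 D55078 (iv D53463) D53462
def n55079 : Q := act 9 n53462
theorem D55079 : act 9 n53462 = n55079 := rfl
theorem F247191 : act 2 n55079 = n53783 := d23_1 D55079 (iv D53783) (iv F239744)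
theorem F247192 : act 3 n55079 = n53466 := d29_1 D55079 (iv D53466) (iv F239745)
theorem F247193 : act 4 n55079 = n55079 := d34_1 D55079 (iv D55079) F239746
theorem F247194 : act 5 n55079 = n53464 := d38_1 D55079 (iv D53464) D53462
def n55080 : Q := act 9 n53463
theorem D55080 : act 9 n53463 = n55080 := rfl
theorem F247195 : act 2 n55080 = n53784 := d23_1 D55080 (iv D53784) (iv F239747)
theorem F247196 : act 4 n55080 = n53516 := d34_1 D55080 (iv D53516) (iv F239748)
theorem F247197 : act 6 n55080 = n54216 := d41_1 D55080 (iv D54216) (iv F239749)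
def n55081 : Q := act 8 n53464
theorem D55081 : act 8 n53464 = n55081 := rfl
theorem F247198 : act 2 n55081 = n53785 := d22_1 D55081 (iv D53785) (iv F239750)
theorem F247199 : act 4 n55081 = n53517 := d33_1 D55081 (iv D53517) (iv F239752)
theorem F247200 : act 6 n55081 = n54217 := d40_1 D55081 (iv D54217) (iv F239753)
def n55082 : Q := act 9 n53465
theorem D55082 : act 9 n53465 = n55082 := rfl
theorem F247201 : act 2 n55082 = n53470 := d23_1 D55082 (iv D53470) (iv F239754)
theorem F247202 : act 4 n55082 = n53482 := d34_1 D55082 (iv D53482) (iv F239755)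
theorem F247203 : act 5 n55082 = n54218 := d38_1 D55082 (iv D54218) (iv F239756)
theorem F247204 : act 6 n55082 = n53466 := d41_1 D55082 (iv D53466) D53465
def n55083 : Q := act 8 n53466
theorem D55083 : act 8 n53466 = n55083 := rfl
theorem F247205 : act 2 n55083 = n53471 := d22_1 D55083 (iv D53471) (iv F239757)
theorem F247206 : act 4 n55083 = n53483 := d33_1 D55083 (iv D53483) (iv F239758)
theorem F247207 : act 5 n55083 = n53467 := d37_1 D55083 (iv D53467) (iv F239759)
def n55084 : Q := act 3 n53467
theorem D55084 : act 3 n53467 = n55084 := rfl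
theorem F247208 : act 6 n55084 = n54220 := d26_2 (iv F239762) D55084 (iv D54220)
def n55085 : Q := act 4 n53468
theorem D55085 : act 4 n53468 = n55085 := rfl
theorem F247209 : act 6 n55085 = n54221 := d31_2 (iv F239764) D55085 (iv D54221)
theorem F247210 : act 8 n55085 = n53519 := d33_2 (iv F239765) D55085 (iv D53519)
def n55086 : Q := act 9 n53469
theorem D55086 : act 9 n53469 = n55086 := rfl
theorem F247211 : act 3 n55086 = n53791 := d29_1 D55086 (iv D53791) (iv F239766)
theorem F247212 : act 4 n55086 = n53486 := d34_1 D55086 (iv D53486) (iv F239767)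
theorem F247213 : act 5 n55086 = n54222 := d38_1 D55086 (iv D54222) (iv F239768)
theorem F247214 : act 7 n55086 = n53470 := d43_1 D55086 (iv D53470) D53469
def n55087 : Q := act 8 n53470
theorem D55087 : act 8 n53470 = n55087 := rfl
theorem F247215 : act 4 n55087 = n53487 := d33_1 D55087 (iv D53487) (iv F239770)
theorem F247216 : act 5 n55087 = n54223 := d37_1 D55087 (iv D54223) (iv F239771)
theorem F247217 : act 6 n55087 = n53471 := d40_1 D55087 (iv D53471) (iv F239772)
def n55088 : Q := act 3 n53471
theorem D55088 : act 3 n53471 = n55088 := rfl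
theorem F247218 : act 5 n55088 = n53472 := d25_2 (iv F239774) D55088 (iv D53472)
theorem F247219 : act 8 n55088 = n53793 := d28_2 D53471 D55088 (iv D53793) (iv D51928) (iv F231372)
def n55089 : Q := act 2 n53472
theorem D55089 : act 2 n53472 = n55089 := rfl
theorem F247220 : act 6 n55089 = n54225 := d20_2 (iv F239775) D55089 (iv D54225)
theorem F247221 : act 8 n55089 = n53794 := d22_2 (iv F239776) D55089 (iv D53794)
def n55090 : Q := act 8 n53473
theorem D55090 : act 8 n53473 = n55090 := rfl
theorem F247222 : act 1 n55090 = n54164 := d15_1 D55090 (iv D54164) (iv F239777)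
theorem F247223 : act 2 n55090 = n53476 := d22_1 D55090 (iv D53476) (iv F239778)
theorem F247224 : act 5 n55090 = n53474 := d37_1 D55090 (iv D53474) (iv F239780)
theorem F247225 : act 7 n55090 = n53483 := d42_1 D55090 (iv D53483) (iv F239781)
def n55091 : Q := act 3 n53474
theorem D55091 : act 3 n53474 = n55091 := rfl
theorem F247226 : act 1 n55091 = n54165 := d10_1 D55091 (iv D54165) (iv F239782)
theorem F247227 : act 6 n55091 = n54167 := d26_2 (iv F239785) D55091 (iv D54167)
theorem F247228 : act 7 n55091 = n53484 := d27_2 (iv F239786) D55091 (iv D53484)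
theorem F247229 : act 8 n55091 = n55091 := d28_2 D53474 D55091 (iv D55091) (iv D53474) F231383
def n55092 : Q := act 3 n53476
theorem D55092 : act 3 n53476 = n55092 := rfl
theorem F247230 : act 1 n55092 = n54186 := d10_1 D55092 (iv D54186) (iv F239791)
theorem F247231 : act 5 n55092 = n53477 := d25_2 (iv F239792) D55092 (iv D53477)
theorem F247232 : act 7 n55092 = n53488 := d27_2 (iv F239793) D55092 (iv D53488)
theorem F247233 : act 8 n55092 = n53499 := d28_2 D53476 D55092 (iv D53499) (iv D51644) (iv F231392)
def n55093 : Q := act 8 n53479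
theorem D55093 : act 8 n53479 = n55093 := rfl
theorem F247234 : act 0 n55093 = n54150 := d7_1 D55093 (iv D54150) (iv F239804)
theorem F247235 : act 1 n55093 = n53483 := d15_1 D55093 (iv D53483) (iv F239805)
theorem F247236 : act 2 n55093 = n54136 := d22_1 D55093 (iv D54136) (iv F239806)
theorem F247237 : act 5 n55093 = n53480 := d37_1 D55093 (iv D53480) (iv F239808)
theorem F247238 : act 7 n55093 = n54164 := d42_1 D55093 (iv D54164) (iv F239809)
theorem F247239 : act 9 n55093 = n54140 := d44_2 D53479 D55093 (iv D54140) (iv D52352) (iv F231410)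
def n55094 : Q := act 3 n53480
theorem D55094 : act 3 n53480 = n55094 := rfl
theorem F247240 : act 0 n55094 = n54152 := d2_1 D55094 (iv D54152) (iv F239810)
theorem F247241 : act 1 n55094 = n53484 := d10_1 D55094 (iv D53484) (iv F239811)
theorem F247242 : act 2 n55094 = n54180 := d17_1 D55094 (iv D54180) F234740 (iv F234584) (iv F239812)
theorem F247243 : act 6 n55094 = n53490 := d26_2 (iv F239814) D55094 (iv D53490)
theorem F247244 : act 7 n55094 = n54165 := d27_2 (iv F239815) D55094 (iv D54165)
theorem F247245 : act 8 n55094 = n55094 := d28_2 D53480 D55094 (iv D55094) (iv D53480) F231414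
theorem F247246 : act 9 n55094 = n54142 := d29_2 (iv F239816) D55094 (iv D54142)
def n55095 : Q := act 4 n53481
theorem D55095 : act 4 n53481 = n55095 := rfl
theorem F247247 : act 1 n55095 = n53485 := d11_1 D55095 (iv D53485) (iv F239817)
theorem F247248 : act 2 n55095 = n53498 := d18_1 D55095 F239869 (iv F239818)
theorem F247249 : act 6 n55095 = n53491 := d31_2 (iv F239819) D55095 (iv D53491)
theorem F247250 : act 7 n55095 = n54166 := d32_2 (iv F239820) D55095 (iv D54166)
theorem F247251 : act 8 n55095 = n53504 := d33_2 (iv F239821) D55095 F239892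
def n55096 : Q := act 8 n53482
theorem D55096 : act 8 n53482 = n55096 := rfl
theorem F247252 : act 2 n55096 = n53487 := d22_1 D55096 (iv D53487) (iv F239822)
theorem F247253 : act 5 n55096 = n53492 := d37_1 D55096 (iv D53492) (iv F239824)
theorem F247254 : act 6 n55096 = n53483 := d40_1 D55096 (iv D53483) (iv F239825)
def n55097 : Q := act 3 n53483
theorem D55097 : act 3 n53483 = n55097 := rfl
theorem F247255 : act 5 n55097 = n53484 := d25_2 (iv F239827) D55097 (iv D53484)
theorem F247256 : act 8 n55097 = n55097 := d28_2 D53483 D55097 (iv D55097) (iv D53483) F231426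
def n55098 : Q := act 2 n53484
theorem D55098 : act 2 n53484 = n55098 := rfl
theorem F247257 : act 3 n55098 = n53489 := d17_2 D53484 D55098 (iv D53489) (iv D51632) (iv F231428)
theorem F247258 : act 6 n55098 = n53494 := d20_2 (iv F239828) D55098 (iv D53494)
theorem F247259 : act 8 n55098 = n55098 := d22_2 F239829 D55098 (iv D55098)
def n55099 : Q := act 4 n53484
theorem D55099 : act 4 n53484 = n55099 := rfl
theorem F247260 : act 3 n55099 = n53485 := d24_1 D55099 (iv D53485) (iv D51628) (iv F231429) D53484
theorem F247261 : act 6 n55099 = n53495 := d31_2 (iv F239828) D55099 (iv D53495)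
theorem F247262 : act 8 n55099 = n55099 := d33_2 F239829 D55099 (iv D55099)
def n55100 : Q := act 5 n53485
theorem D55100 : act 5 n53485 = n55100 := rfl
theorem F247263 : act 8 n55100 = n53521 := d37_2 (iv F239831) D55100 (iv D53521)
def n55101 : Q := act 8 n53486
theorem D55101 : act 8 n53486 = n55101 := rfl
theorem F247264 : act 3 n55101 = n54233 := d28_1 D55101 F242916 F234971 F231486 (iv F239832)
theorem F247265 : act 5 n55101 = n53497 := d37_1 D55101 (iv D53497) (iv F239833)
theorem F247266 : act 7 n55101 = n53487 := d42_1 D55101 (iv D53487) (iv F239834)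
def n55102 : Q := act 3 n53487
theorem D55102 : act 3 n53487 = n55102 := rfl
theorem F247267 : act 5 n55102 = n53498 := d25_2 (iv F239835) D55102 (iv D53498)
theorem F247268 : act 6 n55102 = n53488 := d26_2 (iv F239836) D55102 (iv D53488)
theorem F247269 : act 7 n55102 = n54233 := d27_2 F247266 D55102 (iv F247264)
theorem F247270 : act 8 n55102 = n53500 := d28_2 D53487 D55102 (iv D53500) (iv D51647) (iv F231435)
def n55103 : Q := act 2 n53488
theorem D55103 : act 2 n53488 = n55103 := rfl
theorem F247271 : act 5 n55103 = n53489 := d19_2 (iv F239837) D55103 (iv D53489)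
theorem F247272 : act 8 n55103 = n53501 := d22_2 (iv F239838) D55103 (iv D53501)
def n55104 : Q := act 4 n53488
theorem D55104 : act 4 n53488 = n55104 := rfl
theorem F247273 : act 8 n55104 = n53502 := d33_2 (iv F239838) D55104 (iv D53502)
def n55105 : Q := act 1 n53489
theorem D55105 : act 1 n53489 = n55105 := rfl
theorem F247274 : act 4 n55105 = n54234 := d11_2 F246427 D55105 F246431
theorem F247275 : act 6 n55105 = n53496 := d13_2 (iv F239839) D55105 F239862
theorem F247276 : act 8 n55105 = n53503 := d15_2 (iv F239840) D55105 (iv D53503)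
def n55106 : Q := act 4 n53490
theorem D55106 : act 4 n53490 = n55106 := rfl
theorem F247277 : act 0 n55106 = n54154 := d3_1 D55106 (iv D54154) (iv F239841)
theorem F247278 : act 1 n55106 = n53495 := d11_1 D55106 (iv D53495) (iv F239842)
theorem F247279 : act 2 n55106 = n53493 := d18_1 D55106 F239854 (iv F239843)
theorem F247280 : act 3 n55106 = n53491 := d24_1 D55106 (iv D53491) (iv D51635) (iv F231449) D53490
theorem F247281 : act 5 n55106 = n53494 := d30_2 F246126 D55106 (iv F246709) F246710 (iv F246125)
theorem F247282 : act 8 n55106 = n55106 := d33_2 F239844 D55106 (iv D55106)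
theorem F247283 : act 9 n55106 = n54143 := d34_2 (iv F239845) D55106 (iv D54143)
def n55107 : Q := act 3 n53492
theorem D55107 : act 3 n53492 = n55107 := rfl
theorem F247284 : act 0 n55107 = n54199 := d2_1 D55107 F243856 F243850
theorem F247285 : act 4 n55107 = n54180 := d24_2 (iv F239851) D55107 (iv D54180) (iv F236391) F236390
theorem F247286 : act 6 n55107 = n53493 := d26_2 (iv F239852) D55107 (iv D53493)
theorem F247287 : act 8 n55107 = n55107 := d28_2 D53492 D55107 (iv D55107) (iv D53492) F231455
theorem F247288 : act 9 n55107 = n54188 := d29_2 F243813 D55107 (iv F243809)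
def n55108 : Q := act 4 n53499
theorem D55108 : act 4 n53499 = n55108 := rfl
theorem F247289 : act 1 n55108 = n54189 := d11_1 D55108 (iv D54189) (iv F239873)
theorem F247290 : act 3 n55108 = n53834 := d24_1 D55108 (iv D53834) (iv D51971) (iv F231474) D53499
theorem F247291 : act 7 n55108 = n53502 := d32_2 (iv F239875) D55108 (iv D53502)
theorem F247292 : act 9 n55108 = n55108 := d34_2 F239876 D55108 (iv D55108)
def n55109 : Q := act 2 n53500
theorem D55109 : act 2 n53500 = n55109 := rfl
theorem F247293 : act 1 n55109 = n53521 := d9_1 D55109 (iv F246487) F246486 (iv F244099) F244098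
theorem F247294 : act 3 n55109 = n55109 := d17_2 D53500 D55109 (iv D55109) (iv D53500) F231487
theorem F247295 : act 5 n55109 = n53504 := d19_2 (iv F239877) D55109 (iv D53504)
theorem F247296 : act 6 n55109 = n53501 := d20_2 (iv F239878) D55109 (iv D53501)
theorem F247297 : act 7 n55109 = n54174 := d21_2 (iv F239879) D55109 F242762
theorem F247298 : act 9 n55109 = n55109 := d23_2 F239880 D55109 (iv D55109)
def n55110 : Q := act 4 n53500
theorem D55110 : act 4 n53500 = n55110 := rfl
theorem F247299 : act 3 n55110 = n53838 := d24_1 D55110 (iv D53838) (iv D51974) (iv F231488) D53500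
theorem F247300 : act 5 n55110 = n54237 := d30_2 (iv F239877) D55110 (iv D54237) F234932 (iv F231498)
theorem F247301 : act 6 n55110 = n53502 := d31_2 (iv F239878) D55110 (iv D53502)
theorem F247302 : act 7 n55110 = n54245 := d32_2 (iv F239879) D55110 F242945
theorem F247303 : act 9 n55110 = n55110 := d34_2 F239880 D55110 (iv D55110)
def n55111 : Q := act 1 n53501
theorem D55111 : act 1 n53501 = n55111 := rfl
theorem F247304 : act 3 n55111 = n55111 := d10_2 F239881 D55111 (iv D55111)
theorem F247305 : act 5 n55111 = n53503 := d12_2 (iv F239882) D55111 (iv D53503)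
theorem F247306 : act 6 n55111 = n53521 := d13_2 F247296 D55111 (iv F247293)
theorem F247307 : act 9 n55111 = n55111 := d16_2 F239883 D55111 (iv D55111)
def n55112 : Q := act 4 n53501
theorem D55112 : act 4 n53501 = n55112 := rfl
theorem F247308 : act 2 n55112 = n53502 := d18_1 D55112 (iv D53502) D53501
theorem F247309 : act 9 n55112 = n55112 := d34_2 F239883 D55112 (iv D55112)
def n55113 : Q := act 9 n53505
theorem D55113 : act 9 n53505 = n55113 := rfl
theorem F247310 : act 0 n55113 = n54443 := d8_1 D55113 (iv D54443) (iv F239896)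
theorem F247311 : act 1 n55113 = n54170 := d16_1 D55113 (iv D54170) (iv F239897)
theorem F247312 : act 2 n55113 = n53845 := d23_1 D55113 (iv D53845) (iv F239898)
theorem F247313 : act 3 n55113 = n55113 := d29_1 D55113 (iv D55113) F239899
theorem F247314 : act 5 n55113 = n55113 := d38_1 D55113 (iv D55113) F239900
theorem F247315 : act 6 n55113 = n54285 := d41_1 D55113 (iv D54285) (iv F239901)
theorem F247316 : act 7 n55113 = n53516 := d43_1 D55113 (iv D53516) (iv F239902)
def n55114 : Q := act 8 n53506
theorem D55114 : act 8 n53506 = n55114 := rfl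
theorem F247317 : act 1 n55114 = n54171 := d15_1 D55114 (iv D54171) (iv F239903)
theorem F247318 : act 2 n55114 = n53846 := d22_1 D55114 (iv D53846) (iv F239904)
theorem F247319 : act 5 n55114 = n55114 := d37_1 D55114 (iv D55114) F239906
theorem F247320 : act 7 n55114 = n53517 := d42_1 D55114 (iv D53517) (iv F239907)
def n55115 : Q := act 3 n53507
theorem D55115 : act 3 n53507 = n55115 := rfl
theorem F247321 : act 1 n55115 = n54172 := d10_1 D55115 (iv D54172) (iv F239908)
theorem F247322 : act 5 n55115 = n55115 := d25_2 F239911 D55115 (iv D55115)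
theorem F247323 : act 7 n55115 = n53518 := d27_2 (iv F239912) D55115 (iv D53518)
theorem F247324 : act 9 n55115 = n55115 := d29_2 F239913 D55115 (iv D55115)
def n55116 : Q := act 4 n53508
theorem D55116 : act 4 n53508 = n55116 := rfl
theorem F247325 : act 1 n55116 = n54173 := d11_1 D55116 (iv D54173) (iv F239914)
theorem F247326 : act 7 n55116 = n53519 := d32_2 (iv F239916) D55116 (iv D53519)
theorem F247327 : act 9 n55116 = n55116 := d34_2 F239917 D55116 (iv D55116)
def n55117 : Q := act 9 n53509
theorem D55117 : act 9 n53509 = n55117 := rfl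
theorem F247328 : act 0 n55117 = n53513 := d8_1 D55117 (iv D53513) (iv F239918)
theorem F247329 : act 1 n55117 = n53660 := d16_1 D55117 (iv D53660) (iv F239919)
theorem F247330 : act 2 n55117 = n53546 := d23_1 D55117 (iv D53546) (iv F239920)
theorem F247331 : act 3 n55117 = n53510 := d29_1 D55117 (iv D53510) D53509
theorem F247332 : act 5 n55117 = n55117 := d38_1 D55117 (iv D55117) F239921
theorem F247333 : act 6 n55117 = n53584 := d41_1 D55117 (iv D53584) (iv F239922)
theorem F247334 : act 7 n55117 = n53548 := d43_1 D55117 (iv D53548) (iv F239923)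
def n55118 : Q := act 8 n53510
theorem D55118 : act 8 n53510 = n55118 := rfl
theorem F247335 : act 0 n55118 = n53514 := d7_1 D55118 (iv D53514) (iv F239924)
theorem F247336 : act 1 n55118 = n53668 := d15_1 D55118 (iv D53668) (iv F239925)
theorem F247337 : act 2 n55118 = n53522 := d22_1 D55118 (iv D53522) (iv F239926)
theorem F247338 : act 4 n55118 = n53511 := d33_1 D55118 (iv D53511) (iv F239927)
theorem F247339 : act 5 n55118 = n55118 := d37_1 D55118 (iv D55118) F239928
theorem F247340 : act 6 n55118 = n53592 := d40_1 D55118 (iv D53592) (iv F239929)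
theorem F247341 : act 7 n55118 = n53590 := d42_1 D55118 (iv D53590) (iv F239930)
theorem F247342 : act 9 n55118 = n55118 := d44_2 D53510 D55118 (iv D55118) (iv D53510) F231536
def n55119 : Q := act 9 n53512
theorem D55119 : act 9 n53512 = n55119 := rfl
theorem F247343 : act 1 n55119 = n53516 := d16_1 D55119 (iv D53516) (iv F239937)
theorem F247344 : act 2 n55119 = n53604 := d23_1 D55119 (iv D53604) (iv F239938)
theorem F247345 : act 3 n55119 = n55119 := d29_1 D55119 (iv D55119) F239939
theorem F247346 : act 5 n55119 = n55119 := d38_1 D55119 (iv D55119) F239940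
theorem F247347 : act 6 n55119 = n53606 := d41_1 D55119 (iv D53606) (iv F239941)
theorem F247348 : act 7 n55119 = n54170 := d43_1 D55119 (iv D54170) (iv F239942)
def n55120 : Q := act 8 n53513
theorem D55120 : act 8 n53513 = n55120 := rfl
theorem F247349 : act 1 n55120 = n53517 := d15_1 D55120 (iv D53517) (iv F239943)
theorem F247350 : act 2 n55120 = n54293 := d22_1 D55120 (iv D54293) (iv F239944)
theorem F247351 : act 5 n55120 = n55120 := d37_1 D55120 (iv D55120) F239946
theorem F247352 : act 6 n55120 = n54239 := d40_1 D55120 (iv D54239) (iv F239947)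
theorem F247353 : act 7 n55120 = n54171 := d42_1 D55120 (iv D54171) (iv F239948)
def n55121 : Q := act 3 n53514
theorem D55121 : act 3 n53514 = n55121 := rfl
theorem F247354 : act 1 n55121 = n53518 := d10_1 D55121 (iv D53518) (iv F239949)
theorem F247355 : act 2 n55121 = n54111 := d17_1 D55121 (iv D54111) F234441 (iv F231615) (iv F239950)
theorem F247356 : act 5 n55121 = n55121 := d25_2 F239952 D55121 (iv D55121)
theorem F247357 : act 6 n55121 = n54240 := d26_2 (iv F239953) D55121 (iv D54240)
theorem F247358 : act 7 n55121 = n54172 := d27_2 (iv F239954) D55121 (iv D54172)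
theorem F247359 : act 9 n55121 = n55121 := d29_2 F239955 D55121 (iv D55121)
def n55122 : Q := act 4 n53515
theorem D55122 : act 4 n53515 = n55122 := rfl
theorem F247360 : act 1 n55122 = n53519 := d11_1 D55122 (iv D53519) (iv F239956)
theorem F247361 : act 2 n55122 = n54237 := d18_1 D55122 (iv D54237) (iv F239957)
theorem F247362 : act 6 n55122 = n54241 := d31_2 (iv F239959) D55122 (iv D54241)
theorem F247363 : act 7 n55122 = n54173 := d32_2 (iv F239960) D55122 (iv D54173)
theorem F247364 : act 9 n55122 = n55122 := d34_2 F239961 D55122 (iv D55122)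
def n55123 : Q := act 8 n53516
theorem D55123 : act 8 n53516 = n55123 := rfl
theorem F247365 : act 2 n55123 = n53850 := d22_1 D55123 (iv D53850) (iv F239962)
theorem F247366 : act 5 n55123 = n55123 := d37_1 D55123 (iv D55123) F239964
theorem F247367 : act 6 n55123 = n54242 := d40_1 D55123 (iv D54242) (iv F239965)
theorem F247368 : act 9 n55123 = n53517 := d44_2 D53516 D55123 (iv D53517) (iv D51663) D51662
def n55124 : Q := act 3 n53517
theorem D55124 : act 3 n53517 = n55124 := rfl
theorem F247369 : act 5 n55124 = n55124 := d25_2 F239967 D55124 (iv D55124)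
theorem F247370 : act 6 n55124 = n54243 := d26_2 (iv F239968) D55124 (iv D54243)
theorem F247371 : act 8 n55124 = n53518 := d28_2 D53517 D55124 (iv D53518) (iv D51664) (iv F231564)
def n55125 : Q := act 2 n53518
theorem D55125 : act 2 n53518 = n55125 := rfl
theorem F247372 : act 0 n55125 = n54440 := d1_1 D55125 (iv F245573) F245571
theorem F247373 : act 1 n55125 = n54103 := d9_1 D55125 F242542 (iv F242566) (iv F247355) F247354
theorem F247374 : act 3 n55125 = n53520 := d17_2 D53518 D55125 (iv D53520) (iv D51666) (iv F231567)
theorem F247375 : act 5 n55125 = n55125 := d19_2 F239969 D55125 (iv D55125)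
theorem F247376 : act 6 n55125 = n54104 := d20_2 (iv F239970) D55125 F242547
theorem F247377 : act 9 n55125 = n55125 := d23_2 F239971 D55125 (iv D55125)
def n55126 : Q := act 4 n53518
theorem D55126 : act 4 n53518 = n55126 := rfl
theorem F247378 : act 3 n55126 = n53519 := d24_1 D55126 (iv D53519) (iv D51665) (iv F231568) D53518
theorem F247379 : act 6 n55126 = n54244 := d31_2 (iv F239970) D55126 (iv D54244)
theorem F247380 : act 9 n55126 = n55126 := d34_2 F239971 D55126 (iv D55126)
def n55127 : Q := act 5 n53519
theorem D55127 : act 5 n53519 = n55127 := rfl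
theorem F247381 : act 4 n55127 = n53521 := d30_1 D55127 (iv D53521) (iv D51670) (iv F231572) D53519
theorem F247382 : act 9 n55127 = n55127 := d38_2 F239973 D55127 (iv D55127)
def n55128 : Q := act 9 n53524
theorem D55128 : act 9 n53524 = n55128 := rfl
theorem F247383 : act 0 n55128 = n54075 := d8_1 D55128 (iv D54075) (iv F240000)
theorem F247384 : act 1 n55128 = n53536 := d16_1 D55128 (iv D53536) (iv F240001)
theorem F247385 : act 4 n55128 = n53525 := d34_1 D55128 (iv D53525) D53524
theorem F247386 : act 7 n55128 = n53528 := d43_1 D55128 (iv D53528) (iv F240002)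
def n55129 : Q := act 8 n53525
theorem D55129 : act 8 n53525 = n55129 := rfl
theorem F247387 : act 0 n55129 = n54097 := d7_1 D55129 (iv D54097) (iv F240004)
theorem F247388 : act 1 n55129 = n53537 := d15_1 D55129 (iv D53537) (iv F240005)
theorem F247389 : act 3 n55129 = n53608 := d28_1 D55129 (iv D53608) F232115 (iv F231661) (iv F240006)
theorem F247390 : act 5 n55129 = n53531 := d37_1 D55129 (iv D53531) (iv F240007)
theorem F247391 : act 7 n55129 = n53529 := d42_1 D55129 (iv D53529) (iv F240008)
theorem F247392 : act 9 n55129 = n54267 := d44_2 D53525 D55129 (iv D54267) (iv D52513) (iv F231655)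
def n55130 : Q := act 9 n53526
theorem D55130 : act 9 n53526 = n55130 := rfl
theorem F247393 : act 0 n55130 = n54071 := d8_1 D55130 (iv D54071) (iv F240009)
theorem F247394 : act 1 n55130 = n53854 := d16_1 D55130 F241459 (iv F240010)
theorem F247395 : act 2 n55130 = n53528 := d23_1 D55130 (iv D53528) (iv F240011)
theorem F247396 : act 3 n55130 = n54371 := d29_1 D55130 (iv D54371) F240015
theorem F247397 : act 4 n55130 = n53527 := d34_1 D55130 (iv D53527) D53526
theorem F247398 : act 5 n55130 = n53849 := d38_1 D55130 F241436 (iv F240012)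
theorem F247399 : act 6 n55130 = n53968 := d41_1 D55130 (iv D53968) (iv F240013)
def n55131 : Q := act 8 n53527
theorem D55131 : act 8 n53527 = n55131 := rfl
theorem F247400 : act 0 n55131 = n54094 := d7_1 D55131 (iv D54094) (iv F240016)
theorem F247401 : act 1 n55131 = n53817 := d15_1 D55131 F241308 (iv F240017)
theorem F247402 : act 2 n55131 = n53529 := d22_1 D55131 (iv D53529) (iv F240018)
theorem F247403 : act 5 n55131 = n53532 := d37_1 D55131 (iv D53532) (iv F240020)
theorem F247404 : act 6 n55131 = n53979 := d40_1 D55131 (iv D53979) (iv F240021)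
theorem F247405 : act 9 n55131 = n53924 := d44_2 D53527 D55131 (iv D53924) (iv D52109) (iv F231667)
def n55132 : Q := act 8 n53528
theorem D55132 : act 8 n53528 = n55132 := rfl
theorem F247406 : act 0 n55132 = n54076 := d7_1 D55132 (iv D54076) (iv F240022)
theorem F247407 : act 1 n55132 = n53539 := d15_1 D55132 (iv D53539) (iv F240023)
theorem F247408 : act 4 n55132 = n53529 := d33_1 D55132 (iv D53529) (iv F240024)
theorem F247409 : act 6 n55132 = n53971 := d40_1 D55132 (iv D53971) (iv F240025)
theorem F247410 : act 9 n55132 = n54278 := d44_2 D53528 D55132 (iv D54278) (iv D52523) (iv F231671)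
def n55133 : Q := act 8 n53530
theorem D55133 : act 8 n53530 = n55133 := rfl
theorem F247411 : act 0 n55133 = n54101 := d7_1 D55133 (iv D54101) (iv F240032)
theorem F247412 : act 1 n55133 = n53803 := d15_1 D55133 F241253 (iv F240033)
theorem F247413 : act 2 n55133 = n53531 := d22_1 D55133 (iv D53531) (iv F240034)
theorem F247414 : act 4 n55133 = n53798 := d33_1 D55133 F241231 (iv F240036)
theorem F247415 : act 6 n55133 = n55133 := d40_1 D55133 (iv D55133) F240037
theorem F247416 : act 7 n55133 = n53532 := d42_1 D55133 (iv D53532) (iv F240038)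
theorem F247417 : act 9 n55133 = n53929 := d44_2 D53530 D55133 (iv D53929) (iv D52114) (iv F231683)
def n55134 : Q := act 3 n53532
theorem D55134 : act 3 n53532 = n55134 := rfl
theorem F247418 : act 0 n55134 = n54102 := d2_1 D55134 (iv D54102) (iv F240045)
theorem F247419 : act 1 n55134 = n53816 := d10_1 D55134 F241302 (iv F240046)
theorem F247420 : act 2 n55134 = n53614 := d17_1 D55134 (iv D53614) F232138 (iv F231697) (iv F240047)
theorem F247421 : act 4 n55134 = n53811 := d24_2 (iv F240048) D55134 (iv D53811) F232819 D51946
theorem F247422 : act 6 n55134 = n53533 := d26_2 (iv F240049) D55134 (iv D53533)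
theorem F247423 : act 8 n55134 = n55134 := d28_2 D53532 D55134 (iv D55134) (iv D53532) F231692
theorem F247424 : act 9 n55134 = n53932 := d29_2 (iv F240050) D55134 (iv D53932)
def n55135 : Q := act 9 n53534
theorem D55135 : act 9 n53534 = n55135 := rfl
theorem F247425 : act 0 n55135 = n53566 := d8_1 D55135 (iv D53566) (iv F240059)
theorem F247426 : act 2 n55135 = n54254 := d23_1 D55135 (iv D54254) (iv F240060)
theorem F247427 : act 4 n55135 = n53535 := d34_1 D55135 (iv D53535) D53534
theorem F247428 : act 6 n55135 = n53536 := d41_1 D55135 (iv D53536) (iv F240061)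
theorem F247429 : act 7 n55135 = n54249 := d43_1 D55135 (iv D54249) (iv F240062)
def n55136 : Q := act 8 n53535
theorem D55136 : act 8 n53535 = n55136 := rfl
theorem F247430 : act 0 n55136 = n53567 := d7_1 D55136 (iv D53567) (iv F240064)
theorem F247431 : act 2 n55136 = n54255 := d22_1 D55136 (iv D54255) (iv F240065)
theorem F247432 : act 3 n55136 = n53639 := d28_1 D55136 (iv D53639) F232250 (iv F231718) (iv F240066)
theorem F247433 : act 5 n55136 = n55136 := d37_1 D55136 (iv D55136) F240067
theorem F247434 : act 6 n55136 = n53537 := d40_1 D55136 (iv D53537) (iv F240068)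
theorem F247435 : act 7 n55136 = n54250 := d42_1 D55136 (iv D54250) (iv F240069)
theorem F247436 : act 9 n55136 = n54261 := d44_2 D53535 D55136 (iv D54261) (iv D52508) (iv F231712)
def n55137 : Q := act 8 n53536
theorem D55137 : act 8 n53536 = n55137 := rfl
theorem F247437 : act 0 n55137 = n53571 := d7_1 D55137 (iv D53571) (iv F240070)
theorem F247438 : act 2 n55137 = n54256 := d22_1 D55137 (iv D54256) (iv F240071)
theorem F247439 : act 4 n55137 = n53537 := d33_1 D55137 (iv D53537) (iv F240072)
theorem F247440 : act 7 n55137 = n53539 := d42_1 D55137 (iv D53539) (iv F240073)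
theorem F247441 : act 9 n55137 = n54271 := d44_2 D53536 D55137 (iv D54271) (iv D52516) (iv F231722)
def n55138 : Q := act 8 n53538
theorem D55138 : act 8 n53538 = n55138 := rfl
theorem F247442 : act 0 n55138 = n53579 := d7_1 D55138 (iv D53579) (iv F240080)
theorem F247443 : act 2 n55138 = n54257 := d22_1 D55138 (iv D54257) (iv F240081)
theorem F247444 : act 4 n55138 = n53541 := d33_1 D55138 (iv D53541) (iv F240082)
theorem F247445 : act 5 n55138 = n53539 := d37_1 D55138 (iv D53539) (iv F240083)
theorem F247446 : act 9 n55138 = n54281 := d44_2 D53538 D55138 (iv D54281) (iv D52527) (iv F231731)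
def n55139 : Q := act 3 n53539
theorem D55139 : act 3 n53539 = n55139 := rfl
theorem F247447 : act 0 n55139 = n53580 := d2_1 D55139 (iv D53580) (iv F240084)
theorem F247448 : act 4 n55139 = n53656 := d24_2 (iv F240086) D55139 (iv D53656) F232304 (iv F231738)
theorem F247449 : act 6 n55139 = n54252 := d26_2 (iv F240087) D55139 (iv D54252)
theorem F247450 : act 9 n55139 = n54282 := d29_2 (iv F240088) D55139 (iv D54282)
def n55140 : Q := act 3 n53540
theorem D55140 : act 3 n53540 = n55140 := rfl
theorem F247451 : act 0 n55140 = n53582 := d2_1 D55140 (iv D53582) (iv F240089)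
theorem F247452 : act 2 n55140 = n54469 := d17_1 D55140 (iv D54469) F235836 (iv F235022) (iv F240090)
theorem F247453 : act 4 n55140 = n53662 := d24_2 (iv F240091) D55140 (iv D53662) F232334 (iv F231750)
theorem F247454 : act 6 n55140 = n55140 := d26_2 F240092 D55140 (iv D55140)
theorem F247455 : act 7 n55140 = n53542 := d27_2 (iv F240093) D55140 (iv D53542)
theorem F247456 : act 8 n55140 = n53543 := d28_2 D53540 D55140 (iv D53543) (iv D51700) (iv F231744)
theorem F247457 : act 9 n55140 = n54288 := d29_2 (iv F240094) D55140 (iv D54288)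
def n55141 : Q := act 3 n53541
theorem D55141 : act 3 n53541 = n55141 := rfl
theorem F247458 : act 0 n55141 = n53586 := d2_1 D55141 (iv D53586) (iv F240095)
theorem F247459 : act 5 n55141 = n53542 := d25_2 (iv F240097) D55141 (iv D53542)
theorem F247460 : act 8 n55141 = n53544 := d28_2 D53541 D55141 (iv D53544) (iv D51701) (iv F231756)
theorem F247461 : act 9 n55141 = n54292 := d29_2 (iv F240098) D55141 (iv D54292)
def n55142 : Q := act 4 n53544
theorem D55142 : act 4 n53544 = n55142 := rfl
theorem F247462 : act 0 n55142 = n53595 := d3_1 D55142 (iv D53595) (iv F240110)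
theorem F247463 : act 5 n55142 = n53672 := d30_2 (iv F240111) D55142 (iv D53672) F232378 (iv F231778)
theorem F247464 : act 9 n55142 = n55142 := d34_2 F240112 D55142 (iv D55142)
def n55143 : Q := act 5 n53545
theorem D55143 : act 5 n53545 = n55143 := rfl
theorem F247465 : act 0 n55143 = n54268 := d4_1 D55143 (iv D54268) (iv F240113)
theorem F247466 : act 2 n55143 = n54148 := d19_1 D55143 (iv F247139) F247137
theorem F247467 : act 3 n55143 = n53554 := d25_1 D55143 (iv D53554) (iv F240114)
theorem F247468 : act 4 n55143 = n55143 := d30_1 D55143 (iv D55143) (iv D53545) F231782 D53545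
theorem F247469 : act 7 n55143 = n53549 := d36_2 (iv F240115) D55143 (iv D53549)
def n55144 : Q := act 9 n53545
theorem D55144 : act 9 n53545 = n55144 := rfl
theorem F247470 : act 0 n55144 = n54269 := d8_1 D55144 (iv D54269) (iv F240113)
theorem F247471 : act 3 n55144 = n53555 := d29_1 D55144 (iv D53555) (iv F240114)
theorem F247472 : act 4 n55144 = n53546 := d34_1 D55144 (iv D53546) D53545
theorem F247473 : act 7 n55144 = n53550 := d43_1 D55144 (iv D53550) (iv F240115)
def n55145 : Q := act 8 n53546
theorem D55145 : act 8 n53546 = n55145 := rfl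
theorem F247474 : act 0 n55145 = n54293 := d7_1 D55145 (iv D54293) (iv F240116)
theorem F247475 : act 3 n55145 = n53688 := d28_1 D55145 (iv D53688) F232472 (iv F231789) (iv F240117)
theorem F247476 : act 5 n55145 = n55145 := d37_1 D55145 (iv D55145) F240118
theorem F247477 : act 7 n55145 = n53551 := d42_1 D55145 (iv D53551) (iv F240119)
def n55146 : Q := act 9 n53547
theorem D55146 : act 9 n53547 = n55146 := rfl
theorem F247478 : act 0 n55146 = n54158 := d8_1 D55146 (iv D54158) (iv F240120)
theorem F247479 : act 2 n55146 = n53550 := d23_1 D55146 (iv D53550) (iv F240121)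
theorem F247480 : act 3 n55146 = n54139 := d29_1 D55146 (iv D54139) (iv F240122)
theorem F247481 : act 4 n55146 = n53548 := d34_1 D55146 (iv D53548) D53547
theorem F247482 : act 6 n55146 = n53570 := d41_1 D55146 (iv D53570) (iv F240123)
def n55147 : Q := act 8 n53548
theorem D55147 : act 8 n53548 = n55147 := rfl
theorem F247483 : act 0 n55147 = n54171 := d7_1 D55147 (iv D54171) (iv F240124)
theorem F247484 : act 2 n55147 = n53551 := d22_1 D55147 (iv D53551) (iv F240125)
theorem F247485 : act 5 n55147 = n55147 := d37_1 D55147 (iv D55147) F240127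
theorem F247486 : act 6 n55147 = n53581 := d40_1 D55147 (iv D53581) (iv F240128)
def n55148 : Q := act 9 n53549
theorem D55148 : act 9 n53549 = n55148 := rfl
theorem F247487 : act 0 n55148 = n54279 := d8_1 D55148 (iv D54279) (iv F240129)
theorem F247488 : act 3 n55148 = n53557 := d29_1 D55148 (iv D53557) (iv F240130)
theorem F247489 : act 4 n55148 = n55148 := d34_1 D55148 (iv D55148) F240131
theorem F247490 : act 5 n55148 = n53550 := d38_1 D55148 (iv D53550) D53549
def n55149 : Q := act 8 n53550
theorem D55149 : act 8 n53550 = n55149 := rfl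
theorem F247491 : act 0 n55149 = n54280 := d7_1 D55149 (iv D54280) (iv F240132)
theorem F247492 : act 4 n55149 = n53551 := d33_1 D55149 (iv D53551) (iv F240134)
theorem F247493 : act 6 n55149 = n54253 := d40_1 D55149 (iv D54253) (iv F240135)
def n55150 : Q := act 5 n53552
theorem D55150 : act 5 n53552 = n55150 := rfl
theorem F247494 : act 0 n55150 = n54259 := d4_1 D55150 (iv D54259) (iv F240140)
theorem F247495 : act 1 n55150 = n54193 := d12_1 D55150 F244178 F244172
theorem F247496 : act 2 n55150 = n54248 := d19_1 D55150 (iv D54248) (iv F240141)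
theorem F247497 : act 3 n55150 = n53605 := d25_1 D55150 (iv F244620) F244619
theorem F247498 : act 4 n55150 = n55150 := d30_1 D55150 (iv D55150) (iv D53552) F231803 D53552
theorem F247499 : act 7 n55150 = n53609 := d36_2 (iv F240143) D55150 F240416
theorem F247500 : act 8 n55150 = n53565 := d37_2 (iv F240144) D55150 (iv D53565)
def n55151 : Q := act 9 n53552
theorem D55151 : act 9 n53552 = n55151 := rfl
theorem F247501 : act 0 n55151 = n54260 := d8_1 D55151 (iv D54260) (iv F240140)
theorem F247502 : act 2 n55151 = n54249 := d23_1 D55151 (iv D54249) (iv F240141)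
theorem F247503 : act 4 n55151 = n53553 := d34_1 D55151 (iv D53553) D53552
theorem F247504 : act 6 n55151 = n53555 := d41_1 D55151 (iv D53555) (iv F240142)
theorem F247505 : act 7 n55151 = n54254 := d43_1 D55151 (iv D54254) (iv F240143)
def n55152 : Q := act 8 n53553
theorem D55152 : act 8 n53553 = n55152 := rfl
theorem F247506 : act 0 n55152 = n54261 := d7_1 D55152 (iv D54261) (iv F240145)
theorem F247507 : act 2 n55152 = n54250 := d22_1 D55152 (iv D54250) (iv F240146)
theorem F247508 : act 3 n55152 = n53703 := d28_1 D55152 (iv D53703) F232500 (iv F231812) (iv F240147)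
theorem F247509 : act 5 n55152 = n55152 := d37_1 D55152 (iv D55152) F240148
theorem F247510 : act 6 n55152 = n53556 := d40_1 D55152 (iv D53556) (iv F240149)
theorem F247511 : act 7 n55152 = n54255 := d42_1 D55152 (iv D54255) (iv F240150)
theorem F247512 : act 9 n55152 = n53567 := d44_2 D53553 D55152 (iv D53567) (iv D51723) (iv F231806)
def n55153 : Q := act 9 n53554
theorem D55153 : act 9 n53554 = n55153 := rfl
theorem F247513 : act 0 n55153 = n54270 := d8_1 D55153 (iv D54270) (iv F240151)
theorem F247514 : act 2 n55153 = n53940 := d23_1 D55153 (iv D53940) (iv F240152)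
theorem F247515 : act 4 n55153 = n53559 := d34_1 D55153 (iv D53559) (iv F240153)
theorem F247516 : act 5 n55153 = n53555 := d38_1 D55153 (iv D53555) D53554
theorem F247517 : act 7 n55153 = n53557 := d43_1 D55153 (iv D53557) (iv F240154)
def n55154 : Q := act 8 n53555
theorem D55154 : act 8 n53555 = n55154 := rfl
theorem F247518 : act 0 n55154 = n54271 := d7_1 D55154 (iv D54271) (iv F240156)
theorem F247519 : act 2 n55154 = n54251 := d22_1 D55154 (iv D54251) (iv F240157)
theorem F247520 : act 4 n55154 = n53556 := d33_1 D55154 (iv D53556) (iv F240158)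
theorem F247521 : act 7 n55154 = n53558 := d42_1 D55154 (iv D53558) (iv F240159)
theorem F247522 : act 9 n55154 = n53571 := d44_2 D53555 D55154 (iv D53571) (iv D51727) (iv F231816)
def n55155 : Q := act 8 n53557
theorem D55155 : act 8 n53557 = n55155 := rfl
theorem F247523 : act 0 n55155 = n54281 := d7_1 D55155 (iv D54281) (iv F240166)
theorem F247524 : act 2 n55155 = n53942 := d22_1 D55155 (iv D53942) (iv F240167)
theorem F247525 : act 4 n55155 = n53561 := d33_1 D55155 (iv D53561) (iv F240168)
theorem F247526 : act 5 n55155 = n53558 := d37_1 D55155 (iv D53558) (iv F240169)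
theorem F247527 : act 9 n55155 = n53579 := d44_2 D53557 D55155 (iv D53579) (iv D51736) (iv F231825)
def n55156 : Q := act 3 n53558
theorem D55156 : act 3 n53558 = n55156 := rfl
theorem F247528 : act 0 n55156 = n54282 := d2_1 D55156 (iv D54282) (iv F240170)
theorem F247529 : act 4 n55156 = n53724 := d24_2 (iv F240172) D55156 (iv D53724) F232557 (iv F231832)
theorem F247530 : act 6 n55156 = n54258 := d26_2 (iv F240173) D55156 (iv D54258)
theorem F247531 : act 9 n55156 = n53580 := d29_2 (iv F240174) D55156 (iv D53580)
def n55157 : Q := act 8 n53559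
theorem D55157 : act 8 n53559 = n55157 := rfl
theorem F247532 : act 0 n55157 = n54287 := d7_1 D55157 (iv D54287) (iv F240175)
theorem F247533 : act 2 n55157 = n53941 := d22_1 D55157 (iv D53941) (iv F240176)
theorem F247534 : act 5 n55157 = n53560 := d37_1 D55157 (iv D53560) (iv F240178)
theorem F247535 : act 7 n55157 = n53561 := d42_1 D55157 (iv D53561) (iv F240179)
theorem F247536 : act 9 n55157 = n53581 := d44_2 D53559 D55157 (iv D53581) (iv D51739) (iv F231840)
def n55158 : Q := act 3 n53560
theorem D55158 : act 3 n53560 = n55158 := rfl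
theorem F247537 : act 0 n55158 = n54288 := d2_1 D55158 (iv D54288) (iv F240180)
theorem F247538 : act 2 n55158 = n54086 := d17_1 D55158 (iv D54086) F234301 (iv F233752) (iv F240181)
theorem F247539 : act 4 n55158 = n53732 := d24_2 (iv F240182) D55158 (iv D53732) F232588 (iv F231849)
theorem F247540 : act 6 n55158 = n55158 := d26_2 F240183 D55158 (iv D55158)
theorem F247541 : act 7 n55158 = n53562 := d27_2 (iv F240184) D55158 (iv D53562)
theorem F247542 : act 8 n55158 = n55158 := d28_2 D53560 D55158 (iv D55158) (iv D53560) F231843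
theorem F247543 : act 9 n55158 = n53582 := d29_2 (iv F240185) D55158 (iv D53582)
def n55159 : Q := act 3 n53561
theorem D55159 : act 3 n53561 = n55159 := rfl
theorem F247544 : act 0 n55159 = n54292 := d2_1 D55159 (iv D54292) (iv F240186)
theorem F247545 : act 2 n55159 = n54095 := d17_1 D55159 (iv D54095) F234352 (iv F233748) (iv F240187)
theorem F247546 : act 5 n55159 = n53562 := d25_2 (iv F240188) D55159 (iv D53562)
theorem F247547 : act 8 n55159 = n55159 := d28_2 D53561 D55159 (iv D55159) (iv D53561) F231855
theorem F247548 : act 9 n55159 = n53586 := d29_2 (iv F240189) D55159 (iv D53586)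
def n55160 : Q := act 9 n53563
theorem D55160 : act 9 n53563 = n55160 := rfl
theorem F247549 : act 0 n55160 = n54254 := d8_1 D55160 (iv D54254) (iv F240196)
theorem F247550 : act 1 n55160 = n53620 := d16_1 D55160 (iv D53620) (iv F240197)
theorem F247551 : act 2 n55160 = n53566 := d23_1 D55160 (iv D53566) (iv F240198)
theorem F247552 : act 3 n55160 = n53600 := d29_1 D55160 (iv D53600) (iv F240199)
theorem F247553 : act 4 n55160 = n53564 := d34_1 D55160 (iv D53564) D53563
theorem F247554 : act 6 n55160 = n53568 := d41_1 D55160 (iv D53568) (iv F240200)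
theorem F247555 : act 7 n55160 = n54260 := d43_1 D55160 (iv D54260) (iv F240201)
def n55161 : Q := act 8 n53564
theorem D55161 : act 8 n53564 = n55161 := rfl
theorem F247556 : act 0 n55161 = n54255 := d7_1 D55161 (iv D54255) (iv F240203)
theorem F247557 : act 1 n55161 = n53621 := d15_1 D55161 (iv D53621) (iv F240204)
theorem F247558 : act 2 n55161 = n53567 := d22_1 D55161 (iv D53567) (iv F240205)
theorem F247559 : act 3 n55161 = n54294 := d28_1 D55161 (iv D54294) F235141 (iv F232061) (iv F240206)
theorem F247560 : act 5 n55161 = n55161 := d37_1 D55161 (iv D55161) F240207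
theorem F247561 : act 6 n55161 = n53569 := d40_1 D55161 (iv D53569) (iv F240208)
theorem F247562 : act 7 n55161 = n54261 := d42_1 D55161 (iv D54261) (iv F240209)
theorem F247563 : act 9 n55161 = n54250 := d44_2 D53564 D55161 (iv D54250) (iv D52493) (iv F231873)
def n55162 : Q := act 9 n53565
theorem D55162 : act 9 n53565 = n55162 := rfl
theorem F247564 : act 1 n55162 = n54194 := d16_1 D55162 (iv D54194) (iv F240210)
theorem F247565 : act 3 n55162 = n54191 := d29_1 D55162 (iv D54191) (iv F240211)
theorem F247566 : act 4 n55162 = n55162 := d34_1 D55162 (iv D55162) F240212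
theorem F247567 : act 5 n55162 = n53566 := d38_1 D55162 (iv D53566) D53565
theorem F247568 : act 7 n55162 = n54263 := d43_1 D55162 (iv D54263) (iv F240213)
def n55163 : Q := act 8 n53566
theorem D55163 : act 8 n53566 = n55163 := rfl
theorem F247569 : act 4 n55163 = n53567 := d33_1 D55163 (iv D53567) (iv F240214)
theorem F247570 : act 6 n55163 = n53571 := d40_1 D55163 (iv D53571) (iv F240215)
theorem F247571 : act 7 n55163 = n54264 := d42_1 D55163 (iv D54264) (iv F240216)
def n55164 : Q := act 8 n53568
theorem D55164 : act 8 n53568 = n55164 := rfl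
theorem F247572 : act 0 n55164 = n54256 := d7_1 D55164 (iv D54256) (iv F240221)
theorem F247573 : act 1 n55164 = n54297 := d15_1 D55164 (iv D54297) (iv F240222)
theorem F247574 : act 2 n55164 = n53571 := d22_1 D55164 (iv D53571) (iv F240223)
theorem F247575 : act 4 n55164 = n53569 := d33_1 D55164 (iv D53569) (iv F240225)
theorem F247576 : act 5 n55164 = n54253 := d37_1 D55164 (iv D54253) (iv F240226)
theorem F247577 : act 7 n55164 = n53576 := d42_1 D55164 (iv D53576) (iv F240227)
theorem F247578 : act 9 n55164 = n54251 := d44_2 D53568 D55164 (iv D54251) (iv D52494) (iv F231887)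
def n55165 : Q := act 8 n53570
theorem D55165 : act 8 n53570 = n55165 := rfl
theorem F247579 : act 2 n55165 = n54253 := d22_1 D55165 (iv D54253) (iv F240235)
theorem F247580 : act 4 n55165 = n53581 := d33_1 D55165 (iv D53581) (iv F240236)
theorem F247581 : act 5 n55165 = n53571 := d37_1 D55165 (iv D53571) (iv F240237)
theorem F247582 : act 7 n55165 = n53579 := d42_1 D55165 (iv D53579) (iv F240238)
def n55166 : Q := act 3 n53571
theorem D55166 : act 3 n53571 = n55166 := rfl
theorem F247583 : act 4 n55166 = n53772 := d24_2 (iv F240239) D55166 (iv D53772) F232712 (iv F231899)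
theorem F247584 : act 7 n55166 = n53580 := d27_2 (iv F240240) D55166 (iv D53580)
def n55167 : Q := act 8 n53572
theorem D55167 : act 8 n53572 = n55167 := rfl
theorem F247585 : act 0 n55167 = n54029 := d7_1 D55167 (iv D54029) (iv F240241)
theorem F247586 : act 1 n55167 = n53576 := d15_1 D55167 (iv D53576) (iv F240242)
theorem F247587 : act 4 n55167 = n53573 := d33_1 D55167 (iv D53573) (iv F240244)
theorem F247588 : act 5 n55167 = n53946 := d37_1 D55167 (iv D53946) (iv F240245)
theorem F247589 : act 6 n55167 = n54278 := d40_1 D55167 (iv D54278) (iv F240246)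
theorem F247590 : act 7 n55167 = n54297 := d42_1 D55167 (iv D54297) (iv F240247)
theorem F247591 : act 9 n55167 = n53971 := d44_2 D53572 D55167 (iv D53971) (iv D52161) (iv F231908)
def n55168 : Q := act 8 n53574
theorem D55168 : act 8 n53574 = n55168 := rfl
theorem F247592 : act 0 n55168 = n54253 := d7_1 D55168 (iv D54253) (iv F240255)
theorem F247593 : act 1 n55168 = n54298 := d15_1 D55168 (iv D54298) (iv F240256)
theorem F247594 : act 4 n55168 = n53597 := d33_1 D55168 (iv D53597) (iv F240258)
theorem F247595 : act 5 n55168 = n54256 := d37_1 D55168 (iv D54256) (iv F240259)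
theorem F247596 : act 6 n55168 = n54280 := d40_1 D55168 (iv D54280) (iv F240260)
theorem F247597 : act 7 n55168 = n54257 := d42_1 D55168 (iv D54257) (iv F240261)
theorem F247598 : act 9 n55168 = n54273 := d44_2 D53574 D55168 (iv D54273) (iv D52519) F231921
def n55169 : Q := act 8 n53575
theorem D55169 : act 8 n53575 = n55169 := rfl
theorem F247599 : act 0 n55169 = n54257 := d7_1 D55169 (iv D54257) (iv F240262)
theorem F247600 : act 1 n55169 = n53946 := d15_1 D55169 (iv D53946) (iv F240263)
theorem F247601 : act 2 n55169 = n53579 := d22_1 D55169 (iv D53579) (iv F240264)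
theorem F247602 : act 4 n55169 = n53583 := d33_1 D55169 (iv D53583) (iv F240266)
theorem F247603 : act 5 n55169 = n53576 := d37_1 D55169 (iv D53576) (iv F240267)
theorem F247604 : act 7 n55169 = n54253 := d42_1 D55169 (iv D54253) (iv F240268)
theorem F247605 : act 9 n55169 = n53942 := d44_2 D53575 D55169 (iv D53942) (iv D52135) (iv F231928)
def n55170 : Q := act 3 n53576
theorem D55170 : act 3 n53576 = n55170 := rfl
theorem F247606 : act 0 n55170 = n54258 := d2_1 D55170 (iv D54258) (iv F240269)
theorem F247607 : act 4 n55170 = n54299 := d24_2 (iv F240271) D55170 (iv D54299) F235164 (iv F231935)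
theorem F247608 : act 6 n55170 = n54282 := d26_2 (iv F240272) D55170 (iv D54282)
theorem F247609 : act 9 n55170 = n54252 := d29_2 (iv F240273) D55170 (iv D54252)
def n55171 : Q := act 9 n53577
theorem D55171 : act 9 n53577 = n55171 := rfl
theorem F247610 : act 0 n55171 = n54212 := d8_1 D55171 (iv D54212) (iv F240274)
theorem F247611 : act 1 n55171 = n53645 := d16_1 D55171 (iv D53645) (iv F240275)
theorem F247612 : act 3 n55171 = n54210 := d29_1 D55171 (iv D54210) (iv F240276)
theorem F247613 : act 4 n55171 = n53584 := d34_1 D55171 (iv D53584) (iv F240277)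
theorem F247614 : act 5 n55171 = n53607 := d38_1 D55171 (iv D53607) (iv F240278)
theorem F247615 : act 7 n55171 = n53578 := d43_1 D55171 (iv D53578) D53577
def n55172 : Q := act 8 n53578
theorem D55172 : act 8 n53578 = n55172 := rfl
theorem F247616 : act 1 n55172 = n53655 := d15_1 D55172 (iv D53655) (iv F240279)
theorem F247617 : act 4 n55172 = n53585 := d33_1 D55172 (iv D53585) (iv F240280)
theorem F247618 : act 5 n55172 = n53612 := d37_1 D55172 (iv D53612) (iv F240281)
theorem F247619 : act 6 n55172 = n53579 := d40_1 D55172 (iv D53579) (iv F240282)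
def n55173 : Q := act 3 n53579
theorem D55173 : act 3 n53579 = n55173 := rfl
theorem F247620 : act 5 n55173 = n53580 := d25_2 (iv F240284) D55173 (iv D53580)
def n55174 : Q := act 2 n53580
theorem D55174 : act 2 n53580 = n55174 := rfl
theorem F247621 : act 4 n55174 = n53794 := d18_2 (iv F240285) D55174 (iv D53794)
theorem F247622 : act 6 n55174 = n54284 := d20_2 (iv F240286) D55174 (iv D54284)
def n55175 : Q := act 3 n53581
theorem D55175 : act 3 n53581 = n55175 := rfl
theorem F247623 : act 2 n55175 = n54327 := d17_1 D55175 (iv D54327) F235251 (iv F235002) (iv F240287)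
theorem F247624 : act 5 n55175 = n53582 := d25_2 (iv F240288) D55175 (iv D53582)
theorem F247625 : act 7 n55175 = n53586 := d27_2 (iv F240289) D55175 (iv D53586)
theorem F247626 : act 8 n55175 = n53591 := d28_2 D53581 D55175 (iv D53591) (iv D51753) (iv F231955)
def n55176 : Q := act 8 n53584
theorem D55176 : act 8 n53584 = n55176 := rfl
theorem F247627 : act 0 n55176 = n54239 := d7_1 D55176 (iv D54239) (iv F240302)
theorem F247628 : act 1 n55176 = n53661 := d15_1 D55176 (iv D53661) (iv F240303)
theorem F247629 : act 5 n55176 = n53588 := d37_1 D55176 (iv D53588) (iv F240305)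
theorem F247630 : act 7 n55176 = n53585 := d42_1 D55176 (iv D53585) (iv F240306)
def n55177 : Q := act 3 n53585
theorem D55177 : act 3 n53585 = n55177 := rfl
theorem F247631 : act 1 n55177 = n53665 := d10_1 D55177 (iv D53665) (iv F240307)
theorem F247632 : act 5 n55177 = n53589 := d25_2 (iv F240308) D55177 (iv D53589)
theorem F247633 : act 6 n55177 = n53586 := d26_2 (iv F240309) D55177 (iv D53586)
theorem F247634 : act 8 n55177 = n53593 := d28_2 D53585 D55177 (iv D53593) (iv D51756) (iv F231988)
def n55178 : Q := act 2 n53586
theorem D55178 : act 2 n53586 = n55178 := rfl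
theorem F247635 : act 3 n55178 = n54036 := d17_2 D53586 D55178 F242305 (iv F240298) F240297
theorem F247636 : act 5 n55178 = n53587 := d19_2 (iv F240310) D55178 (iv D53587)
theorem F247637 : act 7 n55178 = n54327 := d21_2 F247625 D55178 (iv F247623)
theorem F247638 : act 8 n55178 = n53594 := d22_2 (iv F240311) D55178 (iv D53594)
theorem F247639 : act 9 n55178 = n54095 := d23_2 F247548 D55178 (iv F247545)
def n55179 : Q := act 4 n53586
theorem D55179 : act 4 n53586 = n55179 := rfl
theorem F247640 : act 5 n55179 = n53821 := d30_2 (iv F240310) D55179 (iv D53821) F232846 (iv F231992)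
theorem F247641 : act 8 n55179 = n53595 := d33_2 (iv F240311) D55179 (iv D53595)
def n55180 : Q := act 3 n53588
theorem D55180 : act 3 n53588 = n55180 := rfl
theorem F247642 : act 0 n55180 = n54446 := d2_1 D55180 (iv D54446) (iv F240318)
theorem F247643 : act 1 n55180 = n53662 := d10_1 D55180 (iv D53662) (iv F240319)
theorem F247644 : act 6 n55180 = n55180 := d26_2 F240321 D55180 (iv D55180)
theorem F247645 : act 7 n55180 = n53589 := d27_2 (iv F240322) D55180 (iv D53589)
theorem F247646 : act 8 n55180 = n53596 := d28_2 D53588 D55180 (iv D53596) (iv D51759) (iv F231997)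
def n55181 : Q := act 3 n53590
theorem D55181 : act 3 n53590 = n55181 := rfl
theorem F247647 : act 0 n55181 = n54172 := d2_1 D55181 (iv D54172) (iv F240326)
theorem F247648 : act 2 n55181 = n53863 := d17_1 D55181 (iv D53863) F233159 (iv F233084) (iv F240327)
theorem F247649 : act 5 n55181 = n55181 := d25_2 F240329 D55181 (iv D55181)
theorem F247650 : act 6 n55181 = n53591 := d26_2 (iv F240330) D55181 (iv D53591)
theorem F247651 : act 9 n55181 = n55181 := d29_2 F240331 D55181 (iv D55181)
def n55182 : Q := act 4 n53591
theorem D55182 : act 4 n53591 = n55182 := rfl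
theorem F247652 : act 2 n55182 = n54441 := d18_1 D55182 (iv D54441) (iv F240332)
theorem F247653 : act 5 n55182 = n53834 := d30_2 (iv F240333) D55182 (iv D53834) F232916 (iv F232023)
theorem F247654 : act 7 n55182 = n53595 := d32_2 (iv F240334) D55182 (iv D53595)
theorem F247655 : act 9 n55182 = n55182 := d34_2 F240335 D55182 (iv D55182)
def n55183 : Q := act 3 n53592
theorem D55183 : act 3 n53592 = n55183 := rfl
theorem F247656 : act 0 n55183 = n54240 := d2_1 D55183 (iv D54240) (iv F240336)
theorem F247657 : act 1 n55183 = n53669 := d10_1 D55183 (iv D53669) (iv F240337)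
theorem F247658 : act 5 n55183 = n53596 := d25_2 (iv F240340) D55183 (iv D53596)
theorem F247659 : act 7 n55183 = n53593 := d27_2 (iv F240341) D55183 (iv D53593)
theorem F247660 : act 9 n55183 = n55183 := d29_2 F240342 D55183 (iv D55183)
def n55184 : Q := act 4 n53593
theorem D55184 : act 4 n53593 = n55184 := rfl
theorem F247661 : act 1 n55184 = n53672 := d11_1 D55184 (iv D53672) (iv F240343)
theorem F247662 : act 6 n55184 = n53595 := d31_2 (iv F240345) D55184 (iv D53595)
theorem F247663 : act 9 n55184 = n55184 := d34_2 F240346 D55184 (iv D55184)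
def n55185 : Q := act 4 n53594
theorem D55185 : act 4 n53594 = n55185 := rfl
theorem F247664 : act 2 n55185 = n53595 := d18_1 D55185 (iv D53595) D53594
theorem F247665 : act 5 n55185 = n53840 := d30_2 (iv F240348) D55185 (iv D53840) F232933 (iv F232040)
theorem F247666 : act 7 n55185 = n54441 := d32_2 (iv F240349) D55185 (iv D54441)
theorem F247667 : act 9 n55185 = n55185 := d34_2 F240350 D55185 (iv D55185)
def n55186 : Q := act 9 n53598
theorem D55186 : act 9 n53598 = n55186 := rfl
theorem F247668 : act 1 n55186 = n53625 := d16_1 D55186 (iv D53625) (iv F240365)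
theorem F247669 : act 2 n55186 = n54212 := d23_1 D55186 (iv D54212) (iv F240366)
theorem F247670 : act 3 n55186 = n54260 := d29_1 D55186 (iv D54260) (iv F240367)
theorem F247671 : act 4 n55186 = n53599 := d34_1 D55186 (iv D53599) D53598
theorem F247672 : act 6 n55186 = n54269 := d41_1 D55186 (iv D54269) (iv F240368)
theorem F247673 : act 7 n55186 = n53600 := d43_1 D55186 (iv D53600) (iv F240369)
def n55187 : Q := act 8 n53599
theorem D55187 : act 8 n53599 = n55187 := rfl
theorem F247674 : act 1 n55187 = n53626 := d15_1 D55187 (iv D53626) (iv F240371)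
theorem F247675 : act 2 n55187 = n54239 := d22_1 D55187 (iv D54239) (iv F240372)
theorem F247676 : act 3 n55187 = n54267 := d28_1 D55187 (iv D54267) F235045 (iv F232080) (iv F240373)
theorem F247677 : act 5 n55187 = n53602 := d37_1 D55187 (iv D53602) (iv F240374)
theorem F247678 : act 6 n55187 = n54293 := d40_1 D55187 (iv D54293) (iv F240375)
theorem F247679 : act 7 n55187 = n53601 := d42_1 D55187 (iv D53601) (iv F240376)
theorem F247680 : act 9 n55187 = n53608 := d44_2 D53599 D55187 (iv D53608) (iv D51773) (iv F232073)
def n55188 : Q := act 8 n53600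
theorem D55188 : act 8 n53600 = n55188 := rfl
theorem F247681 : act 1 n55188 = n53628 := d15_1 D55188 (iv D53628) (iv F240377)
theorem F247682 : act 4 n55188 = n53601 := d33_1 D55188 (iv D53601) (iv F240378)
theorem F247683 : act 6 n55188 = n54257 := d40_1 D55188 (iv D54257) (iv F240379)
theorem F247684 : act 9 n55188 = n53612 := d44_2 D53600 D55188 (iv D53612) (iv D51776) (iv F232083)
def n55189 : Q := act 9 n53603
theorem D55189 : act 9 n53603 = n55189 := rfl
theorem F247685 : act 1 n55189 = n53638 := d16_1 D55189 (iv D53638) (iv F240391)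
theorem F247686 : act 4 n55189 = n53604 := d34_1 D55189 (iv D53604) D53603
theorem F247687 : act 6 n55189 = n53607 := d41_1 D55189 (iv D53607) (iv F240392)
theorem F247688 : act 7 n55189 = n54272 := d43_1 D55189 (iv D54272) (iv F240393)
def n55190 : Q := act 8 n53604
theorem D55190 : act 8 n53604 = n55190 := rfl
theorem F247689 : act 1 n55190 = n53639 := d15_1 D55190 (iv D53639) (iv F240395)
theorem F247690 : act 5 n55190 = n55190 := d37_1 D55190 (iv D55190) F240397
theorem F247691 : act 6 n55190 = n53608 := d40_1 D55190 (iv D53608) (iv F240398)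
theorem F247692 : act 7 n55190 = n54289 := d42_1 D55190 (iv D54289) (iv F240399)
theorem F247693 : act 9 n55190 = n54293 := d44_2 D53604 D55190 (iv D54293) (iv D52543) (iv F232101)
def n55191 : Q := act 9 n53605
theorem D55191 : act 9 n53605 = n55191 := rfl
theorem F247694 : act 1 n55191 = n54216 := d16_1 D55191 (iv D54216) (iv F240400)
theorem F247695 : act 2 n55191 = n53607 := d23_1 D55191 (iv D53607) (iv F240401)
theorem F247696 : act 4 n55191 = n53606 := d34_1 D55191 (iv D53606) D53605
theorem F247697 : act 7 n55191 = n53610 := d43_1 D55191 (iv D53610) (iv F240402)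
def n55192 : Q := act 8 n53606
theorem D55192 : act 8 n53606 = n55192 := rfl
theorem F247698 : act 1 n55192 = n54242 := d15_1 D55192 (iv D54242) (iv F240404)
theorem F247699 : act 2 n55192 = n53608 := d22_1 D55192 (iv D53608) (iv F240405)
theorem F247700 : act 5 n55192 = n53613 := d37_1 D55192 (iv D53613) (iv F240407)
theorem F247701 : act 7 n55192 = n53611 := d42_1 D55192 (iv D53611) (iv F240408)
theorem F247702 : act 9 n55192 = n54239 := d44_2 D53606 D55192 (iv D54239) (iv D52477) (iv F232111)
def n55193 : Q := act 8 n53607
theorem D55193 : act 8 n53607 = n55193 := rfl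
theorem F247703 : act 1 n55193 = n53646 := d15_1 D55193 (iv D53646) (iv F240409)
theorem F247704 : act 4 n55193 = n53608 := d33_1 D55193 (iv D53608) (iv F240410)
theorem F247705 : act 7 n55193 = n53612 := d42_1 D55193 (iv D53612) (iv F240411)
def n55194 : Q := act 9 n53609
theorem D55194 : act 9 n53609 = n55194 := rfl
theorem F247706 : act 3 n55194 = n53610 := d29_1 D55194 (iv D53610) D53609
theorem F247707 : act 4 n55194 = n55194 := d34_1 D55194 (iv D55194) F240415
theorem F247708 : act 5 n55194 = n54254 := d38_1 D55194 (iv D54254) (iv F240416)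
theorem F247709 : act 6 n55194 = n54279 := d41_1 D55194 (iv D54279) (iv F240417)
def n55195 : Q := act 8 n53610
theorem D55195 : act 8 n53610 = n55195 := rfl
theorem F247710 : act 2 n55195 = n53612 := d22_1 D55195 (iv D53612) (iv F240419)
theorem F247711 : act 4 n55195 = n53611 := d33_1 D55195 (iv D53611) (iv F240420)
theorem F247712 : act 6 n55195 = n54281 := d40_1 D55195 (iv D54281) (iv F240421)
def n55196 : Q := act 3 n53611
theorem D55196 : act 3 n53611 = n55196 := rfl
theorem F247713 : act 5 n55196 = n53614 := d25_2 (iv F240423) D55196 (iv D53614)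
theorem F247714 : act 6 n55196 = n54292 := d26_2 (iv F240424) D55196 (iv D54292)
theorem F247715 : act 8 n55196 = n55196 := d28_2 D53611 D55196 (iv D55196) (iv D53611) F232121
def n55197 : Q := act 3 n53612
theorem D55197 : act 3 n53612 = n55197 := rfl
theorem F247716 : act 1 n55197 = n53656 := d10_1 D55197 (iv D53656) (iv F240425)
theorem F247717 : act 6 n55197 = n54283 := d26_2 (iv F240427) D55197 (iv D54283)
def n55198 : Q := act 3 n53613
theorem D55198 : act 3 n53613 = n55198 := rfl
theorem F247718 : act 1 n55198 = n54447 := d10_1 D55198 (iv D54447) (iv F240428)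
theorem F247719 : act 6 n55198 = n55198 := d26_2 F240430 D55198 (iv D55198)
theorem F247720 : act 7 n55198 = n53614 := d27_2 (iv F240431) D55198 (iv D53614)
theorem F247721 : act 8 n55198 = n55198 := d28_2 D53613 D55198 (iv D55198) (iv D53613) F232132
theorem F247722 : act 9 n55198 = n54446 := d29_2 (iv F240432) D55198 (iv D54446)
def n55199 : Q := act 5 n53615
theorem D55199 : act 5 n53615 = n55199 := rfl
theorem F247723 : act 0 n55199 = n53686 := d4_1 D55199 (iv D53686) (iv F240435)
theorem F247724 : act 1 n55199 = n54259 := d12_1 D55199 (iv D54259) (iv F240436)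
theorem F247725 : act 2 n55199 = n54058 := d19_1 D55199 (iv D54058) (iv F240437)
theorem F247726 : act 3 n55199 = n53624 := d25_1 D55199 (iv D53624) (iv F240438)
theorem F247727 : act 4 n55199 = n55199 := d30_1 D55199 (iv D55199) (iv D53615) F232146 D53615
theorem F247728 : act 7 n55199 = n53619 := d36_2 (iv F240440) D55199 (iv D53619)
def n55200 : Q := act 9 n53615
theorem D55200 : act 9 n53615 = n55200 := rfl
theorem F247729 : act 0 n55200 = n53687 := d8_1 D55200 (iv D53687) (iv F240435)
theorem F247730 : act 1 n55200 = n54260 := d16_1 D55200 (iv D54260) (iv F240436)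
theorem F247731 : act 2 n55200 = n54060 := d23_1 D55200 (iv D54060) (iv F240437)
theorem F247732 : act 3 n55200 = n53625 := d29_1 D55200 (iv D53625) (iv F240438)
theorem F247733 : act 4 n55200 = n53616 := d34_1 D55200 (iv D53616) D53615
theorem F247734 : act 6 n55200 = n54266 := d41_1 D55200 (iv D54266) (iv F240439)
theorem F247735 : act 7 n55200 = n53620 := d43_1 D55200 (iv D53620) (iv F240440)
def n55201 : Q := act 8 n53616
theorem D55201 : act 8 n53616 = n55201 := rfl
theorem F247736 : act 0 n55201 = n53688 := d7_1 D55201 (iv D53688) (iv F240441)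
theorem F247737 : act 1 n55201 = n54261 := d15_1 D55201 (iv D54261) (iv F240442)
theorem F247738 : act 2 n55201 = n54110 := d22_1 D55201 (iv D54110) (iv F240443)
theorem F247739 : act 3 n55201 = n54293 := d28_1 D55201 (iv D54293) F235136 (iv F232156) (iv F240444)
theorem F247740 : act 5 n55201 = n55201 := d37_1 D55201 (iv D55201) F240445
theorem F247741 : act 6 n55201 = n54267 := d40_1 D55201 (iv D54267) (iv F240446)
theorem F247742 : act 7 n55201 = n53621 := d42_1 D55201 (iv D53621) (iv F240447)
def n55202 : Q := act 5 n53617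
theorem D55202 : act 5 n53617 = n55202 := rfl
theorem F247743 : act 0 n55202 = n53693 := d4_1 D55202 (iv D53693) (iv F240448)
theorem F247744 : act 1 n55202 = n54047 := d12_1 D55202 (iv D54047) (iv F240449)
theorem F247745 : act 2 n55202 = n53619 := d19_1 D55202 (iv D53619) (iv F240450)
theorem F247746 : act 3 n55202 = n54044 := d25_1 D55202 (iv D54044) (iv F240451)
theorem F247747 : act 4 n55202 = n55202 := d30_1 D55202 (iv D55202) (iv D53617) F232160 D53617
theorem F247748 : act 7 n55202 = n54058 := d36_2 (iv F240453) D55202 (iv D54058)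
def n55203 : Q := act 9 n53617
theorem D55203 : act 9 n53617 = n55203 := rfl
theorem F247749 : act 0 n55203 = n53694 := d8_1 D55203 (iv D53694) (iv F240448)
theorem F247750 : act 1 n55203 = n54049 := d16_1 D55203 (iv D54049) (iv F240449)
theorem F247751 : act 2 n55203 = n53620 := d23_1 D55203 (iv D53620) (iv F240450)
theorem F247752 : act 3 n55203 = n54045 := d29_1 D55203 (iv D54045) (iv F240451)
theorem F247753 : act 4 n55203 = n53618 := d34_1 D55203 (iv D53618) D53617
theorem F247754 : act 6 n55203 = n54295 := d41_1 D55203 (iv D54295) (iv F240452)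
theorem F247755 : act 7 n55203 = n54060 := d43_1 D55203 (iv D54060) (iv F240453)
def n55204 : Q := act 8 n53618
theorem D55204 : act 8 n53618 = n55204 := rfl
theorem F247756 : act 0 n55204 = n53695 := d7_1 D55204 (iv D53695) (iv F240454)
theorem F247757 : act 1 n55204 = n54106 := d15_1 D55204 (iv D54106) (iv F240455)
theorem F247758 : act 2 n55204 = n53621 := d22_1 D55204 (iv D53621) (iv F240456)
theorem F247759 : act 5 n55204 = n55204 := d37_1 D55204 (iv D55204) F240458
theorem F247760 : act 6 n55204 = n54296 := d40_1 D55204 (iv D54296) (iv F240459)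
theorem F247761 : act 7 n55204 = n54110 := d42_1 D55204 (iv D54110) (iv F240460)
def n55205 : Q := act 9 n53619
theorem D55205 : act 9 n53619 = n55205 := rfl
theorem F247762 : act 0 n55205 = n53697 := d8_1 D55205 (iv D53697) (iv F240461)
theorem F247763 : act 3 n55205 = n53627 := d29_1 D55205 (iv D53627) (iv F240462)
theorem F247764 : act 4 n55205 = n55205 := d34_1 D55205 (iv D55205) F240463
theorem F247765 : act 5 n55205 = n53620 := d38_1 D55205 (iv D53620) D53619
def n55206 : Q := act 8 n53620
theorem D55206 : act 8 n53620 = n55206 := rfl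
theorem F247766 : act 0 n55206 = n53698 := d7_1 D55206 (iv D53698) (iv F240464)
theorem F247767 : act 4 n55206 = n53621 := d33_1 D55206 (iv D53621) (iv F240466)
theorem F247768 : act 6 n55206 = n54297 := d40_1 D55206 (iv D54297) (iv F240467)
def n55207 : Q := act 5 n53622
theorem D55207 : act 5 n53622 = n55207 := rfl
theorem F247769 : act 0 n55207 = n53701 := d4_1 D55207 (iv D53701) (iv F240472)
theorem F247770 : act 1 n55207 = n54268 := d12_1 D55207 (iv D54268) (iv F240473)
theorem F247771 : act 2 n55207 = n53775 := d19_1 D55207 (iv D53775) (iv F240474)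
theorem F247772 : act 3 n55207 = n54265 := d25_1 D55207 (iv D54265) (iv F240475)
theorem F247773 : act 4 n55207 = n55207 := d30_1 D55207 (iv D55207) (iv D53622) F232173 D53622
theorem F247774 : act 7 n55207 = n54275 := d36_2 (iv F240477) D55207 (iv D54275)
theorem F247775 : act 8 n55207 = n53637 := d37_2 (iv F240478) D55207 (iv D53637)
def n55208 : Q := act 9 n53622
theorem D55208 : act 9 n53622 = n55208 := rfl
theorem F247776 : act 0 n55208 = n53702 := d8_1 D55208 (iv D53702) (iv F240472)
theorem F247777 : act 1 n55208 = n54269 := d16_1 D55208 (iv D54269) (iv F240473)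
theorem F247778 : act 2 n55208 = n53776 := d23_1 D55208 (iv D53776) (iv F240474)
theorem F247779 : act 3 n55208 = n54266 := d29_1 D55208 (iv D54266) (iv F240475)
theorem F247780 : act 4 n55208 = n53623 := d34_1 D55208 (iv D53623) D53622
theorem F247781 : act 6 n55208 = n53625 := d41_1 D55208 (iv D53625) (iv F240476)
theorem F247782 : act 7 n55208 = n54276 := d43_1 D55208 (iv D54276) (iv F240477)
def n55209 : Q := act 8 n53623
theorem D55209 : act 8 n53623 = n55209 := rfl
theorem F247783 : act 0 n55209 = n53703 := d7_1 D55209 (iv D53703) (iv F240479)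
theorem F247784 : act 1 n55209 = n54293 := d15_1 D55209 (iv D54293) (iv F240480)
theorem F247785 : act 2 n55209 = n53848 := d22_1 D55209 (iv D53848) (iv F240481)
theorem F247786 : act 3 n55209 = n54261 := d28_1 D55209 (iv D54261) F235033 (iv F232184) (iv F240482)
theorem F247787 : act 5 n55209 = n55209 := d37_1 D55209 (iv D55209) F240483
theorem F247788 : act 6 n55209 = n53626 := d40_1 D55209 (iv D53626) (iv F240484)
theorem F247789 : act 7 n55209 = n54294 := d42_1 D55209 (iv D54294) (iv F240485)
theorem F247790 : act 9 n55209 = n53639 := d44_2 D53623 D55209 (iv D53639) (iv D51802) (iv F232176)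
def n55210 : Q := act 6 n53624
theorem D55210 : act 6 n53624 = n55210 := rfl
theorem F247791 : act 0 n55210 = n53709 := d5_1 D55210 (iv D53709) (iv F240486)
theorem F247792 : act 2 n55210 = n54388 := d20_1 D55210 (iv D54388) (iv F240487)
theorem F247793 : act 4 n55210 = n53629 := d31_1 D55210 (iv D53629) (iv F240488)
theorem F247794 : act 8 n55210 = n53644 := d40_2 (iv F240490) D55210 (iv D53644)
def n55211 : Q := act 9 n53624
theorem D55211 : act 9 n53624 = n55211 := rfl
theorem F247795 : act 0 n55211 = n53710 := d8_1 D55211 (iv D53710) (iv F240486)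
theorem F247796 : act 2 n55211 = n54389 := d23_1 D55211 (iv D54389) (iv F240487)
theorem F247797 : act 4 n55211 = n53630 := d34_1 D55211 (iv D53630) (iv F240488)
theorem F247798 : act 5 n55211 = n53625 := d38_1 D55211 (iv D53625) D53624
theorem F247799 : act 7 n55211 = n53627 := d43_1 D55211 (iv D53627) (iv F240489)
def n55212 : Q := act 8 n53625
theorem D55212 : act 8 n53625 = n55212 := rfl
theorem F247800 : act 0 n55212 = n53711 := d7_1 D55212 (iv D53711) (iv F240491)
theorem F247801 : act 2 n55212 = n54381 := d22_1 D55212 F243340 (iv F240492)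
theorem F247802 : act 4 n55212 = n53626 := d33_1 D55212 (iv D53626) (iv F240493)
theorem F247803 : act 7 n55212 = n53628 := d42_1 D55212 (iv D53628) (iv F240494)
theorem F247804 : act 9 n55212 = n53646 := d44_2 D53625 D55212 (iv D53646) (iv D51806) (iv F232188)
def n55213 : Q := act 8 n53627
theorem D55213 : act 8 n53627 = n55213 := rfl
theorem F247805 : act 0 n55213 = n53723 := d7_1 D55213 (iv D53723) (iv F240501)
theorem F247806 : act 2 n55213 = n54404 := d22_1 D55213 F243391 (iv F240502)
theorem F247807 : act 4 n55213 = n53632 := d33_1 D55213 (iv D53632) (iv F240503)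
theorem F247808 : act 5 n55213 = n53628 := d37_1 D55213 (iv D53628) (iv F240504)
theorem F247809 : act 9 n55213 = n53655 := d44_2 D53627 D55213 (iv D53655) (iv D51814) (iv F232197)
def n55214 : Q := act 3 n53628
theorem D55214 : act 3 n53628 = n55214 := rfl
theorem F247810 : act 0 n55214 = n53724 := d2_1 D55214 (iv D53724) (iv F240505)
theorem F247811 : act 4 n55214 = n54282 := d24_2 (iv F240507) D55214 (iv D54282) F235088 (iv F232204)
theorem F247812 : act 6 n55214 = n54299 := d26_2 (iv F240508) D55214 (iv D54299)
theorem F247813 : act 9 n55214 = n53656 := d29_2 (iv F240509) D55214 (iv D53656)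
def n55215 : Q := act 9 n53629
theorem D55215 : act 9 n53629 = n55215 := rfl
theorem F247814 : act 0 n55215 = n53730 := d8_1 D55215 (iv D53730) (iv F240510)
theorem F247815 : act 2 n55215 = n54428 := d23_1 D55215 F243460 (iv F240511)
theorem F247816 : act 3 n55215 = n55215 := d29_1 D55215 (iv D55215) F240512
theorem F247817 : act 5 n55215 = n55215 := d38_1 D55215 (iv D55215) F240513
theorem F247818 : act 6 n55215 = n53630 := d41_1 D55215 (iv D53630) D53629
def n55216 : Q := act 8 n53630
theorem D55216 : act 8 n53630 = n55216 := rfl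
theorem F247819 : act 0 n55216 = n53731 := d7_1 D55216 (iv D53731) (iv F240515)
theorem F247820 : act 2 n55216 = n54415 := d22_1 D55216 F243422 (iv F240516)
theorem F247821 : act 5 n55216 = n53631 := d37_1 D55216 (iv D53631) (iv F240518)
theorem F247822 : act 7 n55216 = n53632 := d42_1 D55216 (iv D53632) (iv F240519)
theorem F247823 : act 9 n55216 = n53661 := d44_2 D53630 D55216 (iv D53661) (iv D51820) (iv F232212)
def n55217 : Q := act 3 n53631
theorem D55217 : act 3 n53631 = n55217 := rfl
theorem F247824 : act 0 n55217 = n53732 := d2_1 D55217 (iv D53732) (iv F240520)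
theorem F247825 : act 4 n55217 = n54288 := d24_2 (iv F240522) D55217 (iv D54288) F235111 (iv F232221)
theorem F247826 : act 6 n55217 = n55217 := d26_2 F240523 D55217 (iv D55217)
theorem F247827 : act 7 n55217 = n53633 := d27_2 (iv F240524) D55217 (iv D53633)
theorem F247828 : act 8 n55217 = n55217 := d28_2 D53631 D55217 (iv D55217) (iv D53631) F232215
theorem F247829 : act 9 n55217 = n53662 := d29_2 (iv F240525) D55217 (iv D53662)
def n55218 : Q := act 3 n53632
theorem D55218 : act 3 n53632 = n55218 := rfl
theorem F247830 : act 0 n55218 = n53739 := d2_1 D55218 (iv D53739) (iv F240526)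
theorem F247831 : act 5 n55218 = n53633 := d25_2 (iv F240528) D55218 (iv D53633)
theorem F247832 : act 8 n55218 = n55218 := d28_2 D53632 D55218 (iv D55218) (iv D53632) F232227
theorem F247833 : act 9 n55218 = n53665 := d29_2 (iv F240529) D55218 (iv D53665)
def n55219 : Q := act 2 n53633
theorem D55219 : act 2 n53633 = n55219 := rfl
theorem F247834 : act 0 n55219 = n53740 := d1_1 D55219 (iv D53740) (iv F240530)
theorem F247835 : act 3 n55219 = n53981 := d17_2 D53633 D55219 F242054 F235550 (iv F232230)
theorem F247836 : act 4 n55219 = n53980 := d18_2 (iv F240531) D55219 F242050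
theorem F247837 : act 6 n55219 = n53634 := d20_2 (iv F240532) D55219 (iv D53634)
theorem F247838 : act 8 n55219 = n55219 := d22_2 F240533 D55219 (iv D55219)
theorem F247839 : act 9 n55219 = n53666 := d23_2 (iv F240534) D55219 (iv D53666)
def n55220 : Q := act 5 n53635
theorem D55220 : act 5 n53635 = n55220 := rfl
theorem F247840 : act 0 n55220 = n53750 := d4_1 D55220 (iv D53750) (iv F240541)
theorem F247841 : act 1 n55220 = n53782 := d12_1 D55220 F241181 (iv F240542)
theorem F247842 : act 2 n55220 = n53637 := d19_1 D55220 (iv D53637) (iv F240543)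
theorem F247843 : act 3 n55220 = n54070 := d25_1 D55220 (iv F245418) F245416
theorem F247844 : act 4 n55220 = n55220 := d30_1 D55220 (iv D55220) (iv D53635) F232241 D53635
theorem F247845 : act 7 n55220 = n54065 := d36_2 (iv F240545) D55220 F242412
theorem F247846 : act 8 n55220 = n53775 := d37_2 (iv F240546) D55220 (iv D53775)
def n55221 : Q := act 9 n53635
theorem D55221 : act 9 n53635 = n55221 := rfl
theorem F247847 : act 0 n55221 = n53751 := d8_1 D55221 (iv D53751) (iv F240541)
theorem F247848 : act 1 n55221 = n53784 := d16_1 D55221 (iv D53784) (iv F240542)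
theorem F247849 : act 2 n55221 = n53638 := d23_1 D55221 (iv D53638) (iv F240543)
theorem F247850 : act 4 n55221 = n53636 := d34_1 D55221 (iv D53636) D53635
theorem F247851 : act 6 n55221 = n53642 := d41_1 D55221 (iv D53642) (iv F240544)
theorem F247852 : act 7 n55221 = n54300 := d43_1 D55221 (iv D54300) (iv F240545)
def n55222 : Q := act 8 n53636
theorem D55222 : act 8 n53636 = n55222 := rfl
theorem F247853 : act 0 n55222 = n53752 := d7_1 D55222 (iv D53752) (iv F240547)
theorem F247854 : act 1 n55222 = n53850 := d15_1 D55222 (iv D53850) (iv F240548)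
theorem F247855 : act 2 n55222 = n53639 := d22_1 D55222 (iv D53639) (iv F240549)
theorem F247856 : act 3 n55222 = n54331 := d28_1 D55222 (iv D54331) F235258 (iv F232397) (iv F240550)
theorem F247857 : act 5 n55222 = n55222 := d37_1 D55222 (iv D55222) F240551
theorem F247858 : act 6 n55222 = n53643 := d40_1 D55222 (iv D53643) (iv F240552)
theorem F247859 : act 7 n55222 = n54301 := d42_1 D55222 (iv D54301) (iv F240553)
theorem F247860 : act 9 n55222 = n53848 := d44_2 D53636 D55222 (iv D53848) (iv D51992) (iv F232244)
def n55223 : Q := act 9 n53637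
theorem D55223 : act 9 n53637 = n55223 := rfl
theorem F247861 : act 0 n55223 = n53754 := d8_1 D55223 (iv D53754) (iv F240554)
theorem F247862 : act 4 n55223 = n55223 := d34_1 D55223 (iv D55223) F240555
theorem F247863 : act 5 n55223 = n53638 := d38_1 D55223 (iv D53638) D53637
theorem F247864 : act 7 n55223 = n54302 := d43_1 D55223 (iv D54302) (iv F240556)
def n55224 : Q := act 8 n53638
theorem D55224 : act 8 n53638 = n55224 := rfl
theorem F247865 : act 0 n55224 = n53755 := d7_1 D55224 (iv D53755) (iv F240557)
theorem F247866 : act 4 n55224 = n53639 := d33_1 D55224 (iv D53639) (iv F240558)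
theorem F247867 : act 6 n55224 = n53646 := d40_1 D55224 (iv D53646) (iv F240559)
theorem F247868 : act 7 n55224 = n54303 := d42_1 D55224 (iv D54303) (iv F240560)
def n55225 : Q := act 5 n53640
theorem D55225 : act 5 n53640 = n55225 := rfl
theorem F247869 : act 0 n55225 = n53762 := d4_1 D55225 (iv D53762) (iv F240565)
theorem F247870 : act 1 n55225 = n54347 := d12_1 D55225 F243237 (iv F240566)
theorem F247871 : act 3 n55225 = n53641 := d25_1 D55225 (iv D53641) D53640
theorem F247872 : act 4 n55225 = n55225 := d30_1 D55225 (iv D55225) F240567 F232407 (iv F240567)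
theorem F247873 : act 7 n55225 = n53650 := d36_2 (iv F240568) D55225 (iv D53650)
theorem F247874 : act 8 n55225 = n54342 := d37_2 (iv F240569) D55225 (iv D54342)
def n55226 : Q := act 9 n53640
theorem D55226 : act 9 n53640 = n55226 := rfl
theorem F247875 : act 0 n55226 = n53764 := d8_1 D55226 (iv D53764) (iv F240565)
theorem F247876 : act 1 n55226 = n54349 := d16_1 D55226 (iv D54349) (iv F240566)
theorem F247877 : act 3 n55226 = n53642 := d29_1 D55226 (iv D53642) D53640
theorem F247878 : act 4 n55226 = n53674 := d34_1 D55226 (iv D53674) (iv F240567)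
theorem F247879 : act 7 n55226 = n53652 := d43_1 D55226 (iv D53652) (iv F240568)
def n55227 : Q := act 6 n53641
theorem D55227 : act 6 n53641 = n55227 := rfl
theorem F247880 : act 0 n55227 = n53765 := d5_1 D55227 (iv D53765) (iv F240570)
theorem F247881 : act 1 n55227 = n54393 := d13_1 D55227 F243370 (iv F240571)
theorem F247882 : act 2 n55227 = n53644 := d20_1 D55227 (iv D53644) (iv F240572)
theorem F247883 : act 4 n55227 = n53657 := d31_1 D55227 (iv D53657) (iv F240573)
theorem F247884 : act 8 n55227 = n54388 := d40_2 (iv F240575) D55227 (iv D54388)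
def n55228 : Q := act 9 n53641
theorem D55228 : act 9 n53641 = n55228 := rfl
theorem F247885 : act 0 n55228 = n53766 := d8_1 D55228 (iv D53766) (iv F240570)
theorem F247886 : act 1 n55228 = n54395 := d16_1 D55228 (iv D54395) (iv F240571)
theorem F247887 : act 2 n55228 = n53645 := d23_1 D55228 (iv D53645) (iv F240572)
theorem F247888 : act 4 n55228 = n53658 := d34_1 D55228 (iv D53658) (iv F240573)
theorem F247889 : act 5 n55228 = n53642 := d38_1 D55228 (iv D53642) D53641
theorem F247890 : act 7 n55228 = n53653 := d43_1 D55228 (iv D53653) (iv F240574)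
def n55229 : Q := act 8 n53642
theorem D55229 : act 8 n53642 = n55229 := rfl
theorem F247891 : act 0 n55229 = n53767 := d7_1 D55229 (iv D53767) (iv F240576)
theorem F247892 : act 1 n55229 = n54397 := d15_1 D55229 (iv D54397) (iv F240577)
theorem F247893 : act 2 n55229 = n53646 := d22_1 D55229 (iv D53646) (iv F240578)
theorem F247894 : act 4 n55229 = n53643 := d33_1 D55229 (iv D53643) (iv F240579)
theorem F247895 : act 7 n55229 = n53654 := d42_1 D55229 (iv D53654) (iv F240580)
theorem F247896 : act 9 n55229 = n54381 := d44_2 D53642 D55229 F243340 (iv D52651) (iv F232258)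
def n55230 : Q := act 9 n53644
theorem D55230 : act 9 n53644 = n55230 := rfl
theorem F247897 : act 0 n55230 = n53770 := d8_1 D55230 (iv D53770) (iv F240588)
theorem F247898 : act 4 n55230 = n53660 := d34_1 D55230 (iv D53660) (iv F240589)
theorem F247899 : act 6 n55230 = n53645 := d41_1 D55230 (iv D53645) D53644
def n55231 : Q := act 8 n53645
theorem D55231 : act 8 n53645 = n55231 := rfl
theorem F247900 : act 0 n55231 = n53771 := d7_1 D55231 (iv D53771) (iv F240590)
theorem F247901 : act 4 n55231 = n53661 := d33_1 D55231 (iv D53661) (iv F240591)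
theorem F247902 : act 5 n55231 = n53646 := d37_1 D55231 (iv D53646) (iv F240592)
theorem F247903 : act 7 n55231 = n53655 := d42_1 D55231 (iv D53655) (iv F240593)
def n55232 : Q := act 3 n53646
theorem D55232 : act 3 n53646 = n55232 := rfl
theorem F247904 : act 0 n55232 = n53772 := d2_1 D55232 (iv D53772) (iv F240594)
theorem F247905 : act 7 n55232 = n53656 := d27_2 (iv F240596) D55232 (iv D53656)
def n55233 : Q := act 2 n53647
theorem D55233 : act 2 n53647 = n55233 := rfl
theorem F247906 : act 1 n55233 = n53765 := d9_1 D55233 F241124 (iv F237702) F237703 (iv F240597)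
theorem F247907 : act 3 n55233 = n54066 := d17_2 D53647 D55233 (iv F244766) F244767 F237220
theorem F247908 : act 4 n55233 = n53677 := d18_2 (iv F240598) D55233 (iv D53677)
theorem F247909 : act 5 n55233 = n54023 := d19_2 F244800 D55233 (iv F244798)
theorem F247910 : act 6 n55233 = n53759 := d20_2 (iv F240599) D55233 F241103
theorem F247911 : act 7 n55233 = n54324 := d21_2 (iv F240600) D55233 F243173
theorem F247912 : act 8 n55233 = n54022 := d22_2 (iv F240601) D55233 F242247
def n55234 : Q := act 9 n53647
theorem D55234 : act 9 n53647 = n55234 := rfl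
theorem F247913 : act 1 n55234 = n53652 := d16_1 D55234 (iv D53652) (iv F240597)
theorem F247914 : act 3 n55234 = n53648 := d29_1 D55234 (iv D53648) D53647
theorem F247915 : act 4 n55234 = n53678 := d34_1 D55234 (iv D53678) (iv F240598)
theorem F247916 : act 6 n55234 = n54310 := d41_1 D55234 (iv D54310) (iv F240599)
theorem F247917 : act 7 n55234 = n54349 := d43_1 D55234 (iv D54349) (iv F240600)
def n55235 : Q := act 8 n53648
theorem D55235 : act 8 n53648 = n55235 := rfl
theorem F247918 : act 1 n55235 = n53654 := d15_1 D55235 (iv D53654) (iv F240602)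
theorem F247919 : act 4 n55235 = n53649 := d33_1 D55235 (iv D53649) (iv F240603)
theorem F247920 : act 6 n55235 = n54311 := d40_1 D55235 (iv D54311) (iv F240604)
theorem F247921 : act 7 n55235 = n54397 := d42_1 D55235 (iv D54397) (iv F240605)
theorem F247922 : act 9 n55235 = n54378 := d44_2 D53648 D55235 (iv D54378) (iv D52639) (iv F232277)
def n55236 : Q := act 8 n53650
theorem D55236 : act 8 n53650 = n55236 := rfl
theorem F247923 : act 0 n55236 = n53782 := d7_1 D55236 (iv D53782) (iv F240612)
theorem F247924 : act 1 n55236 = n54004 := d15_1 D55236 (iv F244803) F244797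
theorem F247925 : act 3 n55236 = n54002 := d28_1 D55236 F242166 F235408 (iv F232289) (iv F240613)
theorem F247926 : act 4 n55236 = n55236 := d33_1 D55236 (iv D55236) F240614
theorem F247927 : act 5 n55236 = n53651 := d37_1 D55236 (iv D53651) D53650
theorem F247928 : act 7 n55236 = n54342 := d42_1 D55236 (iv F247874) F247873
def n55237 : Q := act 9 n53650
theorem D55237 : act 9 n53650 = n55237 := rfl
theorem F247929 : act 0 n55237 = n53783 := d8_1 D55237 (iv D53783) (iv F240612)
theorem F247930 : act 3 n55237 = n53653 := d29_1 D55237 (iv D53653) (iv F240613)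
theorem F247931 : act 4 n55237 = n55237 := d34_1 D55237 (iv D55237) F240614
theorem F247932 : act 5 n55237 = n53652 := d38_1 D55237 (iv D53652) D53650
def n55238 : Q := act 9 n53651
theorem D55238 : act 9 n53651 = n55238 := rfl
theorem F247933 : act 0 n55238 = n53784 := d8_1 D55238 (iv D53784) (iv F240615)
theorem F247934 : act 1 n55238 = n54336 := d16_1 D55238 (iv D54336) (iv F240616)
theorem F247935 : act 3 n55238 = n54334 := d29_1 D55238 (iv D54334) (iv F240617)
theorem F247936 : act 4 n55238 = n53679 := d34_1 D55238 (iv D53679) (iv F240618)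
theorem F247937 : act 6 n55238 = n54312 := d41_1 D55238 (iv D54312) (iv F240619)
theorem F247938 : act 7 n55238 = n54343 := d43_1 D55238 (iv D54343) (iv F240620)
def n55239 : Q := act 8 n53652
theorem D55239 : act 8 n53652 = n55239 := rfl
theorem F247939 : act 0 n55239 = n53785 := d7_1 D55239 (iv D53785) (iv F240621)
theorem F247940 : act 4 n55239 = n53680 := d33_1 D55239 (iv D53680) (iv F240623)
theorem F247941 : act 6 n55239 = n54313 := d40_1 D55239 (iv D54313) (iv F240624)
def n55240 : Q := act 8 n53653
theorem D55240 : act 8 n53653 = n55240 := rfl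
theorem F247942 : act 0 n55240 = n53788 := d7_1 D55240 (iv D53788) (iv F240625)
theorem F247943 : act 2 n55240 = n53655 := d22_1 D55240 (iv D53655) (iv F240626)
theorem F247944 : act 4 n55240 = n53663 := d33_1 D55240 (iv D53663) (iv F240627)
theorem F247945 : act 5 n55240 = n53654 := d37_1 D55240 (iv D53654) (iv F240628)
theorem F247946 : act 9 n55240 = n54404 := d44_2 D53653 D55240 F243391 F235578 (iv F232289)
def n55241 : Q := act 3 n53654
theorem D55241 : act 3 n53654 = n55241 := rfl
theorem F247947 : act 0 n55241 = n53789 := d2_1 D55241 (iv D53789) (iv F240629)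
theorem F247948 : act 4 n55241 = n54354 := d24_2 (iv F240631) D55241 (iv D54354) F235315 (iv F232296)
theorem F247949 : act 6 n55241 = n54314 := d26_2 (iv F240632) D55241 (iv D54314)
theorem F247950 : act 9 n55241 = n54403 := d29_2 (iv F240633) D55241 F243389
def n55242 : Q := act 3 n53655
theorem D55242 : act 3 n53655 = n55242 := rfl
theorem F247951 : act 0 n55242 = n53793 := d2_1 D55242 (iv D53793) (iv F240634)
theorem F247952 : act 5 n55242 = n53656 := d25_2 (iv F240636) D55242 (iv D53656)
def n55243 : Q := act 2 n53656
theorem D55243 : act 2 n53656 = n55243 := rfl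
theorem F247953 : act 0 n55243 = n53794 := d1_1 D55243 (iv D53794) (iv F240637)
theorem F247954 : act 6 n55243 = n54315 := d20_2 (iv F240638) D55243 (iv D54315)
def n55244 : Q := act 9 n53657
theorem D55244 : act 9 n53657 = n55244 := rfl
theorem F247955 : act 0 n55244 = n53800 := d8_1 D55244 (iv D53800) (iv F240639)
theorem F247956 : act 1 n55244 = n54452 := d16_1 D55244 (iv D54452) (iv F240640)
theorem F247957 : act 2 n55244 = n53660 := d23_1 D55244 (iv D53660) (iv F240641)
theorem F247958 : act 3 n55244 = n55244 := d29_1 D55244 (iv D55244) F240642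
theorem F247959 : act 5 n55244 = n55244 := d38_1 D55244 (iv D55244) F240643
theorem F247960 : act 6 n55244 = n53658 := d41_1 D55244 (iv D53658) D53657
def n55245 : Q := act 8 n53658
theorem D55245 : act 8 n53658 = n55245 := rfl
theorem F247961 : act 0 n55245 = n53801 := d7_1 D55245 (iv D53801) (iv F240645)
theorem F247962 : act 1 n55245 = n54454 := d15_1 D55245 (iv D54454) (iv F240646)
theorem F247963 : act 2 n55245 = n53661 := d22_1 D55245 (iv D53661) (iv F240647)
theorem F247964 : act 5 n55245 = n53659 := d37_1 D55245 (iv D53659) (iv F240649)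
theorem F247965 : act 7 n55245 = n53663 := d42_1 D55245 (iv D53663) (iv F240650)
theorem F247966 : act 9 n55245 = n54415 := d44_2 D53658 D55245 F243422 F235582 (iv F232311)
def n55246 : Q := act 3 n53659
theorem D55246 : act 3 n53659 = n55246 := rfl
theorem F247967 : act 0 n55246 = n53802 := d2_1 D55246 (iv D53802) (iv F240651)
theorem F247968 : act 1 n55246 = n54456 := d10_1 D55246 (iv D54456) (iv F240652)
theorem F247969 : act 4 n55246 = n54361 := d24_2 (iv F240654) D55246 (iv D54361) F235341 (iv F232322)
theorem F247970 : act 6 n55246 = n55246 := d26_2 F240655 D55246 (iv D55246)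
theorem F247971 : act 7 n55246 = n53664 := d27_2 (iv F240656) D55246 (iv D53664)
theorem F247972 : act 8 n55246 = n55246 := d28_2 D53659 D55246 (iv D55246) (iv D53659) F232315
theorem F247973 : act 9 n55246 = n54414 := d29_2 (iv F240657) D55246 F243416
def n55247 : Q := act 8 n53660
theorem D55247 : act 8 n53660 = n55247 := rfl
theorem F247974 : act 0 n55247 = n53805 := d7_1 D55247 (iv D53805) (iv F240658)
theorem F247975 : act 5 n55247 = n55247 := d37_1 D55247 (iv D55247) F240660
theorem F247976 : act 6 n55247 = n53661 := d40_1 D55247 (iv D53661) (iv F240661)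
def n55248 : Q := act 3 n53661
theorem D55248 : act 3 n53661 = n55248 := rfl
theorem F247977 : act 0 n55248 = n53806 := d2_1 D55248 (iv D53806) (iv F240662)
theorem F247978 : act 5 n55248 = n53662 := d25_2 (iv F240663) D55248 (iv D53662)
theorem F247979 : act 7 n55248 = n53665 := d27_2 (iv F240664) D55248 (iv D53665)
theorem F247980 : act 8 n55248 = n53669 := d28_2 D53661 D55248 (iv D53669) (iv D51830) (iv F232330)
def n55249 : Q := act 2 n53662
theorem D55249 : act 2 n53662 = n55249 := rfl
theorem F247981 : act 0 n55249 = n53807 := d1_1 D55249 (iv D53807) (iv F240665)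
theorem F247982 : act 4 n55249 = n54469 := d18_2 F247453 D55249 (iv F247452)
theorem F247983 : act 6 n55249 = n55249 := d20_2 F240666 D55249 (iv D55249)
theorem F247984 : act 7 n55249 = n53666 := d21_2 (iv F240667) D55249 (iv D53666)
theorem F247985 : act 8 n55249 = n53670 := d22_2 (iv F240668) D55249 (iv D53670)
def n55250 : Q := act 3 n53663
theorem D55250 : act 3 n53663 = n55250 := rfl
theorem F247986 : act 0 n55250 = n53814 := d2_1 D55250 (iv D53814) (iv F240669)
theorem F247987 : act 5 n55250 = n53664 := d25_2 (iv F240671) D55250 (iv D53664)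
theorem F247988 : act 8 n55250 = n55250 := d28_2 D53663 D55250 (iv D55250) (iv D53663) F232344
theorem F247989 : act 9 n55250 = n54424 := d29_2 (iv F240672) D55250 F243444
def n55251 : Q := act 2 n53664
theorem D55251 : act 2 n53664 = n55251 := rfl
theorem F247990 : act 0 n55251 = n53815 := d1_1 D55251 (iv D53815) (iv F240673)
theorem F247991 : act 3 n55251 = n53666 := d17_2 D53664 D55251 (iv D53666) (iv D51826) (iv F232347)
theorem F247992 : act 4 n55251 = n53948 := d18_2 (iv F240674) D55251 F241920
theorem F247993 : act 6 n55251 = n53667 := d20_2 (iv F240675) D55251 (iv D53667)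
theorem F247994 : act 8 n55251 = n55251 := d22_2 F240676 D55251 (iv D55251)
theorem F247995 : act 9 n55251 = n53981 := d23_2 (iv F240677) D55251 F242054
def n55252 : Q := act 2 n53665
theorem D55252 : act 2 n53665 = n55252 := rfl
theorem F247996 : act 0 n55252 = n53820 := d1_1 D55252 (iv D53820) (iv F240678)
theorem F247997 : act 5 n55252 = n53666 := d19_2 (iv F240679) D55252 (iv D53666)
theorem F247998 : act 8 n55252 = n53671 := d22_2 (iv F240680) D55252 (iv D53671)
def n55253 : Q := act 4 n53665
theorem D55253 : act 4 n53665 = n55253 := rfl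
theorem F247999 : act 0 n55253 = n53821 := d3_1 D55253 (iv D53821) (iv F240678)
theorem F248000 : act 8 n55253 = n53672 := d33_2 (iv F240680) D55253 (iv D53672)
def n55254 : Q := act 3 n53668
theorem D55254 : act 3 n53668 = n55254 := rfl
theorem F248001 : act 0 n55254 = n53832 := d2_1 D55254 (iv D53832) (iv F240690)
theorem F248002 : act 5 n55254 = n55254 := d25_2 F240692 D55254 (iv D55254)
theorem F248003 : act 6 n55254 = n53669 := d26_2 (iv F240693) D55254 (iv D53669)
theorem F248004 : act 9 n55254 = n55254 := d29_2 F240694 D55254 (iv D55254)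
def n55255 : Q := act 2 n53669
theorem D55255 : act 2 n53669 = n55255 := rfl
theorem F248005 : act 0 n55255 = n53833 := d1_1 D55255 (iv D53833) (iv F240695)
theorem F248006 : act 3 n55255 = n55255 := d17_2 D53669 D55255 (iv D55255) (iv D53669) F232369
theorem F248007 : act 5 n55255 = n53670 := d19_2 (iv F240696) D55255 (iv D53670)
theorem F248008 : act 7 n55255 = n53671 := d21_2 (iv F240697) D55255 (iv D53671)
theorem F248009 : act 9 n55255 = n55255 := d23_2 F240698 D55255 (iv D55255)
def n55256 : Q := act 4 n53669
theorem D55256 : act 4 n53669 = n55256 := rfl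
theorem F248010 : act 0 n55256 = n53834 := d3_1 D55256 (iv D53834) (iv F240695)
theorem F248011 : act 7 n55256 = n53672 := d32_2 (iv F240697) D55256 (iv D53672)
theorem F248012 : act 9 n55256 = n55256 := d34_2 F240698 D55256 (iv D55256)
def n55257 : Q := act 4 n53671
theorem D55257 : act 4 n53671 = n55257 := rfl
theorem F248013 : act 0 n55257 = n53840 := d3_1 D55257 (iv D53840) (iv F240705)
theorem F248014 : act 2 n55257 = n53672 := d18_1 D55257 (iv D53672) D53671
theorem F248015 : act 9 n55257 = n55257 := d34_2 F240708 D55257 (iv D55257)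
def n55258 : Q := act 8 n53674
theorem D55258 : act 8 n53674 = n55258 := rfl
theorem F248016 : act 0 n55258 = n53846 := d7_1 D55258 (iv D53846) (iv F240719)
theorem F248017 : act 1 n55258 = n54445 := d15_1 D55258 (iv D54445) (iv F240720)
theorem F248018 : act 3 n55258 = n54442 := d28_1 D55258 (iv D54442) F235643 (iv F232416) (iv F240721)
theorem F248019 : act 5 n55258 = n55258 := d37_1 D55258 (iv D55258) F240722
theorem F248020 : act 7 n55258 = n53680 := d42_1 D55258 (iv D53680) (iv F240723)
theorem F248021 : act 9 n55258 = n54444 := d44_2 D53674 D55258 (iv D54444) (iv D52717) (iv F232409)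
def n55259 : Q := act 9 n53675
theorem D55259 : act 9 n53675 = n55259 := rfl
theorem F248022 : act 0 n55259 = n53678 := d8_1 D55259 (iv D53678) (iv F240724)
theorem F248023 : act 1 n55259 = n53700 := d16_1 D55259 (iv D53700) (iv F240725)
theorem F248024 : act 3 n55259 = n53676 := d29_1 D55259 (iv D53676) D53675
theorem F248025 : act 5 n55259 = n55259 := d38_1 D55259 (iv D55259) F240726
theorem F248026 : act 6 n55259 = n53705 := d41_1 D55259 (iv D53705) (iv F240727)
theorem F248027 : act 7 n55259 = n53867 := d43_1 D55259 F241536 (iv F240728)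
def n55260 : Q := act 9 n53677
theorem D55260 : act 9 n53677 = n55260 := rfl
theorem F248028 : act 1 n55260 = n53800 := d16_1 D55260 (iv D53800) (iv F240738)
theorem F248029 : act 2 n55260 = n53678 := d23_1 D55260 (iv D53678) D53677
theorem F248030 : act 3 n55260 = n55260 := d29_1 D55260 (iv D55260) F240739
theorem F248031 : act 5 n55260 = n55260 := d38_1 D55260 (iv D55260) F240740
theorem F248032 : act 6 n55260 = n53796 := d41_1 D55260 (iv D53796) (iv F240741)
theorem F248033 : act 7 n55260 = n54438 := d43_1 D55260 (iv D54438) (iv F240742)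
def n55261 : Q := act 8 n53678
theorem D55261 : act 8 n53678 = n55261 := rfl
theorem F248034 : act 1 n55261 = n53680 := d15_1 D55261 (iv D53680) (iv F240744)
theorem F248035 : act 3 n55261 = n54444 := d28_1 D55261 (iv D54444) F235649 (iv F232442) (iv F240745)
theorem F248036 : act 5 n55261 = n55261 := d37_1 D55261 (iv D55261) F240746
theorem F248037 : act 6 n55261 = n54317 := d40_1 D55261 (iv D54317) (iv F240747)
theorem F248038 : act 7 n55261 = n54445 := d42_1 D55261 (iv D54445) (iv F240748)
theorem F248039 : act 9 n55261 = n54442 := d44_2 D53678 D55261 (iv D54442) (iv D52715) (iv F232435)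
def n55262 : Q := act 8 n53679
theorem D55262 : act 8 n53679 = n55262 := rfl
theorem F248040 : act 0 n55262 = n53850 := d7_1 D55262 (iv D53850) (iv F240749)
theorem F248041 : act 1 n55262 = n54442 := d15_1 D55262 (iv D54442) (iv F240750)
theorem F248042 : act 3 n55262 = n54445 := d28_1 D55262 (iv D54445) F235651 (iv F233111) (iv F240751)
theorem F248043 : act 5 n55262 = n55262 := d37_1 D55262 (iv D55262) F240752
theorem F248044 : act 6 n55262 = n54318 := d40_1 D55262 (iv D54318) (iv F240753)
theorem F248045 : act 7 n55262 = n54444 := d42_1 D55262 (iv D54444) (iv F240754)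
theorem F248046 : act 9 n55262 = n53680 := d44_2 D53679 D55262 (iv D53680) (iv D51844) D51843
def n55263 : Q := act 9 n53681
theorem D55263 : act 9 n53681 = n55263 := rfl
theorem F248047 : act 0 n55263 = n54266 := d8_1 D55263 (iv D54266) (iv F240759)
theorem F248048 : act 1 n55263 = n54355 := d16_1 D55263 (iv D54355) (iv F240760)
theorem F248049 : act 3 n55263 = n53702 := d29_1 D55263 (iv D53702) (iv F240761)
theorem F248050 : act 4 n55263 = n53682 := d34_1 D55263 (iv D53682) D53681
theorem F248051 : act 6 n55263 = n53687 := d41_1 D55263 (iv D53687) (iv F240762)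
theorem F248052 : act 7 n55263 = n54028 := d43_1 D55263 (iv D54028) (iv F240763)
def n55264 : Q := act 8 n53682
theorem D55264 : act 8 n53682 = n55264 := rfl
theorem F248053 : act 0 n55264 = n54267 := d7_1 D55264 (iv D54267) (iv F240765)
theorem F248054 : act 1 n55264 = n54367 := d15_1 D55264 (iv D54367) (iv F240766)
theorem F248055 : act 5 n55264 = n54038 := d37_1 D55264 (iv D54038) (iv F240768)
theorem F248056 : act 6 n55264 = n53688 := d40_1 D55264 (iv D53688) (iv F240769)
theorem F248057 : act 7 n55264 = n54037 := d42_1 D55264 (iv D54037) (iv F240770)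
theorem F248058 : act 9 n55264 = n54097 := d44_2 D53682 D55264 (iv D54097) (iv D52286) (iv F232458)
def n55265 : Q := act 4 n53683
theorem D55265 : act 4 n53683 = n55265 := rfl
theorem F248059 : act 0 n55265 = n53963 := d3_1 D55265 F241983 (iv F240771)
theorem F248060 : act 1 n55265 = n53684 := d11_1 D55265 (iv D53684) D53683
theorem F248061 : act 3 n55265 = n53718 := d24_1 D55265 F240914 F232599 (iv F233114) (iv F240772)
theorem F248062 : act 6 n55265 = n53715 := d31_2 (iv F240774) D55265 F240899
theorem F248063 : act 7 n55265 = n53690 := d32_2 (iv F240775) D55265 (iv D53690)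
theorem F248064 : act 5 n54346 = n55265 := d35_5 F248062 (iv D53715) F232536 D52602 D54346
def n55266 : Q := act 9 n53683
theorem D55266 : act 9 n53683 = n55266 := rfl
theorem F248065 : act 0 n55266 = n53990 := d8_1 D55266 (iv D53990) (iv F240771)
theorem F248066 : act 1 n55266 = n53685 := d16_1 D55266 (iv D53685) D53683
theorem F248067 : act 3 n55266 = n53856 := d29_1 D55266 (iv D53856) (iv F240772)
theorem F248068 : act 5 n55266 = n55266 := d38_1 D55266 (iv D55266) F240773
theorem F248069 : act 6 n55266 = n54409 := d41_1 D55266 (iv D54409) (iv F240774)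
theorem F248070 : act 7 n55266 = n53691 := d43_1 D55266 (iv D53691) (iv F240775)
def n55267 : Q := act 5 n53684
theorem D55267 : act 5 n53684 = n55267 := rfl
theorem F248071 : act 0 n55267 = n54058 := d4_1 D55267 (iv D54058) (iv F240776)
theorem F248072 : act 1 n55267 = n54346 := d12_1 D55267 F248064 F248060
theorem F248073 : act 2 n55267 = n53686 := d19_1 D55267 (iv D53686) (iv F240777)
theorem F248074 : act 3 n55267 = n54055 := d25_1 D55267 (iv D54055) (iv F240778)
theorem F248075 : act 4 n55267 = n55267 := d30_1 D55267 (iv D55267) (iv D53684) F232468 D53684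
theorem F248076 : act 6 n55267 = n54342 := d35_2 F245355 D55267 (iv D54342) (iv F240887) (iv F245354)
theorem F248077 : act 7 n55267 = n53693 := d36_2 (iv F240779) D55267 (iv D53693)
def n55268 : Q := act 9 n53684
theorem D55268 : act 9 n53684 = n55268 := rfl
theorem F248078 : act 0 n55268 = n54060 := d8_1 D55268 (iv D54060) (iv F240776)
theorem F248079 : act 2 n55268 = n53687 := d23_1 D55268 (iv D53687) (iv F240777)
theorem F248080 : act 3 n55268 = n54056 := d29_1 D55268 (iv D54056) (iv F240778)
theorem F248081 : act 4 n55268 = n53685 := d34_1 D55268 (iv D53685) D53684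
theorem F248082 : act 7 n55268 = n53694 := d43_1 D55268 (iv D53694) (iv F240779)
def n55269 : Q := act 8 n53685
theorem D55269 : act 8 n53685 = n55269 := rfl
theorem F248083 : act 0 n55269 = n54110 := d7_1 D55269 (iv D54110) (iv F240780)
theorem F248084 : act 2 n55269 = n53688 := d22_1 D55269 (iv D53688) (iv F240781)
theorem F248085 : act 5 n55269 = n55269 := d37_1 D55269 (iv D55269) F240783
theorem F248086 : act 7 n55269 = n53695 := d42_1 D55269 (iv D53695) (iv F240784)
def n55270 : Q := act 6 n53686
theorem D55270 : act 6 n53686 = n55270 := rfl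
theorem F248087 : act 2 n55270 = n54342 := d20_1 D55270 (iv F248076) F248073
theorem F248088 : act 3 n55270 = n53709 := d26_1 D55270 (iv D53709) (iv F240785)
theorem F248089 : act 4 n55270 = n55270 := d31_1 D55270 (iv D55270) F240786
theorem F248090 : act 5 n55270 = n54341 := d35_1 D55270 (iv F245176) F245175 F240762 D53686
def n55271 : Q := act 9 n53686
theorem D55271 : act 9 n53686 = n55271 := rfl
theorem F248091 : act 3 n55271 = n53710 := d29_1 D55271 (iv D53710) (iv F240785)
theorem F248092 : act 4 n55271 = n55271 := d34_1 D55271 (iv D55271) F240786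
theorem F248093 : act 5 n55271 = n53687 := d38_1 D55271 (iv D53687) D53686
theorem F248094 : act 7 n55271 = n53697 := d43_1 D55271 (iv D53697) (iv F240787)
def n55272 : Q := act 8 n53687
theorem D55272 : act 8 n53687 = n55272 := rfl
theorem F248095 : act 4 n55272 = n53688 := d33_1 D55272 (iv D53688) (iv F240789)
theorem F248096 : act 7 n55272 = n53698 := d42_1 D55272 (iv D53698) (iv F240790)
def n55273 : Q := act 4 n53689
theorem D55273 : act 4 n53689 = n55273 := rfl
theorem F248097 : act 0 n55273 = n53690 := d3_1 D55273 (iv D53690) D53689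
theorem F248098 : act 1 n55273 = n53957 := d11_1 D55273 F241957 (iv F240793)
theorem F248099 : act 3 n55273 = n53955 := d24_1 D55273 (iv D53955) F233803 F233136 (iv F240794)
theorem F248100 : act 6 n55273 = n54319 := d31_2 (iv F240796) D55273 (iv D54319)
theorem F248101 : act 7 n55273 = n53963 := d32_2 (iv F240797) D55273 F241983
def n55274 : Q := act 9 n53689
theorem D55274 : act 9 n53689 = n55274 := rfl
theorem F248102 : act 0 n55274 = n53691 := d8_1 D55274 (iv D53691) D53689
theorem F248103 : act 1 n55274 = n53986 := d16_1 D55274 (iv D53986) (iv F240793)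
theorem F248104 : act 3 n55274 = n53858 := d29_1 D55274 (iv D53858) (iv F240794)
theorem F248105 : act 5 n55274 = n55274 := d38_1 D55274 (iv D55274) F240795
theorem F248106 : act 6 n55274 = n54320 := d41_1 D55274 (iv D54320) (iv F240796)
theorem F248107 : act 7 n55274 = n53990 := d43_1 D55274 (iv D53990) (iv F240797)
def n55275 : Q := act 3 n53690
theorem D55275 : act 3 n53690 = n55275 := rfl
theorem F248108 : act 0 n55275 = n53955 := d2_1 D55275 (iv F248099) F248097
theorem F248109 : act 1 n55275 = n53692 := d10_1 D55275 (iv D53692) (iv F240798)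
theorem F248110 : act 4 n55275 = n53733 := d24_2 D53690 D55275 F240980 (iv D52012) (iv F232475)
theorem F248111 : act 6 n55275 = n54321 := d26_2 (iv F240799) D55275 (iv D54321)
theorem F248112 : act 7 n55275 = n53718 := d27_2 F248063 D55275 (iv F248061)
theorem F248113 : act 2 n55275 = n53721 := d46_4 F239531 F232476 D53690 D55275 (iv F245171) F245170 (iv F244896) F244894 (iv D53524) (iv D51678) F222303 F222302 F212242 (iv D42885) F124878 F87242 F61092 F61091 F42981 F30333 D9601 (iv F60772) (iv F86749) D29244 D42611 D47245 (iv F217609) F217616 F217614 (iv F217711) F217710 (iv F223804) F223803 (iv D48567) F192299 F133961 F93497 F93496 F65427 (iv D10316) F32377 (iv F45495) (iv F64810) D21583 D31459 (iv F189308) (iv F215992) (iv F223616) (iv D49925) (iv F213432) F191831 F191830 (iv F209382) F209381 F176437 D42245 (iv F209724) (iv F219527) D51136 D53013 D54679 F244979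
theorem F248114 : act 5 n54351 = n55275 := d19_0 F248113 F240927 (iv F243244)
theorem F248115 : act 8 n53786 = n55275 := d22_0 F248113 F240928 (iv F241189)
def n55276 : Q := act 5 n53690
theorem D55276 : act 5 n53690 = n55276 := rfl
theorem F248116 : act 1 n55276 = n53693 := d12_1 D55276 (iv D53693) (iv F240798)
theorem F248117 : act 3 n55276 = n54351 := d25_1 D55276 F248114 (iv D55275)
theorem F248118 : act 4 n55276 = n55276 := d30_1 D55276 (iv D55276) (iv D53690) F232476 D53690
theorem F248119 : act 7 n55276 = n54346 := d36_2 F248063 D55276 F248064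
def n55277 : Q := act 9 n53690
theorem D55277 : act 9 n53690 = n55277 := rfl
theorem F248120 : act 1 n55277 = n53694 := d16_1 D55277 (iv D53694) (iv F240798)
theorem F248121 : act 4 n55277 = n53691 := d34_1 D55277 (iv D53691) D53690
theorem F248122 : act 6 n55277 = n54322 := d41_1 D55277 (iv D54322) (iv F240799)
def n55278 : Q := act 8 n53691
theorem D55278 : act 8 n53691 = n55278 := rfl
theorem F248123 : act 1 n55278 = n53695 := d15_1 D55278 (iv D53695) (iv F240800)
theorem F248124 : act 5 n55278 = n55278 := d37_1 D55278 (iv D55278) F240802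
theorem F248125 : act 6 n55278 = n54323 := d40_1 D55278 (iv D54323) (iv F240803)
def n55279 : Q := act 5 n53692
theorem D55279 : act 5 n53692 = n55279 := rfl
theorem F248126 : act 0 n55279 = n54044 := d4_1 D55279 (iv D54044) (iv F240804)
theorem F248127 : act 1 n55279 = n54351 := d12_1 D55279 F248114 F248109
theorem F248128 : act 2 n55279 = n53715 := d19_1 D55279 (iv D53715) (iv F240805)
theorem F248129 : act 3 n55279 = n53693 := d25_1 D55279 (iv D53693) D53692
theorem F248130 : act 4 n55279 = n54079 := d30_1 D55279 (iv D54079) (iv D52265) (iv F233150) (iv F240806)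
theorem F248131 : act 7 n55279 = n54055 := d36_2 (iv F240808) D55279 (iv D54055)
theorem F248132 : act 8 n54319 = n55279 := d42_0 F248131 F242377 (iv F243161)
def n55280 : Q := act 8 n53692
theorem D55280 : act 8 n53692 = n55280 := rfl
theorem F248133 : act 0 n55280 = n54012 := d7_1 D55280 F242208 (iv F240804)
theorem F248134 : act 1 n55280 = n53786 := d15_1 D55280 F248115 F248109
theorem F248135 : act 2 n55280 = n53716 := d22_1 D55280 (iv D53716) (iv F240805)
theorem F248136 : act 4 n55280 = n53808 := d33_1 D55280 F241274 (iv F240806)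
theorem F248137 : act 5 n55280 = n54319 := d37_1 D55280 F248132 (iv D55279)
theorem F248138 : act 6 n55280 = n54324 := d40_1 D55280 (iv D54324) (iv F240807)
theorem F248139 : act 7 n55280 = n53777 := d42_1 D55280 F241165 (iv F240808)
def n55281 : Q := act 9 n53692
theorem D55281 : act 9 n53692 = n55281 := rfl
theorem F248140 : act 0 n55281 = n54045 := d8_1 D55281 (iv D54045) (iv F240804)
theorem F248141 : act 2 n55281 = n53717 := d23_1 D55281 (iv D53717) (iv F240805)
theorem F248142 : act 3 n55281 = n53694 := d29_1 D55281 (iv D53694) D53692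
theorem F248143 : act 4 n55281 = n53861 := d34_1 D55281 (iv D53861) (iv F240806)
theorem F248144 : act 6 n55281 = n54325 := d41_1 D55281 (iv D54325) (iv F240807)
theorem F248145 : act 7 n55281 = n54056 := d43_1 D55281 (iv D54056) (iv F240808)
def n55282 : Q := act 6 n53693
theorem D55282 : act 6 n53693 = n55282 := rfl
theorem F248146 : act 2 n55282 = n53696 := d20_1 D55282 (iv D53696) (iv F240809)
theorem F248147 : act 4 n55282 = n55282 := d31_1 D55282 (iv D55282) F240810
theorem F248148 : act 5 n55282 = n54008 := d35_1 D55282 F242190 F234072 (iv F232479) D53693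
theorem F248149 : act 8 n55282 = n54039 := d40_2 F246941 D55282 (iv F246940)
def n55283 : Q := act 9 n53693
theorem D55283 : act 9 n53693 = n55283 := rfl
theorem F248150 : act 2 n55283 = n53697 := d23_1 D55283 (iv D53697) (iv F240809)
theorem F248151 : act 4 n55283 = n55283 := d34_1 D55283 (iv D55283) F240810
theorem F248152 : act 5 n55283 = n53694 := d38_1 D55283 (iv D53694) D53693
def n55284 : Q := act 8 n53694
theorem D55284 : act 8 n53694 = n55284 := rfl
theorem F248153 : act 2 n55284 = n53698 := d22_1 D55284 (iv D53698) (iv F240811)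
theorem F248154 : act 4 n55284 = n53695 := d33_1 D55284 (iv D53695) (iv F240812)
theorem F248155 : act 6 n55284 = n54326 := d40_1 D55284 (iv D54326) (iv F240813)
def n55285 : Q := act 3 n53695
theorem D55285 : act 3 n53695 = n55285 := rfl
theorem F248156 : act 5 n55285 = n55285 := d25_2 F240815 D55285 (iv D55285)
theorem F248157 : act 6 n55285 = n54327 := d26_2 (iv F240816) D55285 (iv D54327)
theorem F248158 : act 8 n55285 = n53863 := d28_2 D53695 D55285 (iv D53863) (iv D52016) (iv F232481)
def n55286 : Q := act 9 n53696
theorem D55286 : act 9 n53696 = n55286 := rfl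
theorem F248159 : act 1 n55286 = n54332 := d16_1 D55286 (iv D54332) (iv F240817)
theorem F248160 : act 3 n55286 = n53722 := d29_1 D55286 (iv D53722) (iv F240818)
theorem F248161 : act 4 n55286 = n55286 := d34_1 D55286 (iv D55286) F240819
theorem F248162 : act 5 n55286 = n54010 := d38_1 D55286 (iv D54010) (iv F240820)
theorem F248163 : act 6 n55286 = n53697 := d41_1 D55286 (iv D53697) D53696
def n55287 : Q := act 8 n53697
theorem D55287 : act 8 n53697 = n55287 := rfl
theorem F248164 : act 4 n55287 = n55287 := d33_1 D55287 (iv D55287) F240823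
theorem F248165 : act 5 n55287 = n53698 := d37_1 D55287 (iv D53698) (iv F240824)
def n55288 : Q := act 3 n53698
theorem D55288 : act 3 n53698 = n55288 := rfl
theorem F248166 : act 6 n55288 = n54328 := d26_2 (iv F240826) D55288 (iv D54328)
theorem F248167 : act 8 n55288 = n53724 := d28_2 D53698 D55288 (iv D53724) (iv D51873) (iv F232486)
def n55289 : Q := act 9 n53699
theorem D55289 : act 9 n53699 = n55289 := rfl
theorem F248168 : act 0 n55289 = n53776 := d8_1 D55289 (iv D53776) (iv F240827)
theorem F248169 : act 2 n55289 = n53702 := d23_1 D55289 (iv D53702) (iv F240828)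
theorem F248170 : act 3 n55289 = n53773 := d29_1 D55289 (iv D53773) (iv F240829)
theorem F248171 : act 4 n55289 = n53700 := d34_1 D55289 (iv D53700) D53699
theorem F248172 : act 6 n55289 = n53707 := d41_1 D55289 (iv D53707) (iv F240830)
theorem F248173 : act 7 n55289 = n54330 := d43_1 D55289 (iv D54330) (iv F240831)
def n55290 : Q := act 8 n53700
theorem D55290 : act 8 n53700 = n55290 := rfl
theorem F248174 : act 0 n55290 = n53848 := d7_1 D55290 (iv D53848) (iv F240833)
theorem F248175 : act 2 n55290 = n53703 := d22_1 D55290 (iv D53703) (iv F240834)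
theorem F248176 : act 3 n55290 = n54301 := d28_1 D55290 (iv D54301) F235171 (iv F233017) (iv F240835)
theorem F248177 : act 5 n55290 = n55290 := d37_1 D55290 (iv D55290) F240836
theorem F248178 : act 6 n55290 = n53708 := d40_1 D55290 (iv D53708) (iv F240837)
theorem F248179 : act 7 n55290 = n54331 := d42_1 D55290 (iv D54331) (iv F240838)
theorem F248180 : act 9 n55290 = n53752 := d44_2 D53700 D55290 (iv D53752) (iv D51899) (iv F232496)
def n55291 : Q := act 6 n53701
theorem D55291 : act 6 n53701 = n55291 := rfl
theorem F248181 : act 2 n55291 = n54018 := d20_1 D55291 (iv F245121) (iv F245123)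
theorem F248182 : act 3 n55291 = n54341 := d26_1 D55291 (iv F245176) F245173
theorem F248183 : act 4 n55291 = n55291 := d31_1 D55291 (iv D55291) F240839
theorem F248184 : act 5 n55291 = n53709 := d35_1 D55291 (iv D53709) (iv D51862) (iv F232497) D53701
theorem F248185 : act 8 n55291 = n53753 := d40_2 (iv F240841) D55291 (iv D53753)
def n55292 : Q := act 9 n53701
theorem D55292 : act 9 n53701 = n55292 := rfl
theorem F248186 : act 4 n55292 = n55292 := d34_1 D55292 (iv D55292) F240839
theorem F248187 : act 5 n55292 = n53702 := d38_1 D55292 (iv D53702) D53701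
theorem F248188 : act 7 n55292 = n54332 := d43_1 D55292 (iv D54332) (iv F240840)
def n55293 : Q := act 8 n53702
theorem D55293 : act 8 n53702 = n55293 := rfl
theorem F248189 : act 4 n55293 = n53703 := d33_1 D55293 (iv D53703) (iv F240842)
theorem F248190 : act 6 n55293 = n53711 := d40_1 D55293 (iv D53711) (iv F240843)
theorem F248191 : act 7 n55293 = n54333 := d42_1 D55293 (iv D54333) (iv F240844)
theorem F248192 : act 9 n55293 = n53755 := d44_2 D53702 D55293 (iv D53755) (iv D51901) (iv F232499)
def n55294 : Q := act 9 n53704
theorem D55294 : act 9 n53704 = n55294 := rfl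
theorem F248193 : act 0 n55294 = n54310 := d8_1 D55294 (iv D54310) (iv F240849)
theorem F248194 : act 1 n55294 = n53707 := d16_1 D55294 (iv D53707) (iv F240850)
theorem F248195 : act 3 n55294 = n54308 := d29_1 D55294 (iv D54308) (iv F240851)
theorem F248196 : act 4 n55294 = n53705 := d34_1 D55294 (iv D53705) D53704
theorem F248197 : act 7 n55294 = n53713 := d43_1 D55294 (iv D53713) (iv F240852)
def n55295 : Q := act 8 n53705
theorem D55295 : act 8 n53705 = n55295 := rfl
theorem F248198 : act 0 n55295 = n54317 := d7_1 D55295 (iv D54317) (iv F240854)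
theorem F248199 : act 1 n55295 = n53708 := d15_1 D55295 (iv D53708) (iv F240855)
theorem F248200 : act 3 n55295 = n54305 := d28_1 D55295 (iv D54305) F235185 (iv F233177) (iv F240856)
theorem F248201 : act 5 n55295 = n53725 := d37_1 D55295 (iv D53725) (iv F240857)
theorem F248202 : act 7 n55295 = n53714 := d42_1 D55295 (iv D53714) (iv F240858)
theorem F248203 : act 9 n55295 = n53761 := d44_2 D53705 D55295 (iv D53761) (iv D51905) (iv F232508)
def n55296 : Q := act 6 n53706
theorem D55296 : act 6 n53706 = n55296 := rfl
theorem F248204 : act 0 n55296 = n54388 := d5_1 D55296 (iv D54388) (iv F240859)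
theorem F248205 : act 1 n55296 = n54022 := d13_1 D55296 (iv F245300) F245296
theorem F248206 : act 2 n55296 = n53709 := d20_1 D55296 (iv D53709) (iv F240860)
theorem F248207 : act 3 n55296 = n54019 := d26_1 D55296 F242237 (iv F240861)
theorem F248208 : act 4 n55296 = n53726 := d31_1 D55296 (iv D53726) (iv F240862)
theorem F248209 : act 5 n55296 = n54018 := d35_1 D55296 (iv F245121) F245120 F240830 D53706
theorem F248210 : act 7 n55296 = n54321 := d39_2 (iv F240863) D55296 (iv F248111) F248112 (iv D53718)
theorem F248211 : act 8 n55296 = n53765 := d40_2 (iv F240864) D55296 (iv D53765)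
def n55297 : Q := act 9 n53706
theorem D55297 : act 9 n53706 = n55297 := rfl
theorem F248212 : act 0 n55297 = n54389 := d8_1 D55297 (iv D54389) (iv F240859)
theorem F248213 : act 2 n55297 = n53710 := d23_1 D55297 (iv D53710) (iv F240860)
theorem F248214 : act 3 n55297 = n54386 := d29_1 D55297 (iv D54386) (iv F240861)
theorem F248215 : act 4 n55297 = n53727 := d34_1 D55297 (iv D53727) (iv F240862)
theorem F248216 : act 5 n55297 = n53707 := d38_1 D55297 (iv D53707) D53706
theorem F248217 : act 7 n55297 = n53719 := d43_1 D55297 (iv D53719) (iv F240863)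
def n55298 : Q := act 8 n53707
theorem D55298 : act 8 n53707 = n55298 := rfl
theorem F248218 : act 0 n55298 = n54381 := d7_1 D55298 F243340 (iv F240865)
theorem F248219 : act 2 n55298 = n53711 := d22_1 D55298 (iv D53711) (iv F240866)
theorem F248220 : act 4 n55298 = n53708 := d33_1 D55298 (iv D53708) (iv F240868)
theorem F248221 : act 7 n55298 = n53720 := d42_1 D55298 (iv D53720) (iv F240869)
theorem F248222 : act 9 n55298 = n53767 := d44_2 D53707 D55298 (iv D53767) (iv D51908) (iv F232513)
def n55299 : Q := act 7 n53709
theorem D55299 : act 7 n53709 = n55299 := rfl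
theorem F248223 : act 1 n55299 = n54341 := d14_1 D55299 F245106 F245102
theorem F248224 : act 2 n55299 = n54321 := d21_1 D55299 (iv F248210) F248206
theorem F248225 : act 4 n55299 = n53729 := d32_1 D55299 (iv D53729) (iv F240876)
theorem F248226 : act 6 n55299 = n53721 := d39_1 D55299 (iv D53721) (iv D51871) (iv F232520) D53709
theorem F248227 : act 8 n55299 = n53769 := d42_2 (iv F240877) D55299 (iv D53769)
def n55300 : Q := act 9 n53709
theorem D55300 : act 9 n53709 = n55300 := rfl
theorem F248228 : act 4 n55300 = n53730 := d34_1 D55300 (iv D53730) (iv F240876)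
theorem F248229 : act 6 n55300 = n53710 := d41_1 D55300 (iv D53710) D53709
def n55301 : Q := act 8 n53710
theorem D55301 : act 8 n53710 = n55301 := rfl
theorem F248230 : act 4 n55301 = n53731 := d33_1 D55301 (iv D53731) (iv F240878)
theorem F248231 : act 5 n55301 = n53711 := d37_1 D55301 (iv D53711) (iv F240879)
theorem F248232 : act 7 n55301 = n53723 := d42_1 D55301 (iv D53723) (iv F240880)
theorem F248233 : act 9 n55301 = n53771 := d44_2 D53710 D55301 (iv D53771) (iv D51911) (iv F232521)
def n55302 : Q := act 3 n53711
theorem D55302 : act 3 n53711 = n55302 := rfl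
theorem F248234 : act 7 n55302 = n53724 := d27_2 (iv F240882) D55302 (iv D53724)
theorem F248235 : act 9 n55302 = n53772 := d29_2 (iv F240883) D55302 (iv D53772)
def n55303 : Q := act 9 n53712
theorem D55303 : act 9 n53712 = n55303 := rfl
theorem F248236 : act 0 n55303 = n54304 := d8_1 D55303 (iv D54304) (iv F240884)
theorem F248237 : act 1 n55303 = n53717 := d16_1 D55303 (iv D53717) (iv F240885)
theorem F248238 : act 3 n55303 = n53713 := d29_1 D55303 (iv D53713) D53712
theorem F248239 : act 4 n55303 = n53864 := d34_1 D55303 (iv D53864) (iv F240886)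
theorem F248240 : act 6 n55303 = n54343 := d41_1 D55303 (iv D54343) (iv F240887)
theorem F248241 : act 7 n55303 = n54308 := d43_1 D55303 (iv D54308) (iv F240888)
def n55304 : Q := act 8 n53713
theorem D55304 : act 8 n53713 = n55304 := rfl
theorem F248242 : act 1 n55304 = n53720 := d15_1 D55304 (iv D53720) (iv F240889)
theorem F248243 : act 4 n55304 = n53714 := d33_1 D55304 (iv D53714) (iv F240890)
theorem F248244 : act 6 n55304 = n54345 := d40_1 D55304 (iv D54345) (iv F240891)
theorem F248245 : act 9 n55304 = n53779 := d44_2 D53713 D55304 (iv D53779) (iv D51917) (iv F232529)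
def n55305 : Q := act 8 n53715
theorem D55305 : act 8 n53715 = n55305 := rfl
theorem F248246 : act 0 n55305 = n54002 := d7_1 D55305 F242166 (iv F240897)
theorem F248247 : act 1 n55305 = n54070 := d15_1 D55305 F245357 F245351
theorem F248248 : act 2 n55305 = n54319 := d22_1 D55305 F248132 F248128
theorem F248249 : act 3 n55305 = n53782 := d28_1 D55305 (iv D53782) F232731 (iv F232541) (iv F240898)
theorem F248250 : act 4 n55305 = n54001 := d33_1 D55305 F242161 (iv F240899)
theorem F248251 : act 5 n55305 = n53716 := d37_1 D55305 (iv D53716) D53715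
theorem F248252 : act 7 n55305 = n54061 := d42_1 D55305 F242397 (iv F240900)
def n55306 : Q := act 9 n53715
theorem D55306 : act 9 n53715 = n55306 := rfl
theorem F248253 : act 0 n55306 = n54376 := d8_1 D55306 (iv D54376) (iv F240897)
theorem F248254 : act 3 n55306 = n53719 := d29_1 D55306 (iv D53719) (iv F240898)
theorem F248255 : act 4 n55306 = n54409 := d34_1 D55306 (iv D54409) (iv F240899)
theorem F248256 : act 5 n55306 = n53717 := d38_1 D55306 (iv D53717) D53715
theorem F248257 : act 7 n55306 = n54386 := d43_1 D55306 (iv D54386) (iv F240900)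
def n55307 : Q := act 9 n53716
theorem D55307 : act 9 n53716 = n55307 := rfl
theorem F248258 : act 0 n55307 = n54334 := d8_1 D55307 (iv D54334) (iv F240901)
theorem F248259 : act 3 n55307 = n53784 := d29_1 D55307 (iv D53784) (iv F240902)
theorem F248260 : act 4 n55307 = n53865 := d34_1 D55307 (iv D53865) (iv F240903)
theorem F248261 : act 6 n55307 = n54349 := d41_1 D55307 (iv D54349) (iv F240904)
theorem F248262 : act 7 n55307 = n54339 := d43_1 D55307 (iv D54339) (iv F240905)
def n55308 : Q := act 8 n53717
theorem D55308 : act 8 n53717 = n55308 := rfl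
theorem F248263 : act 0 n55308 = n54377 := d7_1 D55308 (iv D54377) (iv F240906)
theorem F248264 : act 4 n55308 = n53866 := d33_1 D55308 (iv D53866) (iv F240908)
theorem F248265 : act 6 n55308 = n54350 := d40_1 D55308 (iv D54350) (iv F240909)
theorem F248266 : act 7 n55308 = n54387 := d42_1 D55308 (iv D54387) (iv F240910)
def n55309 : Q := act 9 n53718
theorem D55309 : act 9 n53718 = n55309 := rfl
theorem F248267 : act 0 n55309 = n53964 := d8_1 D55309 (iv D53964) (iv F240911)
theorem F248268 : act 1 n55309 = n54056 := d16_1 D55309 (iv D54056) (iv F240912)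
theorem F248269 : act 2 n55309 = n53722 := d23_1 D55309 (iv D53722) (iv F240913)
theorem F248270 : act 4 n55309 = n53734 := d34_1 D55309 (iv D53734) (iv F240914)
theorem F248271 : act 5 n55309 = n54352 := d38_1 D55309 (iv D54352) (iv F240915)
theorem F248272 : act 6 n55309 = n53719 := d41_1 D55309 (iv D53719) D53718
def n55310 : Q := act 8 n53719
theorem D55310 : act 8 n53719 = n55310 := rfl
theorem F248273 : act 0 n55310 = n54404 := d7_1 D55310 F243391 (iv F240917)
theorem F248274 : act 2 n55310 = n53723 := d22_1 D55310 (iv D53723) (iv F240918)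
theorem F248275 : act 4 n55310 = n53735 := d33_1 D55310 (iv D53735) (iv F240919)
theorem F248276 : act 5 n55310 = n53720 := d37_1 D55310 (iv D53720) (iv F240920)
theorem F248277 : act 9 n55310 = n53788 := d44_2 D53719 D55310 (iv D53788) (iv D51923) (iv F232541)
def n55311 : Q := act 3 n53720
theorem D55311 : act 3 n53720 = n55311 := rfl
theorem F248278 : act 0 n55311 = n54403 := d2_1 D55311 F243389 (iv F240921)
theorem F248279 : act 4 n55311 = n54314 := d24_2 (iv F240923) D55311 (iv D54314) F235218 (iv F232548)
theorem F248280 : act 6 n55311 = n54354 := d26_2 (iv F240924) D55311 (iv D54354)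
theorem F248281 : act 9 n55311 = n53789 := d29_2 (iv F240925) D55311 (iv D53789)
def n55312 : Q := act 9 n53721
theorem D55312 : act 9 n53721 = n55312 := rfl
theorem F248282 : act 4 n55312 = n53737 := d34_1 D55312 (iv D53737) (iv F240926)
theorem F248283 : act 5 n55312 = n54355 := d38_1 D55312 (iv D54355) (iv F240927)
theorem F248284 : act 7 n55312 = n53722 := d43_1 D55312 (iv D53722) D53721
def n55313 : Q := act 8 n53722
theorem D55313 : act 8 n53722 = n55313 := rfl
theorem F248285 : act 4 n55313 = n53738 := d33_1 D55313 (iv D53738) (iv F240929)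
theorem F248286 : act 5 n55313 = n54356 := d37_1 D55313 (iv D54356) (iv F240930)
theorem F248287 : act 6 n55313 = n53723 := d40_1 D55313 (iv D53723) (iv F240931)
theorem F248288 : act 9 n55313 = n53792 := d44_2 D53722 D55313 (iv D53792) (iv D51927) (iv F232554)
def n55314 : Q := act 3 n53723
theorem D55314 : act 3 n53723 = n55314 := rfl
theorem F248289 : act 5 n55314 = n53724 := d25_2 (iv F240933) D55314 (iv D53724)
theorem F248290 : act 9 n55314 = n53793 := d29_2 (iv F240934) D55314 (iv D53793)
def n55315 : Q := act 2 n53724
theorem D55315 : act 2 n53724 = n55315 := rfl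
theorem F248291 : act 6 n55315 = n54358 := d20_2 (iv F240935) D55315 (iv D54358)
theorem F248292 : act 9 n55315 = n53794 := d23_2 (iv F240936) D55315 (iv D53794)
def n55316 : Q := act 9 n53726
theorem D55316 : act 9 n53726 = n55316 := rfl
theorem F248293 : act 0 n55316 = n54428 := d8_1 D55316 F243460 (iv F240943)
theorem F248294 : act 1 n55316 = n54432 := d16_1 D55316 (iv D54432) (iv F240944)
theorem F248295 : act 2 n55316 = n53730 := d23_1 D55316 (iv D53730) (iv F240945)
theorem F248296 : act 3 n55316 = n54430 := d29_1 D55316 (iv D54430) (iv F240946)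
theorem F248297 : act 5 n55316 = n55316 := d38_1 D55316 (iv D55316) F240947
theorem F248298 : act 6 n55316 = n53727 := d41_1 D55316 (iv D53727) D53726
theorem F248299 : act 7 n55316 = n54435 := d43_1 D55316 (iv D54435) F240949
def n55317 : Q := act 8 n53727
theorem D55317 : act 8 n53727 = n55317 := rfl
theorem F248300 : act 0 n55317 = n54415 := d7_1 D55317 F243422 (iv F240950)
theorem F248301 : act 2 n55317 = n53731 := d22_1 D55317 (iv D53731) (iv F240951)
theorem F248302 : act 5 n55317 = n53728 := d37_1 D55317 (iv D53728) (iv F240953)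
theorem F248303 : act 7 n55317 = n53735 := d42_1 D55317 (iv D53735) (iv F240954)
theorem F248304 : act 9 n55317 = n53801 := d44_2 D53727 D55317 (iv D53801) (iv D51935) (iv F232569)
def n55318 : Q := act 3 n53728
theorem D55318 : act 3 n53728 = n55318 := rfl
theorem F248305 : act 0 n55318 = n54414 := d2_1 D55318 F243416 (iv F240955)
theorem F248306 : act 4 n55318 = n53930 := d24_2 (iv F240957) D55318 (iv D53930) F233643 (iv F232578)
theorem F248307 : act 6 n55318 = n55318 := d26_2 F240958 D55318 (iv D55318)
theorem F248308 : act 7 n55318 = n53736 := d27_2 (iv F240959) D55318 (iv D53736)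
theorem F248309 : act 8 n55318 = n53938 := d28_2 D53728 D55318 F241877 F235716 (iv F232572)
theorem F248310 : act 9 n55318 = n53802 := d29_2 (iv F240960) D55318 (iv D53802)
theorem F248311 : act 2 n54087 = n55318 := d22_3 F248309 F241876 (iv F242480)
def n55319 : Q := act 9 n53729
theorem D55319 : act 9 n53729 = n55319 := rfl
theorem F248312 : act 1 n55319 = n54443 := d16_1 D55319 (iv D54443) (iv F240961)
theorem F248313 : act 2 n55319 = n54435 := d23_1 D55319 (iv D54435) (iv F240962)
theorem F248314 : act 3 n55319 = n55319 := d29_1 D55319 (iv D55319) F240963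
theorem F248315 : act 5 n55319 = n55319 := d38_1 D55319 (iv D55319) F240964
theorem F248316 : act 6 n55319 = n53737 := d41_1 D55319 (iv D53737) (iv F240965)
theorem F248317 : act 7 n55319 = n53730 := d43_1 D55319 (iv D53730) D53729
def n55320 : Q := act 8 n53730
theorem D55320 : act 8 n53730 = n55320 := rfl
theorem F248318 : act 5 n55320 = n55320 := d37_1 D55320 (iv D55320) F240968
theorem F248319 : act 6 n55320 = n53731 := d40_1 D55320 (iv D53731) (iv F240969)
theorem F248320 : act 9 n55320 = n53805 := d44_2 D53730 D55320 (iv D53805) (iv D51939) (iv F232584)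
def n55321 : Q := act 3 n53731
theorem D55321 : act 3 n53731 = n55321 := rfl
theorem F248321 : act 5 n55321 = n53732 := d25_2 (iv F240970) D55321 (iv D53732)
theorem F248322 : act 7 n55321 = n53739 := d27_2 (iv F240971) D55321 (iv D53739)
theorem F248323 : act 8 n55321 = n55321 := d28_2 D53731 D55321 (iv D55321) (iv D53731) F232585
theorem F248324 : act 9 n55321 = n53806 := d29_2 (iv F240972) D55321 (iv D53806)
def n55322 : Q := act 2 n53732
theorem D55322 : act 2 n53732 = n55322 := rfl
theorem F248325 : act 3 n55322 = n54087 := d17_2 D53732 D55322 F248311 (iv D55318) F240956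
theorem F248326 : act 4 n55322 = n54086 := d18_2 F247539 D55322 (iv F247538)
theorem F248327 : act 6 n55322 = n55322 := d20_2 F240973 D55322 (iv D55322)
theorem F248328 : act 7 n55322 = n53740 := d21_2 (iv F240974) D55322 (iv D53740)
theorem F248329 : act 8 n55322 = n55322 := d22_2 F240975 D55322 (iv D55322)
theorem F248330 : act 9 n55322 = n53807 := d23_2 (iv F240976) D55322 (iv D53807)
def n55323 : Q := act 9 n53733
theorem D55323 : act 9 n53733 = n55323 := rfl
theorem F248331 : act 0 n55323 = n53956 := d8_1 D55323 (iv D53956) (iv F240977)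
theorem F248332 : act 1 n55323 = n53861 := d16_1 D55323 (iv D53861) (iv F240978)
theorem F248333 : act 2 n55323 = n53737 := d23_1 D55323 (iv D53737) (iv F240979)
theorem F248334 : act 3 n55323 = n53859 := d29_1 D55323 (iv D53859) (iv F240980)
theorem F248335 : act 5 n55323 = n53741 := d38_1 D55323 (iv D53741) (iv F240981)
theorem F248336 : act 6 n55323 = n54435 := d41_1 D55323 (iv D54435) (iv F240982)
theorem F248337 : act 7 n55323 = n53734 := d43_1 D55323 (iv D53734) D53733
def n55324 : Q := act 8 n53734
theorem D55324 : act 8 n53734 = n55324 := rfl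
theorem F248338 : act 0 n55324 = n53965 := d7_1 D55324 (iv D53965) (iv F240984)
theorem F248339 : act 1 n55324 = n54057 := d15_1 D55324 (iv D54057) (iv F240985)
theorem F248340 : act 2 n55324 = n53738 := d22_1 D55324 (iv D53738) (iv F240986)
theorem F248341 : act 5 n55324 = n53742 := d37_1 D55324 (iv D53742) (iv F240988)
theorem F248342 : act 6 n55324 = n53735 := d40_1 D55324 (iv D53735) (iv F240989)
theorem F248343 : act 9 n55324 = n53813 := d44_2 D53734 D55324 (iv D53813) (iv D51948) (iv F232601)
def n55325 : Q := act 3 n53735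
theorem D55325 : act 3 n53735 = n55325 := rfl
theorem F248344 : act 0 n55325 = n54424 := d2_1 D55325 F243444 (iv F240990)
theorem F248345 : act 5 n55325 = n53736 := d25_2 (iv F240992) D55325 (iv D53736)
theorem F248346 : act 8 n55325 = n53939 := d28_2 D53735 D55325 F241883 F235720 (iv F232604)
theorem F248347 : act 9 n55325 = n53814 := d29_2 (iv F240993) D55325 (iv D53814)
theorem F248348 : act 2 n54096 = n55325 := d22_3 F248346 F241882 (iv F242514)
def n55326 : Q := act 8 n53737
theorem D55326 : act 8 n53737 = n55326 := rfl
theorem F248349 : act 5 n55326 = n53743 := d37_1 D55326 (iv D53743) (iv F241001)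
theorem F248350 : act 7 n55326 = n53738 := d42_1 D55326 (iv D53738) (iv F241002)
theorem F248351 : act 9 n55326 = n53818 := d44_2 D53737 D55326 (iv D53818) (iv D51952) (iv F232613)
def n55327 : Q := act 3 n53738
theorem D55327 : act 3 n53738 = n55327 := rfl
theorem F248352 : act 5 n55327 = n53744 := d25_2 (iv F241003) D55327 (iv D53744)
theorem F248353 : act 6 n55327 = n53739 := d26_2 (iv F241004) D55327 (iv D53739)
theorem F248354 : act 8 n55327 = n55327 := d28_2 D53738 D55327 (iv D55327) (iv D53738) F232614
theorem F248355 : act 9 n55327 = n53819 := d29_2 (iv F241005) D55327 (iv D53819)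
def n55328 : Q := act 2 n53739
theorem D55328 : act 2 n53739 = n55328 := rfl
theorem F248356 : act 3 n55328 = n54096 := d17_2 D53739 D55328 F248348 (iv D55325) F240991
theorem F248357 : act 5 n55328 = n53740 := d19_2 (iv F241006) D55328 (iv D53740)
theorem F248358 : act 8 n55328 = n55328 := d22_2 F241007 D55328 (iv D55328)
theorem F248359 : act 9 n55328 = n53820 := d23_2 (iv F241008) D55328 (iv D53820)
def n55329 : Q := act 4 n53739
theorem D55329 : act 4 n53739 = n55329 := rfl
theorem F248360 : act 8 n55329 = n55329 := d33_2 F241007 D55329 (iv D55329)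
theorem F248361 : act 9 n55329 = n53821 := d34_2 (iv F241008) D55329 (iv D53821)
def n55330 : Q := act 1 n53740
theorem D55330 : act 1 n53740 = n55330 := rfl
theorem F248362 : act 2 n55330 = n53826 := d9_2 D53740 D55330 F245266 (iv D54729) F237616
theorem F248363 : act 3 n55330 = n53829 := d10_2 (iv F241009) D55330 (iv F241350)
theorem F248364 : act 4 n55330 = n54092 := d11_2 (iv F241010) D55330 F242502
theorem F248365 : act 6 n55330 = n53746 := d13_2 (iv F241011) D55330 (iv D53746)
theorem F248366 : act 8 n55330 = n55330 := d15_2 F241012 D55330 (iv D55330)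
theorem F248367 : act 9 n55330 = n53822 := d16_2 (iv F241013) D55330 (iv D53822)
def n55331 : Q := act 8 n53741
theorem D55331 : act 8 n53741 = n55331 := rfl
theorem F248368 : act 0 n55331 = n53973 := d7_1 D55331 (iv D53973) (iv F241014)
theorem F248369 : act 1 n55331 = n54081 := d15_1 D55331 (iv D54081) (iv F241015)
theorem F248370 : act 2 n55331 = n53743 := d22_1 D55331 (iv D53743) (iv F241016)
theorem F248371 : act 4 n55331 = n54369 := d33_1 D55331 (iv D54369) (iv F241018)
theorem F248372 : act 6 n55331 = n55331 := d40_1 D55331 (iv D55331) F241019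
theorem F248373 : act 7 n55331 = n53742 := d42_1 D55331 (iv D53742) (iv F241020)
theorem F248374 : act 9 n55331 = n53825 := d44_2 D53741 D55331 (iv D53825) (iv D51960) (iv F232628)
def n55332 : Q := act 3 n53743
theorem D55332 : act 3 n53743 = n55332 := rfl
theorem F248375 : act 4 n55332 = n54447 := d24_2 (iv F241027) D55332 (iv D54447) (iv F237236) F237235
theorem F248376 : act 6 n55332 = n55332 := d26_2 F241028 D55332 (iv D55332)
theorem F248377 : act 7 n55332 = n53744 := d27_2 (iv F241029) D55332 (iv D53744)
theorem F248378 : act 8 n55332 = n55332 := d28_2 D53743 D55332 (iv D55332) (iv D53743) F232648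
theorem F248379 : act 9 n55332 = n53828 := d29_2 (iv F241030) D55332 (iv D53828)
def n55333 : Q := act 2 n53744
theorem D55333 : act 2 n53744 = n55333 := rfl
theorem F248380 : act 1 n55333 = n53815 := d9_1 D55333 (iv D53815) (iv F241283) (iv F245276) F245275
theorem F248381 : act 3 n55333 = n53822 := d17_2 D53744 D55333 (iv F245538) F245539 F241023
theorem F248382 : act 4 n55333 = n54035 := d18_2 F244847 D55333 (iv F244846)
theorem F248383 : act 6 n55333 = n53745 := d20_2 (iv F241031) D55333 (iv D53745)
theorem F248384 : act 8 n55333 = n55333 := d22_2 F241032 D55333 (iv D55333)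
theorem F248385 : act 9 n55333 = n53829 := d23_2 (iv F241033) D55333 (iv D53829)
def n55334 : Q := act 9 n53747
theorem D55334 : act 9 n53747 = n55334 := rfl
theorem F248386 : act 0 n55334 = n54336 := d8_1 D55334 (iv D54336) (iv F241048)
theorem F248387 : act 1 n55334 = n53751 := d16_1 D55334 (iv D53751) (iv F241049)
theorem F248388 : act 3 n55334 = n53847 := d29_1 D55334 F241428 (iv F241050)
theorem F248389 : act 4 n55334 = n53748 := d34_1 D55334 (iv D53748) D53747
theorem F248390 : act 6 n55334 = n53760 := d41_1 D55334 (iv D53760) (iv F241051)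
theorem F248391 : act 7 n55334 = n53853 := d43_1 D55334 F241455 (iv F241052)
def n55335 : Q := act 8 n53748
theorem D55335 : act 8 n53748 = n55335 := rfl
theorem F248392 : act 0 n55335 = n54442 := d7_1 D55335 (iv D54442) (iv F241053)
theorem F248393 : act 1 n55335 = n53752 := d15_1 D55335 (iv D53752) (iv F241054)
theorem F248394 : act 3 n55335 = n53846 := d28_1 D55335 (iv D53846) F233003 (iv F232962) (iv F241055)
theorem F248395 : act 5 n55335 = n55335 := d37_1 D55335 (iv D55335) F241056
theorem F248396 : act 6 n55335 = n53761 := d40_1 D55335 (iv D53761) (iv F241057)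
theorem F248397 : act 7 n55335 = n53851 := d42_1 D55335 F241444 (iv F241058)
def n55336 : Q := act 9 n53749
theorem D55336 : act 9 n53749 = n55336 := rfl
theorem F248398 : act 1 n55336 = n53847 := d16_1 D55336 F241428 (iv F241059)
theorem F248399 : act 3 n55336 = n53751 := d29_1 D55336 (iv D53751) D53749
theorem F248400 : act 4 n55336 = n53843 := d34_1 D55336 (iv D53843) (iv F241060)
theorem F248401 : act 6 n55336 = n53764 := d41_1 D55336 (iv D53764) (iv F241061)
theorem F248402 : act 7 n55336 = n53849 := d43_1 D55336 F241436 (iv F241062)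
def n55337 : Q := act 6 n53750
theorem D55337 : act 6 n53750 = n55337 := rfl
theorem F248403 : act 1 n55337 = n54023 := d13_1 D55337 (iv F245150) F245145
theorem F248404 : act 2 n55337 = n53753 := d20_1 D55337 (iv D53753) (iv F241064)
theorem F248405 : act 3 n55337 = n54059 := d26_1 D55337 (iv F245376) F245373
theorem F248406 : act 4 n55337 = n55337 := d31_1 D55337 (iv D55337) F241065
theorem F248407 : act 5 n55337 = n53765 := d35_1 D55337 (iv D53765) (iv D51907) (iv F232670) D53750
theorem F248408 : act 8 n55337 = n54018 := d40_2 (iv F245124) D55337 (iv F245121)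
def n55338 : Q := act 9 n53750
theorem D55338 : act 9 n53750 = n55338 := rfl
theorem F248409 : act 2 n55338 = n53754 := d23_1 D55338 (iv D53754) (iv F241064)
theorem F248410 : act 4 n55338 = n55338 := d34_1 D55338 (iv D55338) F241065
theorem F248411 : act 5 n55338 = n53751 := d38_1 D55338 (iv D53751) D53750
theorem F248412 : act 7 n55338 = n54371 := d43_1 D55338 (iv D54371) (iv F241066)
def n55339 : Q := act 8 n53751
theorem D55339 : act 8 n53751 = n55339 := rfl
theorem F248413 : act 2 n55339 = n53755 := d22_1 D55339 (iv D53755) (iv F241067)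
theorem F248414 : act 4 n55339 = n53752 := d33_1 D55339 (iv D53752) (iv F241068)
theorem F248415 : act 6 n55339 = n53767 := d40_1 D55339 (iv D53767) (iv F241069)
theorem F248416 : act 7 n55339 = n54372 := d42_1 D55339 (iv D54372) (iv F241070)
def n55340 : Q := act 3 n53752
theorem D55340 : act 3 n53752 = n55340 := rfl
theorem F248417 : act 0 n55340 = n54331 := d2_1 D55340 (iv F247856) F247853
theorem F248418 : act 1 n55340 = n53846 := d10_1 D55340 (iv F248394) F248393
theorem F248419 : act 2 n55340 = n54294 := d17_1 D55340 (iv F247559) F247558 F240217 (iv F241071)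
theorem F248420 : act 5 n55340 = n55340 := d25_2 F241072 D55340 (iv D55340)
theorem F248421 : act 6 n55340 = n53768 := d26_2 (iv F241073) D55340 (iv D53768)
theorem F248422 : act 7 n55340 = n53848 := d27_2 (iv F241074) D55340 F241430
theorem F248423 : act 8 n55340 = n53844 := d28_2 D53752 D55340 (iv D53844) (iv D51984) (iv F232673)
theorem F248424 : act 9 n55340 = n54301 := d29_2 F248180 D55340 (iv F248176)
def n55341 : Q := act 9 n53753
theorem D55341 : act 9 n53753 = n55341 := rfl
theorem F248425 : act 4 n55341 = n55341 := d34_1 D55341 (iv D55341) F241075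
theorem F248426 : act 5 n55341 = n53770 := d38_1 D55341 (iv D53770) (iv F241076)
theorem F248427 : act 6 n55341 = n53754 := d41_1 D55341 (iv D53754) D53753
def n55342 : Q := act 8 n53754
theorem D55342 : act 8 n53754 = n55342 := rfl
theorem F248428 : act 4 n55342 = n55342 := d33_1 D55342 (iv D55342) F241077
theorem F248429 : act 5 n55342 = n53755 := d37_1 D55342 (iv D53755) (iv F241078)
theorem F248430 : act 7 n55342 = n54374 := d42_1 D55342 (iv D54374) (iv F241079)
def n55343 : Q := act 3 n53755
theorem D55343 : act 3 n53755 = n55343 := rfl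
theorem F248431 : act 6 n55343 = n53772 := d26_2 (iv F241081) D55343 (iv D53772)
theorem F248432 : act 7 n55343 = n54375 := d27_2 (iv F241082) D55343 (iv D54375)
def n55344 : Q := act 9 n53756
theorem D55344 : act 9 n53756 = n55344 := rfl
theorem F248433 : act 0 n55344 = n53760 := d8_1 D55344 (iv D53760) (iv F241083)
theorem F248434 : act 1 n55344 = n54312 := d16_1 D55344 (iv D54312) (iv F241084)
theorem F248435 : act 3 n55344 = n54330 := d29_1 D55344 (iv D54330) (iv F241085)
theorem F248436 : act 4 n55344 = n53757 := d34_1 D55344 (iv D53757) D53756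
theorem F248437 : act 6 n55344 = n54336 := d41_1 D55344 (iv D54336) (iv F241086)
theorem F248438 : act 7 n55344 = n53773 := d43_1 D55344 (iv D53773) (iv F241087)
def n55345 : Q := act 8 n53757
theorem D55345 : act 8 n53757 = n55345 := rfl
theorem F248439 : act 0 n55345 = n53761 := d7_1 D55345 (iv D53761) (iv F241089)
theorem F248440 : act 1 n55345 = n54318 := d15_1 D55345 (iv D54318) (iv F241090)
theorem F248441 : act 5 n55345 = n53795 := d37_1 D55345 (iv D53795) (iv F241092)
theorem F248442 : act 6 n55345 = n54442 := d40_1 D55345 (iv D54442) (iv F241093)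
theorem F248443 : act 7 n55345 = n53774 := d42_1 D55345 (iv D53774) (iv F241094)
theorem F248444 : act 9 n55345 = n54317 := d44_2 D53757 D55345 (iv D54317) (iv D52575) (iv F232690)
def n55346 : Q := act 5 n53758
theorem D55346 : act 5 n53758 = n55346 := rfl
theorem F248445 : act 0 n55346 = n54329 := d4_1 D55346 (iv D54329) (iv F241095)
theorem F248446 : act 1 n55346 = n53762 := d12_1 D55346 (iv D53762) (iv F241096)
theorem F248447 : act 2 n55346 = n54275 := d19_1 D55346 (iv D54275) (iv F241097)
theorem F248448 : act 3 n55346 = n53759 := d25_1 D55346 (iv D53759) D53758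
theorem F248449 : act 4 n55346 = n55346 := d30_1 D55346 (iv D55346) F241098 F232993 (iv F241098)
theorem F248450 : act 6 n55346 = n54066 := d35_2 (iv F241099) D55346 F242414 (iv F237754) F237753
theorem F248451 : act 7 n55346 = n53775 := d36_2 (iv F241100) D55346 (iv D53775)
theorem F248452 : act 8 n55346 = n54065 := d37_2 (iv F241101) D55346 F242412
def n55347 : Q := act 9 n53758
theorem D55347 : act 9 n53758 = n55347 := rfl
theorem F248453 : act 0 n55347 = n54330 := d8_1 D55347 (iv D54330) (iv F241095)
theorem F248454 : act 1 n55347 = n53764 := d16_1 D55347 (iv D53764) (iv F241096)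
theorem F248455 : act 2 n55347 = n54276 := d23_1 D55347 (iv D54276) (iv F241097)
theorem F248456 : act 3 n55347 = n53760 := d29_1 D55347 (iv D53760) D53758
theorem F248457 : act 4 n55347 = n53844 := d34_1 D55347 F241416 (iv F241098)
theorem F248458 : act 6 n55347 = n53847 := d41_1 D55347 F241428 (iv F241099)
theorem F248459 : act 7 n55347 = n53776 := d43_1 D55347 (iv D53776) (iv F241100)
def n55348 : Q := act 9 n53759
theorem D55348 : act 9 n53759 = n55348 := rfl
theorem F248460 : act 1 n55348 = n53766 := d16_1 D55348 (iv D53766) (iv F241102)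
theorem F248461 : act 2 n55348 = n54310 := d23_1 D55348 (iv D54310) (iv F241103)
theorem F248462 : act 4 n55348 = n53796 := d34_1 D55348 (iv D53796) (iv F241104)
theorem F248463 : act 5 n55348 = n53760 := d38_1 D55348 (iv D53760) D53759
theorem F248464 : act 7 n55348 = n53778 := d43_1 D55348 (iv D53778) (iv F241105)
def n55349 : Q := act 8 n53760
theorem D55349 : act 8 n53760 = n55349 := rfl
theorem F248465 : act 1 n55349 = n53767 := d15_1 D55349 (iv D53767) (iv F241106)
theorem F248466 : act 4 n55349 = n53761 := d33_1 D55349 (iv D53761) (iv F241107)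
theorem F248467 : act 7 n55349 = n53779 := d42_1 D55349 (iv D53779) (iv F241108)
def n55350 : Q := act 3 n53761
theorem D55350 : act 3 n53761 = n55350 := rfl
theorem F248468 : act 1 n55350 = n53768 := d10_1 D55350 (iv D53768) (iv F241109)
theorem F248469 : act 5 n55350 = n53798 := d25_2 (iv F241110) D55350 (iv D53798)
theorem F248470 : act 6 n55350 = n53846 := d26_2 F248396 D55350 (iv F248394)
theorem F248471 : act 7 n55350 = n53780 := d27_2 (iv F241111) D55350 (iv D53780)
theorem F248472 : act 8 n55350 = n53843 := d28_2 D53761 D55350 F241406 F232974 (iv F232694)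
theorem F248473 : act 9 n55350 = n54305 := d29_2 F248203 D55350 (iv F248200)
def n55351 : Q := act 6 n53762
theorem D55351 : act 6 n53762 = n55351 := rfl
theorem F248474 : act 1 n55351 = n54066 := d13_1 D55351 (iv F248450) F248446
theorem F248475 : act 3 n55351 = n53765 := d26_1 D55351 (iv D53765) (iv F241112)
theorem F248476 : act 4 n55351 = n55351 := d31_1 D55351 (iv D55351) F241113
theorem F248477 : act 5 n55351 = n54059 := d35_1 D55351 (iv F245376) F245375 F241061 D53762
theorem F248478 : act 8 n54058 = n55351 := d37_0 F248477 (iv D54059) D54058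
def n55352 : Q := act 8 n53762
theorem D55352 : act 8 n53762 = n55352 := rfl
theorem F248479 : act 0 n55352 = n54342 := d7_1 D55352 (iv F247874) F247869
theorem F248480 : act 1 n55352 = n54065 := d15_1 D55352 (iv F248452) F248446
theorem F248481 : act 3 n55352 = n54061 := d28_1 D55352 F242397 (iv F240861) F240864 (iv F241112)
theorem F248482 : act 4 n55352 = n55352 := d33_1 D55352 (iv D55352) F241113
theorem F248483 : act 5 n55352 = n53763 := d37_1 D55352 (iv D53763) D53762
theorem F248484 : act 6 n55352 = n54058 := d40_1 D55352 F248478 (iv D55351)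
theorem F248485 : act 7 n55352 = n53782 := d42_1 D55352 (iv D53782) (iv F241114)
def n55353 : Q := act 9 n53762
theorem D55353 : act 9 n53762 = n55353 := rfl
theorem F248486 : act 3 n55353 = n53766 := d29_1 D55353 (iv D53766) (iv F241112)
theorem F248487 : act 4 n55353 = n55353 := d34_1 D55353 (iv D55353) F241113
theorem F248488 : act 5 n55353 = n53764 := d38_1 D55353 (iv D53764) D53762
theorem F248489 : act 7 n55353 = n53783 := d43_1 D55353 (iv D53783) (iv F241114)
def n55354 : Q := act 9 n53763
theorem D55354 : act 9 n53763 = n55354 := rfl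
theorem F248490 : act 0 n55354 = n54343 := d8_1 D55354 (iv D54343) (iv F241115)
theorem F248491 : act 1 n55354 = n54300 := d16_1 D55354 (iv D54300) (iv F241116)
theorem F248492 : act 3 n55354 = n54339 := d29_1 D55354 (iv D54339) (iv F241117)
theorem F248493 : act 4 n55354 = n53845 := d34_1 D55354 (iv D53845) (iv F241118)
theorem F248494 : act 6 n55354 = n54304 := d41_1 D55354 (iv D54304) (iv F241119)
theorem F248495 : act 7 n55354 = n53784 := d43_1 D55354 (iv D53784) (iv F241120)
def n55355 : Q := act 8 n53764
theorem D55355 : act 8 n53764 = n55355 := rfl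
theorem F248496 : act 4 n55355 = n53846 := d33_1 D55355 (iv D53846) (iv F241122)
theorem F248497 : act 7 n55355 = n53785 := d42_1 D55355 (iv D53785) (iv F241123)
def n55356 : Q := act 7 n53765
theorem D55356 : act 7 n53765 = n55356 := rfl
theorem F248498 : act 1 n55356 = n54324 := d14_1 D55356 (iv F247911) F247906
theorem F248499 : act 2 n55356 = n53769 := d21_1 D55356 (iv D53769) (iv F241124)
theorem F248500 : act 4 n55356 = n53799 := d32_1 D55356 (iv D53799) (iv F241125)
theorem F248501 : act 6 n55356 = n53786 := d39_1 D55356 (iv D53786) (iv D51922) (iv F232701) D53765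
theorem F248502 : act 8 n55356 = n54321 := d42_2 F248211 D55356 (iv F248210)
def n55357 : Q := act 9 n53765
theorem D55357 : act 9 n53765 = n55357 := rfl
theorem F248503 : act 2 n55357 = n53770 := d23_1 D55357 (iv D53770) (iv F241124)
theorem F248504 : act 4 n55357 = n53800 := d34_1 D55357 (iv D53800) (iv F241125)
theorem F248505 : act 6 n55357 = n53766 := d41_1 D55357 (iv D53766) D53765
def n55358 : Q := act 8 n53766
theorem D55358 : act 8 n53766 = n55358 := rfl
theorem F248506 : act 2 n55358 = n53771 := d22_1 D55358 (iv D53771) (iv F241126)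
theorem F248507 : act 4 n55358 = n53801 := d33_1 D55358 (iv D53801) (iv F241127)
theorem F248508 : act 5 n55358 = n53767 := d37_1 D55358 (iv D53767) (iv F241128)
theorem F248509 : act 7 n55358 = n53788 := d42_1 D55358 (iv D53788) (iv F241129)
def n55359 : Q := act 3 n53767
theorem D55359 : act 3 n53767 = n55359 := rfl
theorem F248510 : act 7 n55359 = n53789 := d27_2 (iv F241132) D55359 (iv D53789)
def n55360 : Q := act 4 n53768
theorem D55360 : act 4 n53768 = n55360 := rfl
theorem F248511 : act 0 n55360 = n54337 := d3_1 D55360 F243210 (iv F241133)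
theorem F248512 : act 2 n55360 = n54298 := d18_1 D55360 F243101 (iv F241134)
theorem F248513 : act 7 n55360 = n53790 := d32_2 (iv F241136) D55360 (iv D53790)
theorem F248514 : act 8 n55360 = n53847 := d33_2 (iv F241137) D55360 (iv D53847)
theorem F248515 : act 9 n55360 = n54306 := d34_2 (iv F241138) D55360 F243128
def n55361 : Q := act 9 n53769
theorem D55361 : act 9 n53769 = n55361 := rfl
theorem F248516 : act 4 n55361 = n53804 := d34_1 D55361 (iv D53804) (iv F241139)
theorem F248517 : act 6 n55361 = n53791 := d41_1 D55361 (iv D53791) (iv F241140)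
theorem F248518 : act 7 n55361 = n53770 := d43_1 D55361 (iv D53770) D53769
def n55362 : Q := act 8 n53770
theorem D55362 : act 8 n53770 = n55362 := rfl
theorem F248519 : act 4 n55362 = n53805 := d33_1 D55362 (iv D53805) (iv F241141)
theorem F248520 : act 6 n55362 = n53771 := d40_1 D55362 (iv D53771) (iv F241142)
def n55363 : Q := act 3 n53771
theorem D55363 : act 3 n53771 = n55363 := rfl
theorem F248521 : act 5 n55363 = n53772 := d25_2 (iv F241144) D55363 (iv D53772)
theorem F248522 : act 7 n55363 = n53793 := d27_2 (iv F241145) D55363 (iv D53793)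
def n55364 : Q := act 2 n53772
theorem D55364 : act 2 n53772 = n55364 := rfl
theorem F248523 : act 7 n55364 = n53794 := d21_2 (iv F241146) D55364 (iv D53794)
def n55365 : Q := act 8 n53773
theorem D55365 : act 8 n53773 = n55365 := rfl
theorem F248524 : act 0 n55365 = n53779 := d7_1 D55365 (iv D53779) (iv F241147)
theorem F248525 : act 4 n55365 = n53774 := d33_1 D55365 (iv D53774) (iv F241148)
theorem F248526 : act 6 n55365 = n54387 := d40_1 D55365 (iv D54387) (iv F241149)
def n55366 : Q := act 6 n53775
theorem D55366 : act 6 n53775 = n55366 := rfl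
theorem F248527 : act 0 n55366 = n54018 := d5_1 D55366 (iv F245121) F245117
theorem F248528 : act 1 n55366 = n53781 := d13_1 D55366 (iv D53781) (iv F241153)
theorem F248529 : act 3 n55366 = n53777 := d26_1 D55366 (iv D53777) (iv F241154)
theorem F248530 : act 4 n55366 = n55366 := d31_1 D55366 (iv D55366) F241155
theorem F248531 : act 5 n55366 = n54388 := d35_1 D55366 (iv D54388) (iv D52650) (iv F232722) D53775
def n55367 : Q := act 9 n53775
theorem D55367 : act 9 n53775 = n55367 := rfl
theorem F248532 : act 1 n55367 = n53783 := d16_1 D55367 (iv D53783) (iv F241153)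
theorem F248533 : act 3 n55367 = n53778 := d29_1 D55367 (iv D53778) (iv F241154)
theorem F248534 : act 4 n55367 = n55367 := d34_1 D55367 (iv D55367) F241155
theorem F248535 : act 5 n55367 = n53776 := d38_1 D55367 (iv D53776) D53775
def n55368 : Q := act 8 n53776
theorem D55368 : act 8 n53776 = n55368 := rfl
theorem F248536 : act 1 n55368 = n53785 := d15_1 D55368 (iv D53785) (iv F241156)
theorem F248537 : act 4 n55368 = n53848 := d33_1 D55368 (iv D53848) (iv F241158)
theorem F248538 : act 6 n55368 = n54381 := d40_1 D55368 F243340 (iv F241159)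
def n55369 : Q := act 9 n53777
theorem D55369 : act 9 n53777 = n55369 := rfl
theorem F248539 : act 0 n55369 = n54020 := d8_1 D55369 (iv D54020) (iv F241160)
theorem F248540 : act 1 n55369 = n53787 := d16_1 D55369 (iv D53787) (iv F241161)
theorem F248541 : act 2 n55369 = n54339 := d23_1 D55369 (iv D54339) (iv F241162)
theorem F248542 : act 4 n55369 = n53809 := d34_1 D55369 (iv D53809) (iv F241163)
theorem F248543 : act 5 n55369 = n54390 := d38_1 D55369 (iv D54390) (iv F241164)
theorem F248544 : act 6 n55369 = n53778 := d41_1 D55369 (iv D53778) D53777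
def n55370 : Q := act 8 n53778
theorem D55370 : act 8 n53778 = n55370 := rfl
theorem F248545 : act 1 n55370 = n53788 := d15_1 D55370 (iv D53788) (iv F241166)
theorem F248546 : act 4 n55370 = n53810 := d33_1 D55370 (iv D53810) (iv F241167)
theorem F248547 : act 5 n55370 = n53779 := d37_1 D55370 (iv D53779) (iv F241168)
def n55371 : Q := act 3 n53779
theorem D55371 : act 3 n53779 = n55371 := rfl
theorem F248548 : act 1 n55371 = n53789 := d10_1 D55371 (iv D53789) (iv F241169)
theorem F248549 : act 6 n55371 = n54392 := d26_2 (iv F241171) D55371 (iv D54392)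
def n55372 : Q := act 4 n53780
theorem D55372 : act 4 n53780 = n55372 := rfl
theorem F248550 : act 1 n55372 = n53790 := d11_1 D55372 (iv D53790) (iv F241172)
theorem F248551 : act 6 n55372 = n54378 := d31_2 (iv F241174) D55372 F243331
theorem F248552 : act 8 n55372 = n53849 := d33_2 (iv F241175) D55372 (iv D53849)
theorem F248553 : act 9 n55372 = n54311 := d34_2 (iv F241176) D55372 F243142
def n55373 : Q := act 7 n53781
theorem D55373 : act 7 n53781 = n55373 := rfl
theorem F248554 : act 0 n55373 = n54039 := d6_1 D55373 (iv F244382) F244376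
theorem F248555 : act 2 n55373 = n53952 := d21_1 D55373 (iv F244857) F244853
theorem F248556 : act 3 n55373 = n53786 := d27_1 D55373 (iv D53786) (iv F241177)
theorem F248557 : act 4 n55373 = n55373 := d32_1 D55373 (iv D55373) F241178
theorem F248558 : act 5 n55373 = n53950 := d36_1 D55373 F241933 (iv F241179)
def n55374 : Q := act 8 n53781
theorem D55374 : act 8 n53781 = n55374 := rfl
theorem F248559 : act 4 n55374 = n55374 := d33_1 D55374 (iv D55374) F241178
theorem F248560 : act 5 n55374 = n54393 := d37_1 D55374 (iv D54393) (iv F241179)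
theorem F248561 : act 6 n55374 = n53782 := d40_1 D55374 (iv D53782) D53781
def n55375 : Q := act 9 n53781
theorem D55375 : act 9 n53781 = n55375 := rfl
theorem F248562 : act 3 n55375 = n53787 := d29_1 D55375 (iv D53787) (iv F241177)
theorem F248563 : act 4 n55375 = n55375 := d34_1 D55375 (iv D55375) F241178
theorem F248564 : act 5 n55375 = n54394 := d38_1 D55375 (iv D54394) (iv F241179)
theorem F248565 : act 6 n55375 = n53783 := d41_1 D55375 (iv D53783) D53781
def n55376 : Q := act 9 n53782
theorem D55376 : act 9 n53782 = n55376 := rfl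
theorem F248566 : act 4 n55376 = n55376 := d34_1 D55376 (iv D55376) F241180
theorem F248567 : act 5 n55376 = n53784 := d38_1 D55376 (iv D53784) (iv F241181)
def n55377 : Q := act 8 n53783
theorem D55377 : act 8 n53783 = n55377 := rfl
theorem F248568 : act 4 n55377 = n55377 := d33_1 D55377 (iv D55377) F241183
theorem F248569 : act 5 n55377 = n53785 := d37_1 D55377 (iv D53785) (iv F241184)
def n55378 : Q := act 8 n53784
theorem D55378 : act 8 n53784 = n55378 := rfl
theorem F248570 : act 4 n55378 = n53850 := d33_1 D55378 (iv D53850) (iv F241185)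
theorem F248571 : act 6 n55378 = n54397 := d40_1 D55378 (iv D54397) (iv F241186)
theorem F248572 : act 9 n55378 = n53785 := d44_2 D53784 D55378 (iv D53785) (iv D51921) D51920
def n55379 : Q := act 3 n53785
theorem D55379 : act 3 n53785 = n55379 := rfl
theorem F248573 : act 6 n55379 = n54398 := d26_2 (iv F241188) D55379 (iv D54398)
theorem F248574 : act 8 n55379 = n53789 := d28_2 D53785 D55379 (iv D53789) (iv D51924) (iv F232735)
def n55380 : Q := act 9 n53786
theorem D55380 : act 9 n53786 = n55380 := rfl
theorem F248575 : act 2 n55380 = n53791 := d23_1 D55380 (iv D53791) (iv F241189)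
theorem F248576 : act 4 n55380 = n53812 := d34_1 D55380 (iv D53812) (iv F241190)
theorem F248577 : act 5 n55380 = n54399 := d38_1 D55380 (iv D54399) (iv F241191)
theorem F248578 : act 7 n55380 = n53787 := d43_1 D55380 (iv D53787) D53786
def n55381 : Q := act 8 n53787
theorem D55381 : act 8 n53787 = n55381 := rfl
theorem F248579 : act 2 n55381 = n53792 := d22_1 D55381 (iv D53792) (iv F241192)
theorem F248580 : act 4 n55381 = n53813 := d33_1 D55381 (iv D53813) (iv F241193)
theorem F248581 : act 5 n55381 = n54400 := d37_1 D55381 (iv D54400) (iv F241194)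
theorem F248582 : act 6 n55381 = n53788 := d40_1 D55381 (iv D53788) (iv F241195)
def n55382 : Q := act 3 n53788
theorem D55382 : act 3 n53788 = n55382 := rfl
theorem F248583 : act 5 n55382 = n53789 := d25_2 (iv F241198) D55382 (iv D53789)
def n55383 : Q := act 2 n53789
theorem D55383 : act 2 n53789 = n55383 := rfl
theorem F248584 : act 3 n55383 = n53794 := d17_2 D53789 D55383 (iv D53794) (iv D51929) (iv F232744)
theorem F248585 : act 6 n55383 = n54402 := d20_2 (iv F241199) D55383 (iv D54402)
def n55384 : Q := act 4 n53789
theorem D55384 : act 4 n53789 = n55384 := rfl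
theorem F248586 : act 0 n55384 = n54354 := d3_1 D55384 (iv F247948) F247947
theorem F248587 : act 3 n55384 = n53790 := d24_1 D55384 (iv D53790) (iv D51925) (iv F232745) D53789
theorem F248588 : act 6 n55384 = n54403 := d31_2 (iv F241199) D55384 (iv D54403)
theorem F248589 : act 9 n55384 = n54314 := d34_2 F248281 D55384 (iv F248279)
def n55385 : Q := act 5 n53790
theorem D55385 : act 5 n53790 = n55385 := rfl
theorem F248590 : act 0 n55385 = n54353 := d4_1 D55385 F243252 (iv F241200)
theorem F248591 : act 2 n55385 = n53919 := d19_1 D55385 F241787 (iv F241201)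
theorem F248592 : act 4 n55385 = n53817 := d30_1 D55385 (iv D53817) (iv D51951) (iv F232749) D53790
theorem F248593 : act 8 n55385 = n53854 := d37_2 (iv F241203) D55385 (iv D53854)
theorem F248594 : act 9 n55385 = n53925 := d38_2 (iv F241204) D55385 F241816
def n55386 : Q := act 8 n53791
theorem D55386 : act 8 n53791 = n55386 := rfl
theorem F248595 : act 4 n55386 = n53818 := d33_1 D55386 (iv D53818) (iv F241205)
theorem F248596 : act 5 n55386 = n54405 := d37_1 D55386 (iv D54405) (iv F241206)
theorem F248597 : act 7 n55386 = n53792 := d42_1 D55386 (iv D53792) (iv F241207)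
def n55387 : Q := act 3 n53792
theorem D55387 : act 3 n53792 = n55387 := rfl
theorem F248598 : act 5 n55387 = n54406 := d25_2 (iv F241209) D55387 (iv D54406)
theorem F248599 : act 6 n55387 = n53793 := d26_2 (iv F241210) D55387 (iv D53793)
def n55388 : Q := act 2 n53793
theorem D55388 : act 2 n53793 = n55388 := rfl
theorem F248600 : act 5 n55388 = n53794 := d19_2 (iv F241211) D55388 (iv D53794)
def n55389 : Q := act 4 n53793
theorem D55389 : act 4 n53793 = n55389 := rfl
theorem F248601 : act 3 n55389 = n53821 := d24_1 D55389 (iv D53821) (iv D51954) (iv F232758) D53793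
def n55390 : Q := act 1 n53794
theorem D55390 : act 1 n53794 = n55390 := rfl
theorem F248602 : act 6 n55390 = n54408 := d13_2 (iv F241212) D55390 (iv D54408)
def n55391 : Q := act 8 n53796
theorem D55391 : act 8 n53796 = n55391 := rfl
theorem F248603 : act 1 n55391 = n53801 := d15_1 D55391 (iv D53801) (iv F241218)
theorem F248604 : act 2 n55391 = n54317 := d22_1 D55391 (iv D54317) (iv F241219)
theorem F248605 : act 5 n55391 = n53797 := d37_1 D55391 (iv D53797) (iv F241221)
theorem F248606 : act 7 n55391 = n53810 := d42_1 D55391 (iv D53810) (iv F241222)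
def n55392 : Q := act 3 n53797
theorem D55392 : act 3 n53797 = n55392 := rfl
theorem F248607 : act 1 n55392 = n53802 := d10_1 D55392 (iv D53802) (iv F241223)
theorem F248608 : act 6 n55392 = n55392 := d26_2 F241226 D55392 (iv D55392)
theorem F248609 : act 7 n55392 = n53811 := d27_2 (iv F241227) D55392 (iv D53811)
theorem F248610 : act 8 n55392 = n55392 := d28_2 D53797 D55392 (iv D55392) (iv D53797) F232772
def n55393 : Q := act 9 n53799
theorem D55393 : act 9 n53799 = n55393 := rfl
theorem F248611 : act 1 n55393 = n54438 := d16_1 D55393 (iv D54438) (iv F241233)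
theorem F248612 : act 2 n55393 = n53804 := d23_1 D55393 (iv D53804) (iv F241234)
theorem F248613 : act 3 n55393 = n55393 := d29_1 D55393 (iv D55393) F241235
theorem F248614 : act 5 n55393 = n55393 := d38_1 D55393 (iv D55393) F241236
theorem F248615 : act 6 n55393 = n53812 := d41_1 D55393 (iv D53812) (iv F241237)
theorem F248616 : act 7 n55393 = n53800 := d43_1 D55393 (iv D53800) D53799
def n55394 : Q := act 8 n53800
theorem D55394 : act 8 n53800 = n55394 := rfl
theorem F248617 : act 2 n55394 = n53805 := d22_1 D55394 (iv D53805) (iv F241239)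
theorem F248618 : act 5 n55394 = n55394 := d37_1 D55394 (iv D55394) F241241
theorem F248619 : act 6 n55394 = n53801 := d40_1 D55394 (iv D53801) (iv F241242)
def n55395 : Q := act 3 n53801
theorem D55395 : act 3 n53801 = n55395 := rfl
theorem F248620 : act 5 n55395 = n53802 := d25_2 (iv F241244) D55395 (iv D53802)
theorem F248621 : act 7 n55395 = n53814 := d27_2 (iv F241245) D55395 (iv D53814)
theorem F248622 : act 8 n55395 = n55395 := d28_2 D53801 D55395 (iv D55395) (iv D53801) F232783
def n55396 : Q := act 2 n53802
theorem D55396 : act 2 n53802 = n55396 := rfl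
theorem F248623 : act 3 n55396 = n53807 := d17_2 D53802 D55396 (iv D53807) (iv D51941) (iv F232786)
theorem F248624 : act 6 n55396 = n55396 := d20_2 F241246 D55396 (iv D55396)
theorem F248625 : act 7 n55396 = n53815 := d21_2 (iv F241247) D55396 (iv D53815)
theorem F248626 : act 8 n55396 = n55396 := d22_2 F241248 D55396 (iv D55396)
theorem F248627 : act 9 n55396 = n54087 := d23_2 F248310 D55396 F248311
theorem F248628 : act 4 n54032 = n55396 := d34_3 F248627 (iv D54087) (iv F242286)
def n55397 : Q := act 4 n53802
theorem D55397 : act 4 n53802 = n55397 := rfl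
theorem F248629 : act 0 n55397 = n54361 := d3_1 D55397 (iv F247969) F247967
theorem F248630 : act 2 n55397 = n54032 := d18_1 D55397 F248628 (iv D55396)
theorem F248631 : act 3 n55397 = n53803 := d24_1 D55397 (iv D53803) (iv D51937) (iv F232787) D53802
theorem F248632 : act 6 n55397 = n55397 := d31_2 F241246 D55397 (iv D55397)
theorem F248633 : act 7 n55397 = n53816 := d32_2 (iv F241247) D55397 (iv D53816)
theorem F248634 : act 8 n55397 = n55397 := d33_2 F241248 D55397 (iv D55397)
theorem F248635 : act 9 n55397 = n53930 := d34_2 F248310 D55397 (iv F248306)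
def n55398 : Q := act 8 n53804
theorem D55398 : act 8 n53804 = n55398 := rfl
theorem F248636 : act 5 n55398 = n55398 := d37_1 D55398 (iv D55398) F241256
theorem F248637 : act 6 n55398 = n53818 := d40_1 D55398 (iv D53818) (iv F241257)
theorem F248638 : act 7 n55398 = n53805 := d42_1 D55398 (iv D53805) (iv F241258)
def n55399 : Q := act 3 n53805
theorem D55399 : act 3 n53805 = n55399 := rfl
theorem F248639 : act 5 n55399 = n55399 := d25_2 F241259 D55399 (iv D55399)
theorem F248640 : act 6 n55399 = n53806 := d26_2 (iv F241260) D55399 (iv D53806)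
theorem F248641 : act 8 n55399 = n53832 := d28_2 D53805 D55399 (iv D53832) (iv D51970) (iv F232799)
def n55400 : Q := act 2 n53806
theorem D55400 : act 2 n53806 = n55400 := rfl
theorem F248642 : act 5 n55400 = n53807 := d19_2 (iv F241261) D55400 (iv D53807)
theorem F248643 : act 7 n55400 = n53820 := d21_2 (iv F241262) D55400 (iv D53820)
theorem F248644 : act 8 n55400 = n53833 := d22_2 (iv F241263) D55400 (iv D53833)
def n55401 : Q := act 4 n53806
theorem D55401 : act 4 n53806 = n55401 := rfl
theorem F248645 : act 7 n55401 = n53821 := d32_2 (iv F241262) D55401 (iv D53821)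
theorem F248646 : act 8 n55401 = n53834 := d33_2 (iv F241263) D55401 (iv D53834)
def n55402 : Q := act 1 n53807
theorem D55402 : act 1 n53807 = n55402 := rfl
theorem F248647 : act 4 n55402 = n54470 := d11_2 (iv F241264) D55402 F243602
theorem F248648 : act 6 n55402 = n55402 := d13_2 F241265 D55402 (iv D55402)
theorem F248649 : act 7 n55402 = n53822 := d14_2 (iv F241266) D55402 (iv D53822)
theorem F248650 : act 8 n55402 = n53835 := d15_2 (iv F241267) D55402 (iv D53835)
def n55403 : Q := act 9 n53808
theorem D55403 : act 9 n53808 = n55403 := rfl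
theorem F248651 : act 0 n55403 = n54013 := d8_1 D55403 (iv D54013) (iv F241268)
theorem F248652 : act 1 n55403 = n53812 := d16_1 D55403 (iv D53812) (iv F241269)
theorem F248653 : act 2 n55403 = n53865 := d23_1 D55403 (iv D53865) (iv F241270)
theorem F248654 : act 3 n55403 = n55403 := d29_1 D55403 (iv D55403) F241271
theorem F248655 : act 5 n55403 = n53823 := d38_1 D55403 (iv D53823) (iv F241272)
theorem F248656 : act 6 n55403 = n54438 := d41_1 D55403 (iv D54438) (iv F241273)
theorem F248657 : act 7 n55403 = n53809 := d43_1 D55403 (iv D53809) D53808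
def n55404 : Q := act 8 n53809
theorem D55404 : act 8 n53809 = n55404 := rfl
theorem F248658 : act 0 n55404 = n54021 := d7_1 D55404 (iv D54021) (iv F241275)
theorem F248659 : act 1 n55404 = n53813 := d15_1 D55404 (iv D53813) (iv F241276)
theorem F248660 : act 2 n55404 = n54340 := d22_1 D55404 (iv D54340) (iv F241277)
theorem F248661 : act 5 n55404 = n53824 := d37_1 D55404 (iv D53824) (iv F241279)
theorem F248662 : act 6 n55404 = n53810 := d40_1 D55404 (iv D53810) (iv F241280)
theorem F248663 : act 9 n55404 = n54057 := d44_2 D53809 D55404 (iv D54057) (iv D52249) (iv F232814)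
def n55405 : Q := act 3 n53810
theorem D55405 : act 3 n53810 = n55405 := rfl
theorem F248664 : act 1 n55405 = n53814 := d10_1 D55405 (iv D53814) (iv F241281)
theorem F248665 : act 5 n55405 = n53811 := d25_2 (iv F241282) D55405 (iv D53811)
theorem F248666 : act 8 n55405 = n55405 := d28_2 D53810 D55405 (iv D55405) (iv D53810) F232816
def n55406 : Q := act 8 n53812
theorem D55406 : act 8 n53812 = n55406 := rfl
theorem F248667 : act 2 n55406 = n53818 := d22_1 D55406 (iv D53818) (iv F241286)
theorem F248668 : act 5 n55406 = n53825 := d37_1 D55406 (iv D53825) (iv F241288)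
theorem F248669 : act 7 n55406 = n53813 := d42_1 D55406 (iv D53813) (iv F241289)
def n55407 : Q := act 3 n53813
theorem D55407 : act 3 n53813 = n55407 := rfl
theorem F248670 : act 5 n55407 = n53826 := d25_2 (iv F241291) D55407 (iv D53826)
theorem F248671 : act 6 n55407 = n53814 := d26_2 (iv F241292) D55407 (iv D53814)
theorem F248672 : act 8 n55407 = n55407 := d28_2 D53813 D55407 (iv D55407) (iv D53813) F232829
def n55408 : Q := act 2 n53814
theorem D55408 : act 2 n53814 = n55408 := rfl
theorem F248673 : act 3 n55408 = n53820 := d17_2 D53814 D55408 (iv D53820) (iv D51954) (iv F232832)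
theorem F248674 : act 5 n55408 = n53815 := d19_2 (iv F241293) D55408 (iv D53815)
theorem F248675 : act 8 n55408 = n55408 := d22_2 F241294 D55408 (iv D55408)
theorem F248676 : act 9 n55408 = n54096 := d23_2 F248347 D55408 F248348
def n55409 : Q := act 4 n53814
theorem D55409 : act 4 n53814 = n55409 := rfl
theorem F248677 : act 8 n55409 = n55409 := d33_2 F241294 D55409 (iv D55409)
def n55410 : Q := act 5 n53816
theorem D55410 : act 5 n53816 = n55410 := rfl
theorem F248678 : act 0 n55410 = n54366 := d4_1 D55410 F243293 (iv F241300)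
theorem F248679 : act 2 n55410 = n54027 := d19_1 D55410 F242262 (iv F241301)
theorem F248680 : act 3 n55410 = n53817 := d25_1 D55410 (iv D53817) (iv F241302)
theorem F248681 : act 8 n55410 = n55410 := d37_2 F241304 D55410 (iv D55410)
theorem F248682 : act 9 n55410 = n53926 := d38_2 (iv F241305) D55410 F241819
def n55411 : Q := act 3 n53818
theorem D55411 : act 3 n53818 = n55411 := rfl
theorem F248683 : act 5 n55411 = n53828 := d25_2 (iv F241310) D55411 (iv D53828)
theorem F248684 : act 7 n55411 = n53819 := d27_2 (iv F241311) D55411 (iv D53819)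
theorem F248685 : act 8 n55411 = n53836 := d28_2 D53818 D55411 (iv D53836) (iv D51973) (iv F232841)
def n55412 : Q := act 2 n53819
theorem D55412 : act 2 n53819 = n55412 := rfl
theorem F248686 : act 5 n55412 = n53829 := d19_2 (iv F241312) D55412 (iv D53829)
theorem F248687 : act 6 n55412 = n53820 := d20_2 (iv F241313) D55412 (iv D53820)
theorem F248688 : act 8 n55412 = n53837 := d22_2 (iv F241314) D55412 (iv D53837)
theorem F248689 : act 1 n54096 = n55412 := d15_3 F248688 (iv F241384) (iv F242514)
def n55413 : Q := act 4 n53819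
theorem D55413 : act 4 n53819 = n55413 := rfl
theorem F248690 : act 6 n55413 = n53821 := d31_2 (iv F241313) D55413 (iv D53821)
theorem F248691 : act 8 n55413 = n53838 := d33_2 (iv F241314) D55413 (iv D53838)
def n55414 : Q := act 1 n53820
theorem D55414 : act 1 n53820 = n55414 := rfl
theorem F248692 : act 5 n55414 = n53822 := d12_2 (iv F241315) D55414 (iv D53822)
theorem F248693 : act 6 n55414 = n54096 := d13_2 F248687 D55414 F248689
theorem F248694 : act 8 n55414 = n53839 := d15_2 (iv F241316) D55414 (iv D53839)
def n55415 : Q := act 4 n53820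
theorem D55415 : act 4 n53820 = n55415 := rfl
theorem F248695 : act 2 n55415 = n53821 := d18_1 D55415 (iv D53821) D53820
theorem F248696 : act 8 n55415 = n53840 := d33_2 (iv F241316) D55415 (iv D53840)
def n55416 : Q := act 0 n53822
theorem D55416 : act 0 n53822 = n55416 := rfl
theorem F248697 : act 1 n55416 = n54420 := d0_2 D53822 D55416 (iv F244472) F244473 F240681
theorem F248698 : act 2 n55416 = n53978 := d1_2 F245538 D55416 (iv F245537)
theorem F248699 : act 4 n55416 = n54426 := d3_2 F245554 D55416 (iv F245551)
theorem F248700 : act 6 n55416 = n53830 := d5_2 (iv F241318) D55416 (iv D53830)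
theorem F248701 : act 8 n55416 = n53841 := d7_2 (iv F241319) D55416 (iv D53841)
def n55417 : Q := act 8 n53823
theorem D55417 : act 8 n53823 = n55417 := rfl
theorem F248702 : act 0 n55417 = n54031 := d7_1 D55417 (iv D54031) (iv F241320)
theorem F248703 : act 1 n55417 = n53825 := d15_1 D55417 (iv D53825) (iv F241321)
theorem F248704 : act 2 n55417 = n54359 := d22_1 D55417 (iv D54359) (iv F241322)
theorem F248705 : act 4 n55417 = n54425 := d33_1 D55417 (iv D54425) (iv F241324)
theorem F248706 : act 6 n55417 = n55417 := d40_1 D55417 (iv D55417) F241325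
theorem F248707 : act 7 n55417 = n53824 := d42_1 D55417 (iv D53824) (iv F241326)
theorem F248708 : act 9 n55417 = n54081 := d44_2 D53823 D55417 (iv D54081) (iv D52266) (iv F232856)
def n55418 : Q := act 3 n53825
theorem D55418 : act 3 n53825 = n55418 := rfl
theorem F248709 : act 6 n55418 = n55418 := d26_2 F241335 D55418 (iv D55418)
theorem F248710 : act 7 n55418 = n53826 := d27_2 (iv F241336) D55418 (iv D53826)
theorem F248711 : act 8 n55418 = n55418 := d28_2 D53825 D55418 (iv D55418) (iv D53825) F232874
def n55419 : Q := act 4 n53826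
theorem D55419 : act 4 n53826 = n55419 := rfl
theorem F248712 : act 2 n55419 = n54092 := d18_1 D55419 (iv F248364) F248362
theorem F248713 : act 3 n55419 = n54420 := d24_1 D55419 F243434 (iv D52696) (iv F232879) D53826
theorem F248714 : act 6 n55419 = n53827 := d31_2 (iv F241337) D55419 (iv D53827)
theorem F248715 : act 8 n55419 = n55419 := d33_2 F241338 D55419 (iv D55419)
def n55420 : Q := act 2 n53828
theorem D55420 : act 2 n53828 = n55420 := rfl
theorem F248716 : act 4 n55420 = n54084 := d18_2 (iv F241343) D55420 F242466
theorem F248717 : act 6 n55420 = n55420 := d20_2 F241344 D55420 (iv D55420)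
theorem F248718 : act 7 n55420 = n53829 := d21_2 (iv F241345) D55420 (iv D53829)
theorem F248719 : act 8 n55420 = n53842 := d22_2 (iv F241346) D55420 (iv D53842)
theorem F248720 : act 1 n54087 = n55420 := d15_3 F248719 (iv F241404) (iv F242480)
def n55421 : Q := act 3 n53831
theorem D55421 : act 3 n53831 = n55421 := rfl
theorem F248721 : act 5 n55421 = n55421 := d25_2 F241359 D55421 (iv D55421)
theorem F248722 : act 6 n55421 = n53836 := d26_2 (iv F241360) D55421 (iv D53836)
theorem F248723 : act 7 n55421 = n53832 := d27_2 (iv F241361) D55421 (iv D53832)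
theorem F248724 : act 9 n55421 = n55421 := d29_2 F241362 D55421 (iv D55421)
def n55422 : Q := act 2 n53832
theorem D55422 : act 2 n53832 = n55422 := rfl
theorem F248725 : act 3 n55422 = n55422 := d17_2 D53832 D55422 (iv D55422) (iv D53832) F232912
theorem F248726 : act 5 n55422 = n55422 := d19_2 F241363 D55422 (iv D55422)
theorem F248727 : act 6 n55422 = n53833 := d20_2 (iv F241364) D55422 (iv D53833)
theorem F248728 : act 9 n55422 = n55422 := d23_2 F241365 D55422 (iv D55422)
def n55423 : Q := act 4 n53832
theorem D55423 : act 4 n53832 = n55423 := rfl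
theorem F248729 : act 6 n55423 = n53834 := d31_2 (iv F241364) D55423 (iv D53834)
theorem F248730 : act 9 n55423 = n55423 := d34_2 F241365 D55423 (iv D55423)
def n55424 : Q := act 1 n53833
theorem D55424 : act 1 n53833 = n55424 := rfl
theorem F248731 : act 3 n55424 = n55424 := d10_2 F241366 D55424 (iv D55424)
theorem F248732 : act 5 n55424 = n53835 := d12_2 (iv F241367) D55424 (iv D53835)
theorem F248733 : act 7 n55424 = n53839 := d14_2 (iv F241368) D55424 (iv D53839)
theorem F248734 : act 9 n55424 = n55424 := d16_2 F241369 D55424 (iv D55424)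
def n55425 : Q := act 4 n53833
theorem D55425 : act 4 n53833 = n55425 := rfl
theorem F248735 : act 2 n55425 = n53834 := d18_1 D55425 (iv D53834) D53833
theorem F248736 : act 5 n55425 = n54441 := d30_2 (iv F241367) D55425 (iv D54441) F235641 (iv F232920)
theorem F248737 : act 7 n55425 = n53840 := d32_2 (iv F241368) D55425 (iv D53840)
theorem F248738 : act 9 n55425 = n55425 := d34_2 F241369 D55425 (iv D55425)
def n55426 : Q := act 0 n53835
theorem D55426 : act 0 n53835 = n55426 := rfl
theorem F248739 : act 1 n55426 = n54461 := d0_2 D53835 D55426 (iv F244604) F244605 F240699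
theorem F248740 : act 2 n55426 = n53997 := d1_2 F245589 D55426 (iv F245588)
theorem F248741 : act 3 n55426 = n55426 := d2_2 F241372 D55426 (iv D55426)
theorem F248742 : act 4 n55426 = n54460 := d3_2 (iv F241373) D55426 F243570
theorem F248743 : act 6 n55426 = n55426 := d5_2 F241374 D55426 (iv D55426)
theorem F248744 : act 7 n55426 = n53841 := d6_2 (iv F241375) D55426 (iv D53841)
theorem F248745 : act 9 n55426 = n55426 := d8_2 F241376 D55426 (iv D55426)
def n55427 : Q := act 2 n53836
theorem D55427 : act 2 n53836 = n55427 := rfl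
theorem F248746 : act 3 n55427 = n55427 := d17_2 D53836 D55427 (iv D55427) (iv D53836) F232924
theorem F248747 : act 5 n55427 = n53842 := d19_2 (iv F241377) D55427 (iv D53842)
theorem F248748 : act 7 n55427 = n53837 := d21_2 (iv F241378) D55427 (iv D53837)
theorem F248749 : act 9 n55427 = n55427 := d23_2 F241379 D55427 (iv D55427)
theorem F248750 : act 1 n54117 = n55427 := d14_3 F248748 (iv F241384) (iv F242580)
def n55428 : Q := act 4 n53836
theorem D55428 : act 4 n53836 = n55428 := rfl
theorem F248751 : act 3 n55428 = n54245 := d24_1 D55428 F242945 F234971 (iv F232925) D53836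
theorem F248752 : act 5 n55428 = n54244 := d30_2 (iv F241377) D55428 (iv D54244) F234955 (iv F232939)
theorem F248753 : act 7 n55428 = n53838 := d32_2 (iv F241378) D55428 (iv D53838)
theorem F248754 : act 9 n55428 = n55428 := d34_2 F241379 D55428 (iv D55428)
def n55429 : Q := act 4 n53837
theorem D55429 : act 4 n53837 = n55429 := rfl
theorem F248755 : act 1 n55429 = n54116 := d11_1 D55429 F242577 F241384
theorem F248756 : act 2 n55429 = n53838 := d18_1 D55429 (iv D53838) D53837
theorem F248757 : act 5 n55429 = n54112 := d30_2 (iv F241381) D55429 (iv D54112) F234446 (iv F232944)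
theorem F248758 : act 6 n55429 = n53840 := d31_2 (iv F241382) D55429 (iv D53840)
theorem F248759 : act 9 n55429 = n55429 := d34_2 F241383 D55429 (iv D55429)
def n55430 : Q := act 0 n53839
theorem D55430 : act 0 n53839 = n55430 := rfl
theorem F248760 : act 1 n55430 = n54465 := d0_2 D53839 D55430 (iv F244611) F244612 F240705
theorem F248761 : act 2 n55430 = n53992 := d1_2 F245609 D55430 (iv F245608)
theorem F248762 : act 3 n55430 = n55430 := d2_2 F241387 D55430 (iv D55430)
theorem F248763 : act 5 n55430 = n53841 := d4_2 (iv F241388) D55430 (iv D53841)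
theorem F248764 : act 6 n55430 = n54000 := d5_2 (iv F241389) D55430 F242152
theorem F248765 : act 9 n55430 = n55430 := d8_2 F241390 D55430 (iv D55430)
def n55431 : Q := act 4 n53839
theorem D55431 : act 4 n53839 = n55431 := rfl
theorem F248766 : act 1 n55431 = n53840 := d11_1 D55431 (iv D53840) D53839
theorem F248767 : act 6 n55431 = n54116 := d31_2 (iv F241389) D55431 F242577
theorem F248768 : act 9 n55431 = n55431 := d34_2 F241390 D55431 (iv D55431)
def n55432 : Q := act 3 n53840
theorem D55432 : act 3 n53840 = n55432 := rfl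
theorem F248769 : act 4 n55432 = n55432 := d24_2 D53840 D55432 (iv D55432) (iv D53840) F232932
theorem F248770 : act 9 n55432 = n55432 := d29_2 F241392 D55432 (iv D55432)
def n55433 : Q := act 8 n53845
theorem D55433 : act 8 n53845 = n55433 := rfl
theorem F248771 : act 0 n55433 = n54444 := d7_1 D55433 (iv D54444) (iv F241417)
theorem F248772 : act 1 n55433 = n54301 := d15_1 D55433 (iv D54301) (iv F241418)
theorem F248773 : act 5 n55433 = n55433 := d37_1 D55433 (iv D55433) F241420
theorem F248774 : act 6 n55433 = n54305 := d40_1 D55433 (iv D54305) (iv F241421)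
theorem F248775 : act 7 n55433 = n53850 := d42_1 D55433 (iv D53850) (iv F241422)
theorem F248776 : act 9 n55433 = n53846 := d44_2 D53845 D55433 (iv D53846) (iv D51988) D51987
def n55434 : Q := act 3 n53850
theorem D55434 : act 3 n53850 = n55434 := rfl
theorem F248777 : act 0 n55434 = n54445 := d2_1 D55434 (iv F248042) F248040
theorem F248778 : act 1 n55434 = n54331 := d10_1 D55434 (iv F247856) F247854
theorem F248779 : act 5 n55434 = n55434 := d25_2 F241437 D55434 (iv D55434)
theorem F248780 : act 6 n55434 = n54335 := d26_2 (iv F241438) D55434 F243202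
theorem F248781 : act 8 n55434 = n53867 := d28_2 D53850 D55434 (iv D53867) (iv D52028) (iv F233033)
theorem F248782 : act 9 n55434 = n53851 := d29_2 (iv F241439) D55434 (iv D53851)
def n55435 : Q := act 2 n53851
theorem D55435 : act 2 n53851 = n55435 := rfl
theorem F248783 : act 0 n55435 = n54439 := d1_1 D55435 F243507 (iv F241440)
theorem F248784 : act 1 n55435 = n54041 := d9_1 D55435 F242324 F234199 (iv F235398) (iv F241441)
theorem F248785 : act 5 n55435 = n55435 := d19_2 F241442 D55435 (iv D55435)
theorem F248786 : act 6 n55435 = n54046 := d20_2 (iv F241443) D55435 F242343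
theorem F248787 : act 8 n55435 = n53852 := d22_2 (iv F241444) D55435 (iv D53852)
def n55436 : Q := act 4 n53851
theorem D55436 : act 4 n53851 = n55436 := rfl
theorem F248788 : act 0 n55436 = n54350 := d3_1 D55436 F243243 (iv F241440)
theorem F248789 : act 1 n55436 = n54372 := d11_1 D55436 F243314 (iv F241441)
theorem F248790 : act 6 n55436 = n54377 := d31_2 (iv F241443) D55436 F243328
theorem F248791 : act 8 n55436 = n53853 := d33_2 (iv F241444) D55436 (iv D53853)
def n55437 : Q := act 4 n53852
theorem D55437 : act 4 n53852 = n55437 := rfl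
theorem F248792 : act 0 n55437 = n54325 := d3_1 D55437 F243177 (iv F241445)
theorem F248793 : act 1 n55437 = n54040 := d11_1 D55437 F242322 (iv F241446)
theorem F248794 : act 2 n55437 = n53853 := d18_1 D55437 (iv D53853) D53852
theorem F248795 : act 3 n55437 = n54295 := d24_1 D55437 F243094 F235149 (iv F233049) (iv F241447)
theorem F248796 : act 6 n55437 = n54045 := d31_2 (iv F241449) D55437 F242340
theorem F248797 : act 9 n55437 = n53870 := d34_2 (iv F241450) D55437 (iv D53870)
def n55438 : Q := act 5 n53853
theorem D55438 : act 5 n53853 = n55438 := rfl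
theorem F248798 : act 0 n55438 = n54348 := d4_1 D55438 F243240 (iv F241451)
theorem F248799 : act 1 n55438 = n54371 := d12_1 D55438 F243312 (iv F241452)
theorem F248800 : act 3 n55438 = n53854 := d25_1 D55438 (iv D53854) (iv F241453)
theorem F248801 : act 4 n55438 = n55438 := d30_1 D55438 (iv D55438) (iv D53853) F233040 D53853
theorem F248802 : act 9 n55438 = n53871 := d38_2 (iv F241455) D55438 (iv D53871)
def n55439 : Q := act 3 n53855
theorem D55439 : act 3 n53855 = n55439 := rfl
theorem F248803 : act 0 n55439 = n53863 := d2_1 D55439 (iv D53863) (iv F241460)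
theorem F248804 : act 1 n55439 = n54107 := d10_1 D55439 (iv D54107) (iv F241461)
theorem F248805 : act 2 n55439 = n54172 := d17_1 D55439 (iv D54172) F234713 (iv F233098) (iv F241462)
theorem F248806 : act 5 n55439 = n55439 := d25_2 F241464 D55439 (iv D55439)
theorem F248807 : act 6 n55439 = n54429 := d26_2 (iv F241465) D55439 (iv D54429)
theorem F248808 : act 7 n55439 = n54111 := d27_2 (iv F241466) D55439 (iv D54111)
theorem F248809 : act 9 n55439 = n55439 := d29_2 F241467 D55439 (iv D55439)
def n55440 : Q := act 8 n53856
theorem D55440 : act 8 n53856 = n55440 := rfl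
theorem F248810 : act 0 n55440 = n53991 := d7_1 D55440 (iv D53991) (iv F241468)
theorem F248811 : act 1 n55440 = n53857 := d15_1 D55440 (iv D53857) (iv F241469)
theorem F248812 : act 2 n55440 = n55440 := d22_1 D55440 (iv D55440) F241470
theorem F248813 : act 4 n55440 = n53989 := d33_1 D55440 (iv D53989) (iv F241471)
theorem F248814 : act 5 n55440 = n55440 := d37_1 D55440 (iv D55440) F241472
theorem F248815 : act 6 n55440 = n54448 := d40_1 D55440 F243531 (iv F241473)
theorem F248816 : act 7 n55440 = n53860 := d42_1 D55440 (iv D53860) (iv F241474)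
theorem F248817 : act 9 n55440 = n55440 := d44_2 D53856 D55440 (iv D55440) (iv D53856) F233118
def n55441 : Q := act 3 n53857
theorem D55441 : act 3 n53857 = n55441 := rfl
theorem F248818 : act 0 n55441 = n54111 := d2_1 D55441 (iv D54111) (iv F241475)
theorem F248819 : act 5 n55441 = n55441 := d25_2 F241478 D55441 (iv D55441)
theorem F248820 : act 7 n55441 = n53863 := d27_2 (iv F241479) D55441 (iv D53863)
theorem F248821 : act 9 n55441 = n55441 := d29_2 F241480 D55441 (iv D55441)
def n55442 : Q := act 8 n53858
theorem D55442 : act 8 n53858 = n55442 := rfl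
theorem F248822 : act 0 n55442 = n53860 := d7_1 D55442 (iv D53860) (iv F241481)
theorem F248823 : act 1 n55442 = n53987 := d15_1 D55442 (iv D53987) (iv F241482)
theorem F248824 : act 2 n55442 = n55442 := d22_1 D55442 (iv D55442) F241483
theorem F248825 : act 4 n55442 = n53985 := d33_1 D55442 (iv D53985) (iv F241484)
theorem F248826 : act 5 n55442 = n55442 := d37_1 D55442 (iv D55442) F241485
theorem F248827 : act 6 n55442 = n54434 := d40_1 D55442 (iv D54434) (iv F241486)
theorem F248828 : act 7 n55442 = n53991 := d42_1 D55442 (iv D53991) (iv F241487)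
theorem F248829 : act 9 n55442 = n55442 := d44_2 D53858 D55442 (iv D55442) (iv D53858) F233135
def n55443 : Q := act 8 n53859
theorem D55443 : act 8 n53859 = n55443 := rfl
theorem F248830 : act 0 n55443 = n53985 := d7_1 D55443 (iv D53985) (iv F241488)
theorem F248831 : act 1 n55443 = n53862 := d15_1 D55443 (iv D53862) (iv F241489)
theorem F248832 : act 2 n55443 = n55443 := d22_1 D55443 (iv D55443) F241490
theorem F248833 : act 4 n55443 = n53860 := d33_1 D55443 (iv D53860) (iv F241491)
theorem F248834 : act 5 n55443 = n53996 := d37_1 D55443 (iv D53996) (iv F241492)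
theorem F248835 : act 6 n55443 = n54436 := d40_1 D55443 (iv D54436) (iv F241493)
theorem F248836 : act 7 n55443 = n53989 := d42_1 D55443 (iv D53989) (iv F241494)
theorem F248837 : act 9 n55443 = n55443 := d44_2 D53859 D55443 (iv D55443) (iv D53859) F233142
def n55444 : Q := act 3 n53860
theorem D55444 : act 3 n53860 = n55444 := rfl
theorem F248838 : act 1 n55444 = n53863 := d10_1 D55444 (iv D53863) (iv F241495)
theorem F248839 : act 5 n55444 = n55444 := d25_2 F241497 D55444 (iv D55444)
theorem F248840 : act 6 n55444 = n54437 := d26_2 (iv F241498) D55444 (iv D54437)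
theorem F248841 : act 9 n55444 = n55444 := d29_2 F241499 D55444 (iv D55444)
def n55445 : Q := act 8 n53861
theorem D55445 : act 8 n53861 = n55445 := rfl
theorem F248842 : act 0 n55445 = n54046 := d7_1 D55445 (iv D54046) (iv F241500)
theorem F248843 : act 2 n55445 = n53866 := d22_1 D55445 (iv D53866) (iv F241501)
theorem F248844 : act 5 n55445 = n54081 := d37_1 D55445 (iv D54081) (iv F241503)
theorem F248845 : act 6 n55445 = n54439 := d40_1 D55445 (iv D54439) (iv F241504)
theorem F248846 : act 7 n55445 = n54057 := d42_1 D55445 (iv D54057) (iv F241505)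
def n55446 : Q := act 4 n53863
theorem D55446 : act 4 n53863 = n55446 := rfl
theorem F248847 : act 6 n55446 = n54441 := d31_2 (iv F241514) D55446 (iv D54441)
theorem F248848 : act 9 n55446 = n55446 := d34_2 F241515 D55446 (iv D55446)
def n55447 : Q := act 8 n53864
theorem D55447 : act 8 n53864 = n55447 := rfl
theorem F248849 : act 0 n55447 = n54305 := d7_1 D55447 (iv D54305) (iv F241516)
theorem F248850 : act 1 n55447 = n53866 := d15_1 D55447 (iv D53866) (iv F241517)
theorem F248851 : act 3 n55447 = n54317 := d28_1 D55447 (iv D54317) F235232 (iv F233198) (iv F241518)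
theorem F248852 : act 5 n55447 = n54316 := d37_1 D55447 (iv D54316) (iv F241519)
theorem F248853 : act 6 n55447 = n54444 := d40_1 D55447 (iv D54444) (iv F241520)
theorem F248854 : act 7 n55447 = n54309 := d42_1 D55447 (iv D54309) (iv F241521)
def n55448 : Q := act 8 n53865
theorem D55448 : act 8 n53865 = n55448 := rfl
theorem F248855 : act 0 n55448 = n54335 := d7_1 D55448 (iv D54335) (iv F241522)
theorem F248856 : act 3 n55448 = n54318 := d28_1 D55448 (iv D54318) F235235 (iv F233215) (iv F241523)
theorem F248857 : act 5 n55448 = n54359 := d37_1 D55448 (iv D54359) (iv F241524)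
theorem F248858 : act 6 n55448 = n54445 := d40_1 D55448 (iv D54445) (iv F241525)
theorem F248859 : act 7 n55448 = n54340 := d42_1 D55448 (iv D54340) (iv F241526)
theorem F248860 : act 9 n55448 = n53866 := d44_2 D53865 D55448 (iv D53866) (iv D52023) D52022
def n55449 : Q := act 2 n53867
theorem D55449 : act 2 n53867 = n55449 := rfl
theorem F248861 : act 0 n55449 = n54438 := d1_1 D55449 F243504 (iv F241532)
theorem F248862 : act 1 n55449 = n54009 := d9_1 D55449 F242192 F234062 (iv F235257) (iv F241533)
theorem F248863 : act 3 n55449 = n55449 := d17_2 D53867 D55449 (iv D55449) (iv D53867) F233233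
theorem F248864 : act 5 n55449 = n55449 := d19_2 F241534 D55449 (iv D55449)
theorem F248865 : act 6 n55449 = n54013 := d20_2 (iv F241535) D55449 F242210
theorem F248866 : act 9 n55449 = n53868 := d23_2 (iv F241536) D55449 (iv D53868)
def n55450 : Q := act 4 n53867
theorem D55450 : act 4 n53867 = n55450 := rfl
theorem F248867 : act 0 n55450 = n54349 := d3_1 D55450 F243242 (iv F241532)
theorem F248868 : act 1 n55450 = n54330 := d11_1 D55450 F243187 (iv F241533)
theorem F248869 : act 3 n55450 = n54312 := d24_1 D55450 F243144 F235235 (iv F233234) D53867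
theorem F248870 : act 6 n55450 = n54334 := d31_2 (iv F241535) D55450 F243199
theorem F248871 : act 9 n55450 = n53869 := d34_2 (iv F241536) D55450 (iv D53869)
def n55451 : Q := act 4 n53868
theorem D55451 : act 4 n53868 = n55451 := rfl
theorem F248872 : act 0 n55451 = n54324 := d3_1 D55451 F243174 (iv F241537)
theorem F248873 : act 1 n55451 = n54008 := d11_1 D55451 (iv D54008) (iv F241538)
theorem F248874 : act 2 n55451 = n53869 := d18_1 D55451 (iv D53869) D53868
theorem F248875 : act 6 n55451 = n54012 := d31_2 (iv F241541) D55451 (iv D54012)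
theorem F248876 : act 8 n55451 = n53870 := d33_2 (iv F241542) D55451 (iv D53870)
def n55452 : Q := act 5 n53870
theorem D55452 : act 5 n53870 = n55452 := rfl
theorem F248877 : act 0 n55452 = n54014 := d4_1 D55452 F242216 (iv F241548)
theorem F248878 : act 1 n55452 = n54039 := d12_1 D55452 (iv D54039) (iv F241549)
theorem F248879 : act 2 n55452 = n53871 := d19_1 D55452 (iv D53871) (iv F241550)
theorem F248880 : act 3 n55452 = n53913 := d25_1 D55452 F241752 (iv F241551)
theorem F248881 : act 4 n55452 = n55452 := d30_1 D55452 (iv D55452) (iv D53870) F233246 D53870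
theorem F248882 : act 7 n55452 = n53943 := d36_2 F244361 D55452 (iv F244359)
def n55453 : Q := act 3 n53872
theorem D55453 : act 3 n53872 = n55453 := rfl
theorem F248883 : act 1 n55453 = n53874 := d10_1 D55453 (iv D53874) (iv F241557)
theorem F248884 : act 4 n55453 = n54130 := d24_2 (iv F241559) D55453 (iv D54130) F234533 (iv F233295)
theorem F248885 : act 6 n55453 = n54127 := d26_2 (iv F241560) D55453 (iv D54127)
theorem F248886 : act 7 n55453 = n53908 := d27_2 (iv F241561) D55453 (iv D53908)
theorem F248887 : act 8 n55453 = n55453 := d28_2 D53872 D55453 (iv D55453) (iv D53872) F233289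
theorem F248888 : act 9 n55453 = n54131 := d29_2 (iv F241562) D55453 (iv D54131)
def n55454 : Q := act 3 n53873
theorem D55454 : act 3 n53873 = n55454 := rfl
theorem F248889 : act 0 n55454 = n54130 := d2_1 D55454 (iv D54130) (iv F241563)
theorem F248890 : act 2 n55454 = n54127 := d17_1 D55454 (iv D54127) (iv F235988) F235989 (iv F241564)
theorem F248891 : act 5 n55454 = n53874 := d25_2 (iv F241566) D55454 (iv D53874)
theorem F248892 : act 7 n55454 = n53910 := d27_2 (iv F241567) D55454 (iv D53910)
theorem F248893 : act 8 n55454 = n55454 := d28_2 D53873 D55454 (iv D55454) (iv D53873) F233300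
theorem F248894 : act 9 n55454 = n54129 := d29_2 (iv F241568) D55454 (iv D54129)
def n55455 : Q := act 8 n53875
theorem D55455 : act 8 n53875 = n55455 := rfl
theorem F248895 : act 0 n55455 = n53889 := d7_1 D55455 (iv D53889) (iv F241573)
theorem F248896 : act 1 n55455 = n54151 := d15_1 D55455 (iv D54151) (iv F241574)
theorem F248897 : act 4 n55455 = n53876 := d33_1 D55455 (iv D53876) (iv F241576)
theorem F248898 : act 5 n55455 = n54179 := d37_1 D55455 (iv D54179) (iv F241577)
theorem F248899 : act 7 n55455 = n53881 := d42_1 D55455 (iv D53881) (iv F241578)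
theorem F248900 : act 9 n55455 = n53877 := d44_2 D53875 D55455 (iv D53877) (iv D52047) (iv F233318)
def n55456 : Q := act 3 n53877
theorem D55456 : act 3 n53877 = n55456 := rfl
theorem F248901 : act 0 n55456 = n54224 := d2_1 D55456 (iv D54224) (iv F241585)
theorem F248902 : act 1 n55456 = n54163 := d10_1 D55456 (iv D54163) (iv F241586)
theorem F248903 : act 4 n55456 = n53900 := d24_2 (iv F241587) D55456 (iv D53900) F233468 (iv F233344)
theorem F248904 : act 5 n55456 = n54187 := d25_2 (iv F241588) D55456 (iv D54187)
theorem F248905 : act 8 n55456 = n53927 := d28_2 D53877 D55456 (iv D53927) (iv D52112) (iv F233339)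
def n55457 : Q := act 8 n53878
theorem D55457 : act 8 n53878 = n55457 := rfl
theorem F248906 : act 0 n55457 = n54162 := d7_1 D55457 (iv D54162) (iv F241589)
theorem F248907 : act 1 n55457 = n53881 := d15_1 D55457 (iv D53881) (iv F241590)
theorem F248908 : act 4 n55457 = n53879 := d33_1 D55457 (iv D53879) (iv F241592)
theorem F248909 : act 5 n55457 = n54141 := d37_1 D55457 (iv D54141) (iv F241593)
theorem F248910 : act 7 n55457 = n54151 := d42_1 D55457 (iv D54151) (iv F241594)
theorem F248911 : act 9 n55457 = n54155 := d44_2 D53878 D55457 (iv D54155) (iv D52371) (iv F233356)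
def n55458 : Q := act 8 n53880
theorem D55458 : act 8 n53880 = n55458 := rfl
theorem F248912 : act 0 n55458 = n53899 := d7_1 D55458 (iv D53899) (iv F241601)
theorem F248913 : act 1 n55458 = n54141 := d15_1 D55458 (iv D54141) (iv F241602)
theorem F248914 : act 4 n55458 = n53882 := d33_1 D55458 (iv D53882) (iv F241604)
theorem F248915 : act 5 n55458 = n53881 := d37_1 D55458 (iv D53881) (iv F241605)
theorem F248916 : act 7 n55458 = n54179 := d42_1 D55458 (iv D54179) (iv F241606)
theorem F248917 : act 9 n55458 = n54184 := d44_2 D53880 D55458 (iv D54184) (iv D52403) (iv F233374)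
def n55459 : Q := act 3 n53881
theorem D55459 : act 3 n53881 = n55459 := rfl
theorem F248918 : act 0 n55459 = n53900 := d2_1 D55459 (iv D53900) (iv F241607)
theorem F248919 : act 4 n55459 = n54224 := d24_2 (iv F241608) D55459 (iv D54224) F234873 (iv F233379)
theorem F248920 : act 8 n55459 = n53972 := d28_2 D53881 D55459 (iv D53972) (iv D52162) (iv F233376)
def n55460 : Q := act 3 n53883
theorem D55460 : act 3 n53883 = n55460 := rfl
theorem F248921 : act 1 n55460 = n54197 := d10_1 D55460 (iv D54197) (iv F241615)
theorem F248922 : act 5 n55460 = n54209 := d25_2 (iv F241617) D55460 (iv D54209)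
theorem F248923 : act 7 n55460 = n54224 := d27_2 (iv F241618) D55460 (iv D54224)
theorem F248924 : act 8 n55460 = n54384 := d28_2 D53883 D55460 (iv D54384) (iv D52645) (iv F233394)
theorem F248925 : act 9 n55460 = n53900 := d29_2 (iv F241619) D55460 (iv D53900)
def n55461 : Q := act 8 n53885
theorem D55461 : act 8 n53885 = n55461 := rfl
theorem F248926 : act 1 n55461 = n54204 := d15_1 D55461 (iv D54204) (iv F241625)
theorem F248927 : act 4 n55461 = n53886 := d33_1 D55461 (iv D53886) (iv F241627)
theorem F248928 : act 6 n55461 = n53889 := d40_1 D55461 (iv D53889) (iv F241628)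
theorem F248929 : act 9 n55461 = n54223 := d44_2 D53885 D55461 (iv D54223) (iv D52449) (iv F233414)
def n55462 : Q := act 8 n53887
theorem D55462 : act 8 n53887 = n55462 := rfl
theorem F248930 : act 2 n55462 = n53889 := d22_1 D55462 (iv D53889) (iv F241634)
theorem F248931 : act 4 n55462 = n53888 := d33_1 D55462 (iv D53888) (iv F241635)
theorem F248932 : act 5 n55462 = n54195 := d37_1 D55462 (iv D54195) (iv F241636)
theorem F248933 : act 7 n55462 = n53897 := d42_1 D55462 (iv D53897) (iv F241637)
theorem F248934 : act 9 n55462 = n54219 := d44_2 D53887 D55462 (iv D54219) (iv D52445) (iv F233422)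
def n55463 : Q := act 3 n53889
theorem D55463 : act 3 n53889 = n55463 := rfl
theorem F248935 : act 1 n55463 = n54209 := d10_1 D55463 (iv D54209) (iv F241642)
theorem F248936 : act 5 n55463 = n54197 := d25_2 (iv F241644) D55463 (iv D54197)
theorem F248937 : act 7 n55463 = n53900 := d27_2 (iv F241645) D55463 (iv D53900)
theorem F248938 : act 8 n55463 = n54054 := d28_2 D53889 D55463 (iv D54054) (iv D52247) (iv F233428)
theorem F248939 : act 9 n55463 = n54224 := d29_2 (iv F241646) D55463 (iv D54224)
def n55464 : Q := act 9 n53890
theorem D55464 : act 9 n53890 = n55464 := rfl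
theorem F248940 : act 1 n55464 = n53896 := d16_1 D55464 (iv D53896) (iv F241647)
theorem F248941 : act 2 n55464 = n54213 := d23_1 D55464 (iv D54213) (iv F241648)
theorem F248942 : act 3 n55464 = n54263 := d29_1 D55464 (iv D54263) (iv F241649)
theorem F248943 : act 4 n55464 = n53902 := d34_1 D55464 (iv D53902) (iv F241650)
theorem F248944 : act 5 n55464 = n53891 := d38_1 D55464 (iv D53891) D53890
theorem F248945 : act 7 n55464 = n54191 := d43_1 D55464 (iv D54191) (iv F241651)
def n55465 : Q := act 8 n53891
theorem D55465 : act 8 n53891 = n55465 := rfl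
theorem F248946 : act 1 n55465 = n53897 := d15_1 D55465 (iv D53897) (iv F241653)
theorem F248947 : act 2 n55465 = n54214 := d22_1 D55465 (iv D54214) (iv F241654)
theorem F248948 : act 4 n55465 = n53892 := d33_1 D55465 (iv D53892) (iv F241656)
theorem F248949 : act 6 n55465 = n54155 := d40_1 D55465 (iv D54155) (iv F241657)
def n55466 : Q := act 9 n53893
theorem D55466 : act 9 n53893 = n55466 := rfl
theorem F248950 : act 0 n55466 = n54373 := d8_1 D55466 (iv D54373) (iv F241663)
theorem F248951 : act 1 n55466 = n54263 := d16_1 D55466 (iv D54263) (iv F241664)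
theorem F248952 : act 2 n55466 = n54067 := d23_1 D55466 (iv D54067) (iv F241665)
theorem F248953 : act 3 n55466 = n53896 := d29_1 D55466 (iv D53896) (iv F241666)
theorem F248954 : act 4 n55466 = n55466 := d34_1 D55466 (iv D55466) F241667
theorem F248955 : act 5 n55466 = n53894 := d38_1 D55466 (iv D53894) D53893
theorem F248956 : act 6 n55466 = n54302 := d41_1 D55466 (iv D54302) (iv F241668)
theorem F248957 : act 7 n55466 = n54194 := d43_1 D55466 (iv D54194) (iv F241669)
def n55467 : Q := act 8 n53894
theorem D55467 : act 8 n53894 = n55467 := rfl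
theorem F248958 : act 0 n55467 = n54383 := d7_1 D55467 (iv D54383) (iv F241670)
theorem F248959 : act 1 n55467 = n54264 := d15_1 D55467 (iv D54264) (iv F241671)
theorem F248960 : act 2 n55467 = n54069 := d22_1 D55467 (iv D54069) (iv F241672)
theorem F248961 : act 4 n55467 = n53912 := d33_1 D55467 (iv D53912) (iv F241674)
theorem F248962 : act 6 n55467 = n53920 := d40_1 D55467 (iv D53920) (iv F241675)
def n55468 : Q := act 9 n53895
theorem D55468 : act 9 n53895 = n55468 := rfl
theorem F248963 : act 0 n55468 = n54203 := d8_1 D55468 (iv D54203) (iv F241676)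
theorem F248964 : act 2 n55468 = n53898 := d23_1 D55468 (iv D53898) (iv F241677)
theorem F248965 : act 3 n55468 = n54302 := d29_1 D55468 (iv D54302) (iv F241678)
theorem F248966 : act 4 n55468 = n53904 := d34_1 D55468 (iv D53904) (iv F241679)
theorem F248967 : act 5 n55468 = n54182 := d38_1 D55468 (iv D54182) (iv F241680)
theorem F248968 : act 6 n55468 = n53896 := d41_1 D55468 (iv D53896) D53895
def n55469 : Q := act 8 n53896
theorem D55469 : act 8 n53896 = n55469 := rfl
theorem F248969 : act 2 n55469 = n53899 := d22_1 D55469 (iv D53899) (iv F241682)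
theorem F248970 : act 4 n55469 = n53905 := d33_1 D55469 (iv D53905) (iv F241683)
theorem F248971 : act 5 n55469 = n53897 := d37_1 D55469 (iv D53897) (iv F241684)
theorem F248972 : act 7 n55469 = n54195 := d42_1 D55469 (iv D54195) (iv F241685)
theorem F248973 : act 9 n55469 = n54207 := d44_2 D53896 D55469 (iv D54207) (iv D52433) (iv F233453)
def n55470 : Q := act 3 n53897
theorem D55470 : act 3 n53897 = n55470 := rfl
def n55471 : Q := act 8 n53898
theorem D55471 : act 8 n53898 = n55471 := rfl
theorem F248974 : act 1 n55471 = n54223 := d15_1 D55471 (iv D54223) (iv F241688)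
theorem F248975 : act 4 n55471 = n53907 := d33_1 D55471 (iv D53907) (iv F241690)
theorem F248976 : act 6 n55471 = n53899 := d40_1 D55471 (iv D53899) (iv F241691)
theorem F248977 : act 9 n55471 = n54204 := d44_2 D53898 D55471 (iv D54204) (iv D52429) (iv F233461)
def n55472 : Q := act 3 n53899
theorem D55472 : act 3 n53899 = n55472 := rfl
theorem F248978 : act 1 n55472 = n54224 := d10_1 D55472 (iv D54224) (iv F241692)
theorem F248979 : act 5 n55472 = n53900 := d25_2 (iv F241694) D55472 (iv D53900)
theorem F248980 : act 7 n55472 = n54197 := d27_2 (iv F241695) D55472 (iv D54197)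
theorem F248981 : act 8 n55472 = n54077 := d28_2 D53899 D55472 (iv D54077) (iv D52263) (iv F233463)
theorem F248982 : act 9 n55472 = n54209 := d29_2 (iv F241696) D55472 (iv D54209)
def n55473 : Q := act 2 n53900
theorem D55473 : act 2 n53900 = n55473 := rfl
theorem F248983 : act 8 n55473 = n54078 := d22_2 (iv F241698) D55473 (iv D54078)
def n55474 : Q := act 8 n53902
theorem D55474 : act 8 n53902 = n55474 := rfl
theorem F248984 : act 1 n55474 = n53905 := d15_1 D55474 (iv D53905) (iv F241705)
theorem F248985 : act 2 n55474 = n54228 := d22_1 D55474 (iv D54228) (iv F241706)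
theorem F248986 : act 5 n55474 = n53903 := d37_1 D55474 (iv D53903) (iv F241708)
theorem F248987 : act 7 n55474 = n54192 := d42_1 D55474 (iv D54192) (iv F241709)
theorem F248988 : act 9 n55474 = n54206 := d44_2 D53902 D55474 (iv D54206) (iv D52432) (iv F233484)
def n55475 : Q := act 3 n53903
theorem D55475 : act 3 n53903 = n55475 := rfl
theorem F248989 : act 1 n55475 = n53906 := d10_1 D55475 (iv D53906) (iv F241710)
theorem F248990 : act 6 n55475 = n53908 := d26_2 (iv F241713) D55475 (iv D53908)
theorem F248991 : act 7 n55475 = n54198 := d27_2 (iv F241714) D55475 (iv D54198)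
theorem F248992 : act 8 n55475 = n55475 := d28_2 D53903 D55475 (iv D55475) (iv D53903) F233487
theorem F248993 : act 9 n55475 = n54226 := d29_2 (iv F241715) D55475 (iv D54226)
def n55476 : Q := act 8 n53904
theorem D55476 : act 8 n53904 = n55476 := rfl
theorem F248994 : act 2 n55476 = n53907 := d22_1 D55476 (iv D53907) (iv F241716)
theorem F248995 : act 5 n55476 = n53909 := d37_1 D55476 (iv D53909) (iv F241718)
theorem F248996 : act 6 n55476 = n53905 := d40_1 D55476 (iv D53905) (iv F241719)
theorem F248997 : act 9 n55476 = n54202 := d44_2 D53904 D55476 (iv D54202) (iv D52427) (iv F233497)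
def n55477 : Q := act 3 n53905
theorem D55477 : act 3 n53905 = n55477 := rfl
theorem F248998 : act 5 n55477 = n53906 := d25_2 (iv F241721) D55477 (iv D53906)
theorem F248999 : act 7 n55477 = n54196 := d27_2 (iv F241722) D55477 (iv D54196)
theorem F249000 : act 8 n55477 = n55477 := d28_2 D53905 D55477 (iv D55477) (iv D53905) F233499
theorem F249001 : act 9 n55477 = n54208 := d29_2 (iv F241723) D55477 (iv D54208)
def n55478 : Q := act 3 n53909
theorem D55478 : act 3 n53909 = n55478 := rfl
theorem F249002 : act 2 n55478 = n54198 := d17_1 D55478 (iv D54198) (iv F236292) F236293 (iv F241734)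
theorem F249003 : act 6 n55478 = n53910 := d26_2 (iv F241735) D55478 (iv D53910)
theorem F249004 : act 8 n55478 = n55478 := d28_2 D53909 D55478 (iv D55478) (iv D53909) F233522
theorem F249005 : act 9 n55478 = n54229 := d29_2 F243943 D55478 (iv F243938)
def n55479 : Q := act 9 n53913
theorem D55479 : act 9 n53913 = n55479 := rfl
theorem F249006 : act 0 n55479 = n54015 := d8_1 D55479 (iv D54015) (iv F241750)
theorem F249007 : act 2 n55479 = n53915 := d23_1 D55479 (iv D53915) (iv F241751)
theorem F249008 : act 4 n55479 = n53914 := d34_1 D55479 (iv D53914) D53913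
theorem F249009 : act 5 n55479 = n54295 := d38_1 D55479 (iv D54295) (iv F241752)
theorem F249010 : act 7 n55479 = n53944 := d43_1 D55479 (iv D53944) (iv F241753)
def n55480 : Q := act 8 n53914
theorem D55480 : act 8 n53914 = n55480 := rfl
theorem F249011 : act 0 n55480 = n54016 := d7_1 D55480 (iv D54016) (iv F241755)
theorem F249012 : act 2 n55480 = n53916 := d22_1 D55480 (iv D53916) (iv F241756)
theorem F249013 : act 5 n55480 = n53947 := d37_1 D55480 (iv D53947) (iv F241758)
theorem F249014 : act 7 n55480 = n53945 := d42_1 D55480 (iv D53945) (iv F241759)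
theorem F249015 : act 9 n55480 = n53960 := d44_2 D53914 D55480 (iv D53960) (iv D52151) (iv F233555)
def n55481 : Q := act 8 n53915
theorem D55481 : act 8 n53915 = n55481 := rfl
theorem F249016 : act 0 n55481 = n54017 := d7_1 D55481 (iv D54017) (iv F241760)
theorem F249017 : act 1 n55481 = n54253 := d15_1 D55481 (iv D54253) (iv F241761)
theorem F249018 : act 4 n55481 = n53916 := d33_1 D55481 (iv D53916) (iv F241763)
theorem F249019 : act 5 n55481 = n54297 := d37_1 D55481 (iv D54297) (iv F241764)
theorem F249020 : act 7 n55481 = n53946 := d42_1 D55481 (iv D53946) (iv F241765)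
theorem F249021 : act 9 n55481 = n53962 := d44_2 D53915 D55481 (iv D53962) (iv D52153) (iv F233561)
def n55482 : Q := act 8 n53917
theorem D55482 : act 8 n53917 = n55482 := rfl
theorem F249022 : act 0 n55482 = n54007 := d7_1 D55482 (iv D54007) (iv F241772)
theorem F249023 : act 1 n55482 = n54256 := d15_1 D55482 (iv D54256) (iv F241773)
theorem F249024 : act 4 n55482 = n53918 := d33_1 D55482 (iv D53918) (iv F241775)
theorem F249025 : act 5 n55482 = n54298 := d37_1 D55482 (iv D54298) (iv F241776)
theorem F249026 : act 7 n55482 = n53919 := d42_1 D55482 (iv D53919) (iv F241777)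
theorem F249027 : act 9 n55482 = n53920 := d44_2 D53917 D55482 (iv D53920) (iv D52105) (iv F233572)
def n55483 : Q := act 3 n53919
theorem D55483 : act 3 n53919 = n55483 := rfl
theorem F249028 : act 0 n55483 = n54357 := d2_1 D55483 (iv D54357) (iv F241784)
theorem F249029 : act 1 n55483 = n54258 := d10_1 D55483 (iv D54258) (iv F241785)
theorem F249030 : act 4 n55483 = n54030 := d24_2 (iv F241786) D55483 (iv D54030) F234116 (iv F233584)
theorem F249031 : act 5 n55483 = n54299 := d25_2 (iv F241787) D55483 (iv D54299)
theorem F249032 : act 9 n55483 = n53927 := d29_2 (iv F241788) D55483 (iv D53927)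
def n55484 : Q := act 3 n53920
theorem D55484 : act 3 n53920 = n55484 := rfl
theorem F249033 : act 0 n55484 = n54384 := d2_1 D55484 (iv D54384) (iv F241789)
theorem F249034 : act 1 n55484 = n54274 := d10_1 D55484 (iv D54274) (iv F241790)
theorem F249035 : act 4 n55484 = n54054 := d24_2 (iv F241791) D55484 (iv D54054) F234228 (iv F233601)
theorem F249036 : act 5 n55484 = n54307 := d25_2 (iv F241792) D55484 (iv D54307)
theorem F249037 : act 7 n55484 = n53927 := d27_2 (iv F241793) D55484 (iv D53927)
def n55485 : Q := act 9 n53921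
theorem D55485 : act 9 n53921 = n55485 := rfl
theorem F249038 : act 0 n55485 = n53923 := d8_1 D55485 (iv D53923) (iv F241794)
theorem F249039 : act 1 n55485 = n54386 := d16_1 D55485 (iv D54386) (iv F241795)
theorem F249040 : act 2 n55485 = n54028 := d23_1 D55485 (iv D54028) (iv F241796)
theorem F249041 : act 4 n55485 = n53922 := d34_1 D55485 (iv D53922) D53921
theorem F249042 : act 5 n55485 = n54308 := d38_1 D55485 (iv D54308) (iv F241797)
theorem F249043 : act 6 n55485 = n54025 := d41_1 D55485 (iv D54025) (iv F241798)
def n55486 : Q := act 8 n53922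
theorem D55486 : act 8 n53922 = n55486 := rfl
theorem F249044 : act 0 n55486 = n53924 := d7_1 D55486 (iv D53924) (iv F241800)
theorem F249045 : act 1 n55486 = n54417 := d15_1 D55486 (iv D54417) (iv F241801)
theorem F249046 : act 2 n55486 = n54037 := d22_1 D55486 (iv D54037) (iv F241802)
theorem F249047 : act 5 n55486 = n53931 := d37_1 D55486 (iv D53931) (iv F241804)
theorem F249048 : act 6 n55486 = n54036 := d40_1 D55486 (iv D54036) (iv F241805)
theorem F249049 : act 9 n55486 = n54094 := d44_2 D53922 D55486 (iv D54094) (iv D52282) (iv F233609)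
def n55487 : Q := act 8 n53923
theorem D55487 : act 8 n53923 = n55487 := rfl
theorem F249050 : act 1 n55487 = n53925 := d15_1 D55487 (iv D53925) (iv F241806)
theorem F249051 : act 2 n55487 = n54278 := d22_1 D55487 (iv D54278) (iv F241807)
theorem F249052 : act 4 n55487 = n53924 := d33_1 D55487 (iv D53924) (iv F241808)
theorem F249053 : act 5 n55487 = n54311 := d37_1 D55487 (iv D54311) (iv F241809)
def n55488 : Q := act 3 n53924
theorem D55488 : act 3 n53924 = n55488 := rfl
theorem F249054 : act 1 n55488 = n53926 := d10_1 D55488 (iv D53926) (iv F241810)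
theorem F249055 : act 5 n55488 = n53932 := d25_2 (iv F241812) D55488 (iv D53932)
theorem F249056 : act 8 n55488 = n53934 := d28_2 D53924 D55488 (iv D53934) (iv D52122) (iv F233615)
def n55489 : Q := act 3 n53925
theorem D55489 : act 3 n53925 = n55489 := rfl
theorem F249057 : act 0 n55489 = n54401 := d2_1 D55489 (iv D54401) (iv F241813)
theorem F249058 : act 5 n55489 = n54314 := d25_2 (iv F241816) D55489 (iv D54314)
def n55490 : Q := act 4 n53926
theorem D55490 : act 4 n53926 = n55490 := rfl
theorem F249059 : act 0 n55490 = n54423 := d3_1 D55490 (iv D54423) (iv F241817)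
theorem F249060 : act 2 n55490 = n54074 := d18_1 D55490 (iv D54074) (iv F241818)
theorem F249061 : act 8 n55490 = n53935 := d33_2 (iv F241820) D55490 (iv D53935)
def n55491 : Q := act 2 n53927
theorem D55491 : act 2 n53927 = n55491 := rfl
theorem F249062 : act 0 n55491 = n54407 := d1_1 D55491 (iv D54407) (iv F241821)
theorem F249063 : act 4 n55491 = n54078 := d18_2 (iv F241823) D55491 (iv D54078)
theorem F249064 : act 5 n55491 = n54315 := d19_2 (iv F241824) D55491 (iv D54315)
def n55492 : Q := act 8 n53928
theorem D55492 : act 8 n53928 = n55492 := rfl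
theorem F249065 : act 0 n55492 = n53929 := d7_1 D55492 (iv D53929) (iv F241825)
theorem F249066 : act 1 n55492 = n54410 := d15_1 D55492 (iv D54410) (iv F241826)
theorem F249067 : act 2 n55492 = n54038 := d22_1 D55492 (iv D54038) (iv F241827)
theorem F249068 : act 4 n55492 = n54316 := d33_1 D55492 (iv D54316) (iv F241829)
theorem F249069 : act 6 n55492 = n55492 := d40_1 D55492 (iv D55492) F241830
theorem F249070 : act 7 n55492 = n53931 := d42_1 D55492 (iv D53931) (iv F241831)
theorem F249071 : act 9 n55492 = n54101 := d44_2 D53928 D55492 (iv D54101) (iv D52293) (iv F233634)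
def n55493 : Q := act 3 n53929
theorem D55493 : act 3 n53929 = n55493 := rfl
theorem F249072 : act 1 n55493 = n53930 := d10_1 D55493 (iv D53930) (iv F241832)
theorem F249073 : act 2 n55493 = n54446 := d17_1 D55493 (iv D54446) (iv F240386) F240387 (iv F241833)
theorem F249074 : act 6 n55493 = n55493 := d26_2 F241835 D55493 (iv D55493)
theorem F249075 : act 7 n55493 = n53932 := d27_2 (iv F241836) D55493 (iv D53932)
theorem F249076 : act 8 n55493 = n53937 := d28_2 D53929 D55493 (iv D53937) (iv D52125) (iv F233637)
def n55494 : Q := act 4 n53934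
theorem D55494 : act 4 n53934 = n55494 := rfl
theorem F249077 : act 1 n55494 = n53935 := d11_1 D55494 (iv D53935) (iv F241857)
theorem F249078 : act 9 n55494 = n55494 := d34_2 F241859 D55494 (iv D55494)
def n55495 : Q := act 5 n53935
theorem D55495 : act 5 n53935 = n55495 := rfl
theorem F249079 : act 0 n55495 = n54468 := d4_1 D55495 (iv D54468) (iv F241860)
theorem F249080 : act 2 n55495 = n54116 := d19_1 D55495 (iv D54116) (iv F241861)
theorem F249081 : act 4 n55495 = n53939 := d30_1 D55495 (iv D53939) (iv D52129) (iv F233681) D53935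
theorem F249082 : act 9 n55495 = n55495 := d38_2 F241862 D55495 (iv D55495)
def n55496 : Q := act 5 n53938
theorem D55496 : act 5 n53938 = n55496 := rfl
theorem F249083 : act 0 n55496 = n54451 := d4_1 D55496 F243546 (iv F241875)
theorem F249084 : act 2 n55496 = n54117 := d19_1 D55496 (iv D54117) (iv F241876)
theorem F249085 : act 3 n55496 = n54449 := d25_1 D55496 (iv D54449) (iv F241877)
theorem F249086 : act 7 n55496 = n53939 := d36_2 (iv F241879) D55496 (iv D53939)
theorem F249087 : act 9 n55496 = n55496 := d38_2 F241880 D55496 (iv D55496)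
def n55497 : Q := act 8 n53940
theorem D55497 : act 8 n53940 = n55497 := rfl
theorem F249088 : act 0 n55497 = n54273 := d7_1 D55497 (iv D54273) (iv F241885)
theorem F249089 : act 1 n55497 = n53962 := d15_1 D55497 (iv D53962) (iv F241886)
theorem F249090 : act 4 n55497 = n53941 := d33_1 D55497 (iv D53941) (iv F241888)
theorem F249091 : act 5 n55497 = n54251 := d37_1 D55497 (iv D54251) (iv F241889)
theorem F249092 : act 7 n55497 = n53942 := d42_1 D55497 (iv D53942) (iv F241890)
theorem F249093 : act 9 n55497 = n54253 := d44_2 D53940 D55497 (iv D54253) (iv D52497) (iv F233736)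
def n55498 : Q := act 3 n53942
theorem D55498 : act 3 n53942 = n55498 := rfl
theorem F249094 : act 0 n55498 = n54283 := d2_1 D55498 (iv D54283) (iv F241897)
theorem F249095 : act 1 n55498 = n53972 := d10_1 D55498 (iv D53972) (iv F241898)
theorem F249096 : act 4 n55498 = n54077 := d24_2 (iv F241899) D55498 (iv D54077) F234267 (iv F233748)
theorem F249097 : act 5 n55498 = n54252 := d25_2 (iv F241900) D55498 (iv D54252)
def n55499 : Q := act 9 n53943
theorem D55499 : act 9 n53943 = n55499 := rfl
theorem F249098 : act 0 n55499 = n54024 := d8_1 D55499 (iv D54024) (iv F241901)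
theorem F249099 : act 3 n55499 = n53944 := d29_1 D55499 (iv D53944) D53943
theorem F249100 : act 4 n55499 = n55499 := d34_1 D55499 (iv D55499) F241902
def n55500 : Q := act 8 n53944
theorem D55500 : act 8 n53944 = n55500 := rfl
theorem F249101 : act 0 n55500 = n54026 := d7_1 D55500 (iv D54026) (iv F241903)
theorem F249102 : act 2 n55500 = n53946 := d22_1 D55500 (iv D53946) (iv F241904)
theorem F249103 : act 4 n55500 = n53945 := d33_1 D55500 (iv D53945) (iv F241905)
theorem F249104 : act 9 n55500 = n53969 := d44_2 D53944 D55500 (iv D53969) (iv D52159) (iv F233759)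
def n55501 : Q := act 3 n53945
theorem D55501 : act 3 n53945 = n55501 := rfl
theorem F249105 : act 0 n55501 = n54027 := d2_1 D55501 (iv D54027) (iv F241906)
theorem F249106 : act 2 n55501 = n54366 := d17_1 D55501 (iv D54366) F235363 (iv F233767) (iv F241907)
theorem F249107 : act 5 n55501 = n53948 := d25_2 (iv F241908) D55501 (iv D53948)
theorem F249108 : act 8 n55501 = n55501 := d28_2 D53945 D55501 (iv D55501) (iv D53945) F233762
theorem F249109 : act 9 n55501 = n53970 := d29_2 (iv F241909) D55501 (iv D53970)
def n55502 : Q := act 3 n53946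
theorem D55502 : act 3 n53946 = n55502 := rfl
theorem F249110 : act 0 n55502 = n54030 := d2_1 D55502 (iv D54030) (iv F241910)
theorem F249111 : act 4 n55502 = n54357 := d24_2 (iv F241911) D55502 (iv D54357) F235321 (iv F233767)
theorem F249112 : act 9 n55502 = n53972 := d29_2 (iv F241912) D55502 (iv D53972)
def n55503 : Q := act 3 n53947
theorem D55503 : act 3 n53947 = n55503 := rfl
theorem F249113 : act 0 n55503 = n54032 := d2_1 D55503 (iv D54032) (iv F241913)
theorem F249114 : act 2 n55503 = n54361 := d17_1 D55503 (iv D54361) F235340 (iv F233778) (iv F241914)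
theorem F249115 : act 6 n55503 = n55503 := d26_2 F241916 D55503 (iv D55503)
theorem F249116 : act 7 n55503 = n53948 := d27_2 (iv F241917) D55503 (iv D53948)
theorem F249117 : act 8 n55503 = n55503 := d28_2 D53947 D55503 (iv D55503) (iv D53947) F233772
theorem F249118 : act 9 n55503 = n53976 := d29_2 (iv F241918) D55503 (iv D53976)
def n55504 : Q := act 4 n53949
theorem D55504 : act 4 n53949 = n55504 := rfl
theorem F249119 : act 0 n55504 = n54321 := d3_1 D55504 F243168 (iv F241924)
theorem F249120 : act 1 n55504 = n53950 := d11_1 D55504 (iv D53950) D53949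
theorem F249121 : act 3 n55504 = n54319 := d24_1 D55504 (iv D54319) F235240 (iv F233915) (iv F241925)
theorem F249122 : act 6 n55504 = n53955 := d31_2 (iv F241927) D55504 (iv D53955)
theorem F249123 : act 7 n55504 = n54388 := d32_2 (iv F241928) D55504 F243356
def n55505 : Q := act 9 n53949
theorem D55505 : act 9 n53949 = n55505 := rfl
theorem F249124 : act 0 n55505 = n54435 := d8_1 D55505 (iv D54435) (iv F241924)
theorem F249125 : act 1 n55505 = n53951 := d16_1 D55505 (iv D53951) D53949
theorem F249126 : act 3 n55505 = n53983 := d29_1 D55505 (iv D53983) (iv F241925)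
theorem F249127 : act 5 n55505 = n55505 := d38_1 D55505 (iv D55505) F241926
theorem F249128 : act 6 n55505 = n53956 := d41_1 D55505 (iv D53956) (iv F241927)
theorem F249129 : act 7 n55505 = n54428 := d43_1 D55505 F243460 (iv F241928)
def n55506 : Q := act 9 n53950
theorem D55506 : act 9 n53950 = n55506 := rfl
theorem F249130 : act 0 n55506 = n54040 := d8_1 D55506 (iv D54040) (iv F241929)
theorem F249131 : act 2 n55506 = n53953 := d23_1 D55506 (iv D53953) (iv F241930)
theorem F249132 : act 3 n55506 = n54399 := d29_1 D55506 (iv D54399) (iv F241931)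
theorem F249133 : act 4 n55506 = n53951 := d34_1 D55506 (iv D53951) D53950
theorem F249134 : act 6 n55506 = n53959 := d41_1 D55506 (iv D53959) (iv F241932)
theorem F249135 : act 7 n55506 = n54394 := d43_1 D55506 (iv D54394) (iv F241933)
def n55507 : Q := act 8 n53951
theorem D55507 : act 8 n53951 = n55507 := rfl
theorem F249136 : act 0 n55507 = n54041 := d7_1 D55507 (iv D54041) (iv F241934)
theorem F249137 : act 2 n55507 = n53954 := d22_1 D55507 (iv D53954) (iv F241935)
theorem F249138 : act 5 n55507 = n55507 := d37_1 D55507 (iv D55507) F241937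
theorem F249139 : act 6 n55507 = n53960 := d40_1 D55507 (iv D53960) (iv F241938)
theorem F249140 : act 7 n55507 = n54453 := d42_1 D55507 (iv D54453) (iv F241939)
def n55508 : Q := act 9 n53952
theorem D55508 : act 9 n53952 = n55508 := rfl
theorem F249141 : act 0 n55508 = n54042 := d8_1 D55508 (iv D54042) (iv F241940)
theorem F249142 : act 4 n55508 = n55508 := d34_1 D55508 (iv D55508) F241941
theorem F249143 : act 5 n55508 = n53953 := d38_1 D55508 (iv D53953) D53952
def n55509 : Q := act 8 n53953
theorem D55509 : act 8 n53953 = n55509 := rfl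
theorem F249144 : act 0 n55509 = n54043 := d7_1 D55509 (iv D54043) (iv F241942)
theorem F249145 : act 4 n55509 = n53954 := d33_1 D55509 (iv D53954) (iv F241943)
theorem F249146 : act 6 n55509 = n53962 := d40_1 D55509 (iv D53962) (iv F241944)
def n55510 : Q := act 9 n53955
theorem D55510 : act 9 n53955 = n55510 := rfl
theorem F249147 : act 1 n55510 = n53959 := d16_1 D55510 (iv D53959) (iv F241949)
theorem F249148 : act 4 n55510 = n53956 := d34_1 D55510 (iv D53956) D53955
theorem F249149 : act 7 n55510 = n53964 := d43_1 D55510 (iv D53964) (iv F241950)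
def n55511 : Q := act 8 n53956
theorem D55511 : act 8 n53956 = n55511 := rfl
theorem F249150 : act 1 n55511 = n53960 := d15_1 D55511 (iv D53960) (iv F241951)
theorem F249151 : act 5 n55511 = n53973 := d37_1 D55511 (iv D53973) (iv F241953)
theorem F249152 : act 7 n55511 = n53965 := d42_1 D55511 (iv D53965) (iv F241954)
def n55512 : Q := act 5 n53957
theorem D55512 : act 5 n53957 = n55512 := rfl
theorem F249153 : act 0 n55512 = n54047 := d4_1 D55512 (iv D54047) (iv F241955)
theorem F249154 : act 2 n55512 = n54176 := d19_1 D55512 F242770 (iv F241956)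
theorem F249155 : act 3 n55512 = n53958 := d25_1 D55512 (iv D53958) D53957
theorem F249156 : act 4 n55512 = n55512 := d30_1 D55512 (iv D55512) F241957 F233940 (iv F241957)
theorem F249157 : act 7 n55512 = n53966 := d36_2 (iv F241959) D55512 (iv D53966)
def n55513 : Q := act 9 n53957
theorem D55513 : act 9 n53957 = n55513 := rfl
theorem F249158 : act 0 n55513 = n54049 := d8_1 D55513 (iv D54049) (iv F241955)
theorem F249159 : act 2 n55513 = n54382 := d23_1 D55513 (iv D54382) (iv F241956)
theorem F249160 : act 3 n55513 = n53959 := d29_1 D55513 (iv D53959) D53957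
theorem F249161 : act 4 n55513 = n53986 := d34_1 D55513 (iv D53986) (iv F241957)
theorem F249162 : act 6 n55513 = n54399 := d41_1 D55513 (iv D54399) (iv F241958)
theorem F249163 : act 7 n55513 = n53967 := d43_1 D55513 (iv D53967) (iv F241959)
def n55514 : Q := act 9 n53958
theorem D55514 : act 9 n53958 = n55514 := rfl
theorem F249164 : act 0 n55514 = n54050 := d8_1 D55514 (iv D54050) (iv F241960)
theorem F249165 : act 2 n55514 = n53961 := d23_1 D55514 (iv D53961) (iv F241961)
theorem F249166 : act 4 n55514 = n53974 := d34_1 D55514 (iv D53974) (iv F241962)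
theorem F249167 : act 5 n55514 = n53959 := d38_1 D55514 (iv D53959) D53958
theorem F249168 : act 7 n55514 = n53968 := d43_1 D55514 (iv D53968) (iv F241963)
def n55515 : Q := act 8 n53959
theorem D55515 : act 8 n53959 = n55515 := rfl
theorem F249169 : act 0 n55515 = n54051 := d7_1 D55515 (iv D54051) (iv F241965)
theorem F249170 : act 2 n55515 = n53962 := d22_1 D55515 (iv D53962) (iv F241966)
theorem F249171 : act 4 n55515 = n53960 := d33_1 D55515 (iv D53960) (iv F241967)
theorem F249172 : act 7 n55515 = n53969 := d42_1 D55515 (iv D53969) (iv F241968)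
def n55516 : Q := act 3 n53960
theorem D55516 : act 3 n53960 = n55516 := rfl
theorem F249173 : act 0 n55516 = n54052 := d2_1 D55516 (iv D54052) (iv F241969)
theorem F249174 : act 2 n55516 = n54413 := d17_1 D55516 (iv D54413) F235510 (iv F233824) (iv F241970)
theorem F249175 : act 5 n55516 = n53976 := d25_2 (iv F241971) D55516 (iv D53976)
theorem F249176 : act 7 n55516 = n53970 := d27_2 (iv F241972) D55516 (iv D53970)
theorem F249177 : act 8 n55516 = n53988 := d28_2 D53960 D55516 (iv D53988) (iv D52183) (iv F233811)
def n55517 : Q := act 8 n53961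
theorem D55517 : act 8 n53961 = n55517 := rfl
theorem F249178 : act 0 n55517 = n54053 := d7_1 D55517 (iv D54053) (iv F241973)
theorem F249179 : act 1 n55517 = n54251 := d15_1 D55517 (iv D54251) (iv F241974)
theorem F249180 : act 4 n55517 = n53977 := d33_1 D55517 (iv D53977) (iv F241976)
theorem F249181 : act 5 n55517 = n53962 := d37_1 D55517 (iv D53962) (iv F241977)
theorem F249182 : act 7 n55517 = n53971 := d42_1 D55517 (iv D53971) (iv F241978)
theorem F249183 : act 9 n55517 = n54297 := d44_2 D53961 D55517 (iv D54297) (iv D52548) (iv F233819)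
def n55518 : Q := act 3 n53962
theorem D55518 : act 3 n53962 = n55518 := rfl
theorem F249184 : act 0 n55518 = n54054 := d2_1 D55518 (iv D54054) (iv F241979)
theorem F249185 : act 4 n55518 = n54384 := d24_2 (iv F241980) D55518 (iv D54384) F235438 (iv F233824)
theorem F249186 : act 7 n55518 = n53972 := d27_2 (iv F241981) D55518 (iv D53972)
def n55519 : Q := act 9 n53963
theorem D55519 : act 9 n53963 = n55519 := rfl
theorem F249187 : act 1 n55519 = n53967 := d16_1 D55519 (iv D53967) (iv F241982)
theorem F249188 : act 3 n55519 = n53964 := d29_1 D55519 (iv D53964) D53963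
theorem F249189 : act 4 n55519 = n53990 := d34_1 D55519 (iv D53990) (iv F241983)
theorem F249190 : act 6 n55519 = n54376 := d41_1 D55519 (iv D54376) (iv F241984)
def n55520 : Q := act 8 n53964
theorem D55520 : act 8 n53964 = n55520 := rfl
theorem F249191 : act 1 n55520 = n53969 := d15_1 D55520 (iv D53969) (iv F241985)
theorem F249192 : act 4 n55520 = n53965 := d33_1 D55520 (iv D53965) (iv F241986)
theorem F249193 : act 6 n55520 = n54404 := d40_1 D55520 F243391 (iv F241987)
def n55521 : Q := act 3 n53965
theorem D55521 : act 3 n53965 = n55521 := rfl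
theorem F249194 : act 1 n55521 = n53970 := d10_1 D55521 (iv D53970) (iv F241988)
theorem F249195 : act 5 n55521 = n53978 := d25_2 (iv F241989) D55521 (iv D53978)
theorem F249196 : act 6 n55521 = n54424 := d26_2 (iv F241990) D55521 F243444
theorem F249197 : act 8 n55521 = n53992 := d28_2 D53965 D55521 (iv D53992) (iv D52188) (iv F233830)
def n55522 : Q := act 9 n53966
theorem D55522 : act 9 n53966 = n55522 := rfl
theorem F249198 : act 0 n55522 = n54067 := d8_1 D55522 (iv D54067) (iv F241991)
theorem F249199 : act 2 n55522 = n54373 := d23_1 D55522 (iv D54373) (iv F241992)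
theorem F249200 : act 3 n55522 = n53968 := d29_1 D55522 (iv D53968) (iv F241993)
theorem F249201 : act 4 n55522 = n55522 := d34_1 D55522 (iv D55522) F241994
theorem F249202 : act 5 n55522 = n53967 := d38_1 D55522 (iv D53967) D53966
theorem F249203 : act 6 n55522 = n54371 := d41_1 D55522 (iv D54371) (iv F241995)
def n55523 : Q := act 8 n53967
theorem D55523 : act 8 n53967 = n55523 := rfl
theorem F249204 : act 0 n55523 = n54069 := d7_1 D55523 (iv D54069) (iv F241996)
theorem F249205 : act 2 n55523 = n54383 := d22_1 D55523 (iv D54383) (iv F241997)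
theorem F249206 : act 4 n55523 = n53993 := d33_1 D55523 (iv D53993) (iv F241999)
theorem F249207 : act 6 n55523 = n54379 := d40_1 D55523 (iv D54379) (iv F242000)
def n55524 : Q := act 8 n53968
theorem D55524 : act 8 n53968 = n55524 := rfl
theorem F249208 : act 0 n55524 = n54072 := d7_1 D55524 (iv D54072) (iv F242001)
theorem F249209 : act 2 n55524 = n53971 := d22_1 D55524 (iv D53971) (iv F242002)
theorem F249210 : act 4 n55524 = n53979 := d33_1 D55524 (iv D53979) (iv F242003)
theorem F249211 : act 5 n55524 = n53969 := d37_1 D55524 (iv D53969) (iv F242004)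
def n55525 : Q := act 3 n53969
theorem D55525 : act 3 n53969 = n55525 := rfl
theorem F249212 : act 0 n55525 = n54073 := d2_1 D55525 (iv D54073) (iv F242005)
def n55526 : Q := act 4 n53970
theorem D55526 : act 4 n53970 = n55526 := rfl
theorem F249213 : act 0 n55526 = n54074 := d3_1 D55526 (iv D54074) (iv F242008)
theorem F249214 : act 2 n55526 = n54423 := d18_1 D55526 (iv D54423) (iv F242009)
theorem F249215 : act 8 n55526 = n53995 := d33_2 (iv F242011) D55526 (iv D53995)
def n55527 : Q := act 3 n53971
theorem D55527 : act 3 n53971 = n55527 := rfl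
theorem F249216 : act 0 n55527 = n54077 := d2_1 D55527 (iv D54077) (iv F242012)
theorem F249217 : act 1 n55527 = n54252 := d10_1 D55527 (iv D54252) (iv F242013)
theorem F249218 : act 4 n55527 = n54283 := d24_2 (iv F242014) D55527 (iv D54283) F235090 (iv F233899)
theorem F249219 : act 5 n55527 = n53972 := d25_2 (iv F242015) D55527 (iv D53972)
def n55528 : Q := act 2 n53972
theorem D55528 : act 2 n53972 = n55528 := rfl
theorem F249220 : act 0 n55528 = n54078 := d1_1 D55528 (iv D54078) (iv F242016)
theorem F249221 : act 4 n55528 = n54407 := d18_2 (iv F242017) D55528 (iv D54407)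
def n55529 : Q := act 3 n53973
theorem D55529 : act 3 n53973 = n55529 := rfl
theorem F249222 : act 1 n55529 = n53976 := d10_1 D55529 (iv D53976) (iv F242018)
theorem F249223 : act 6 n55529 = n55529 := d26_2 F242019 D55529 (iv D55529)
theorem F249224 : act 7 n55529 = n53978 := d27_2 (iv F242020) D55529 (iv D53978)
theorem F249225 : act 8 n55529 = n53997 := d28_2 D53973 D55529 (iv D53997) (iv D52193) (iv F233853)
def n55530 : Q := act 8 n53974
theorem D55530 : act 8 n53974 = n55530 := rfl
theorem F249226 : act 0 n55530 = n54085 := d7_1 D55530 (iv D54085) (iv F242021)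
theorem F249227 : act 2 n55530 = n53977 := d22_1 D55530 (iv D53977) (iv F242022)
theorem F249228 : act 5 n55530 = n53975 := d37_1 D55530 (iv D53975) (iv F242024)
theorem F249229 : act 7 n55530 = n53979 := d42_1 D55530 (iv D53979) (iv F242025)
theorem F249230 : act 9 n55530 = n54296 := d44_2 D53974 D55530 (iv D54296) (iv D52547) (iv F233860)
def n55531 : Q := act 3 n53975
theorem D55531 : act 3 n53975 = n55531 := rfl
theorem F249231 : act 0 n55531 = n54086 := d2_1 D55531 (iv D54086) (iv F242026)
theorem F249232 : act 2 n55531 = n54288 := d17_1 D55531 (iv D54288) F235110 (iv F233878) (iv F242027)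
theorem F249233 : act 6 n55531 = n55531 := d26_2 F242029 D55531 (iv D55531)
theorem F249234 : act 7 n55531 = n53980 := d27_2 (iv F242030) D55531 (iv D53980)
theorem F249235 : act 8 n55531 = n55531 := d28_2 D53975 D55531 (iv D55531) (iv D53975) F233863
theorem F249236 : act 9 n55531 = n54469 := d29_2 (iv F242031) D55531 (iv D54469)
def n55532 : Q := act 4 n53976
theorem D55532 : act 4 n53976 = n55532 := rfl
theorem F249237 : act 0 n55532 = n54087 := d3_1 D55532 (iv D54087) (iv F242032)
theorem F249238 : act 2 n55532 = n54414 := d18_1 D55532 (iv D54414) (iv F242033)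
theorem F249239 : act 6 n55532 = n55532 := d31_2 F242034 D55532 (iv D55532)
theorem F249240 : act 7 n55532 = n53981 := d32_2 (iv F242035) D55532 (iv D53981)
theorem F249241 : act 8 n55532 = n53998 := d33_2 (iv F242036) D55532 (iv D53998)
def n55533 : Q := act 4 n53978
theorem D55533 : act 4 n53978 = n55533 := rfl
theorem F249242 : act 1 n55533 = n53981 := d11_1 D55533 (iv D53981) (iv F242043)
theorem F249243 : act 2 n55533 = n54426 := d18_1 D55533 (iv F248699) F248698
theorem F249244 : act 6 n55533 = n53982 := d31_2 (iv F242044) D55533 (iv D53982)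
theorem F249245 : act 8 n55533 = n53999 := d33_2 (iv F242045) D55533 (iv D53999)
def n55534 : Q := act 3 n53979
theorem D55534 : act 3 n53979 = n55534 := rfl
theorem F249246 : act 0 n55534 = n54095 := d2_1 D55534 (iv D54095) (iv F242046)
theorem F249247 : act 2 n55534 = n54292 := d17_1 D55534 (iv D54292) F235129 (iv F233899) (iv F242047)
theorem F249248 : act 5 n55534 = n53980 := d25_2 (iv F242048) D55534 (iv D53980)
theorem F249249 : act 8 n55534 = n55534 := d28_2 D53979 D55534 (iv D55534) (iv D53979) F233887
def n55535 : Q := act 5 n53981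
theorem D55535 : act 5 n53981 = n55535 := rfl
theorem F249250 : act 0 n55535 = n54096 := d4_1 D55535 (iv D54096) (iv F242053)
theorem F249251 : act 2 n55535 = n54424 := d19_1 D55535 (iv D54424) (iv F242054)
theorem F249252 : act 8 n55535 = n54000 := d37_2 (iv F242056) D55535 (iv D54000)
def n55536 : Q := act 8 n53983
theorem D55536 : act 8 n53983 = n55536 := rfl
theorem F249253 : act 0 n55536 = n54436 := d7_1 D55536 (iv D54436) (iv F242062)
theorem F249254 : act 1 n55536 = n53984 := d15_1 D55536 (iv D53984) (iv F242063)
theorem F249255 : act 2 n55536 = n55536 := d22_1 D55536 (iv D55536) F242064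
theorem F249256 : act 4 n55536 = n54434 := d33_1 D55536 (iv D54434) (iv F242065)
theorem F249257 : act 5 n55536 = n55536 := d37_1 D55536 (iv D55536) F242066
theorem F249258 : act 6 n55536 = n53985 := d40_1 D55536 (iv D53985) (iv F242067)
theorem F249259 : act 7 n55536 = n54450 := d42_1 D55536 (iv D54450) (iv F242068)
theorem F249260 : act 9 n55536 = n55536 := d44_2 D53983 D55536 (iv D55536) (iv D53983) F233919
def n55537 : Q := act 3 n53984
theorem D55537 : act 3 n53984 = n55537 := rfl
theorem F249261 : act 0 n55537 = n54103 := d2_1 D55537 (iv D54103) (iv F242069)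
theorem F249262 : act 2 n55537 = n53994 := d17_1 D55537 (iv D53994) F233986 (iv F233928) (iv F242070)
theorem F249263 : act 5 n55537 = n55537 := d25_2 F242072 D55537 (iv D55537)
theorem F249264 : act 6 n55537 = n53988 := d26_2 (iv F242073) D55537 (iv D53988)
theorem F249265 : act 7 n55537 = n54457 := d27_2 (iv F242074) D55537 (iv D54457)
theorem F249266 : act 9 n55537 = n55537 := d29_2 F242075 D55537 (iv D55537)
def n55538 : Q := act 3 n53985
theorem D55538 : act 3 n53985 = n55538 := rfl
theorem F249267 : act 1 n55538 = n53988 := d10_1 D55538 (iv D53988) (iv F242076)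
theorem F249268 : act 5 n55538 = n53997 := d25_2 (iv F242078) D55538 (iv D53997)
theorem F249269 : act 7 n55538 = n53992 := d27_2 (iv F242079) D55538 (iv D53992)
theorem F249270 : act 9 n55538 = n55538 := d29_2 F242080 D55538 (iv D55538)
def n55539 : Q := act 8 n53986
theorem D55539 : act 8 n53986 = n55539 := rfl
theorem F249271 : act 0 n55539 = n54106 := d7_1 D55539 (iv D54106) (iv F242081)
theorem F249272 : act 2 n55539 = n54416 := d22_1 D55539 (iv D54416) (iv F242082)
theorem F249273 : act 5 n55539 = n55539 := d37_1 D55539 (iv D55539) F242084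
theorem F249274 : act 6 n55539 = n54421 := d40_1 D55539 (iv D54421) (iv F242085)
theorem F249275 : act 7 n55539 = n53993 := d42_1 D55539 (iv D53993) (iv F242086)
def n55540 : Q := act 3 n53987
theorem D55540 : act 3 n53987 = n55540 := rfl
theorem F249276 : act 0 n55540 = n54107 := d2_1 D55540 (iv D54107) (iv F242087)
theorem F249277 : act 2 n55540 = n54457 := d17_1 D55540 (iv D54457) F235767 (iv F233956) (iv F242088)
theorem F249278 : act 5 n55540 = n55540 := d25_2 F242090 D55540 (iv D55540)
theorem F249279 : act 6 n55540 = n54458 := d26_2 (iv F242091) D55540 F243564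
theorem F249280 : act 7 n55540 = n53994 := d27_2 (iv F242092) D55540 (iv D53994)
theorem F249281 : act 9 n55540 = n55540 := d29_2 F242093 D55540 (iv D55540)
def n55541 : Q := act 4 n53988
theorem D55541 : act 4 n53988 = n55541 := rfl
theorem F249282 : act 0 n55541 = n54108 := d3_1 D55541 (iv D54108) (iv F242094)
theorem F249283 : act 2 n55541 = n54463 := d18_1 D55541 (iv D54463) (iv F242095)
theorem F249284 : act 7 n55541 = n53995 := d32_2 (iv F242097) D55541 (iv D53995)
theorem F249285 : act 9 n55541 = n55541 := d34_2 F242098 D55541 (iv D55541)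
def n55542 : Q := act 8 n53990
theorem D55542 : act 8 n53990 = n55542 := rfl
theorem F249286 : act 1 n55542 = n53993 := d15_1 D55542 (iv D53993) (iv F242105)
theorem F249287 : act 5 n55542 = n55542 := d37_1 D55542 (iv D55542) F242107
theorem F249288 : act 6 n55542 = n54411 := d40_1 D55542 (iv D54411) (iv F242108)
def n55543 : Q := act 3 n53991
theorem D55543 : act 3 n53991 = n55543 := rfl
theorem F249289 : act 1 n55543 = n53994 := d10_1 D55543 (iv D53994) (iv F242109)
theorem F249290 : act 5 n55543 = n55543 := d25_2 F242112 D55543 (iv D55543)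
theorem F249291 : act 6 n55543 = n54462 := d26_2 (iv F242113) D55543 F243581
theorem F249292 : act 9 n55543 = n55543 := d29_2 F242114 D55543 (iv D55543)
def n55544 : Q := act 4 n53992
theorem D55544 : act 4 n53992 = n55544 := rfl
theorem F249293 : act 1 n55544 = n53995 := d11_1 D55544 (iv D53995) (iv F242115)
theorem F249294 : act 6 n55544 = n54468 := d31_2 (iv F242117) D55544 F243597
theorem F249295 : act 9 n55544 = n55544 := d34_2 F242118 D55544 (iv D55544)
def n55545 : Q := act 3 n53993
theorem D55545 : act 3 n53993 = n55545 := rfl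
theorem F249296 : act 0 n55545 = n54114 := d2_1 D55545 (iv D54114) (iv F242119)
theorem F249297 : act 5 n55545 = n55545 := d25_2 F242121 D55545 (iv D55545)
theorem F249298 : act 6 n55545 = n54413 := d26_2 (iv F242122) D55545 (iv D54413)
theorem F249299 : act 8 n55545 = n53994 := d28_2 D53993 D55545 (iv D53994) (iv D52190) (iv F233982)
def n55546 : Q := act 4 n53994
theorem D55546 : act 4 n53994 = n55546 := rfl
theorem F249300 : act 0 n55546 = n54115 := d3_1 D55546 (iv D54115) (iv F242123)
theorem F249301 : act 3 n55546 = n53995 := d24_1 D55546 (iv D53995) (iv D52191) (iv F233987) D53994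
theorem F249302 : act 6 n55546 = n54463 := d31_2 (iv F242125) D55546 (iv D54463)
theorem F249303 : act 9 n55546 = n55546 := d34_2 F242126 D55546 (iv D55546)
def n55547 : Q := act 5 n53995
theorem D55547 : act 5 n53995 = n55547 := rfl
theorem F249304 : act 0 n55547 = n54116 := d4_1 D55547 (iv D54116) (iv F242127)
theorem F249305 : act 2 n55547 = n54468 := d19_1 D55547 (iv D54468) (iv F242128)
theorem F249306 : act 4 n55547 = n54000 := d30_1 D55547 (iv D54000) (iv D52197) (iv F233993) D53995
theorem F249307 : act 9 n55547 = n55547 := d38_2 F242129 D55547 (iv D55547)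
def n55548 : Q := act 4 n53997
theorem D55548 : act 4 n53997 = n55548 := rfl
theorem F249308 : act 0 n55548 = n54471 := d3_1 D55548 (iv F245591) F245588
theorem F249309 : act 1 n55548 = n53998 := d11_1 D55548 (iv D53998) (iv F242137)
theorem F249310 : act 2 n55548 = n54460 := d18_1 D55548 (iv F248742) F248740
theorem F249311 : act 3 n55548 = n55548 := d24_1 D55548 (iv D55548) (iv D53997) F234003 D53997
theorem F249312 : act 6 n55548 = n55548 := d31_2 F242138 D55548 (iv D55548)
theorem F249313 : act 7 n55548 = n53999 := d32_2 (iv F242139) D55548 (iv D53999)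
theorem F249314 : act 9 n55548 = n55548 := d34_2 F242140 D55548 (iv D55548)
def n55549 : Q := act 5 n53998
theorem D55549 : act 5 n53998 = n55549 := rfl
theorem F249315 : act 0 n55549 = n54117 := d4_1 D55549 (iv D54117) (iv F242141)
theorem F249316 : act 2 n55549 = n54451 := d19_1 D55549 F243546 (iv F242142)
theorem F249317 : act 3 n55549 = n55549 := d25_1 D55549 (iv D55549) F242143
theorem F249318 : act 7 n55549 = n54000 := d36_2 (iv F242145) D55549 (iv D54000)
theorem F249319 : act 9 n55549 = n55549 := d38_2 F242146 D55549 (iv D55549)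
def n55550 : Q := act 5 n53999
theorem D55550 : act 5 n53999 = n55550 := rfl
theorem F249320 : act 1 n55550 = n54000 := d12_1 D55550 (iv D54000) (iv F242147)
theorem F249321 : act 2 n55550 = n54464 := d19_1 D55550 F243587 (iv F242148)
theorem F249322 : act 3 n55550 = n55550 := d25_1 D55550 (iv D55550) F242149
theorem F249323 : act 6 n55550 = n54465 := d35_2 (iv F242150) D55550 F243591 F235817 (iv F234029)
theorem F249324 : act 9 n55550 = n55550 := d38_2 F242151 D55550 (iv D55550)
def n55551 : Q := act 9 n54001
theorem D55551 : act 9 n54001 = n55551 := rfl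
theorem F249325 : act 0 n55551 = n54003 := d8_1 D55551 (iv D54003) D54001
theorem F249326 : act 1 n55551 = n54093 := d16_1 D55551 (iv D54093) (iv F242156)
theorem F249327 : act 2 n55551 = n54320 := d23_1 D55551 (iv D54320) (iv F242157)
theorem F249328 : act 3 n55551 = n55551 := d29_1 D55551 (iv D55551) F242158
theorem F249329 : act 5 n55551 = n54099 := d38_1 D55551 (iv D54099) (iv F242159)
theorem F249330 : act 7 n55551 = n54090 := d43_1 D55551 (iv D54090) (iv F242160)
def n55552 : Q := act 9 n54002
theorem D55552 : act 9 n54002 = n55552 := rfl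
theorem F249331 : act 1 n55552 = n54005 := d16_1 D55552 (iv D54005) (iv F242162)
theorem F249332 : act 2 n55552 = n54322 := d23_1 D55552 (iv D54322) (iv F242163)
theorem F249333 : act 4 n55552 = n54003 := d34_1 D55552 (iv D54003) D54002
theorem F249334 : act 5 n55552 = n54334 := d38_1 D55552 (iv D54334) (iv F242164)
theorem F249335 : act 7 n55552 = n54344 := d43_1 D55552 (iv D54344) (iv F242165)
def n55553 : Q := act 8 n54003
theorem D55553 : act 8 n54003 = n55553 := rfl
theorem F249336 : act 1 n55553 = n54006 := d15_1 D55553 (iv D54006) (iv F242167)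
theorem F249337 : act 2 n55553 = n54323 := d22_1 D55553 (iv D54323) (iv F242168)
theorem F249338 : act 5 n55553 = n54360 := d37_1 D55553 (iv D54360) (iv F242170)
theorem F249339 : act 7 n55553 = n54362 := d42_1 D55553 (iv D54362) (iv F242171)
theorem F249340 : act 9 n55553 = n54411 := d44_2 D54003 D55553 (iv D54411) (iv D52673) (iv F234036)
def n55554 : Q := act 9 n54004
theorem D55554 : act 9 n54004 = n55554 := rfl
theorem F249341 : act 2 n55554 = n54024 := d23_1 D55554 (iv D54024) (iv F242172)
theorem F249342 : act 3 n55554 = n54005 := d29_1 D55554 (iv D54005) D54004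
theorem F249343 : act 4 n55554 = n55554 := d34_1 D55554 (iv D55554) F242173
theorem F249344 : act 5 n55554 = n54336 := d38_1 D55554 (iv D54336) (iv F242174)
theorem F249345 : act 7 n55554 = n54348 := d43_1 D55554 (iv D54348) (iv F242175)
def n55555 : Q := act 8 n54005
theorem D55555 : act 8 n54005 = n55555 := rfl
theorem F249346 : act 2 n55555 = n54007 := d22_1 D55555 (iv D54007) (iv F242176)
theorem F249347 : act 4 n55555 = n54006 := d33_1 D55555 (iv D54006) (iv F242177)
theorem F249348 : act 5 n55555 = n54337 := d37_1 D55555 (iv D54337) (iv F242178)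
theorem F249349 : act 7 n55555 = n54353 := d42_1 D55555 (iv D54353) (iv F242179)
theorem F249350 : act 9 n55555 = n54379 := d44_2 D54005 D55555 (iv D54379) (iv D52640) (iv F234040)
def n55556 : Q := act 3 n54006
theorem D55556 : act 3 n54006 = n55556 := rfl
theorem F249351 : act 5 n55556 = n54361 := d25_2 (iv F242181) D55556 (iv D54361)
theorem F249352 : act 7 n55556 = n54366 := d27_2 (iv F242182) D55556 (iv D54366)
theorem F249353 : act 8 n55556 = n55556 := d28_2 D54006 D55556 (iv D55556) (iv D54006) F234042
theorem F249354 : act 9 n55556 = n54413 := d29_2 (iv F242183) D55556 (iv D54413)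
def n55557 : Q := act 3 n54007
theorem D55557 : act 3 n54007 = n55557 := rfl
theorem F249355 : act 1 n55557 = n54328 := d10_1 D55557 (iv D54328) (iv F242184)
theorem F249356 : act 5 n55557 = n54338 := d25_2 (iv F242186) D55557 (iv D54338)
theorem F249357 : act 7 n55557 = n54357 := d27_2 (iv F242187) D55557 (iv D54357)
theorem F249358 : act 8 n55557 = n54030 := d28_2 D54007 D55557 (iv D54030) (iv D52220) (iv F234046)
theorem F249359 : act 9 n55557 = n54384 := d29_2 (iv F242188) D55557 (iv D54384)
def n55558 : Q := act 3 n54008
theorem D55558 : act 3 n54008 = n55558 := rfl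
theorem F249360 : act 2 n55558 = n54346 := d17_1 D55558 F243233 F235308 (iv F234059) (iv F242189)
theorem F249361 : act 4 n55558 = n55558 := d24_2 D54008 D55558 (iv D55558) (iv D54008) F234054
theorem F249362 : act 6 n55558 = n54014 := d26_2 (iv F242190) D55558 (iv D54014)
def n55559 : Q := act 9 n54008
theorem D55559 : act 9 n54008 = n55559 := rfl
theorem F249363 : act 2 n55559 = n54010 := d23_1 D55559 (iv D54010) (iv F242189)
theorem F249364 : act 4 n55559 = n54009 := d34_1 D55559 (iv D54009) D54008
theorem F249365 : act 6 n55559 = n54015 := d41_1 D55559 (iv D54015) (iv F242190)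
def n55560 : Q := act 8 n54009
theorem D55560 : act 8 n54009 = n55560 := rfl
theorem F249366 : act 2 n55560 = n54011 := d22_1 D55560 (iv D54011) (iv F242192)
theorem F249367 : act 5 n55560 = n55560 := d37_1 D55560 (iv D55560) F242194
theorem F249368 : act 6 n55560 = n54016 := d40_1 D55560 (iv D54016) (iv F242195)
theorem F249369 : act 9 n55560 = n54041 := d44_2 D54009 D55560 (iv D54041) (iv D52236) (iv F234057)
def n55561 : Q := act 8 n54010
theorem D55561 : act 8 n54010 = n55561 := rfl
theorem F249370 : act 1 n55561 = n54333 := d15_1 D55561 (iv D54333) (iv F242196)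
theorem F249371 : act 4 n55561 = n54011 := d33_1 D55561 (iv D54011) (iv F242198)
theorem F249372 : act 6 n55561 = n54017 := d40_1 D55561 (iv D54017) (iv F242199)
theorem F249373 : act 9 n55561 = n54043 := d44_2 D54010 D55561 (iv D54043) (iv D52238) (iv F234061)
def n55562 : Q := act 3 n54012
theorem D55562 : act 3 n54012 = n55562 := rfl
theorem F249374 : act 1 n55562 = n54014 := d10_1 D55562 (iv D54014) (iv F242204)
theorem F249375 : act 4 n55562 = n55562 := d24_2 D54012 D55562 (iv D55562) (iv D54012) F234067
theorem F249376 : act 5 n55562 = n54321 := d25_2 (iv F242206) D55562 (iv D54321)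
theorem F249377 : act 7 n55562 = n54018 := d27_2 (iv F242207) D55562 (iv D54018)
def n55563 : Q := act 9 n54012
theorem D55563 : act 9 n54012 = n55563 := rfl
theorem F249378 : act 1 n55563 = n54015 := d16_1 D55563 (iv D54015) (iv F242204)
theorem F249379 : act 2 n55563 = n54334 := d23_1 D55563 (iv D54334) (iv F242205)
theorem F249380 : act 4 n55563 = n54013 := d34_1 D55563 (iv D54013) D54012
theorem F249381 : act 5 n55563 = n54322 := d38_1 D55563 (iv D54322) (iv F242206)
theorem F249382 : act 7 n55563 = n54020 := d43_1 D55563 (iv D54020) (iv F242207)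
def n55564 : Q := act 8 n54013
theorem D55564 : act 8 n54013 = n55564 := rfl
theorem F249383 : act 1 n55564 = n54016 := d15_1 D55564 (iv D54016) (iv F242209)
theorem F249384 : act 2 n55564 = n54335 := d22_1 D55564 (iv D54335) (iv F242210)
theorem F249385 : act 5 n55564 = n54031 := d37_1 D55564 (iv D54031) (iv F242212)
theorem F249386 : act 7 n55564 = n54021 := d42_1 D55564 (iv D54021) (iv F242213)
theorem F249387 : act 9 n55564 = n54046 := d44_2 D54013 D55564 (iv D54046) (iv D52241) (iv F234070)
def n55565 : Q := act 8 n54014
theorem D55565 : act 8 n54014 = n55565 := rfl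
theorem F249388 : act 2 n55565 = n54347 := d22_1 D55565 (iv D54347) (iv F242214)
theorem F249389 : act 3 n55565 = n54048 := d28_1 D55565 (iv D54048) (iv D52242) (iv F234074) D54014
theorem F249390 : act 4 n55565 = n55565 := d33_1 D55565 (iv D55565) F242215
theorem F249391 : act 5 n55565 = n54324 := d37_1 D55565 (iv D54324) (iv F242216)
theorem F249392 : act 7 n55565 = n54023 := d42_1 D55565 (iv D54023) (iv F242217)
def n55566 : Q := act 9 n54014
theorem D55566 : act 9 n54014 = n55566 := rfl
theorem F249393 : act 2 n55566 = n54348 := d23_1 D55566 (iv D54348) (iv F242214)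
theorem F249394 : act 3 n55566 = n54015 := d29_1 D55566 (iv D54015) D54014
theorem F249395 : act 4 n55566 = n55566 := d34_1 D55566 (iv D55566) F242215
theorem F249396 : act 5 n55566 = n54325 := d38_1 D55566 (iv D54325) (iv F242216)
theorem F249397 : act 7 n55566 = n54024 := d43_1 D55566 (iv D54024) (iv F242217)
def n55567 : Q := act 8 n54015
theorem D55567 : act 8 n54015 = n55567 := rfl
theorem F249398 : act 2 n55567 = n54017 := d22_1 D55567 (iv D54017) (iv F242218)
theorem F249399 : act 4 n55567 = n54016 := d33_1 D55567 (iv D54016) (iv F242219)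
theorem F249400 : act 5 n55567 = n54326 := d37_1 D55567 (iv D54326) (iv F242220)
theorem F249401 : act 7 n55567 = n54026 := d42_1 D55567 (iv D54026) (iv F242221)
theorem F249402 : act 9 n55567 = n54051 := d44_2 D54015 D55567 (iv D54051) (iv D52244) (iv F234074)
def n55568 : Q := act 3 n54016
theorem D55568 : act 3 n54016 = n55568 := rfl
theorem F249403 : act 5 n55568 = n54032 := d25_2 (iv F242223) D55568 (iv D54032)
theorem F249404 : act 7 n55568 = n54027 := d27_2 (iv F242224) D55568 (iv D54027)
theorem F249405 : act 8 n55568 = n55568 := d28_2 D54016 D55568 (iv D55568) (iv D54016) F234076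
theorem F249406 : act 9 n55568 = n54052 := d29_2 (iv F242225) D55568 (iv D54052)
def n55569 : Q := act 3 n54017
theorem D55569 : act 3 n54017 = n55569 := rfl
theorem F249407 : act 1 n55569 = n54338 := d10_1 D55569 (iv D54338) (iv F242226)
theorem F249408 : act 5 n55569 = n54328 := d25_2 (iv F242228) D55569 (iv D54328)
theorem F249409 : act 7 n55569 = n54030 := d27_2 (iv F242229) D55569 (iv D54030)
theorem F249410 : act 8 n55569 = n54357 := d28_2 D54017 D55569 (iv D54357) (iv D52610) (iv F234080)
theorem F249411 : act 9 n55569 = n54054 := d29_2 (iv F242230) D55569 (iv D54054)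
def n55570 : Q := act 9 n54018
theorem D55570 : act 9 n54018 = n55570 := rfl
theorem F249412 : act 1 n55570 = n54024 := d16_1 D55570 (iv D54024) (iv F242231)
theorem F249413 : act 3 n55570 = n54020 := d29_1 D55570 (iv D54020) D54018
theorem F249414 : act 4 n55570 = n55570 := d34_1 D55570 (iv D55570) F242232
def n55571 : Q := act 9 n54019
theorem D55571 : act 9 n54019 = n55571 := rfl
theorem F249415 : act 0 n55571 = n54390 := d8_1 D55571 (iv D54390) (iv F242233)
theorem F249416 : act 1 n55571 = n54025 := d16_1 D55571 (iv D54025) (iv F242234)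
theorem F249417 : act 2 n55571 = n54344 := d23_1 D55571 (iv D54344) (iv F242235)
theorem F249418 : act 4 n55571 = n54033 := d34_1 D55571 (iv D54033) (iv F242236)
theorem F249419 : act 5 n55571 = n54020 := d38_1 D55571 (iv D54020) D54019
theorem F249420 : act 6 n55571 = n54386 := d41_1 D55571 (iv D54386) (iv F242237)
theorem F249421 : act 7 n55571 = n54322 := d43_1 D55571 (iv D54322) (iv F242238)
def n55572 : Q := act 8 n54020
theorem D55572 : act 8 n54020 = n55572 := rfl
theorem F249422 : act 1 n55572 = n54026 := d15_1 D55572 (iv D54026) (iv F242240)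
theorem F249423 : act 2 n55572 = n54345 := d22_1 D55572 (iv D54345) (iv F242241)
theorem F249424 : act 4 n55572 = n54021 := d33_1 D55572 (iv D54021) (iv F242242)
theorem F249425 : act 9 n55572 = n54063 := d44_2 D54020 D55572 (iv D54063) (iv D52252) (iv F234090)
def n55573 : Q := act 3 n54021
theorem D55573 : act 3 n54021 = n55573 := rfl
theorem F249426 : act 1 n55573 = n54027 := d10_1 D55573 (iv D54027) (iv F242243)
theorem F249427 : act 5 n55573 = n54035 := d25_2 (iv F242245) D55573 (iv D54035)
theorem F249428 : act 8 n55573 = n55573 := d28_2 D54021 D55573 (iv D55573) (iv D54021) F234093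
theorem F249429 : act 9 n55573 = n54064 := d29_2 (iv F242246) D55573 (iv D54064)
def n55574 : Q := act 9 n54022
theorem D55574 : act 9 n54022 = n55574 := rfl
theorem F249430 : act 2 n55574 = n54336 := d23_1 D55574 (iv D54336) (iv F242247)
theorem F249431 : act 3 n55574 = n54025 := d29_1 D55574 (iv D54025) (iv F242248)
theorem F249432 : act 4 n55574 = n54432 := d34_1 D55574 (iv D54432) F242250
theorem F249433 : act 5 n55574 = n54024 := d38_1 D55574 (iv D54024) D54022
theorem F249434 : act 7 n55574 = n54325 := d43_1 D55574 (iv D54325) (iv F242249)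
def n55575 : Q := act 9 n54023
theorem D55575 : act 9 n54023 = n55575 := rfl
theorem F249435 : act 3 n55575 = n54068 := d29_1 D55575 (iv D54068) (iv F242251)
theorem F249436 : act 4 n55575 = n55575 := d34_1 D55575 (iv D55575) F242252
def n55576 : Q := act 8 n54024
theorem D55576 : act 8 n54024 = n55576 := rfl
theorem F249437 : act 4 n55576 = n55576 := d33_1 D55576 (iv D55576) F242254
def n55577 : Q := act 8 n54025
theorem D55577 : act 8 n54025 = n55577 := rfl
theorem F249438 : act 2 n55577 = n54029 := d22_1 D55577 (iv D54029) (iv F242255)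
theorem F249439 : act 4 n55577 = n54036 := d33_1 D55577 (iv D54036) (iv F242256)
theorem F249440 : act 5 n55577 = n54026 := d37_1 D55577 (iv D54026) (iv F242257)
theorem F249441 : act 7 n55577 = n54326 := d42_1 D55577 (iv D54326) (iv F242258)
theorem F249442 : act 9 n55577 = n54072 := d44_2 D54025 D55577 (iv D54072) (iv D52258) (iv F234099)
def n55578 : Q := act 3 n54026
theorem D55578 : act 3 n54026 = n55578 := rfl
theorem F249443 : act 9 n55578 = n54073 := d29_2 (iv F242261) D55578 (iv D54073)
def n55579 : Q := act 4 n54027
theorem D55579 : act 4 n54027 = n55579 := rfl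
theorem F249444 : act 8 n55579 = n55579 := d33_2 F242263 D55579 (iv D55579)
theorem F249445 : act 9 n55579 = n54074 := d34_2 (iv F242264) D55579 (iv D54074)
def n55580 : Q := act 8 n54028
theorem D55580 : act 8 n54028 = n55580 := rfl
theorem F249446 : act 0 n55580 = n54278 := d7_1 D55580 (iv D54278) (iv F242265)
theorem F249447 : act 1 n55580 = n54356 := d15_1 D55580 (iv D54356) (iv F242266)
theorem F249448 : act 4 n55580 = n54037 := d33_1 D55580 (iv D54037) (iv F242268)
theorem F249449 : act 6 n55580 = n54029 := d40_1 D55580 (iv D54029) (iv F242269)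
theorem F249450 : act 9 n55580 = n54076 := d44_2 D54028 D55580 (iv D54076) (iv D52262) (iv F234109)
def n55581 : Q := act 3 n54029
theorem D55581 : act 3 n54029 = n55581 := rfl
theorem F249451 : act 1 n55581 = n54357 := d10_1 D55581 (iv D54357) (iv F242270)
theorem F249452 : act 5 n55581 = n54030 := d25_2 (iv F242272) D55581 (iv D54030)
theorem F249453 : act 7 n55581 = n54328 := d27_2 (iv F242273) D55581 (iv D54328)
theorem F249454 : act 8 n55581 = n54338 := d28_2 D54029 D55581 (iv D54338) (iv D52595) (iv F234111)
theorem F249455 : act 9 n55581 = n54077 := d29_2 (iv F242274) D55581 (iv D54077)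
def n55582 : Q := act 2 n54030
theorem D55582 : act 2 n54030 = n55582 := rfl
theorem F249456 : act 9 n55582 = n54078 := d23_2 (iv F242276) D55582 (iv D54078)
def n55583 : Q := act 3 n54031
theorem D55583 : act 3 n54031 = n55583 := rfl
theorem F249457 : act 1 n55583 = n54032 := d10_1 D55583 (iv D54032) (iv F242277)
theorem F249458 : act 2 n55583 = n54447 := d17_1 D55583 (iv D54447) F235665 (iv F235336) (iv F242278)
theorem F249459 : act 6 n55583 = n55583 := d26_2 F242280 D55583 (iv D55583)
theorem F249460 : act 7 n55583 = n54035 := d27_2 (iv F242281) D55583 (iv D54035)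
theorem F249461 : act 8 n55583 = n55583 := d28_2 D54031 D55583 (iv D55583) (iv D54031) F234120
theorem F249462 : act 9 n55583 = n54084 := d29_2 (iv F242282) D55583 (iv D54084)
def n55584 : Q := act 8 n54033
theorem D55584 : act 8 n54033 = n55584 := rfl
theorem F249463 : act 0 n55584 = n54418 := d7_1 D55584 (iv D54418) (iv F242287)
theorem F249464 : act 1 n55584 = n54036 := d15_1 D55584 (iv D54036) (iv F242288)
theorem F249465 : act 2 n55584 = n54362 := d22_1 D55584 (iv D54362) (iv F242289)
theorem F249466 : act 5 n55584 = n54034 := d37_1 D55584 (iv D54034) (iv F242291)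
theorem F249467 : act 6 n55584 = n54417 := d40_1 D55584 (iv D54417) (iv F242292)
theorem F249468 : act 7 n55584 = n54323 := d42_1 D55584 (iv D54323) (iv F242293)
theorem F249469 : act 9 n55584 = n54091 := d44_2 D54033 D55584 (iv D54091) (iv D52278) (iv F234135)
def n55585 : Q := act 9 n54039
theorem D55585 : act 9 n54039 = n55585 := rfl
theorem F249470 : act 2 n55585 = n54042 := d23_1 D55585 (iv D54042) (iv F242319)
theorem F249471 : act 4 n55585 = n55585 := d34_1 D55585 (iv D55585) F242320
theorem F249472 : act 5 n55585 = n54040 := d38_1 D55585 (iv D54040) D54039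
def n55586 : Q := act 8 n54040
theorem D55586 : act 8 n54040 = n55586 := rfl
theorem F249473 : act 2 n55586 = n54043 := d22_1 D55586 (iv D54043) (iv F242321)
theorem F249474 : act 4 n55586 = n54041 := d33_1 D55586 (iv D54041) (iv F242322)
theorem F249475 : act 6 n55586 = n54051 := d40_1 D55586 (iv D54051) (iv F242323)
def n55587 : Q := act 3 n54041
theorem D55587 : act 3 n54041 = n55587 := rfl
theorem F249476 : act 2 n55587 = n54114 := d17_1 D55587 (iv D54114) (iv F241746) F241747 (iv F242324)
theorem F249477 : act 5 n55587 = n55587 := d25_2 F242325 D55587 (iv D55587)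
theorem F249478 : act 6 n55587 = n54052 := d26_2 (iv F242326) D55587 (iv D54052)
theorem F249479 : act 8 n55587 = n54103 := d28_2 D54041 D55587 (iv D54103) (iv D52297) (iv F234191)
def n55588 : Q := act 8 n54042
theorem D55588 : act 8 n54042 = n55588 := rfl
theorem F249480 : act 1 n55588 = n54374 := d15_1 D55588 (iv D54374) (iv F242327)
theorem F249481 : act 4 n55588 = n55588 := d33_1 D55588 (iv D55588) F242328
theorem F249482 : act 5 n55588 = n54043 := d37_1 D55588 (iv D54043) (iv F242329)
def n55589 : Q := act 3 n54043
theorem D55589 : act 3 n54043 = n55589 := rfl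
theorem F249483 : act 1 n55589 = n54375 := d10_1 D55589 (iv D54375) (iv F242330)
theorem F249484 : act 6 n55589 = n54054 := d26_2 (iv F242332) D55589 (iv D54054)
def n55590 : Q := act 9 n54044
theorem D55590 : act 9 n54044 = n55590 := rfl
theorem F249485 : act 1 n55590 = n54050 := d16_1 D55590 (iv D54050) (iv F242333)
theorem F249486 : act 2 n55590 = n54376 := d23_1 D55590 (iv D54376) (iv F242334)
theorem F249487 : act 4 n55590 = n54082 := d34_1 D55590 (iv D54082) (iv F242335)
theorem F249488 : act 5 n55590 = n54045 := d38_1 D55590 (iv D54045) D54044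
theorem F249489 : act 7 n55590 = n54062 := d43_1 D55590 (iv D54062) (iv F242336)
def n55591 : Q := act 8 n54045
theorem D55591 : act 8 n54045 = n55591 := rfl
theorem F249490 : act 1 n55591 = n54051 := d15_1 D55591 (iv D54051) (iv F242338)
theorem F249491 : act 2 n55591 = n54377 := d22_1 D55591 (iv D54377) (iv F242339)
theorem F249492 : act 4 n55591 = n54046 := d33_1 D55591 (iv D54046) (iv F242340)
theorem F249493 : act 7 n55591 = n54063 := d42_1 D55591 (iv D54063) (iv F242341)
def n55592 : Q := act 3 n54046
theorem D55592 : act 3 n54046 = n55592 := rfl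
theorem F249494 : act 1 n55592 = n54052 := d10_1 D55592 (iv D54052) (iv F242342)
theorem F249495 : act 2 n55592 = n54243 := d17_1 D55592 (iv D54243) F234953 (iv F235416) (iv F242343)
theorem F249496 : act 5 n55592 = n54084 := d25_2 (iv F242344) D55592 (iv D54084)
theorem F249497 : act 7 n55592 = n54064 := d27_2 (iv F242345) D55592 (iv D54064)
theorem F249498 : act 8 n55592 = n54104 := d28_2 D54046 D55592 (iv D54104) (iv D52298) (iv F234207)
def n55593 : Q := act 8 n54047
theorem D55593 : act 8 n54047 = n55593 := rfl
theorem F249499 : act 2 n55593 = n54193 := d22_1 D55593 (iv D54193) (iv F242346)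
theorem F249500 : act 3 n55593 = n54324 := d28_1 D55593 (iv D54324) (iv D52581) (iv F234215) (iv F242347)
theorem F249501 : act 4 n55593 = n55593 := d33_1 D55593 (iv D55593) F242348
theorem F249502 : act 5 n55593 = n54048 := d37_1 D55593 (iv D54048) D54047
theorem F249503 : act 7 n55593 = n54066 := d42_1 D55593 (iv D54066) (iv F242349)
def n55594 : Q := act 9 n54047
theorem D55594 : act 9 n54047 = n55594 := rfl
theorem F249504 : act 2 n55594 = n54194 := d23_1 D55594 (iv D54194) (iv F242346)
theorem F249505 : act 3 n55594 = n54050 := d29_1 D55594 (iv D54050) (iv F242347)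
theorem F249506 : act 4 n55594 = n55594 := d34_1 D55594 (iv D55594) F242348
theorem F249507 : act 5 n55594 = n54049 := d38_1 D55594 (iv D54049) D54047
theorem F249508 : act 7 n55594 = n54067 := d43_1 D55594 (iv D54067) (iv F242349)
def n55595 : Q := act 9 n54048
theorem D55595 : act 9 n54048 = n55595 := rfl
theorem F249509 : act 4 n55595 = n54105 := d34_1 D55595 (iv D54105) (iv F242350)
theorem F249510 : act 7 n55595 = n54068 := d43_1 D55595 (iv D54068) (iv F242351)
def n55596 : Q := act 8 n54049
theorem D55596 : act 8 n54049 = n55596 := rfl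
theorem F249511 : act 4 n55596 = n54106 := d33_1 D55596 (iv D54106) (iv F242353)
theorem F249512 : act 7 n55596 = n54069 := d42_1 D55596 (iv D54069) (iv F242354)
def n55597 : Q := act 8 n54050
theorem D55597 : act 8 n54050 = n55597 := rfl
theorem F249513 : act 2 n55597 = n54053 := d22_1 D55597 (iv D54053) (iv F242355)
theorem F249514 : act 4 n55597 = n54085 := d33_1 D55597 (iv D54085) (iv F242356)
theorem F249515 : act 5 n55597 = n54051 := d37_1 D55597 (iv D54051) (iv F242357)
theorem F249516 : act 7 n55597 = n54072 := d42_1 D55597 (iv D54072) (iv F242358)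
theorem F249517 : act 9 n55597 = n54326 := d44_2 D54050 D55597 (iv D54326) (iv D52582) (iv F234215)
def n55598 : Q := act 3 n54051
theorem D55598 : act 3 n54051 = n55598 := rfl
theorem F249518 : act 7 n55598 = n54073 := d27_2 (iv F242361) D55598 (iv D54073)
def n55599 : Q := act 4 n54052
theorem D55599 : act 4 n54052 = n55599 := rfl
theorem F249519 : act 7 n55599 = n54074 := d32_2 (iv F242363) D55599 (iv D54074)
theorem F249520 : act 8 n55599 = n54108 := d33_2 (iv F242364) D55599 (iv D54108)
def n55600 : Q := act 3 n54053
theorem D55600 : act 3 n54053 = n55600 := rfl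
theorem F249521 : act 1 n55600 = n54384 := d10_1 D55600 (iv D54384) (iv F242365)
theorem F249522 : act 5 n55600 = n54054 := d25_2 (iv F242367) D55600 (iv D54054)
theorem F249523 : act 7 n55600 = n54077 := d27_2 (iv F242368) D55600 (iv D54077)
theorem F249524 : act 8 n55600 = n54197 := d28_2 D54053 D55600 (iv D54197) (iv D52420) (iv F234223)
theorem F249525 : act 9 n55600 = n54328 := d29_2 (iv F242369) D55600 (iv D54328)
def n55601 : Q := act 2 n54054
theorem D55601 : act 2 n54054 = n55601 := rfl
theorem F249526 : act 7 n55601 = n54078 := d21_2 (iv F242371) D55601 (iv D54078)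
def n55602 : Q := act 9 n54055
theorem D55602 : act 9 n54055 = n55602 := rfl
theorem F249527 : act 0 n55602 = n54062 := d8_1 D55602 (iv D54062) (iv F242372)
theorem F249528 : act 1 n55602 = n54352 := d16_1 D55602 (iv D54352) (iv F242373)
theorem F249529 : act 2 n55602 = n54386 := d23_1 D55602 (iv D54386) (iv F242374)
theorem F249530 : act 4 n55602 = n54088 := d34_1 D55602 (iv D54088) (iv F242375)
theorem F249531 : act 5 n55602 = n54056 := d38_1 D55602 (iv D54056) D54055
theorem F249532 : act 6 n55602 = n54344 := d41_1 D55602 (iv D54344) (iv F242376)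
def n55603 : Q := act 8 n54056
theorem D55603 : act 8 n54056 = n55603 := rfl
theorem F249533 : act 0 n55603 = n54063 := d7_1 D55603 (iv D54063) (iv F242378)
theorem F249534 : act 2 n55603 = n54387 := d22_1 D55603 (iv D54387) (iv F242379)
theorem F249535 : act 4 n55603 = n54057 := d33_1 D55603 (iv D54057) (iv F242380)
def n55604 : Q := act 9 n54058
theorem D55604 : act 9 n54058 = n55604 := rfl
theorem F249536 : act 1 n55604 = n54067 := d16_1 D55604 (iv D54067) (iv F242384)
theorem F249537 : act 3 n55604 = n54062 := d29_1 D55604 (iv D54062) (iv F242385)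
theorem F249538 : act 4 n55604 = n55604 := d34_1 D55604 (iv D55604) F242386
theorem F249539 : act 5 n55604 = n54060 := d38_1 D55604 (iv D54060) D54058
def n55605 : Q := act 9 n54059
theorem D55605 : act 9 n54059 = n55605 := rfl
theorem F249540 : act 1 n55605 = n54068 := d16_1 D55605 (iv D54068) (iv F242387)
theorem F249541 : act 4 n55605 = n54109 := d34_1 D55605 (iv D54109) (iv F242388)
def n55606 : Q := act 8 n54060
theorem D55606 : act 8 n54060 = n55606 := rfl
theorem F249542 : act 1 n55606 = n54069 := d15_1 D55606 (iv D54069) (iv F242389)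
theorem F249543 : act 4 n55606 = n54110 := d33_1 D55606 (iv D54110) (iv F242391)
def n55607 : Q := act 9 n54061
theorem D55607 : act 9 n54061 = n55607 := rfl
theorem F249544 : act 0 n55607 = n54344 := d8_1 D55607 (iv D54344) (iv F242392)
theorem F249545 : act 1 n55607 = n54071 := d16_1 D55607 (iv D54071) (iv F242393)
theorem F249546 : act 2 n55607 = n54390 := d23_1 D55607 (iv D54390) (iv F242394)
theorem F249547 : act 4 n55607 = n54090 := d34_1 D55607 (iv D54090) (iv F242395)
theorem F249548 : act 5 n55607 = n54339 := d38_1 D55607 (iv D54339) (iv F242396)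
theorem F249549 : act 6 n55607 = n54062 := d41_1 D55607 (iv D54062) D54061
def n55608 : Q := act 8 n54062
theorem D55608 : act 8 n54062 = n55608 := rfl
theorem F249550 : act 1 n55608 = n54072 := d15_1 D55608 (iv D54072) (iv F242398)
theorem F249551 : act 2 n55608 = n54391 := d22_1 D55608 (iv D54391) (iv F242399)
theorem F249552 : act 4 n55608 = n54091 := d33_1 D55608 (iv D54091) (iv F242400)
theorem F249553 : act 5 n55608 = n54063 := d37_1 D55608 (iv D54063) (iv F242401)
def n55609 : Q := act 3 n54063
theorem D55609 : act 3 n54063 = n55609 := rfl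
theorem F249554 : act 1 n55609 = n54073 := d10_1 D55609 (iv D54073) (iv F242402)
def n55610 : Q := act 4 n54064
theorem D55610 : act 4 n54064 = n55610 := rfl
theorem F249555 : act 1 n55610 = n54074 := d11_1 D55610 (iv D54074) (iv F242405)
theorem F249556 : act 8 n55610 = n54112 := d33_2 (iv F242407) D55610 (iv D54112)
def n55611 : Q := act 9 n54065
theorem D55611 : act 9 n54065 = n55611 := rfl
theorem F249557 : act 0 n55611 = n54371 := d8_1 D55611 (iv D54371) (iv F242408)
theorem F249558 : act 2 n55611 = n54302 := d23_1 D55611 (iv D54302) (iv F242409)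
theorem F249559 : act 3 n55611 = n54071 := d29_1 D55611 (iv D54071) (iv F242410)
theorem F249560 : act 4 n55611 = n55611 := d34_1 D55611 (iv D55611) F242411
theorem F249561 : act 5 n55611 = n54300 := d38_1 D55611 (iv D54300) (iv F242412)
theorem F249562 : act 6 n55611 = n54067 := d41_1 D55611 (iv D54067) D54065
def n55612 : Q := act 9 n54066
theorem D55612 : act 9 n54066 = n55612 := rfl
theorem F249563 : act 4 n55612 = n55612 := d34_1 D55612 (iv D55612) F242413
theorem F249564 : act 5 n55612 = n54068 := d38_1 D55612 (iv D54068) (iv F242414)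
def n55613 : Q := act 8 n54067
theorem D55613 : act 8 n54067 = n55613 := rfl
theorem F249565 : act 4 n55613 = n55613 := d33_1 D55613 (iv D55613) F242416
theorem F249566 : act 5 n55613 = n54069 := d37_1 D55613 (iv D54069) (iv F242417)
def n55614 : Q := act 8 n54068
theorem D55614 : act 8 n54068 = n55614 := rfl
theorem F249567 : act 4 n55614 = n54113 := d33_1 D55614 (iv D54113) (iv F242418)
theorem F249568 : act 9 n55614 = n54069 := d44_2 D54068 D55614 (iv D54069) (iv D52256) D52255
def n55615 : Q := act 3 n54069
theorem D55615 : act 3 n54069 = n55615 := rfl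
theorem F249569 : act 8 n55615 = n54073 := d28_2 D54069 D55615 (iv D54073) (iv D52259) (iv F234250)
def n55616 : Q := act 9 n54070
theorem D55616 : act 9 n54070 = n55616 := rfl
theorem F249570 : act 2 n55616 = n54075 := d23_1 D55616 (iv D54075) (iv F242420)
theorem F249571 : act 4 n55616 = n54093 := d34_1 D55616 (iv D54093) (iv F242421)
theorem F249572 : act 7 n55616 = n54071 := d43_1 D55616 (iv D54071) D54070
def n55617 : Q := act 8 n54071
theorem D55617 : act 8 n54071 = n55617 := rfl
theorem F249573 : act 2 n55617 = n54076 := d22_1 D55617 (iv D54076) (iv F242422)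
theorem F249574 : act 4 n55617 = n54094 := d33_1 D55617 (iv D54094) (iv F242423)
theorem F249575 : act 6 n55617 = n54072 := d40_1 D55617 (iv D54072) (iv F242424)
def n55618 : Q := act 3 n54072
theorem D55618 : act 3 n54072 = n55618 := rfl
theorem F249576 : act 5 n55618 = n54073 := d25_2 (iv F242427) D55618 (iv D54073)
def n55619 : Q := act 2 n54073
theorem D55619 : act 2 n54073 = n55619 := rfl
theorem F249577 : act 3 n55619 = n54078 := d17_2 D54073 D55619 (iv D54078) (iv D52264) (iv F234257)
def n55620 : Q := act 4 n54073
theorem D55620 : act 4 n54073 = n55620 := rfl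
theorem F249578 : act 3 n55620 = n54074 := d24_1 D55620 (iv D54074) (iv D52260) (iv F234258) D54073
def n55621 : Q := act 5 n54074
theorem D55621 : act 5 n54074 = n55621 := rfl
theorem F249579 : act 4 n55621 = n54096 := d30_1 D55621 (iv D54096) (iv D52285) (iv F234259) D54074
theorem F249580 : act 8 n55621 = n54116 := d37_2 (iv F242428) D55621 (iv D54116)
def n55622 : Q := act 8 n54075
theorem D55622 : act 8 n54075 = n55622 := rfl
theorem F249581 : act 1 n55622 = n54405 := d15_1 D55622 (iv D54405) (iv F242429)
theorem F249582 : act 4 n55622 = n54097 := d33_1 D55622 (iv D54097) (iv F242430)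
theorem F249583 : act 7 n55622 = n54076 := d42_1 D55622 (iv D54076) (iv F242431)
def n55623 : Q := act 3 n54076
theorem D55623 : act 3 n54076 = n55623 := rfl
theorem F249584 : act 1 n55623 = n54406 := d10_1 D55623 (iv D54406) (iv F242432)
theorem F249585 : act 6 n55623 = n54077 := d26_2 (iv F242434) D55623 (iv D54077)
def n55624 : Q := act 2 n54077
theorem D55624 : act 2 n54077 = n55624 := rfl
theorem F249586 : act 5 n55624 = n54078 := d19_2 (iv F242436) D55624 (iv D54078)
def n55625 : Q := act 1 n54078
theorem D55625 : act 1 n54078 = n55625 := rfl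
theorem F249587 : act 2 n55625 = n54408 := d9_2 D54078 D55625 (iv D54408) (iv D52669) (iv F234269)
def n55626 : Q := act 9 n54079
theorem D55626 : act 9 n54079 = n55626 := rfl
theorem F249588 : act 0 n55626 = n54082 := d8_1 D55626 (iv D54082) (iv F242437)
theorem F249589 : act 1 n55626 = n54364 := d16_1 D55626 (iv D54364) (iv F242438)
theorem F249590 : act 2 n55626 = n54409 := d23_1 D55626 (iv D54409) (iv F242439)
theorem F249591 : act 3 n55626 = n55626 := d29_1 D55626 (iv D55626) F242440
theorem F249592 : act 5 n55626 = n54080 := d38_1 D55626 (iv D54080) D54079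
theorem F249593 : act 7 n55626 = n54088 := d43_1 D55626 (iv D54088) (iv F242441)
def n55627 : Q := act 8 n54080
theorem D55627 : act 8 n54080 = n55627 := rfl
theorem F249594 : act 0 n55627 = n54083 := d7_1 D55627 (iv D54083) (iv F242443)
theorem F249595 : act 1 n55627 = n54369 := d15_1 D55627 (iv D54369) (iv F242444)
theorem F249596 : act 2 n55627 = n54410 := d22_1 D55627 (iv D54410) (iv F242445)
theorem F249597 : act 4 n55627 = n54081 := d33_1 D55627 (iv D54081) (iv F242447)
theorem F249598 : act 6 n55627 = n55627 := d40_1 D55627 (iv D55627) F242448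
theorem F249599 : act 7 n55627 = n54089 := d42_1 D55627 (iv D54089) (iv F242449)
theorem F249600 : act 9 n55627 = n54425 := d44_2 D54080 D55627 (iv D54425) (iv D52691) (iv F234276)
def n55628 : Q := act 8 n54082
theorem D55628 : act 8 n54082 = n55628 := rfl
theorem F249601 : act 1 n55628 = n54085 := d15_1 D55628 (iv D54085) (iv F242454)
theorem F249602 : act 2 n55628 = n54411 := d22_1 D55628 (iv D54411) (iv F242455)
theorem F249603 : act 5 n55628 = n54083 := d37_1 D55628 (iv D54083) (iv F242457)
theorem F249604 : act 7 n55628 = n54091 := d42_1 D55628 (iv D54091) (iv F242458)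
theorem F249605 : act 9 n55628 = n54323 := d44_2 D54082 D55628 (iv D54323) (iv D52580) (iv F234286)
def n55629 : Q := act 3 n54083
theorem D55629 : act 3 n54083 = n55629 := rfl
theorem F249606 : act 1 n55629 = n54086 := d10_1 D55629 (iv D54086) (iv F242459)
theorem F249607 : act 6 n55629 = n55629 := d26_2 F242462 D55629 (iv D55629)
theorem F249608 : act 7 n55629 = n54092 := d27_2 (iv F242463) D55629 (iv D54092)
theorem F249609 : act 8 n55629 = n55629 := d28_2 D54083 D55629 (iv D55629) (iv D54083) F234289
theorem F249610 : act 9 n55629 = n54470 := d29_2 (iv F242464) D55629 (iv D54470)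
def n55630 : Q := act 3 n54085
theorem D55630 : act 3 n54085 = n55630 := rfl
theorem F249611 : act 5 n55630 = n54086 := d25_2 (iv F242471) D55630 (iv D54086)
theorem F249612 : act 7 n55630 = n54095 := d27_2 (iv F242472) D55630 (iv D54095)
theorem F249613 : act 8 n55630 = n55630 := d28_2 D54085 D55630 (iv D55630) (iv D54085) F234298
theorem F249614 : act 9 n55630 = n54327 := d29_2 (iv F242473) D55630 (iv D54327)
def n55631 : Q := act 5 n54087
theorem D55631 : act 5 n54087 = n55631 := rfl
theorem F249615 : act 7 n55631 = n54096 := d36_2 (iv F242479) D55631 (iv D54096)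
theorem F249616 : act 8 n55631 = n54117 := d37_2 (iv F242480) D55631 (iv D54117)
def n55632 : Q := act 8 n54088
theorem D55632 : act 8 n54088 = n55632 := rfl
theorem F249617 : act 0 n55632 = n54091 := d7_1 D55632 (iv D54091) (iv F242481)
theorem F249618 : act 1 n55632 = n54365 := d15_1 D55632 (iv D54365) (iv F242482)
theorem F249619 : act 2 n55632 = n54417 := d22_1 D55632 (iv D54417) (iv F242483)
theorem F249620 : act 5 n55632 = n54089 := d37_1 D55632 (iv D54089) (iv F242485)
theorem F249621 : act 6 n55632 = n54362 := d40_1 D55632 (iv D54362) (iv F242486)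
theorem F249622 : act 9 n55632 = n54418 := d44_2 D54088 D55632 (iv D54418) (iv D52682) (iv F234318)
def n55633 : Q := act 3 n54089
theorem D55633 : act 3 n54089 = n55633 := rfl
theorem F249623 : act 0 n55633 = n54092 := d2_1 D55633 (iv D54092) (iv F242487)
theorem F249624 : act 1 n55633 = n54370 := d10_1 D55633 (iv D54370) (iv F242488)
theorem F249625 : act 6 n55633 = n54098 := d26_2 (iv F242491) D55633 (iv D54098)
theorem F249626 : act 8 n55633 = n55633 := d28_2 D54089 D55633 (iv D55633) (iv D54089) F234322
theorem F249627 : act 9 n55633 = n54426 := d29_2 (iv F242492) D55633 (iv D54426)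
def n55634 : Q := act 8 n54090
theorem D55634 : act 8 n54090 = n55634 := rfl
theorem F249628 : act 0 n55634 = n54362 := d7_1 D55634 (iv D54362) (iv F242493)
theorem F249629 : act 1 n55634 = n54094 := d15_1 D55634 (iv D54094) (iv F242494)
theorem F249630 : act 2 n55634 = n54418 := d22_1 D55634 (iv D54418) (iv F242495)
theorem F249631 : act 5 n55634 = n54100 := d37_1 D55634 (iv D54100) (iv F242497)
theorem F249632 : act 6 n55634 = n54091 := d40_1 D55634 (iv D54091) (iv F242498)
theorem F249633 : act 9 n55634 = n54417 := d44_2 D54090 D55634 (iv D54417) (iv D52680) (iv F234333)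
def n55635 : Q := act 3 n54091
theorem D55635 : act 3 n54091 = n55635 := rfl
theorem F249634 : act 1 n55635 = n54095 := d10_1 D55635 (iv D54095) (iv F242499)
theorem F249635 : act 5 n55635 = n54092 := d25_2 (iv F242501) D55635 (iv D54092)
theorem F249636 : act 8 n55635 = n55635 := d28_2 D54091 D55635 (iv D55635) (iv D54091) F234336
def n55636 : Q := act 8 n54093
theorem D55636 : act 8 n54093 = n55636 := rfl
theorem F249637 : act 2 n55636 = n54097 := d22_1 D55636 (iv D54097) (iv F242505)
theorem F249638 : act 5 n55636 = n54101 := d37_1 D55636 (iv D54101) (iv F242507)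
theorem F249639 : act 7 n55636 = n54094 := d42_1 D55636 (iv D54094) (iv F242508)
def n55637 : Q := act 3 n54094
theorem D55637 : act 3 n54094 = n55637 := rfl
theorem F249640 : act 5 n55637 = n54102 := d25_2 (iv F242510) D55637 (iv D54102)
theorem F249641 : act 6 n55637 = n54095 := d26_2 (iv F242511) D55637 (iv D54095)
theorem F249642 : act 8 n55637 = n55637 := d28_2 D54094 D55637 (iv D55637) (iv D54094) F234349
def n55638 : Q := act 4 n54095
theorem D55638 : act 4 n54095 = n55638 := rfl
theorem F249643 : act 8 n55638 = n55638 := d33_2 F242513 D55638 (iv D55638)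
def n55639 : Q := act 8 n54099
theorem D55639 : act 8 n54099 = n55639 := rfl
theorem F249644 : act 0 n55639 = n54360 := d7_1 D55639 (iv D54360) (iv F242524)
theorem F249645 : act 1 n55639 = n54101 := d15_1 D55639 (iv D54101) (iv F242525)
theorem F249646 : act 2 n55639 = n54425 := d22_1 D55639 (iv D54425) (iv F242526)
theorem F249647 : act 4 n55639 = n54359 := d33_1 D55639 (iv D54359) (iv F242528)
theorem F249648 : act 6 n55639 = n55639 := d40_1 D55639 (iv D55639) F242529
theorem F249649 : act 7 n55639 = n54100 := d42_1 D55639 (iv D54100) (iv F242530)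
theorem F249650 : act 9 n55639 = n54410 := d44_2 D54099 D55639 (iv D54410) (iv D52671) (iv F234378)
def n55640 : Q := act 3 n54101
theorem D55640 : act 3 n54101 = n55640 := rfl
theorem F249651 : act 6 n55640 = n55640 := d26_2 F242538 D55640 (iv D55640)
theorem F249652 : act 7 n55640 = n54102 := d27_2 (iv F242539) D55640 (iv D54102)
theorem F249653 : act 8 n55640 = n55640 := d28_2 D54101 D55640 (iv D55640) (iv D54101) F234396
def n55641 : Q := act 4 n54103
theorem D55641 : act 4 n54103 = n55641 := rfl
theorem F249654 : act 2 n55641 = n54115 := d18_1 D55641 (iv D54115) (iv F242542)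
theorem F249655 : act 6 n55641 = n54108 := d31_2 (iv F242544) D55641 (iv D54108)
theorem F249656 : act 9 n55641 = n55641 := d34_2 F242545 D55641 (iv D55641)
def n55642 : Q := act 4 n54104
theorem D55642 : act 4 n54104 = n55642 := rfl
theorem F249657 : act 1 n55642 = n54108 := d11_1 D55642 (iv D54108) (iv F242546)
theorem F249658 : act 2 n55642 = n54244 := d18_1 D55642 (iv D54244) (iv F242547)
theorem F249659 : act 7 n55642 = n54112 := d32_2 (iv F242549) D55642 (iv D54112)
theorem F249660 : act 9 n55642 = n55642 := d34_2 F242550 D55642 (iv D55642)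
def n55643 : Q := act 8 n54105
theorem D55643 : act 8 n54105 = n55643 := rfl
theorem F249661 : act 5 n55643 = n55643 := d37_1 D55643 (iv D55643) F242552
theorem F249662 : act 7 n55643 = n54113 := d42_1 D55643 (iv D54113) (iv F242553)
theorem F249663 : act 9 n55643 = n54106 := d44_2 D54105 D55643 (iv D54106) (iv D52300) D52299
def n55644 : Q := act 3 n54106
theorem D55644 : act 3 n54106 = n55644 := rfl
theorem F249664 : act 5 n55644 = n55644 := d25_2 F242554 D55644 (iv D55644)
theorem F249665 : act 7 n55644 = n54114 := d27_2 (iv F242555) D55644 (iv D54114)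
theorem F249666 : act 8 n55644 = n54107 := d28_2 D54106 D55644 (iv D54107) (iv D52301) (iv F234419)
def n55645 : Q := act 4 n54107
theorem D55645 : act 4 n54107 = n55645 := rfl
theorem F249667 : act 3 n55645 = n54108 := d24_1 D55645 (iv D54108) (iv D52302) (iv F234423) D54107
theorem F249668 : act 7 n55645 = n54115 := d32_2 (iv F242557) D55645 (iv D54115)
theorem F249669 : act 9 n55645 = n55645 := d34_2 F242558 D55645 (iv D55645)
def n55646 : Q := act 5 n54108
theorem D55646 : act 5 n54108 = n55646 := rfl
theorem F249670 : act 4 n55646 = n54117 := d30_1 D55646 (iv D54117) (iv D52314) (iv F234427) D54108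
theorem F249671 : act 7 n55646 = n54116 := d36_2 (iv F242559) D55646 (iv D54116)
theorem F249672 : act 9 n55646 = n55646 := d38_2 F242560 D55646 (iv D55646)
def n55647 : Q := act 8 n54109
theorem D55647 : act 8 n54109 = n55647 := rfl
theorem F249673 : act 1 n55647 = n54113 := d15_1 D55647 (iv D54113) (iv F242561)
theorem F249674 : act 5 n55647 = n55647 := d37_1 D55647 (iv D55647) F242563
theorem F249675 : act 9 n55647 = n54110 := d44_2 D54109 D55647 (iv D54110) (iv D52305) D52304
def n55648 : Q := act 3 n54110
theorem D55648 : act 3 n54110 = n55648 := rfl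
theorem F249676 : act 1 n55648 = n54114 := d10_1 D55648 (iv D54114) (iv F242564)
theorem F249677 : act 5 n55648 = n55648 := d25_2 F242565 D55648 (iv D55648)
theorem F249678 : act 8 n55648 = n54111 := d28_2 D54110 D55648 (iv D54111) (iv D52306) (iv F234438)
def n55649 : Q := act 4 n54111
theorem D55649 : act 4 n54111 = n55649 := rfl
theorem F249679 : act 1 n55649 = n54115 := d11_1 D55649 (iv D54115) (iv F242566)
theorem F249680 : act 3 n55649 = n54112 := d24_1 D55649 (iv D54112) (iv D52307) (iv F234442) D54111
theorem F249681 : act 9 n55649 = n55649 := d34_2 F242568 D55649 (iv D55649)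
def n55650 : Q := act 3 n54113
theorem D55650 : act 3 n54113 = n55650 := rfl
theorem F249682 : act 5 n55650 = n55650 := d25_2 F242571 D55650 (iv D55650)
theorem F249683 : act 8 n55650 = n55650 := d28_2 D54113 D55650 (iv D55650) (iv D54113) F234448
theorem F249684 : act 9 n55650 = n54114 := d29_2 (iv F242572) D55650 (iv D54114)
def n55651 : Q := act 4 n54114
theorem D55651 : act 4 n54114 = n55651 := rfl
theorem F249685 : act 8 n55651 = n54115 := d33_2 (iv F242574) D55651 (iv D54115)
def n55652 : Q := act 5 n54115
theorem D55652 : act 5 n54115 = n55652 := rfl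
theorem F249686 : act 3 n55652 = n54116 := d25_1 D55652 (iv D54116) (iv F242575)
theorem F249687 : act 4 n55652 = n55652 := d30_1 D55652 (iv D55652) (iv D54115) F234451 D54115
theorem F249688 : act 9 n55652 = n55652 := d38_2 F242576 D55652 (iv D55652)
def n55653 : Q := act 6 n54117
theorem D55653 : act 6 n54117 = n55653 := rfl
theorem F249689 : act 3 n55653 = n55653 := d26_1 D55653 (iv D55653) F242579
theorem F249690 : act 5 n55653 = n55653 := d35_1 D55653 (iv D55653) (iv D54117) F234466 D54117
theorem F249691 : act 9 n55653 = n55653 := d41_2 F242581 D55653 (iv D55653)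
def n55654 : Q := act 4 n54118
theorem D55654 : act 4 n54118 = n55654 := rfl
theorem F249692 : act 0 n55654 = n54123 := d3_1 D55654 (iv D54123) (iv F242582)
theorem F249693 : act 2 n55654 = n54126 := d18_1 D55654 (iv D54126) (iv F242583)
theorem F249694 : act 7 n55654 = n54143 := d32_2 (iv F242584) D55654 (iv D54143)
theorem F249695 : act 8 n55654 = n54120 := d33_2 (iv F242585) D55654 (iv D54120)
def n55655 : Q := act 4 n54121
theorem D55655 : act 4 n54121 = n55655 := rfl
theorem F249696 : act 2 n55655 = n54128 := d18_1 D55655 (iv D54128) (iv F242596)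
theorem F249697 : act 7 n55655 = n54154 := d32_2 (iv F242597) D55655 (iv D54154)
theorem F249698 : act 8 n55655 = n55655 := d33_2 F242598 D55655 (iv D55655)
theorem F249699 : act 9 n55655 = n54123 := d34_2 (iv F242599) D55655 (iv D54123)
def n55656 : Q := act 4 n54122
theorem D55656 : act 4 n54122 = n55656 := rfl
theorem F249700 : act 3 n55656 = n54123 := d24_1 D55656 (iv D54123) (iv D52323) (iv F234503) D54122
theorem F249701 : act 7 n55656 = n54168 := d32_2 (iv F242600) D55656 (iv D54168)
theorem F249702 : act 8 n55656 = n55656 := d33_2 F242601 D55656 (iv D55656)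
def n55657 : Q := act 5 n54123
theorem D55657 : act 5 n54123 = n55657 := rfl
theorem F249703 : act 2 n55657 = n54134 := d19_1 D55657 (iv D54134) (iv F242602)
theorem F249704 : act 7 n55657 = n54169 := d36_2 (iv F242603) D55657 (iv D54169)
theorem F249705 : act 8 n55657 = n54124 := d37_2 (iv F242604) D55657 (iv D54124)
def n55658 : Q := act 8 n54135
theorem D55658 : act 8 n54135 = n55658 := rfl
theorem F249706 : act 0 n55658 = n54151 := d7_1 D55658 (iv D54151) (iv F242639)
theorem F249707 : act 1 n55658 = n54184 := d15_1 D55658 (iv D54184) (iv F242640)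
theorem F249708 : act 4 n55658 = n54136 := d33_1 D55658 (iv D54136) (iv F242642)
theorem F249709 : act 5 n55658 = n54155 := d37_1 D55658 (iv D54155) (iv F242643)
theorem F249710 : act 7 n55658 = n54162 := d42_1 D55658 (iv D54162) (iv F242644)
theorem F249711 : act 9 n55658 = n54141 := d44_2 D54135 D55658 (iv D54141) (iv D52353) (iv F234576)
def n55659 : Q := act 8 n54137
theorem D55659 : act 8 n54137 = n55659 := rfl
theorem F249712 : act 0 n55659 = n54155 := d7_1 D55659 (iv D54155) (iv F242651)
theorem F249713 : act 1 n55659 = n54179 := d15_1 D55659 (iv D54179) (iv F242652)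
theorem F249714 : act 4 n55659 = n54138 := d33_1 D55659 (iv D54138) (iv F242654)
theorem F249715 : act 5 n55659 = n54151 := d37_1 D55659 (iv D54151) (iv F242655)
theorem F249716 : act 7 n55659 = n54141 := d42_1 D55659 (iv D54141) (iv F242656)
theorem F249717 : act 9 n55659 = n54162 := d44_2 D54137 D55659 (iv D54162) (iv D52377) (iv F234594)
def n55660 : Q := act 8 n54139
theorem D55660 : act 8 n54139 = n55660 := rfl
theorem F249718 : act 0 n55660 = n54160 := d7_1 D55660 (iv D54160) (iv F242663)
theorem F249719 : act 2 n55660 = n54141 := d22_1 D55660 (iv D54141) (iv F242664)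
theorem F249720 : act 4 n55660 = n54140 := d33_1 D55660 (iv D54140) (iv F242665)
def n55661 : Q := act 3 n54140
theorem D55661 : act 3 n54140 = n55661 := rfl
theorem F249721 : act 0 n55661 = n54161 := d2_1 D55661 (iv D54161) (iv F242666)
theorem F249722 : act 2 n55661 = n54186 := d17_1 D55661 (iv D54186) F234765 (iv F234610) (iv F242667)
theorem F249723 : act 5 n55661 = n54142 := d25_2 (iv F242668) D55661 (iv D54142)
theorem F249724 : act 8 n55661 = n54145 := d28_2 D54140 D55661 (iv D54145) (iv D52359) (iv F234604)
def n55662 : Q := act 3 n54141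
theorem D55662 : act 3 n54141 = n55662 := rfl
theorem F249725 : act 0 n55662 = n54163 := d2_1 D55662 (iv D54163) (iv F242669)
theorem F249726 : act 4 n55662 = n54187 := d24_2 (iv F242670) D55662 (iv D54187) F234768 (iv F234610)
theorem F249727 : act 8 n55662 = n54252 := d28_2 D54141 D55662 (iv D54252) (iv D52496) (iv F234607)
def n55663 : Q := act 4 n54142
theorem D55663 : act 4 n54142 = n55663 := rfl
theorem F249728 : act 0 n55663 = n54166 := d3_1 D55663 (iv D54166) (iv F242671)
theorem F249729 : act 2 n55663 = n54188 := d18_1 D55663 (iv D54188) (iv F242672)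
theorem F249730 : act 6 n55663 = n54143 := d31_2 (iv F242673) D55663 (iv D54143)
theorem F249731 : act 8 n55663 = n54147 := d33_2 (iv F242674) D55663 (iv D54147)
def n55664 : Q := act 3 n54144
theorem D55664 : act 3 n54144 = n55664 := rfl
theorem F249732 : act 0 n55664 = n54247 := d2_1 D55664 F242950 (iv F242678)
theorem F249733 : act 1 n55664 = n54145 := d10_1 D55664 (iv D54145) (iv F242679)
theorem F249734 : act 5 n55664 = n54146 := d25_2 (iv F242681) D55664 (iv D54146)
theorem F249735 : act 6 n55664 = n54190 := d26_2 (iv F242682) D55664 F242812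
theorem F249736 : act 9 n55664 = n55664 := d29_2 F242683 D55664 (iv D55664)
def n55665 : Q := act 4 n54145
theorem D55665 : act 4 n54145 = n55665 := rfl
theorem F249737 : act 0 n55665 = n54173 := d3_1 D55665 (iv D54173) (iv F242684)
theorem F249738 : act 2 n55665 = n54189 := d18_1 D55665 (iv D54189) (iv F242685)
theorem F249739 : act 9 n55665 = n55665 := d34_2 F242687 D55665 (iv D55665)
def n55666 : Q := act 5 n54147
theorem D55666 : act 5 n54147 = n55666 := rfl
theorem F249740 : act 0 n55666 = n54174 := d4_1 D55666 (iv D54174) (iv F242692)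
theorem F249741 : act 2 n55666 = n54190 := d19_1 D55666 (iv D54190) (iv F242693)
theorem F249742 : act 3 n55666 = n55666 := d25_1 D55666 (iv D55666) F242694
theorem F249743 : act 9 n55666 = n55666 := d38_2 F242696 D55666 (iv D55666)
def n55667 : Q := act 8 n54148
theorem D55667 : act 8 n54148 = n55667 := rfl
theorem F249744 : act 3 n55667 = n54157 := d28_1 D55667 (iv D54157) (iv D52373) (iv F234651) D54148
theorem F249745 : act 4 n55667 = n55667 := d33_1 D55667 (iv D55667) F242697
theorem F249746 : act 6 n55667 = n54268 := d40_1 D55667 (iv F246274) F246272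
def n55668 : Q := act 9 n54148
theorem D55668 : act 9 n54148 = n55668 := rfl
theorem F249747 : act 3 n55668 = n54149 := d29_1 D55668 (iv D54149) D54148
theorem F249748 : act 4 n55668 = n55668 := d34_1 D55668 (iv D55668) F242697
def n55669 : Q := act 8 n54149
theorem D55669 : act 8 n54149 = n55669 := rfl
theorem F249749 : act 2 n55669 = n54151 := d22_1 D55669 (iv D54151) (iv F242698)
theorem F249750 : act 4 n55669 = n54150 := d33_1 D55669 (iv D54150) (iv F242699)
theorem F249751 : act 9 n55669 = n54160 := d44_2 D54149 D55669 (iv D54160) (iv D52375) (iv F234651)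
def n55670 : Q := act 3 n54150
theorem D55670 : act 3 n54150 = n55670 := rfl
theorem F249752 : act 2 n55670 = n54196 := d17_1 D55670 (iv D54196) F234799 (iv F234656) (iv F242700)
theorem F249753 : act 5 n55670 = n54152 := d25_2 (iv F242701) D55670 (iv D54152)
theorem F249754 : act 8 n55670 = n55670 := d28_2 D54150 D55670 (iv D55670) (iv D54150) F234653
theorem F249755 : act 9 n55670 = n54161 := d29_2 (iv F242702) D55670 (iv D54161)
def n55671 : Q := act 3 n54151
theorem D55671 : act 3 n54151 = n55671 := rfl
theorem F249756 : act 4 n55671 = n54197 := d24_2 (iv F242703) D55671 (iv D54197) F234802 (iv F234656)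
theorem F249757 : act 9 n55671 = n54163 := d29_2 (iv F242704) D55671 (iv D54163)
def n55672 : Q := act 4 n54152
theorem D55672 : act 4 n54152 = n55672 := rfl
theorem F249758 : act 2 n55672 = n54199 := d18_1 D55672 (iv D54199) (iv F242705)
theorem F249759 : act 6 n55672 = n54154 := d31_2 (iv F242706) D55672 (iv D54154)
theorem F249760 : act 8 n55672 = n55672 := d33_2 F242707 D55672 (iv D55672)
theorem F249761 : act 9 n55672 = n54166 := d34_2 (iv F242708) D55672 (iv D54166)
def n55673 : Q := act 3 n54155
theorem D55673 : act 3 n54155 = n55673 := rfl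
theorem F249762 : act 4 n55673 = n54209 := d24_2 (iv F242715) D55673 (iv D54209) F234840 (iv F234670)
theorem F249763 : act 7 n55673 = n54163 := d27_2 (iv F242716) D55673 (iv D54163)
theorem F249764 : act 8 n55673 = n54274 := d28_2 D54155 D55673 (iv D54274) (iv D52520) (iv F234667)
def n55674 : Q := act 8 n54156
theorem D55674 : act 8 n54156 = n55674 := rfl
theorem F249765 : act 2 n55674 = n54262 := d22_1 D55674 F242994 (iv F242717)
theorem F249766 : act 4 n55674 = n55674 := d33_1 D55674 (iv D55674) F242719
theorem F249767 : act 5 n55674 = n54157 := d37_1 D55674 (iv D54157) D54156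
theorem F249768 : act 6 n55674 = n54259 := d40_1 D55674 (iv F246534) F246532
def n55675 : Q := act 9 n54156
theorem D55675 : act 9 n54156 = n55675 := rfl
theorem F249769 : act 2 n55675 = n54279 := d23_1 D55675 (iv D54279) (iv F242717)
theorem F249770 : act 3 n55675 = n54159 := d29_1 D55675 (iv D54159) (iv F242718)
theorem F249771 : act 4 n55675 = n55675 := d34_1 D55675 (iv D55675) F242719
theorem F249772 : act 5 n55675 = n54158 := d38_1 D55675 (iv D54158) D54156
def n55676 : Q := act 9 n54157
theorem D55676 : act 9 n54157 = n55676 := rfl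
theorem F249773 : act 2 n55676 = n54272 := d23_1 D55676 (iv D54272) (iv F242720)
theorem F249774 : act 4 n55676 = n54170 := d34_1 D55676 (iv D54170) (iv F242721)
theorem F249775 : act 6 n55676 = n54270 := d41_1 D55676 (iv D54270) (iv F242722)
def n55677 : Q := act 8 n54158
theorem D55677 : act 8 n54158 = n55677 := rfl
theorem F249776 : act 2 n55677 = n54280 := d22_1 D55677 (iv D54280) (iv F242723)
theorem F249777 : act 4 n55677 = n54171 := d33_1 D55677 (iv D54171) (iv F242725)
def n55678 : Q := act 8 n54159
theorem D55678 : act 8 n54159 = n55678 := rfl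
theorem F249778 : act 2 n55678 = n54162 := d22_1 D55678 (iv D54162) (iv F242726)
theorem F249779 : act 4 n55678 = n54164 := d33_1 D55678 (iv D54164) (iv F242727)
theorem F249780 : act 5 n55678 = n54160 := d37_1 D55678 (iv D54160) (iv F242728)
def n55679 : Q := act 3 n54160
theorem D55679 : act 3 n54160 = n55679 := rfl
def n55680 : Q := act 4 n54161
theorem D55680 : act 4 n54161 = n55680 := rfl
theorem F249781 : act 2 n55680 = n54221 := d18_1 D55680 (iv D54221) (iv F242731)
theorem F249782 : act 8 n55680 = n54173 := d33_2 (iv F242733) D55680 (iv D54173)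
def n55681 : Q := act 3 n54162
theorem D55681 : act 3 n54162 = n55681 := rfl
theorem F249783 : act 1 n55681 = n54187 := d10_1 D55681 (iv D54187) (iv F242734)
theorem F249784 : act 5 n55681 = n54163 := d25_2 (iv F242736) D55681 (iv D54163)
theorem F249785 : act 8 n55681 = n54283 := d28_2 D54162 D55681 (iv D54283) (iv D52529) (iv F234682)
def n55682 : Q := act 2 n54163
theorem D55682 : act 2 n54163 = n55682 := rfl
theorem F249786 : act 4 n55682 = n54225 := d18_2 (iv F242737) D55682 (iv D54225)
theorem F249787 : act 8 n55682 = n54284 := d22_2 (iv F242738) D55682 (iv D54284)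
def n55683 : Q := act 3 n54164
theorem D55683 : act 3 n54164 = n55683 := rfl
theorem F249788 : act 5 n55683 = n54165 := d25_2 (iv F242740) D55683 (iv D54165)
theorem F249789 : act 8 n55683 = n55683 := d28_2 D54164 D55683 (iv D55683) (iv D54164) F234687
def n55684 : Q := act 4 n54165
theorem D55684 : act 4 n54165 = n55684 := rfl
theorem F249790 : act 3 n55684 = n54166 := d24_1 D55684 (iv D54166) (iv D52381) (iv F234690) D54165
theorem F249791 : act 6 n55684 = n54168 := d31_2 (iv F242741) D55684 (iv D54168)
theorem F249792 : act 8 n55684 = n55684 := d33_2 F242742 D55684 (iv D55684)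
def n55685 : Q := act 5 n54166
theorem D55685 : act 5 n54166 = n55685 := rfl
theorem F249793 : act 2 n55685 = n54233 := d19_1 D55685 (iv D54233) (iv F242743)
theorem F249794 : act 8 n55685 = n54174 := d37_2 (iv F242745) D55685 (iv D54174)
def n55686 : Q := act 6 n54169
theorem D55686 : act 6 n54169 = n55686 := rfl
theorem F249795 : act 2 n55686 = n54234 := d20_1 D55686 (iv D54234) (iv F242750)
theorem F249796 : act 8 n55686 = n54175 := d40_2 (iv F242751) D55686 (iv D54175)
def n55687 : Q := act 8 n54170
theorem D55687 : act 8 n54170 = n55687 := rfl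
theorem F249797 : act 2 n55687 = n54289 := d22_1 D55687 (iv D54289) (iv F242752)
theorem F249798 : act 5 n55687 = n55687 := d37_1 D55687 (iv D55687) F242754
theorem F249799 : act 6 n55687 = n54287 := d40_1 D55687 (iv D54287) (iv F242755)
theorem F249800 : act 9 n55687 = n54171 := d44_2 D54170 D55687 (iv D54171) (iv D52389) D52388
def n55688 : Q := act 3 n54171
theorem D55688 : act 3 n54171 = n55688 := rfl
theorem F249801 : act 5 n55688 = n55688 := d25_2 F242757 D55688 (iv D55688)
theorem F249802 : act 8 n55688 = n54172 := d28_2 D54171 D55688 (iv D54172) (iv D52390) (iv F234711)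
def n55689 : Q := act 4 n54172
theorem D55689 : act 4 n54172 = n55689 := rfl
theorem F249803 : act 3 n55689 = n54173 := d24_1 D55689 (iv D54173) (iv D52391) (iv F234714) D54172
theorem F249804 : act 9 n55689 = n55689 := d34_2 F242759 D55689 (iv D55689)
def n55690 : Q := act 5 n54173
theorem D55690 : act 5 n54173 = n55690 := rfl
theorem F249805 : act 2 n55690 = n54245 := d19_1 D55690 (iv D54245) (iv F242760)
theorem F249806 : act 4 n55690 = n54174 := d30_1 D55690 (iv D54174) (iv D52392) (iv F234718) D54173
theorem F249807 : act 9 n55690 = n55690 := d38_2 F242761 D55690 (iv D55690)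
def n55691 : Q := act 6 n54174
theorem D55691 : act 6 n54174 = n55691 := rfl
theorem F249808 : act 2 n55691 = n54247 := d20_1 D55691 (iv D54247) (iv F242762)
theorem F249809 : act 3 n55691 = n55691 := d26_1 D55691 (iv D55691) F242763
theorem F249810 : act 5 n55691 = n54175 := d35_1 D55691 (iv D54175) (iv D52393) (iv F234722) D54174
theorem F249811 : act 9 n55691 = n55691 := d41_2 F242764 D55691 (iv D55691)
def n55692 : Q := act 9 n54176
theorem D55692 : act 9 n54176 = n55692 := rfl
theorem F249812 : act 0 n55692 = n54194 := d8_1 D55692 (iv D54194) (iv F242768)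
theorem F249813 : act 3 n55692 = n54177 := d29_1 D55692 (iv D54177) D54176
theorem F249814 : act 4 n55692 = n55692 := d34_1 D55692 (iv D55692) F242769
theorem F249815 : act 5 n55692 = n54382 := d38_1 D55692 (iv D54382) (iv F242770)
theorem F249816 : act 7 n55692 = n54373 := d43_1 D55692 (iv D54373) (iv F242771)
def n55693 : Q := act 8 n54177
theorem D55693 : act 8 n54177 = n55693 := rfl
theorem F249817 : act 0 n55693 = n54195 := d7_1 D55693 (iv D54195) (iv F242772)
theorem F249818 : act 2 n55693 = n54179 := d22_1 D55693 (iv D54179) (iv F242773)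
theorem F249819 : act 4 n55693 = n54178 := d33_1 D55693 (iv D54178) (iv F242774)
theorem F249820 : act 9 n55693 = n54185 := d44_2 D54177 D55693 (iv D54185) (iv D52405) (iv F234729)
def n55694 : Q := act 3 n54178
theorem D55694 : act 3 n54178 = n55694 := rfl
theorem F249821 : act 0 n55694 = n54196 := d2_1 D55694 (iv D54196) (iv F242775)
theorem F249822 : act 5 n55694 = n54180 := d25_2 (iv F242777) D55694 (iv D54180)
theorem F249823 : act 8 n55694 = n55694 := d28_2 D54178 D55694 (iv D55694) (iv D54178) F234732
theorem F249824 : act 9 n55694 = n54186 := d29_2 (iv F242778) D55694 (iv D54186)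
def n55695 : Q := act 3 n54179
theorem D55695 : act 3 n54179 = n55695 := rfl
theorem F249825 : act 0 n55695 = n54197 := d2_1 D55695 (iv D54197) (iv F242779)
theorem F249826 : act 9 n55695 = n54187 := d29_2 (iv F242781) D55695 (iv D54187)
def n55696 : Q := act 8 n54182
theorem D55696 : act 8 n54182 = n55696 := rfl
theorem F249827 : act 0 n55696 = n54204 := d7_1 D55696 (iv D54204) (iv F242789)
theorem F249828 : act 4 n55696 = n54183 := d33_1 D55696 (iv D54183) (iv F242791)
theorem F249829 : act 6 n55696 = n54184 := d40_1 D55696 (iv D54184) (iv F242792)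
def n55697 : Q := act 3 n54184
theorem D55697 : act 3 n54184 = n55697 := rfl
theorem F249830 : act 0 n55697 = n54209 := d2_1 D55697 (iv D54209) (iv F242795)
theorem F249831 : act 7 n55697 = n54187 := d27_2 (iv F242797) D55697 (iv D54187)
theorem F249832 : act 8 n55697 = n54307 := d28_2 D54184 D55697 (iv D54307) (iv D52562) (iv F234755)
def n55698 : Q := act 3 n54185
theorem D55698 : act 3 n54185 = n55698 := rfl
theorem F249833 : act 0 n55698 = n54220 := d2_1 D55698 (iv D54220) (iv F242798)
def n55699 : Q := act 4 n54186
theorem D55699 : act 4 n54186 = n55699 := rfl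
theorem F249834 : act 0 n55699 = n54221 := d3_1 D55699 (iv D54221) (iv F242801)
theorem F249835 : act 8 n55699 = n54189 := d33_2 (iv F242803) D55699 (iv D54189)
def n55700 : Q := act 2 n54187
theorem D55700 : act 2 n54187 = n55700 := rfl
theorem F249836 : act 0 n55700 = n54225 := d1_1 D55700 (iv D54225) (iv F242804)
theorem F249837 : act 8 n55700 = n54315 := d22_2 (iv F242805) D55700 (iv D54315)
def n55701 : Q := act 5 n54188
theorem D55701 : act 5 n54188 = n55701 := rfl
theorem F249838 : act 0 n55701 = n54233 := d4_1 D55701 (iv D54233) (iv F242806)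
theorem F249839 : act 8 n55701 = n54190 := d37_2 (iv F242808) D55701 (iv D54190)
def n55702 : Q := act 5 n54189
theorem D55702 : act 5 n54189 = n55702 := rfl
theorem F249840 : act 0 n55702 = n54245 := d4_1 D55702 (iv D54245) (iv F242809)
theorem F249841 : act 4 n55702 = n54190 := d30_1 D55702 (iv D54190) (iv D52414) (iv F234785) D54189
theorem F249842 : act 9 n55702 = n55702 := d38_2 F242810 D55702 (iv D55702)
def n55703 : Q := act 8 n54191
theorem D55703 : act 8 n54191 = n55703 := rfl
theorem F249843 : act 1 n55703 = n54195 := d15_1 D55703 (iv D54195) (iv F242814)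
theorem F249844 : act 4 n55703 = n54192 := d33_1 D55703 (iv D54192) (iv F242815)
theorem F249845 : act 9 n55703 = n54214 := d44_2 D54191 D55703 (iv D54214) (iv D52440) (iv F234792)
def n55704 : Q := act 3 n54192
theorem D55704 : act 3 n54192 = n55704 := rfl
theorem F249846 : act 1 n55704 = n54196 := d10_1 D55704 (iv D54196) (iv F242816)
theorem F249847 : act 5 n55704 = n54198 := d25_2 (iv F242817) D55704 (iv D54198)
theorem F249848 : act 8 n55704 = n55704 := d28_2 D54192 D55704 (iv D55704) (iv D54192) F234794
theorem F249849 : act 9 n55704 = n54215 := d29_2 (iv F242818) D55704 (iv D54215)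
def n55705 : Q := act 9 n54193
theorem D55705 : act 9 n54193 = n55705 := rfl
theorem F249850 : act 3 n55705 = n54216 := d29_1 D55705 (iv D54216) (iv F242819)
theorem F249851 : act 4 n55705 = n55705 := d34_1 D55705 (iv D55705) F242820
def n55706 : Q := act 8 n54194
theorem D55706 : act 8 n54194 = n55706 := rfl
theorem F249852 : act 4 n55706 = n55706 := d33_1 D55706 (iv D55706) F242822
def n55707 : Q := act 3 n54195
theorem D55707 : act 3 n54195 = n55707 := rfl
theorem F249853 : act 9 n55707 = n54220 := d29_2 (iv F242825) D55707 (iv D54220)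
def n55708 : Q := act 4 n54196
theorem D55708 : act 4 n54196 = n55708 := rfl
theorem F249854 : act 8 n55708 = n55708 := d33_2 F242827 D55708 (iv D55708)
theorem F249855 : act 9 n55708 = n54221 := d34_2 (iv F242828) D55708 (iv D54221)
def n55709 : Q := act 2 n54197
theorem D55709 : act 2 n54197 = n55709 := rfl
theorem F249856 : act 9 n55709 = n54225 := d23_2 (iv F242829) D55709 (iv D54225)
def n55710 : Q := act 4 n54198
theorem D55710 : act 4 n54198 = n55710 := rfl
theorem F249857 : act 1 n55710 = n54199 := d11_1 D55710 (iv D54199) (iv F242830)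
theorem F249858 : act 6 n55710 = n54200 := d31_2 (iv F242831) D55710 (iv D54200)
theorem F249859 : act 8 n55710 = n55710 := d33_2 F242832 D55710 (iv D55710)
theorem F249860 : act 9 n55710 = n54230 := d34_2 (iv F242833) D55710 (iv D54230)
def n55711 : Q := act 5 n54199
theorem D55711 : act 5 n54199 = n55711 := rfl
theorem F249861 : act 8 n55711 = n55711 := d37_2 F242835 D55711 (iv D55711)
theorem F249862 : act 9 n55711 = n54233 := d38_2 (iv F242836) D55711 (iv D54233)
def n55712 : Q := act 8 n54201
theorem D55712 : act 8 n54201 = n55712 := rfl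
theorem F249863 : act 2 n55712 = n54204 := d22_1 D55712 (iv D54204) (iv F242840)
theorem F249864 : act 4 n55712 = n54202 := d33_1 D55712 (iv D54202) (iv F242841)
theorem F249865 : act 6 n55712 = n54207 := d40_1 D55712 (iv D54207) (iv F242842)
def n55713 : Q := act 3 n54202
theorem D55713 : act 3 n54202 = n55713 := rfl
theorem F249866 : act 2 n55713 = n54215 := d17_1 D55713 (iv D54215) (iv F241659) F241660 (iv F242843)
theorem F249867 : act 5 n55713 = n54229 := d25_2 F243940 D55713 (iv F243938)
theorem F249868 : act 6 n55713 = n54208 := d26_2 (iv F242844) D55713 (iv D54208)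
theorem F249869 : act 8 n55713 = n54235 := d28_2 D54202 D55713 (iv D54235) (iv D52473) (iv F234821)
def n55714 : Q := act 8 n54203
theorem D55714 : act 8 n54203 = n55714 := rfl
theorem F249870 : act 5 n55714 = n54204 := d37_1 D55714 (iv D54204) (iv F242846)
def n55715 : Q := act 3 n54204
theorem D55715 : act 3 n54204 = n55715 := rfl
theorem F249871 : act 6 n55715 = n54209 := d26_2 (iv F242848) D55715 (iv D54209)
theorem F249872 : act 8 n55715 = n54375 := d28_2 D54204 D55715 (iv D54375) (iv D52635) (iv F234824)
def n55716 : Q := act 8 n54205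
theorem D55716 : act 8 n54205 = n55716 := rfl
theorem F249873 : act 1 n55716 = n54207 := d15_1 D55716 (iv D54207) (iv F242849)
theorem F249874 : act 4 n55716 = n54206 := d33_1 D55716 (iv D54206) (iv F242850)
theorem F249875 : act 7 n55716 = n54214 := d42_1 D55716 (iv D54214) (iv F242851)
def n55717 : Q := act 3 n54206
theorem D55717 : act 3 n54206 = n55717 := rfl
theorem F249876 : act 1 n55717 = n54208 := d10_1 D55717 (iv D54208) (iv F242852)
theorem F249877 : act 5 n55717 = n54226 := d25_2 (iv F242853) D55717 (iv D54226)
theorem F249878 : act 7 n55717 = n54215 := d27_2 (iv F242854) D55717 (iv D54215)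
theorem F249879 : act 8 n55717 = n54236 := d28_2 D54206 D55717 (iv D54236) (iv D52474) (iv F234831)
def n55718 : Q := act 3 n54207
theorem D55718 : act 3 n54207 = n55718 := rfl
theorem F249880 : act 7 n55718 = n54220 := d27_2 (iv F242857) D55718 (iv D54220)
def n55719 : Q := act 4 n54208
theorem D55719 : act 4 n54208 = n55719 := rfl
theorem F249881 : act 7 n55719 = n54221 := d32_2 (iv F242859) D55719 (iv D54221)
theorem F249882 : act 8 n55719 = n54237 := d33_2 (iv F242860) D55719 (iv D54237)
def n55720 : Q := act 2 n54209
theorem D55720 : act 2 n54209 = n55720 := rfl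
theorem F249883 : act 7 n55720 = n54225 := d21_2 (iv F242861) D55720 (iv D54225)
theorem F249884 : act 8 n55720 = n54385 := d22_2 (iv F242862) D55720 (iv D54385)
def n55721 : Q := act 8 n54210
theorem D55721 : act 8 n54210 = n55721 := rfl
theorem F249885 : act 0 n55721 = n54214 := d7_1 D55721 (iv D54214) (iv F242863)
theorem F249886 : act 4 n55721 = n54211 := d33_1 D55721 (iv D54211) (iv F242864)
def n55722 : Q := act 3 n54211
theorem D55722 : act 3 n54211 = n55722 := rfl
theorem F249887 : act 0 n55722 = n54215 := d2_1 D55722 (iv D54215) (iv F242865)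
theorem F249888 : act 5 n55722 = n54227 := d25_2 (iv F242866) D55722 (iv D54227)
theorem F249889 : act 8 n55722 = n54238 := d28_2 D54211 D55722 (iv D54238) (iv D52476) (iv F234844)
def n55723 : Q := act 8 n54212
theorem D55723 : act 8 n54212 = n55723 := rfl
theorem F249890 : act 1 n55723 = n54217 := d15_1 D55723 (iv D54217) (iv F242867)
theorem F249891 : act 4 n55723 = n54239 := d33_1 D55723 (iv D54239) (iv F242869)
def n55724 : Q := act 8 n54213
theorem D55724 : act 8 n54213 = n55724 := rfl
theorem F249892 : act 1 n55724 = n54219 := d15_1 D55724 (iv D54219) (iv F242870)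
theorem F249893 : act 4 n55724 = n54228 := d33_1 D55724 (iv D54228) (iv F242871)
theorem F249894 : act 5 n55724 = n54214 := d37_1 D55724 (iv D54214) (iv F242872)
def n55725 : Q := act 3 n54214
theorem D55725 : act 3 n54214 = n55725 := rfl
theorem F249895 : act 1 n55725 = n54220 := d10_1 D55725 (iv D54220) (iv F242873)
def n55726 : Q := act 4 n54215
theorem D55726 : act 4 n54215 = n55726 := rfl
theorem F249896 : act 1 n55726 = n54221 := d11_1 D55726 (iv D54221) (iv F242875)
theorem F249897 : act 8 n55726 = n54241 := d33_2 (iv F242877) D55726 (iv D54241)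
def n55727 : Q := act 8 n54216
theorem D55727 : act 8 n54216 = n55727 := rfl
theorem F249898 : act 2 n55727 = n54397 := d22_1 D55727 (iv D54397) (iv F242878)
theorem F249899 : act 4 n55727 = n54242 := d33_1 D55727 (iv D54242) (iv F242879)
theorem F249900 : act 9 n55727 = n54217 := d44_2 D54216 D55727 (iv D54217) (iv D52443) D52442
def n55728 : Q := act 3 n54217
theorem D55728 : act 3 n54217 = n55728 := rfl
theorem F249901 : act 8 n55728 = n54220 := d28_2 D54217 D55728 (iv D54220) (iv D52446) (iv F234857)
def n55729 : Q := act 8 n54218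
theorem D55729 : act 8 n54218 = n55729 := rfl
theorem F249902 : act 2 n55729 = n54223 := d22_1 D55729 (iv D54223) (iv F242882)
theorem F249903 : act 4 n55729 = n54231 := d33_1 D55729 (iv D54231) (iv F242883)
theorem F249904 : act 6 n55729 = n54219 := d40_1 D55729 (iv D54219) (iv F242884)
def n55730 : Q := act 3 n54219
theorem D55730 : act 3 n54219 = n55730 := rfl
theorem F249905 : act 5 n55730 = n54220 := d25_2 (iv F242887) D55730 (iv D54220)
def n55731 : Q := act 2 n54220
theorem D55731 : act 2 n54220 = n55731 := rfl
theorem F249906 : act 3 n55731 = n54225 := d17_2 D54220 D55731 (iv D54225) (iv D52451) (iv F234864)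
def n55732 : Q := act 4 n54220
theorem D55732 : act 4 n54220 = n55732 := rfl
theorem F249907 : act 3 n55732 = n54221 := d24_1 D55732 (iv D54221) (iv D52447) (iv F234865) D54220
def n55733 : Q := act 5 n54221
theorem D55733 : act 5 n54221 = n55733 := rfl
theorem F249908 : act 4 n55733 = n54233 := d30_1 D55733 (iv D54233) (iv D52461) (iv F234866) D54221
theorem F249909 : act 8 n55733 = n54245 := d37_2 (iv F242888) D55733 (iv D54245)
def n55734 : Q := act 8 n54222
theorem D55734 : act 8 n54222 = n55734 := rfl
theorem F249910 : act 4 n55734 = n54232 := d33_1 D55734 F242915 (iv F242890)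
theorem F249911 : act 7 n55734 = n54223 := d42_1 D55734 (iv D54223) (iv F242891)
def n55735 : Q := act 3 n54223
theorem D55735 : act 3 n54223 = n55735 := rfl
theorem F249912 : act 6 n55735 = n54224 := d26_2 (iv F242893) D55735 (iv D54224)
theorem F249913 : act 8 n55735 = n54406 := d28_2 D54223 D55735 (iv D54406) (iv D52667) (iv F234870)
def n55736 : Q := act 2 n54224
theorem D55736 : act 2 n54224 = n55736 := rfl
theorem F249914 : act 5 n55736 = n54225 := d19_2 (iv F242894) D55736 (iv D54225)
theorem F249915 : act 8 n55736 = n54407 := d22_2 (iv F242895) D55736 (iv D54407)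
def n55737 : Q := act 1 n54225
theorem D55737 : act 1 n54225 = n55737 := rfl
theorem F249916 : act 8 n55737 = n54408 := d15_2 (iv F242896) D55737 (iv D54408)
def n55738 : Q := act 5 n54230
theorem D55738 : act 5 n54230 = n55738 := rfl
theorem F249917 : act 1 n55738 = n54233 := d12_1 D55738 (iv D54233) (iv F242907)
theorem F249918 : act 8 n55738 = n54246 := d37_2 (iv F242909) D55738 (iv D54246)
def n55739 : Q := act 6 n54233
theorem D55739 : act 6 n54233 = n55739 := rfl
theorem F249919 : act 5 n55739 = n54234 := d35_1 D55739 (iv D54234) (iv D52472) (iv F234900) D54233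
theorem F249920 : act 8 n55739 = n54247 := d40_2 (iv F242916) D55739 (iv D54247)
def n55740 : Q := act 4 n54235
theorem D55740 : act 4 n54235 = n55740 := rfl
theorem F249921 : act 2 n55740 = n54241 := d18_1 D55740 (iv D54241) (iv F242918)
theorem F249922 : act 6 n55740 = n54237 := d31_2 (iv F242920) D55740 (iv D54237)
theorem F249923 : act 9 n55740 = n55740 := d34_2 F242921 D55740 (iv D55740)
def n55741 : Q := act 4 n54236
theorem D55741 : act 4 n54236 = n55741 := rfl
theorem F249924 : act 1 n55741 = n54237 := d11_1 D55741 (iv D54237) (iv F242922)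
theorem F249925 : act 7 n55741 = n54241 := d32_2 (iv F242924) D55741 (iv D54241)
theorem F249926 : act 9 n55741 = n55741 := d34_2 F242925 D55741 (iv D55741)
def n55742 : Q := act 4 n54238
theorem D55742 : act 4 n54238 = n55742 := rfl
theorem F249927 : act 0 n55742 = n54241 := d3_1 D55742 (iv D54241) (iv F242928)
theorem F249928 : act 9 n55742 = n55742 := d34_2 F242930 D55742 (iv D55742)
def n55743 : Q := act 3 n54239
theorem D55743 : act 3 n54239 = n55743 := rfl
theorem F249929 : act 1 n55743 = n54243 := d10_1 D55743 (iv D54243) (iv F242931)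
theorem F249930 : act 5 n55743 = n54446 := d25_2 (iv F242932) D55743 (iv D54446)
theorem F249931 : act 8 n55743 = n54240 := d28_2 D54239 D55743 (iv D54240) (iv D52478) (iv F234940)
def n55744 : Q := act 4 n54240
theorem D55744 : act 4 n54240 = n55744 := rfl
theorem F249932 : act 1 n55744 = n54244 := d11_1 D55744 (iv D54244) (iv F242933)
theorem F249933 : act 3 n55744 = n54241 := d24_1 D55744 (iv D54241) (iv D52479) (iv F234944) D54240
theorem F249934 : act 9 n55744 = n55744 := d34_2 F242935 D55744 (iv D55744)
def n55745 : Q := act 5 n54241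
theorem D55745 : act 5 n54241 = n55745 := rfl
theorem F249935 : act 1 n55745 = n54245 := d12_1 D55745 (iv D54245) (iv F242936)
theorem F249936 : act 4 n55745 = n54246 := d30_1 D55745 (iv D54246) (iv D52487) (iv F234948) D54241
theorem F249937 : act 9 n55745 = n55745 := d38_2 F242937 D55745 (iv D55745)
def n55746 : Q := act 3 n54242
theorem D55746 : act 3 n54242 = n55746 := rfl
theorem F249938 : act 5 n55746 = n54447 := d25_2 (iv F242939) D55746 (iv D54447)
theorem F249939 : act 8 n55746 = n55746 := d28_2 D54242 D55746 (iv D55746) (iv D54242) F234951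
theorem F249940 : act 9 n55746 = n54243 := d29_2 (iv F242940) D55746 (iv D54243)
def n55747 : Q := act 4 n54243
theorem D55747 : act 4 n54243 = n55747 := rfl
theorem F249941 : act 8 n55747 = n54244 := d33_2 (iv F242942) D55747 (iv D54244)
def n55748 : Q := act 6 n54245
theorem D55748 : act 6 n54245 = n55748 := rfl
theorem F249942 : act 4 n55748 = n54247 := d31_1 D55748 (iv D54247) (iv F242945)
theorem F249943 : act 9 n55748 = n55748 := d41_2 F242946 D55748 (iv D55748)
def n55749 : Q := act 9 n54248
theorem D55749 : act 9 n54248 = n55749 := rfl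
theorem F249944 : act 0 n55749 = n54263 := d8_1 D55749 (iv D54263) (iv F242953)
theorem F249945 : act 4 n55749 = n55749 := d34_1 D55749 (iv D55749) F242954
theorem F249946 : act 5 n55749 = n54249 := d38_1 D55749 (iv D54249) D54248
def n55750 : Q := act 8 n54249
theorem D55750 : act 8 n54249 = n55750 := rfl
theorem F249947 : act 0 n55750 = n54264 := d7_1 D55750 (iv D54264) (iv F242955)
theorem F249948 : act 4 n55750 = n54250 := d33_1 D55750 (iv D54250) (iv F242956)
theorem F249949 : act 6 n55750 = n54251 := d40_1 D55750 (iv D54251) (iv F242957)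
def n55751 : Q := act 3 n54251
theorem D55751 : act 3 n54251 = n55751 := rfl
theorem F249950 : act 0 n55751 = n54274 := d2_1 D55751 (iv D54274) (iv F242962)
theorem F249951 : act 4 n55751 = n54307 := d24_2 (iv F242963) D55751 (iv D54307) F235197 (iv F234995)
theorem F249952 : act 7 n55751 = n54252 := d27_2 (iv F242964) D55751 (iv D54252)
def n55752 : Q := act 2 n54252
theorem D55752 : act 2 n54252 = n55752 := rfl
theorem F249953 : act 0 n55752 = n54284 := d1_1 D55752 (iv D54284) (iv F242965)
theorem F249954 : act 4 n55752 = n54315 := d18_2 (iv F242966) D55752 (iv D54315)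
def n55753 : Q := act 3 n54253
theorem D55753 : act 3 n54253 = n55753 := rfl
theorem F249955 : act 4 n55753 = n54328 := d24_2 (iv F242967) D55753 (iv D54328) F235253 (iv F235002)
theorem F249956 : act 8 n55753 = n54258 := d28_2 D54253 D55753 (iv D54258) (iv D52504) (iv F235000)
def n55754 : Q := act 8 n54254
theorem D55754 : act 8 n54254 = n55754 := rfl
theorem F249957 : act 4 n55754 = n54255 := d33_1 D55754 (iv D54255) (iv F242968)
theorem F249958 : act 6 n55754 = n54256 := d40_1 D55754 (iv D54256) (iv F242969)
theorem F249959 : act 9 n55754 = n54264 := d44_2 D54254 D55754 (iv D54264) (iv D52510) (iv F235005)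
def n55755 : Q := act 3 n54256
theorem D55755 : act 3 n54256 = n55755 := rfl
theorem F249960 : act 4 n55755 = n54338 := d24_2 (iv F242974) D55755 (iv D54338) F235284 (iv F235011)
theorem F249961 : act 7 n55755 = n54258 := d27_2 (iv F242975) D55755 (iv D54258)
theorem F249962 : act 9 n55755 = n54274 := d29_2 (iv F242976) D55755 (iv D54274)
def n55756 : Q := act 3 n54257
theorem D55756 : act 3 n54257 = n55756 := rfl
theorem F249963 : act 1 n55756 = n54299 := d10_1 D55756 (iv D54299) (iv F242977)
theorem F249964 : act 5 n55756 = n54258 := d25_2 (iv F242979) D55756 (iv D54258)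
theorem F249965 : act 9 n55756 = n54283 := d29_2 (iv F242980) D55756 (iv D54283)
def n55757 : Q := act 2 n54258
theorem D55757 : act 2 n54258 = n55757 := rfl
theorem F249966 : act 4 n55757 = n54358 := d18_2 (iv F242981) D55757 (iv D54358)
theorem F249967 : act 9 n55757 = n54284 := d23_2 (iv F242982) D55757 (iv D54284)
def n55758 : Q := act 9 n54259
theorem D55758 : act 9 n54259 = n55758 := rfl
theorem F249968 : act 2 n55758 = n54263 := d23_1 D55758 (iv D54263) (iv F242983)
theorem F249969 : act 4 n55758 = n55758 := d34_1 D55758 (iv D55758) F242984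
theorem F249970 : act 5 n55758 = n54260 := d38_1 D55758 (iv D54260) D54259
def n55759 : Q := act 8 n54260
theorem D55759 : act 8 n54260 = n55759 := rfl
theorem F249971 : act 2 n55759 = n54264 := d22_1 D55759 (iv D54264) (iv F242985)
theorem F249972 : act 4 n55759 = n54261 := d33_1 D55759 (iv D54261) (iv F242986)
theorem F249973 : act 6 n55759 = n54271 := d40_1 D55759 (iv D54271) (iv F242987)
def n55760 : Q := act 9 n54262
theorem D55760 : act 9 n54262 = n55760 := rfl
theorem F249974 : act 1 n55760 = n54302 := d16_1 D55760 (iv D54302) (iv F242991)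
theorem F249975 : act 4 n55760 = n55760 := d34_1 D55760 (iv D55760) F242992
theorem F249976 : act 5 n55760 = n54272 := d38_1 D55760 (iv D54272) (iv F242993)
theorem F249977 : act 6 n55760 = n54263 := d41_1 D55760 (iv D54263) D54262
def n55761 : Q := act 8 n54263
theorem D55761 : act 8 n54263 = n55761 := rfl
theorem F249978 : act 4 n55761 = n55761 := d33_1 D55761 (iv D55761) F242995
theorem F249979 : act 5 n55761 = n54264 := d37_1 D55761 (iv D54264) (iv F242996)
def n55762 : Q := act 3 n54264
theorem D55762 : act 3 n54264 = n55762 := rfl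
theorem F249980 : act 4 n55762 = n54375 := d24_2 (iv F242997) D55762 (iv D54375) F235405 (iv F235039)
theorem F249981 : act 6 n55762 = n54274 := d26_2 (iv F242998) D55762 (iv D54274)
def n55763 : Q := act 9 n54265
theorem D55763 : act 9 n54265 = n55763 := rfl
theorem F249982 : act 1 n55763 = n54270 := d16_1 D55763 (iv D54270) (iv F242999)
theorem F249983 : act 2 n55763 = n54304 := d23_1 D55763 (iv D54304) (iv F243000)
theorem F249984 : act 4 n55763 = n54285 := d34_1 D55763 (iv D54285) (iv F243001)
theorem F249985 : act 5 n55763 = n54266 := d38_1 D55763 (iv D54266) D54265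
theorem F249986 : act 7 n55763 = n54277 := d43_1 D55763 (iv D54277) (iv F243002)
def n55764 : Q := act 8 n54266
theorem D55764 : act 8 n54266 = n55764 := rfl
theorem F249987 : act 1 n55764 = n54271 := d15_1 D55764 (iv D54271) (iv F243003)
theorem F249988 : act 4 n55764 = n54267 := d33_1 D55764 (iv D54267) (iv F243004)
theorem F249989 : act 7 n55764 = n54278 := d42_1 D55764 (iv D54278) (iv F243005)
def n55765 : Q := act 9 n54268
theorem D55765 : act 9 n54268 = n55765 := rfl
theorem F249990 : act 3 n55765 = n54270 := d29_1 D55765 (iv D54270) (iv F243009)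
theorem F249991 : act 4 n55765 = n55765 := d34_1 D55765 (iv D55765) F243010
theorem F249992 : act 5 n55765 = n54269 := d38_1 D55765 (iv D54269) D54268
theorem F249993 : act 7 n55765 = n54279 := d43_1 D55765 (iv D54279) (iv F243011)
def n55766 : Q := act 8 n54269
theorem D55766 : act 8 n54269 = n55766 := rfl
theorem F249994 : act 4 n55766 = n54293 := d33_1 D55766 (iv D54293) (iv F243013)
theorem F249995 : act 7 n55766 = n54280 := d42_1 D55766 (iv D54280) (iv F243014)
def n55767 : Q := act 8 n54270
theorem D55767 : act 8 n54270 = n55767 := rfl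
theorem F249996 : act 2 n55767 = n54273 := d22_1 D55767 (iv D54273) (iv F243015)
theorem F249997 : act 4 n55767 = n54287 := d33_1 D55767 (iv D54287) (iv F243016)
theorem F249998 : act 5 n55767 = n54271 := d37_1 D55767 (iv D54271) (iv F243017)
theorem F249999 : act 7 n55767 = n54281 := d42_1 D55767 (iv D54281) (iv F243018)
def n55768 : Q := act 3 n54271
theorem D55768 : act 3 n54271 = n55768 := rfl
theorem F250000 : act 7 n55768 = n54282 := d27_2 (iv F243021) D55768 (iv D54282)
def n55769 : Q := act 8 n54272
theorem D55769 : act 8 n54272 = n55769 := rfl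
theorem F250001 : act 1 n55769 = n54303 := d15_1 D55769 (iv D54303) (iv F243022)
theorem F250002 : act 4 n55769 = n54289 := d33_1 D55769 (iv D54289) (iv F243023)
theorem F250003 : act 6 n55769 = n54273 := d40_1 D55769 (iv D54273) (iv F243024)
theorem F250004 : act 9 n55769 = n54280 := d44_2 D54272 D55769 (iv D54280) (iv D52526) (iv F235061)
def n55770 : Q := act 3 n54273
theorem D55770 : act 3 n54273 = n55770 := rfl
theorem F250005 : act 1 n55770 = n54307 := d10_1 D55770 (iv D54307) (iv F243025)
theorem F250006 : act 5 n55770 = n54274 := d25_2 (iv F243027) D55770 (iv D54274)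
theorem F250007 : act 7 n55770 = n54283 := d27_2 (iv F243028) D55770 (iv D54283)
def n55771 : Q := act 2 n54274
theorem D55771 : act 2 n54274 = n55771 := rfl
theorem F250008 : act 4 n55771 = n54385 := d18_2 (iv F243029) D55771 (iv D54385)
theorem F250009 : act 7 n55771 = n54284 := d21_2 (iv F243030) D55771 (iv D54284)
def n55772 : Q := act 9 n54275
theorem D55772 : act 9 n54275 = n55772 := rfl
theorem F250010 : act 0 n55772 = n54332 := d8_1 D55772 (iv D54332) (iv F243031)
theorem F250011 : act 1 n55772 = n54279 := d16_1 D55772 (iv D54279) (iv F243032)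
theorem F250012 : act 3 n55772 = n54277 := d29_1 D55772 (iv D54277) (iv F243033)
theorem F250013 : act 4 n55772 = n55772 := d34_1 D55772 (iv D55772) F243034
theorem F250014 : act 5 n55772 = n54276 := d38_1 D55772 (iv D54276) D54275
def n55773 : Q := act 8 n54276
theorem D55773 : act 8 n54276 = n55773 := rfl
theorem F250015 : act 0 n55773 = n54333 := d7_1 D55773 (iv D54333) (iv F243036)
theorem F250016 : act 1 n55773 = n54280 := d15_1 D55773 (iv D54280) (iv F243037)
theorem F250017 : act 4 n55773 = n54294 := d33_1 D55773 (iv D54294) (iv F243039)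
theorem F250018 : act 6 n55773 = n54298 := d40_1 D55773 (iv D54298) (iv F243040)
theorem F250019 : act 9 n55773 = n54303 := d44_2 D54276 D55773 (iv D54303) (iv D52556) F235072
def n55774 : Q := act 8 n54277
theorem D55774 : act 8 n54277 = n55774 := rfl
theorem F250020 : act 1 n55774 = n54281 := d15_1 D55774 (iv D54281) (iv F243041)
theorem F250021 : act 2 n55774 = n54311 := d22_1 D55774 (iv D54311) (iv F243042)
theorem F250022 : act 4 n55774 = n54290 := d33_1 D55774 (iv D54290) (iv F243043)
theorem F250023 : act 5 n55774 = n54278 := d37_1 D55774 (iv D54278) (iv F243044)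
def n55775 : Q := act 3 n54278
theorem D55775 : act 3 n54278 = n55775 := rfl
theorem F250024 : act 1 n55775 = n54282 := d10_1 D55775 (iv D54282) (iv F243045)
def n55776 : Q := act 8 n54279
theorem D55776 : act 8 n54279 = n55776 := rfl
theorem F250025 : act 4 n55776 = n55776 := d33_1 D55776 (iv D55776) F243048
theorem F250026 : act 5 n55776 = n54280 := d37_1 D55776 (iv D54280) (iv F243049)
def n55777 : Q := act 3 n54280
theorem D55777 : act 3 n54280 = n55777 := rfl
theorem F250027 : act 8 n55777 = n54282 := d28_2 D54280 D55777 (iv D54282) (iv D52528) (iv F235082)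
def n55778 : Q := act 3 n54281
theorem D55778 : act 3 n54281 = n55778 := rfl
theorem F250028 : act 5 n55778 = n54282 := d25_2 (iv F243053) D55778 (iv D54282)
def n55779 : Q := act 2 n54282
theorem D55779 : act 2 n54282 = n55779 := rfl
theorem F250029 : act 3 n55779 = n54284 := d17_2 D54282 D55779 (iv D54284) (iv D52530) (iv F235087)
def n55780 : Q := act 2 n54283
theorem D55780 : act 2 n54283 = n55780 := rfl
theorem F250030 : act 5 n55780 = n54284 := d19_2 (iv F243055) D55780 (iv D54284)
def n55781 : Q := act 1 n54284
theorem D55781 : act 1 n54284 = n55781 := rfl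
theorem F250031 : act 4 n55781 = n54408 := d11_2 (iv F243056) D55781 (iv D54408)
def n55782 : Q := act 8 n54285
theorem D55782 : act 8 n54285 = n55782 := rfl
theorem F250032 : act 1 n55782 = n54287 := d15_1 D55782 (iv D54287) (iv F243057)
theorem F250033 : act 2 n55782 = n54305 := d22_1 D55782 (iv D54305) (iv F243058)
theorem F250034 : act 5 n55782 = n54286 := d37_1 D55782 (iv D54286) (iv F243060)
theorem F250035 : act 7 n55782 = n54290 := d42_1 D55782 (iv D54290) (iv F243061)
def n55783 : Q := act 3 n54286
theorem D55783 : act 3 n54286 = n55783 := rfl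
theorem F250036 : act 1 n55783 = n54288 := d10_1 D55783 (iv D54288) (iv F243062)
theorem F250037 : act 6 n55783 = n55783 := d26_2 F243065 D55783 (iv D55783)
theorem F250038 : act 7 n55783 = n54291 := d27_2 (iv F243066) D55783 (iv D54291)
theorem F250039 : act 8 n55783 = n55783 := d28_2 D54286 D55783 (iv D55783) (iv D54286) F235099
def n55784 : Q := act 3 n54287
theorem D55784 : act 3 n54287 = n55784 := rfl
theorem F250040 : act 5 n55784 = n54288 := d25_2 (iv F243068) D55784 (iv D54288)
theorem F250041 : act 7 n55784 = n54292 := d27_2 (iv F243069) D55784 (iv D54292)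
theorem F250042 : act 8 n55784 = n55784 := d28_2 D54287 D55784 (iv D55784) (iv D54287) F235107
def n55785 : Q := act 3 n54290
theorem D55785 : act 3 n54290 = n55785 := rfl
theorem F250043 : act 1 n55785 = n54292 := d10_1 D55785 (iv D54292) (iv F243077)
theorem F250044 : act 5 n55785 = n54291 := d25_2 (iv F243079) D55785 (iv D54291)
theorem F250045 : act 8 n55785 = n55785 := d28_2 D54290 D55785 (iv D55785) (iv D54290) F235123
def n55786 : Q := act 4 n54292
theorem D55786 : act 4 n54292 = n55786 := rfl
theorem F250046 : act 8 n55786 = n55786 := d33_2 F243084 D55786 (iv D55786)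
def n55787 : Q := act 8 n54295
theorem D55787 : act 8 n54295 = n55787 := rfl
theorem F250047 : act 0 n55787 = n54326 := d7_1 D55787 (iv D54326) (iv F243092)
theorem F250048 : act 2 n55787 = n54297 := d22_1 D55787 (iv D54297) (iv F243093)
theorem F250049 : act 4 n55787 = n54296 := d33_1 D55787 (iv D54296) (iv F243094)
def n55788 : Q := act 3 n54296
theorem D55788 : act 3 n54296 = n55788 := rfl
theorem F250050 : act 0 n55788 = n54327 := d2_1 D55788 (iv D54327) (iv F243095)
theorem F250051 : act 5 n55788 = n54469 := d25_2 (iv F243097) D55788 (iv D54469)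
theorem F250052 : act 8 n55788 = n54429 := d28_2 D54296 D55788 (iv D54429) (iv D52700) (iv F235149)
def n55789 : Q := act 3 n54297
theorem D55789 : act 3 n54297 = n55789 := rfl
theorem F250053 : act 0 n55789 = n54328 := d2_1 D55789 (iv D54328) (iv F243098)
theorem F250054 : act 8 n55789 = n54299 := d28_2 D54297 D55789 (iv D54299) (iv D52552) (iv F235152)
def n55790 : Q := act 3 n54298
theorem D55790 : act 3 n54298 = n55790 := rfl
theorem F250055 : act 0 n55790 = n54338 := d2_1 D55790 (iv D54338) (iv F243100)
theorem F250056 : act 7 n55790 = n54299 := d27_2 (iv F243102) D55790 (iv D54299)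
theorem F250057 : act 9 n55790 = n54307 := d29_2 (iv F243103) D55790 (iv D54307)
def n55791 : Q := act 2 n54299
theorem D55791 : act 2 n54299 = n55791 := rfl
theorem F250058 : act 0 n55791 = n54358 := d1_1 D55791 (iv D54358) (iv F243104)
theorem F250059 : act 9 n55791 = n54315 := d23_2 (iv F243105) D55791 (iv D54315)
def n55792 : Q := act 8 n54300
theorem D55792 : act 8 n54300 = n55792 := rfl
theorem F250060 : act 0 n55792 = n54372 := d7_1 D55792 (iv D54372) (iv F243106)
theorem F250061 : act 2 n55792 = n54303 := d22_1 D55792 (iv D54303) (iv F243107)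
theorem F250062 : act 4 n55792 = n54301 := d33_1 D55792 (iv D54301) (iv F243108)
theorem F250063 : act 6 n55792 = n54306 := d40_1 D55792 (iv D54306) (iv F243109)
def n55793 : Q := act 8 n54302
theorem D55793 : act 8 n54302 = n55793 := rfl
theorem F250064 : act 0 n55793 = n54374 := d7_1 D55793 (iv D54374) (iv F243114)
theorem F250065 : act 4 n55793 = n55793 := d33_1 D55793 (iv D55793) F243115
theorem F250066 : act 5 n55793 = n54303 := d37_1 D55793 (iv D54303) (iv F243116)
def n55794 : Q := act 3 n54303
theorem D55794 : act 3 n54303 = n55794 := rfl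
theorem F250067 : act 0 n55794 = n54375 := d2_1 D55794 (iv D54375) (iv F243117)
theorem F250068 : act 6 n55794 = n54307 := d26_2 (iv F243119) D55794 (iv D54307)
def n55795 : Q := act 8 n54304
theorem D55795 : act 8 n54304 = n55795 := rfl
theorem F250069 : act 1 n55795 = n54306 := d15_1 D55795 (iv D54306) (iv F243120)
theorem F250070 : act 4 n55795 = n54305 := d33_1 D55795 (iv D54305) (iv F243121)
theorem F250071 : act 7 n55795 = n54311 := d42_1 D55795 (iv D54311) (iv F243122)
def n55796 : Q := act 3 n54306
theorem D55796 : act 3 n54306 = n55796 := rfl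
theorem F250072 : act 0 n55796 = n54380 := d2_1 D55796 (iv D54380) (iv F243126)
theorem F250073 : act 7 n55796 = n54314 := d27_2 (iv F243129) D55796 (iv D54314)
def n55797 : Q := act 2 n54307
theorem D55797 : act 2 n54307 = n55797 := rfl
theorem F250074 : act 0 n55797 = n54385 := d1_1 D55797 (iv D54385) (iv F243130)
theorem F250075 : act 7 n55797 = n54315 := d21_2 (iv F243131) D55797 (iv D54315)
def n55798 : Q := act 8 n54308
theorem D55798 : act 8 n54308 = n55798 := rfl
theorem F250076 : act 0 n55798 = n54311 := d7_1 D55798 (iv D54311) (iv F243132)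
theorem F250077 : act 1 n55798 = n54387 := d15_1 D55798 (iv D54387) (iv F243133)
theorem F250078 : act 4 n55798 = n54309 := d33_1 D55798 (iv D54309) (iv F243134)
def n55799 : Q := act 8 n54310
theorem D55799 : act 8 n54310 = n55799 := rfl
theorem F250079 : act 1 n55799 = n54313 := d15_1 D55799 (iv D54313) (iv F243138)
theorem F250080 : act 4 n55799 = n54317 := d33_1 D55799 (iv D54317) (iv F243140)
def n55800 : Q := act 3 n54311
theorem D55800 : act 3 n54311 = n55800 := rfl
theorem F250081 : act 1 n55800 = n54314 := d10_1 D55800 (iv D54314) (iv F243141)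
def n55801 : Q := act 8 n54312
theorem D55801 : act 8 n54312 = n55801 := rfl
theorem F250082 : act 0 n55801 = n54397 := d7_1 D55801 (iv D54397) (iv F243143)
theorem F250083 : act 4 n55801 = n54318 := d33_1 D55801 (iv D54318) (iv F243144)
theorem F250084 : act 9 n55801 = n54313 := d44_2 D54312 D55801 (iv D54313) (iv D52569) D52568
def n55802 : Q := act 3 n54313
theorem D55802 : act 3 n54313 = n55802 := rfl
theorem F250085 : act 0 n55802 = n54398 := d2_1 D55802 (iv D54398) (iv F243145)
theorem F250086 : act 8 n55802 = n54314 := d28_2 D54313 D55802 (iv D54314) (iv D52570) (iv F235214)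
def n55803 : Q := act 2 n54314
theorem D55803 : act 2 n54314 = n55803 := rfl
theorem F250087 : act 0 n55803 = n54402 := d1_1 D55803 (iv D54402) (iv F243147)
theorem F250088 : act 3 n55803 = n54315 := d17_2 D54314 D55803 (iv D54315) (iv D52571) (iv F235217)
def n55804 : Q := act 1 n54315
theorem D55804 : act 1 n54315 = n55804 := rfl
def n55805 : Q := act 9 n54319
theorem D55805 : act 9 n54319 = n55805 := rfl
theorem F250089 : act 0 n55805 = n54322 := d8_1 D55805 (iv D54322) (iv F243159)
theorem F250090 : act 1 n55805 = n54399 := d16_1 D55805 (iv D54399) (iv F243160)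
theorem F250091 : act 4 n55805 = n54320 := d34_1 D55805 (iv D54320) D54319
theorem F250092 : act 7 n55805 = n54390 := d43_1 D55805 (iv D54390) (iv F243161)
def n55806 : Q := act 8 n54320
theorem D55806 : act 8 n54320 = n55806 := rfl
theorem F250093 : act 0 n55806 = n54323 := d7_1 D55806 (iv D54323) (iv F243162)
theorem F250094 : act 1 n55806 = n54421 := d15_1 D55806 (iv D54421) (iv F243163)
theorem F250095 : act 5 n55806 = n54425 := d37_1 D55806 (iv D54425) (iv F243165)
theorem F250096 : act 7 n55806 = n54418 := d42_1 D55806 (iv D54418) (iv F243166)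
def n55807 : Q := act 9 n54321
theorem D55807 : act 9 n54321 = n55807 := rfl
theorem F250097 : act 1 n55807 = n54325 := d16_1 D55807 (iv D54325) (iv F243167)
theorem F250098 : act 3 n55807 = n54322 := d29_1 D55807 (iv D54322) D54321
theorem F250099 : act 4 n55807 = n54435 := d34_1 D55807 (iv D54435) (iv F243168)
def n55808 : Q := act 8 n54322
theorem D55808 : act 8 n54322 = n55808 := rfl
theorem F250100 : act 1 n55808 = n54326 := d15_1 D55808 (iv D54326) (iv F243169)
theorem F250101 : act 4 n55808 = n54323 := d33_1 D55808 (iv D54323) (iv F243170)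
def n55809 : Q := act 3 n54323
theorem D55809 : act 3 n54323 = n55809 := rfl
theorem F250102 : act 1 n55809 = n54327 := d10_1 D55809 (iv D54327) (iv F243171)
theorem F250103 : act 5 n55809 = n54470 := d25_2 (iv F243172) D55809 (iv D54470)
theorem F250104 : act 8 n55809 = n54437 := d28_2 D54323 D55809 (iv D54437) (iv D52710) (iv F235245)
def n55810 : Q := act 9 n54324
theorem D55810 : act 9 n54324 = n55810 := rfl
theorem F250105 : act 2 n55810 = n54349 := d23_1 D55810 (iv D54349) (iv F243173)
theorem F250106 : act 4 n55810 = n54438 := d34_1 D55810 (iv D54438) (iv F243174)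
def n55811 : Q := act 8 n54325
theorem D55811 : act 8 n54325 = n55811 := rfl
theorem F250107 : act 2 n55811 = n54350 := d22_1 D55811 (iv D54350) (iv F243175)
theorem F250108 : act 4 n55811 = n54439 := d33_1 D55811 (iv D54439) (iv F243177)
def n55812 : Q := act 3 n54326
theorem D55812 : act 3 n54326 = n55812 := rfl
def n55813 : Q := act 4 n54327
theorem D55813 : act 4 n54327 = n55813 := rfl
theorem F250109 : act 8 n55813 = n54441 := d33_2 (iv F243181) D55813 (iv D54441)
def n55814 : Q := act 2 n54328
theorem D55814 : act 2 n54328 = n55814 := rfl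
theorem F250110 : act 8 n55814 = n54358 := d22_2 (iv F243182) D55814 (iv D54358)
def n55815 : Q := act 9 n54329
theorem D55815 : act 9 n54329 = n55815 := rfl
theorem F250111 : act 2 n55815 = n54332 := d23_1 D55815 (iv D54332) (iv F243183)
theorem F250112 : act 4 n55815 = n55815 := d34_1 D55815 (iv D55815) F243184
theorem F250113 : act 5 n55815 = n54330 := d38_1 D55815 (iv D54330) D54329
def n55816 : Q := act 8 n54330
theorem D55816 : act 8 n54330 = n55816 := rfl
theorem F250114 : act 2 n55816 = n54333 := d22_1 D55816 (iv D54333) (iv F243186)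
theorem F250115 : act 4 n55816 = n54331 := d33_1 D55816 (iv D54331) (iv F243187)
theorem F250116 : act 6 n55816 = n54337 := d40_1 D55816 (iv D54337) (iv F243188)
theorem F250117 : act 9 n55816 = n54372 := d44_2 D54330 D55816 (iv D54372) (iv D52631) (iv F235256)
def n55817 : Q := act 8 n54332
theorem D55817 : act 8 n54332 = n55817 := rfl
theorem F250118 : act 4 n55817 = n55817 := d33_1 D55817 (iv D55817) F243193
theorem F250119 : act 5 n55817 = n54333 := d37_1 D55817 (iv D54333) (iv F243194)
theorem F250120 : act 9 n55817 = n54374 := d44_2 D54332 D55817 (iv D54374) (iv D52634) (iv F235262)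
def n55818 : Q := act 3 n54333
theorem D55818 : act 3 n54333 = n55818 := rfl
theorem F250121 : act 6 n55818 = n54338 := d26_2 (iv F243196) D55818 (iv D54338)
theorem F250122 : act 9 n55818 = n54375 := d29_2 (iv F243197) D55818 (iv D54375)
def n55819 : Q := act 8 n54334
theorem D55819 : act 8 n54334 = n55819 := rfl
theorem F250123 : act 1 n55819 = n54337 := d15_1 D55819 (iv D54337) (iv F243198)
theorem F250124 : act 4 n55819 = n54335 := d33_1 D55819 (iv D54335) (iv F243199)
theorem F250125 : act 7 n55819 = n54345 := d42_1 D55819 (iv D54345) (iv F243200)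
theorem F250126 : act 9 n55819 = n54377 := d44_2 D54334 D55819 (iv D54377) (iv D52637) (iv F235270)
def n55820 : Q := act 8 n54336
theorem D55820 : act 8 n54336 = n55820 := rfl
theorem F250127 : act 4 n55820 = n54442 := d33_1 D55820 (iv D54442) (iv F243207)
theorem F250128 : act 7 n55820 = n54350 := d42_1 D55820 (iv D54350) (iv F243208)
def n55821 : Q := act 3 n54337
theorem D55821 : act 3 n54337 = n55821 := rfl
theorem F250129 : act 7 n55821 = n54354 := d27_2 (iv F243211) D55821 (iv D54354)
theorem F250130 : act 9 n55821 = n54380 := d29_2 (iv F243212) D55821 (iv D54380)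
def n55822 : Q := act 2 n54338
theorem D55822 : act 2 n54338 = n55822 := rfl
theorem F250131 : act 7 n55822 = n54358 := d21_2 (iv F243213) D55822 (iv D54358)
theorem F250132 : act 9 n55822 = n54385 := d23_2 (iv F243214) D55822 (iv D54385)
def n55823 : Q := act 8 n54339
theorem D55823 : act 8 n54339 = n55823 := rfl
theorem F250133 : act 0 n55823 = n54345 := d7_1 D55823 (iv D54345) (iv F243215)
theorem F250134 : act 4 n55823 = n54340 := d33_1 D55823 (iv D54340) (iv F243216)
theorem F250135 : act 9 n55823 = n54387 := d44_2 D54339 D55823 (iv D54387) (iv D52648) (iv F235288)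
def n55824 : Q := act 9 n54341
theorem D55824 : act 9 n54341 = n55824 := rfl
theorem F250136 : act 2 n55824 = n54343 := d23_1 D55824 (iv D54343) D54341
theorem F250137 : act 4 n55824 = n54443 := d34_1 D55824 (iv D54443) (iv F243220)
def n55825 : Q := act 9 n54342
theorem D55825 : act 9 n54342 = n55825 := rfl
theorem F250138 : act 1 n55825 = n54348 := d16_1 D55825 (iv D54348) (iv F243221)
theorem F250139 : act 3 n55825 = n54344 := d29_1 D55825 (iv D54344) (iv F243222)
theorem F250140 : act 4 n55825 = n55825 := d34_1 D55825 (iv D55825) F243223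
theorem F250141 : act 5 n55825 = n54343 := d38_1 D55825 (iv D54343) D54342
def n55826 : Q := act 8 n54343
theorem D55826 : act 8 n54343 = n55826 := rfl
theorem F250142 : act 1 n55826 = n54350 := d15_1 D55826 (iv D54350) (iv F243224)
theorem F250143 : act 4 n55826 = n54444 := d33_1 D55826 (iv D54444) (iv F243226)
def n55827 : Q := act 8 n54344
theorem D55827 : act 8 n54344 = n55827 := rfl
theorem F250144 : act 1 n55827 = n54353 := d15_1 D55827 (iv D54353) (iv F243227)
theorem F250145 : act 4 n55827 = n54362 := d33_1 D55827 (iv D54362) (iv F243228)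
theorem F250146 : act 5 n55827 = n54345 := d37_1 D55827 (iv D54345) (iv F243229)
theorem F250147 : act 9 n55827 = n54391 := d44_2 D54344 D55827 (iv D54391) (iv D52653) (iv F235296)
def n55828 : Q := act 3 n54345
theorem D55828 : act 3 n54345 = n55828 := rfl
theorem F250148 : act 1 n55828 = n54354 := d10_1 D55828 (iv D54354) (iv F243230)
theorem F250149 : act 9 n55828 = n54392 := d29_2 (iv F243232) D55828 (iv D54392)
def n55829 : Q := act 8 n54346
theorem D55829 : act 8 n54346 = n55829 := rfl
theorem F250150 : act 3 n55829 = n54393 := d28_1 D55829 (iv D54393) F235467 (iv F235310) (iv F243233)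
theorem F250151 : act 4 n55829 = n55829 := d33_1 D55829 (iv D55829) F243234
theorem F250152 : act 6 n55829 = n54347 := d40_1 D55829 (iv D54347) D54346
def n55830 : Q := act 9 n54346
theorem D55830 : act 9 n54346 = n55830 := rfl
theorem F250153 : act 3 n55830 = n54352 := d29_1 D55830 (iv D54352) (iv F243233)
theorem F250154 : act 4 n55830 = n55830 := d34_1 D55830 (iv D55830) F243234
theorem F250155 : act 6 n55830 = n54348 := d41_1 D55830 (iv D54348) D54346
def n55831 : Q := act 9 n54347
theorem D55831 : act 9 n54347 = n55831 := rfl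
theorem F250156 : act 3 n55831 = n54395 := d29_1 D55831 (iv D54395) (iv F243235)
theorem F250157 : act 4 n55831 = n55831 := d34_1 D55831 (iv D55831) F243236
theorem F250158 : act 5 n55831 = n54349 := d38_1 D55831 (iv D54349) (iv F243237)
def n55832 : Q := act 8 n54348
theorem D55832 : act 8 n54348 = n55832 := rfl
theorem F250159 : act 4 n55832 = n55832 := d33_1 D55832 (iv D55832) F243239
theorem F250160 : act 5 n55832 = n54350 := d37_1 D55832 (iv D54350) (iv F243240)
def n55833 : Q := act 8 n54349
theorem D55833 : act 8 n54349 = n55833 := rfl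
theorem F250161 : act 4 n55833 = n54445 := d33_1 D55833 (iv D54445) (iv F243242)
theorem F250162 : act 9 n55833 = n54350 := d44_2 D54349 D55833 (iv D54350) (iv D52604) D52603
def n55834 : Q := act 3 n54350
theorem D55834 : act 3 n54350 = n55834 := rfl
theorem F250163 : act 8 n55834 = n54354 := d28_2 D54350 D55834 (iv D54354) (iv D52607) (iv F235306)
def n55835 : Q := act 9 n54351
theorem D55835 : act 9 n54351 = n55835 := rfl
theorem F250164 : act 2 n55835 = n54355 := d23_1 D55835 (iv D54355) (iv F243244)
theorem F250165 : act 4 n55835 = n54364 := d34_1 D55835 (iv D54364) (iv F243245)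
theorem F250166 : act 7 n55835 = n54352 := d43_1 D55835 (iv D54352) D54351
def n55836 : Q := act 8 n54352
theorem D55836 : act 8 n54352 = n55836 := rfl
theorem F250167 : act 2 n55836 = n54356 := d22_1 D55836 (iv D54356) (iv F243247)
theorem F250168 : act 4 n55836 = n54365 := d33_1 D55836 (iv D54365) (iv F243248)
theorem F250169 : act 6 n55836 = n54353 := d40_1 D55836 (iv D54353) (iv F243249)
theorem F250170 : act 9 n55836 = n54400 := d44_2 D54352 D55836 (iv D54400) (iv D52662) (iv F235310)
def n55837 : Q := act 3 n54353
theorem D55837 : act 3 n54353 = n55837 := rfl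
theorem F250171 : act 5 n55837 = n54354 := d25_2 (iv F243252) D55837 (iv D54354)
theorem F250172 : act 9 n55837 = n54401 := d29_2 (iv F243253) D55837 (iv D54401)
def n55838 : Q := act 2 n54354
theorem D55838 : act 2 n54354 = n55838 := rfl
theorem F250173 : act 3 n55838 = n54358 := d17_2 D54354 D55838 (iv D54358) (iv D52611) (iv F235314)
theorem F250174 : act 9 n55838 = n54402 := d23_2 (iv F243254) D55838 (iv D54402)
def n55839 : Q := act 8 n54355
theorem D55839 : act 8 n54355 = n55839 := rfl
theorem F250175 : act 4 n55839 = n54367 := d33_1 D55839 (iv D54367) (iv F243255)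
theorem F250176 : act 7 n55839 = n54356 := d42_1 D55839 (iv D54356) (iv F243256)
theorem F250177 : act 9 n55839 = n54405 := d44_2 D54355 D55839 (iv D54405) (iv D52666) (iv F235318)
def n55840 : Q := act 3 n54356
theorem D55840 : act 3 n54356 = n55840 := rfl
theorem F250178 : act 6 n55840 = n54357 := d26_2 (iv F243258) D55840 (iv D54357)
theorem F250179 : act 9 n55840 = n54406 := d29_2 (iv F243259) D55840 (iv D54406)
def n55841 : Q := act 2 n54357
theorem D55841 : act 2 n54357 = n55841 := rfl
theorem F250180 : act 5 n55841 = n54358 := d19_2 (iv F243260) D55841 (iv D54358)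
theorem F250181 : act 9 n55841 = n54407 := d23_2 (iv F243261) D55841 (iv D54407)
def n55842 : Q := act 1 n54358
theorem D55842 : act 1 n54358 = n55842 := rfl
theorem F250182 : act 9 n55842 = n54408 := d16_2 (iv F243262) D55842 (iv D54408)
def n55843 : Q := act 3 n54360
theorem D55843 : act 3 n54360 = n55843 := rfl
theorem F250183 : act 1 n55843 = n54361 := d10_1 D55843 (iv D54361) (iv F243268)
theorem F250184 : act 4 n55843 = n54456 := d24_2 (iv F243270) D55843 (iv D54456) F235762 (iv F235336)
theorem F250185 : act 6 n55843 = n55843 := d26_2 F243271 D55843 (iv D55843)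
theorem F250186 : act 7 n55843 = n54363 := d27_2 (iv F243272) D55843 (iv D54363)
theorem F250187 : act 8 n55843 = n55843 := d28_2 D54360 D55843 (iv D55843) (iv D54360) F235331
theorem F250188 : act 9 n55843 = n54412 := d29_2 (iv F243273) D55843 (iv D54412)
def n55844 : Q := act 3 n54362
theorem D55844 : act 3 n54362 = n55844 := rfl
theorem F250189 : act 1 n55844 = n54366 := d10_1 D55844 (iv D54366) (iv F243278)
theorem F250190 : act 5 n55844 = n54363 := d25_2 (iv F243279) D55844 (iv D54363)
theorem F250191 : act 8 n55844 = n55844 := d28_2 D54362 D55844 (iv D55844) (iv D54362) F235349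
theorem F250192 : act 9 n55844 = n54419 := d29_2 (iv F243280) D55844 (iv D54419)
def n55845 : Q := act 2 n54363
theorem D55845 : act 2 n54363 = n55845 := rfl
theorem F250193 : act 4 n55845 = n54370 := d18_2 F244832 D55845 (iv F244831)
theorem F250194 : act 6 n55845 = n54368 := d20_2 (iv F243282) D55845 (iv D54368)
theorem F250195 : act 8 n55845 = n55845 := d22_2 F243283 D55845 (iv D55845)
theorem F250196 : act 9 n55845 = n54420 := d23_2 (iv F243284) D55845 (iv D54420)
def n55846 : Q := act 8 n54364
theorem D55846 : act 8 n54364 = n55846 := rfl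
theorem F250197 : act 2 n55846 = n54367 := d22_1 D55846 (iv D54367) (iv F243285)
theorem F250198 : act 5 n55846 = n54369 := d37_1 D55846 (iv D54369) (iv F243287)
theorem F250199 : act 7 n55846 = n54365 := d42_1 D55846 (iv D54365) (iv F243288)
theorem F250200 : act 9 n55846 = n54421 := d44_2 D54364 D55846 (iv D54421) (iv D52685) (iv F235358)
def n55847 : Q := act 3 n54365
theorem D55847 : act 3 n54365 = n55847 := rfl
theorem F250201 : act 5 n55847 = n54370 := d25_2 (iv F243290) D55847 (iv D54370)
theorem F250202 : act 6 n55847 = n54366 := d26_2 (iv F243291) D55847 (iv D54366)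
theorem F250203 : act 8 n55847 = n55847 := d28_2 D54365 D55847 (iv D55847) (iv D54365) F235360
theorem F250204 : act 9 n55847 = n54422 := d29_2 (iv F243292) D55847 (iv D54422)
def n55848 : Q := act 4 n54366
theorem D55848 : act 4 n54366 = n55848 := rfl
theorem F250205 : act 8 n55848 = n55848 := d33_2 F243294 D55848 (iv D55848)
theorem F250206 : act 9 n55848 = n54423 := d34_2 (iv F243295) D55848 (iv D54423)
def n55849 : Q := act 3 n54369
theorem D55849 : act 3 n54369 = n55849 := rfl
theorem F250207 : act 2 n55849 = n54456 := d17_1 D55849 (iv D54456) (iv F237234) F237235 (iv F243303)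
theorem F250208 : act 6 n55849 = n55849 := d26_2 F243304 D55849 (iv D55849)
theorem F250209 : act 7 n55849 = n54370 := d27_2 (iv F243305) D55849 (iv D54370)
theorem F250210 : act 8 n55849 = n55849 := d28_2 D54369 D55849 (iv D55849) (iv D54369) F235380
theorem F250211 : act 9 n55849 = n54427 := d29_2 (iv F243306) D55849 (iv D54427)
def n55850 : Q := act 8 n54371
theorem D55850 : act 8 n54371 = n55850 := rfl
theorem F250212 : act 2 n55850 = n54374 := d22_1 D55850 (iv D54374) (iv F243310)
theorem F250213 : act 4 n55850 = n55850 := d33_1 D55850 (iv D55850) F243311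
theorem F250214 : act 5 n55850 = n54372 := d37_1 D55850 (iv D54372) (iv F243312)
def n55851 : Q := act 3 n54372
theorem D55851 : act 3 n54372 = n55851 := rfl
theorem F250215 : act 6 n55851 = n54380 := d26_2 (iv F243315) D55851 (iv D54380)
def n55852 : Q := act 8 n54373
theorem D55852 : act 8 n54373 = n55852 := rfl
theorem F250216 : act 4 n55852 = n55852 := d33_1 D55852 (iv D55852) F243316
theorem F250217 : act 5 n55852 = n54383 := d37_1 D55852 (iv D54383) (iv F243317)
theorem F250218 : act 6 n55852 = n54374 := d40_1 D55852 (iv D54374) (iv F243318)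
def n55853 : Q := act 3 n54374
theorem D55853 : act 3 n54374 = n55853 := rfl
theorem F250219 : act 5 n55853 = n54375 := d25_2 (iv F243320) D55853 (iv D54375)
def n55854 : Q := act 2 n54375
theorem D55854 : act 2 n54375 = n55854 := rfl
theorem F250220 : act 6 n55854 = n54385 := d20_2 (iv F243321) D55854 (iv D54385)
def n55855 : Q := act 8 n54376
theorem D55855 : act 8 n54376 = n55855 := rfl
theorem F250221 : act 1 n55855 = n54379 := d15_1 D55855 (iv D54379) (iv F243322)
theorem F250222 : act 4 n55855 = n54411 := d33_1 D55855 (iv D54411) (iv F243324)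
theorem F250223 : act 5 n55855 = n54377 := d37_1 D55855 (iv D54377) (iv F243325)
theorem F250224 : act 7 n55855 = n54391 := d42_1 D55855 (iv D54391) (iv F243326)
def n55856 : Q := act 3 n54377
theorem D55856 : act 3 n54377 = n55856 := rfl
theorem F250225 : act 1 n55856 = n54380 := d10_1 D55856 (iv D54380) (iv F243327)
theorem F250226 : act 4 n55856 = n54398 := d24_2 (iv F243328) D55856 (iv D54398) F235475 (iv F235416)
theorem F250227 : act 7 n55856 = n54392 := d27_2 (iv F243329) D55856 (iv D54392)
theorem F250228 : act 8 n55856 = n54403 := d28_2 D54377 D55856 F243389 F235484 (iv F235412)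
def n55857 : Q := act 3 n54378
theorem D55857 : act 3 n54378 = n55857 := rfl
theorem F250229 : act 1 n55857 = n54403 := d10_1 D55857 F243389 (iv F243330)
theorem F250230 : act 4 n55857 = n54392 := d24_2 (iv F243331) D55857 (iv D54392) F235462 D52655
theorem F250231 : act 7 n55857 = n54398 := d27_2 (iv F243332) D55857 (iv D54398)
theorem F250232 : act 8 n55857 = n54380 := d28_2 D54378 D55857 (iv D54380) (iv D52641) (iv F235420)
def n55858 : Q := act 3 n54379
theorem D55858 : act 3 n54379 = n55858 := rfl
theorem F250233 : act 5 n55858 = n54380 := d25_2 (iv F243335) D55858 (iv D54380)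
theorem F250234 : act 7 n55858 = n54401 := d27_2 (iv F243336) D55858 (iv D54401)
def n55859 : Q := act 2 n54380
theorem D55859 : act 2 n54380 = n55859 := rfl
theorem F250235 : act 3 n55859 = n54385 := d17_2 D54380 D55859 (iv D54385) (iv D52646) (iv F235427)
theorem F250236 : act 7 n55859 = n54402 := d21_2 (iv F243337) D55859 (iv D54402)
def n55860 : Q := act 4 n54380
theorem D55860 : act 4 n54380 = n55860 := rfl
theorem F250237 : act 1 n55860 = n54398 := d11_1 D55860 (iv F250226) F250225
theorem F250238 : act 3 n55860 = n54381 := d24_1 D55860 (iv D54381) (iv D52642) (iv F235428) D54380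
theorem F250239 : act 7 n55860 = n54403 := d32_2 (iv F243337) D55860 (iv D54403)
theorem F250240 : act 8 n55860 = n54392 := d33_2 F250232 D55860 (iv F250230)
def n55861 : Q := act 5 n54381
theorem D55861 : act 5 n54381 = n55861 := rfl
theorem F250241 : act 1 n55861 = n54396 := d12_1 D55861 F243377 (iv F243338)
theorem F250242 : act 4 n55861 = n54415 := d30_1 D55861 (iv D54415) (iv D52677) (iv F235431) D54381
theorem F250243 : act 7 n55861 = n54404 := d36_2 (iv F243339) D55861 (iv D54404)
theorem F250244 : act 8 n55861 = n54389 := d37_2 (iv F243340) D55861 F243360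
def n55862 : Q := act 8 n54382
theorem D55862 : act 8 n54382 = n55862 := rfl
theorem F250245 : act 4 n55862 = n54416 := d33_1 D55862 (iv D54416) (iv F243341)
theorem F250246 : act 6 n55862 = n54405 := d40_1 D55862 (iv D54405) (iv F243342)
theorem F250247 : act 7 n55862 = n54383 := d42_1 D55862 (iv D54383) (iv F243343)
def n55863 : Q := act 3 n54383
theorem D55863 : act 3 n54383 = n55863 := rfl
theorem F250248 : act 6 n55863 = n54384 := d26_2 (iv F243345) D55863 (iv D54384)
def n55864 : Q := act 2 n54384
theorem D55864 : act 2 n54384 = n55864 := rfl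
theorem F250249 : act 5 n55864 = n54385 := d19_2 (iv F243346) D55864 (iv D54385)
theorem F250250 : act 7 n55864 = n54407 := d21_2 (iv F243347) D55864 (iv D54407)
def n55865 : Q := act 1 n54385
theorem D55865 : act 1 n54385 = n55865 := rfl
theorem F250251 : act 7 n55865 = n54408 := d14_2 (iv F243348) D55865 (iv D54408)
def n55866 : Q := act 8 n54386
theorem D55866 : act 8 n54386 = n55866 := rfl
theorem F250252 : act 0 n55866 = n54391 := d7_1 D55866 (iv D54391) (iv F243349)
theorem F250253 : act 4 n55866 = n54417 := d33_1 D55866 (iv D54417) (iv F243350)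
theorem F250254 : act 5 n55866 = n54387 := d37_1 D55866 (iv D54387) (iv F243351)
def n55867 : Q := act 3 n54387
theorem D55867 : act 3 n54387 = n55867 := rfl
theorem F250255 : act 0 n55867 = n54392 := d2_1 D55867 (iv D54392) (iv F243352)
def n55868 : Q := act 9 n54388
theorem D55868 : act 9 n54388 = n55868 := rfl
theorem F250256 : act 1 n55868 = n54394 := d16_1 D55868 (iv D54394) (iv F243354)
theorem F250257 : act 3 n55868 = n54390 := d29_1 D55868 (iv D54390) (iv F243355)
theorem F250258 : act 4 n55868 = n54428 := d34_1 D55868 F243460 (iv F243356)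
theorem F250259 : act 6 n55868 = n54389 := d41_1 D55868 (iv D54389) D54388
def n55869 : Q := act 8 n54390
theorem D55869 : act 8 n54390 = n55869 := rfl
theorem F250260 : act 1 n55869 = n54400 := d15_1 D55869 (iv D54400) (iv F243362)
theorem F250261 : act 4 n55869 = n54418 := d33_1 D55869 (iv D54418) (iv F243363)
theorem F250262 : act 6 n55869 = n54391 := d40_1 D55869 (iv D54391) (iv F243364)
def n55870 : Q := act 3 n54391
theorem D55870 : act 3 n54391 = n55870 := rfl
theorem F250263 : act 1 n55870 = n54401 := d10_1 D55870 (iv D54401) (iv F243365)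
theorem F250264 : act 5 n55870 = n54392 := d25_2 (iv F243367) D55870 (iv D54392)
def n55871 : Q := act 2 n54392
theorem D55871 : act 2 n54392 = n55871 := rfl
def n55872 : Q := act 9 n54393
theorem D55872 : act 9 n54393 = n55872 := rfl
theorem F250265 : act 4 n55872 = n54452 := d34_1 D55872 (iv D54452) (iv F243369)
theorem F250266 : act 6 n55872 = n54395 := d41_1 D55872 (iv D54395) (iv F243370)
def n55873 : Q := act 8 n54394
theorem D55873 : act 8 n54394 = n55873 := rfl
theorem F250267 : act 4 n55873 = n54453 := d33_1 D55873 (iv D54453) (iv F243372)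
theorem F250268 : act 6 n55873 = n54396 := d40_1 D55873 (iv D54396) (iv F243373)
def n55874 : Q := act 8 n54395
theorem D55874 : act 8 n54395 = n55874 := rfl
theorem F250269 : act 4 n55874 = n54454 := d33_1 D55874 (iv D54454) (iv F243374)
theorem F250270 : act 5 n55874 = n54397 := d37_1 D55874 (iv D54397) (iv F243375)
theorem F250271 : act 9 n55874 = n54396 := d44_2 D54395 D55874 (iv D54396) (iv D52658) D52657
def n55875 : Q := act 3 n54396
theorem D55875 : act 3 n54396 = n55875 := rfl
theorem F250272 : act 5 n55875 = n54398 := d25_2 (iv F243377) D55875 (iv D54398)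
theorem F250273 : act 8 n55875 = n54401 := d28_2 D54396 D55875 (iv D54401) (iv D52663) (iv F235471)
def n55876 : Q := act 3 n54397
theorem D55876 : act 3 n54397 = n55876 := rfl
theorem F250274 : act 9 n55876 = n54398 := d29_2 (iv F243379) D55876 (iv D54398)
def n55877 : Q := act 2 n54398
theorem D55877 : act 2 n54398 = n55877 := rfl
theorem F250275 : act 8 n55877 = n54402 := d22_2 (iv F243380) D55877 (iv D54402)
def n55878 : Q := act 8 n54399
theorem D55878 : act 8 n54399 = n55878 := rfl
theorem F250276 : act 2 n55878 = n54405 := d22_1 D55878 (iv D54405) (iv F243381)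
theorem F250277 : act 4 n55878 = n54421 := d33_1 D55878 (iv D54421) (iv F243382)
theorem F250278 : act 7 n55878 = n54400 := d42_1 D55878 (iv D54400) (iv F243383)
def n55879 : Q := act 3 n54400
theorem D55879 : act 3 n54400 = n55879 := rfl
theorem F250279 : act 6 n55879 = n54401 := d26_2 (iv F243386) D55879 (iv D54401)
def n55880 : Q := act 2 n54401
theorem D55880 : act 2 n54401 = n55880 := rfl
theorem F250280 : act 3 n55880 = n54407 := d17_2 D54401 D55880 (iv D54407) (iv D52668) (iv F235481)
theorem F250281 : act 5 n55880 = n54402 := d19_2 (iv F243387) D55880 (iv D54402)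
def n55881 : Q := act 4 n54401
theorem D55881 : act 4 n54401 = n55881 := rfl
theorem F250282 : act 3 n55881 = n54423 := d24_1 D55881 (iv D54423) (iv D52687) (iv F235482) D54401
def n55882 : Q := act 1 n54402
theorem D55882 : act 1 n54402 = n55882 := rfl
theorem F250283 : act 3 n55882 = n54408 := d10_2 (iv F243388) D55882 (iv D54408)
def n55883 : Q := act 4 n54402
theorem D55883 : act 4 n54402 = n55883 := rfl
theorem F250284 : act 2 n55883 = n54403 := d18_1 D55883 (iv D54403) D54402
def n55884 : Q := act 5 n54403
theorem D55884 : act 5 n54403 = n55884 := rfl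
theorem F250285 : act 3 n55884 = n54404 := d25_1 D55884 (iv D54404) (iv F243389)
def n55885 : Q := act 3 n54405
theorem D55885 : act 3 n54405 = n55885 := rfl
theorem F250286 : act 7 n55885 = n54406 := d27_2 (iv F243393) D55885 (iv D54406)
def n55886 : Q := act 2 n54406
theorem D55886 : act 2 n54406 = n55886 := rfl
theorem F250287 : act 6 n55886 = n54407 := d20_2 (iv F243394) D55886 (iv D54407)
def n55887 : Q := act 1 n54407
theorem D55887 : act 1 n54407 = n55887 := rfl
theorem F250288 : act 5 n55887 = n54408 := d12_2 (iv F243395) D55887 (iv D54408)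
def n55888 : Q := act 0 n54408
theorem D55888 : act 0 n54408 = n55888 := rfl
def n55889 : Q := act 8 n54409
theorem D55889 : act 8 n54409 = n55889 := rfl
theorem F250289 : act 0 n55889 = n54411 := d7_1 D55889 (iv D54411) (iv F243396)
theorem F250290 : act 5 n55889 = n54410 := d37_1 D55889 (iv D54410) (iv F243398)
theorem F250291 : act 7 n55889 = n54417 := d42_1 D55889 (iv D54417) (iv F243399)
def n55890 : Q := act 3 n54411
theorem D55890 : act 3 n54411 = n55890 := rfl
theorem F250292 : act 1 n55890 = n54413 := d10_1 D55890 (iv D54413) (iv F243404)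
theorem F250293 : act 5 n55890 = n54412 := d25_2 (iv F243405) D55890 (iv D54412)
theorem F250294 : act 7 n55890 = n54419 := d27_2 (iv F243406) D55890 (iv D54419)
theorem F250295 : act 8 n55890 = n54462 := d28_2 D54411 D55890 F243581 F235787 (iv F235503)
def n55891 : Q := act 2 n54412
theorem D55891 : act 2 n54412 = n55891 := rfl
theorem F250296 : act 4 n55891 = n54427 := d18_2 (iv F243408) D55891 F243453
theorem F250297 : act 6 n55891 = n55891 := d20_2 F243409 D55891 (iv D55891)
theorem F250298 : act 7 n55891 = n54420 := d21_2 (iv F243410) D55891 (iv D54420)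
theorem F250299 : act 8 n55891 = n54461 := d22_2 (iv F243411) D55891 F243575
def n55892 : Q := act 4 n54413
theorem D55892 : act 4 n54413 = n55892 := rfl
theorem F250300 : act 7 n55892 = n54423 := d32_2 (iv F243413) D55892 (iv D54423)
theorem F250301 : act 8 n55892 = n54463 := d33_2 (iv F243414) D55892 (iv D54463)
def n55893 : Q := act 5 n54414
theorem D55893 : act 5 n54414 = n55893 := rfl
theorem F250302 : act 1 n55893 = n54455 := d12_1 D55893 F243556 (iv F243415)
theorem F250303 : act 3 n55893 = n54415 := d25_1 D55893 (iv D54415) (iv F243416)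
theorem F250304 : act 7 n55893 = n54424 := d36_2 (iv F243418) D55893 (iv D54424)
theorem F250305 : act 8 n55893 = n54451 := d37_2 (iv F243419) D55893 F243546
def n55894 : Q := act 6 n54415
theorem D55894 : act 6 n54415 = n55894 := rfl
theorem F250306 : act 1 n55894 = n54453 := d13_1 D55894 F243553 (iv F243420)
theorem F250307 : act 5 n55894 = n55894 := d35_1 D55894 (iv D55894) (iv D54415) F235517 D54415
theorem F250308 : act 8 n55894 = n54428 := d40_2 (iv F243422) D55894 (iv D54428)
def n55895 : Q := act 3 n54418
theorem D55895 : act 3 n54418 = n55895 := rfl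
theorem F250309 : act 1 n55895 = n54422 := d10_1 D55895 (iv D54422) (iv F243428)
theorem F250310 : act 5 n55895 = n54426 := d25_2 (iv F243429) D55895 (iv D54426)
theorem F250311 : act 6 n55895 = n54419 := d26_2 (iv F243430) D55895 (iv D54419)
theorem F250312 : act 8 n55895 = n54464 := d28_2 D54418 D55895 (iv D54464) (iv D52758) (iv F235533)
def n55896 : Q := act 2 n54419
theorem D55896 : act 2 n54419 = n55896 := rfl
theorem F250313 : act 5 n55896 = n54420 := d19_2 (iv F243432) D55896 (iv D54420)
theorem F250314 : act 8 n55896 = n54465 := d22_2 (iv F243433) D55896 (iv D54465)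
def n55897 : Q := act 4 n54419
theorem D55897 : act 4 n54419 = n55897 := rfl
theorem F250315 : act 1 n55897 = n54423 := d11_1 D55897 (iv D54423) (iv F243431)
theorem F250316 : act 8 n55897 = n54466 := d33_2 (iv F243433) D55897 (iv D54466)
def n55898 : Q := act 3 n54421
theorem D55898 : act 3 n54421 = n55898 := rfl
theorem F250317 : act 2 n55898 = n54455 := d17_1 D55898 (iv D54455) (iv F237295) F237296 (iv F243437)
theorem F250318 : act 5 n55898 = n54427 := d25_2 (iv F243438) D55898 (iv D54427)
theorem F250319 : act 7 n55898 = n54422 := d27_2 (iv F243439) D55898 (iv D54422)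
theorem F250320 : act 8 n55898 = n54458 := d28_2 D54421 D55898 F243564 F235791 (iv F235542)
def n55899 : Q := act 4 n54422
theorem D55899 : act 4 n54422 = n55899 := rfl
theorem F250321 : act 6 n55899 = n54423 := d31_2 (iv F243441) D55899 (iv D54423)
theorem F250322 : act 8 n55899 = n54467 := d33_2 (iv F243442) D55899 (iv D54467)
def n55900 : Q := act 5 n54423
theorem D55900 : act 5 n54423 = n55900 := rfl
theorem F250323 : act 4 n55900 = n54424 := d30_1 D55900 (iv D54424) (iv D52688) (iv F235548) D54423
theorem F250324 : act 8 n55900 = n54468 := d37_2 (iv F243443) D55900 (iv D54468)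
def n55901 : Q := act 3 n54425
theorem D55901 : act 3 n54425 = n55901 := rfl
theorem F250325 : act 0 n55901 = n54470 := d2_1 D55901 (iv D54470) (iv F243446)
theorem F250326 : act 1 n55901 = n54427 := d10_1 D55901 (iv D54427) (iv F243447)
theorem F250327 : act 6 n55901 = n55901 := d26_2 F243448 D55901 (iv D55901)
theorem F250328 : act 7 n55901 = n54426 := d27_2 (iv F243449) D55901 (iv D54426)
theorem F250329 : act 8 n55901 = n54460 := d28_2 D54425 D55901 F243571 F235798 (iv F235558)
def n55902 : Q := act 4 n54429
theorem D55902 : act 4 n54429 = n55902 := rfl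
theorem F250330 : act 0 n55902 = n54441 := d3_1 D55902 (iv D54441) (iv F243461)
theorem F250331 : act 9 n55902 = n55902 := d34_2 F243463 D55902 (iv D55902)
def n55903 : Q := act 8 n54430
theorem D55903 : act 8 n54430 = n55903 := rfl
theorem F250332 : act 0 n55903 = n54450 := d7_1 D55903 (iv D54450) (iv F243464)
theorem F250333 : act 1 n55903 = n54433 := d15_1 D55903 (iv D54433) (iv F243465)
theorem F250334 : act 2 n55903 = n55903 := d22_1 D55903 (iv D55903) F243466
theorem F250335 : act 4 n55903 = n54431 := d33_1 D55903 (iv D54431) (iv F243467)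
theorem F250336 : act 5 n55903 = n55903 := d37_1 D55903 (iv D55903) F243468
theorem F250337 : act 6 n55903 = n54449 := d40_1 D55903 F243537 (iv F243469)
theorem F250338 : act 7 n55903 = n54436 := d42_1 D55903 (iv D54436) (iv F243470)
theorem F250339 : act 9 n55903 = n55903 := d44_2 D54430 D55903 (iv D55903) (iv D54430) F235593
def n55904 : Q := act 8 n54432
theorem D55904 : act 8 n54432 = n55904 := rfl
theorem F250340 : act 2 n55904 = n54442 := d22_1 D55904 (iv D54442) (iv F243478)
theorem F250341 : act 5 n55904 = n55904 := d37_1 D55904 (iv D55904) F243480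
theorem F250342 : act 7 n55904 = n54439 := d42_1 D55904 (iv D54439) (iv F243481)
def n55905 : Q := act 3 n54433
theorem D55905 : act 3 n54433 = n55905 := rfl
theorem F250343 : act 5 n55905 = n55905 := d25_2 F243484 D55905 (iv D55905)
theorem F250344 : act 7 n55905 = n54440 := d27_2 (iv F243485) D55905 (iv D54440)
theorem F250345 : act 9 n55905 = n55905 := d29_2 F243486 D55905 (iv D55905)
def n55906 : Q := act 3 n54434
theorem D55906 : act 3 n54434 = n55906 := rfl
theorem F250346 : act 0 n55906 = n54437 := d2_1 D55906 (iv D54437) (iv F243487)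
theorem F250347 : act 1 n55906 = n54458 := d10_1 D55906 F243564 (iv F243488)
theorem F250348 : act 5 n55906 = n54460 := d25_2 (iv F243490) D55906 F243571
theorem F250349 : act 7 n55906 = n54464 := d27_2 (iv F243491) D55906 (iv D54464)
theorem F250350 : act 9 n55906 = n55906 := d29_2 F243492 D55906 (iv D55906)
def n55907 : Q := act 8 n54435
theorem D55907 : act 8 n54435 = n55907 := rfl
theorem F250351 : act 1 n55907 = n54439 := d15_1 D55907 (iv D54439) (iv F243493)
theorem F250352 : act 5 n55907 = n55907 := d37_1 D55907 (iv D55907) F243495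
def n55908 : Q := act 3 n54436
theorem D55908 : act 3 n54436 = n55908 := rfl
theorem F250353 : act 1 n55908 = n54440 := d10_1 D55908 (iv D54440) (iv F243496)
theorem F250354 : act 5 n55908 = n55908 := d25_2 F243499 D55908 (iv D55908)
theorem F250355 : act 9 n55908 = n55908 := d29_2 F243500 D55908 (iv D55908)
def n55909 : Q := act 2 n54437
theorem D55909 : act 2 n54437 = n55909 := rfl
theorem F250356 : act 3 n55909 = n55909 := d17_2 D54437 D55909 (iv D55909) (iv D54437) F235628
theorem F250357 : act 5 n55909 = n54471 := d19_2 (iv F243502) D55909 (iv D54471)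
theorem F250358 : act 9 n55909 = n55909 := d23_2 F243503 D55909 (iv D55909)
def n55910 : Q := act 4 n54437
theorem D55910 : act 4 n54437 = n55910 := rfl
theorem F250359 : act 1 n55910 = n54441 := d11_1 D55910 (iv D54441) (iv F243501)
theorem F250360 : act 9 n55910 = n55910 := d34_2 F243503 D55910 (iv D55910)
def n55911 : Q := act 8 n54438
theorem D55911 : act 8 n54438 = n55911 := rfl
theorem F250361 : act 2 n55911 = n54445 := d22_1 D55911 (iv D54445) (iv F243504)
theorem F250362 : act 5 n55911 = n55911 := d37_1 D55911 (iv D55911) F243506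
theorem F250363 : act 9 n55911 = n54439 := d44_2 D54438 D55911 (iv D54439) (iv D52712) D52711
def n55912 : Q := act 3 n54439
theorem D55912 : act 3 n54439 = n55912 := rfl
theorem F250364 : act 5 n55912 = n55912 := d25_2 F243508 D55912 (iv D55912)
theorem F250365 : act 8 n55912 = n54440 := d28_2 D54439 D55912 (iv D54440) (iv D52713) (iv F235635)
def n55913 : Q := act 4 n54440
theorem D55913 : act 4 n54440 = n55913 := rfl
theorem F250366 : act 3 n55913 = n54441 := d24_1 D55913 (iv D54441) (iv D52714) (iv F235638) D54440
theorem F250367 : act 9 n55913 = n55913 := d34_2 F243510 D55913 (iv D55913)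
def n55914 : Q := act 8 n54443
theorem D55914 : act 8 n54443 = n55914 := rfl
theorem F250368 : act 2 n55914 = n54444 := d22_1 D55914 (iv D54444) (iv F243514)
theorem F250369 : act 5 n55914 = n55914 := d37_1 D55914 (iv D55914) F243516
def n55915 : Q := act 3 n54450
theorem D55915 : act 3 n54450 = n55915 := rfl
theorem F250370 : act 1 n55915 = n54457 := d10_1 D55915 (iv D54457) (iv F243539)
theorem F250371 : act 5 n55915 = n55915 := d25_2 F243542 D55915 (iv D55915)
theorem F250372 : act 6 n55915 = n54451 := d26_2 (iv F243543) D55915 (iv D54451)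
theorem F250373 : act 9 n55915 = n55915 := d29_2 F243544 D55915 (iv D55915)
def n55916 : Q := act 4 n54451
theorem D55916 : act 4 n54451 = n55916 := rfl
theorem F250374 : act 1 n55916 = n54459 := d11_1 D55916 (iv D54459) (iv F243545)
theorem F250375 : act 3 n55916 = n54466 := d24_1 D55916 (iv D54466) (iv D52759) (iv F235744) D54451
theorem F250376 : act 5 n55916 = n54463 := d30_2 (iv F243546) D55916 (iv D54463) F235800 (iv F235749)
theorem F250377 : act 7 n55916 = n54468 := d32_2 (iv F243547) D55916 F243597
theorem F250378 : act 9 n55916 = n55916 := d34_2 F243548 D55916 (iv D55916)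
def n55917 : Q := act 8 n54452
theorem D55917 : act 8 n54452 = n55917 := rfl
theorem F250379 : act 5 n55917 = n55917 := d37_1 D55917 (iv D55917) F243550
theorem F250380 : act 6 n55917 = n54454 := d40_1 D55917 (iv D54454) (iv F243551)
theorem F250381 : act 9 n55917 = n54453 := d44_2 D54452 D55917 (iv D54453) (iv D52744) D52743
def n55918 : Q := act 3 n54453
theorem D55918 : act 3 n54453 = n55918 := rfl
theorem F250382 : act 5 n55918 = n55918 := d25_2 F243552 D55918 (iv D55918)
theorem F250383 : act 6 n55918 = n54455 := d26_2 (iv F243553) D55918 (iv D54455)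
theorem F250384 : act 8 n55918 = n54457 := d28_2 D54453 D55918 (iv D54457) (iv D52749) (iv F235756)
def n55919 : Q := act 3 n54454
theorem D55919 : act 3 n54454 = n55919 := rfl
theorem F250385 : act 5 n55919 = n54456 := d25_2 (iv F243554) D55919 (iv D54456)
theorem F250386 : act 8 n55919 = n55919 := d28_2 D54454 D55919 (iv D55919) (iv D54454) F235759
theorem F250387 : act 9 n55919 = n54455 := d29_2 (iv F243555) D55919 (iv D54455)
def n55920 : Q := act 4 n54455
theorem D55920 : act 4 n54455 = n55920 := rfl
theorem F250388 : act 8 n55920 = n54459 := d33_2 (iv F243557) D55920 (iv D54459)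
def n55921 : Q := act 4 n54457
theorem D55921 : act 4 n54457 = n55921 := rfl
theorem F250389 : act 3 n55921 = n54467 := d24_1 D55921 (iv D54467) (iv D52761) (iv F235768) D54457
theorem F250390 : act 6 n55921 = n54459 := d31_2 (iv F243562) D55921 (iv D54459)
theorem F250391 : act 9 n55921 = n55921 := d34_2 F243563 D55921 (iv D55921)
def n55922 : Q := act 4 n54458
theorem D55922 : act 4 n54458 = n55922 := rfl
theorem F250392 : act 2 n55922 = n54459 := d18_1 D55922 (iv D54459) D54458
theorem F250393 : act 7 n55922 = n54467 := d32_2 (iv F243566) D55922 (iv D54467)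
theorem F250394 : act 9 n55922 = n55922 := d34_2 F243567 D55922 (iv D55922)
def n55923 : Q := act 5 n54459
theorem D55923 : act 5 n54459 = n55923 := rfl
theorem F250395 : act 1 n55923 = n54463 := d12_1 D55923 (iv F250376) F250374
theorem F250396 : act 3 n55923 = n54468 := d25_1 D55923 (iv D54468) (iv F243568)
theorem F250397 : act 4 n55923 = n54462 := d30_1 D55923 (iv D54462) (iv D52752) (iv F235772) D54459
theorem F250398 : act 7 n55923 = n54466 := d36_2 F244977 D55923 (iv F244975)
theorem F250399 : act 9 n55923 = n55923 := d38_2 F243569 D55923 (iv D55923)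
def n55924 : Q := act 5 n54461
theorem D55924 : act 5 n54461 = n55924 := rfl
theorem F250400 : act 2 n55924 = n54462 := d19_1 D55924 (iv D54462) (iv F243575)
theorem F250401 : act 3 n55924 = n55924 := d25_1 D55924 (iv D55924) F243576
theorem F250402 : act 7 n55924 = n54465 := d36_2 (iv F243578) D55924 F243591
theorem F250403 : act 9 n55924 = n55924 := d38_2 F243579 D55924 (iv D55924)
def n55925 : Q := act 4 n54464
theorem D55925 : act 4 n54464 = n55925 := rfl
theorem F250404 : act 1 n55925 = n54467 := d11_1 D55925 (iv D54467) (iv F243586)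
theorem F250405 : act 6 n55925 = n54466 := d31_2 (iv F243588) D55925 (iv D54466)
theorem F250406 : act 9 n55925 = n55925 := d34_2 F243589 D55925 (iv D55925)
def n55926 : Q := act 4 n54465
theorem D55926 : act 4 n54465 = n55926 := rfl
theorem F250407 : act 2 n55926 = n54466 := d18_1 D55926 (iv D54466) D54465
theorem F250408 : act 5 n55926 = n54467 := d30_2 (iv F243591) D55926 (iv D54467) F235819 (iv F235816)
theorem F250409 : act 9 n55926 = n55926 := d34_2 F243592 D55926 (iv D55926)
def n55927 : Q := act 2 n54470
theorem D55927 : act 2 n54470 = n55927 := rfl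
theorem F250410 : act 6 n55927 = n55927 := d20_2 F243603 D55927 (iv D55927)
theorem F250411 : act 8 n55927 = n54471 := d22_2 (iv F243604) D55927 (iv D54471)
def n55928 : Q := act 3 n54473
theorem D55928 : act 3 n54473 = n55928 := rfl
theorem F250412 : act 0 n55928 = n54848 := d2_1 D55928 (iv D54848) (iv F243617)
theorem F250413 : act 1 n55928 = n54823 := d10_1 D55928 (iv D54823) (iv F243618)
theorem F250414 : act 2 n55928 = n55656 := d17_1 D55928 F249700 F242602 (iv F238544) (iv F243619)
theorem F250415 : act 4 n55928 = n54478 := d24_2 (iv F243620) D55928 (iv D54478) F236007 (iv F235937)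
theorem F250416 : act 5 n55928 = n54835 := d25_2 (iv F243621) D55928 (iv D54835)
theorem F250417 : act 6 n55928 = n54854 := d26_2 (iv F243622) D55928 (iv D54854)
theorem F250418 : act 7 n55928 = n54488 := d27_2 (iv F243623) D55928 (iv D54488)
theorem F250419 : act 8 n55928 = n55928 := d28_2 D54473 D55928 (iv D55928) (iv D54473) F235929
theorem F250420 : act 9 n55928 = n54476 := d29_2 (iv F243624) D55928 (iv D54476)
def n55929 : Q := act 2 n54476
theorem D55929 : act 2 n54476 = n55929 := rfl
theorem F250421 : act 0 n55929 = n54853 := d1_1 D55929 F245992 (iv F243643)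
theorem F250422 : act 1 n55929 = n55657 := d9_1 D55929 F249703 F245834 (iv D54827) (iv F243644)
theorem F250423 : act 3 n55929 = n55655 := d17_2 D54476 D55929 F249696 F243642 F243636
theorem F250424 : act 4 n55929 = n54481 := d18_2 (iv F243645) D55929 (iv D54481)
theorem F250425 : act 5 n55929 = n54840 := d19_2 (iv F243646) D55929 (iv D54840)
theorem F250426 : act 6 n55929 = n55654 := d20_2 (iv F243647) D55929 F249693
theorem F250427 : act 7 n55929 = n54509 := d21_2 (iv F243648) D55929 (iv D54509)
theorem F250428 : act 8 n55929 = n54477 := d22_2 (iv F243649) D55929 (iv D54477)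
theorem F250429 : act 9 n55929 = n55656 := d23_2 F250420 D55929 (iv F250414)
def n55930 : Q := act 1 n54481
theorem D55930 : act 1 n54481 = n55930 := rfl
theorem F250430 : act 0 n55930 = n54837 := d0_1 D55930 F245900 F238419 (iv F238530) (iv F243684)
theorem F250431 : act 2 n55930 = n54857 := d9_2 D54481 D55930 F246009 (iv D53218) (iv F236028)
theorem F250432 : act 3 n55930 = n54836 := d10_2 (iv F243685) D55930 F245893
theorem F250433 : act 4 n55930 = n55657 := d11_2 F250424 D55930 (iv F250422)
theorem F250434 : act 5 n55930 = n54825 := d12_2 (iv F243686) D55930 F245813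
theorem F250435 : act 6 n55930 = n54846 := d13_2 (iv F243687) D55930 F245956
theorem F250436 : act 7 n55930 = n54539 := d14_2 (iv F243688) D55930 (iv D54539)
theorem F250437 : act 8 n55930 = n54482 := d15_2 (iv F243689) D55930 (iv D54482)
theorem F250438 : act 9 n55930 = n54851 := d16_2 (iv F243690) D55930 F245980
def n55931 : Q := act 9 n54483
theorem D55931 : act 9 n54483 = n55931 := rfl
theorem F250439 : act 0 n55931 = n55044 := d8_1 D55931 (iv D55044) (iv F243699)
theorem F250440 : act 1 n55931 = n54902 := d16_1 D55931 (iv D54902) (iv F243700)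
theorem F250441 : act 2 n55931 = n55086 := d23_1 D55931 (iv D55086) (iv F243701)
theorem F250442 : act 3 n55931 = n55508 := d29_1 D55931 (iv D55508) (iv F243702)
theorem F250443 : act 4 n55931 = n54486 := d34_1 D55931 (iv D54486) (iv F243703)
theorem F250444 : act 5 n55931 = n54484 := d38_1 D55931 (iv D54484) D54483
theorem F250445 : act 6 n55931 = n54969 := d41_1 D55931 (iv D54969) (iv F243704)
theorem F250446 : act 7 n55931 = n55082 := d43_1 D55931 (iv D55082) (iv F243705)
def n55932 : Q := act 8 n54484
theorem D55932 : act 8 n54484 = n55932 := rfl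
theorem F250447 : act 0 n55932 = n55461 := d7_1 D55932 (iv D55461) (iv F243707)
theorem F250448 : act 1 n55932 = n54903 := d15_1 D55932 (iv D54903) (iv F243708)
theorem F250449 : act 2 n55932 = n55734 := d22_1 D55932 (iv D55734) (iv F243709)
theorem F250450 : act 4 n55932 = n54485 := d33_1 D55932 (iv D54485) (iv F243711)
theorem F250451 : act 6 n55932 = n55455 := d40_1 D55932 (iv D55455) (iv F243712)
theorem F250452 : act 7 n55932 = n55729 := d42_1 D55932 (iv D55729) (iv F243713)
theorem F250453 : act 9 n55932 = n54496 := d44_2 D54484 D55932 (iv D54496) (iv D52807) (iv F236052)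
def n55933 : Q := act 8 n54486
theorem D55933 : act 8 n54486 = n55933 := rfl
theorem F250454 : act 0 n55933 = n55054 := d7_1 D55933 (iv D55054) (iv F243722)
theorem F250455 : act 1 n55933 = n54907 := d15_1 D55933 (iv D54907) (iv F243723)
theorem F250456 : act 2 n55933 = n55101 := d22_1 D55933 (iv D55101) (iv F243724)
theorem F250457 : act 5 n55933 = n54487 := d37_1 D55933 (iv D54487) (iv F243726)
theorem F250458 : act 6 n55933 = n54976 := d40_1 D55933 (iv D54976) (iv F243727)
theorem F250459 : act 7 n55933 = n55096 := d42_1 D55933 (iv D55096) (iv F243728)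
theorem F250460 : act 9 n55933 = n54505 := d44_2 D54486 D55933 (iv D54505) (iv D52818) (iv F236066)
def n55934 : Q := act 3 n54487
theorem D55934 : act 3 n54487 = n55934 := rfl
theorem F250461 : act 0 n55934 = n55058 := d2_1 D55934 (iv D55058) (iv F243729)
theorem F250462 : act 1 n55934 = n54908 := d10_1 D55934 (iv D54908) (iv F243730)
theorem F250463 : act 2 n55934 = n55684 := d17_1 D55934 F249790 F242743 (iv F239865) (iv F243731)
theorem F250464 : act 4 n55934 = n54523 := d24_2 (iv F243732) D55934 (iv D54523) F236411 (iv F236077)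
theorem F250465 : act 6 n55934 = n54488 := d26_2 (iv F243733) D55934 (iv D54488)
theorem F250466 : act 7 n55934 = n55107 := d27_2 (iv F243734) D55934 (iv D55107)
theorem F250467 : act 8 n55934 = n55934 := d28_2 D54487 D55934 (iv D55934) (iv D54487) F236070
theorem F250468 : act 9 n55934 = n54506 := d29_2 (iv F243735) D55934 (iv D54506)
def n55935 : Q := act 9 n54489
theorem D55935 : act 9 n54489 = n55935 := rfl
theorem F250469 : act 0 n55935 = n55086 := d8_1 D55935 (iv D55086) (iv F243743)
theorem F250470 : act 1 n55935 = n54880 := d16_1 D55935 (iv D54880) (iv F243744)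
theorem F250471 : act 2 n55935 = n55044 := d23_1 D55935 (iv D55044) (iv F243745)
theorem F250472 : act 3 n55935 = n54579 := d29_1 D55935 (iv D54579) (iv F243746)
theorem F250473 : act 4 n55935 = n54497 := d34_1 D55935 (iv D54497) (iv F243747)
theorem F250474 : act 5 n55935 = n54490 := d38_1 D55935 (iv D54490) D54489
theorem F250475 : act 6 n55935 = n55041 := d41_1 D55935 (iv D55041) (iv F243748)
theorem F250476 : act 7 n55935 = n54495 := d43_1 D55935 (iv D54495) (iv F243749)
def n55936 : Q := act 8 n54490
theorem D55936 : act 8 n54490 = n55936 := rfl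
theorem F250477 : act 0 n55936 = n55734 := d7_1 D55936 (iv D55734) (iv F243751)
theorem F250478 : act 1 n55936 = n54916 := d15_1 D55936 (iv D54916) (iv F243752)
theorem F250479 : act 2 n55936 = n55461 := d22_1 D55936 (iv D55461) (iv F243753)
theorem F250480 : act 4 n55936 = n54491 := d33_1 D55936 (iv D54491) (iv F243755)
theorem F250481 : act 6 n55936 = n55462 := d40_1 D55936 (iv D55462) (iv F243756)
theorem F250482 : act 7 n55936 = n54496 := d42_1 D55936 (iv D54496) (iv F243757)
theorem F250483 : act 9 n55936 = n55729 := d44_2 D54490 D55936 (iv D55729) (iv D54218) (iv F236093)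
def n55937 : Q := act 9 n54492
theorem D55937 : act 9 n54492 = n55937 := rfl
theorem F250484 : act 0 n55937 = n55082 := d8_1 D55937 (iv D55082) (iv F243766)
theorem F250485 : act 1 n55937 = n55059 := d16_1 D55937 (iv D55059) (iv F243767)
theorem F250486 : act 2 n55937 = n54495 := d23_1 D55937 (iv D54495) (iv F243768)
theorem F250487 : act 3 n55937 = n54733 := d29_1 D55937 (iv D54733) (iv F243769)
theorem F250488 : act 4 n55937 = n54503 := d34_1 D55937 (iv D54503) (iv F243770)
theorem F250489 : act 5 n55937 = n54493 := d38_1 D55937 (iv D54493) D54492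
theorem F250490 : act 6 n55937 = n54991 := d41_1 D55937 (iv D54991) (iv F243771)
theorem F250491 : act 7 n55937 = n55044 := d43_1 D55937 (iv D55044) (iv F243772)
def n55938 : Q := act 8 n54493
theorem D55938 : act 8 n54493 = n55938 := rfl
theorem F250492 : act 0 n55938 = n55729 := d7_1 D55938 (iv D55729) (iv F243774)
theorem F250493 : act 1 n55938 = n55060 := d15_1 D55938 (iv D55060) (iv F243775)
theorem F250494 : act 2 n55938 = n54496 := d22_1 D55938 (iv D54496) (iv F243776)
theorem F250495 : act 4 n55938 = n54494 := d33_1 D55938 (iv D54494) (iv F243778)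
theorem F250496 : act 6 n55938 = n54526 := d40_1 D55938 (iv D54526) (iv F243779)
theorem F250497 : act 7 n55938 = n55461 := d42_1 D55938 (iv D55461) (iv F243780)
theorem F250498 : act 9 n55938 = n55734 := d44_2 D54493 D55938 (iv D55734) (iv D54222) (iv F236107)
def n55939 : Q := act 8 n54495
theorem D55939 : act 8 n54495 = n55939 := rfl
theorem F250499 : act 0 n55939 = n55087 := d7_1 D55939 (iv D55087) (iv F243789)
theorem F250500 : act 1 n55939 = n54923 := d15_1 D55939 (iv D54923) (iv F243790)
theorem F250501 : act 4 n55939 = n54505 := d33_1 D55939 (iv D54505) (iv F243792)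
theorem F250502 : act 5 n55939 = n54496 := d37_1 D55939 (iv D54496) (iv F243793)
theorem F250503 : act 6 n55939 = n54994 := d40_1 D55939 (iv D54994) (iv F243794)
def n55940 : Q := act 3 n54496
theorem D55940 : act 3 n54496 = n55940 := rfl
theorem F250504 : act 0 n55940 = n55735 := d2_1 D55940 (iv D55735) (iv F243795)
theorem F250505 : act 1 n55940 = n54924 := d10_1 D55940 (iv D54924) (iv F243796)
theorem F250506 : act 4 n55940 = n54531 := d24_2 (iv F243797) D55940 (iv D54531) F236476 (iv F236127)
theorem F250507 : act 6 n55940 = n55456 := d26_2 (iv F243798) D55940 (iv D55456)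
theorem F250508 : act 8 n55940 = n54591 := d28_2 D54496 D55940 (iv D54591) (iv D52914) (iv F236122)
def n55941 : Q := act 8 n54497
theorem D55941 : act 8 n54497 = n55941 := rfl
theorem F250509 : act 0 n55941 = n55101 := d7_1 D55941 (iv D55101) (iv F243799)
theorem F250510 : act 1 n55941 = n54881 := d15_1 D55941 (iv D54881) (iv F243800)
theorem F250511 : act 2 n55941 = n55054 := d22_1 D55941 (iv D55054) (iv F243801)
theorem F250512 : act 3 n55941 = n55701 := d28_1 D55941 F249839 F242812 F236237 (iv F243802)
theorem F250513 : act 5 n55941 = n54498 := d37_1 D55941 (iv D54498) (iv F243803)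
theorem F250514 : act 6 n55941 = n55051 := d40_1 D55941 (iv D55051) (iv F243804)
theorem F250515 : act 7 n55941 = n54505 := d42_1 D55941 (iv D54505) (iv F243805)
theorem F250516 : act 9 n55941 = n55096 := d44_2 D54497 D55941 (iv D55096) (iv D53482) (iv F236136)
def n55942 : Q := act 8 n54499
theorem D55942 : act 8 n54499 = n55942 := rfl
theorem F250517 : act 0 n55942 = n54502 := d7_1 D55942 (iv D54502) (iv F243814)
theorem F250518 : act 1 n55942 = n54870 := d15_1 D55942 (iv D54870) (iv F243815)
theorem F250519 : act 2 n55942 = n54537 := d22_1 D55942 (iv D54537) (iv F243816)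
theorem F250520 : act 3 n55942 = n54930 := d28_1 D55942 (iv D54930) F238994 (iv F236265) (iv F243817)
theorem F250521 : act 4 n55942 = n54904 := d33_1 D55942 (iv D54904) (iv F243818)
theorem F250522 : act 5 n55942 = n54982 := d37_1 D55942 (iv D54982) (iv F243819)
theorem F250523 : act 6 n55942 = n54507 := d40_1 D55942 (iv D54507) (iv F243820)
theorem F250524 : act 7 n55942 = n54536 := d42_1 D55942 (iv D54536) (iv F243821)
theorem F250525 : act 9 n55942 = n54862 := d44_2 D54499 D55942 (iv D54862) (iv D53226) (iv F236157)
def n55943 : Q := act 9 n54500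
theorem D55943 : act 9 n54500 = n55943 := rfl
theorem F250526 : act 0 n55943 = n54897 := d8_1 D55943 (iv D54897) (iv F243822)
theorem F250527 : act 1 n55943 = n54503 := d16_1 D55943 (iv D54503) (iv F243823)
theorem F250528 : act 2 n55943 = n54859 := d23_1 D55943 (iv D54859) (iv F243824)
theorem F250529 : act 3 n55943 = n55943 := d29_1 D55943 (iv D55943) F243825
theorem F250530 : act 4 n55943 = n55059 := d34_1 D55943 (iv D55059) (iv F243826)
theorem F250531 : act 5 n55943 = n54501 := d38_1 D55943 (iv D54501) D54500
theorem F250532 : act 6 n55943 = n54960 := d41_1 D55943 (iv D54960) (iv F243827)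
theorem F250533 : act 7 n55943 = n54521 := d43_1 D55943 (iv D54521) (iv F243828)
def n55944 : Q := act 8 n54501
theorem D55944 : act 8 n54501 = n55944 := rfl
theorem F250534 : act 0 n55944 = n54904 := d7_1 D55944 (iv D54904) (iv F243830)
theorem F250535 : act 1 n55944 = n54504 := d15_1 D55944 (iv D54504) (iv F243831)
theorem F250536 : act 2 n55944 = n54862 := d22_1 D55944 (iv D54862) (iv F243832)
theorem F250537 : act 4 n55944 = n54502 := d33_1 D55944 (iv D54502) (iv F243834)
theorem F250538 : act 6 n55944 = n54508 := d40_1 D55944 (iv D54508) (iv F243835)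
theorem F250539 : act 7 n55944 = n54524 := d42_1 D55944 (iv D54524) (iv F243836)
theorem F250540 : act 9 n55944 = n54537 := d44_2 D54501 D55944 (iv D54537) (iv D52866) (iv F236165)
theorem F250541 : act 3 n55710 = n55944 := d29_3 F250540 F244079 (iv F249860)
def n55945 : Q := act 8 n54503
theorem D55945 : act 8 n54503 = n55945 := rfl
theorem F250542 : act 0 n55945 = n55096 := d7_1 D55945 (iv D55096) (iv F243844)
theorem F250543 : act 2 n55945 = n54505 := d22_1 D55945 (iv D54505) (iv F243845)
theorem F250544 : act 5 n55945 = n54504 := d37_1 D55945 (iv D54504) (iv F243847)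
theorem F250545 : act 6 n55945 = n54999 := d40_1 D55945 (iv D54999) (iv F243848)
theorem F250546 : act 7 n55945 = n55054 := d42_1 D55945 (iv D55054) (iv F243849)
theorem F250547 : act 9 n55945 = n55101 := d44_2 D54503 D55945 (iv D55101) (iv D53486) (iv F236177)
theorem F250548 : act 3 n55711 = n55945 := d29_3 F250547 F247264 (iv F249862)
def n55946 : Q := act 3 n54505
theorem D55946 : act 3 n54505 = n55946 := rfl
theorem F250549 : act 0 n55946 = n55102 := d2_1 D55946 (iv D55102) (iv F243857)
theorem F250550 : act 1 n55946 = n54928 := d10_1 D55946 (iv D54928) (iv F243858)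
theorem F250551 : act 5 n55946 = n54506 := d25_2 (iv F243859) D55946 (iv D54506)
theorem F250552 : act 6 n55946 = n55002 := d26_2 (iv F243860) D55946 (iv D55002)
theorem F250553 : act 7 n55946 = n55701 := d27_2 F250515 D55946 (iv F250512)
theorem F250554 : act 8 n55946 = n54510 := d28_2 D54505 D55946 (iv D54510) (iv D52826) (iv F236192)
def n55947 : Q := act 2 n54506
theorem D55947 : act 2 n54506 = n55947 := rfl
theorem F250555 : act 0 n55947 = n55095 := d1_1 D55947 F247248 (iv F243861)
theorem F250556 : act 1 n55947 = n55686 := d9_1 D55947 F249795 F246431 (iv D54929) (iv F243862)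
theorem F250557 : act 3 n55947 = n55672 := d17_2 D54506 D55947 F249758 F243856 F243851
theorem F250558 : act 4 n55947 = n54535 := d18_2 (iv F243863) D55947 (iv D54535)
theorem F250559 : act 6 n55947 = n54509 := d20_2 (iv F243864) D55947 (iv D54509)
theorem F250560 : act 7 n55947 = n55663 := d21_2 (iv F243865) D55947 F249729
theorem F250561 : act 8 n55947 = n54511 := d22_2 (iv F243866) D55947 (iv D54511)
theorem F250562 : act 9 n55947 = n55684 := d23_2 F250468 D55947 (iv F250463)
def n55948 : Q := act 2 n54510
theorem D55948 : act 2 n54510 = n55948 := rfl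
theorem F250563 : act 0 n55948 = n55109 := d1_1 D55948 (iv D55109) (iv F243890)
theorem F250564 : act 1 n55948 = n55691 := d9_1 D55948 F249808 F246459 (iv D54933) (iv F243891)
theorem F250565 : act 3 n55948 = n55948 := d17_2 D54510 D55948 (iv D55948) (iv D54510) F236240
theorem F250566 : act 5 n55948 = n54511 := d19_2 (iv F243892) D55948 (iv D54511)
theorem F250567 : act 6 n55948 = n55009 := d20_2 (iv F243893) D55948 (iv D55009)
theorem F250568 : act 7 n55948 = n55666 := d21_2 (iv F243894) D55948 F249741
theorem F250569 : act 9 n55948 = n55948 := d23_2 F243895 D55948 (iv D55948)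
def n55949 : Q := act 4 n54510
theorem D55949 : act 4 n54510 = n55949 := rfl
theorem F250570 : act 0 n55949 = n55110 := d3_1 D55949 (iv D55110) (iv F243890)
theorem F250571 : act 1 n55949 = n54934 := d11_1 D55949 (iv D54934) (iv F243891)
theorem F250572 : act 3 n55949 = n54611 := d24_1 D55949 (iv D54611) (iv D52934) (iv F236241) D54510
theorem F250573 : act 5 n55949 = n54542 := d30_2 (iv F243892) D55949 (iv D54542) F236552 (iv F236248)
theorem F250574 : act 6 n55949 = n55010 := d31_2 (iv F243893) D55949 (iv D55010)
theorem F250575 : act 7 n55949 = n55702 := d32_2 (iv F243894) D55949 F249841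
theorem F250576 : act 9 n55949 = n55949 := d34_2 F243895 D55949 (iv D55949)
def n55950 : Q := act 8 n54512
theorem D55950 : act 8 n54512 = n55950 := rfl
theorem F250577 : act 0 n55950 = n54949 := d7_1 D55950 (iv D54949) (iv F243903)
theorem F250578 : act 1 n55950 = n54515 := d15_1 D55950 (iv D54515) (iv F243904)
theorem F250579 : act 2 n55950 = n55703 := d22_1 D55950 (iv D55703) (iv F243905)
theorem F250580 : act 4 n55950 = n54513 := d33_1 D55950 (iv D54513) (iv F243907)
theorem F250581 : act 5 n55950 = n55716 := d37_1 D55950 (iv D55716) (iv F243908)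
theorem F250582 : act 6 n55950 = n55457 := d40_1 D55950 (iv D55457) (iv F243909)
theorem F250583 : act 7 n55950 = n55724 := d42_1 D55950 (iv D55724) (iv F243910)
theorem F250584 : act 9 n55950 = n55465 := d44_2 D54512 D55950 (iv D55465) (iv D53891) (iv F236282)
def n55951 : Q := act 3 n54515
theorem D55951 : act 3 n54515 = n55951 := rfl
theorem F250585 : act 0 n55951 = n54531 := d2_1 D55951 (iv D54531) (iv F243928)
theorem F250586 : act 4 n55951 = n55735 := d24_2 (iv F243930) D55951 (iv D55735) F242892 (iv F236323)
theorem F250587 : act 5 n55951 = n55718 := d25_2 (iv F243931) D55951 (iv D55718)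
theorem F250588 : act 6 n55951 = n55459 := d26_2 (iv F243932) D55951 (iv D55459)
theorem F250589 : act 7 n55951 = n55730 := d27_2 (iv F243933) D55951 (iv D55730)
theorem F250590 : act 8 n55951 = n54668 := d28_2 D54515 D55951 (iv D54668) (iv D52998) (iv F236316)
theorem F250591 : act 9 n55951 = n55470 := d29_2 (iv F243934) D55951 (iv D55470)
def n55952 : Q := act 8 n54517
theorem D55952 : act 8 n54517 = n55952 := rfl
theorem F250592 : act 0 n55952 = n55462 := d7_1 D55952 (iv D55462) (iv F243944)
theorem F250593 : act 1 n55952 = n55035 := d15_1 D55952 (iv D55035) (iv F243945)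
theorem F250594 : act 2 n55952 = n55455 := d22_1 D55952 (iv D55455) (iv F243946)
theorem F250595 : act 4 n55952 = n54518 := d33_1 D55952 (iv D54518) (iv F243948)
theorem F250596 : act 5 n55952 = n55693 := d37_1 D55952 (iv D55693) (iv F243949)
theorem F250597 : act 6 n55952 = n55734 := d40_1 D55952 (iv D55734) (iv F243950)
theorem F250598 : act 7 n55952 = n54520 := d42_1 D55952 (iv D54520) (iv F243951)
theorem F250599 : act 9 n55952 = n54526 := d44_2 D54517 D55952 (iv D54526) (iv D52853) (iv F236359)
def n55953 : Q := act 8 n54519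
theorem D55953 : act 8 n54519 = n55953 := rfl
theorem F250600 : act 0 n55953 = n55469 := d7_1 D55953 (iv D55469) (iv F243960)
theorem F250601 : act 1 n55953 = n55045 := d15_1 D55953 (iv D55045) (iv F243961)
theorem F250602 : act 2 n55953 = n55458 := d22_1 D55953 (iv D55458) (iv F243962)
theorem F250603 : act 4 n55953 = n54522 := d33_1 D55953 (iv D54522) (iv F243964)
theorem F250604 : act 5 n55953 = n54520 := d37_1 D55953 (iv D54520) (iv F243965)
theorem F250605 : act 6 n55953 = n55714 := d40_1 D55953 (iv D55714) (iv F243966)
theorem F250606 : act 7 n55953 = n55693 := d42_1 D55953 (iv D55693) (iv F243967)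
theorem F250607 : act 9 n55953 = n54530 := d44_2 D54519 D55953 (iv D54530) (iv D52858) (iv F236374)
def n55954 : Q := act 3 n54520
theorem D55954 : act 3 n54520 = n55954 := rfl
theorem F250608 : act 0 n55954 = n55470 := d2_1 D55954 (iv D55470) (iv F243968)
theorem F250609 : act 1 n55954 = n55046 := d10_1 D55954 (iv D55046) (iv F243969)
theorem F250610 : act 6 n55954 = n55460 := d26_2 (iv F243972) D55954 (iv D55460)
theorem F250611 : act 8 n55954 = n55863 := d28_2 D54520 D55954 (iv D55863) (iv D54383) (iv F236378)
theorem F250612 : act 9 n55954 = n54531 := d29_2 (iv F243973) D55954 (iv D54531)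
def n55955 : Q := act 8 n54521
theorem D55955 : act 8 n54521 = n55955 := rfl
theorem F250613 : act 0 n55955 = n55476 := d7_1 D55955 (iv D55476) (iv F243974)
theorem F250614 : act 1 n55955 = n55054 := d15_1 D55955 (iv D55054) (iv F243975)
theorem F250615 : act 2 n55955 = n54861 := d22_1 D55955 (iv D54861) (iv F243976)
theorem F250616 : act 4 n55955 = n55714 := d33_1 D55955 (iv D55714) (iv F243978)
theorem F250617 : act 5 n55955 = n54524 := d37_1 D55955 (iv D54524) (iv F243979)
theorem F250618 : act 6 n55955 = n54522 := d40_1 D55955 (iv D54522) (iv F243980)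
theorem F250619 : act 9 n55955 = n54533 := d44_2 D54521 D55955 (iv D54533) (iv D52861) (iv F236401)
def n55956 : Q := act 3 n54522
theorem D55956 : act 3 n54522 = n55956 := rfl
theorem F250620 : act 0 n55956 = n55477 := d2_1 D55956 (iv D55477) (iv F243981)
theorem F250621 : act 1 n55956 = n55055 := d10_1 D55956 (iv D55055) (iv F243982)
theorem F250622 : act 2 n55956 = n55683 := d17_1 D55956 (iv D55683) F242739 (iv F241611) (iv F243983)
theorem F250623 : act 5 n55956 = n54523 := d25_2 (iv F243984) D55956 (iv D54523)
theorem F250624 : act 7 n55956 = n55694 := d27_2 (iv F243985) D55956 (iv D55694)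
theorem F250625 : act 8 n55956 = n55956 := d28_2 D54522 D55956 (iv D55956) (iv D54522) F236405
theorem F250626 : act 9 n55956 = n54534 := d29_2 (iv F243986) D55956 (iv D54534)
def n55957 : Q := act 3 n54524
theorem D55957 : act 3 n54524 = n55957 := rfl
theorem F250627 : act 0 n55957 = n55478 := d2_1 D55957 (iv D55478) (iv F243994)
theorem F250628 : act 1 n55957 = n55058 := d10_1 D55957 (iv D55058) (iv F243995)
theorem F250629 : act 2 n55957 = n54951 := d17_1 D55957 (iv D54951) F239157 (iv F238610) (iv F243996)
theorem F250630 : act 4 n55957 = n55475 := d24_2 (iv F243997) D55957 (iv D55475) F241712 (iv F241621)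
theorem F250631 : act 6 n55957 = n54525 := d26_2 (iv F243998) D55957 (iv D54525)
theorem F250632 : act 7 n55957 = n55710 := d27_2 F250539 D55957 F250541
theorem F250633 : act 8 n55957 = n55957 := d28_2 D54524 D55957 (iv D55957) (iv D54524) F236418
theorem F250634 : act 9 n55957 = n54538 := d29_2 (iv F243999) D55957 (iv D54538)
def n55958 : Q := act 3 n54526
theorem D55958 : act 3 n54526 = n55958 := rfl
theorem F250635 : act 0 n55958 = n55730 := d2_1 D55958 (iv D55730) (iv F244008)
theorem F250636 : act 1 n55958 = n55068 := d10_1 D55958 (iv D55068) (iv F244009)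
theorem F250637 : act 5 n55958 = n55698 := d25_2 (iv F244012) D55958 (iv D55698)
theorem F250638 : act 7 n55958 = n54531 := d27_2 (iv F244013) D55958 (iv D54531)
theorem F250639 : act 8 n55958 = n54744 := d28_2 D54526 D55958 (iv D54744) (iv D53068) (iv F236436)
def n55959 : Q := act 3 n54527
theorem D55959 : act 3 n54527 = n55959 := rfl
theorem F250640 : act 0 n55959 = n55460 := d2_1 D55959 (iv D55460) (iv F244014)
theorem F250641 : act 1 n55959 = n55673 := d10_1 D55959 (iv D55673) (iv F244015)
theorem F250642 : act 4 n55959 = n55463 := d24_2 (iv F244017) D55959 (iv D55463) F241643 (iv F236456)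
theorem F250643 : act 5 n55959 = n55697 := d25_2 (iv F244018) D55959 (iv D55697)
theorem F250644 : act 6 n55959 = n55470 := d26_2 (iv F244019) D55959 (iv D55470)
theorem F250645 : act 7 n55959 = n55456 := d27_2 (iv F244020) D55959 (iv D55456)
theorem F250646 : act 8 n55959 = n55484 := d28_2 D54527 D55959 (iv D55484) (iv D53920) (iv F236448)
theorem F250647 : act 9 n55959 = n55459 := d29_2 (iv F244021) D55959 (iv D55459)
def n55960 : Q := act 9 n54528
theorem D55960 : act 9 n54528 = n55960 := rfl
theorem F250648 : act 0 n55960 = n54917 := d8_1 D55960 (iv D54917) (iv F244022)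
theorem F250649 : act 1 n55960 = n55086 := d16_1 D55960 (iv D55086) (iv F244023)
theorem F250650 : act 2 n55960 = n54981 := d23_1 D55960 (iv D54981) (iv F244024)
theorem F250651 : act 3 n55960 = n54760 := d29_1 D55960 (iv D54760) (iv F244025)
theorem F250652 : act 4 n55960 = n54532 := d34_1 D55960 (iv D54532) (iv F244026)
theorem F250653 : act 5 n55960 = n55029 := d38_1 D55960 (iv D55029) (iv F244027)
theorem F250654 : act 6 n55960 = n54983 := d41_1 D55960 (iv D54983) (iv F244028)
theorem F250655 : act 7 n55960 = n54529 := d43_1 D55960 (iv D54529) D54528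
def n55961 : Q := act 8 n54529
theorem D55961 : act 8 n54529 = n55961 := rfl
theorem F250656 : act 0 n55961 = n55712 := d7_1 D55961 (iv D55712) (iv F244030)
theorem F250657 : act 1 n55961 = n55087 := d15_1 D55961 (iv D55087) (iv F244031)
theorem F250658 : act 2 n55961 = n55696 := d22_1 D55961 (iv D55696) (iv F244032)
theorem F250659 : act 4 n55961 = n54533 := d33_1 D55961 (iv D54533) (iv F244034)
theorem F250660 : act 5 n55961 = n55471 := d37_1 D55961 (iv D55471) (iv F244035)
theorem F250661 : act 6 n55961 = n54530 := d40_1 D55961 (iv D54530) (iv F244036)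
theorem F250662 : act 9 n55961 = n55714 := d44_2 D54529 D55961 (iv D55714) (iv D54203) (iv F236467)
def n55962 : Q := act 3 n54530
theorem D55962 : act 3 n54530 = n55962 := rfl
theorem F250663 : act 0 n55962 = n55718 := d2_1 D55962 (iv D55718) (iv F244037)
theorem F250664 : act 1 n55962 = n55088 := d10_1 D55962 (iv D55088) (iv F244038)
theorem F250665 : act 5 n55962 = n54531 := d25_2 (iv F244041) D55962 (iv D54531)
theorem F250666 : act 7 n55962 = n55698 := d27_2 (iv F244042) D55962 (iv D55698)
theorem F250667 : act 8 n55962 = n54762 := d28_2 D54530 D55962 (iv D54762) (iv D53083) (iv F236471)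
def n55963 : Q := act 2 n54531
theorem D55963 : act 2 n54531 = n55963 := rfl
theorem F250668 : act 6 n55963 = n55473 := d20_2 (iv F244044) D55963 (iv D55473)
theorem F250669 : act 8 n55963 = n54763 := d22_2 (iv F244045) D55963 (iv D54763)
def n55964 : Q := act 8 n54532
theorem D55964 : act 8 n54532 = n55964 := rfl
theorem F250670 : act 0 n55964 = n54918 := d7_1 D55964 (iv D54918) (iv F244046)
theorem F250671 : act 1 n55964 = n55101 := d15_1 D55964 (iv D55101) (iv F244047)
theorem F250672 : act 2 n55964 = n54982 := d22_1 D55964 (iv D54982) (iv F244048)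
theorem F250673 : act 3 n55964 = n55738 := d28_1 D55964 F249918 F242948 F236541 (iv F244049)
theorem F250674 : act 5 n55964 = n54537 := d37_1 D55964 (iv D54537) (iv F244050)
theorem F250675 : act 6 n55964 = n54984 := d40_1 D55964 (iv D54984) (iv F244051)
theorem F250676 : act 7 n55964 = n54533 := d42_1 D55964 (iv D54533) (iv F244052)
def n55965 : Q := act 3 n54533
theorem D55965 : act 3 n54533 = n55965 := rfl
theorem F250677 : act 0 n55965 = n55713 := d2_1 D55965 (iv D55713) (iv F244053)
theorem F250678 : act 1 n55965 = n55102 := d10_1 D55965 (iv D55102) (iv F244054)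
theorem F250679 : act 2 n55965 = n55722 := d17_1 D55965 (iv D55722) (iv F246499) F246500 (iv F244055)
theorem F250680 : act 5 n55965 = n54538 := d25_2 (iv F244056) D55965 (iv D54538)
theorem F250681 : act 6 n55965 = n54534 := d26_2 (iv F244057) D55965 (iv D54534)
theorem F250682 : act 7 n55965 = n55738 := d27_2 F250676 D55965 (iv F250673)
theorem F250683 : act 8 n55965 = n54540 := d28_2 D54533 D55965 (iv D54540) (iv D52871) (iv F236487)
def n55966 : Q := act 2 n54534
theorem D55966 : act 2 n54534 = n55966 := rfl
theorem F250684 : act 0 n55966 = n55077 := d1_1 D55966 F247183 (iv F244058)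
theorem F250685 : act 3 n55966 = n55071 := d17_2 D54534 D55966 F247149 F242659 (iv F236492)
theorem F250686 : act 5 n55966 = n54535 := d19_2 (iv F244060) D55966 (iv D54535)
theorem F250687 : act 6 n55966 = n55722 := d20_2 F250681 D55966 (iv F250679)
theorem F250688 : act 7 n55966 = n55661 := d21_2 (iv F244061) D55966 F249722
theorem F250689 : act 8 n55966 = n54541 := d22_2 (iv F244062) D55966 (iv D54541)
theorem F250690 : act 9 n55966 = n55683 := d23_2 F250626 D55966 (iv F250622)
def n55967 : Q := act 4 n54534
theorem D55967 : act 4 n54534 = n55967 := rfl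
theorem F250691 : act 0 n55967 = n55719 := d3_1 D55967 (iv D55719) (iv F244058)
theorem F250692 : act 1 n55967 = n55104 := d11_1 D55967 (iv D55104) (iv F244059)
theorem F250693 : act 7 n55967 = n55699 := d32_2 (iv F244061) D55967 (iv D55699)
theorem F250694 : act 8 n55967 = n54542 := d33_2 (iv F244062) D55967 (iv D54542)
def n55968 : Q := act 1 n54535
theorem D55968 : act 1 n54535 = n55968 := rfl
theorem F250695 : act 0 n55968 = n54998 := d0_1 D55968 F246803 F239393 (iv F239817) (iv F244063)
theorem F250696 : act 2 n55968 = n55105 := d9_2 D54535 D55968 (iv D55105) (iv D53489) (iv F236496)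
theorem F250697 : act 3 n55968 = n54997 := d10_2 (iv F244064) D55968 F246797
theorem F250698 : act 4 n55968 = n55686 := d11_2 F250558 D55968 (iv F250556)
theorem F250699 : act 6 n55968 = n54539 := d13_2 (iv F244065) D55968 (iv D54539)
theorem F250700 : act 7 n55968 = n55052 := d14_2 (iv F244066) D55968 F247066
theorem F250701 : act 8 n55968 = n54543 := d15_2 (iv F244067) D55968 (iv D54543)
theorem F250702 : act 9 n55968 = n55091 := d16_2 (iv F244068) D55968 F247226
def n55969 : Q := act 4 n54540
theorem D55969 : act 4 n54540 = n55969 := rfl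
theorem F250703 : act 0 n55969 = n55740 := d3_1 D55969 (iv D55740) (iv F244097)
theorem F250704 : act 1 n55969 = n55110 := d11_1 D55969 (iv D55110) (iv F244098)
theorem F250705 : act 2 n55969 = n55742 := d18_1 D55969 (iv D55742) (iv F244099)
theorem F250706 : act 3 n55969 = n54792 := d24_1 D55969 (iv D54792) (iv D53117) (iv F236545) D54540
theorem F250707 : act 5 n55969 = n55741 := d30_2 (iv F244100) D55969 (iv D55741) F242923 (iv F236563)
theorem F250708 : act 6 n55969 = n54542 := d31_2 (iv F244101) D55969 (iv D54542)
theorem F250709 : act 7 n55969 = n55745 := d32_2 (iv F244102) D55969 F249936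
theorem F250710 : act 9 n55969 = n55969 := d34_2 F244103 D55969 (iv D55969)
def n55970 : Q := act 1 n54541
theorem D55970 : act 1 n54541 = n55970 := rfl
theorem F250711 : act 0 n55970 = n55011 := d0_1 D55970 F246873 F239478 (iv F239956) (iv F244104)
theorem F250712 : act 2 n55970 = n55111 := d9_2 D54541 D55970 (iv D55111) (iv D53501) (iv F236551)
theorem F250713 : act 3 n55970 = n55008 := d10_2 (iv F244105) D55970 F246857
theorem F250714 : act 5 n55970 = n54543 := d12_2 (iv F244106) D55970 (iv D54543)
theorem F250715 : act 6 n55970 = n54939 := d13_2 (iv F244107) D55970 F246486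
theorem F250716 : act 7 n55970 = n55664 := d14_2 (iv F244108) D55970 F249733
theorem F250717 : act 9 n55970 = n55970 := d16_2 F244109 D55970 (iv D55970)
def n55971 : Q := act 4 n54541
theorem D55971 : act 4 n54541 = n55971 := rfl
theorem F250718 : act 0 n55971 = n55122 := d3_1 D55971 (iv D55122) (iv F244104)
theorem F250719 : act 2 n55971 = n54542 := d18_1 D55971 (iv D54542) D54541
theorem F250720 : act 6 n55971 = n55742 := d31_2 (iv F244107) D55971 (iv D55742)
theorem F250721 : act 7 n55971 = n55665 := d32_2 (iv F244108) D55971 (iv D55665)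
theorem F250722 : act 9 n55971 = n55971 := d34_2 F244109 D55971 (iv D55971)
def n55972 : Q := act 5 n54544
theorem D55972 : act 5 n54544 = n55972 := rfl
theorem F250723 : act 0 n55972 = n54694 := d4_1 D55972 (iv D54694) (iv F244122)
theorem F250724 : act 1 n55972 = n55143 := d12_1 D55972 (iv D55143) (iv F244123)
theorem F250725 : act 2 n55972 = n55374 := d19_1 D55972 F248560 (iv F244124)
theorem F250726 : act 3 n55972 = n54556 := d25_1 D55972 (iv D54556) (iv F244125)
theorem F250727 : act 4 n55972 = n55972 := d30_1 D55972 (iv D55972) (iv D54544) F236575 D54544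
theorem F250728 : act 6 n55972 = n55078 := d35_2 (iv F244126) D55972 F247190 F239749 (iv F237196)
theorem F250729 : act 7 n55972 = n54549 := d36_2 (iv F244127) D55972 (iv D54549)
theorem F250730 : act 8 n55972 = n54659 := d37_2 (iv F244128) D55972 (iv D54659)
def n55973 : Q := act 9 n54544
theorem D55973 : act 9 n54544 = n55973 := rfl
theorem F250731 : act 0 n55973 = n54695 := d8_1 D55973 (iv D54695) (iv F244122)
theorem F250732 : act 1 n55973 = n55144 := d16_1 D55973 (iv D55144) (iv F244123)
theorem F250733 : act 2 n55973 = n55872 := d23_1 D55973 (iv D55872) (iv F244124)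
theorem F250734 : act 3 n55973 = n54557 := d29_1 D55973 (iv D54557) (iv F244125)
theorem F250735 : act 4 n55973 = n54545 := d34_1 D55973 (iv D54545) D54544
theorem F250736 : act 6 n55973 = n54649 := d41_1 D55973 (iv D54649) (iv F244126)
theorem F250737 : act 7 n55973 = n54550 := d43_1 D55973 (iv D54550) (iv F244127)
def n55974 : Q := act 8 n54545
theorem D55974 : act 8 n54545 = n55974 := rfl
theorem F250738 : act 0 n55974 = n54696 := d7_1 D55974 (iv D54696) (iv F244129)
theorem F250739 : act 1 n55974 = n55145 := d15_1 D55974 (iv D55145) (iv F244130)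
theorem F250740 : act 2 n55974 = n55917 := d22_1 D55974 (iv D55917) (iv F244131)
theorem F250741 : act 3 n55974 = n54684 := d28_1 D55974 (iv D54684) F237431 (iv F236587) (iv F244132)
theorem F250742 : act 5 n55974 = n55974 := d37_1 D55974 (iv D55974) F244133
theorem F250743 : act 6 n55974 = n54650 := d40_1 D55974 (iv D54650) (iv F244134)
theorem F250744 : act 7 n55974 = n54551 := d42_1 D55974 (iv D54551) (iv F244135)
theorem F250745 : act 9 n55974 = n54661 := d44_2 D54545 D55974 (iv D54661) (iv D52991) (iv F236578)
def n55975 : Q := act 4 n54546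
theorem D55975 : act 4 n54546 = n55975 := rfl
theorem F250746 : act 0 n55975 = n55356 := d3_1 D55975 F248500 (iv F244136)
theorem F250747 : act 1 n55975 = n54547 := d11_1 D55975 (iv D54547) D54546
theorem F250748 : act 2 n55975 = n54578 := d18_1 D55975 F244343 (iv F244137)
theorem F250749 : act 6 n55975 = n54575 := d31_2 (iv F244140) D55975 F244324
theorem F250750 : act 7 n55975 = n55227 := d32_2 (iv F244141) D55975 F247883
theorem F250751 : act 8 n55975 = n55504 := d33_2 (iv F244142) D55975 (iv D55504)
theorem F250752 : act 3 n55975 = n55024 := d46_3 (iv F244142) F244139 D55975 F246938 F239539 (iv F241663) (iv F244771) (iv D54646) (iv D52975) (iv D51093) F219296 F219295 (iv F222670) F222676 F212634 (iv D47500) F179400 F125035 F125034 F87396 D20290 F87507 F61268 D13960 F61279 (iv F86073) (iv F123037) F123039 (iv F205017) (iv F131772) (iv F189125) (iv D45395) (iv F185866) (iv F213956) F213961 (iv F213978) D49987 F223963 (iv F224346) (iv F233610) (iv F241794) F241799 (iv F237768) F237767 F229275 F223804 F213775 F213774 (iv D43712) F127219 F88887 F88886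 (iv F127158) F127157 F204386 (iv F93449) (iv F133900) D46273 D48570 (iv F226603) (iv F235621) (iv F241924)
theorem F250753 : act 5 n55023 = n55975 := d25_0 F250752 (iv D55024) D55023
def n55976 : Q := act 9 n54546
theorem D55976 : act 9 n54546 = n55976 := rfl
theorem F250754 : act 0 n55976 = n55393 := d8_1 D55976 (iv D55393) (iv F244136)
theorem F250755 : act 1 n55976 = n54548 := d16_1 D55976 (iv D54548) D54546
theorem F250756 : act 2 n55976 = n54595 := d23_1 D55976 (iv D54595) (iv F244137)
theorem F250757 : act 3 n55976 = n55976 := d29_1 D55976 (iv D55976) F244138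
theorem F250758 : act 5 n55976 = n55976 := d38_1 D55976 (iv D55976) F244139
theorem F250759 : act 6 n55976 = n54592 := d41_1 D55976 (iv D54592) (iv F244140)
theorem F250760 : act 7 n55976 = n55244 := d43_1 D55976 (iv D55244) (iv F244141)
def n55977 : Q := act 3 n54547
theorem D55977 : act 3 n54547 = n55977 := rfl
theorem F250761 : act 0 n55977 = n55558 := d2_1 D55977 (iv D55558) (iv F244143)
theorem F250762 : act 1 n55977 = n55024 := d10_1 D55977 (iv F250752) F250747
theorem F250763 : act 2 n55977 = n54559 := d17_1 D55977 (iv D54559) F236637 (iv F236596) (iv F244144)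
theorem F250764 : act 4 n55977 = n55977 := d24_2 D54547 D55977 (iv D55977) (iv D54547) F236589
theorem F250765 : act 6 n55977 = n55452 := d26_2 (iv F244145) D55977 F248880
theorem F250766 : act 7 n55977 = n55829 := d27_2 (iv F244146) D55977 F250150
theorem F250767 : act 8 n55977 = n55276 := d28_2 (iv F244147) D55977 F248117 F243246 (iv F241931)
theorem F250768 : act 5 n55021 = n55977 := d46_1 (iv F246929) F250764 (iv D55977) F244144 F236595 F231794 (iv F235061) (iv F242993) F242992 (iv F246078) F246077 F238825 (iv F236101) F236107 (iv F239768) F239767 F231433 F222076 (iv F228066) F228065 F221411 F221408 (iv F218522) F218521 F211135 F211134 F177904 (iv D29224) F86698 (iv F87242) (iv F124862) F124861 F88254 (iv F204041) (iv F92246) (iv F132193) D45610 (iv F212027) (iv F222128) F222127 (iv F219798) F219803 F219802 F219801 (iv F221682) (iv D49477) (iv F221566) (iv F227761) F227766 F224101 D50025 F224135 F224134 F215832 (iv F208898) (iv F218562) (iv F227882) D52841 F236355 (iv F241956) (iv F248098) F248097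
def n55978 : Q := act 5 n54547
theorem D55978 : act 5 n54547 = n55978 := rfl
theorem F250769 : act 0 n55978 = n55282 := d4_1 D55978 F248148 (iv F244143)
theorem F250770 : act 1 n55978 = n55023 := d12_1 D55978 F250753 F250747
theorem F250771 : act 2 n55978 = n54549 := d19_1 D55978 (iv D54549) (iv F244144)
theorem F250772 : act 3 n55978 = n55021 := d25_1 D55978 F250768 (iv D55977)
theorem F250773 : act 4 n55978 = n55978 := d30_1 D55978 (iv D55978) (iv D54547) F236590 D54547
theorem F250774 : act 6 n55978 = n55202 := d35_2 (iv F244145) D55978 (iv D55202) F240452 (iv F241752)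
theorem F250775 : act 7 n55978 = n55374 := d36_2 (iv F244146) D55978 F248560
theorem F250776 : act 8 n55978 = n55373 := d37_2 (iv F244147) D55978 F248558
def n55979 : Q := act 9 n54547
theorem D55979 : act 9 n54547 = n55979 := rfl
theorem F250777 : act 0 n55979 = n55559 := d8_1 D55979 (iv D55559) (iv F244143)
theorem F250778 : act 2 n55979 = n54550 := d23_1 D55979 (iv D54550) (iv F244144)
theorem F250779 : act 4 n55979 = n54548 := d34_1 D55979 (iv D54548) D54547
theorem F250780 : act 6 n55979 = n55479 := d41_1 D55979 (iv D55479) (iv F244145)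
theorem F250781 : act 7 n55979 = n55872 := d43_1 D55979 (iv D55872) (iv F244146)
def n55980 : Q := act 8 n54548
theorem D55980 : act 8 n54548 = n55980 := rfl
theorem F250782 : act 0 n55980 = n55560 := d7_1 D55980 (iv D55560) (iv F244148)
theorem F250783 : act 2 n55980 = n54551 := d22_1 D55980 (iv D54551) (iv F244149)
theorem F250784 : act 5 n55980 = n55980 := d37_1 D55980 (iv D55980) F244151
theorem F250785 : act 6 n55980 = n55480 := d40_1 D55980 (iv D55480) (iv F244152)
theorem F250786 : act 7 n55980 = n55917 := d42_1 D55980 (iv D55917) (iv F244153)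
theorem F250787 : act 9 n55980 = n55507 := d44_2 D54548 D55980 (iv D55507) (iv D53951) (iv F236593)
def n55981 : Q := act 9 n54549
theorem D55981 : act 9 n54549 = n55981 := rfl
theorem F250788 : act 0 n55981 = n55286 := d8_1 D55981 (iv D55286) (iv F244154)
theorem F250789 : act 1 n55981 = n55148 := d16_1 D55981 (iv D55148) (iv F244155)
theorem F250790 : act 3 n55981 = n54562 := d29_1 D55981 (iv D54562) (iv F244156)
theorem F250791 : act 4 n55981 = n55981 := d34_1 D55981 (iv D55981) F244157
theorem F250792 : act 5 n55981 = n54550 := d38_1 D55981 (iv D54550) D54549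
theorem F250793 : act 6 n55981 = n55205 := d41_1 D55981 (iv D55205) (iv F244158)
def n55982 : Q := act 8 n54550
theorem D55982 : act 8 n54550 = n55982 := rfl
theorem F250794 : act 0 n55982 = n55561 := d7_1 D55982 (iv D55561) (iv F244160)
theorem F250795 : act 1 n55982 = n55149 := d15_1 D55982 (iv D55149) (iv F244161)
theorem F250796 : act 4 n55982 = n54551 := d33_1 D55982 (iv D54551) (iv F244163)
theorem F250797 : act 6 n55982 = n55481 := d40_1 D55982 (iv D55481) (iv F244164)
theorem F250798 : act 9 n55982 = n55509 := d44_2 D54550 D55982 (iv D55509) (iv D53953) (iv F236598)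
def n55983 : Q := act 9 n54552
theorem D55983 : act 9 n54552 = n55983 := rfl
theorem F250799 : act 0 n55983 = n54683 := d8_1 D55983 (iv D54683) (iv F244171)
theorem F250800 : act 1 n55983 = n55151 := d16_1 D55983 (iv D55151) (iv F244172)
theorem F250801 : act 2 n55983 = n55595 := d23_1 D55983 (iv D55595) (iv F244173)
theorem F250802 : act 3 n55983 = n54649 := d29_1 D55983 (iv D54649) (iv F244174)
theorem F250803 : act 4 n55983 = n54553 := d34_1 D55983 (iv D54553) D54552
theorem F250804 : act 5 n55983 = n55705 := d38_1 D55983 (iv D55705) F244178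
theorem F250805 : act 6 n55983 = n54557 := d41_1 D55983 (iv D54557) (iv F244175)
theorem F250806 : act 7 n55983 = n54647 := d43_1 D55983 (iv D54647) (iv F244176)
def n55984 : Q := act 8 n54553
theorem D55984 : act 8 n54553 = n55984 := rfl
theorem F250807 : act 0 n55984 = n54684 := d7_1 D55984 (iv D54684) (iv F244179)
theorem F250808 : act 1 n55984 = n55152 := d15_1 D55984 (iv D55152) (iv F244180)
theorem F250809 : act 2 n55984 = n55643 := d22_1 D55984 (iv D55643) (iv F244181)
theorem F250810 : act 3 n55984 = n54696 := d28_1 D55984 (iv D54696) F237468 (iv F236618) (iv F244182)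
theorem F250811 : act 5 n55984 = n55984 := d37_1 D55984 (iv D55984) F244183
theorem F250812 : act 6 n55984 = n54558 := d40_1 D55984 (iv D54558) (iv F244184)
theorem F250813 : act 7 n55984 = n54648 := d42_1 D55984 (iv D54648) (iv F244185)
theorem F250814 : act 9 n55984 = n54574 := d44_2 D54553 D55984 (iv D54574) (iv D52901) (iv F236609)
def n55985 : Q := act 3 n54554
theorem D55985 : act 3 n54554 = n55985 := rfl
theorem F250815 : act 0 n55985 = n55276 := d2_1 D55985 F248117 (iv F244186)
theorem F250816 : act 1 n55985 = n55512 := d10_1 D55985 F249155 (iv F244187)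
theorem F250817 : act 2 n55985 = n55829 := d17_1 D55985 F250150 (iv F244124) F244125 (iv F244188)
theorem F250818 : act 4 n55985 = n55985 := d24_2 D54554 D55985 (iv D55985) (iv D54554) F236621
theorem F250819 : act 5 n55985 = n55273 := d25_2 (iv F244189) D55985 F248099
theorem F250820 : act 6 n55985 = n55565 := d26_2 (iv F244190) D55985 F249389
theorem F250821 : act 7 n55985 = n54559 := d27_2 (iv F244191) D55985 (iv D54559)
theorem F250822 : act 8 n55985 = n55558 := d28_2 (iv F244192) D55985 (iv D55558) F242191 (iv F236738)
def n55986 : Q := act 9 n54554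
theorem D55986 : act 9 n54554 = n55986 := rfl
theorem F250823 : act 0 n55986 = n55835 := d8_1 D55986 (iv D55835) (iv F244186)
theorem F250824 : act 1 n55986 = n55514 := d16_1 D55986 (iv D55514) (iv F244187)
theorem F250825 : act 2 n55986 = n54557 := d23_1 D55986 (iv D54557) (iv F244188)
theorem F250826 : act 4 n55986 = n54555 := d34_1 D55986 (iv D54555) D54554
theorem F250827 : act 5 n55986 = n55510 := d38_1 D55986 (iv D55510) (iv F244189)
theorem F250828 : act 6 n55986 = n55595 := d41_1 D55986 (iv D55595) (iv F244190)
theorem F250829 : act 7 n55986 = n54560 := d43_1 D55986 (iv D54560) (iv F244191)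
def n55987 : Q := act 8 n54555
theorem D55987 : act 8 n54555 = n55987 := rfl
theorem F250830 : act 0 n55987 = n55846 := d7_1 D55987 (iv D55846) (iv F244193)
theorem F250831 : act 1 n55987 = n55530 := d15_1 D55987 (iv D55530) (iv F244194)
theorem F250832 : act 2 n55987 = n54558 := d22_1 D55987 (iv D54558) (iv F244195)
theorem F250833 : act 5 n55987 = n54564 := d37_1 D55987 (iv D54564) (iv F244197)
theorem F250834 : act 6 n55987 = n55643 := d40_1 D55987 (iv D55643) (iv F244198)
theorem F250835 : act 7 n55987 = n54561 := d42_1 D55987 (iv D54561) (iv F244199)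
theorem F250836 : act 9 n55987 = n54577 := d44_2 D54555 D55987 (iv D54577) (iv D52903) (iv F236625)
def n55988 : Q := act 6 n54556
theorem D55988 : act 6 n54556 = n55988 := rfl
theorem F250837 : act 0 n55988 = n55299 := d5_1 D55988 F248226 (iv F244200)
theorem F250838 : act 1 n55988 = n54889 := d13_1 D55988 F246221 (iv F244201)
theorem F250839 : act 2 n55988 = n55504 := d20_1 D55988 F249122 (iv F244202)
theorem F250840 : act 3 n55988 = n55078 := d26_1 D55988 (iv F250728) F250726
theorem F250841 : act 4 n55988 = n54565 := d31_1 D55988 (iv D54565) (iv F244203)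
theorem F250842 : act 5 n55988 = n55039 := d35_1 D55988 F247014 F244178 F244175 D54556
theorem F250843 : act 7 n55988 = n55210 := d39_2 (iv F244204) D55988 (iv D55210) F240489 (iv F236651)
theorem F250844 : act 8 n55988 = n54578 := d40_2 (iv F244205) D55988 (iv D54578)
def n55989 : Q := act 9 n54556
theorem D55989 : act 9 n54556 = n55989 := rfl
theorem F250845 : act 0 n55989 = n55312 := d8_1 D55989 (iv D55312) (iv F244200)
theorem F250846 : act 1 n55989 = n55153 := d16_1 D55989 (iv D55153) (iv F244201)
theorem F250847 : act 2 n55989 = n55510 := d23_1 D55989 (iv D55510) (iv F244202)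
theorem F250848 : act 4 n55989 = n54566 := d34_1 D55989 (iv D54566) (iv F244203)
theorem F250849 : act 5 n55989 = n54557 := d38_1 D55989 (iv D54557) D54556
theorem F250850 : act 7 n55989 = n54562 := d43_1 D55989 (iv D54562) (iv F244204)
def n55990 : Q := act 8 n54557
theorem D55990 : act 8 n54557 = n55990 := rfl
theorem F250851 : act 0 n55990 = n55839 := d7_1 D55990 (iv D55839) (iv F244206)
theorem F250852 : act 1 n55990 = n55154 := d15_1 D55990 (iv D55154) (iv F244207)
theorem F250853 : act 4 n55990 = n54558 := d33_1 D55990 (iv D54558) (iv F244208)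
theorem F250854 : act 7 n55990 = n54563 := d42_1 D55990 (iv D54563) (iv F244209)
theorem F250855 : act 9 n55990 = n54580 := d44_2 D54557 D55990 (iv D54580) (iv D52905) (iv F236629)
def n55991 : Q := act 8 n54559
theorem D55991 : act 8 n54559 = n55991 := rfl
theorem F250856 : act 0 n55991 = n55829 := d7_1 D55991 (iv D55829) (iv F244216)
theorem F250857 : act 1 n55991 = n54689 := d15_1 D55991 F245038 (iv F244217)
theorem F250858 : act 2 n55991 = n55276 := d22_1 D55991 (iv F250767) F250763
theorem F250859 : act 3 n55991 = n54585 := d28_1 D55991 (iv D54585) (iv D52909) (iv F236640) D54559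
theorem F250860 : act 4 n55991 = n55991 := d33_1 D55991 (iv D55991) F244218
theorem F250861 : act 5 n55991 = n54686 := d37_1 D55991 F245023 (iv F244219)
theorem F250862 : act 6 n55991 = n54699 := d40_1 D55991 F245090 (iv F244220)
theorem F250863 : act 7 n55991 = n55558 := d42_1 D55991 (iv F250822) F250821
def n55992 : Q := act 9 n54559
theorem D55992 : act 9 n54559 = n55992 := rfl
theorem F250864 : act 0 n55992 = n55830 := d8_1 D55992 (iv D55830) (iv F244216)
theorem F250865 : act 1 n55992 = n55522 := d16_1 D55992 (iv D55522) (iv F244217)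
theorem F250866 : act 3 n55992 = n54560 := d29_1 D55992 (iv D54560) D54559
theorem F250867 : act 4 n55992 = n55992 := d34_1 D55992 (iv D55992) F244218
theorem F250868 : act 5 n55992 = n55519 := d38_1 D55992 (iv D55519) (iv F244219)
theorem F250869 : act 6 n55992 = n55438 := d41_1 D55992 F248802 (iv F244220)
def n55993 : Q := act 8 n54560
theorem D55993 : act 8 n54560 = n55993 := rfl
theorem F250870 : act 0 n55993 = n55836 := d7_1 D55993 (iv D55836) (iv F244221)
theorem F250871 : act 1 n55993 = n55524 := d15_1 D55993 (iv D55524) (iv F244222)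
theorem F250872 : act 2 n55993 = n54563 := d22_1 D55993 (iv D54563) (iv F244223)
theorem F250873 : act 4 n55993 = n54561 := d33_1 D55993 (iv D54561) (iv F244224)
theorem F250874 : act 5 n55993 = n55520 := d37_1 D55993 (iv D55520) (iv F244225)
theorem F250875 : act 6 n55993 = n55385 := d40_1 D55993 F248593 (iv F244226)
theorem F250876 : act 9 n55993 = n54588 := d44_2 D54560 D55993 (iv D54588) (iv D52911) (iv F236640)
def n55994 : Q := act 3 n54561
theorem D55994 : act 3 n54561 = n55994 := rfl
theorem F250877 : act 0 n55994 = n55847 := d2_1 D55994 (iv D55847) (iv F244227)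
theorem F250878 : act 1 n55994 = n55534 := d10_1 D55994 (iv D55534) (iv F244228)
theorem F250879 : act 2 n55994 = n54713 := d17_1 D55994 (iv D54713) F237525 (iv F236659) (iv F244229)
theorem F250880 : act 5 n55994 = n54568 := d25_2 (iv F244230) D55994 (iv D54568)
theorem F250881 : act 6 n55994 = n55410 := d26_2 (iv F244231) D55994 F248680
theorem F250882 : act 8 n55994 = n55994 := d28_2 D54561 D55994 (iv D55994) (iv D54561) F236644
theorem F250883 : act 9 n55994 = n54589 := d29_2 (iv F244232) D55994 (iv D54589)
def n55995 : Q := act 8 n54562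
theorem D55995 : act 8 n54562 = n55995 := rfl
theorem F250884 : act 0 n55995 = n55313 := d7_1 D55995 (iv D55313) (iv F244233)
theorem F250885 : act 1 n55995 = n55155 := d15_1 D55995 (iv D55155) (iv F244234)
theorem F250886 : act 2 n55995 = n55520 := d22_1 D55995 (iv D55520) (iv F244235)
theorem F250887 : act 4 n55995 = n54569 := d33_1 D55995 (iv D54569) (iv F244236)
theorem F250888 : act 5 n55995 = n54563 := d37_1 D55995 (iv D54563) (iv F244237)
theorem F250889 : act 6 n55995 = n55213 := d40_1 D55995 (iv D55213) (iv F244238)
theorem F250890 : act 9 n55995 = n54590 := d44_2 D54562 D55995 (iv D54590) (iv D52913) (iv F236652)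
def n55996 : Q := act 3 n54563
theorem D55996 : act 3 n54563 = n55996 := rfl
theorem F250891 : act 0 n55996 = n55840 := d2_1 D55996 (iv D55840) (iv F244239)
theorem F250892 : act 1 n55996 = n55156 := d10_1 D55996 (iv D55156) (iv F244240)
theorem F250893 : act 4 n55996 = n54717 := d24_2 (iv F244241) D55996 (iv D54717) F237540 (iv F236659)
theorem F250894 : act 6 n55996 = n55483 := d26_2 (iv F244242) D55996 (iv D55483)
theorem F250895 : act 9 n55996 = n54591 := d29_2 (iv F244243) D55996 (iv D54591)
def n55997 : Q := act 3 n54564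
theorem D55997 : act 3 n54564 = n55997 := rfl
theorem F250896 : act 0 n55997 = n55849 := d2_1 D55997 (iv D55849) (iv F244244)
theorem F250897 : act 1 n55997 = n55531 := d10_1 D55997 (iv D55531) (iv F244245)
theorem F250898 : act 2 n55997 = n54719 := d17_1 D55997 (iv D54719) F237551 (iv F236685) (iv F244246)
theorem F250899 : act 6 n55997 = n55997 := d26_2 F244248 D55997 (iv D55997)
theorem F250900 : act 7 n55997 = n54568 := d27_2 (iv F244249) D55997 (iv D54568)
theorem F250901 : act 8 n55997 = n55997 := d28_2 D54564 D55997 (iv D55997) (iv D54564) F236666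
theorem F250902 : act 9 n55997 = n54594 := d29_2 (iv F244250) D55997 (iv D54594)
def n55998 : Q := act 9 n54565
theorem D55998 : act 9 n54565 = n55998 := rfl
theorem F250903 : act 0 n55998 = n55319 := d8_1 D55998 (iv D55319) (iv F244251)
theorem F250904 : act 1 n55998 = n54890 := d16_1 D55998 (iv D54890) (iv F244252)
theorem F250905 : act 2 n55998 = n55505 := d23_1 D55998 (iv D55505) (iv F244253)
theorem F250906 : act 3 n55998 = n55998 := d29_1 D55998 (iv D55998) F244254
theorem F250907 : act 5 n55998 = n55998 := d38_1 D55998 (iv D55998) F244255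
theorem F250908 : act 6 n55998 = n54566 := d41_1 D55998 (iv D54566) D54565
theorem F250909 : act 7 n55998 = n55215 := d43_1 D55998 (iv D55215) (iv F244256)
def n55999 : Q := act 8 n54566
theorem D55999 : act 8 n54566 = n55999 := rfl
theorem F250910 : act 0 n55999 = n55326 := d7_1 D55999 (iv D55326) (iv F244258)
theorem F250911 : act 1 n55999 = n55157 := d15_1 D55999 (iv D55157) (iv F244259)
theorem F250912 : act 2 n55999 = n55511 := d22_1 D55999 (iv D55511) (iv F244260)
theorem F250913 : act 5 n55999 = n54567 := d37_1 D55999 (iv D54567) (iv F244262)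
theorem F250914 : act 7 n55999 = n54569 := d42_1 D55999 (iv D54569) (iv F244263)
theorem F250915 : act 9 n55999 = n54596 := d44_2 D54566 D55999 (iv D54596) (iv D52919) (iv F236675)
def n56000 : Q := act 3 n54567
theorem D56000 : act 3 n54567 = n56000 := rfl
theorem F250916 : act 0 n56000 = n55332 := d2_1 D56000 (iv D55332) (iv F244264)
theorem F250917 : act 1 n56000 = n55158 := d10_1 D56000 (iv D55158) (iv F244265)
theorem F250918 : act 4 n56000 = n54722 := d24_2 (iv F244267) D56000 (iv D54722) F237572 (iv F236685)
theorem F250919 : act 6 n56000 = n56000 := d26_2 F244268 D56000 (iv D56000)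
theorem F250920 : act 7 n56000 = n54570 := d27_2 (iv F244269) D56000 (iv D54570)
theorem F250921 : act 8 n56000 = n56000 := d28_2 D54567 D56000 (iv D56000) (iv D54567) F236679
theorem F250922 : act 9 n56000 = n54597 := d29_2 (iv F244270) D56000 (iv D54597)
def n56001 : Q := act 4 n54568
theorem D56001 : act 4 n54568 = n56001 := rfl
theorem F250923 : act 0 n56001 = n55845 := d3_1 D56001 F250193 (iv F244271)
theorem F250924 : act 1 n56001 = n55219 := d11_1 D56001 F247836 (iv F244272)
theorem F250925 : act 2 n56001 = n54725 := d18_1 D56001 (iv D54725) (iv F244273)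
theorem F250926 : act 3 n56001 = n55533 := d24_1 D56001 (iv D55533) (iv D53978) (iv F236692) D54568
theorem F250927 : act 6 n56001 = n54571 := d31_2 (iv F244274) D56001 (iv D54571)
theorem F250928 : act 8 n56001 = n56001 := d33_2 F244275 D56001 (iv D56001)
theorem F250929 : act 9 n56001 = n54601 := d34_2 (iv F244276) D56001 (iv D54601)
def n56002 : Q := act 3 n54569
theorem D56002 : act 3 n54569 = n56002 := rfl
theorem F250930 : act 0 n56002 = n55327 := d2_1 D56002 (iv D55327) (iv F244277)
theorem F250931 : act 1 n56002 = n55159 := d10_1 D56002 (iv D55159) (iv F244278)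
theorem F250932 : act 5 n56002 = n54570 := d25_2 (iv F244280) D56002 (iv D54570)
theorem F250933 : act 6 n56002 = n55218 := d26_2 (iv F244281) D56002 (iv D55218)
theorem F250934 : act 8 n56002 = n56002 := d28_2 D54569 D56002 (iv D56002) (iv D54569) F236698
theorem F250935 : act 9 n56002 = n54602 := d29_2 (iv F244282) D56002 (iv D54602)
def n56003 : Q := act 2 n54570
theorem D56003 : act 2 n54570 = n56003 := rfl
theorem F250936 : act 0 n56003 = n55333 := d1_1 D56003 (iv D55333) (iv F244283)
theorem F250937 : act 1 n56003 = n55419 := d9_1 D56003 F248712 F242502 (iv F240191) (iv F244284)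
theorem F250938 : act 3 n56003 = n55416 := d17_2 D54570 D56003 F248698 (iv D53978) (iv F236703)
theorem F250939 : act 4 n56003 = n54729 := d18_2 (iv F244285) D56003 (iv D54729)
theorem F250940 : act 6 n56003 = n54572 := d20_2 (iv F244286) D56003 (iv D54572)
theorem F250941 : act 8 n56003 = n56003 := d22_2 F244287 D56003 (iv D56003)
theorem F250942 : act 9 n56003 = n54603 := d23_2 (iv F244288) D56003 (iv D54603)
def n56004 : Q := act 8 n54573
theorem D56004 : act 8 n54573 = n56004 := rfl
theorem F250943 : act 0 n56004 = n55862 := d7_1 D56004 (iv D55862) (iv F244305)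
theorem F250944 : act 1 n56004 = n55163 := d15_1 D56004 (iv D55163) (iv F244306)
theorem F250945 : act 2 n56004 = n55596 := d22_1 D56004 (iv D55596) (iv F244307)
theorem F250946 : act 4 n56004 = n54574 := d33_1 D56004 (iv D54574) (iv F244309)
theorem F250947 : act 5 n56004 = n55706 := d37_1 D56004 (iv D55706) (iv F244310)
theorem F250948 : act 6 n56004 = n54580 := d40_1 D56004 (iv D54580) (iv F244311)
theorem F250949 : act 7 n56004 = n55467 := d42_1 D56004 (iv D55467) (iv F244312)
def n56005 : Q := act 9 n54575
theorem D56005 : act 9 n54575 = n56005 := rfl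
theorem F250950 : act 0 n56005 = n55380 := d8_1 D56005 (iv D55380) (iv F244320)
theorem F250951 : act 1 n56005 = n55479 := d16_1 D56005 (iv D55479) (iv F244321)
theorem F250952 : act 2 n56005 = n54579 := d23_1 D56005 (iv D54579) (iv F244322)
theorem F250953 : act 3 n56005 = n55585 := d29_1 D56005 (iv D55585) (iv F244323)
theorem F250954 : act 4 n56005 = n54592 := d34_1 D56005 (iv D54592) (iv F244324)
theorem F250955 : act 5 n56005 = n54576 := d38_1 D56005 (iv D54576) D54575
theorem F250956 : act 7 n56005 = n54587 := d43_1 D56005 (iv D54587) (iv F244325)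
def n56006 : Q := act 8 n54576
theorem D56006 : act 8 n54576 = n56006 := rfl
theorem F250957 : act 0 n56006 = n55878 := d7_1 D56006 (iv D55878) (iv F244327)
theorem F250958 : act 1 n56006 = n55787 := d15_1 D56006 (iv D55787) (iv F244328)
theorem F250959 : act 2 n56006 = n54580 := d22_1 D56006 (iv D54580) (iv F244329)
theorem F250960 : act 4 n56006 = n54577 := d33_1 D56006 (iv D54577) (iv F244331)
theorem F250961 : act 6 n56006 = n55596 := d40_1 D56006 (iv D55596) (iv F244332)
theorem F250962 : act 7 n56006 = n54588 := d42_1 D56006 (iv D54588) (iv F244333)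
def n56007 : Q := act 3 n54577
theorem D56007 : act 3 n54577 = n56007 := rfl
theorem F250963 : act 0 n56007 = n55898 := d2_1 D56007 (iv D55898) (iv F244334)
theorem F250964 : act 1 n56007 = n55788 := d10_1 D56007 (iv D55788) (iv F244335)
theorem F250965 : act 2 n56007 = n54740 := d17_1 D56007 (iv D54740) F237698 (iv F236758) (iv F244336)
theorem F250966 : act 5 n56007 = n54594 := d25_2 (iv F244337) D56007 (iv D54594)
theorem F250967 : act 6 n56007 = n55644 := d26_2 (iv F244338) D56007 (iv D55644)
theorem F250968 : act 7 n56007 = n54589 := d27_2 (iv F244339) D56007 (iv D54589)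
theorem F250969 : act 8 n56007 = n54613 := d28_2 D54577 D56007 (iv D54613) (iv D52937) (iv F236744)
def n56008 : Q := act 9 n54578
theorem D56008 : act 9 n54578 = n56008 := rfl
theorem F250970 : act 0 n56008 = n55361 := d8_1 D56008 (iv D55361) (iv F244340)
theorem F250971 : act 1 n56008 = n55146 := d16_1 D56008 (iv D55146) (iv F244341)
theorem F250972 : act 3 n56008 = n55041 := d29_1 D56008 (iv D55041) (iv F244342)
theorem F250973 : act 4 n56008 = n54595 := d34_1 D56008 (iv D54595) (iv F244343)
theorem F250974 : act 5 n56008 = n55040 := d38_1 D56008 (iv D55040) (iv F244344)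
theorem F250975 : act 6 n56008 = n54579 := d41_1 D56008 (iv D54579) D54578
theorem F250976 : act 7 n56008 = n55230 := d43_1 D56008 (iv D55230) (iv F244345)
def n56009 : Q := act 8 n54579
theorem D56009 : act 8 n54579 = n56009 := rfl
theorem F250977 : act 0 n56009 = n55386 := d7_1 D56009 (iv D55386) (iv F244346)
theorem F250978 : act 1 n56009 = n55165 := d15_1 D56009 (iv D55165) (iv F244347)
theorem F250979 : act 4 n56009 = n54596 := d33_1 D56009 (iv D54596) (iv F244348)
theorem F250980 : act 5 n56009 = n54580 := d37_1 D56009 (iv D54580) (iv F244349)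
theorem F250981 : act 7 n56009 = n54590 := d42_1 D56009 (iv D54590) (iv F244350)
def n56010 : Q := act 3 n54580
theorem D56010 : act 3 n54580 = n56010 := rfl
theorem F250982 : act 0 n56010 = n55885 := d2_1 D56010 (iv D55885) (iv F244351)
theorem F250983 : act 1 n56010 = n55166 := d10_1 D56010 (iv D55166) (iv F244352)
theorem F250984 : act 4 n56010 = n54744 := d24_2 (iv F244353) D56010 (iv D54744) F237714 (iv F236758)
theorem F250985 : act 7 n56010 = n54591 := d27_2 (iv F244354) D56010 (iv D54591)
def n56011 : Q := act 8 n54581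
theorem D56011 : act 8 n54581 = n56011 := rfl
theorem F250986 : act 0 n56011 = n55233 := d7_1 D56011 F247912 (iv F244355)
theorem F250987 : act 1 n56011 = n54585 := d15_1 D56011 (iv D54585) (iv F244356)
theorem F250988 : act 2 n56011 = n54708 := d22_1 D56011 (iv F245143) (iv F244357)
theorem F250989 : act 3 n56011 = n54689 := d28_1 D56011 F245038 F241993 (iv F236767) D54581
theorem F250990 : act 4 n56011 = n54614 := d33_1 D56011 (iv D54614) (iv F244358)
theorem F250991 : act 5 n56011 = n54688 := d37_1 D56011 F245033 (iv F244359)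
theorem F250992 : act 6 n56011 = n54697 := d40_1 D56011 F245077 (iv F244360)
theorem F250993 : act 7 n56011 = n55451 := d42_1 D56011 F248876 (iv F244361)
def n56012 : Q := act 9 n54581
theorem D56012 : act 9 n54581 = n56012 := rfl
theorem F250994 : act 0 n56012 = n55574 := d8_1 D56012 (iv D55574) (iv F244355)
theorem F250995 : act 1 n56012 = n54586 := d16_1 D56012 (iv D54586) (iv F244356)
theorem F250996 : act 2 n56012 = n55334 := d23_1 D56012 (iv D55334) (iv F244357)
theorem F250997 : act 3 n56012 = n54582 := d29_1 D56012 (iv D54582) D54581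
theorem F250998 : act 4 n56012 = n54615 := d34_1 D56012 (iv D54615) (iv F244358)
theorem F250999 : act 5 n56012 = n55499 := d38_1 D56012 (iv D55499) (iv F244359)
theorem F251000 : act 6 n56012 = n54737 := d41_1 D56012 (iv D54737) (iv F244360)
theorem F251001 : act 7 n56012 = n55437 := d43_1 D56012 F248797 (iv F244361)
def n56013 : Q := act 8 n54582
theorem D56013 : act 8 n54582 = n56013 := rfl
theorem F251002 : act 0 n56013 = n55577 := d7_1 D56013 (iv D55577) (iv F244362)
theorem F251003 : act 1 n56013 = n54588 := d15_1 D56013 (iv D54588) (iv F244363)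
theorem F251004 : act 2 n56013 = n55167 := d22_1 D56013 (iv D55167) (iv F244364)
theorem F251005 : act 4 n56013 = n54583 := d33_1 D56013 (iv D54583) (iv F244365)
theorem F251006 : act 5 n56013 = n55500 := d37_1 D56013 (iv D55500) (iv F244366)
theorem F251007 : act 6 n56013 = n55487 := d40_1 D56013 (iv D55487) (iv F244367)
theorem F251008 : act 7 n56013 = n55787 := d42_1 D56013 (iv D55787) (iv F244368)
theorem F251009 : act 9 n56013 = n55524 := d44_2 D54582 D56013 (iv D55524) (iv D53968) (iv F236767)
def n56014 : Q := act 3 n54583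
theorem D56014 : act 3 n54583 = n56014 := rfl
theorem F251010 : act 0 n56014 = n55178 := d2_1 D56014 F247635 (iv F244369)
theorem F251011 : act 1 n56014 = n54589 := d10_1 D56014 (iv D54589) (iv F244370)
theorem F251012 : act 2 n56014 = n55141 := d17_1 D56014 (iv D55141) F240096 (iv F240250) (iv F244371)
theorem F251013 : act 5 n56014 = n54598 := d25_2 (iv F244372) D56014 (iv D54598)
theorem F251014 : act 6 n56014 = n55488 := d26_2 (iv F244373) D56014 (iv D55488)
theorem F251015 : act 7 n56014 = n55788 := d27_2 (iv F244374) D56014 (iv D55788)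
theorem F251016 : act 8 n56014 = n54617 := d28_2 D54583 D56014 (iv D54617) (iv D52940) (iv F236771)
theorem F251017 : act 9 n56014 = n55534 := d29_2 (iv F244375) D56014 (iv D55534)
def n56015 : Q := act 8 n54584
theorem D56015 : act 8 n54584 = n56015 := rfl
theorem F251018 : act 0 n56015 = n55374 := d7_1 D56015 (iv D55374) (iv F244376)
theorem F251019 : act 1 n56015 = n54688 := d15_1 D56015 F245033 (iv F244377)
theorem F251020 : act 2 n56015 = n54694 := d22_1 D56015 F245061 (iv F244378)
theorem F251021 : act 3 n56015 = n54686 := d28_1 D56015 F245023 (iv D53963) (iv F236785) (iv F244379)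
theorem F251022 : act 4 n56015 = n56015 := d33_1 D56015 (iv D56015) F244380
theorem F251023 : act 5 n56015 = n54585 := d37_1 D56015 (iv D54585) D54584
theorem F251024 : act 6 n56015 = n55236 := d40_1 D56015 (iv D55236) (iv F244381)
theorem F251025 : act 7 n56015 = n55282 := d42_1 D56015 F248149 (iv F244382)
def n56016 : Q := act 9 n54584
theorem D56016 : act 9 n54584 = n56016 := rfl
theorem F251026 : act 0 n56016 = n55375 := d8_1 D56016 (iv D55375) (iv F244376)
theorem F251027 : act 1 n56016 = n55499 := d16_1 D56016 (iv D55499) (iv F244377)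
theorem F251028 : act 2 n56016 = n54733 := d23_1 D56016 (iv D54733) (iv F244378)
theorem F251029 : act 3 n56016 = n54587 := d29_1 D56016 (iv D54587) (iv F244379)
theorem F251030 : act 4 n56016 = n56016 := d34_1 D56016 (iv D56016) F244380
theorem F251031 : act 5 n56016 = n54586 := d38_1 D56016 (iv D54586) D54584
theorem F251032 : act 6 n56016 = n55237 := d41_1 D56016 (iv D55237) (iv F244381)
theorem F251033 : act 7 n56016 = n55585 := d43_1 D56016 (iv D55585) (iv F244382)
def n56017 : Q := act 9 n54585
theorem D56017 : act 9 n54585 = n56017 := rfl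
theorem F251034 : act 0 n56017 = n55872 := d8_1 D56017 (iv D55872) (iv F244383)
theorem F251035 : act 2 n56017 = n54695 := d23_1 D56017 (iv D54695) (iv F244384)
theorem F251036 : act 4 n56017 = n54618 := d34_1 D56017 (iv D54618) (iv F244385)
theorem F251037 : act 6 n56017 = n54700 := d41_1 D56017 (iv D54700) (iv F244386)
theorem F251038 : act 7 n56017 = n55559 := d43_1 D56017 (iv D55559) (iv F244387)
def n56018 : Q := act 8 n54586
theorem D56018 : act 8 n54586 = n56018 := rfl
theorem F251039 : act 0 n56018 = n55873 := d7_1 D56018 (iv D55873) (iv F244388)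
theorem F251040 : act 2 n56018 = n54734 := d22_1 D56018 (iv D54734) (iv F244389)
theorem F251041 : act 4 n56018 = n54619 := d33_1 D56018 (iv D54619) (iv F244391)
theorem F251042 : act 6 n56018 = n54739 := d40_1 D56018 (iv D54739) (iv F244392)
theorem F251043 : act 7 n56018 = n55586 := d42_1 D56018 (iv D55586) (iv F244393)
def n56019 : Q := act 8 n54587
theorem D56019 : act 8 n54587 = n56019 := rfl
theorem F251044 : act 0 n56019 = n55381 := d7_1 D56019 (iv D55381) (iv F244394)
theorem F251045 : act 1 n56019 = n55500 := d15_1 D56019 (iv D55500) (iv F244395)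
theorem F251046 : act 2 n56019 = n54590 := d22_1 D56019 (iv D54590) (iv F244396)
theorem F251047 : act 4 n56019 = n54599 := d33_1 D56019 (iv D54599) (iv F244397)
theorem F251048 : act 5 n56019 = n54588 := d37_1 D56019 (iv D54588) (iv F244398)
theorem F251049 : act 6 n56019 = n55240 := d40_1 D56019 (iv D55240) (iv F244399)
theorem F251050 : act 9 n56019 = n55520 := d44_2 D54587 D56019 (iv D55520) (iv D53964) (iv F236785)
def n56020 : Q := act 3 n54588
theorem D56020 : act 3 n54588 = n56020 := rfl
theorem F251051 : act 0 n56020 = n55879 := d2_1 D56020 (iv D55879) (iv F244400)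
theorem F251052 : act 6 n56020 = n55489 := d26_2 (iv F244403) D56020 (iv D55489)
def n56021 : Q := act 4 n54589
theorem D56021 : act 4 n54589 = n56021 := rfl
theorem F251053 : act 0 n56021 = n55899 := d3_1 D56021 (iv D55899) (iv F244404)
theorem F251054 : act 2 n56021 = n54759 := d18_1 D56021 (iv D54759) (iv F244405)
theorem F251055 : act 6 n56021 = n55490 := d31_2 (iv F244407) D56021 (iv D55490)
theorem F251056 : act 8 n56021 = n54621 := d33_2 (iv F244408) D56021 (iv D54621)
def n56022 : Q := act 3 n54590
theorem D56022 : act 3 n54590 = n56022 := rfl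
theorem F251057 : act 0 n56022 = n55387 := d2_1 D56022 (iv D55387) (iv F244409)
theorem F251058 : act 1 n56022 = n55173 := d10_1 D56022 (iv D55173) (iv F244410)
theorem F251059 : act 5 n56022 = n54591 := d25_2 (iv F244412) D56022 (iv D54591)
theorem F251060 : act 6 n56022 = n55242 := d26_2 (iv F244413) D56022 (iv D55242)
def n56023 : Q := act 2 n54591
theorem D56023 : act 2 n54591 = n56023 := rfl
theorem F251061 : act 0 n56023 = n55886 := d1_1 D56023 (iv D55886) (iv F244414)
theorem F251062 : act 4 n56023 = n54763 := d18_2 (iv F244416) D56023 (iv D54763)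
theorem F251063 : act 6 n56023 = n55491 := d20_2 (iv F244417) D56023 (iv D55491)
def n56024 : Q := act 8 n54592
theorem D56024 : act 8 n54592 = n56024 := rfl
theorem F251064 : act 0 n56024 = n55406 := d7_1 D56024 (iv D55406) (iv F244418)
theorem F251065 : act 1 n56024 = n55480 := d15_1 D56024 (iv D55480) (iv F244419)
theorem F251066 : act 2 n56024 = n54596 := d22_1 D56024 (iv D54596) (iv F244420)
theorem F251067 : act 5 n56024 = n54593 := d37_1 D56024 (iv D54593) (iv F244422)
theorem F251068 : act 7 n56024 = n54599 := d42_1 D56024 (iv D54599) (iv F244423)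
theorem F251069 : act 9 n56024 = n55511 := d44_2 D54592 D56024 (iv D55511) (iv D53956) (iv F236808)
def n56025 : Q := act 3 n54593
theorem D56025 : act 3 n54593 = n56025 := rfl
theorem F251070 : act 0 n56025 = n55418 := d2_1 D56025 (iv D55418) (iv F244424)
theorem F251071 : act 1 n56025 = n55503 := d10_1 D56025 (iv D55503) (iv F244425)
theorem F251072 : act 6 n56025 = n56025 := d26_2 F244428 D56025 (iv D56025)
theorem F251073 : act 7 n56025 = n54600 := d27_2 (iv F244429) D56025 (iv D54600)
theorem F251074 : act 8 n56025 = n56025 := d28_2 D54593 D56025 (iv D56025) (iv D54593) F236812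
theorem F251075 : act 9 n56025 = n55529 := d29_2 (iv F244430) D56025 (iv D55529)
def n56026 : Q := act 4 n54594
theorem D56026 : act 4 n54594 = n56026 := rfl
theorem F251076 : act 0 n56026 = n55891 := d3_1 D56026 F250296 (iv F244431)
theorem F251077 : act 1 n56026 = n55249 := d11_1 D56026 F247982 (iv F244432)
theorem F251078 : act 2 n56026 = n54766 := d18_1 D56026 (iv D54766) (iv F244433)
theorem F251079 : act 6 n56026 = n56026 := d31_2 F244434 D56026 (iv D56026)
theorem F251080 : act 7 n56026 = n54601 := d32_2 (iv F244435) D56026 (iv D54601)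
theorem F251081 : act 8 n56026 = n54622 := d33_2 (iv F244436) D56026 (iv D54622)
def n56027 : Q := act 8 n54595
theorem D56027 : act 8 n54595 = n56027 := rfl
theorem F251082 : act 0 n56027 = n55398 := d7_1 D56027 (iv D55398) (iv F244437)
theorem F251083 : act 1 n56027 = n55147 := d15_1 D56027 (iv D55147) (iv F244438)
theorem F251084 : act 5 n56027 = n56027 := d37_1 D56027 (iv D56027) F244440
theorem F251085 : act 6 n56027 = n54596 := d40_1 D56027 (iv D54596) (iv F244441)
theorem F251086 : act 7 n56027 = n55247 := d42_1 D56027 (iv D55247) (iv F244442)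
def n56028 : Q := act 3 n54596
theorem D56028 : act 3 n54596 = n56028 := rfl
theorem F251087 : act 0 n56028 = n55411 := d2_1 D56028 (iv D55411) (iv F244443)
theorem F251088 : act 1 n56028 = n55175 := d10_1 D56028 (iv D55175) (iv F244444)
theorem F251089 : act 5 n56028 = n54597 := d25_2 (iv F244445) D56028 (iv D54597)
theorem F251090 : act 7 n56028 = n54602 := d27_2 (iv F244446) D56028 (iv D54602)
theorem F251091 : act 8 n56028 = n54608 := d28_2 D54596 D56028 (iv D54608) (iv D52932) (iv F236828)
def n56029 : Q := act 2 n54597
theorem D56029 : act 2 n54597 = n56029 := rfl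
theorem F251092 : act 0 n56029 = n55420 := d1_1 D56029 (iv D55420) (iv F244447)
theorem F251093 : act 1 n56029 = n55927 := d9_1 D56029 (iv D55927) F243602 (iv F240290) (iv F244448)
theorem F251094 : act 4 n56029 = n54770 := d18_2 (iv F244449) D56029 (iv D54770)
theorem F251095 : act 6 n56029 = n56029 := d20_2 F244450 D56029 (iv D56029)
theorem F251096 : act 7 n56029 = n54603 := d21_2 (iv F244451) D56029 (iv D54603)
theorem F251097 : act 8 n56029 = n54609 := d22_2 (iv F244452) D56029 (iv D54609)
def n56030 : Q := act 3 n54599
theorem D56030 : act 3 n54599 = n56030 := rfl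
theorem F251098 : act 0 n56030 = n55407 := d2_1 D56030 (iv D55407) (iv F244461)
theorem F251099 : act 1 n56030 = n55501 := d10_1 D56030 (iv D55501) (iv F244462)
theorem F251100 : act 5 n56030 = n54600 := d25_2 (iv F244464) D56030 (iv D54600)
theorem F251101 : act 6 n56030 = n55250 := d26_2 (iv F244465) D56030 (iv D55250)
theorem F251102 : act 8 n56030 = n56030 := d28_2 D54599 D56030 (iv D56030) (iv D54599) F236846
theorem F251103 : act 9 n56030 = n55521 := d29_2 (iv F244466) D56030 (iv D55521)
def n56031 : Q := act 2 n54600
theorem D56031 : act 2 n54600 = n56031 := rfl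
theorem F251104 : act 0 n56031 = n55330 := d1_1 D56031 F248362 (iv F244467)
theorem F251105 : act 1 n56031 = n55845 := d9_1 D56031 (iv D55845) F243281 (iv F241920) (iv F244468)
theorem F251106 : act 3 n56031 = n54603 := d17_2 D54600 D56031 (iv D54603) (iv D52926) (iv F236851)
theorem F251107 : act 6 n56031 = n54604 := d20_2 (iv F244469) D56031 (iv D54604)
theorem F251108 : act 8 n56031 = n56031 := d22_2 F244470 D56031 (iv D56031)
theorem F251109 : act 9 n56031 = n55416 := d23_2 (iv F244471) D56031 F248698
theorem F251110 : act 4 n55633 = n56031 := d34_3 F251109 F248699 (iv F249627)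
def n56032 : Q := act 4 n54600
theorem D56032 : act 4 n54600 = n56032 := rfl
theorem F251111 : act 0 n56032 = n55419 := d3_1 D56032 (iv D55419) (iv F244467)
theorem F251112 : act 1 n56032 = n55251 := d11_1 D56032 F247992 (iv F244468)
theorem F251113 : act 2 n56032 = n55633 := d18_1 D56032 F251110 (iv D56031)
theorem F251114 : act 3 n56032 = n54601 := d24_1 D56032 (iv D54601) (iv D52924) (iv F236852) D54600
theorem F251115 : act 6 n56032 = n54605 := d31_2 (iv F244469) D56032 (iv D54605)
theorem F251116 : act 8 n56032 = n56032 := d33_2 F244470 D56032 (iv D56032)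
theorem F251117 : act 9 n56032 = n55533 := d34_2 (iv F244471) D56032 (iv D55533)
def n56033 : Q := act 5 n54601
theorem D56033 : act 5 n54601 = n56033 := rfl
theorem F251118 : act 0 n56033 = n55896 := d4_1 D56033 F250313 (iv F244472)
theorem F251119 : act 1 n56033 = n55252 := d12_1 D56033 F247997 (iv F244473)
theorem F251120 : act 2 n56033 = n54776 := d19_1 D56033 (iv D54776) (iv F244474)
theorem F251121 : act 8 n56033 = n54623 := d37_2 (iv F244476) D56033 (iv D54623)
def n56034 : Q := act 2 n54602
theorem D56034 : act 2 n54602 = n56034 := rfl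
theorem F251122 : act 0 n56034 = n55412 := d1_1 D56034 (iv D55412) (iv F244477)
theorem F251123 : act 5 n56034 = n54603 := d19_2 (iv F244479) D56034 (iv D54603)
theorem F251124 : act 6 n56034 = n55252 := d20_2 (iv F244480) D56034 (iv D55252)
theorem F251125 : act 8 n56034 = n54610 := d22_2 (iv F244481) D56034 (iv D54610)
def n56035 : Q := act 4 n54602
theorem D56035 : act 4 n54602 = n56035 := rfl
theorem F251126 : act 0 n56035 = n55413 := d3_1 D56035 (iv D55413) (iv F244477)
theorem F251127 : act 1 n56035 = n55179 := d11_1 D56035 (iv D55179) (iv F244478)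
theorem F251128 : act 5 n56035 = n54780 := d30_2 (iv F244479) D56035 (iv D54780) F237887 (iv F236865)
theorem F251129 : act 6 n56035 = n55253 := d31_2 (iv F244480) D56035 (iv D55253)
theorem F251130 : act 8 n56035 = n54611 := d33_2 (iv F244481) D56035 (iv D54611)
def n56036 : Q := act 1 n54603
theorem D56036 : act 1 n54603 = n56036 := rfl
theorem F251131 : act 0 n56036 = n55533 := d0_1 D56036 F249242 F242053 F241350 (iv F244482)
theorem F251132 : act 2 n56036 = n54783 := d9_2 D54603 D56036 F245552 (iv D53587) (iv F236864)
theorem F251133 : act 3 n56036 = n55845 := d10_2 F251106 D56036 (iv F251105)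
theorem F251134 : act 4 n56036 = n54781 := d11_2 (iv F244483) D56036 (iv D54781)
theorem F251135 : act 6 n56036 = n54606 := d13_2 (iv F244484) D56036 F244503
theorem F251136 : act 7 n56036 = n55927 := d14_2 F251096 D56036 (iv F251093)
theorem F251137 : act 8 n56036 = n54612 := d15_2 (iv F244485) D56036 (iv D54612)
theorem F251138 : act 9 n56036 = n55419 := d16_2 F250942 D56036 (iv F250937)
def n56037 : Q := act 3 n54607
theorem D56037 : act 3 n54607 = n56037 := rfl
theorem F251139 : act 0 n56037 = n55421 := d2_1 D56037 (iv D55421) (iv F244510)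
theorem F251140 : act 1 n56037 = n55181 := d10_1 D56037 (iv D55181) (iv F244511)
theorem F251141 : act 5 n56037 = n56037 := d25_2 F244514 D56037 (iv D56037)
theorem F251142 : act 6 n56037 = n54608 := d26_2 (iv F244515) D56037 (iv D54608)
theorem F251143 : act 7 n56037 = n55254 := d27_2 (iv F244516) D56037 (iv D55254)
theorem F251144 : act 9 n56037 = n56037 := d29_2 F244517 D56037 (iv D56037)
def n56038 : Q := act 2 n54608
theorem D56038 : act 2 n54608 = n56038 := rfl
theorem F251145 : act 0 n56038 = n55427 := d1_1 D56038 (iv D55427) (iv F244518)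
theorem F251146 : act 1 n56038 = n55909 := d9_1 D56038 (iv D55909) F243501 (iv F240332) (iv F244519)
theorem F251147 : act 3 n56038 = n56038 := d17_2 D54608 D56038 (iv D56038) (iv D54608) F236901
theorem F251148 : act 5 n56038 = n54609 := d19_2 (iv F244520) D56038 (iv D54609)
theorem F251149 : act 7 n56038 = n54610 := d21_2 (iv F244521) D56038 (iv D54610)
theorem F251150 : act 9 n56038 = n56038 := d23_2 F244522 D56038 (iv D56038)
def n56039 : Q := act 4 n54608
theorem D56039 : act 4 n54608 = n56039 := rfl
theorem F251151 : act 0 n56039 = n55428 := d3_1 D56039 (iv D55428) (iv F244518)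
theorem F251152 : act 1 n56039 = n55182 := d11_1 D56039 (iv D55182) (iv F244519)
theorem F251153 : act 3 n56039 = n55702 := d24_1 D56039 F249841 F242812 (iv F236902) D54608
theorem F251154 : act 5 n56039 = n54788 := d30_2 (iv F244520) D56039 (iv D54788) F237960 (iv F236908)
theorem F251155 : act 7 n56039 = n54611 := d32_2 (iv F244521) D56039 (iv D54611)
theorem F251156 : act 9 n56039 = n56039 := d34_2 F244522 D56039 (iv D56039)
def n56040 : Q := act 1 n54610
theorem D56040 : act 1 n54610 = n56040 := rfl
theorem F251157 : act 0 n56040 = n55550 := d0_1 D56040 F249320 F242152 F241384 (iv F244530)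
theorem F251158 : act 2 n56040 = n54812 := d9_2 D54610 D56040 F245715 (iv D53594) (iv F236913)
theorem F251159 : act 3 n56040 = n56040 := d10_2 F244531 D56040 (iv D56040)
theorem F251160 : act 5 n56040 = n54612 := d12_2 (iv F244532) D56040 (iv D54612)
theorem F251161 : act 6 n56040 = n54623 := d13_2 (iv F244533) D56040 F244612
theorem F251162 : act 7 n56040 = n55909 := d14_2 F251149 D56040 (iv F251146)
theorem F251163 : act 9 n56040 = n56040 := d16_2 F244534 D56040 (iv D56040)
def n56041 : Q := act 4 n54610
theorem D56041 : act 4 n54610 = n56041 := rfl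
theorem F251164 : act 0 n56041 = n55429 := d3_1 D56041 (iv D55429) (iv F244530)
theorem F251165 : act 2 n56041 = n54611 := d18_1 D56041 (iv D54611) D54610
theorem F251166 : act 5 n56041 = n54794 := d30_2 (iv F244532) D56041 (iv D54794) F237979 (iv F236919)
theorem F251167 : act 6 n56041 = n55257 := d31_2 (iv F244533) D56041 (iv D55257)
theorem F251168 : act 9 n56041 = n56041 := d34_2 F244534 D56041 (iv D56041)
def n56042 : Q := act 4 n54613
theorem D56042 : act 4 n54613 = n56042 := rfl
theorem F251169 : act 0 n56042 = n55922 := d3_1 D56042 (iv D55922) (iv F244547)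
theorem F251170 : act 1 n56042 = n55902 := d11_1 D56042 (iv D55902) (iv F244548)
theorem F251171 : act 2 n56042 = n54798 := d18_1 D56042 (iv D54798) (iv F244549)
theorem F251172 : act 3 n56042 = n55641 := d24_1 D56042 (iv D55641) (iv D54103) (iv F236932) D54613
theorem F251173 : act 6 n56042 = n55645 := d31_2 (iv F244551) D56042 (iv D55645)
theorem F251174 : act 7 n56042 = n54621 := d32_2 (iv F244552) D56042 (iv D54621)
theorem F251175 : act 9 n56042 = n56042 := d34_2 F244553 D56042 (iv D56042)
def n56043 : Q := act 9 n54614
theorem D56043 : act 9 n54614 = n56043 := rfl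
theorem F251176 : act 0 n56043 = n55260 := d8_1 D56043 (iv D55260) (iv F244554)
theorem F251177 : act 1 n56043 = n54618 := d16_1 D56043 (iv D54618) (iv F244555)
theorem F251178 : act 2 n56043 = n55259 := d23_1 D56043 (iv D55259) (iv F244556)
theorem F251179 : act 3 n56043 = n56043 := d29_1 D56043 (iv D56043) F244557
theorem F251180 : act 5 n56043 = n56043 := d38_1 D56043 (iv D56043) F244558
theorem F251181 : act 6 n56043 = n54698 := d41_1 D56043 (iv D54698) (iv F244559)
theorem F251182 : act 7 n56043 = n55449 := d43_1 D56043 F248866 (iv F244560)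
def n56044 : Q := act 8 n54615
theorem D56044 : act 8 n54615 = n56044 := rfl
theorem F251183 : act 0 n56044 = n55904 := d7_1 D56044 (iv D55904) (iv F244561)
theorem F251184 : act 1 n56044 = n54619 := d15_1 D56044 (iv D54619) (iv F244562)
theorem F251185 : act 2 n56044 = n55335 := d22_1 D56044 (iv D55335) (iv F244563)
theorem F251186 : act 5 n56044 = n56044 := d37_1 D56044 (iv D56044) F244565
theorem F251187 : act 6 n56044 = n54738 := d40_1 D56044 (iv D54738) (iv F244566)
theorem F251188 : act 7 n56044 = n55435 := d42_1 D56044 F248787 (iv F244567)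
def n56045 : Q := act 3 n54616
theorem D56045 : act 3 n54616 = n56045 := rfl
theorem F251189 : act 0 n56045 = n55905 := d2_1 D56045 (iv D55905) (iv F244568)
theorem F251190 : act 1 n56045 = n54620 := d10_1 D56045 (iv D54620) (iv F244569)
theorem F251191 : act 2 n56045 = n55115 := d17_1 D56045 (iv D55115) F239909 (iv F237002) (iv F244570)
theorem F251192 : act 5 n56045 = n56045 := d25_2 F244572 D56045 (iv D56045)
theorem F251193 : act 6 n56045 = n54797 := d26_2 (iv F244573) D56045 (iv D54797)
theorem F251194 : act 7 n56045 = n55125 := d27_2 (iv F244574) D56045 F247374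
theorem F251195 : act 9 n56045 = n56045 := d29_2 F244575 D56045 (iv D56045)
def n56046 : Q := act 4 n54617
theorem D56046 : act 4 n54617 = n56046 := rfl
theorem F251196 : act 0 n56046 = n55185 := d3_1 D56046 (iv D55185) (iv F244576)
theorem F251197 : act 1 n56046 = n54621 := d11_1 D56046 (iv D54621) (iv F244577)
theorem F251198 : act 2 n56046 = n55142 := d18_1 D56046 (iv D55142) (iv F244578)
theorem F251199 : act 5 n56046 = n55257 := d30_2 (iv F244579) D56046 (iv D55257) F240707 F236993
theorem F251200 : act 6 n56046 = n55494 := d31_2 (iv F244580) D56046 (iv D55494)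
theorem F251201 : act 7 n56046 = n55902 := d32_2 (iv F244581) D56046 (iv D55902)
theorem F251202 : act 9 n56046 = n56046 := d34_2 F244582 D56046 (iv D56046)
def n56047 : Q := act 8 n54618
theorem D56047 : act 8 n54618 = n56047 := rfl
theorem F251203 : act 0 n56047 = n55917 := d7_1 D56047 (iv D55917) (iv F244583)
theorem F251204 : act 2 n56047 = n54696 := d22_1 D56047 (iv D54696) (iv F244584)
theorem F251205 : act 5 n56047 = n56047 := d37_1 D56047 (iv D56047) F244586
theorem F251206 : act 6 n56047 = n54701 := d40_1 D56047 (iv D54701) (iv F244587)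
theorem F251207 : act 7 n56047 = n55560 := d42_1 D56047 (iv D55560) (iv F244588)
theorem F251208 : act 9 n56047 = n54619 := d44_2 D54618 D56047 (iv D54619) (iv D52942) D52941
def n56048 : Q := act 3 n54619
theorem D56048 : act 3 n54619 = n56048 := rfl
theorem F251209 : act 0 n56048 = n55918 := d2_1 D56048 (iv D55918) (iv F244589)
theorem F251210 : act 2 n56048 = n55644 := d17_1 D56048 (iv D55644) (iv F244315) F244316 (iv F244590)
theorem F251211 : act 5 n56048 = n56048 := d25_2 F244591 D56048 (iv D56048)
theorem F251212 : act 6 n56048 = n54740 := d26_2 (iv F244592) D56048 (iv D54740)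
theorem F251213 : act 7 n56048 = n55587 := d27_2 (iv F244593) D56048 (iv D55587)
theorem F251214 : act 8 n56048 = n54620 := d28_2 D54619 D56048 (iv D54620) (iv D52943) (iv F236965)
def n56049 : Q := act 4 n54620
theorem D56049 : act 4 n54620 = n56049 := rfl
theorem F251215 : act 0 n56049 = n55921 := d3_1 D56049 (iv D55921) (iv F244594)
theorem F251216 : act 2 n56049 = n55645 := d18_1 D56049 (iv D55645) (iv F244595)
theorem F251217 : act 3 n56049 = n54621 := d24_1 D56049 (iv D54621) (iv D52944) (iv F236971) D54620
theorem F251218 : act 6 n56049 = n54798 := d31_2 (iv F244597) D56049 (iv D54798)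
theorem F251219 : act 7 n56049 = n55641 := d32_2 (iv F244598) D56049 (iv D55641)
theorem F251220 : act 9 n56049 = n56049 := d34_2 F244599 D56049 (iv D56049)
def n56050 : Q := act 5 n54621
theorem D56050 : act 5 n54621 = n56050 := rfl
theorem F251221 : act 0 n56050 = n55926 := d4_1 D56050 F250408 (iv F244600)
theorem F251222 : act 1 n56050 = n55257 := d12_1 D56050 (iv F251199) F251197
theorem F251223 : act 2 n56050 = n54808 := d19_1 D56050 (iv D54808) (iv F244601)
theorem F251224 : act 4 n56050 = n54623 := d30_1 D56050 (iv D54623) (iv D52947) (iv F236978) D54621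
theorem F251225 : act 9 n56050 = n56050 := d38_2 F244603 D56050 (iv D56050)
def n56051 : Q := act 5 n54622
theorem D56051 : act 5 n54622 = n56051 := rfl
theorem F251226 : act 0 n56051 = n55924 := d4_1 D56051 (iv D55924) (iv F244604)
theorem F251227 : act 1 n56051 = n55255 := d12_1 D56051 F248007 (iv F244605)
theorem F251228 : act 2 n56051 = n54810 := d19_1 D56051 (iv D54810) (iv F244606)
theorem F251229 : act 3 n56051 = n56051 := d25_1 D56051 (iv D56051) F244607
theorem F251230 : act 7 n56051 = n54623 := d36_2 (iv F244609) D56051 (iv D54623)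
theorem F251231 : act 9 n56051 = n56051 := d38_2 F244610 D56051 (iv D56051)
def n56052 : Q := act 9 n54624
theorem D56052 : act 9 n54624 = n56052 := rfl
theorem F251232 : act 0 n56052 = n55186 := d8_1 D56052 (iv D55186) (iv F244616)
theorem F251233 : act 1 n56052 = n54649 := d16_1 D56052 (iv D54649) (iv F244617)
theorem F251234 : act 2 n56052 = n55171 := d23_1 D56052 (iv D55171) (iv F244618)
theorem F251235 : act 3 n56052 = n55151 := d29_1 D56052 (iv D55151) (iv F244619)
theorem F251236 : act 4 n56052 = n54625 := d34_1 D56052 (iv D54625) D54624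
theorem F251237 : act 5 n56052 = n55191 := d38_1 D56052 (iv D55191) (iv F244620)
theorem F251238 : act 6 n56052 = n55144 := d41_1 D56052 (iv D55144) (iv F244621)
theorem F251239 : act 7 n56052 = n54626 := d43_1 D56052 (iv D54626) (iv F244622)
def n56053 : Q := act 8 n54625
theorem D56053 : act 8 n54625 = n56053 := rfl
theorem F251240 : act 0 n56053 = n55187 := d7_1 D56053 (iv D55187) (iv F244624)
theorem F251241 : act 1 n56053 = n54650 := d15_1 D56053 (iv D54650) (iv F244625)
theorem F251242 : act 2 n56053 = n55176 := d22_1 D56053 (iv D55176) (iv F244626)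
theorem F251243 : act 3 n56053 = n55264 := d28_1 D56053 (iv D55264) F240767 (iv F237031) (iv F244627)
theorem F251244 : act 5 n56053 = n54628 := d37_1 D56053 (iv D54628) (iv F244628)
theorem F251245 : act 6 n56053 = n55145 := d40_1 D56053 (iv D55145) (iv F244629)
theorem F251246 : act 7 n56053 = n54627 := d42_1 D56053 (iv D54627) (iv F244630)
theorem F251247 : act 9 n56053 = n54635 := d44_2 D54625 D56053 (iv D54635) (iv D52960) (iv F237023)
def n56054 : Q := act 8 n54626
theorem D56054 : act 8 n54626 = n56054 := rfl
theorem F251248 : act 0 n56054 = n55188 := d7_1 D56054 (iv D55188) (iv F244631)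
theorem F251249 : act 1 n56054 = n54655 := d15_1 D56054 (iv D54655) (iv F244632)
theorem F251250 : act 2 n56054 = n55172 := d22_1 D56054 (iv D55172) (iv F244633)
theorem F251251 : act 4 n56054 = n54627 := d33_1 D56054 (iv D54627) (iv F244635)
theorem F251252 : act 5 n56054 = n55195 := d37_1 D56054 (iv D55195) (iv F244636)
theorem F251253 : act 6 n56054 = n55169 := d40_1 D56054 (iv D55169) (iv F244637)
theorem F251254 : act 9 n56054 = n54640 := d44_2 D54626 D56054 (iv D54640) (iv D52964) (iv F237038)
def n56055 : Q := act 4 n54629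
theorem D56055 : act 4 n54629 = n56055 := rfl
theorem F251255 : act 0 n56055 = n55073 := d3_1 D56055 F247162 (iv F244653)
theorem F251256 : act 1 n56055 = n55210 := d11_1 D56055 F247793 (iv F244654)
theorem F251257 : act 2 n56055 = n54630 := d18_1 D56055 (iv D54630) D54629
theorem F251258 : act 6 n56055 = n54632 := d31_2 (iv F244657) D56055 (iv D54632)
theorem F251259 : act 7 n56055 = n54889 := d32_2 (iv F244658) D56055 (iv D54889)
theorem F251260 : act 8 n56055 = n55069 := d33_2 (iv F244659) D56055 F247138
theorem F251261 : act 3 n56055 = n55674 := d46_3 (iv F244659) F244656 D56055 F249765 F242991 F235174 (iv F235262) (iv D52587) (iv D50601) (iv D48440) F190487 F133890 (iv F204294) F189947 F133539 (iv D31623) F93168 (iv F133457) (iv D31600) F203596 D42877 F179168 F124867 D42879 F203821 (iv F203012) F187084 (iv F187258) D47985 (iv F224840) F224839 (iv F226235) (iv F235268) (iv F240901) (iv D53716) D53715 F240899 F235491 F226963 (iv F229442) F229441 F219877 F219874 F214473 F207247 F135836 (iv D32190) F94775 F66444 (iv F66631) F204760 (iv F204514) F126912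 (iv D29909) F88634 (iv F87585) (iv F125365) D43087 D47654 (iv F222138) (iv F231542) (iv F239918)
theorem F251262 : act 5 n55667 = n56055 := d46_1 D55667 (iv D56055) F244655 (iv D54629) F237060 F228787 (iv F228989) F228986 D53022 F237463 (iv F243244) (iv F248127) F248126 F242337 (iv F242206) (iv D54012) F234067 F234066 (iv D50603) (iv F223797) F223801 F216342 (iv F214422) F214421 (iv D44758) F130098 F90844 F90847 (iv F205199) (iv D29034) (iv D19958) F60337 (iv F61305) (iv F87453) (iv D20277) (iv D13945) F43048 F30362 F21505 F21504 F21503 F15271 (iv F21386) F21385 (iv F30192) (iv F42788) (iv F60053) (iv F85672) D28862 F122546 (iv F123023) D42216 D46861 F209577 (iv F212994) F212998 D47613 (iv F223250) (iv F232731) (iv F239744) (iv F247155) F247154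
def n56056 : Q := act 9 n54629
theorem D56056 : act 9 n54629 = n56056 := rfl
theorem F251263 : act 0 n56056 = n55119 := d8_1 D56056 (iv D55119) (iv F244653)
theorem F251264 : act 1 n56056 = n55215 := d16_1 D56056 (iv D55215) (iv F244654)
theorem F251265 : act 2 n56056 = n54631 := d23_1 D56056 (iv D54631) D54629
theorem F251266 : act 3 n56056 = n56056 := d29_1 D56056 (iv D56056) F244655
theorem F251267 : act 5 n56056 = n56056 := d38_1 D56056 (iv D56056) F244656
theorem F251268 : act 6 n56056 = n54633 := d41_1 D56056 (iv D54633) (iv F244657)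
theorem F251269 : act 7 n56056 = n54890 := d43_1 D56056 (iv D54890) (iv F244658)
def n56057 : Q := act 5 n54630
theorem D56057 : act 5 n54630 = n56057 := rfl
theorem F251270 : act 0 n56057 = n54898 := d4_1 D56057 F246271 (iv F244660)
theorem F251271 : act 1 n56057 = n54659 := d12_1 D56057 (iv D54659) (iv F244661)
theorem F251272 : act 2 n56057 = n55667 := d19_1 D56057 F251262 F251257
theorem F251273 : act 3 n56057 = n54865 := d25_1 D56057 F246064 (iv F244662)
theorem F251274 : act 4 n56057 = n56057 := d30_1 D56057 (iv D56057) (iv D54630) F237061 D54630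
theorem F251275 : act 6 n56057 = n55072 := d35_2 (iv F244663) D56057 (iv D55072) F239726 (iv F237082)
theorem F251276 : act 7 n56057 = n54891 := d36_2 (iv F244664) D56057 (iv D54891)
theorem F251277 : act 8 n56057 = n55143 := d37_2 (iv F244665) D56057 (iv D55143)
def n56058 : Q := act 9 n54630
theorem D56058 : act 9 n54630 = n56058 := rfl
theorem F251278 : act 0 n56058 = n55189 := d8_1 D56058 (iv D55189) (iv F244660)
theorem F251279 : act 1 n56058 = n54660 := d16_1 D56058 (iv D54660) (iv F244661)
theorem F251280 : act 3 n56058 = n54894 := d29_1 D56058 (iv D54894) (iv F244662)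
theorem F251281 : act 4 n56058 = n54631 := d34_1 D56058 (iv D54631) D54630
theorem F251282 : act 6 n56058 = n54634 := d41_1 D56058 (iv D54634) (iv F244663)
theorem F251283 : act 7 n56058 = n54892 := d43_1 D56058 (iv D54892) (iv F244664)
def n56059 : Q := act 8 n54631
theorem D56059 : act 8 n54631 = n56059 := rfl
theorem F251284 : act 0 n56059 = n55190 := d7_1 D56059 (iv D55190) (iv F244666)
theorem F251285 : act 1 n56059 = n54661 := d15_1 D56059 (iv D54661) (iv F244667)
theorem F251286 : act 3 n56059 = n55020 := d28_1 D56059 (iv D55020) F239523 (iv F237072) (iv F244668)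
theorem F251287 : act 5 n56059 = n56059 := d37_1 D56059 (iv D56059) F244669
theorem F251288 : act 6 n56059 = n54635 := d40_1 D56059 (iv D54635) (iv F244670)
theorem F251289 : act 7 n56059 = n54893 := d42_1 D56059 (iv D54893) (iv F244671)
theorem F251290 : act 9 n56059 = n55145 := d44_2 D54631 D56059 (iv D55145) (iv D53546) (iv F237064)
def n56060 : Q := act 9 n54632
theorem D56060 : act 9 n54632 = n56060 := rfl
theorem F251291 : act 0 n56060 = n55191 := d8_1 D56060 (iv D55191) (iv F244672)
theorem F251292 : act 1 n56060 = n55211 := d16_1 D56060 (iv D55211) (iv F244673)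
theorem F251293 : act 2 n56060 = n54634 := d23_1 D56060 (iv D54634) (iv F244674)
theorem F251294 : act 3 n56060 = n55758 := d29_1 D56060 (iv D55758) (iv F244678)
theorem F251295 : act 4 n56060 = n54633 := d34_1 D56060 (iv D54633) D54632
theorem F251296 : act 5 n56060 = n55186 := d38_1 D56060 (iv D55186) (iv F244675)
theorem F251297 : act 7 n56060 = n54637 := d43_1 D56060 (iv D54637) (iv F244676)
def n56061 : Q := act 8 n54633
theorem D56061 : act 8 n54633 = n56061 := rfl
theorem F251298 : act 0 n56061 = n55192 := d7_1 D56061 (iv D55192) (iv F244679)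
theorem F251299 : act 1 n56061 = n55216 := d15_1 D56061 (iv D55216) (iv F244680)
theorem F251300 : act 2 n56061 = n54635 := d22_1 D56061 (iv D54635) (iv F244681)
theorem F251301 : act 5 n56061 = n54641 := d37_1 D56061 (iv D54641) (iv F244683)
theorem F251302 : act 7 n56061 = n54638 := d42_1 D56061 (iv D54638) (iv F244684)
theorem F251303 : act 9 n56061 = n55176 := d44_2 D54633 D56061 (iv D55176) (iv D53584) (iv F237078)
def n56062 : Q := act 8 n54634
theorem D56062 : act 8 n54634 = n56062 := rfl
theorem F251304 : act 0 n56062 = n55193 := d7_1 D56062 (iv D55193) (iv F244685)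
theorem F251305 : act 1 n56062 = n54662 := d15_1 D56062 (iv D54662) (iv F244686)
theorem F251306 : act 4 n56062 = n54635 := d33_1 D56062 (iv D54635) (iv F244688)
theorem F251307 : act 5 n56062 = n55723 := d37_1 D56062 (iv D55723) (iv F244689)
theorem F251308 : act 7 n56062 = n54640 := d42_1 D56062 (iv D54640) (iv F244690)
def n56063 : Q := act 9 n54636
theorem D56063 : act 9 n54636 = n56063 := rfl
theorem F251309 : act 0 n56063 = n55194 := d8_1 D56063 (iv D55194) (iv F244696)
theorem F251310 : act 1 n56063 = n55205 := d16_1 D56063 (iv D55205) (iv F244697)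
theorem F251311 : act 2 n56063 = n55162 := d23_1 D56063 (iv D55162) (iv F244698)
theorem F251312 : act 3 n56063 = n54637 := d29_1 D56063 (iv D54637) D54636
theorem F251313 : act 4 n56063 = n56063 := d34_1 D56063 (iv D56063) F244699
theorem F251314 : act 5 n56063 = n55160 := d38_1 D56063 (iv D55160) (iv F244700)
theorem F251315 : act 6 n56063 = n55148 := d41_1 D56063 (iv D55148) (iv F244701)
theorem F251316 : act 7 n56063 = n55758 := d43_1 D56063 (iv D55758) (iv F244702)
def n56064 : Q := act 8 n54637
theorem D56064 : act 8 n54637 = n56064 := rfl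
theorem F251317 : act 0 n56064 = n55195 := d7_1 D56064 (iv D55195) (iv F244704)
theorem F251318 : act 1 n56064 = n55213 := d15_1 D56064 (iv D55213) (iv F244705)
theorem F251319 : act 2 n56064 = n54640 := d22_1 D56064 (iv D54640) (iv F244706)
theorem F251320 : act 4 n56064 = n54638 := d33_1 D56064 (iv D54638) (iv F244707)
theorem F251321 : act 5 n56064 = n55188 := d37_1 D56064 (iv D55188) (iv F244708)
theorem F251322 : act 6 n56064 = n55155 := d40_1 D56064 (iv D55155) (iv F244709)
theorem F251323 : act 9 n56064 = n55172 := d44_2 D54637 D56064 (iv D55172) (iv D53578) (iv F237094)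
def n56065 : Q := act 3 n54638
theorem D56065 : act 3 n54638 = n56065 := rfl
theorem F251324 : act 0 n56065 = n55196 := d2_1 D56065 (iv D55196) (iv F244710)
theorem F251325 : act 1 n56065 = n55218 := d10_1 D56065 (iv D55218) (iv F244711)
theorem F251326 : act 2 n56065 = n55637 := d17_1 D56065 (iv D55637) F242509 (iv F237115) (iv F244712)
theorem F251327 : act 5 n56065 = n54642 := d25_2 (iv F244713) D56065 (iv D54642)
theorem F251328 : act 6 n56065 = n55159 := d26_2 (iv F244714) D56065 (iv D55159)
theorem F251329 : act 8 n56065 = n56065 := d28_2 D54638 D56065 (iv D56065) (iv D54638) F237098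
theorem F251330 : act 9 n56065 = n55177 := d29_2 (iv F244715) D56065 (iv D55177)
def n56066 : Q := act 8 n54639
theorem D56066 : act 8 n54639 = n56066 := rfl
theorem F251331 : act 0 n56066 = n55172 := d7_1 D56066 (iv D55172) (iv F244716)
theorem F251332 : act 1 n56066 = n54667 := d15_1 D56066 (iv D54667) (iv F244717)
theorem F251333 : act 2 n56066 = n55188 := d22_1 D56066 (iv D55188) (iv F244718)
theorem F251334 : act 4 n56066 = n54643 := d33_1 D56066 (iv D54643) (iv F244720)
theorem F251335 : act 5 n56066 = n54640 := d37_1 D56066 (iv D54640) (iv F244721)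
theorem F251336 : act 6 n56066 = n55138 := d40_1 D56066 (iv D55138) (iv F244722)
theorem F251337 : act 7 n56066 = n55723 := d42_1 D56066 (iv D55723) (iv F244723)
theorem F251338 : act 9 n56066 = n55195 := d44_2 D54639 D56066 (iv D55195) (iv D53610) (iv F237108)
def n56067 : Q := act 3 n54640
theorem D56067 : act 3 n54640 = n56067 := rfl
theorem F251339 : act 0 n56067 = n55197 := d2_1 D56067 (iv D55197) (iv F244724)
theorem F251340 : act 1 n56067 = n54668 := d10_1 D56067 (iv D54668) (iv F244725)
theorem F251341 : act 4 n56067 = n55623 := d24_2 (iv F244726) D56067 (iv D55623) F242433 (iv F237115)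
theorem F251342 : act 6 n56067 = n55498 := d26_2 (iv F244727) D56067 (iv D55498)
def n56068 : Q := act 3 n54641
theorem D56068 : act 3 n54641 = n56068 := rfl
theorem F251343 : act 0 n56068 = n55198 := d2_1 D56068 (iv D55198) (iv F244728)
theorem F251344 : act 1 n56068 = n55217 := d10_1 D56068 (iv D55217) (iv F244729)
theorem F251345 : act 2 n56068 = n55640 := d17_1 D56068 (iv D55640) F242537 (iv F237127) (iv F244730)
theorem F251346 : act 4 n56068 = n55783 := d24_2 (iv F244731) D56068 (iv D55783) F243064 (iv F240387)
theorem F251347 : act 6 n56068 = n56068 := d26_2 F244732 D56068 (iv D56068)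
theorem F251348 : act 7 n56068 = n54642 := d27_2 (iv F244733) D56068 (iv D54642)
theorem F251349 : act 8 n56068 = n56068 := d28_2 D54641 D56068 (iv D56068) (iv D54641) F237121
theorem F251350 : act 9 n56068 = n55180 := d29_2 (iv F244734) D56068 (iv D55180)
def n56069 : Q := act 3 n54643
theorem D56069 : act 3 n54643 = n56069 := rfl
theorem F251351 : act 0 n56069 = n55177 := d2_1 D56069 (iv D55177) (iv F244742)
theorem F251352 : act 1 n56069 = n54671 := d10_1 D56069 (iv D54671) (iv F244743)
theorem F251353 : act 2 n56069 = n55488 := d17_1 D56069 (iv D55488) F241811 (iv F240381) (iv F244744)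
theorem F251354 : act 5 n56069 = n54644 := d25_2 (iv F244745) D56069 (iv D54644)
theorem F251355 : act 6 n56069 = n55141 := d26_2 (iv F244746) D56069 (iv D55141)
theorem F251356 : act 7 n56069 = n55743 := d27_2 (iv F244747) D56069 (iv D55743)
theorem F251357 : act 8 n56069 = n54645 := d28_2 D54643 D56069 (iv D54645) (iv D52973) (iv F237140)
theorem F251358 : act 9 n56069 = n55196 := d29_2 (iv F244748) D56069 (iv D55196)
def n56070 : Q := act 4 n54645
theorem D56070 : act 4 n54645 = n56070 := rfl
theorem F251359 : act 0 n56070 = n55184 := d3_1 D56070 (iv D55184) (iv F244757)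
theorem F251360 : act 1 n56070 = n54676 := d11_1 D56070 (iv D54676) (iv F244758)
theorem F251361 : act 2 n56070 = n55494 := d18_1 D56070 (iv D55494) (iv F244759)
theorem F251362 : act 3 n56070 = n55741 := d24_1 D56070 (iv D55741) (iv D54236) (iv F237170) D54645
theorem F251363 : act 5 n56070 = n54792 := d30_2 (iv F244760) D56070 (iv D54792) F237974 (iv F237178)
theorem F251364 : act 6 n56070 = n55142 := d31_2 (iv F244761) D56070 (iv D55142)
theorem F251365 : act 7 n56070 = n55744 := d32_2 (iv F244762) D56070 (iv D55744)
theorem F251366 : act 9 n56070 = n56070 := d34_2 F244763 D56070 (iv D56070)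
def n56071 : Q := act 9 n54646
theorem D56071 : act 9 n54646 = n56071 := rfl
theorem F251367 : act 0 n56071 = n54692 := d8_1 D56071 (iv D54692) (iv F244764)
theorem F251368 : act 1 n56071 = n55194 := d16_1 D56071 (iv D55194) (iv F244765)
theorem F251369 : act 2 n56071 = n55612 := d23_1 D56071 (iv D55612) (iv F244766)
theorem F251370 : act 3 n56071 = n54654 := d29_1 D56071 (iv D54654) (iv F244767)
theorem F251371 : act 4 n56071 = n56071 := d34_1 D56071 (iv D56071) F244768
theorem F251372 : act 5 n56071 = n54647 := d38_1 D56071 (iv D54647) D54646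
theorem F251373 : act 6 n56071 = n55772 := d41_1 D56071 (iv D55772) (iv F244769)
theorem F251374 : act 7 n56071 = n55705 := d43_1 D56071 (iv D55705) (iv F244770)
def n56072 : Q := act 8 n54647
theorem D56072 : act 8 n54647 = n56072 := rfl
theorem F251375 : act 0 n56072 = n54693 := d7_1 D56072 (iv D54693) (iv F244772)
theorem F251376 : act 1 n56072 = n55754 := d15_1 D56072 (iv D55754) (iv F244773)
theorem F251377 : act 2 n56072 = n55614 := d22_1 D56072 (iv D55614) (iv F244774)
theorem F251378 : act 4 n56072 = n54648 := d33_1 D56072 (iv D54648) (iv F244776)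
theorem F251379 : act 6 n56072 = n55482 := d40_1 D56072 (iv D55482) (iv F244777)
theorem F251380 : act 9 n56072 = n55467 := d44_2 D54647 D56072 (iv D55467) (iv D53894) (iv F237187)
def n56073 : Q := act 8 n54649
theorem D56073 : act 8 n54649 = n56073 := rfl
theorem F251381 : act 0 n56073 = n54704 := d7_1 D56073 (iv D54704) (iv F244785)
theorem F251382 : act 2 n56073 = n55874 := d22_1 D56073 (iv D55874) (iv F244786)
theorem F251383 : act 4 n56073 = n54650 := d33_1 D56073 (iv D54650) (iv F244787)
theorem F251384 : act 5 n56073 = n55727 := d37_1 D56073 (iv D55727) (iv F244788)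
theorem F251385 : act 7 n56073 = n54655 := d42_1 D56073 (iv D54655) (iv F244789)
theorem F251386 : act 9 n56073 = n54662 := d44_2 D54649 D56073 (iv D54662) (iv D52992) (iv F237198)
def n56074 : Q := act 9 n54651
theorem D56074 : act 9 n54651 = n56074 := rfl
theorem F251387 : act 0 n56074 = n54710 := d8_1 D56074 (iv D54710) (iv F244796)
theorem F251388 : act 1 n56074 = n55237 := d16_1 D56074 (iv D55237) (iv F244797)
theorem F251389 : act 2 n56074 = n55575 := d23_1 D56074 (iv D55575) (iv F244798)
theorem F251390 : act 3 n56074 = n54652 := d29_1 D56074 (iv D54652) D54651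
theorem F251391 : act 4 n56074 = n56074 := d34_1 D56074 (iv D56074) F244799
theorem F251392 : act 5 n56074 = n55234 := d38_1 D56074 (iv D55234) (iv F244800)
theorem F251393 : act 6 n56074 = n55499 := d41_1 D56074 (iv D55499) (iv F244801)
theorem F251394 : act 7 n56074 = n55831 := d43_1 D56074 (iv D55831) (iv F244802)
def n56075 : Q := act 8 n54652
theorem D56075 : act 8 n54652 = n56075 := rfl
theorem F251395 : act 0 n56075 = n54712 := d7_1 D56075 (iv D54712) (iv F244804)
theorem F251396 : act 1 n56075 = n55240 := d15_1 D56075 (iv D55240) (iv F244805)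
theorem F251397 : act 2 n56075 = n54655 := d22_1 D56075 (iv D54655) (iv F244806)
theorem F251398 : act 4 n56075 = n54653 := d33_1 D56075 (iv D54653) (iv F244807)
theorem F251399 : act 5 n56075 = n55235 := d37_1 D56075 (iv D55235) (iv F244808)
theorem F251400 : act 6 n56075 = n55500 := d40_1 D56075 (iv D55500) (iv F244809)
theorem F251401 : act 7 n56075 = n55874 := d42_1 D56075 (iv D55874) (iv F244810)
theorem F251402 : act 9 n56075 = n54663 := d44_2 D54652 D56075 (iv D54663) (iv D52994) (iv F237210)
def n56076 : Q := act 3 n54653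
theorem D56076 : act 3 n54653 = n56076 := rfl
theorem F251403 : act 0 n56076 = n54713 := d2_1 D56076 (iv D54713) (iv F244811)
theorem F251404 : act 1 n56076 = n55250 := d10_1 D56076 (iv D55250) (iv F244812)
theorem F251405 : act 2 n56076 = n55847 := d17_1 D56076 (iv D55847) F243289 (iv F237229) (iv F244813)
theorem F251406 : act 5 n56076 = n54656 := d25_2 (iv F244814) D56076 (iv D54656)
theorem F251407 : act 6 n56076 = n55501 := d26_2 (iv F244815) D56076 (iv D55501)
theorem F251408 : act 7 n56076 = n55919 := d27_2 (iv F244816) D56076 (iv D55919)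
theorem F251409 : act 8 n56076 = n56076 := d28_2 D54653 D56076 (iv D56076) (iv D54653) F237214
theorem F251410 : act 9 n56076 = n54664 := d29_2 (iv F244817) D56076 (iv D54664)
def n56077 : Q := act 8 n54654
theorem D56077 : act 8 n54654 = n56077 := rfl
theorem F251411 : act 0 n56077 = n54716 := d7_1 D56077 (iv D54716) (iv F244818)
theorem F251412 : act 1 n56077 = n55195 := d15_1 D56077 (iv D55195) (iv F244819)
theorem F251413 : act 2 n56077 = n55235 := d22_1 D56077 (iv D55235) (iv F244820)
theorem F251414 : act 4 n56077 = n54657 := d33_1 D56077 (iv D54657) (iv F244821)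
theorem F251415 : act 5 n56077 = n54655 := d37_1 D56077 (iv D54655) (iv F244822)
theorem F251416 : act 6 n56077 = n55774 := d40_1 D56077 (iv D55774) (iv F244823)
theorem F251417 : act 7 n56077 = n55727 := d42_1 D56077 (iv D55727) (iv F244824)
theorem F251418 : act 9 n56077 = n54667 := d44_2 D54654 D56077 (iv D54667) (iv D52997) (iv F237224)
def n56078 : Q := act 3 n54655
theorem D56078 : act 3 n54655 = n56078 := rfl
theorem F251419 : act 0 n56078 = n54717 := d2_1 D56078 (iv D54717) (iv F244825)
theorem F251420 : act 4 n56078 = n55840 := d24_2 (iv F244826) D56078 (iv D55840) F243257 (iv F237229)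
theorem F251421 : act 6 n56078 = n55502 := d26_2 (iv F244827) D56078 (iv D55502)
theorem F251422 : act 9 n56078 = n54668 := d29_2 (iv F244828) D56078 (iv D54668)
def n56079 : Q := act 3 n54657
theorem D56079 : act 3 n54657 = n56079 := rfl
theorem F251423 : act 0 n56079 = n54728 := d2_1 D56079 (iv D54728) (iv F244837)
theorem F251424 : act 1 n56079 = n55196 := d10_1 D56079 (iv D55196) (iv F244838)
theorem F251425 : act 2 n56079 = n55573 := d17_1 D56079 (iv D55573) F242244 (iv F240607) (iv F244839)
theorem F251426 : act 5 n56079 = n54658 := d25_2 (iv F244840) D56079 (iv D54658)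
theorem F251427 : act 6 n56079 = n55785 := d26_2 (iv F244841) D56079 (iv D55785)
theorem F251428 : act 7 n56079 = n55746 := d27_2 (iv F244842) D56079 (iv D55746)
theorem F251429 : act 8 n56079 = n56079 := d28_2 D54657 D56079 (iv D56079) (iv D54657) F237250
theorem F251430 : act 9 n56079 = n54671 := d29_2 (iv F244843) D56079 (iv D54671)
def n56080 : Q := act 9 n54659
theorem D56080 : act 9 n54659 = n56080 := rfl
theorem F251431 : act 0 n56080 = n54733 := d8_1 D56080 (iv D54733) (iv F244852)
theorem F251432 : act 2 n56080 = n55375 := d23_1 D56080 (iv D55375) (iv F244853)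
theorem F251433 : act 3 n56080 = n55082 := d29_1 D56080 (iv D55082) (iv F244854)
theorem F251434 : act 4 n56080 = n56080 := d34_1 D56080 (iv D56080) F244855
theorem F251435 : act 5 n56080 = n54660 := d38_1 D56080 (iv D54660) D54659
theorem F251436 : act 6 n56080 = n55079 := d41_1 D56080 (iv D55079) (iv F244856)
theorem F251437 : act 7 n56080 = n55508 := d43_1 D56080 (iv D55508) (iv F244857)
def n56081 : Q := act 8 n54660
theorem D56081 : act 8 n54660 = n56081 := rfl
theorem F251438 : act 0 n56081 = n54734 := d7_1 D56081 (iv D54734) (iv F244858)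
theorem F251439 : act 2 n56081 = n55873 := d22_1 D56081 (iv D55873) (iv F244859)
theorem F251440 : act 4 n56081 = n54661 := d33_1 D56081 (iv D54661) (iv F244861)
theorem F251441 : act 6 n56081 = n54662 := d40_1 D56081 (iv D54662) (iv F244862)
theorem F251442 : act 7 n56081 = n55509 := d42_1 D56081 (iv D55509) (iv F244863)
def n56082 : Q := act 3 n54662
theorem D56082 : act 3 n54662 = n56082 := rfl
theorem F251443 : act 0 n56082 = n54744 := d2_1 D56082 (iv D54744) (iv F244870)
theorem F251444 : act 4 n56082 = n55885 := d24_2 (iv F244872) D56082 (iv D55885) F243392 (iv F237296)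
theorem F251445 : act 5 n56082 = n55728 := d25_2 (iv F244873) D56082 (iv D55728)
theorem F251446 : act 7 n56082 = n54668 := d27_2 (iv F244874) D56082 (iv D54668)
theorem F251447 : act 8 n56082 = n55730 := d28_2 D54662 D56082 (iv D55730) (iv D54219) (iv F237290)
def n56083 : Q := act 3 n54663
theorem D56083 : act 3 n54663 = n56083 := rfl
theorem F251448 : act 0 n56083 = n54758 := d2_1 D56083 (iv D54758) (iv F244875)
theorem F251449 : act 1 n56083 = n55884 := d10_1 D56083 F250285 (iv F244876)
theorem F251450 : act 5 n56083 = n55857 := d25_2 (iv F244879) D56083 (iv D55857)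
theorem F251451 : act 6 n56083 = n55525 := d26_2 (iv F244880) D56083 (iv D55525)
theorem F251452 : act 7 n56083 = n55875 := d27_2 (iv F244881) D56083 (iv D55875)
theorem F251453 : act 8 n56083 = n55858 := d28_2 D54663 D56083 (iv D55858) (iv D54379) (iv F237302)
def n56084 : Q := act 4 n54664
theorem D56084 : act 4 n54664 = n56084 := rfl
theorem F251454 : act 0 n56084 = n54759 := d3_1 D56084 (iv D54759) (iv F244882)
theorem F251455 : act 1 n56084 = n55900 := d11_1 D56084 F250323 (iv F244883)
theorem F251456 : act 2 n56084 = n55899 := d18_1 D56084 (iv D55899) (iv F244884)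
theorem F251457 : act 5 n56084 = n55897 := d30_2 (iv F244885) D56084 (iv D55897) F243432 (iv F237332)
theorem F251458 : act 6 n56084 = n55526 := d31_2 (iv F244886) D56084 (iv D55526)
theorem F251459 : act 7 n56084 = n55920 := d32_2 (iv F244887) D56084 (iv D55920)
theorem F251460 : act 8 n56084 = n54678 := d33_2 (iv F244888) D56084 (iv D54678)
def n56085 : Q := act 9 n54665
theorem D56085 : act 9 n54665 = n56085 := rfl
theorem F251461 : act 0 n56085 = n54760 := d8_1 D56085 (iv D54760) (iv F244889)
theorem F251462 : act 1 n56085 = n54919 := d16_1 D56085 (iv D54919) (iv F244890)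
theorem F251463 : act 2 n56085 = n55336 := d23_1 D56085 (iv D55336) (iv F244891)
theorem F251464 : act 3 n56085 = n54917 := d29_1 D56085 (iv D54917) (iv F244892)
theorem F251465 : act 4 n56085 = n54669 := d34_1 D56085 (iv D54669) (iv F244893)
theorem F251466 : act 5 n56085 = n55128 := d38_1 D56085 (iv D55128) (iv F244894)
theorem F251467 : act 6 n56085 = n55063 := d41_1 D56085 (iv D55063) (iv F244895)
theorem F251468 : act 7 n56085 = n54666 := d43_1 D56085 (iv D54666) D54665
def n56086 : Q := act 8 n54666
theorem D56086 : act 8 n54666 = n56086 := rfl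
theorem F251469 : act 0 n56086 = n54761 := d7_1 D56086 (iv D54761) (iv F244897)
theorem F251470 : act 1 n56086 = n55138 := d15_1 D56086 (iv D55138) (iv F244898)
theorem F251471 : act 2 n56086 = n55372 := d22_1 D56086 F248552 (iv F244899)
theorem F251472 : act 4 n56086 = n54670 := d33_1 D56086 (iv D54670) (iv F244901)
theorem F251473 : act 5 n56086 = n55132 := d37_1 D56086 (iv D55132) (iv F244902)
theorem F251474 : act 6 n56086 = n54667 := d40_1 D56086 (iv D54667) (iv F244903)
theorem F251475 : act 9 n56086 = n55774 := d44_2 D54666 D56086 (iv D55774) (iv D54277) (iv F237319)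
def n56087 : Q := act 3 n54667
theorem D56087 : act 3 n54667 = n56087 := rfl
theorem F251476 : act 0 n56087 = n54762 := d2_1 D56087 (iv D54762) (iv F244904)
theorem F251477 : act 5 n56087 = n54668 := d25_2 (iv F244907) D56087 (iv D54668)
theorem F251478 : act 7 n56087 = n55728 := d27_2 (iv F244908) D56087 (iv D55728)
theorem F251479 : act 8 n56087 = n55718 := d28_2 D54667 D56087 (iv D55718) (iv D54207) (iv F237322)
def n56088 : Q := act 2 n54668
theorem D56088 : act 2 n54668 = n56088 := rfl
theorem F251480 : act 0 n56088 = n54763 := d1_1 D56088 (iv D54763) (iv F244909)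
theorem F251481 : act 4 n56088 = n55886 := d18_2 (iv F244910) D56088 (iv D55886)
theorem F251482 : act 6 n56088 = n55528 := d20_2 (iv F244911) D56088 (iv D55528)
def n56089 : Q := act 8 n54669
theorem D56089 : act 8 n54669 = n56089 := rfl
theorem F251483 : act 0 n56089 = n54777 := d7_1 D56089 (iv D54777) (iv F244912)
theorem F251484 : act 1 n56089 = n54936 := d15_1 D56089 (iv D54936) (iv F244913)
theorem F251485 : act 2 n56089 = n55350 := d22_1 D56089 F248472 (iv F244914)
theorem F251486 : act 5 n56089 = n54672 := d37_1 D56089 (iv D54672) (iv F244916)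
theorem F251487 : act 6 n56089 = n55114 := d40_1 D56089 (iv D55114) (iv F244917)
theorem F251488 : act 7 n56089 = n54670 := d42_1 D56089 (iv D54670) (iv F244918)
theorem F251489 : act 9 n56089 = n55782 := d44_2 D54669 D56089 (iv D55782) (iv D54285) (iv F237342)
def n56090 : Q := act 3 n54670
theorem D56090 : act 3 n54670 = n56090 := rfl
theorem F251490 : act 0 n56090 = n54778 := d2_1 D56090 (iv D54778) (iv F244919)
theorem F251491 : act 1 n56090 = n55141 := d10_1 D56090 (iv D55141) (iv F244920)
theorem F251492 : act 2 n56090 = n54752 := d17_1 D56090 (iv D54752) F237747 D53780 (iv F244921)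
theorem F251493 : act 5 n56090 = n54673 := d25_2 (iv F244922) D56090 (iv D54673)
theorem F251494 : act 6 n56090 = n54671 := d26_2 (iv F244923) D56090 (iv D54671)
theorem F251495 : act 8 n56090 = n54675 := d28_2 D54670 D56090 (iv D54675) (iv D53008) (iv F237346)
theorem F251496 : act 9 n56090 = n55785 := d29_2 (iv F244924) D56090 (iv D55785)
def n56091 : Q := act 4 n54671
theorem D56091 : act 4 n54671 = n56091 := rfl
theorem F251497 : act 0 n56091 = n54780 := d3_1 D56091 (iv D54780) (iv F244925)
theorem F251498 : act 2 n56091 = n55610 := d18_1 D56091 (iv D55610) (iv F244926)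
theorem F251499 : act 5 n56091 = n55413 := d30_2 (iv F244927) D56091 (iv D55413) F241312 (iv F237355)
theorem F251500 : act 7 n56091 = n55747 := d32_2 (iv F244928) D56091 (iv D55747)
theorem F251501 : act 8 n56091 = n54676 := d33_2 (iv F244929) D56091 (iv D54676)
def n56092 : Q := act 3 n54672
theorem D56092 : act 3 n54672 = n56092 := rfl
theorem F251502 : act 0 n56092 = n54784 := d2_1 D56092 (iv D54784) (iv F244930)
theorem F251503 : act 1 n56092 = n55140 := d10_1 D56092 (iv D55140) (iv F244931)
theorem F251504 : act 2 n56092 = n54765 := d17_1 D56092 (iv D54765) F237802 D53798 (iv F244932)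
theorem F251505 : act 4 n56092 = n55180 := d24_2 (iv F244933) D56092 (iv D55180) F240320 (iv F240041)
theorem F251506 : act 6 n56092 = n56092 := d26_2 F244934 D56092 (iv D56092)
theorem F251507 : act 7 n56092 = n54673 := d27_2 (iv F244935) D56092 (iv D54673)
theorem F251508 : act 8 n56092 = n54677 := d28_2 D54672 D56092 (iv D54677) (iv D53010) (iv F237362)
theorem F251509 : act 9 n56092 = n55783 := d29_2 (iv F244936) D56092 (iv D55783)
def n56093 : Q := act 3 n54674
theorem D56093 : act 3 n54674 = n56093 := rfl
theorem F251510 : act 0 n56093 = n54790 := d2_1 D56093 (iv D54790) (iv F244944)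
theorem F251511 : act 1 n56093 = n54937 := d10_1 D56093 (iv D54937) (iv F244945)
theorem F251512 : act 2 n56093 = n54797 := d17_1 D56093 (iv D54797) F238007 D53144 (iv F244946)
theorem F251513 : act 5 n56093 = n54677 := d25_2 (iv F244948) D56093 (iv D54677)
theorem F251514 : act 6 n56093 = n55115 := d26_2 (iv F244949) D56093 (iv D55115)
theorem F251515 : act 7 n56093 = n54675 := d27_2 (iv F244950) D56093 (iv D54675)
theorem F251516 : act 9 n56093 = n56093 := d29_2 F244951 D56093 (iv D56093)
def n56094 : Q := act 4 n54675
theorem D56094 : act 4 n54675 = n56094 := rfl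
theorem F251517 : act 0 n56094 = n54792 := d3_1 D56094 (iv D54792) (iv F244952)
theorem F251518 : act 1 n56094 = n55142 := d11_1 D56094 (iv D55142) (iv F244953)
theorem F251519 : act 2 n56094 = n54804 := d18_1 D56094 (iv D54804) (iv F244954)
theorem F251520 : act 3 n56094 = n55740 := d24_1 D56094 (iv D55740) (iv D54235) (iv F237390) D54675
theorem F251521 : act 5 n56094 = n55184 := d30_2 (iv F244955) D56094 (iv D55184) F240344 (iv F237409)
theorem F251522 : act 6 n56094 = n54676 := d31_2 (iv F244956) D56094 (iv D54676)
theorem F251523 : act 9 n56094 = n56094 := d34_2 F244957 D56094 (iv D56094)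
def n56095 : Q := act 4 n54679
theorem D56095 : act 4 n54679 = n56095 := rfl
theorem F251524 : act 0 n56095 = n55021 := d3_1 D56095 (iv D55021) (iv F244979)
theorem F251525 : act 1 n56095 = n54680 := d11_1 D56095 (iv D54680) D54679
theorem F251526 : act 2 n56095 = n55265 := d18_1 D56095 (iv D55265) (iv F244980)
theorem F251527 : act 6 n56095 = n55279 := d31_2 (iv F244983) D56095 F248130
theorem F251528 : act 7 n56095 = n54686 := d32_2 (iv F244984) D56095 (iv D54686)
theorem F251529 : act 8 n56095 = n55273 := d33_2 (iv F244985) D56095 (iv D55273)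
theorem F251530 : act 3 n56095 = n55282 := d46_3 (iv F244985) F244982 D56095 F248146 F240817 (iv F243031) F243035 (iv D52555) (iv D50566) (iv D48404) F190256 F132558 F132557 (iv D21563) F64763 (iv F91936) F91935 (iv F131687) (iv F185852) (iv F208434) D48829 F218158 F208452 D48830 F218163 (iv F224183) (iv F230304) (iv F236157) F236154 D53361 F239303 (iv F240543) F240542 (iv F240615) (iv D53651) D53650 F240614 F240613 F232287 (iv F231939) (iv F237101) F237108 (iv F237036) (iv D52952) (iv D51070) F219157 F216770 F216769 (iv D46147) F133542 F93205 F93204 F203848 F125027 F87387 D20286 (iv F125251) (iv F179728) D47569 D49789 D51850 D53689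
theorem F251531 : act 5 n55558 = n56095 := d45_3 (iv D54040) (iv F242191) D55558 (iv D56095) F244981 (iv D54679) (iv D53013) (iv D51136) D51137 (iv F236587) (iv F244132) F244133 (iv F250735) F250734 F244207 F240157 (iv F242653) (iv D54137) F234594 F225489 (iv D48351) (iv D45573) (iv D31234) (iv F130026) F130027 D30686 D44757 D47892 F214469 F187446 F130557 (iv F186800) F186799 (iv F186871) D47910 F214556 F214555 (iv D45646) (iv F189958) (iv F212584) F212583 (iv F212518) (iv F222504) (iv F231877) (iv D51723) (iv F231806) (iv D51708) F222449 (iv F228556) D52950 F237018 (iv F228722) F226922 D52745 D54454 D55919 F250385 (iv F250184) (iv D55843) F243268 F235340 (iv F233778) F233782 (iv D50134) F214687 (iv F214666) (iv F223941) (iv F233321) F233320 (iv F234652) F234653 (iv D52365) F225462 F215596 F188684 F131414 (iv F188618) (iv F211834) (iv D47334) (iv D42685) D42686 (iv F211316) (iv F221313) (iv F230603) (iv F238923) F238922 (iv F236753) (iv F244329) F244330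
def n56096 : Q := act 9 n54679
theorem D56096 : act 9 n54679 = n56096 := rfl
theorem F251532 : act 0 n56096 = n55022 := d8_1 D56096 (iv D55022) (iv F244979)
theorem F251533 : act 1 n56096 = n54681 := d16_1 D56096 (iv D54681) D54679
theorem F251534 : act 2 n56096 = n55266 := d23_1 D56096 (iv D55266) (iv F244980)
theorem F251535 : act 3 n56096 = n56096 := d29_1 D56096 (iv D56096) F244981
theorem F251536 : act 5 n56096 = n56096 := d38_1 D56096 (iv D56096) F244982
theorem F251537 : act 6 n56096 = n55626 := d41_1 D56096 (iv D55626) (iv F244983)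
theorem F251538 : act 7 n56096 = n54687 := d43_1 D56096 (iv D54687) (iv F244984)
def n56097 : Q := act 3 n54680
theorem D56097 : act 3 n54680 = n56097 := rfl
theorem F251539 : act 0 n56097 = n55565 := d2_1 D56097 F249389 (iv F244986)
theorem F251540 : act 1 n56097 = n55282 := d10_1 D56097 (iv F251530) F251525
theorem F251541 : act 2 n56097 = n54699 := d17_1 D56097 (iv D54699) F237479 (iv F237426) (iv F244987)
theorem F251542 : act 4 n56097 = n56097 := d24_2 D54680 D56097 (iv D56097) (iv D54680) F237420
theorem F251543 : act 6 n56097 = n55276 := d26_2 (iv F244988) D56097 F248117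
theorem F251544 : act 7 n56097 = n54688 := d27_2 (iv F244989) D56097 (iv D54688)
theorem F251545 : act 8 n56097 = n55452 := d28_2 (iv F244990) D56097 F248880 F241754 D53957
theorem F251546 : act 5 n55451 = n56097 := d37_3 F251545 (iv D55452) (iv F248876)
def n56098 : Q := act 5 n54680
theorem D56098 : act 5 n54680 = n56098 := rfl
theorem F251547 : act 0 n56098 = n55593 := d4_1 D56098 F249502 (iv F244986)
theorem F251548 : act 1 n56098 = n55558 := d12_1 D56098 F251531 F251525
theorem F251549 : act 2 n56098 = n54682 := d19_1 D56098 (iv D54682) (iv F244987)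
theorem F251550 : act 3 n56098 = n55451 := d25_1 D56098 F251546 (iv D56097)
theorem F251551 : act 4 n56098 = n56098 := d30_1 D56098 (iv D56098) (iv D54680) F237421 D54680
theorem F251552 : act 6 n56098 = n55562 := d35_2 (iv F244988) D56098 F249376 (iv F248111) (iv F248114)
theorem F251553 : act 7 n56098 = n54689 := d36_2 (iv F244989) D56098 (iv D54689)
theorem F251554 : act 8 n56098 = n55512 := d37_2 (iv F244990) D56098 (iv D55512)
def n56099 : Q := act 9 n54680
theorem D56099 : act 9 n54680 = n56099 := rfl
theorem F251555 : act 0 n56099 = n55595 := d8_1 D56099 (iv D55595) (iv F244986)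
theorem F251556 : act 2 n56099 = n54683 := d23_1 D56099 (iv D54683) (iv F244987)
theorem F251557 : act 4 n56099 = n54681 := d34_1 D56099 (iv D54681) D54680
theorem F251558 : act 6 n56099 = n55835 := d41_1 D56099 (iv D55835) (iv F244988)
theorem F251559 : act 7 n56099 = n54690 := d43_1 D56099 (iv D54690) (iv F244989)
def n56100 : Q := act 8 n54681
theorem D56100 : act 8 n54681 = n56100 := rfl
theorem F251560 : act 0 n56100 = n55643 := d7_1 D56100 (iv D55643) (iv F244991)
theorem F251561 : act 2 n56100 = n54684 := d22_1 D56100 (iv D54684) (iv F244992)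
theorem F251562 : act 5 n56100 = n56100 := d37_1 D56100 (iv D56100) F244994
theorem F251563 : act 6 n56100 = n55846 := d40_1 D56100 (iv D55846) (iv F244995)
theorem F251564 : act 7 n56100 = n54691 := d42_1 D56100 (iv D54691) (iv F244996)
theorem F251565 : act 9 n56100 = n55539 := d44_2 D54681 D56100 (iv D55539) (iv D53986) (iv F237424)
def n56101 : Q := act 6 n54682
theorem D56101 : act 6 n54682 = n56101 := rfl
theorem F251566 : act 0 n56101 = n55039 := d5_1 D56101 F247014 (iv F244997)
theorem F251567 : act 1 n56101 = n55270 := d13_1 D56101 (iv D55270) (iv F244998)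
theorem F251568 : act 2 n56101 = n55562 := d20_1 D56101 (iv F251552) F251549
theorem F251569 : act 3 n56101 = n54702 := d26_1 D56101 (iv D54702) (iv F244999)
theorem F251570 : act 4 n56101 = n56101 := d31_1 D56101 (iv D56101) F245000
theorem F251571 : act 5 n56101 = n55299 := d35_1 D56101 F248226 F240927 (iv F237427) D54682
theorem F251572 : act 7 n56101 = n55291 := d39_2 (iv F245001) D56101 (iv D55291) F240840 (iv F237452)
theorem F251573 : act 8 n56101 = n54965 := d40_2 (iv F245002) D56101 F246639
def n56102 : Q := act 9 n54682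
theorem D56102 : act 9 n54682 = n56102 := rfl
theorem F251574 : act 0 n56102 = n55705 := d8_1 D56102 (iv D55705) (iv F244997)
theorem F251575 : act 1 n56102 = n55271 := d16_1 D56102 (iv D55271) (iv F244998)
theorem F251576 : act 3 n56102 = n54703 := d29_1 D56102 (iv D54703) (iv F244999)
theorem F251577 : act 4 n56102 = n56102 := d34_1 D56102 (iv D56102) F245000
theorem F251578 : act 5 n56102 = n54683 := d38_1 D56102 (iv D54683) D54682
theorem F251579 : act 7 n56102 = n54692 := d43_1 D56102 (iv D54692) (iv F245001)
def n56103 : Q := act 8 n54683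
theorem D56103 : act 8 n54683 = n56103 := rfl
theorem F251580 : act 1 n56103 = n55272 := d15_1 D56103 (iv D55272) (iv F245003)
theorem F251581 : act 4 n56103 = n54684 := d33_1 D56103 (iv D54684) (iv F245005)
theorem F251582 : act 6 n56103 = n55839 := d40_1 D56103 (iv D55839) (iv F245006)
theorem F251583 : act 7 n56103 = n54693 := d42_1 D56103 (iv D54693) (iv F245007)
theorem F251584 : act 9 n56103 = n55862 := d44_2 D54683 D56103 (iv D55862) (iv D54382) (iv F237429)
def n56104 : Q := act 4 n54685
theorem D56104 : act 4 n54685 = n56104 := rfl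
theorem F251585 : act 0 n56104 = n54686 := d3_1 D56104 (iv D54686) D54685
theorem F251586 : act 1 n56104 = n55016 := d11_1 D56104 (iv D55016) (iv F245013)
theorem F251587 : act 2 n56104 = n55273 := d18_1 D56104 (iv D55273) (iv F245014)
theorem F251588 : act 6 n56104 = n55305 := d31_2 (iv F245017) D56104 F248250
theorem F251589 : act 7 n56104 = n55021 := d32_2 (iv F245018) D56104 (iv D55021)
theorem F251590 : act 8 n56104 = n55265 := d33_2 (iv F245019) D56104 (iv D55265)
theorem F251591 : act 3 n56104 = n55374 := d46_3 (iv F245019) F245016 D56104 (iv F250725) F250724 F247465 (iv F246274) F246271 (iv D53603) (iv D51769) F222757 F222756 F212767 (iv D43043) F125273 (iv F178353) (iv F211770) F211769 F211768 (iv F208465) D48836 F218204 F208480 D46679 F208504 F208503 (iv F210997) F211003 F211000 D47429 (iv F222378) F222377 F216097 F190212 F132637 (iv F132671) D45810 (iv F215808) (iv F225670) (iv F234828) (iv F238951) (iv F246289) F246287 (iv D53320) (iv D51481) F221536 F214273 (iv D47854) F205878 (iv F206159) F184384 F184383 (iv F208661) F208660 F175734 D42062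 (iv F208851) F208850 (iv F216626) (iv F224729) (iv F233967) (iv F240771)
theorem F251592 : act 5 n55829 = n56104 := d46_1 D55829 (iv D56104) F245015 F245014 F240793 F233938 D52299 F234417 (iv F242350) (iv F249389) F249388 (iv F247870) F247869 D55352 F248483 F241118 F232999 F223792 F223791 F216388 F190708 F134010 (iv F204646) F204527 F133824 (iv D31694) F93377 (iv F92633) F92632 F64781 (iv F66340) (iv D15186) F46546 (iv F66200) F66202 (iv F94647) (iv F205045) (iv D29023) (iv F123125) F123124 (iv F125123) (iv D29494) (iv F125118) (iv F178208) (iv F211586) F211585 (iv F221106) F221105 D49388 F221295 F214252 (iv F224118) F224117 (iv D48252) (iv F208917) (iv F218577) D50963 (iv F236371) F236370 (iv F241992) (iv F244217) F244216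
def n56105 : Q := act 9 n54685
theorem D56105 : act 9 n54685 = n56105 := rfl
theorem F251593 : act 0 n56105 = n54687 := d8_1 D56105 (iv D54687) D54685
theorem F251594 : act 1 n56105 = n55017 := d16_1 D56105 (iv D55017) (iv F245013)
theorem F251595 : act 2 n56105 = n55274 := d23_1 D56105 (iv D55274) (iv F245014)
theorem F251596 : act 3 n56105 = n56105 := d29_1 D56105 (iv D56105) F245015
theorem F251597 : act 5 n56105 = n56105 := d38_1 D56105 (iv D56105) F245016
theorem F251598 : act 6 n56105 = n55551 := d41_1 D56105 (iv D55551) (iv F245017)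
theorem F251599 : act 7 n56105 = n55022 := d43_1 D56105 (iv D55022) (iv F245018)
def n56106 : Q := act 9 n54686
theorem D56106 : act 9 n54686 = n56106 := rfl
theorem F251600 : act 1 n56106 = n54690 := d16_1 D56106 (iv D54690) (iv F245020)
theorem F251601 : act 2 n56106 = n55277 := d23_1 D56106 (iv D55277) (iv F245021)
theorem F251602 : act 4 n56106 = n54687 := d34_1 D56106 (iv D54687) D54686
theorem F251603 : act 6 n56106 = n55552 := d41_1 D56106 (iv D55552) (iv F245022)
def n56107 : Q := act 8 n54687
theorem D56107 : act 8 n54687 = n56107 := rfl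
theorem F251604 : act 1 n56107 = n54691 := d15_1 D56107 (iv D54691) (iv F245024)
theorem F251605 : act 2 n56107 = n55278 := d22_1 D56107 (iv D55278) (iv F245025)
theorem F251606 : act 5 n56107 = n56107 := d37_1 D56107 (iv D56107) F245027
theorem F251607 : act 6 n56107 = n55553 := d40_1 D56107 (iv D55553) (iv F245028)
theorem F251608 : act 9 n56107 = n55542 := d44_2 D54687 D56107 (iv D55542) (iv D53990) (iv F237439)
def n56108 : Q := act 9 n54688
theorem D56108 : act 9 n54688 = n56108 := rfl
theorem F251609 : act 0 n56108 = n55575 := d8_1 D56108 (iv D55575) (iv F245029)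
theorem F251610 : act 2 n56108 = n54710 := d23_1 D56108 (iv D54710) (iv F245030)
theorem F251611 : act 3 n56108 = n54690 := d29_1 D56108 (iv D54690) D54688
theorem F251612 : act 4 n56108 = n56108 := d34_1 D56108 (iv D56108) F245031
theorem F251613 : act 6 n56108 = n55554 := d41_1 D56108 (iv D55554) (iv F245032)
def n56109 : Q := act 9 n54689
theorem D56109 : act 9 n54689 = n56109 := rfl
theorem F251614 : act 0 n56109 = n55612 := d8_1 D56109 (iv D55612) (iv F245034)
theorem F251615 : act 2 n56109 = n54692 := d23_1 D56109 (iv D54692) (iv F245035)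
theorem F251616 : act 4 n56109 = n56109 := d34_1 D56109 (iv D56109) F245036
theorem F251617 : act 5 n56109 = n54690 := d38_1 D56109 (iv D54690) D54689
theorem F251618 : act 6 n56109 = n55815 := d41_1 D56109 (iv D55815) (iv F245037)
def n56110 : Q := act 8 n54690
theorem D56110 : act 8 n54690 = n56110 := rfl
theorem F251619 : act 0 n56110 = n55614 := d7_1 D56110 (iv D55614) (iv F245039)
theorem F251620 : act 2 n56110 = n54693 := d22_1 D56110 (iv D54693) (iv F245040)
theorem F251621 : act 4 n56110 = n54691 := d33_1 D56110 (iv D54691) (iv F245041)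
theorem F251622 : act 6 n56110 = n55555 := d40_1 D56110 (iv D55555) (iv F245042)
theorem F251623 : act 9 n56110 = n55523 := d44_2 D54690 D56110 (iv D55523) (iv D53967) (iv F237443)
def n56111 : Q := act 3 n54691
theorem D56111 : act 3 n54691 = n56111 := rfl
theorem F251624 : act 0 n56111 = n55650 := d2_1 D56111 (iv D55650) (iv F245043)
theorem F251625 : act 5 n56111 = n56111 := d25_2 F245045 D56111 (iv D56111)
theorem F251626 : act 6 n56111 = n55556 := d26_2 (iv F245046) D56111 (iv D55556)
theorem F251627 : act 8 n56111 = n56111 := d28_2 D54691 D56111 (iv D56111) (iv D54691) F237446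
theorem F251628 : act 9 n56111 = n55545 := d29_2 (iv F245047) D56111 (iv D55545)
def n56112 : Q := act 8 n54692
theorem D56112 : act 8 n54692 = n56112 := rfl
theorem F251629 : act 1 n56112 = n55287 := d15_1 D56112 (iv D55287) (iv F245048)
theorem F251630 : act 4 n56112 = n56112 := d33_1 D56112 (iv D56112) F245050
theorem F251631 : act 5 n56112 = n54693 := d37_1 D56112 (iv D54693) (iv F245051)
theorem F251632 : act 6 n56112 = n55817 := d40_1 D56112 (iv D55817) (iv F245052)
theorem F251633 : act 9 n56112 = n55852 := d44_2 D54692 D56112 (iv D55852) (iv D54373) (iv F237453)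
def n56113 : Q := act 3 n54693
theorem D56113 : act 3 n54693 = n56113 := rfl
theorem F251634 : act 1 n56113 = n55288 := d10_1 D56113 (iv D55288) (iv F245053)
theorem F251635 : act 6 n56113 = n55557 := d26_2 (iv F245055) D56113 (iv D55557)
theorem F251636 : act 8 n56113 = n54717 := d28_2 D54693 D56113 (iv D54717) (iv D53038) (iv F237455)
theorem F251637 : act 9 n56113 = n55863 := d29_2 (iv F245056) D56113 (iv D55863)
def n56114 : Q := act 6 n54694
theorem D56114 : act 6 n54694 = n56114 := rfl
theorem F251638 : act 0 n56114 = n55078 := d5_1 D56114 (iv F250728) F250723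
theorem F251639 : act 1 n56114 = n55291 := d13_1 D56114 (iv D55291) (iv F245057)
theorem F251640 : act 2 n56114 = n55236 := d20_1 D56114 (iv F251024) F251020
theorem F251641 : act 3 n56114 = n55299 := d26_1 D56114 F248226 (iv F245058)
theorem F251642 : act 4 n56114 = n56114 := d31_1 D56114 (iv D56114) F245059
theorem F251643 : act 5 n56114 = n54702 := d35_1 D56114 (iv D54702) (iv D53027) (iv F237464) D54694
theorem F251644 : act 7 n56114 = n55270 := d39_2 (iv F245060) D56114 (iv D55270) F240787 D53696
theorem F251645 : act 8 n56114 = n54732 := d40_2 (iv F245061) D56114 (iv D54732)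
def n56115 : Q := act 9 n54694
theorem D56115 : act 9 n54694 = n56115 := rfl
theorem F251646 : act 1 n56115 = n55292 := d16_1 D56115 (iv D55292) (iv F245057)
theorem F251647 : act 3 n56115 = n55312 := d29_1 D56115 (iv D55312) (iv F245058)
theorem F251648 : act 4 n56115 = n56115 := d34_1 D56115 (iv D56115) F245059
theorem F251649 : act 5 n56115 = n54695 := d38_1 D56115 (iv D54695) D54694
theorem F251650 : act 7 n56115 = n55286 := d43_1 D56115 (iv D55286) (iv F245060)
def n56116 : Q := act 8 n54695
theorem D56116 : act 8 n54695 = n56116 := rfl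
theorem F251651 : act 1 n56116 = n55293 := d15_1 D56116 (iv D55293) (iv F245062)
theorem F251652 : act 4 n56116 = n54696 := d33_1 D56116 (iv D54696) (iv F245064)
theorem F251653 : act 6 n56116 = n54704 := d40_1 D56116 (iv D54704) (iv F245065)
theorem F251654 : act 7 n56116 = n55561 := d42_1 D56116 (iv D55561) (iv F245066)
theorem F251655 : act 9 n56116 = n54734 := d44_2 D54695 D56116 (iv D54734) (iv D53059) (iv F237466)
def n56117 : Q := act 9 n54697
theorem D56117 : act 9 n54697 = n56117 := rfl
theorem F251656 : act 0 n56117 = n55348 := d8_1 D56117 (iv D55348) (iv F245072)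
theorem F251657 : act 1 n56117 = n54700 := d16_1 D56117 (iv D54700) (iv F245073)
theorem F251658 : act 2 n56117 = n55294 := d23_1 D56117 (iv D55294) (iv F245074)
theorem F251659 : act 3 n56117 = n55815 := d29_1 D56117 (iv D55815) (iv F245078)
theorem F251660 : act 4 n56117 = n54698 := d34_1 D56117 (iv D54698) D54697
theorem F251661 : act 5 n56117 = n55344 := d38_1 D56117 (iv D55344) (iv F245075)
theorem F251662 : act 7 n56117 = n54706 := d43_1 D56117 (iv D54706) (iv F245076)
def n56118 : Q := act 8 n54698
theorem D56118 : act 8 n54698 = n56118 := rfl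
theorem F251663 : act 0 n56118 = n55391 := d7_1 D56118 (iv D55391) (iv F245079)
theorem F251664 : act 1 n56118 = n54701 := d15_1 D56118 (iv D54701) (iv F245080)
theorem F251665 : act 2 n56118 = n55295 := d22_1 D56118 (iv D55295) (iv F245081)
theorem F251666 : act 5 n56118 = n54718 := d37_1 D56118 (iv D54718) (iv F245083)
theorem F251667 : act 7 n56118 = n54707 := d42_1 D56118 (iv D54707) (iv F245084)
theorem F251668 : act 9 n56118 = n54738 := d44_2 D54698 D56118 (iv D54738) (iv D53063) (iv F237477)
def n56119 : Q := act 9 n54699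
theorem D56119 : act 9 n54699 = n56119 := rfl
theorem F251669 : act 0 n56119 = n55831 := d8_1 D56119 (iv D55831) (iv F245085)
theorem F251670 : act 1 n56119 = n55815 := d16_1 D56119 (iv D55815) (iv F245086)
theorem F251671 : act 3 n56119 = n54700 := d29_1 D56119 (iv D54700) D54699
theorem F251672 : act 4 n56119 = n56119 := d34_1 D56119 (iv D56119) F245087
theorem F251673 : act 5 n56119 = n55450 := d38_1 D56119 F248871 (iv F245088)
theorem F251674 : act 7 n56119 = n54710 := d43_1 D56119 (iv D54710) (iv F245089)
def n56120 : Q := act 8 n54700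
theorem D56120 : act 8 n54700 = n56120 := rfl
theorem F251675 : act 0 n56120 = n55874 := d7_1 D56120 (iv D55874) (iv F245091)
theorem F251676 : act 2 n56120 = n54704 := d22_1 D56120 (iv D54704) (iv F245092)
theorem F251677 : act 4 n56120 = n54701 := d33_1 D56120 (iv D54701) (iv F245093)
theorem F251678 : act 5 n56120 = n55801 := d37_1 D56120 (iv D55801) (iv F245094)
theorem F251679 : act 7 n56120 = n54712 := d42_1 D56120 (iv D54712) (iv F245095)
theorem F251680 : act 9 n56120 = n54739 := d44_2 D54700 D56120 (iv D54739) (iv D53064) (iv F237482)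
def n56121 : Q := act 3 n54701
theorem D56121 : act 3 n54701 = n56121 := rfl
theorem F251681 : act 0 n56121 = n55919 := d2_1 D56121 (iv D55919) (iv F245096)
theorem F251682 : act 5 n56121 = n54719 := d25_2 (iv F245098) D56121 (iv D54719)
theorem F251683 : act 7 n56121 = n54713 := d27_2 (iv F245099) D56121 (iv D54713)
theorem F251684 : act 8 n56121 = n56121 := d28_2 D54701 D56121 (iv D56121) (iv D54701) F237485
theorem F251685 : act 9 n56121 = n54740 := d29_2 (iv F245100) D56121 (iv D54740)
def n56122 : Q := act 9 n54702
theorem D56122 : act 9 n54702 = n56122 := rfl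
theorem F251686 : act 0 n56122 = n55080 := d8_1 D56122 (iv D55080) (iv F245101)
theorem F251687 : act 1 n56122 = n55300 := d16_1 D56122 (iv D55300) (iv F245102)
theorem F251688 : act 2 n56122 = n55238 := d23_1 D56122 (iv D55238) (iv F245103)
theorem F251689 : act 4 n56122 = n54720 := d34_1 D56122 (iv D54720) (iv F245104)
theorem F251690 : act 6 n56122 = n54703 := d41_1 D56122 (iv D54703) D54702
theorem F251691 : act 7 n56122 = n55824 := d43_1 D56122 (iv D55824) F245106
def n56123 : Q := act 8 n54703
theorem D56123 : act 8 n54703 = n56123 := rfl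
theorem F251692 : act 0 n56123 = n55727 := d7_1 D56123 (iv D55727) (iv F245107)
theorem F251693 : act 1 n56123 = n55301 := d15_1 D56123 (iv D55301) (iv F245108)
theorem F251694 : act 2 n56123 = n55801 := d22_1 D56123 (iv D55801) (iv F245109)
theorem F251695 : act 4 n56123 = n54721 := d33_1 D56123 (iv D54721) (iv F245110)
theorem F251696 : act 5 n56123 = n54704 := d37_1 D56123 (iv D54704) (iv F245111)
theorem F251697 : act 7 n56123 = n54716 := d42_1 D56123 (iv D54716) (iv F245112)
theorem F251698 : act 9 n56123 = n54743 := d44_2 D54703 D56123 (iv D54743) (iv D53067) (iv F237493)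
def n56124 : Q := act 3 n54704
theorem D56124 : act 3 n54704 = n56124 := rfl
theorem F251699 : act 1 n56124 = n55302 := d10_1 D56124 (iv D55302) (iv F245113)
theorem F251700 : act 7 n56124 = n54717 := d27_2 (iv F245115) D56124 (iv D54717)
theorem F251701 : act 9 n56124 = n54744 := d29_2 (iv F245116) D56124 (iv D54744)
def n56125 : Q := act 9 n54705
theorem D56125 : act 9 n54705 = n56125 := rfl
theorem F251702 : act 0 n56125 = n55367 := d8_1 D56125 (iv D55367) (iv F245117)
theorem F251703 : act 1 n56125 = n54710 := d16_1 D56125 (iv D54710) (iv F245118)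
theorem F251704 : act 2 n56125 = n55292 := d23_1 D56125 (iv D55292) F245123
theorem F251705 : act 3 n56125 = n54706 := d29_1 D56125 (iv D54706) D54705
theorem F251706 : act 4 n56125 = n56125 := d34_1 D56125 (iv D56125) F245119
theorem F251707 : act 5 n56125 = n55289 := d38_1 D56125 (iv D55289) (iv F245120)
theorem F251708 : act 6 n56125 = n55570 := d41_1 D56125 (iv D55570) (iv F245121)
theorem F251709 : act 7 n56125 = n55815 := d43_1 D56125 (iv D55815) (iv F245122)
def n56126 : Q := act 8 n54706
theorem D56126 : act 8 n54706 = n56126 := rfl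
theorem F251710 : act 0 n56126 = n55370 := d7_1 D56126 (iv D55370) (iv F245125)
theorem F251711 : act 1 n56126 = n54712 := d15_1 D56126 (iv D54712) (iv F245126)
theorem F251712 : act 2 n56126 = n55304 := d22_1 D56126 (iv D55304) (iv F245127)
theorem F251713 : act 4 n56126 = n54707 := d33_1 D56126 (iv D54707) (iv F245128)
theorem F251714 : act 5 n56126 = n55365 := d37_1 D56126 (iv D55365) (iv F245129)
theorem F251715 : act 6 n56126 = n55572 := d40_1 D56126 (iv D55572) (iv F245130)
theorem F251716 : act 9 n56126 = n54751 := d44_2 D54706 D56126 (iv D54751) (iv D53073) (iv F237506)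
def n56127 : Q := act 3 n54707
theorem D56127 : act 3 n54707 = n56127 := rfl
theorem F251717 : act 0 n56127 = n55405 := d2_1 D56127 (iv D55405) (iv F245131)
theorem F251718 : act 1 n56127 = n54713 := d10_1 D56127 (iv D54713) (iv F245132)
theorem F251719 : act 2 n56127 = n55785 := d17_1 D56127 (iv D55785) F243078 (iv F240893) (iv F245133)
theorem F251720 : act 5 n56127 = n54723 := d25_2 (iv F245134) D56127 (iv D54723)
theorem F251721 : act 6 n56127 = n55573 := d26_2 (iv F245135) D56127 (iv D55573)
theorem F251722 : act 8 n56127 = n56127 := d28_2 D54707 D56127 (iv D56127) (iv D54707) F237510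
theorem F251723 : act 9 n56127 = n54752 := d29_2 (iv F245136) D56127 (iv D54752)
def n56128 : Q := act 9 n54708
theorem D56128 : act 9 n54708 = n56128 := rfl
theorem F251724 : act 0 n56128 = n55234 := d8_1 D56128 (iv D55234) (iv F245137)
theorem F251725 : act 1 n56128 = n55289 := d16_1 D56128 (iv D55289) (iv F245138)
theorem F251726 : act 3 n56128 = n54711 := d29_1 D56128 (iv D54711) (iv F245139)
theorem F251727 : act 4 n56128 = n55259 := d34_1 D56128 (iv D55259) F245141
theorem F251728 : act 5 n56128 = n54710 := d38_1 D56128 (iv D54710) D54708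
theorem F251729 : act 6 n56128 = n55294 := d41_1 D56128 (iv D55294) F245142
theorem F251730 : act 7 n56128 = n55450 := d43_1 D56128 F248871 (iv F245140)
def n56129 : Q := act 9 n54709
theorem D56129 : act 9 n54709 = n56129 := rfl
theorem F251731 : act 0 n56129 = n55554 := d8_1 D56129 (iv D55554) (iv F245144)
theorem F251732 : act 1 n56129 = n55338 := d16_1 D56129 (iv D55338) (iv F245145)
theorem F251733 : act 2 n56129 = n55499 := d23_1 D56129 (iv D55499) (iv F245146)
theorem F251734 : act 3 n56129 = n54753 := d29_1 D56129 (iv D54753) (iv F245147)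
theorem F251735 : act 4 n56129 = n56129 := d34_1 D56129 (iv D56129) F245148
theorem F251736 : act 5 n56129 = n55334 := d38_1 D56129 (iv D55334) (iv F245149)
theorem F251737 : act 6 n56129 = n55575 := d41_1 D56129 (iv D55575) (iv F245150)
theorem F251738 : act 7 n56129 = n55438 := d43_1 D56129 F248802 (iv F245151)
def n56130 : Q := act 8 n54710
theorem D56130 : act 8 n54710 = n56130 := rfl
theorem F251739 : act 4 n56130 = n56130 := d33_1 D56130 (iv D56130) F245153
theorem F251740 : act 6 n56130 = n55576 := d40_1 D56130 (iv D55576) (iv F245154)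
def n56131 : Q := act 8 n54711
theorem D56131 : act 8 n54711 = n56131 := rfl
theorem F251741 : act 0 n56131 = n55235 := d7_1 D56131 (iv D55235) (iv F245155)
theorem F251742 : act 1 n56131 = n55365 := d15_1 D56131 (iv D55365) (iv F245156)
theorem F251743 : act 2 n56131 = n54716 := d22_1 D56131 (iv D54716) (iv F245157)
theorem F251744 : act 4 n56131 = n54724 := d33_1 D56131 (iv D54724) (iv F245158)
theorem F251745 : act 5 n56131 = n54712 := d37_1 D56131 (iv D54712) (iv F245159)
theorem F251746 : act 6 n56131 = n55798 := d40_1 D56131 (iv D55798) (iv F245160)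
theorem F251747 : act 7 n56131 = n55801 := d42_1 D56131 (iv D55801) (iv F245161)
theorem F251748 : act 9 n56131 = n54757 := d44_2 D54711 D56131 (iv D54757) (iv D53078) (iv F237520)
def n56132 : Q := act 3 n54712
theorem D56132 : act 3 n54712 = n56132 := rfl
theorem F251749 : act 6 n56132 = n55578 := d26_2 (iv F245164) D56132 (iv D55578)
theorem F251750 : act 9 n56132 = n54758 := d29_2 (iv F245165) D56132 (iv D54758)
def n56133 : Q := act 4 n54713
theorem D56133 : act 4 n54713 = n56133 := rfl
theorem F251751 : act 6 n56133 = n55579 := d31_2 (iv F245167) D56133 (iv D55579)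
theorem F251752 : act 8 n56133 = n56133 := d33_2 F245168 D56133 (iv D56133)
theorem F251753 : act 9 n56133 = n54759 := d34_2 (iv F245169) D56133 (iv D54759)
def n56134 : Q := act 9 n54714
theorem D56134 : act 9 n54714 = n56134 := rfl
theorem F251754 : act 0 n56134 = n55763 := d8_1 D56134 (iv D55763) (iv F245170)
theorem F251755 : act 1 n56134 = n55312 := d16_1 D56134 (iv D55312) (iv F245171)
theorem F251756 : act 2 n56134 = n55303 := d23_1 D56134 (iv D55303) (iv F245172)
theorem F251757 : act 3 n56134 = n55292 := d29_1 D56134 (iv D55292) (iv F245173)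
theorem F251758 : act 4 n56134 = n54726 := d34_1 D56134 (iv D54726) (iv F245174)
theorem F251759 : act 5 n56134 = n55263 := d38_1 D56134 (iv D55263) (iv F245175)
theorem F251760 : act 6 n56134 = n55824 := d41_1 D56134 (iv D55824) (iv F245176)
theorem F251761 : act 7 n56134 = n54715 := d43_1 D56134 (iv D54715) D54714
def n56135 : Q := act 8 n54715
theorem D56135 : act 8 n54715 = n56135 := rfl
theorem F251762 : act 0 n56135 = n55774 := d7_1 D56135 (iv D55774) (iv F245178)
theorem F251763 : act 1 n56135 = n55313 := d15_1 D56135 (iv D55313) (iv F245179)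
theorem F251764 : act 2 n56135 = n55798 := d22_1 D56135 (iv D55798) (iv F245180)
theorem F251765 : act 4 n56135 = n54727 := d33_1 D56135 (iv D54727) (iv F245182)
theorem F251766 : act 5 n56135 = n55580 := d37_1 D56135 (iv D55580) (iv F245183)
theorem F251767 : act 6 n56135 = n54716 := d40_1 D56135 (iv D54716) (iv F245184)
theorem F251768 : act 9 n56135 = n54761 := d44_2 D54715 D56135 (iv D54761) (iv D53082) (iv F237535)
def n56136 : Q := act 3 n54716
theorem D56136 : act 3 n54716 = n56136 := rfl
theorem F251769 : act 1 n56136 = n55314 := d10_1 D56136 (iv D55314) (iv F245185)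
theorem F251770 : act 5 n56136 = n54717 := d25_2 (iv F245187) D56136 (iv D54717)
theorem F251771 : act 9 n56136 = n54762 := d29_2 (iv F245188) D56136 (iv D54762)
def n56137 : Q := act 2 n54717
theorem D56137 : act 2 n54717 = n56137 := rfl
theorem F251772 : act 6 n56137 = n55582 := d20_2 (iv F245190) D56137 (iv D55582)
theorem F251773 : act 9 n56137 = n54763 := d23_2 (iv F245191) D56137 (iv D54763)
def n56138 : Q := act 3 n54718
theorem D56138 : act 3 n54718 = n56138 := rfl
theorem F251774 : act 0 n56138 = n55392 := d2_1 D56138 (iv D55392) (iv F245192)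
theorem F251775 : act 1 n56138 = n54719 := d10_1 D56138 (iv D54719) (iv F245193)
theorem F251776 : act 2 n56138 = n55783 := d17_1 D56138 (iv D55783) F243063 (iv F240939) (iv F245194)
theorem F251777 : act 4 n56138 = n55640 := d24_2 (iv F245195) D56138 (iv D55640) (iv F245547) F245546
theorem F251778 : act 6 n56138 = n56138 := d26_2 F245196 D56138 (iv D56138)
theorem F251779 : act 7 n56138 = n54723 := d27_2 (iv F245197) D56138 (iv D54723)
theorem F251780 : act 8 n56138 = n56138 := d28_2 D54718 D56138 (iv D56138) (iv D54718) F237546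
theorem F251781 : act 9 n56138 = n54765 := d29_2 (iv F245198) D56138 (iv D54765)
def n56139 : Q := act 4 n54719
theorem D56139 : act 4 n54719 = n56139 := rfl
theorem F251782 : act 0 n56139 = n55843 := d3_1 D56139 F250184 (iv F245199)
theorem F251783 : act 1 n56139 = n55640 := d11_1 D56139 (iv F251777) F251775
theorem F251784 : act 3 n56139 = n55639 := d24_1 D56139 F249647 F243264 (iv F237552) D54719
theorem F251785 : act 6 n56139 = n56139 := d31_2 F245200 D56139 (iv D56139)
theorem F251786 : act 7 n56139 = n54725 := d32_2 (iv F245201) D56139 (iv D54725)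
theorem F251787 : act 8 n56139 = n56139 := d33_2 F245202 D56139 (iv D56139)
theorem F251788 : act 9 n56139 = n54766 := d34_2 (iv F245203) D56139 (iv D54766)
def n56140 : Q := act 8 n54720
theorem D56140 : act 8 n54720 = n56140 := rfl
theorem F251789 : act 0 n56140 = n55123 := d7_1 D56140 (iv D55123) (iv F245204)
theorem F251790 : act 1 n56140 = n55320 := d15_1 D56140 (iv D55320) (iv F245205)
theorem F251791 : act 2 n56140 = n55262 := d22_1 D56140 (iv D55262) (iv F245206)
theorem F251792 : act 5 n56140 = n56140 := d37_1 D56140 (iv D56140) F245208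
theorem F251793 : act 6 n56140 = n54721 := d40_1 D56140 (iv D54721) (iv F245209)
theorem F251794 : act 7 n56140 = n55914 := d42_1 D56140 (iv D55914) (iv F245210)
theorem F251795 : act 9 n56140 = n54768 := d44_2 D54720 D56140 (iv D54768) (iv D53089) (iv F237561)
def n56141 : Q := act 3 n54721
theorem D56141 : act 3 n54721 = n56141 := rfl
theorem F251796 : act 0 n56141 = n55746 := d2_1 D56141 (iv D55746) (iv F245211)
theorem F251797 : act 1 n56141 = n55321 := d10_1 D56141 (iv D55321) (iv F245212)
theorem F251798 : act 5 n56141 = n54722 := d25_2 (iv F245214) D56141 (iv D54722)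
theorem F251799 : act 7 n56141 = n54728 := d27_2 (iv F245215) D56141 (iv D54728)
theorem F251800 : act 8 n56141 = n56141 := d28_2 D54721 D56141 (iv D56141) (iv D54721) F237566
theorem F251801 : act 9 n56141 = n54769 := d29_2 (iv F245216) D56141 (iv D54769)
def n56142 : Q := act 2 n54722
theorem D56142 : act 2 n54722 = n56142 := rfl
theorem F251802 : act 0 n56142 = n55583 := d1_1 D56142 F249458 (iv F245217)
theorem F251803 : act 3 n56142 = n55417 := d17_2 D54722 D56142 F248704 F243264 (iv F237571)
theorem F251804 : act 6 n56142 = n56142 := d20_2 F245219 D56142 (iv D56142)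
theorem F251805 : act 7 n56142 = n54729 := d21_2 (iv F245220) D56142 (iv D54729)
theorem F251806 : act 8 n56142 = n56142 := d22_2 F245221 D56142 (iv D56142)
theorem F251807 : act 9 n56142 = n54770 := d23_2 (iv F245222) D56142 (iv D54770)
theorem F251808 : act 1 n55418 = n56142 := d45_6 F243567 (iv F250320) (iv D55898) F243438 (iv F241334) D55418 (iv D56142) (iv D54722) F237575 (iv D51194) F219699 (iv F219808) F219807 (iv F225586) (iv F231391) (iv F239778) F239779 (iv D53473) (iv F239336) F239332 F231079 F221833 (iv F231030) F231028 F222002 (iv D48145) D48146 F215520 (iv F215714) (iv F225580) (iv F234756) F234755 (iv F235062) (iv F243015) (iv F249990) (iv D55765) (iv F246274) (iv D54898) (iv F246050) (iv D54863) (iv D53228) F230325 F221669 (iv F221473) D51477 D53319 F239089 F234977 F225862 D50779 F226801 (iv F226806) (iv F225872) F225874 F227119 F227114 F227116 F217690 (iv D47686) F180057 F125474 (iv F125007) F125009 (iv D20500) F61905 (iv F61889) F61888 (iv F88409) F204101 (iv F92391) F92392 (iv F92068) D31195 D45513 F189517 (iv F203009) (iv D44795)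 F130196 F90932 D21113 D30758 D44863 F206696 (iv F207496) (iv F217361) D50813 F226952 D52754 (iv F243564)
def n56143 : Q := act 5 n54725
theorem D56143 : act 5 n54725 = n56143 := rfl
theorem F251809 : act 0 n56143 = n55844 := d4_1 D56143 F250190 (iv F245238)
theorem F251810 : act 1 n56143 = n55637 := d12_1 D56143 F249640 (iv F245239)
theorem F251811 : act 3 n56143 = n55634 := d25_1 D56143 F249631 (iv F245240)
theorem F251812 : act 6 n56143 = n55635 := d35_2 (iv F245241) D56143 F249635 F242503 F237634
theorem F251813 : act 8 n56143 = n56143 := d37_2 F245242 D56143 (iv D56143)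
theorem F251814 : act 9 n56143 = n54776 := d38_2 (iv F245243) D56143 (iv D54776)
def n56144 : Q := act 8 n54726
theorem D56144 : act 8 n54726 = n56144 := rfl
theorem F251815 : act 0 n56144 = n55782 := d7_1 D56144 (iv D55782) (iv F245244)
theorem F251816 : act 1 n56144 = n55326 := d15_1 D56144 (iv D55326) (iv F245245)
theorem F251817 : act 2 n56144 = n55447 := d22_1 D56144 (iv D55447) (iv F245246)
theorem F251818 : act 5 n56144 = n54730 := d37_1 D56144 (iv D54730) (iv F245248)
theorem F251819 : act 6 n56144 = n55914 := d40_1 D56144 (iv D55914) (iv F245249)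
theorem F251820 : act 7 n56144 = n54727 := d42_1 D56144 (iv D54727) (iv F245250)
theorem F251821 : act 9 n56144 = n54777 := d44_2 D54726 D56144 (iv D54777) (iv D53100) (iv F237606)
def n56145 : Q := act 3 n54727
theorem D56145 : act 3 n54727 = n56145 := rfl
theorem F251822 : act 0 n56145 = n55785 := d2_1 D56145 (iv D55785) (iv F245251)
theorem F251823 : act 1 n56145 = n55327 := d10_1 D56145 (iv D55327) (iv F245252)
theorem F251824 : act 2 n56145 = n55405 := d17_1 D56145 (iv D55405) (iv F245494) F245495 (iv F245253)
theorem F251825 : act 5 n56145 = n54731 := d25_2 (iv F245254) D56145 (iv D54731)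
theorem F251826 : act 6 n56145 = n54728 := d26_2 (iv F245255) D56145 (iv D54728)
theorem F251827 : act 8 n56145 = n56145 := d28_2 D54727 D56145 (iv D56145) (iv D54727) F237610
theorem F251828 : act 9 n56145 = n54778 := d29_2 (iv F245256) D56145 (iv D54778)
def n56146 : Q := act 2 n54728
theorem D56146 : act 2 n54728 = n56146 := rfl
theorem F251829 : act 0 n56146 = n55573 := d1_1 D56146 (iv F251425) F251423
theorem F251830 : act 3 n56146 = n55404 := d17_2 D54728 D56146 F248660 (iv F245233) F245232
theorem F251831 : act 5 n56146 = n54729 := d19_2 (iv F245258) D56146 (iv D54729)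
theorem F251832 : act 6 n56146 = n55405 := d20_2 F251826 D56146 (iv F251824)
theorem F251833 : act 8 n56146 = n56146 := d22_2 F245259 D56146 (iv D56146)
theorem F251834 : act 9 n56146 = n54779 := d23_2 (iv F245260) D56146 (iv D54779)
theorem F251835 : act 1 n55407 = n56146 := d13_3 F251832 F248664 (iv F248671)
def n56147 : Q := act 4 n54728
theorem D56147 : act 4 n54728 = n56147 := rfl
theorem F251836 : act 1 n56147 = n55329 := d11_1 D56147 (iv D55329) (iv F245257)
theorem F251837 : act 8 n56147 = n56147 := d33_2 F245259 D56147 (iv D56147)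
theorem F251838 : act 9 n56147 = n54780 := d34_2 (iv F245260) D56147 (iv D54780)
def n56148 : Q := act 3 n54730
theorem D56148 : act 3 n54730 = n56148 := rfl
theorem F251839 : act 0 n56148 = n55783 := d2_1 D56148 (iv D55783) (iv F245267)
theorem F251840 : act 1 n56148 = n55332 := d10_1 D56148 (iv D55332) (iv F245268)
theorem F251841 : act 2 n56148 = n55392 := d17_1 D56148 (iv D55392) F241224 (iv F243151) (iv F245269)
theorem F251842 : act 4 n56148 = n55198 := d24_2 (iv F245270) D56148 (iv D55198) (iv F244649) F244648
theorem F251843 : act 6 n56148 = n56148 := d26_2 F245271 D56148 (iv D56148)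
theorem F251844 : act 7 n56148 = n54731 := d27_2 (iv F245272) D56148 (iv D54731)
theorem F251845 : act 8 n56148 = n56148 := d28_2 D54730 D56148 (iv D56148) (iv D54730) F237638
theorem F251846 : act 9 n56148 = n54784 := d29_2 (iv F245273) D56148 (iv D54784)
def n56149 : Q := act 7 n54732
theorem D56149 : act 7 n54732 = n56149 := rfl
theorem F251847 : act 0 n56149 = n55061 := d6_1 D56149 F247104 (iv F245281)
theorem F251848 : act 1 n56149 = n54965 := d14_1 D56149 F246640 (iv F245282)
theorem F251849 : act 2 n56149 = n55225 := d21_1 D56149 F247873 (iv F245283)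
theorem F251850 : act 3 n56149 = n54963 := d27_1 D56149 F246628 (iv F245284)
theorem F251851 : act 4 n56149 = n56149 := d32_1 D56149 (iv D56149) F245285
theorem F251852 : act 5 n56149 = n54741 := d36_1 D56149 (iv D54741) (iv F245286)
theorem F251853 : act 6 n56149 = n55018 := d39_1 D56149 F246914 F239542 (iv F237665) D54732
theorem F251854 : act 8 n56149 = n55270 := d42_2 F251645 D56149 (iv F251644)
def n56150 : Q := act 9 n54732
theorem D56150 : act 9 n54732 = n56150 := rfl
theorem F251855 : act 0 n56150 = n55079 := d8_1 D56150 (iv D55079) (iv F245281)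
theorem F251856 : act 1 n56150 = n55341 := d16_1 D56150 (iv D55341) (iv F245282)
theorem F251857 : act 2 n56150 = n55237 := d23_1 D56150 (iv D55237) (iv F245283)
theorem F251858 : act 3 n56150 = n54991 := d29_1 D56150 (iv D54991) (iv F245284)
theorem F251859 : act 4 n56150 = n56150 := d34_1 D56150 (iv D56150) F245285
theorem F251860 : act 5 n56150 = n54742 := d38_1 D56150 (iv D54742) (iv F245286)
theorem F251861 : act 6 n56150 = n54733 := d41_1 D56150 (iv D54733) D54732
def n56151 : Q := act 8 n54733
theorem D56151 : act 8 n54733 = n56151 := rfl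
theorem F251862 : act 1 n56151 = n55342 := d15_1 D56151 (iv D55342) (iv F245287)
theorem F251863 : act 4 n56151 = n56151 := d33_1 D56151 (iv D56151) F245288
theorem F251864 : act 5 n56151 = n54734 := d37_1 D56151 (iv D54734) (iv F245289)
theorem F251865 : act 7 n56151 = n55588 := d42_1 D56151 (iv D55588) (iv F245290)
def n56152 : Q := act 3 n54734
theorem D56152 : act 3 n54734 = n56152 := rfl
theorem F251866 : act 1 n56152 = n55343 := d10_1 D56152 (iv D55343) (iv F245291)
theorem F251867 : act 6 n56152 = n54744 := d26_2 (iv F245293) D56152 (iv D54744)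
theorem F251868 : act 7 n56152 = n55589 := d27_2 (iv F245294) D56152 (iv D55589)
def n56153 : Q := act 9 n54735
theorem D56153 : act 9 n54735 = n56153 := rfl
theorem F251869 : act 0 n56153 = n54737 := d8_1 D56153 (iv D54737) (iv F245295)
theorem F251870 : act 1 n56153 = n55297 := d16_1 D56153 (iv D55297) (iv F245296)
theorem F251871 : act 2 n56153 = n55344 := d23_1 D56153 (iv D55344) (iv F245297)
theorem F251872 : act 3 n56153 = n55485 := d29_1 D56153 (iv D55485) (iv F245298)
theorem F251873 : act 4 n56153 = n54736 := d34_1 D56153 (iv D54736) D54735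
theorem F251874 : act 5 n56153 = n55294 := d38_1 D56153 (iv D55294) (iv F245299)
theorem F251875 : act 6 n56153 = n55574 := d41_1 D56153 (iv D55574) (iv F245300)
theorem F251876 : act 7 n56153 = n54746 := d43_1 D56153 (iv D54746) (iv F245301)
def n56154 : Q := act 8 n54736
theorem D56154 : act 8 n54736 = n56154 := rfl
theorem F251877 : act 0 n56154 = n54738 := d7_1 D56154 (iv D54738) (iv F245303)
theorem F251878 : act 1 n56154 = n55317 := d15_1 D56154 (iv D55317) (iv F245304)
theorem F251879 : act 2 n56154 = n55345 := d22_1 D56154 (iv D55345) (iv F245305)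
theorem F251880 : act 5 n56154 = n54764 := d37_1 D56154 (iv D54764) (iv F245307)
theorem F251881 : act 6 n56154 = n55904 := d40_1 D56154 (iv D55904) (iv F245308)
theorem F251882 : act 7 n56154 = n54747 := d42_1 D56154 (iv D54747) (iv F245309)
theorem F251883 : act 9 n56154 = n55391 := d44_2 D54736 D56154 (iv D55391) (iv D53796) (iv F237680)
def n56155 : Q := act 8 n54737
theorem D56155 : act 8 n54737 = n56155 := rfl
theorem F251884 : act 1 n56155 = n54739 := d15_1 D56155 (iv D54739) (iv F245310)
theorem F251885 : act 2 n56155 = n55349 := d22_1 D56155 (iv D55349) (iv F245311)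
theorem F251886 : act 4 n56155 = n54738 := d33_1 D56155 (iv D54738) (iv F245313)
theorem F251887 : act 5 n56155 = n55799 := d37_1 D56155 (iv D55799) (iv F245314)
theorem F251888 : act 7 n56155 = n54751 := d42_1 D56155 (iv D54751) (iv F245315)
def n56156 : Q := act 3 n54738
theorem D56156 : act 3 n54738 = n56156 := rfl
theorem F251889 : act 1 n56156 = n54740 := d10_1 D56156 (iv D54740) (iv F245316)
theorem F251890 : act 5 n56156 = n54765 := d25_2 (iv F245318) D56156 (iv D54765)
theorem F251891 : act 7 n56156 = n54752 := d27_2 (iv F245319) D56156 (iv D54752)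
theorem F251892 : act 8 n56156 = n54797 := d28_2 D54738 D56156 (iv D54797) (iv D53124) (iv F237688)
def n56157 : Q := act 3 n54739
theorem D56157 : act 3 n54739 = n56157 := rfl
theorem F251893 : act 0 n56157 = n55875 := d2_1 D56157 (iv D55875) (iv F245320)
theorem F251894 : act 5 n56157 = n55802 := d25_2 (iv F245323) D56157 (iv D55802)
theorem F251895 : act 7 n56157 = n54758 := d27_2 (iv F245324) D56157 (iv D54758)
theorem F251896 : act 8 n56157 = n55489 := d28_2 D54739 D56157 (iv D55489) (iv D53925) (iv F237693)
def n56158 : Q := act 4 n54740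
theorem D56158 : act 4 n54740 = n56158 := rfl
theorem F251897 : act 0 n56158 = n55920 := d3_1 D56158 (iv D55920) (iv F245325)
theorem F251898 : act 7 n56158 = n54759 := d32_2 (iv F245327) D56158 (iv D54759)
theorem F251899 : act 8 n56158 = n54798 := d33_2 (iv F245328) D56158 (iv D54798)
def n56159 : Q := act 9 n54741
theorem D56159 : act 9 n54741 = n56159 := rfl
theorem F251900 : act 0 n56159 = n55063 := d8_1 D56159 (iv D55063) (iv F245329)
theorem F251901 : act 1 n56159 = n55361 := d16_1 D56159 (iv D55361) (iv F245330)
theorem F251902 : act 2 n56159 = n55226 := d23_1 D56159 (iv D55226) (iv F245331)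
theorem F251903 : act 3 n56159 = n54983 := d29_1 D56159 (iv D54983) (iv F245332)
theorem F251904 : act 4 n56159 = n54767 := d34_1 D56159 (iv D54767) (iv F245333)
theorem F251905 : act 6 n56159 = n54760 := d41_1 D56159 (iv D54760) (iv F245334)
theorem F251906 : act 7 n56159 = n54742 := d43_1 D56159 (iv D54742) D54741
def n56160 : Q := act 8 n54742
theorem D56160 : act 8 n54742 = n56160 := rfl
theorem F251907 : act 0 n56160 = n55081 := d7_1 D56160 (iv D55081) (iv F245336)
theorem F251908 : act 1 n56160 = n55362 := d15_1 D56160 (iv D55362) (iv F245337)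
theorem F251909 : act 2 n56160 = n55239 := d22_1 D56160 (iv D55239) (iv F245338)
theorem F251910 : act 4 n56160 = n54768 := d33_1 D56160 (iv D54768) (iv F245340)
theorem F251911 : act 6 n56160 = n54743 := d40_1 D56160 (iv D54743) (iv F245341)
def n56161 : Q := act 3 n54743
theorem D56161 : act 3 n54743 = n56161 := rfl
theorem F251912 : act 0 n56161 = n55728 := d2_1 D56161 (iv D55728) (iv F245342)
theorem F251913 : act 1 n56161 = n55363 := d10_1 D56161 (iv D55363) (iv F245343)
theorem F251914 : act 5 n56161 = n54744 := d25_2 (iv F245346) D56161 (iv D54744)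
theorem F251915 : act 7 n56161 = n54762 := d27_2 (iv F245347) D56161 (iv D54762)
theorem F251916 : act 8 n56161 = n55698 := d28_2 D54743 D56161 (iv D55698) (iv D54185) (iv F237709)
def n56162 : Q := act 2 n54744
theorem D56162 : act 2 n54744 = n56162 := rfl
theorem F251917 : act 7 n56162 = n54763 := d21_2 (iv F245349) D56162 (iv D54763)
def n56163 : Q := act 9 n54745
theorem D56163 : act 9 n54745 = n56163 := rfl
theorem F251918 : act 0 n56163 = n54749 := d8_1 D56163 (iv D54749) (iv F245350)
theorem F251919 : act 1 n56163 = n55306 := d16_1 D56163 (iv D55306) (iv F245351)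
theorem F251920 : act 2 n56163 = n55263 := d23_1 D56163 (iv D55263) (iv F245352)
theorem F251921 : act 3 n56163 = n54746 := d29_1 D56163 (iv D54746) D54745
theorem F251922 : act 4 n56163 = n54799 := d34_1 D56163 (iv D54799) (iv F245353)
theorem F251923 : act 5 n56163 = n55303 := d38_1 D56163 (iv D55303) (iv F245354)
theorem F251924 : act 6 n56163 = n55268 := d41_1 D56163 (iv D55268) (iv F245355)
theorem F251925 : act 7 n56163 = n55485 := d43_1 D56163 (iv D55485) (iv F245356)
def n56164 : Q := act 8 n54746
theorem D56164 : act 8 n54746 = n56164 := rfl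
theorem F251926 : act 0 n56164 = n54751 := d7_1 D56164 (iv D54751) (iv F245358)
theorem F251927 : act 1 n56164 = n55310 := d15_1 D56164 (iv D55310) (iv F245359)
theorem F251928 : act 2 n56164 = n55365 := d22_1 D56164 (iv D55365) (iv F245360)
theorem F251929 : act 4 n56164 = n54747 := d33_1 D56164 (iv D54747) (iv F245361)
theorem F251930 : act 5 n56164 = n55304 := d37_1 D56164 (iv D55304) (iv F245362)
theorem F251931 : act 6 n56164 = n55603 := d40_1 D56164 (iv D55603) (iv F245363)
theorem F251932 : act 9 n56164 = n55370 := d44_2 D54746 D56164 (iv D55370) (iv D53778) (iv F237721)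
def n56165 : Q := act 3 n54747
theorem D56165 : act 3 n54747 = n56165 := rfl
theorem F251933 : act 0 n56165 = n54752 := d2_1 D56165 (iv D54752) (iv F245364)
theorem F251934 : act 1 n56165 = n55325 := d10_1 D56165 (iv D55325) (iv F245365)
theorem F251935 : act 2 n56165 = n54778 := d17_1 D56165 (iv D54778) (iv F245516) F245517 (iv F245366)
theorem F251936 : act 5 n56165 = n54771 := d25_2 (iv F245367) D56165 (iv D54771)
theorem F251937 : act 6 n56165 = n54779 := d26_2 (iv F245368) D56165 F245532
theorem F251938 : act 8 n56165 = n54791 := d28_2 D54747 D56165 F245601 (iv D53128) (iv F237725)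
theorem F251939 : act 9 n56165 = n55405 := d29_2 (iv F245369) D56165 (iv D55405)
def n56166 : Q := act 9 n54748
theorem D56166 : act 9 n54748 = n56166 := rfl
theorem F251940 : act 0 n56166 = n55616 := d8_1 D56166 (iv D55616) (iv F245370)
theorem F251941 : act 1 n56166 = n54753 := d16_1 D56166 (iv D54753) (iv F245371)
theorem F251942 : act 2 n56166 = n55128 := d23_1 D56166 (iv D55128) (iv F245372)
theorem F251943 : act 3 n56166 = n55338 := d29_1 D56166 (iv D55338) (iv F245373)
theorem F251944 : act 4 n56166 = n54801 := d34_1 D56166 (iv D54801) (iv F245374)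
theorem F251945 : act 5 n56166 = n55336 := d38_1 D56166 (iv D55336) (iv F245375)
theorem F251946 : act 6 n56166 = n55605 := d41_1 D56166 (iv D55605) (iv F245376)
theorem F251947 : act 7 n56166 = n55130 := d43_1 D56166 (iv D55130) (iv F245377)
def n56167 : Q := act 8 n54749
theorem D56167 : act 8 n54749 = n56167 := rfl
theorem F251948 : act 1 n56167 = n54754 := d15_1 D56167 (iv D54754) (iv F245378)
theorem F251949 : act 2 n56167 = n55764 := d22_1 D56167 (iv D55764) (iv F245379)
theorem F251950 : act 4 n56167 = n54802 := d33_1 D56167 (iv D54802) (iv F245381)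
theorem F251951 : act 5 n56167 = n55795 := d37_1 D56167 (iv D55795) (iv F245382)
theorem F251952 : act 6 n56167 = n55606 := d40_1 D56167 (iv D55606) (iv F245383)
theorem F251953 : act 7 n56167 = n55487 := d42_1 D56167 (iv D55487) (iv F245384)
def n56168 : Q := act 8 n54750
theorem D56168 : act 8 n54750 = n56168 := rfl
theorem F251954 : act 0 n56168 = n55304 := d7_1 D56168 (iv D55304) (iv F245385)
theorem F251955 : act 1 n56168 = n54757 := d15_1 D56168 (iv D54757) (iv F245386)
theorem F251956 : act 2 n56168 = n55370 := d22_1 D56168 (iv D55370) (iv F245387)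
theorem F251957 : act 4 n56168 = n54772 := d33_1 D56168 (iv D54772) (iv F245389)
theorem F251958 : act 5 n56168 = n54751 := d37_1 D56168 (iv D54751) (iv F245390)
theorem F251959 : act 6 n56168 = n55823 := d40_1 D56168 (iv D55823) (iv F245391)
theorem F251960 : act 7 n56168 = n55799 := d42_1 D56168 (iv D55799) (iv F245392)
theorem F251961 : act 9 n56168 = n55365 := d44_2 D54750 D56168 (iv D55365) (iv D53773) (iv F237740)
def n56169 : Q := act 3 n54751
theorem D56169 : act 3 n54751 = n56169 := rfl
theorem F251962 : act 1 n56169 = n54758 := d10_1 D56169 (iv D54758) (iv F245393)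
theorem F251963 : act 6 n56169 = n55609 := d26_2 (iv F245396) D56169 (iv D55609)
def n56170 : Q := act 4 n54752
theorem D56170 : act 4 n54752 = n56170 := rfl
theorem F251964 : act 1 n56170 = n54759 := d11_1 D56170 (iv D54759) (iv F245397)
theorem F251965 : act 6 n56170 = n55610 := d31_2 (iv F245399) D56170 (iv D55610)
theorem F251966 : act 8 n56170 = n54804 := d33_2 (iv F245400) D56170 (iv D54804)
def n56171 : Q := act 8 n54753
theorem D56171 : act 8 n54753 = n56171 := rfl
theorem F251967 : act 0 n56171 = n55555 := d7_1 D56171 (iv D55555) (iv F245401)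
theorem F251968 : act 2 n56171 = n55482 := d22_1 D56171 (iv D55482) (iv F245402)
theorem F251969 : act 4 n56171 = n54805 := d33_1 D56171 (iv D54805) (iv F245403)
theorem F251970 : act 5 n56171 = n55360 := d37_1 D56171 F248514 (iv F245404)
theorem F251971 : act 6 n56171 = n55614 := d40_1 D56171 (iv D55614) (iv F245405)
theorem F251972 : act 7 n56171 = n55385 := d42_1 D56171 F248593 (iv F245406)
theorem F251973 : act 9 n56171 = n54754 := d44_2 D54753 D56171 (iv D54754) (iv D53076) D53075
def n56172 : Q := act 3 n54754
theorem D56172 : act 3 n54754 = n56172 := rfl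
theorem F251974 : act 0 n56172 = n55858 := d2_1 D56172 (iv D55858) (iv F245407)
theorem F251975 : act 5 n56172 = n55796 := d25_2 (iv F245410) D56172 (iv D55796)
theorem F251976 : act 6 n56172 = n55615 := d26_2 (iv F245411) D56172 (iv D55615)
theorem F251977 : act 7 n56172 = n55489 := d27_2 (iv F245412) D56172 (iv D55489)
theorem F251978 : act 8 n56172 = n54758 := d28_2 D54754 D56172 (iv D54758) (iv D53079) (iv F237758)
def n56173 : Q := act 9 n54755
theorem D56173 : act 9 n54755 = n56173 := rfl
theorem F251979 : act 0 n56173 = n55336 := d8_1 D56173 (iv D55336) (iv F245413)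
theorem F251980 : act 1 n56173 = n55307 := d16_1 D56173 (iv D55307) (iv F245414)
theorem F251981 : act 2 n56173 = n54760 := d23_1 D56173 (iv D54760) (iv F245415)
theorem F251982 : act 3 n56173 = n55221 := d29_1 D56173 (iv D55221) (iv F245416)
theorem F251983 : act 4 n56173 = n54774 := d34_1 D56173 (iv D54774) (iv F245417)
theorem F251984 : act 5 n56173 = n55616 := d38_1 D56173 (iv D55616) (iv F245418)
theorem F251985 : act 6 n56173 = n55226 := d41_1 D56173 (iv D55226) (iv F245419)
theorem F251986 : act 7 n56173 = n54756 := d43_1 D56173 (iv D54756) D54755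
def n56174 : Q := act 8 n54756
theorem D56174 : act 8 n54756 = n56174 := rfl
theorem F251987 : act 0 n56174 = n55372 := d7_1 D56174 F248552 (iv F245421)
theorem F251988 : act 1 n56174 = n55823 := d15_1 D56174 (iv D55823) (iv F245422)
theorem F251989 : act 2 n56174 = n54761 := d22_1 D56174 (iv D54761) (iv F245423)
theorem F251990 : act 4 n56174 = n54775 := d33_1 D56174 (iv D54775) (iv F245425)
theorem F251991 : act 5 n56174 = n55617 := d37_1 D56174 (iv D55617) (iv F245426)
theorem F251992 : act 6 n56174 = n54757 := d40_1 D56174 (iv D54757) (iv F245427)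
theorem F251993 : act 9 n56174 = n55798 := d44_2 D54756 D56174 (iv D55798) (iv D54308) (iv F237769)
def n56175 : Q := act 3 n54757
theorem D56175 : act 3 n54757 = n56175 := rfl
theorem F251994 : act 0 n56175 = n55857 := d2_1 D56175 (iv D55857) (iv F245428)
theorem F251995 : act 4 n56175 = n55867 := d24_2 (iv F245430) D56175 (iv D55867) F243353 (iv F237872)
theorem F251996 : act 5 n56175 = n54758 := d25_2 (iv F245431) D56175 (iv D54758)
theorem F251997 : act 7 n56175 = n55802 := d27_2 (iv F245432) D56175 (iv D55802)
theorem F251998 : act 8 n56175 = n55796 := d28_2 D54757 D56175 (iv D55796) (iv D54306) (iv F237772)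
def n56176 : Q := act 2 n54758
theorem D56176 : act 2 n54758 = n56176 := rfl
theorem F251999 : act 3 n56176 = n54763 := d17_2 D54758 D56176 (iv D54763) (iv D53084) (iv F237776)
theorem F252000 : act 6 n56176 = n55619 := d20_2 (iv F245433) D56176 (iv D55619)
def n56177 : Q := act 4 n54758
theorem D56177 : act 4 n54758 = n56177 := rfl
theorem F252001 : act 3 n56177 = n54759 := d24_1 D56177 (iv D54759) (iv D53080) (iv F237777) D54758
theorem F252002 : act 6 n56177 = n55620 := d31_2 (iv F245433) D56177 (iv D55620)
def n56178 : Q := act 5 n54759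
theorem D56178 : act 5 n54759 = n56178 := rfl
theorem F252003 : act 0 n56178 = n55897 := d4_1 D56178 (iv F251457) F251454
theorem F252004 : act 4 n56178 = n54776 := d30_1 D56178 (iv D54776) (iv D53099) (iv F237779) D54759
theorem F252005 : act 8 n56178 = n54808 := d37_2 (iv F245435) D56178 (iv D54808)
def n56179 : Q := act 8 n54760
theorem D56179 : act 8 n54760 = n56179 := rfl
theorem F252006 : act 1 n56179 = n55386 := d15_1 D56179 (iv D55386) (iv F245436)
theorem F252007 : act 4 n56179 = n54777 := d33_1 D56179 (iv D54777) (iv F245437)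
theorem F252008 : act 5 n56179 = n55622 := d37_1 D56179 (iv D55622) (iv F245438)
theorem F252009 : act 7 n56179 = n54761 := d42_1 D56179 (iv D54761) (iv F245439)
def n56180 : Q := act 3 n54761
theorem D56180 : act 3 n54761 = n56180 := rfl
theorem F252010 : act 1 n56180 = n55387 := d10_1 D56180 (iv D55387) (iv F245440)
theorem F252011 : act 5 n56180 = n55623 := d25_2 (iv F245442) D56180 (iv D55623)
theorem F252012 : act 6 n56180 = n54762 := d26_2 (iv F245443) D56180 (iv D54762)
def n56181 : Q := act 2 n54762
theorem D56181 : act 2 n54762 = n56181 := rfl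
theorem F252013 : act 5 n56181 = n54763 := d19_2 (iv F245445) D56181 (iv D54763)
def n56182 : Q := act 4 n54762
theorem D56182 : act 4 n54762 = n56182 := rfl
theorem F252014 : act 1 n56182 = n55389 := d11_1 D56182 (iv D55389) (iv F245444)
theorem F252015 : act 3 n56182 = n54780 := d24_1 D56182 (iv D54780) (iv D53102) (iv F237790) D54762
def n56183 : Q := act 1 n54763
theorem D56183 : act 1 n54763 = n56183 := rfl
theorem F252016 : act 2 n56183 = n55390 := d9_2 D54763 D56183 (iv D55390) (iv D53794) (iv F237792)
theorem F252017 : act 6 n56183 = n55625 := d13_2 (iv F245446) D56183 (iv D55625)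
def n56184 : Q := act 3 n54764
theorem D56184 : act 3 n54764 = n56184 := rfl
theorem F252018 : act 0 n56184 = n54765 := d2_1 D56184 (iv D54765) (iv F245447)
theorem F252019 : act 1 n56184 = n55318 := d10_1 D56184 (iv D55318) (iv F245448)
theorem F252020 : act 2 n56184 = n54784 := d17_1 D56184 (iv D54784) (iv F245545) F245546 (iv F245449)
theorem F252021 : act 4 n56184 = n55493 := d24_2 (iv F245450) D56184 (iv D55493) F241834 (iv F240939)
theorem F252022 : act 6 n56184 = n56184 := d26_2 F245451 D56184 (iv D56184)
theorem F252023 : act 7 n56184 = n54771 := d27_2 (iv F245452) D56184 (iv D54771)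
theorem F252024 : act 8 n56184 = n54795 := d28_2 D54764 D56184 F245619 (iv D53137) (iv F237797)
theorem F252025 : act 9 n56184 = n55392 := d29_2 (iv F245453) D56184 (iv D55392)
def n56185 : Q := act 4 n54765
theorem D56185 : act 4 n54765 = n56185 := rfl
theorem F252026 : act 0 n56185 = n55493 := d3_1 D56185 (iv F252021) F252018
theorem F252027 : act 1 n56185 = n54766 := d11_1 D56185 (iv D54766) (iv F245454)
theorem F252028 : act 2 n56185 = n55180 := d18_1 D56185 (iv F251505) F251504
theorem F252029 : act 3 n56185 = n55492 := d24_1 D56185 F249068 F243151 (iv F237803) D54765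
theorem F252030 : act 6 n56185 = n56185 := d31_2 F245455 D56185 (iv D56185)
theorem F252031 : act 7 n56185 = n54773 := d32_2 (iv F245456) D56185 (iv D54773)
theorem F252032 : act 8 n56185 = n54809 := d33_2 (iv F245457) D56185 (iv D54809)
theorem F252033 : act 9 n56185 = n55640 := d34_2 F251781 D56185 (iv F251777)
def n56186 : Q := act 5 n54766
theorem D56186 : act 5 n54766 = n56186 := rfl
theorem F252034 : act 0 n56186 = n55890 := d4_1 D56186 F250293 (iv F245458)
theorem F252035 : act 3 n56186 = n55889 := d25_1 D56186 F250290 (iv F245459)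
theorem F252036 : act 7 n56186 = n54776 := d36_2 (iv F245461) D56186 (iv D54776)
theorem F252037 : act 8 n56186 = n54810 := d37_2 (iv F245462) D56186 (iv D54810)
def n56187 : Q := act 8 n54767
theorem D56187 : act 8 n54767 = n56187 := rfl
theorem F252038 : act 0 n56187 = n55114 := d7_1 D56187 (iv D55114) (iv F245463)
theorem F252039 : act 1 n56187 = n55398 := d15_1 D56187 (iv D55398) (iv F245464)
theorem F252040 : act 2 n56187 = n55258 := d22_1 D56187 (iv D55258) (iv F245465)
theorem F252041 : act 5 n56187 = n56187 := d37_1 D56187 (iv D56187) F245467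
theorem F252042 : act 6 n56187 = n54777 := d40_1 D56187 (iv D54777) (iv F245468)
theorem F252043 : act 7 n56187 = n54768 := d42_1 D56187 (iv D54768) (iv F245469)
theorem F252044 : act 9 n56187 = n55914 := d44_2 D54767 D56187 (iv D55914) (iv D54443) (iv F237816)
def n56188 : Q := act 3 n54768
theorem D56188 : act 3 n54768 = n56188 := rfl
theorem F252045 : act 0 n56188 = n55124 := d2_1 D56188 (iv D55124) (iv F245470)
theorem F252046 : act 1 n56188 = n55399 := d10_1 D56188 (iv D55399) (iv F245471)
theorem F252047 : act 2 n56188 = n55912 := d17_1 D56188 (iv D55912) F243507 (iv F240756) (iv F245472)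
theorem F252048 : act 5 n56188 = n56188 := d25_2 F245473 D56188 (iv D56188)
theorem F252049 : act 6 n56188 = n54769 := d26_2 (iv F245474) D56188 (iv D54769)
theorem F252050 : act 8 n56188 = n54786 := d28_2 D54768 D56188 (iv D54786) (iv D53113) (iv F237820)
def n56189 : Q := act 2 n54769
theorem D56189 : act 2 n54769 = n56189 := rfl
theorem F252051 : act 0 n56189 = n55592 := d1_1 D56189 F249495 (iv F245475)
theorem F252052 : act 3 n56189 = n55445 := d17_2 D54769 D56189 F248843 F241528 (iv F237825)
theorem F252053 : act 5 n56189 = n54770 := d19_2 (iv F245477) D56189 (iv D54770)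
theorem F252054 : act 6 n56189 = n55912 := d20_2 F252049 D56189 (iv F252047)
theorem F252055 : act 7 n56189 = n54779 := d21_2 (iv F245478) D56189 (iv D54779)
theorem F252056 : act 8 n56189 = n54787 := d22_2 (iv F245479) D56189 (iv D54787)
def n56190 : Q := act 4 n54769
theorem D56190 : act 4 n54769 = n56190 := rfl
theorem F252057 : act 0 n56190 = n55747 := d3_1 D56190 (iv D55747) (iv F245475)
theorem F252058 : act 1 n56190 = n55401 := d11_1 D56190 (iv D55401) (iv F245476)
theorem F252059 : act 7 n56190 = n54780 := d32_2 (iv F245478) D56190 (iv D54780)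
theorem F252060 : act 8 n56190 = n54788 := d33_2 (iv F245479) D56190 (iv D54788)
def n56191 : Q := act 1 n54770
theorem D56191 : act 1 n54770 = n56191 := rfl
theorem F252061 : act 0 n56191 = n55529 := d0_1 D56191 F249222 F242032 (iv F242465) (iv F245480)
theorem F252062 : act 2 n56191 = n55402 := d9_2 D54770 D56191 (iv D55402) (iv D53807) (iv F237829)
theorem F252063 : act 3 n56191 = n55331 := d10_2 (iv F245481) D56191 F248369
theorem F252064 : act 4 n56191 = n55927 := d11_2 F251094 D56191 (iv F251093)
theorem F252065 : act 6 n56191 = n56191 := d13_2 F245482 D56191 (iv D56191)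
theorem F252066 : act 7 n56191 = n54781 := d14_2 (iv F245483) D56191 (iv D54781)
theorem F252067 : act 8 n56191 = n54789 := d15_2 (iv F245484) D56191 (iv D54789)
theorem F252068 : act 9 n56191 = n55418 := d16_2 F251807 D56191 F251808
def n56192 : Q := act 5 n54773
theorem D56192 : act 5 n54773 = n56192 := rfl
theorem F252069 : act 0 n56192 = n55488 := d4_1 D56192 F249055 (iv F245500)
theorem F252070 : act 1 n56192 = n54776 := d12_1 D56192 (iv D54776) (iv F245501)
theorem F252071 : act 2 n56192 = n55177 := d19_1 D56192 F247632 (iv F245502)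
theorem F252072 : act 3 n56192 = n55486 := d25_1 D56192 F249047 (iv F245503)
theorem F252073 : act 6 n56192 = n55178 := d35_2 (iv F245504) D56192 F247636 F240314 (iv F237905)
theorem F252074 : act 8 n56192 = n54811 := d37_2 (iv F245505) D56192 (iv D54811)
theorem F252075 : act 9 n56192 = n55637 := d38_2 (iv F245506) D56192 F249640
def n56193 : Q := act 8 n54774
theorem D56193 : act 8 n54774 = n56193 := rfl
theorem F252076 : act 0 n56193 = n55350 := d7_1 D56193 F248472 (iv F245507)
theorem F252077 : act 1 n56193 = n55448 := d15_1 D56193 (iv D55448) (iv F245508)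
theorem F252078 : act 2 n56193 = n54777 := d22_1 D56193 (iv D54777) (iv F245509)
theorem F252079 : act 3 n56193 = n55345 := d28_1 D56193 (iv D55345) F241091 (iv F240718) (iv F245510)
theorem F252080 : act 5 n56193 = n54782 := d37_1 D56193 (iv D54782) (iv F245511)
theorem F252081 : act 6 n56193 = n55258 := d40_1 D56193 (iv D55258) (iv F245512)
theorem F252082 : act 7 n56193 = n54775 := d42_1 D56193 (iv D54775) (iv F245513)
theorem F252083 : act 9 n56193 = n55447 := d44_2 D54774 D56193 (iv D55447) (iv D53864) (iv F237863)
def n56194 : Q := act 6 n54776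
theorem D56194 : act 6 n54776 = n56194 := rfl
theorem F252084 : act 0 n56194 = n55895 := d5_1 D56194 F250311 (iv F245521)
theorem F252085 : act 1 n56194 = n55178 := d13_1 D56194 (iv F252073) F252070
theorem F252086 : act 3 n56194 = n55584 := d26_1 D56194 F249467 (iv F245522)
theorem F252087 : act 5 n56194 = n54783 := d35_1 D56194 (iv D54783) (iv D53108) (iv F237877) D54776
theorem F252088 : act 8 n56194 = n54812 := d40_2 (iv F245523) D56194 (iv D54812)
theorem F252089 : act 9 n56194 = n55635 := d41_2 F251814 D56194 (iv F251812)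
theorem F252090 : act 7 n55809 = n56194 := d42_3 F252088 (iv F245719) (iv F250104)
def n56195 : Q := act 3 n54777
theorem D56195 : act 3 n54777 = n56195 := rfl
theorem F252091 : act 1 n56195 = n55411 := d10_1 D56195 (iv D55411) (iv F245524)
theorem F252092 : act 5 n56195 = n54784 := d25_2 (iv F245525) D56195 (iv D54784)
theorem F252093 : act 7 n56195 = n54778 := d27_2 (iv F245526) D56195 (iv D54778)
theorem F252094 : act 8 n56195 = n54790 := d28_2 D54777 D56195 (iv D54790) (iv D53116) (iv F237880)
def n56196 : Q := act 4 n54778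
theorem D56196 : act 4 n54778 = n56196 := rfl
theorem F252095 : act 1 n56196 = n55413 := d11_1 D56196 (iv D55413) (iv F245527)
theorem F252096 : act 6 n56196 = n54780 := d31_2 (iv F245529) D56196 (iv D54780)
theorem F252097 : act 8 n56196 = n54792 := d33_2 (iv F245530) D56196 (iv D54792)
def n56197 : Q := act 1 n54779
theorem D56197 : act 1 n54779 = n56197 := rfl
theorem F252098 : act 0 n56197 = n55521 := d0_1 D56197 F249194 F242008 (iv F242405) (iv F245531)
theorem F252099 : act 2 n56197 = n55414 := d9_2 D54779 D56197 (iv D55414) (iv D53820) (iv F237886)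
theorem F252100 : act 3 n56197 = n55324 := d10_2 (iv F245532) D56197 F248339
theorem F252101 : act 5 n56197 = n54781 := d12_2 (iv F245533) D56197 (iv D54781)
theorem F252102 : act 6 n56197 = n55325 := d13_2 F251937 D56197 (iv F251934)
theorem F252103 : act 8 n56197 = n54793 := d15_2 (iv F245534) D56197 (iv D54793)
theorem F252104 : act 9 n56197 = n55407 := d16_2 F251834 D56197 F251835
def n56198 : Q := act 4 n54779
theorem D56198 : act 4 n54779 = n56198 := rfl
theorem F252105 : act 0 n56198 = n55610 := d3_1 D56198 (iv D55610) (iv F245531)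
theorem F252106 : act 2 n56198 = n54780 := d18_1 D56198 (iv D54780) D54779
theorem F252107 : act 8 n56198 = n54794 := d33_2 (iv F245534) D56198 (iv D54794)
def n56199 : Q := act 3 n54785
theorem D56199 : act 3 n54785 = n56199 := rfl
theorem F252108 : act 0 n56199 = n55115 := d2_1 D56199 (iv D55115) (iv F245563)
theorem F252109 : act 1 n56199 = n55421 := d10_1 D56199 (iv D55421) (iv F245564)
theorem F252110 : act 2 n56199 = n55905 := d17_1 D56199 (iv D55905) F243482 (iv F239466) (iv F245565)
theorem F252111 : act 5 n56199 = n56199 := d25_2 F245567 D56199 (iv D56199)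
theorem F252112 : act 6 n56199 = n54790 := d26_2 (iv F245568) D56199 (iv D54790)
theorem F252113 : act 7 n56199 = n54786 := d27_2 (iv F245569) D56199 (iv D54786)
theorem F252114 : act 9 n56199 = n56199 := d29_2 F245570 D56199 (iv D56199)
def n56200 : Q := act 4 n54786
theorem D56200 : act 4 n54786 = n56200 := rfl
theorem F252115 : act 0 n56200 = n55126 := d3_1 D56200 (iv D55126) (iv F245571)
theorem F252116 : act 1 n56200 = n55423 := d11_1 D56200 (iv D55423) (iv F245572)
theorem F252117 : act 2 n56200 = n55913 := d18_1 D56200 (iv D55913) (iv F245573)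
theorem F252118 : act 3 n56200 = n55012 := d24_1 D56200 (iv D55012) (iv D53400) (iv F237954) D54786
theorem F252119 : act 6 n56200 = n54788 := d31_2 (iv F245575) D56200 (iv D54788)
theorem F252120 : act 9 n56200 = n56200 := d34_2 F245576 D56200 (iv D56200)
def n56201 : Q := act 1 n54787
theorem D56201 : act 1 n54787 = n56201 := rfl
theorem F252121 : act 0 n56201 = n55538 := d0_1 D56201 F249267 F242094 (iv F242546) (iv F245577)
theorem F252122 : act 2 n56201 = n55424 := d9_2 D54787 D56201 (iv D55424) (iv D53833) (iv F237959)
theorem F252123 : act 3 n56201 = n55443 := d10_2 (iv F245578) D56201 F248831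
theorem F252124 : act 5 n56201 = n54789 := d12_2 (iv F245579) D56201 (iv D54789)
theorem F252125 : act 6 n56201 = n55908 := d13_2 (iv F245580) D56201 F250353
theorem F252126 : act 7 n56201 = n54793 := d14_2 (iv F245581) D56201 (iv D54793)
theorem F252127 : act 9 n56201 = n56201 := d16_2 F245582 D56201 (iv D56201)
def n56202 : Q := act 4 n54787
theorem D56202 : act 4 n54787 = n56202 := rfl
theorem F252128 : act 0 n56202 = n55642 := d3_1 D56202 (iv D55642) (iv F245577)
theorem F252129 : act 2 n56202 = n54788 := d18_1 D56202 (iv D54788) D54787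
theorem F252130 : act 3 n56202 = n55446 := d24_1 D56202 (iv D55446) (iv D53863) (iv F241508) (iv F245578)
theorem F252131 : act 6 n56202 = n55913 := d31_2 (iv F245580) D56202 (iv D55913)
theorem F252132 : act 7 n56202 = n54794 := d32_2 (iv F245581) D56202 (iv D54794)
theorem F252133 : act 9 n56202 = n56202 := d34_2 F245582 D56202 (iv D56202)
def n56203 : Q := act 2 n54790
theorem D56203 : act 2 n54790 = n56203 := rfl
theorem F252134 : act 0 n56203 = n54797 := d1_1 D56203 (iv F251512) F251510
theorem F252135 : act 1 n56203 = n55496 := d9_1 D56203 F249084 F248750 (iv D55427) (iv F245595)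
theorem F252136 : act 3 n56203 = n54796 := d17_2 D54790 D56203 F245626 (iv F243611) F243610
theorem F252137 : act 5 n56203 = n54795 := d19_2 (iv F245596) D56203 (iv D54795)
theorem F252138 : act 6 n56203 = n55905 := d20_2 F252112 D56203 (iv F252110)
theorem F252139 : act 7 n56203 = n54791 := d21_2 (iv F245597) D56203 (iv D54791)
theorem F252140 : act 9 n56203 = n56203 := d23_2 F245598 D56203 (iv D56203)
def n56204 : Q := act 4 n54790
theorem D56204 : act 4 n54790 = n56204 := rfl
theorem F252141 : act 1 n56204 = n55428 := d11_1 D56204 (iv D55428) (iv F245595)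
theorem F252142 : act 3 n56204 = n55745 := d24_1 D56204 F249936 F242948 (iv F237969) D54790
theorem F252143 : act 5 n56204 = n55744 := d30_2 (iv F245596) D56204 (iv D55744) F242934 (iv F237989)
theorem F252144 : act 7 n56204 = n54792 := d32_2 (iv F245597) D56204 (iv D54792)
theorem F252145 : act 9 n56204 = n56204 := d34_2 F245598 D56204 (iv D56204)
def n56205 : Q := act 4 n54791
theorem D56205 : act 4 n54791 = n56205 := rfl
theorem F252146 : act 0 n56205 = n54804 := d3_1 D56205 (iv D54804) (iv F245599)
theorem F252147 : act 1 n56205 = n55495 := d11_1 D56205 F249081 (iv F245600)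
theorem F252148 : act 2 n56205 = n54792 := d18_1 D56205 (iv D54792) D54791
theorem F252149 : act 5 n56205 = n55494 := d30_2 (iv F245602) D56205 (iv D55494) F241858 (iv F237996)
theorem F252150 : act 6 n56205 = n54794 := d31_2 (iv F245603) D56205 (iv D54794)
theorem F252151 : act 9 n56205 = n56205 := d34_2 F245604 D56205 (iv D56205)
def n56206 : Q := act 4 n54793
theorem D56206 : act 4 n54793 = n56206 := rfl
theorem F252152 : act 0 n56206 = n55544 := d3_1 D56206 (iv D55544) (iv F245608)
theorem F252153 : act 1 n56206 = n54794 := d11_1 D56206 (iv D54794) D54793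
theorem F252154 : act 2 n56206 = n55431 := d18_1 D56206 (iv D55431) (iv F245609)
theorem F252155 : act 6 n56206 = n55495 := d31_2 (iv F245612) D56206 F249081
theorem F252156 : act 9 n56206 = n56206 := d34_2 F245613 D56206 (iv D56206)
def n56207 : Q := act 3 n54794
theorem D56207 : act 3 n54794 = n56207 := rfl
theorem F252157 : act 0 n56207 = n55649 := d2_1 D56207 F249680 (iv F245614)
theorem F252158 : act 4 n56207 = n55441 := d24_2 D54794 D56207 (iv D55441) F241477 (iv F237978)
theorem F252159 : act 7 n56207 = n55446 := d27_2 F252132 D56207 (iv F252130)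
theorem F252160 : act 9 n56207 = n56207 := d29_2 F245616 D56207 (iv D56207)
def n56208 : Q := act 4 n54797
theorem D56208 : act 4 n54797 = n56208 := rfl
theorem F252161 : act 1 n56208 = n54798 := d11_1 D56208 (iv D54798) (iv F245632)
theorem F252162 : act 3 n56208 = n55494 := d24_1 D56208 (iv D55494) (iv D53934) (iv F238008) D54797
theorem F252163 : act 7 n56208 = n54804 := d32_2 (iv F245634) D56208 (iv D54804)
theorem F252164 : act 9 n56208 = n56208 := d34_2 F245635 D56208 (iv D56208)
def n56209 : Q := act 5 n54798
theorem D56209 : act 5 n54798 = n56209 := rfl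
theorem F252165 : act 0 n56209 = n55923 := d4_1 D56209 (iv D55923) (iv F245636)
theorem F252166 : act 3 n56209 = n55495 := d25_1 D56209 (iv D55495) (iv F245637)
theorem F252167 : act 4 n56209 = n54810 := d30_1 D56209 (iv D54810) (iv D53139) (iv F238013) D54798
theorem F252168 : act 7 n56209 = n54808 := d36_2 (iv F245638) D56209 (iv D54808)
theorem F252169 : act 9 n56209 = n56209 := d38_2 F245639 D56209 (iv D56209)
def n56210 : Q := act 8 n54799
theorem D56210 : act 8 n54799 = n56210 := rfl
theorem F252170 : act 0 n56210 = n54802 := d7_1 D56210 (iv D54802) (iv F245640)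
theorem F252171 : act 1 n56210 = n55889 := d15_1 D56210 (iv D55889) (iv F245641)
theorem F252172 : act 2 n56210 = n55264 := d22_1 D56210 (iv D55264) (iv F245642)
theorem F252173 : act 5 n56210 = n55492 := d37_1 D56210 (iv D55492) (iv F245644)
theorem F252174 : act 6 n56210 = n55269 := d40_1 D56210 (iv D55269) (iv F245645)
theorem F252175 : act 7 n56210 = n55486 := d42_1 D56210 (iv D55486) (iv F245646)
theorem F252176 : act 9 n56210 = n55636 := d44_2 D54799 D56210 (iv D55636) (iv D54093) F238022
def n56211 : Q := act 3 n54800
theorem D56211 : act 3 n54800 = n56211 := rfl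
theorem F252177 : act 0 n56211 = n54803 := d2_1 D56211 (iv D54803) (iv F245647)
theorem F252178 : act 1 n56211 = n54810 := d10_1 D56211 F245705 (iv F245648)
theorem F252179 : act 2 n56211 = n55183 := d17_1 D56211 (iv D55183) F240338 (iv F238126) (iv F245649)
theorem F252180 : act 5 n56211 = n54809 := d25_2 (iv F245651) D56211 F245700
theorem F252181 : act 6 n56211 = n55441 := d26_2 (iv F245652) D56211 (iv D55441)
theorem F252182 : act 7 n56211 = n54811 := d27_2 (iv F245653) D56211 F245711
theorem F252183 : act 9 n56211 = n56211 := d29_2 F245654 D56211 (iv D56211)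
def n56212 : Q := act 8 n54801
theorem D56212 : act 8 n54801 = n56212 := rfl
theorem F252184 : act 0 n56212 = n55636 := d7_1 D56212 (iv D55636) (iv F245655)
theorem F252185 : act 1 n56212 = n54805 := d15_1 D56212 (iv D54805) (iv F245656)
theorem F252186 : act 2 n56212 = n55129 := d22_1 D56212 (iv D55129) (iv F245657)
theorem F252187 : act 5 n56212 = n55133 := d37_1 D56212 (iv D55133) (iv F245659)
theorem F252188 : act 6 n56212 = n55647 := d40_1 D56212 (iv D55647) (iv F245660)
theorem F252189 : act 7 n56212 = n55131 := d42_1 D56212 (iv D55131) (iv F245661)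
theorem F252190 : act 9 n56212 = n54802 := d44_2 D54801 D56212 (iv D54802) (iv D53130) D53129
def n56213 : Q := act 3 n54802
theorem D56213 : act 3 n54802 = n56213 := rfl
theorem F252191 : act 1 n56213 = n54806 := d10_1 D56213 (iv D54806) (iv F245662)
theorem F252192 : act 2 n56213 = n55743 := d17_1 D56213 (iv D55743) (iv F247675) F247676 (iv F245663)
theorem F252193 : act 5 n56213 = n55493 := d25_2 (iv F245664) D56213 (iv D55493)
theorem F252194 : act 6 n56213 = n55648 := d26_2 (iv F245665) D56213 (iv D55648)
theorem F252195 : act 7 n56213 = n55488 := d27_2 (iv F245666) D56213 (iv D55488)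
theorem F252196 : act 8 n56213 = n54803 := d28_2 D54802 D56213 (iv D54803) (iv D53131) (iv F238045)
def n56214 : Q := act 4 n54803
theorem D56214 : act 4 n54803 = n56214 := rfl
theorem F252197 : act 1 n56214 = n54807 := d11_1 D56214 (iv D54807) (iv F245667)
theorem F252198 : act 2 n56214 = n55744 := d18_1 D56214 (iv D55744) (iv F245668)
theorem F252199 : act 3 n56214 = n54804 := d24_1 D56214 (iv D54804) (iv D53132) (iv F238051) D54803
theorem F252200 : act 6 n56214 = n55649 := d31_2 (iv F245670) D56214 (iv D55649)
theorem F252201 : act 7 n56214 = n55494 := d32_2 (iv F245671) D56214 (iv D55494)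
theorem F252202 : act 9 n56214 = n56214 := d34_2 F245672 D56214 (iv D56214)
def n56215 : Q := act 5 n54804
theorem D56215 : act 5 n54804 = n56215 := rfl
theorem F252203 : act 0 n56215 = n55494 := d4_1 D56215 (iv F252149) F252146
theorem F252204 : act 1 n56215 = n54808 := d12_1 D56215 (iv D54808) (iv F245673)
theorem F252205 : act 2 n56215 = n55184 := d19_1 D56215 (iv F251521) F251519
theorem F252206 : act 4 n56215 = n54811 := d30_1 D56215 (iv D54811) (iv D53140) (iv F238057) D54804
theorem F252207 : act 6 n56215 = n55185 := d35_2 (iv F245674) D56215 F247665 (iv F248758) F248757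
theorem F252208 : act 9 n56215 = n56215 := d38_2 F245675 D56215 (iv D56215)
def n56216 : Q := act 3 n54805
theorem D56216 : act 3 n54805 = n56216 := rfl
theorem F252209 : act 0 n56216 = n55556 := d2_1 D56216 (iv D55556) (iv F245676)
theorem F252210 : act 2 n56216 = n55568 := d17_1 D56216 (iv D55568) F242222 (iv F241780) (iv F245677)
theorem F252211 : act 5 n56216 = n55397 := d25_2 (iv F245678) D56216 F248631
theorem F252212 : act 6 n56216 = n55650 := d26_2 (iv F245679) D56216 (iv D55650)
theorem F252213 : act 7 n56216 = n55410 := d27_2 (iv F245680) D56216 F248680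
theorem F252214 : act 8 n56216 = n56216 := d28_2 D54805 D56216 (iv D56216) (iv D54805) F238062
theorem F252215 : act 9 n56216 = n54806 := d29_2 (iv F245681) D56216 (iv D54806)
def n56217 : Q := act 4 n54806
theorem D56217 : act 4 n54806 = n56217 := rfl
theorem F252216 : act 0 n56217 = n55892 := d3_1 D56217 (iv D55892) (iv F245682)
theorem F252217 : act 2 n56217 = n55599 := d18_1 D56217 (iv D55599) (iv F245683)
theorem F252218 : act 6 n56217 = n55651 := d31_2 (iv F245685) D56217 (iv D55651)
theorem F252219 : act 7 n56217 = n55490 := d32_2 (iv F245686) D56217 (iv D55490)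
theorem F252220 : act 8 n56217 = n54807 := d33_2 (iv F245687) D56217 (iv D54807)
def n56218 : Q := act 5 n54807
theorem D56218 : act 5 n54807 = n56218 := rfl
theorem F252221 : act 0 n56218 = n55916 := d4_1 D56218 F250376 (iv F245688)
theorem F252222 : act 2 n56218 = n55646 := d19_1 D56218 (iv D55646) (iv F245689)
theorem F252223 : act 3 n56218 = n54808 := d25_1 D56218 (iv D54808) (iv F245690)
theorem F252224 : act 4 n56218 = n55496 := d30_1 D56218 (iv D55496) (iv D53938) (iv F238073) D54807
theorem F252225 : act 7 n56218 = n55495 := d36_2 (iv F245692) D56218 (iv D55495)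
theorem F252226 : act 9 n56218 = n56218 := d38_2 F245693 D56218 (iv D56218)
def n56219 : Q := act 6 n54808
theorem D56219 : act 6 n54808 = n56219 := rfl
theorem F252227 : act 0 n56219 = n55925 := d5_1 D56219 F250405 (iv F245694)
theorem F252228 : act 1 n56219 = n55185 := d13_1 D56219 (iv F252207) F252204
theorem F252229 : act 4 n56219 = n54812 := d31_1 D56219 (iv D54812) (iv F245695)
theorem F252230 : act 5 n56219 = n55431 := d35_1 D56219 F248767 (iv D54116) (iv F238077) D54808
theorem F252231 : act 9 n56219 = n56219 := d41_2 F245696 D56219 (iv D56219)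
theorem F252232 : act 7 n55910 = n56219 := d32_0 F252229 (iv F245719) D55910
def n56220 : Q := act 6 n54810
theorem D56220 : act 6 n54810 = n56220 := rfl
theorem F252233 : act 0 n56220 = n55543 := d5_1 D56220 F249291 (iv F245704)
theorem F252234 : act 1 n56220 = n55441 := d13_1 D56220 (iv F252181) F252178
theorem F252235 : act 3 n56220 = n55440 := d26_1 D56220 F248815 (iv F245705)
theorem F252236 : act 5 n56220 = n56220 := d35_1 D56220 (iv D56220) (iv D54810) F238092 D54810
theorem F252237 : act 7 n56220 = n55444 := d39_2 (iv F245706) D56220 F248840 F245719 (iv D54812)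
theorem F252238 : act 9 n56220 = n56220 := d41_2 F245707 D56220 (iv D56220)
def n56221 : Q := act 3 n54815
theorem D56221 : act 3 n54815 = n56221 := rfl
theorem F252239 : act 0 n56221 = n54821 := d2_1 D56221 (iv D54821) (iv F245738)
theorem F252240 : act 1 n56221 = n54854 := d10_1 D56221 (iv D54854) (iv F245739)
theorem F252241 : act 2 n56221 = n54834 := d17_1 D56221 (iv D54834) F238377 (iv F238174) (iv F245740)
theorem F252242 : act 4 n56221 = n54844 := d24_2 (iv F245741) D56221 (iv D54844) F238472 (iv F238222)
theorem F252243 : act 5 n56221 = n54852 := d25_2 (iv F245742) D56221 (iv D54852)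
theorem F252244 : act 6 n56221 = n54823 := d26_2 (iv F245743) D56221 (iv D54823)
theorem F252245 : act 7 n56221 = n54874 := d27_2 (iv F245744) D56221 (iv D54874)
theorem F252246 : act 8 n56221 = n56221 := d28_2 D54815 D56221 (iv D56221) (iv D54815) F238159
theorem F252247 : act 9 n56221 = n54818 := d29_2 (iv F245745) D56221 (iv D54818)
def n56222 : Q := act 3 n54816
theorem D56222 : act 3 n54816 = n56222 := rfl
theorem F252248 : act 0 n56222 = n54823 := d2_1 D56222 (iv D54823) (iv F245746)
theorem F252249 : act 1 n56222 = n55454 := d10_1 D56222 (iv D55454) (iv F245747)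
theorem F252250 : act 2 n56222 = n54843 := d17_1 D56222 (iv D54843) F238467 (iv F238222) (iv F245748)
theorem F252251 : act 4 n56222 = n54835 := d24_2 (iv F245749) D56222 (iv D54835) F238382 (iv F238174)
theorem F252252 : act 5 n56222 = n55453 := d25_2 (iv F245750) D56222 (iv D55453)
theorem F252253 : act 6 n56222 = n54821 := d26_2 (iv F245751) D56222 (iv D54821)
theorem F252254 : act 7 n56222 = n54875 := d27_2 (iv F245752) D56222 (iv D54875)
theorem F252255 : act 8 n56222 = n56222 := d28_2 D54816 D56222 (iv D56222) (iv D54816) F238167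
theorem F252256 : act 9 n56222 = n54819 := d29_2 (iv F245753) D56222 (iv D54819)
def n56223 : Q := act 3 n54820
theorem D56223 : act 3 n54820 = n56223 := rfl
theorem F252257 : act 0 n56223 = n54850 := d2_1 D56223 (iv D54850) (iv F245779)
theorem F252258 : act 1 n56223 = n54821 := d10_1 D56223 (iv D54821) (iv F245780)
theorem F252259 : act 2 n56223 = n55453 := d17_1 D56223 (iv D55453) F241558 (iv F238453) (iv F245781)
theorem F252260 : act 4 n56223 = n54829 := d24_2 (iv F245782) D56223 (iv D54829) (iv F245758) F245757
theorem F252261 : act 5 n56223 = n54843 := d25_2 (iv F245783) D56223 (iv D54843)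
theorem F252262 : act 6 n56223 = n55454 := d26_2 (iv F245784) D56223 (iv D55454)
theorem F252263 : act 7 n56223 = n54909 := d27_2 (iv F245785) D56223 (iv D54909)
theorem F252264 : act 8 n56223 = n56223 := d28_2 D54820 D56223 (iv D56223) (iv D54820) F238230
theorem F252265 : act 9 n56223 = n54824 := d29_2 (iv F245786) D56223 (iv D54824)
def n56224 : Q := act 4 n54821
theorem D56224 : act 4 n54821 = n56224 := rfl
theorem F252266 : act 0 n56224 = n54844 := d3_1 D56224 (iv F252242) F252239
theorem F252267 : act 1 n56224 = n54829 := d11_1 D56224 (iv F252260) F252258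
theorem F252268 : act 2 n56224 = n54847 := d18_1 D56224 (iv D54847) (iv F245787)
theorem F252269 : act 3 n56224 = n54828 := d24_1 D56224 F245838 (iv F245732) F245733 D54821
theorem F252270 : act 6 n56224 = n54835 := d31_2 F252253 D56224 (iv F252251)
theorem F252271 : act 7 n56224 = n54910 := d32_2 (iv F245789) D56224 (iv D54910)
theorem F252272 : act 8 n56224 = n56224 := d33_2 F245790 D56224 (iv D56224)
theorem F252273 : act 9 n56224 = n54825 := d34_2 (iv F245791) D56224 (iv D54825)
theorem F252274 : act 5 n54851 = n56224 := d45_3 D51347 D53207 D54851 (iv D56224) (iv D54821) (iv F245780) F245781 F238453 (iv F238257) (iv D53163) F229825 F220339 F210427 (iv F210451) (iv F217949) F217950 F217951 (iv D46633) (iv D41897) F122132 F122133 (iv F175125) (iv F208153) F208151 F177116 F177117 F123477 D29130 D42443 (iv F210753) D49277 F220689 (iv F227358) F227359 F217924 D48802 D50887 D52787 F235982 (iv F238208) (iv D53156) F229776 F225336 F215428 F188370 (iv D45166) (iv F185127) F206189 F130825 F91311 F91310 (iv F89909) F205555 (iv D28533) (iv D19623) (iv F205449)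 F44168 (iv F205617) F59247 (iv F59240) F59241 (iv F205454) F50293 F201752 (iv F205753) F85169 F59687 F43946 F43945 F30989 F30990 D9810 (iv F62498) F206015 F85021 F59660 (iv F59863) (iv F85401) (iv F122131) F122132 F122134 D28797 F205392 F93818 (iv F131013) (iv F188034) (iv F210773) (iv F220701) F220702
def n56225 : Q := act 3 n54822
theorem D56225 : act 3 n54822 = n56225 := rfl
theorem F252275 : act 0 n56225 = n55453 := d2_1 D56225 (iv D55453) (iv F245792)
theorem F252276 : act 1 n56225 = n54835 := d10_1 D56225 (iv D54835) (iv F245793)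
theorem F252277 : act 2 n56225 = n54850 := d17_1 D56225 (iv D54850) (iv F245722) F245723 (iv F245794)
theorem F252278 : act 4 n56225 = n55454 := d24_2 (iv F245795) D56225 (iv D55454) F241565 (iv F238319)
theorem F252279 : act 5 n56225 = n54823 := d25_2 (iv F245796) D56225 (iv D54823)
theorem F252280 : act 6 n56225 = n54829 := d26_2 (iv F245797) D56225 (iv D54829)
theorem F252281 : act 7 n56225 = n54912 := d27_2 (iv F245798) D56225 (iv D54912)
theorem F252282 : act 8 n56225 = n56225 := d28_2 D54822 D56225 (iv D56225) (iv D54822) F238242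
theorem F252283 : act 9 n56225 = n54826 := d29_2 (iv F245799) D56225 (iv D54826)
def n56226 : Q := act 2 n54823
theorem D56226 : act 2 n54823 = n56226 := rfl
theorem F252284 : act 0 n56226 = n54843 := d1_1 D56226 (iv F252250) F252248
theorem F252285 : act 3 n56226 = n54831 := d17_2 D54823 D56226 F245860 (iv F245732) F245731
theorem F252286 : act 4 n56226 = n54849 := d18_2 (iv F245800) D56226 (iv D54849)
theorem F252287 : act 5 n56226 = n54850 := d19_2 F252279 D56226 (iv F252277)
theorem F252288 : act 6 n56226 = n54834 := d20_2 F252244 D56226 (iv F252241)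
theorem F252289 : act 7 n56226 = n54913 := d21_2 (iv F245801) D56226 (iv D54913)
theorem F252290 : act 8 n56226 = n56226 := d22_2 F245802 D56226 (iv D56226)
theorem F252291 : act 9 n56226 = n54827 := d23_2 (iv F245803) D56226 (iv D54827)
theorem F252292 : act 1 n54838 = n56226 := d45_6 F225295 (iv F234520) (iv D52327) (iv F230016) (iv F238417) D54838 (iv D56226) (iv D54823) F238249 (iv D51297) F220373 (iv F220398) F220397 F210470 F177272 F123616 F86421 (iv D20019) (iv D13773) F42574 (iv D6558) (iv D4540) F15097 F11272 F11273 F8729 (iv F12240) F12239 F12235 F12236 D3613 D5227 F24326 F200030 F24369 (iv D5236) (iv D3617) (iv D2504) D2505 F12253 (iv F17252) (iv F24341) (iv F34469) (iv F44828) F44830 D10040 D14589 F63980 D14591 (iv F86449) (iv F122289) (iv F173540) F173541 D46569 D48749 D50850 F227106 (iv F226717) (iv D48598) F206964 (iv F216911) D50747 F226669 F227423 F227418 F220159 (iv F229670) (iv F238135) F238133 F229751 F220373 (iv D47032) F177154 (iv F210433) D49215 F220370 (iv D47053) F177254 F123597 D29122 D42433 D47080 (iv F220296) F220297 F215290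 F215289 F188137 (iv F215360) D50299
def n56227 : Q := act 3 n54832
theorem D56227 : act 3 n54832 = n56227 := rfl
theorem F252293 : act 0 n56227 = n54851 := d2_1 D56227 (iv D54851) (iv F245866)
theorem F252294 : act 1 n56227 = n54834 := d10_1 D56227 (iv D54834) (iv F245867)
theorem F252295 : act 2 n56227 = n54856 := d17_1 D56227 F246006 (iv F245814) F245815 (iv F245868)
theorem F252296 : act 4 n56227 = n54855 := d24_2 (iv F245869) D56227 F246003 (iv F245829) F245828
theorem F252297 : act 5 n56227 = n54844 := d25_2 (iv F245870) D56227 (iv D54844)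
theorem F252298 : act 6 n56227 = n54838 := d26_2 (iv F245871) D56227 (iv D54838)
theorem F252299 : act 7 n56227 = n54978 := d27_2 (iv F245872) D56227 (iv D54978)
theorem F252300 : act 8 n56227 = n56227 := d28_2 D54832 D56227 (iv D56227) (iv D54832) F238363
theorem F252301 : act 9 n56227 = n54837 := d29_2 (iv F245873) D56227 (iv D54837)
def n56228 : Q := act 4 n54834
theorem D56228 : act 4 n54834 = n56228 := rfl
theorem F252302 : act 0 n56228 = n54847 := d3_1 D56228 (iv D54847) (iv F245883)
theorem F252303 : act 1 n56228 = n54855 := d11_1 D56228 (iv F252296) F252294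
theorem F252304 : act 2 n56228 = n54844 := d18_1 D56228 (iv F252242) F252241
theorem F252305 : act 3 n56228 = n54857 := d24_1 D56228 F246010 (iv F245877) F245878 D54834
theorem F252306 : act 5 n56228 = n54856 := d30_2 (iv F245884) D56228 (iv D54856) (iv F245999) F245998
theorem F252307 : act 6 n56228 = n54849 := d31_2 F252288 D56228 (iv F252286)
theorem F252308 : act 7 n56228 = n54979 := d32_2 (iv F245885) D56228 (iv D54979)
theorem F252309 : act 8 n56228 = n56228 := d33_2 F245886 D56228 (iv D56228)
theorem F252310 : act 9 n56228 = n54839 := d34_2 (iv F245887) D56228 (iv D54839)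
def n56229 : Q := act 2 n54835
theorem D56229 : act 2 n54835 = n56229 := rfl
theorem F252311 : act 0 n56229 = n54849 := d1_1 D56229 (iv D54849) (iv F245888)
theorem F252312 : act 1 n56229 = n55655 := d9_1 D56229 F249696 (iv F245974) (iv F252277) F252276
theorem F252313 : act 3 n56229 = n55657 := d17_2 D54835 D56229 F249703 (iv F245877) F245876
theorem F252314 : act 4 n56229 = n54843 := d18_2 F252251 D56229 (iv F252250)
theorem F252315 : act 5 n56229 = n55656 := d19_2 F250416 D56229 (iv F250414)
theorem F252316 : act 6 n56229 = n54847 := d20_2 F252270 D56229 (iv F252268)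
theorem F252317 : act 7 n56229 = n54980 := d21_2 (iv F245889) D56229 (iv D54980)
theorem F252318 : act 8 n56229 = n56229 := d22_2 F245890 D56229 (iv D56229)
theorem F252319 : act 9 n56229 = n54840 := d23_2 (iv F245891) D56229 (iv D54840)
def n56230 : Q := act 2 n54837
theorem D56230 : act 2 n54837 = n56230 := rfl
theorem F252320 : act 0 n56230 = n54857 := d1_1 D56230 (iv F250431) F250430
theorem F252321 : act 1 n56230 = n55654 := d9_1 D56230 F249693 (iv F245764) F245765 (iv F245900)
theorem F252322 : act 3 n56230 = n54847 := d17_2 D54837 D56230 (iv F252268) F252269 F245837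
theorem F252323 : act 5 n56230 = n54839 := d19_2 (iv F245901) D56230 F245911
theorem F252324 : act 6 n56230 = n55657 := d20_2 (iv F245902) D56230 F249703
theorem F252325 : act 7 n56230 = n55004 := d21_2 (iv F245903) D56230 (iv D55004)
theorem F252326 : act 8 n56230 = n54841 := d22_2 (iv F245904) D56230 (iv D54841)
theorem F252327 : act 9 n56230 = n54856 := d23_2 F252301 D56230 (iv F252295)
theorem F252328 : act 4 n54846 = n56230 := d34_3 F252327 (iv D54856) (iv F245960)
def n56231 : Q := act 4 n54837
theorem D56231 : act 4 n54837 = n56231 := rfl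
theorem F252329 : act 0 n56231 = n55657 := d3_1 D56231 (iv F250433) F250430
theorem F252330 : act 1 n56231 = n54839 := d11_1 D56231 (iv D54839) (iv F245900)
theorem F252331 : act 2 n56231 = n54846 := d18_1 D56231 F252328 (iv D56230)
theorem F252332 : act 3 n56231 = n54849 := d24_1 D56231 (iv F252286) F252285 F245861 D54837
theorem F252333 : act 5 n56231 = n55654 := d30_2 (iv F245901) D56231 (iv D55654) (iv F245767) F245766
theorem F252334 : act 6 n56231 = n54857 := d31_2 (iv F245902) D56231 F246010
theorem F252335 : act 7 n56231 = n55005 := d32_2 (iv F245903) D56231 (iv D55005)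
theorem F252336 : act 8 n56231 = n54842 := d33_2 (iv F245904) D56231 (iv D54842)
theorem F252337 : act 9 n56231 = n54855 := d34_2 F252301 D56231 (iv F252296)
def n56232 : Q := act 2 n54838
theorem D56232 : act 2 n54838 = n56232 := rfl
theorem F252338 : act 0 n56232 = n54855 := d1_1 D56232 (iv D54855) (iv F245905)
theorem F252339 : act 1 n56232 = n55656 := d9_1 D56232 (iv F250414) F250413 D56226 (iv F252292)
theorem F252340 : act 3 n56232 = n54840 := d17_2 D54838 D56232 (iv D54840) (iv D53192) (iv F238416)
theorem F252341 : act 5 n56232 = n55655 := d19_2 (iv F245906) D56232 F249696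
theorem F252342 : act 6 n56232 = n54856 := d20_2 F252298 D56232 (iv F252295)
theorem F252343 : act 7 n56232 = n55006 := d21_2 (iv F245907) D56232 (iv D55006)
theorem F252344 : act 8 n56232 = n56232 := d22_2 F245908 D56232 (iv D56232)
theorem F252345 : act 9 n56232 = n55657 := d23_2 (iv F245909) D56232 F249703
theorem F252346 : act 4 n54851 = n56232 := d34_3 F252345 (iv F250433) F250438
def n56233 : Q := act 4 n54838
theorem D56233 : act 4 n54838 = n56233 := rfl
theorem F252347 : act 0 n56233 = n54856 := d3_1 D56233 (iv D54856) (iv F245905)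
theorem F252348 : act 1 n56233 = n54849 := d11_1 D56233 (iv F252286) (iv F252292)
theorem F252349 : act 2 n56233 = n54851 := d18_1 D56233 F252346 (iv D56232)
theorem F252350 : act 3 n56233 = n54839 := d24_1 D56233 (iv D54839) (iv D53191) (iv F238417) D54838
theorem F252351 : act 5 n56233 = n54847 := d30_2 (iv F245906) D56233 (iv D54847) F238489 D54128
theorem F252352 : act 6 n56233 = n54855 := d31_2 F252298 D56233 (iv F252296)
theorem F252353 : act 7 n56233 = n55007 := d32_2 (iv F245907) D56233 (iv D55007)
theorem F252354 : act 8 n56233 = n56233 := d33_2 F245908 D56233 (iv D56233)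
theorem F252355 : act 9 n56233 = n54857 := d34_2 (iv F245909) D56233 F246010
def n56234 : Q := act 4 n54845
theorem D56234 : act 4 n54845 = n56234 := rfl
theorem F252356 : act 0 n56234 = n55656 := d3_1 D56234 (iv D55656) (iv F245947)
theorem F252357 : act 1 n56234 = n54847 := d11_1 D56234 (iv D54847) (iv F245948)
theorem F252358 : act 2 n56234 = n54848 := d18_1 D56234 F245965 (iv F245949)
theorem F252359 : act 3 n56234 = n55654 := d24_1 D56234 (iv D55654) (iv D54118) (iv F238479) D54845
theorem F252360 : act 5 n56234 = n54849 := d30_2 (iv F245950) D56234 (iv F252286) F252287 F245975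
theorem F252361 : act 6 n56234 = n55655 := d31_2 (iv F245951) D56234 (iv D55655)
theorem F252362 : act 7 n56234 = n55057 := d32_2 (iv F245952) D56234 (iv D55057)
theorem F252363 : act 8 n56234 = n56234 := d33_2 F245953 D56234 (iv D56234)
theorem F252364 : act 9 n56234 = n54853 := d34_2 (iv F245954) D56234 (iv D54853)
def n56235 : Q := act 4 n54852
theorem D56235 : act 4 n54852 = n56235 := rfl
theorem F252365 : act 0 n56235 = n55655 := d3_1 D56235 (iv D55655) (iv F245984)
theorem F252366 : act 1 n56235 = n54856 := d11_1 D56235 (iv D54856) (iv F245985)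
theorem F252367 : act 2 n56235 = n54854 := d18_1 D56235 F245998 (iv F245986)
theorem F252368 : act 3 n56235 = n54853 := d24_1 D56235 (iv D54853) (iv D53212) (iv F238526) D54852
theorem F252369 : act 5 n56235 = n54855 := d30_2 F252243 D56235 (iv F252296) F252297 (iv F252242)
theorem F252370 : act 6 n56235 = n55656 := d31_2 (iv F245987) D56235 (iv D55656)
theorem F252371 : act 7 n56235 = n55106 := d32_2 (iv F245988) D56235 (iv D55106)
theorem F252372 : act 8 n56235 = n56235 := d33_2 F245989 D56235 (iv D56235)
theorem F252373 : act 9 n56235 = n55654 := d34_2 (iv F245990) D56235 (iv D55654)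
def n56236 : Q := act 9 n54858
theorem D56236 : act 9 n54858 = n56236 := rfl
theorem F252374 : act 0 n56236 = n55029 := d8_1 D56236 (iv D55029) (iv F246013)
theorem F252375 : act 1 n56236 = n54878 := d16_1 D56236 (iv D54878) (iv F246014)
theorem F252376 : act 2 n56236 = n55059 := d23_1 D56236 (iv D55059) (iv F246015)
theorem F252377 : act 3 n56236 = n55128 := d29_1 D56236 (iv D55128) (iv F246016)
theorem F252378 : act 4 n56236 = n54859 := d34_1 D56236 (iv D54859) D54858
theorem F252379 : act 5 n56236 = n54917 := d38_1 D56236 (iv D54917) (iv F246017)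
theorem F252380 : act 6 n56236 = n54961 := d41_1 D56236 (iv D54961) (iv F246018)
theorem F252381 : act 7 n56236 = n54860 := d43_1 D56236 (iv D54860) (iv F246019)
def n56237 : Q := act 8 n54859
theorem D56237 : act 8 n54859 = n56237 := rfl
theorem F252382 : act 0 n56237 = n55030 := d7_1 D56237 (iv D55030) (iv F246021)
theorem F252383 : act 1 n56237 = n54879 := d15_1 D56237 (iv D54879) (iv F246022)
theorem F252384 : act 3 n56237 = n54943 := d28_1 D56237 (iv D54943) F239118 (iv F238589) (iv F246023)
theorem F252385 : act 5 n56237 = n54862 := d37_1 D56237 (iv D54862) (iv F246024)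
theorem F252386 : act 6 n56237 = n54962 := d40_1 D56237 (iv D54962) (iv F246025)
theorem F252387 : act 7 n56237 = n54861 := d42_1 D56237 (iv D54861) (iv F246026)
theorem F252388 : act 9 n56237 = n54982 := d44_2 D54859 D56237 (iv D54982) (iv D53362) (iv F238581)
def n56238 : Q := act 8 n54860
theorem D56238 : act 8 n54860 = n56238 := rfl
theorem F252389 : act 0 n56238 = n55471 := d7_1 D56238 (iv D55471) (iv F246027)
theorem F252390 : act 1 n56238 = n54883 := d15_1 D56238 (iv D54883) (iv F246028)
theorem F252391 : act 2 n56238 = n55714 := d22_1 D56238 (iv D55714) (iv F246029)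
theorem F252392 : act 4 n56238 = n54861 := d33_1 D56238 (iv D54861) (iv F246031)
theorem F252393 : act 5 n56238 = n55712 := d37_1 D56238 (iv D55712) (iv F246032)
theorem F252394 : act 6 n56238 = n55458 := d40_1 D56238 (iv D55458) (iv F246033)
theorem F252395 : act 9 n56238 = n55696 := d44_2 D54860 D56238 (iv D55696) (iv D54182) (iv F238596)
def n56239 : Q := act 9 n54863
theorem D56239 : act 9 n54863 = n56239 := rfl
theorem F252396 : act 0 n56239 = n54894 := d8_1 D56239 (iv D54894) (iv F246046)
theorem F252397 : act 1 n56239 = n54981 := d16_1 D56239 (iv D54981) (iv F246047)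
theorem F252398 : act 2 n56239 = n54902 := d23_1 D56239 (iv D54902) (iv F246048)
theorem F252399 : act 3 n56239 = n55189 := d29_1 D56239 (iv D55189) (iv F246049)
theorem F252400 : act 4 n56239 = n54864 := d34_1 D56239 (iv D54864) D54863
theorem F252401 : act 5 n56239 = n54899 := d38_1 D56239 (iv D54899) (iv F246050)
theorem F252402 : act 6 n56239 = n54942 := d41_1 D56239 (iv D54942) (iv F246051)
theorem F252403 : act 7 n56239 = n54868 := d43_1 D56239 (iv D54868) (iv F246052)
def n56240 : Q := act 8 n54864
theorem D56240 : act 8 n54864 = n56240 := rfl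
theorem F252404 : act 0 n56240 = n54895 := d7_1 D56240 (iv D54895) (iv F246054)
theorem F252405 : act 1 n56240 = n54982 := d15_1 D56240 (iv D54982) (iv F246055)
theorem F252406 : act 2 n56240 = n54907 := d22_1 D56240 (iv D54907) (iv F246056)
theorem F252407 : act 3 n56240 = n54962 := d28_1 D56240 (iv D54962) F239211 (iv F238626) (iv F246057)
theorem F252408 : act 5 n56240 = n54870 := d37_1 D56240 (iv D54870) (iv F246058)
theorem F252409 : act 6 n56240 = n54943 := d40_1 D56240 (iv D54943) (iv F246059)
theorem F252410 : act 7 n56240 = n54869 := d42_1 D56240 (iv D54869) (iv F246060)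
theorem F252411 : act 9 n56240 = n54879 := d44_2 D54864 D56240 (iv D54879) (iv D53243) (iv F238617)
def n56241 : Q := act 9 n54865
theorem D56241 : act 9 n54865 = n56241 := rfl
theorem F252412 : act 0 n56241 = n54899 := d8_1 D56241 (iv D54899) (iv F246061)
theorem F252413 : act 1 n56241 = n55082 := d16_1 D56241 (iv D55082) (iv F246062)
theorem F252414 : act 2 n56241 = n54868 := d23_1 D56241 (iv D54868) (iv F246063)
theorem F252415 : act 4 n56241 = n54866 := d34_1 D56241 (iv D54866) D54865
theorem F252416 : act 5 n56241 = n54894 := d38_1 D56241 (iv D54894) (iv F246064)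
theorem F252417 : act 6 n56241 = n55075 := d41_1 D56241 (iv D55075) (iv F246065)
theorem F252418 : act 7 n56241 = n54902 := d43_1 D56241 (iv D54902) (iv F246066)
def n56242 : Q := act 8 n54866
theorem D56242 : act 8 n54866 = n56242 := rfl
theorem F252419 : act 0 n56242 = n54900 := d7_1 D56242 (iv D54900) (iv F246068)
theorem F252420 : act 1 n56242 = n55096 := d15_1 D56242 (iv D55096) (iv F246069)
theorem F252421 : act 2 n56242 = n54869 := d22_1 D56242 (iv D54869) (iv F246070)
theorem F252422 : act 5 n56242 = n54871 := d37_1 D56242 (iv D54871) (iv F246072)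
theorem F252423 : act 6 n56242 = n55093 := d40_1 D56242 (iv D55093) (iv F246073)
theorem F252424 : act 7 n56242 = n54907 := d42_1 D56242 (iv D54907) (iv F246074)
theorem F252425 : act 9 n56242 = n54881 := d44_2 D54866 D56242 (iv D54881) (iv D53245) (iv F238633)
def n56243 : Q := act 9 n54867
theorem D56243 : act 9 n54867 = n56243 := rfl
theorem F252426 : act 0 n56243 = n54902 := d8_1 D56243 (iv D54902) (iv F246075)
theorem F252427 : act 1 n56243 = n55468 := d16_1 D56243 (iv D55468) (iv F246076)
theorem F252428 : act 2 n56243 = n54894 := d23_1 D56243 (iv D54894) (iv F246077)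
theorem F252429 : act 3 n56243 = n55760 := d29_1 D56243 (iv D55760) (iv F246078)
theorem F252430 : act 4 n56243 = n54872 := d34_1 D56243 (iv D54872) (iv F246079)
theorem F252431 : act 5 n56243 = n54868 := d38_1 D56243 (iv D54868) D54867
theorem F252432 : act 6 n56243 = n55464 := d41_1 D56243 (iv D55464) (iv F246080)
theorem F252433 : act 7 n56243 = n54899 := d43_1 D56243 (iv D54899) (iv F246081)
def n56244 : Q := act 8 n54868
theorem D56244 : act 8 n54868 = n56244 := rfl
theorem F252434 : act 0 n56244 = n54903 := d7_1 D56244 (iv D54903) (iv F246083)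
theorem F252435 : act 1 n56244 = n55696 := d15_1 D56244 (iv D55696) (iv F246084)
theorem F252436 : act 4 n56244 = n54869 := d33_1 D56244 (iv D54869) (iv F246086)
theorem F252437 : act 6 n56244 = n55658 := d40_1 D56244 (iv D55658) (iv F246087)
theorem F252438 : act 9 n56244 = n54883 := d44_2 D54868 D56244 (iv D54883) (iv D53247) (iv F238638)
def n56245 : Q := act 3 n54871
theorem D56245 : act 3 n54871 = n56245 := rfl
theorem F252439 : act 0 n56245 = n54905 := d2_1 D56245 (iv D54905) (iv F246101)
theorem F252440 : act 1 n56245 = n55107 := d10_1 D56245 (iv D55107) (iv F246102)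
theorem F252441 : act 2 n56245 = n54975 := d17_1 D56245 (iv D54975) F239272 (iv F238672) (iv F246103)
theorem F252442 : act 4 n56245 = n55049 := d24_2 (iv F246104) D56245 (iv D55049) F239627 (iv F238856)
theorem F252443 : act 6 n56245 = n54874 := d26_2 (iv F246105) D56245 (iv D54874)
theorem F252444 : act 7 n56245 = n54908 := d27_2 (iv F246106) D56245 (iv D54908)
theorem F252445 : act 8 n56245 = n56245 := d28_2 D54871 D56245 (iv D56245) (iv D54871) F238653
theorem F252446 : act 9 n56245 = n54884 := d29_2 (iv F246107) D56245 (iv D54884)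
def n56246 : Q := act 8 n54872
theorem D56246 : act 8 n54872 = n56246 := rfl
theorem F252447 : act 0 n56246 = n54907 := d7_1 D56246 (iv D54907) (iv F246108)
theorem F252448 : act 1 n56246 = n55476 := d15_1 D56246 (iv D55476) (iv F246109)
theorem F252449 : act 2 n56246 = n54895 := d22_1 D56246 (iv D54895) (iv F246110)
theorem F252450 : act 5 n56246 = n54873 := d37_1 D56246 (iv D54873) (iv F246112)
theorem F252451 : act 6 n56246 = n55474 := d40_1 D56246 (iv D55474) (iv F246113)
theorem F252452 : act 7 n56246 = n54900 := d42_1 D56246 (iv D54900) (iv F246114)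
theorem F252453 : act 9 n56246 = n54885 := d44_2 D54872 D56246 (iv D54885) (iv D53251) (iv F238663)
def n56247 : Q := act 3 n54873
theorem D56247 : act 3 n54873 = n56247 := rfl
theorem F252454 : act 0 n56247 = n54908 := d2_1 D56247 (iv D54908) (iv F246115)
theorem F252455 : act 1 n56247 = n55478 := d10_1 D56247 (iv D55478) (iv F246116)
theorem F252456 : act 2 n56247 = n55047 := d17_1 D56247 (iv D55047) F239618 (iv F238856) (iv F246117)
theorem F252457 : act 4 n56247 = n54977 := d24_2 (iv F246118) D56247 (iv D54977) F239279 (iv F238672)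
theorem F252458 : act 6 n56247 = n54875 := d26_2 (iv F246119) D56247 (iv D54875)
theorem F252459 : act 7 n56247 = n54905 := d27_2 (iv F246120) D56247 (iv D54905)
theorem F252460 : act 8 n56247 = n56247 := d28_2 D54873 D56247 (iv D56247) (iv D54873) F238667
theorem F252461 : act 9 n56247 = n54886 := d29_2 (iv F246121) D56247 (iv D54886)
def n56248 : Q := act 9 n54876
theorem D56248 : act 9 n54876 = n56248 := rfl
theorem F252462 : act 0 n56248 = n54914 := d8_1 D56248 (iv D54914) (iv F246136)
theorem F252463 : act 1 n56248 = n54961 := d16_1 D56248 (iv D54961) (iv F246137)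
theorem F252464 : act 2 n56248 = n54922 := d23_1 D56248 (iv D54922) (iv F246138)
theorem F252465 : act 3 n56248 = n55135 := d29_1 D56248 (iv D55135) (iv F246139)
theorem F252466 : act 4 n56248 = n54877 := d34_1 D56248 (iv D54877) D54876
theorem F252467 : act 5 n56248 = n54947 := d38_1 D56248 (iv D54947) (iv F246140)
theorem F252468 : act 6 n56248 = n54878 := d41_1 D56248 (iv D54878) (iv F246141)
theorem F252469 : act 7 n56248 = n54940 := d43_1 D56248 (iv D54940) (iv F246142)
def n56249 : Q := act 8 n54877
theorem D56249 : act 8 n54877 = n56249 := rfl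
theorem F252470 : act 0 n56249 = n54915 := d7_1 D56249 (iv D54915) (iv F246144)
theorem F252471 : act 1 n56249 = n54962 := d15_1 D56249 (iv D54962) (iv F246145)
theorem F252472 : act 2 n56249 = n54927 := d22_1 D56249 (iv D54927) (iv F246146)
theorem F252473 : act 3 n56249 = n54982 := d28_1 D56249 (iv D54982) F239307 (iv F238701) (iv F246147)
theorem F252474 : act 5 n56249 = n54930 := d37_1 D56249 (iv D54930) (iv F246148)
theorem F252475 : act 6 n56249 = n54879 := d40_1 D56249 (iv D54879) (iv F246149)
theorem F252476 : act 7 n56249 = n54941 := d42_1 D56249 (iv D54941) (iv F246150)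
theorem F252477 : act 9 n56249 = n54943 := d44_2 D54877 D56249 (iv D54943) (iv D53324) (iv F238693)
def n56250 : Q := act 8 n54878
theorem D56250 : act 8 n54878 = n56250 := rfl
theorem F252478 : act 0 n56250 = n54916 := d7_1 D56250 (iv D54916) (iv F246151)
theorem F252479 : act 2 n56250 = n54923 := d22_1 D56250 (iv D54923) (iv F246152)
theorem F252480 : act 4 n56250 = n54879 := d33_1 D56250 (iv D54879) (iv F246154)
theorem F252481 : act 5 n56250 = n54920 := d37_1 D56250 (iv D54920) (iv F246155)
theorem F252482 : act 7 n56250 = n54883 := d42_1 D56250 (iv D54883) (iv F246156)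
def n56251 : Q := act 8 n54880
theorem D56251 : act 8 n54880 = n56251 := rfl
theorem F252483 : act 0 n56251 = n54920 := d7_1 D56251 (iv D54920) (iv F246162)
theorem F252484 : act 2 n56251 = n54883 := d22_1 D56251 (iv D54883) (iv F246163)
theorem F252485 : act 4 n56251 = n54881 := d33_1 D56251 (iv D54881) (iv F246165)
theorem F252486 : act 5 n56251 = n54916 := d37_1 D56251 (iv D54916) (iv F246166)
theorem F252487 : act 6 n56251 = n55660 := d40_1 D56251 (iv D55660) (iv F246167)
theorem F252488 : act 7 n56251 = n54923 := d42_1 D56251 (iv D54923) (iv F246168)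
def n56252 : Q := act 3 n54881
theorem D56252 : act 3 n54881 = n56252 := rfl
theorem F252489 : act 0 n56252 = n54921 := d2_1 D56252 (iv D54921) (iv F246169)
theorem F252490 : act 1 n56252 = n55701 := d10_1 D56252 (iv F250512) F250510
theorem F252491 : act 2 n56252 = n54993 := d17_1 D56252 (iv D54993) F239352 (iv F238736) (iv F246170)
theorem F252492 : act 5 n56252 = n54884 := d25_2 (iv F246171) D56252 (iv D54884)
theorem F252493 : act 6 n56252 = n55661 := d26_2 (iv F246172) D56252 (iv D55661)
theorem F252494 : act 7 n56252 = n54928 := d27_2 (iv F246173) D56252 (iv D54928)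
theorem F252495 : act 8 n56252 = n54888 := d28_2 D54881 D56252 (iv D54888) (iv D53258) (iv F238720)
def n56253 : Q := act 8 n54882
theorem D56253 : act 8 n54882 = n56253 := rfl
theorem F252496 : act 0 n56253 = n54923 := d7_1 D56253 (iv D54923) (iv F246174)
theorem F252497 : act 1 n56253 = n55712 := d15_1 D56253 (iv D55712) (iv F246175)
theorem F252498 : act 2 n56253 = n54916 := d22_1 D56253 (iv D54916) (iv F246176)
theorem F252499 : act 4 n56253 = n54885 := d33_1 D56253 (iv D54885) (iv F246178)
theorem F252500 : act 5 n56253 = n54883 := d37_1 D56253 (iv D54883) (iv F246179)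
theorem F252501 : act 6 n56253 = n55716 := d40_1 D56253 (iv D55716) (iv F246180)
theorem F252502 : act 7 n56253 = n54920 := d42_1 D56253 (iv D54920) (iv F246181)
def n56254 : Q := act 3 n54883
theorem D56254 : act 3 n54883 = n56254 := rfl
theorem F252503 : act 0 n56254 = n54924 := d2_1 D56254 (iv D54924) (iv F246182)
theorem F252504 : act 4 n56254 = n54995 := d24_2 (iv F246183) D56254 (iv D54995) F239360 (iv F238736)
theorem F252505 : act 6 n56254 = n55662 := d26_2 (iv F246184) D56254 (iv D55662)
theorem F252506 : act 8 n56254 = n55139 := d28_2 D54883 D56254 (iv D55139) (iv D53539) (iv F238732)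
def n56255 : Q := act 3 n54885
theorem D56255 : act 3 n54885 = n56255 := rfl
theorem F252507 : act 0 n56255 = n54928 := d2_1 D56255 (iv D54928) (iv F246192)
theorem F252508 : act 1 n56255 = n55713 := d10_1 D56255 (iv D55713) (iv F246193)
theorem F252509 : act 2 n56255 = n55066 := d17_1 D56255 (iv D55066) F239701 (iv F238925) (iv F246194)
theorem F252510 : act 5 n56255 = n54886 := d25_2 (iv F246195) D56255 (iv D54886)
theorem F252511 : act 6 n56255 = n55717 := d26_2 (iv F246196) D56255 (iv D55717)
theorem F252512 : act 7 n56255 = n54921 := d27_2 (iv F246197) D56255 (iv D54921)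
theorem F252513 : act 8 n56255 = n54887 := d28_2 D54885 D56255 (iv D54887) (iv D53256) (iv F238753)
def n56256 : Q := act 4 n54887
theorem D56256 : act 4 n54887 = n56256 := rfl
theorem F252514 : act 0 n56256 = n54934 := d3_1 D56256 (iv D54934) (iv F246205)
theorem F252515 : act 1 n56256 = n55740 := d11_1 D56256 (iv D55740) (iv F246206)
theorem F252516 : act 2 n56256 = n55116 := d18_1 D56256 (iv D55116) (iv F246207)
theorem F252517 : act 3 n56256 = n55142 := d24_1 D56256 (iv D55142) (iv D53544) (iv F238783) D54887
theorem F252518 : act 5 n56256 = n55010 := d30_2 (iv F246208) D56256 (iv D55010) F239440 (iv F238791)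
theorem F252519 : act 6 n56256 = n55741 := d31_2 (iv F246209) D56256 (iv D55741)
theorem F252520 : act 7 n56256 = n54938 := d32_2 (iv F246210) D56256 (iv D54938)
theorem F252521 : act 9 n56256 = n56256 := d34_2 F246211 D56256 (iv D56256)
def n56257 : Q := act 4 n54888
theorem D56257 : act 4 n54888 = n56257 := rfl
theorem F252522 : act 0 n56257 = n54938 := d3_1 D56257 (iv D54938) (iv F246212)
theorem F252523 : act 1 n56257 = n55702 := d11_1 D56257 F249841 (iv F246213)
theorem F252524 : act 2 n56257 = n55012 := d18_1 D56257 (iv D55012) (iv F246214)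
theorem F252525 : act 3 n56257 = n55182 := d24_1 D56257 (iv D55182) (iv D53591) (iv F238798) D54888
theorem F252526 : act 5 n56257 = n55108 := d30_2 (iv F246215) D56257 (iv D55108) F239874 (iv F238806)
theorem F252527 : act 6 n56257 = n55665 := d31_2 (iv F246216) D56257 (iv D55665)
theorem F252528 : act 7 n56257 = n54934 := d32_2 (iv F246217) D56257 (iv D54934)
theorem F252529 : act 9 n56257 = n56257 := d34_2 F246218 D56257 (iv D56257)
def n56258 : Q := act 3 n54889
theorem D56258 : act 3 n54889 = n56258 := rfl
theorem F252530 : act 0 n56258 = n55667 := d2_1 D56258 F249744 (iv F246219)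
theorem F252531 : act 1 n56258 = n55078 := d10_1 D56258 (iv F250840) F250838
theorem F252532 : act 2 n56258 = n54898 := d17_1 D56258 (iv D54898) F238840 (iv F238817) (iv F246220)
theorem F252533 : act 4 n56258 = n56258 := d24_2 D54889 D56258 (iv D56258) (iv D54889) F238811
theorem F252534 : act 6 n56258 = n55143 := d26_2 (iv F246221) D56258 F247467
theorem F252535 : act 7 n56258 = n55674 := d27_2 F251259 D56258 (iv F251261)
theorem F252536 : act 8 n56258 = n55072 := d28_2 (iv F246222) D56258 F247157 F239733 (iv F240122)
theorem F252537 : act 5 n55073 = n56258 := d37_3 F252536 (iv D55072) D55073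
def n56259 : Q := act 5 n54889
theorem D56259 : act 5 n54889 = n56259 := rfl
theorem F252538 : act 0 n56259 = n55674 := d4_1 D56259 F249767 (iv F246219)
theorem F252539 : act 1 n56259 = n55039 := d12_1 D56259 (iv F250842) F250838
theorem F252540 : act 2 n56259 = n54891 := d19_1 D56259 (iv D54891) (iv F246220)
theorem F252541 : act 3 n56259 = n55073 := d25_1 D56259 F252537 (iv D56258)
theorem F252542 : act 4 n56259 = n56259 := d30_1 D56259 (iv D56259) (iv D54889) F238812 D54889
theorem F252543 : act 6 n56259 = n55150 := d35_2 (iv F246221) D56259 (iv D55150) F240142 D53554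
theorem F252544 : act 7 n56259 = n55667 := d36_2 F251259 D56259 F251262
theorem F252545 : act 8 n56259 = n55036 := d37_2 (iv F246222) D56259 F246995
def n56260 : Q := act 9 n54889
theorem D56260 : act 9 n54889 = n56260 := rfl
theorem F252546 : act 0 n56260 = n55676 := d8_1 D56260 (iv D55676) (iv F246219)
theorem F252547 : act 2 n56260 = n54892 := d23_1 D56260 (iv D54892) (iv F246220)
theorem F252548 : act 4 n56260 = n54890 := d34_1 D56260 (iv D54890) D54889
theorem F252549 : act 6 n56260 = n55153 := d41_1 D56260 (iv D55153) (iv F246221)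
def n56261 : Q := act 8 n54890
theorem D56261 : act 8 n54890 = n56261 := rfl
theorem F252550 : act 0 n56261 = n55687 := d7_1 D56261 (iv D55687) (iv F246223)
theorem F252551 : act 2 n56261 = n54893 := d22_1 D56261 (iv D54893) (iv F246224)
theorem F252552 : act 5 n56261 = n56261 := d37_1 D56261 (iv D56261) F246226
theorem F252553 : act 6 n56261 = n55157 := d40_1 D56261 (iv D55157) (iv F246227)
theorem F252554 : act 9 n56261 = n55147 := d44_2 D54890 D56261 (iv D55147) (iv D53548) (iv F238814)
def n56262 : Q := act 9 n54891
theorem D56262 : act 9 n54891 = n56262 := rfl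
theorem F252555 : act 0 n56262 = n55760 := d8_1 D56262 (iv D55760) (iv F246228)
theorem F252556 : act 1 n56262 = n55508 := d16_1 D56262 (iv D55508) (iv F246229)
theorem F252557 : act 3 n56262 = n54902 := d29_1 D56262 (iv D54902) (iv F246230)
theorem F252558 : act 4 n56262 = n56262 := d34_1 D56262 (iv D56262) F246231
theorem F252559 : act 5 n56262 = n54892 := d38_1 D56262 (iv D54892) D54891
theorem F252560 : act 6 n56262 = n55749 := d41_1 D56262 (iv D55749) (iv F246232)
def n56263 : Q := act 8 n54892
theorem D56263 : act 8 n54892 = n56263 := rfl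
theorem F252561 : act 0 n56263 = n55769 := d7_1 D56263 (iv D55769) (iv F246234)
theorem F252562 : act 1 n56263 = n55509 := d15_1 D56263 (iv D55509) (iv F246235)
theorem F252563 : act 4 n56263 = n54893 := d33_1 D56263 (iv D54893) (iv F246237)
theorem F252564 : act 6 n56263 = n55497 := d40_1 D56263 (iv D55497) (iv F246238)
theorem F252565 : act 9 n56263 = n55149 := d44_2 D54892 D56263 (iv D55149) (iv D53550) (iv F238819)
def n56264 : Q := act 8 n54894
theorem D56264 : act 8 n54894 = n56264 := rfl
theorem F252566 : act 1 n56264 = n55729 := d15_1 D56264 (iv D55729) (iv F246245)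
theorem F252567 : act 4 n56264 = n54895 := d33_1 D56264 (iv D54895) (iv F246246)
theorem F252568 : act 6 n56264 = n55724 := d40_1 D56264 (iv D55724) (iv F246247)
theorem F252569 : act 7 n56264 = n54903 := d42_1 D56264 (iv D54903) (iv F246248)
theorem F252570 : act 9 n56264 = n54916 := d44_2 D54894 D56264 (iv D54916) (iv D53285) (iv F238828)
def n56265 : Q := act 9 n54896
theorem D56265 : act 9 n54896 = n56265 := rfl
theorem F252571 : act 0 n56265 = n55059 := d8_1 D56265 (iv D55059) (iv F246255)
theorem F252572 : act 1 n56265 = n54899 := d16_1 D56265 (iv D54899) (iv F246256)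
theorem F252573 : act 2 n56265 = n55029 := d23_1 D56265 (iv D55029) (iv F246257)
theorem F252574 : act 3 n56265 = n55223 := d29_1 D56265 (iv D55223) F246262
theorem F252575 : act 4 n56265 = n54897 := d34_1 D56265 (iv D54897) D54896
theorem F252576 : act 5 n56265 = n54981 := d38_1 D56265 (iv D54981) (iv F246258)
theorem F252577 : act 6 n56265 = n55032 := d41_1 D56265 (iv D55032) (iv F246259)
theorem F252578 : act 7 n56265 = n55468 := d43_1 D56265 (iv D55468) (iv F246260)
def n56266 : Q := act 8 n54897
theorem D56266 : act 8 n54897 = n56266 := rfl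
theorem F252579 : act 1 n56266 = n54900 := d15_1 D56266 (iv D54900) (iv F246263)
theorem F252580 : act 2 n56266 = n55030 := d22_1 D56266 (iv D55030) (iv F246264)
theorem F252581 : act 5 n56266 = n54904 := d37_1 D56266 (iv D54904) (iv F246266)
theorem F252582 : act 6 n56266 = n55033 := d40_1 D56266 (iv D55033) (iv F246267)
theorem F252583 : act 7 n56266 = n55476 := d42_1 D56266 (iv D55476) (iv F246268)
theorem F252584 : act 9 n56266 = n54918 := d44_2 D54897 D56266 (iv D54918) (iv D53288) (iv F238839)
def n56267 : Q := act 9 n54898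
theorem D56267 : act 9 n54898 = n56267 := rfl
theorem F252585 : act 1 n56267 = n55223 := d16_1 D56267 (iv D55223) (iv F246269)
theorem F252586 : act 3 n56267 = n54899 := d29_1 D56267 (iv D54899) D54898
theorem F252587 : act 4 n56267 = n56267 := d34_1 D56267 (iv D56267) F246270
theorem F252588 : act 5 n56267 = n55189 := d38_1 D56267 (iv D55189) (iv F246271)
theorem F252589 : act 6 n56267 = n55668 := d41_1 D56267 (iv D55668) (iv F246272)
theorem F252590 : act 7 n56267 = n55760 := d43_1 D56267 (iv D55760) (iv F246273)
def n56268 : Q := act 8 n54899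
theorem D56268 : act 8 n54899 = n56268 := rfl
theorem F252591 : act 2 n56268 = n54903 := d22_1 D56268 (iv D54903) (iv F246275)
theorem F252592 : act 4 n56268 = n54900 := d33_1 D56268 (iv D54900) (iv F246276)
theorem F252593 : act 6 n56268 = n55669 := d40_1 D56268 (iv D55669) (iv F246277)
theorem F252594 : act 9 n56268 = n54920 := d44_2 D54899 D56268 (iv D54920) (iv D53290) (iv F238842)
def n56269 : Q := act 3 n54900
theorem D56269 : act 3 n54900 = n56269 := rfl
theorem F252595 : act 2 n56269 = n55043 := d17_1 D56269 (iv D55043) F239603 (iv F238851) (iv F246278)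
theorem F252596 : act 5 n56269 = n54905 := d25_2 (iv F246279) D56269 (iv D54905)
theorem F252597 : act 6 n56269 = n55670 := d26_2 (iv F246280) D56269 (iv D55670)
theorem F252598 : act 8 n56269 = n56269 := d28_2 D54900 D56269 (iv D56269) (iv D54900) F238844
theorem F252599 : act 9 n56269 = n54921 := d29_2 (iv F246281) D56269 (iv D54921)
def n56270 : Q := act 9 n54901
theorem D56270 : act 9 n54901 = n56270 := rfl
theorem F252600 : act 0 n56270 = n55464 := d8_1 D56270 (iv D55464) (iv F246282)
theorem F252601 : act 1 n56270 = n54969 := d16_1 D56270 (iv D54969) (iv F246283)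
theorem F252602 : act 2 n56270 = n54942 := d23_1 D56270 (iv D54942) (iv F246284)
theorem F252603 : act 3 n56270 = n55749 := d29_1 D56270 (iv D55749) (iv F246285)
theorem F252604 : act 4 n56270 = n54906 := d34_1 D56270 (iv D54906) (iv F246286)
theorem F252605 : act 5 n56270 = n54940 := d38_1 D56270 (iv D54940) (iv F246287)
theorem F252606 : act 6 n56270 = n54902 := d41_1 D56270 (iv D54902) D54901
theorem F252607 : act 7 n56270 = n54947 := d43_1 D56270 (iv D54947) (iv F246288)
def n56271 : Q := act 8 n54902
theorem D56271 : act 8 n54902 = n56271 := rfl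
theorem F252608 : act 4 n56271 = n54907 := d33_1 D56271 (iv D54907) (iv F246290)
theorem F252609 : act 5 n56271 = n54903 := d37_1 D56271 (iv D54903) (iv F246291)
theorem F252610 : act 9 n56271 = n54923 := d44_2 D54902 D56271 (iv D54923) (iv D53293) (iv F238848)
def n56272 : Q := act 3 n54903
theorem D56272 : act 3 n54903 = n56272 := rfl
theorem F252611 : act 4 n56272 = n55046 := d24_2 (iv F246292) D56272 (iv D55046) F239614 (iv F238851)
theorem F252612 : act 6 n56272 = n55671 := d26_2 (iv F246293) D56272 (iv D55671)
theorem F252613 : act 9 n56272 = n54924 := d29_2 (iv F246294) D56272 (iv D54924)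
def n56273 : Q := act 3 n54904
theorem D56273 : act 3 n54904 = n56273 := rfl
theorem F252614 : act 0 n56273 = n55710 := d2_1 D56273 F250541 F250534
theorem F252615 : act 1 n56273 = n54905 := d10_1 D56273 (iv D54905) (iv F246295)
theorem F252616 : act 2 n56273 = n55475 := d17_1 D56273 (iv D55475) F241711 (iv F241741) (iv F246296)
theorem F252617 : act 4 n56273 = n54951 := d24_2 F250521 D56273 (iv D54951) (iv F246435) (iv F250520)
theorem F252618 : act 6 n56273 = n54909 := d26_2 (iv F246297) D56273 (iv D54909)
theorem F252619 : act 7 n56273 = n55478 := d27_2 (iv F246298) D56273 (iv D55478)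
theorem F252620 : act 8 n56273 = n56273 := d28_2 D54904 D56273 (iv D56273) (iv D54904) F238862
theorem F252621 : act 9 n56273 = n54925 := d29_2 (iv F246299) D56273 (iv D54925)
def n56274 : Q := act 4 n54905
theorem D56274 : act 4 n54905 = n56274 := rfl
theorem F252622 : act 0 n56274 = n55049 := d3_1 D56274 (iv F252442) F252439
theorem F252623 : act 1 n56274 = n54951 := d11_1 D56274 (iv F252617) F252615
theorem F252624 : act 2 n56274 = n55053 := d18_1 D56274 (iv D55053) (iv F246300)
theorem F252625 : act 3 n56274 = n54950 := d24_1 D56274 F246550 (iv F246096) F246097 D54905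
theorem F252626 : act 6 n56274 = n54910 := d31_2 (iv F246301) D56274 (iv D54910)
theorem F252627 : act 7 n56274 = n54977 := d32_2 F252459 D56274 (iv F252457)
theorem F252628 : act 8 n56274 = n56274 := d33_2 F246302 D56274 (iv D56274)
theorem F252629 : act 9 n56274 = n54926 := d34_2 (iv F246303) D56274 (iv D54926)
def n56275 : Q := act 8 n54906
theorem D56275 : act 8 n54906 = n56275 := rfl
theorem F252630 : act 0 n56275 = n55474 := d7_1 D56275 (iv D55474) (iv F246304)
theorem F252631 : act 1 n56275 = n54976 := d15_1 D56275 (iv D54976) (iv F246305)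
theorem F252632 : act 2 n56275 = n54943 := d22_1 D56275 (iv D54943) (iv F246306)
theorem F252633 : act 5 n56275 = n54911 := d37_1 D56275 (iv D54911) (iv F246308)
theorem F252634 : act 6 n56275 = n54907 := d40_1 D56275 (iv D54907) (iv F246309)
theorem F252635 : act 7 n56275 = n54948 := d42_1 D56275 (iv D54948) (iv F246310)
theorem F252636 : act 9 n56275 = n54927 := d44_2 D54906 D56275 (iv D54927) (iv D53297) (iv F238874)
def n56276 : Q := act 3 n54907
theorem D56276 : act 3 n54907 = n56276 := rfl
theorem F252637 : act 5 n56276 = n54908 := d25_2 (iv F246311) D56276 (iv D54908)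
theorem F252638 : act 8 n56276 = n56276 := d28_2 D54907 D56276 (iv D56276) (iv D54907) F238875
theorem F252639 : act 9 n56276 = n54928 := d29_2 (iv F246312) D56276 (iv D54928)
def n56277 : Q := act 2 n54908
theorem D56277 : act 2 n54908 = n56277 := rfl
theorem F252640 : act 0 n56277 = n55047 := d1_1 D56277 (iv F252456) F252454
theorem F252641 : act 3 n56277 = n54971 := d17_2 D54908 D56277 F246668 (iv F246096) F246095
theorem F252642 : act 4 n56277 = n55056 := d18_2 (iv F246313) D56277 (iv D55056)
theorem F252643 : act 6 n56277 = n54913 := d20_2 (iv F246314) D56277 (iv D54913)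
theorem F252644 : act 7 n56277 = n54975 := d21_2 F252444 D56277 (iv F252441)
theorem F252645 : act 8 n56277 = n56277 := d22_2 F246315 D56277 (iv D56277)
theorem F252646 : act 9 n56277 = n54929 := d23_2 (iv F246316) D56277 (iv D54929)
theorem F252647 : act 1 n55000 = n56277 := d45_6 F239481 (iv F246785) (iv D54993) F239353 (iv F239391) D55000 (iv D56277) (iv D54908) F238879 (iv D51449) F221321 (iv F221364) F221363 (iv F222585) (iv F228328) (iv F236845) F236846 (iv D52922) F228317 F224587 F214775 F187195 (iv F214690) (iv D47940) (iv D44832) (iv D30736) D30737 (iv F203504) (iv F132698) (iv F190618) (iv F216601) (iv F225697) (iv F233462) (iv F241682) (iv F248953) (iv D55466) (iv F244771) F244767 (iv D52981) (iv D51098) (iv D49018) (iv F219156) F219157 (iv F222257) D51674 D53523 F239994 F233716 (iv F233542) (iv F235919) F235918 (iv D52779) (iv D50876) F217848 (iv D48786) F208043 (iv F217806) F217805 F214535 F189969 F132282 F92297 (iv D14748) (iv D10146) F31904 (iv F32181) F32180 (iv F45293) (iv F64497) (iv F92174) (iv F132088) F132090 D31377 D45784 F190490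 D45790 (iv F203173) F142778 F101726 D23952 D34897 D46564 (iv F217536) (iv F226558) (iv F230491) F230490 F221810 (iv F231136) D53400
def n56278 : Q := act 3 n54911
theorem D56278 : act 3 n54911 = n56278 := rfl
theorem F252648 : act 0 n56278 = n55475 := d2_1 D56278 (iv D55475) (iv F246331)
theorem F252649 : act 1 n56278 = n54977 := d10_1 D56278 (iv D54977) (iv F246332)
theorem F252650 : act 2 n56278 = n55710 := d17_1 D56278 F250541 F250536 F246042 (iv F246333)
theorem F252651 : act 4 n56278 = n55478 := d24_2 (iv F246334) D56278 (iv D55478) (iv F244073) F244072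
theorem F252652 : act 6 n56278 = n54912 := d26_2 (iv F246335) D56278 (iv D54912)
theorem F252653 : act 7 n56278 = n54951 := d27_2 (iv F246336) D56278 (iv D54951)
theorem F252654 : act 8 n56278 = n56278 := d28_2 D54911 D56278 (iv D56278) (iv D54911) F238896
theorem F252655 : act 9 n56278 = n54931 := d29_2 (iv F246337) D56278 (iv D54931)
def n56279 : Q := act 8 n54914
theorem D56279 : act 8 n54914 = n56279 := rfl
theorem F252656 : act 1 n56279 = n55462 := d15_1 D56279 (iv D55462) (iv F246352)
theorem F252657 : act 2 n56279 = n55716 := d22_1 D56279 (iv D55716) (iv F246353)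
theorem F252658 : act 4 n56279 = n54915 := d33_1 D56279 (iv D54915) (iv F246355)
theorem F252659 : act 5 n56279 = n55703 := d37_1 D56279 (iv D55703) (iv F246356)
theorem F252660 : act 6 n56279 = n54916 := d40_1 D56279 (iv D54916) (iv F246357)
theorem F252661 : act 7 n56279 = n55465 := d42_1 D56279 (iv D55465) (iv F246358)
theorem F252662 : act 9 n56279 = n55724 := d44_2 D54914 D56279 (iv D55724) (iv D54213) (iv F238915)
def n56280 : Q := act 3 n54916
theorem D56280 : act 3 n54916 = n56280 := rfl
theorem F252663 : act 4 n56280 = n55068 := d24_2 (iv F246366) D56280 (iv D55068) F239709 (iv F238925)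
theorem F252664 : act 7 n56280 = n54924 := d27_2 (iv F246367) D56280 (iv D54924)
theorem F252665 : act 8 n56280 = n55166 := d28_2 D54916 D56280 (iv D55166) (iv D53571) (iv F238922)
def n56281 : Q := act 8 n54917
theorem D56281 : act 8 n54917 = n56281 := rfl
theorem F252666 : act 1 n56281 = n54920 := d15_1 D56281 (iv D54920) (iv F246368)
theorem F252667 : act 2 n56281 = n55060 := d22_1 D56281 (iv D55060) (iv F246369)
theorem F252668 : act 4 n56281 = n54918 := d33_1 D56281 (iv D54918) (iv F246370)
theorem F252669 : act 6 n56281 = n55065 := d40_1 D56281 (iv D55065) (iv F246371)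
theorem F252670 : act 7 n56281 = n55712 := d42_1 D56281 (iv D55712) (iv F246372)
def n56282 : Q := act 3 n54918
theorem D56282 : act 3 n54918 = n56282 := rfl
theorem F252671 : act 0 n56282 = n55738 := d2_1 D56282 (iv F250673) F250670
theorem F252672 : act 1 n56282 = n54921 := d10_1 D56282 (iv D54921) (iv F246373)
theorem F252673 : act 2 n56282 = n55717 := d17_1 D56282 (iv D55717) (iv F246360) F246361 (iv F246374)
theorem F252674 : act 5 n56282 = n54925 := d25_2 (iv F246375) D56282 (iv D54925)
theorem F252675 : act 6 n56282 = n55066 := d26_2 (iv F246376) D56282 (iv D55066)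
theorem F252676 : act 7 n56282 = n55713 := d27_2 (iv F246377) D56282 (iv D55713)
theorem F252677 : act 8 n56282 = n54935 := d28_2 D54918 D56282 (iv D54935) (iv D53313) (iv F238934)
def n56283 : Q := act 8 n54919
theorem D56283 : act 8 n54919 = n56283 := rfl
theorem F252678 : act 0 n56283 = n55165 := d7_1 D56283 (iv D55165) (iv F246378)
theorem F252679 : act 2 n56283 = n55168 := d22_1 D56283 (iv D55168) (iv F246379)
theorem F252680 : act 4 n56283 = n54936 := d33_1 D56283 (iv D54936) (iv F246381)
theorem F252681 : act 5 n56283 = n55137 := d37_1 D56283 (iv D55137) (iv F246382)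
theorem F252682 : act 6 n56283 = n55677 := d40_1 D56283 (iv D55677) (iv F246383)
theorem F252683 : act 7 n56283 = n55138 := d42_1 D56283 (iv D55138) (iv F246384)
theorem F252684 : act 9 n56283 = n55767 := d44_2 D54919 D56283 (iv D55767) (iv D54270) F238944
def n56284 : Q := act 3 n54920
theorem D56284 : act 3 n54920 = n56284 := rfl
theorem F252685 : act 6 n56284 = n55679 := d26_2 (iv F246387) D56284 (iv D55679)
def n56285 : Q := act 4 n54921
theorem D56285 : act 4 n54921 = n56285 := rfl
theorem F252686 : act 2 n56285 = n55085 := d18_1 D56285 (iv D55085) (iv F246388)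
theorem F252687 : act 6 n56285 = n55680 := d31_2 (iv F246390) D56285 (iv D55680)
theorem F252688 : act 8 n56285 = n54938 := d33_2 (iv F246391) D56285 (iv D54938)
def n56286 : Q := act 8 n54922
theorem D56286 : act 8 n54922 = n56286 := rfl
theorem F252689 : act 0 n56286 = n55716 := d7_1 D56286 (iv D55716) (iv F246392)
theorem F252690 : act 1 n56286 = n54994 := d15_1 D56286 (iv D54994) (iv F246393)
theorem F252691 : act 4 n56286 = n54927 := d33_1 D56286 (iv D54927) (iv F246395)
theorem F252692 : act 5 n56286 = n54949 := d37_1 D56286 (iv D54949) (iv F246396)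
theorem F252693 : act 6 n56286 = n54923 := d40_1 D56286 (iv D54923) (iv F246397)
theorem F252694 : act 7 n56286 = n55721 := d42_1 D56286 (iv D55721) (iv F246398)
def n56287 : Q := act 3 n54923
theorem D56287 : act 3 n54923 = n56287 := rfl
theorem F252695 : act 5 n56287 = n54924 := d25_2 (iv F246400) D56287 (iv D54924)
theorem F252696 : act 8 n56287 = n55173 := d28_2 D54923 D56287 (iv D55173) (iv D53579) (iv F238957)
def n56288 : Q := act 2 n54924
theorem D56288 : act 2 n54924 = n56288 := rfl
theorem F252697 : act 4 n56288 = n55089 := d18_2 (iv F246401) D56288 (iv D55089)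
theorem F252698 : act 6 n56288 = n55682 := d20_2 (iv F246402) D56288 (iv D55682)
theorem F252699 : act 8 n56288 = n55174 := d22_2 (iv F246403) D56288 (iv D55174)
def n56289 : Q := act 5 n54926
theorem D56289 : act 5 n54926 = n56289 := rfl
theorem F252700 : act 0 n56289 = n55092 := d4_1 D56289 F247231 (iv F246411)
theorem F252701 : act 1 n56289 = n55722 := d12_1 D56289 F249888 (iv F246412)
theorem F252702 : act 2 n56289 = n55100 := d19_1 D56289 (iv D55100) (iv F246413)
theorem F252703 : act 3 n56289 = n54996 := d25_1 D56289 F246794 (iv F246414)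
theorem F252704 : act 7 n56289 = n55002 := d36_2 (iv F246416) D56289 F246820
theorem F252705 : act 8 n56289 = n54939 := d37_2 (iv F246417) D56289 (iv D54939)
def n56290 : Q := act 3 n54927
theorem D56290 : act 3 n54927 = n56290 := rfl
theorem F252706 : act 0 n56290 = n55717 := d2_1 D56290 (iv D55717) (iv F246418)
theorem F252707 : act 1 n56290 = n55002 := d10_1 D56290 (iv D55002) (iv F246419)
theorem F252708 : act 2 n56290 = n55738 := d17_1 D56290 (iv F250673) F250672 (iv F252473) F252472
theorem F252709 : act 5 n56290 = n54931 := d25_2 (iv F246420) D56290 (iv D54931)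

end Cfsg.Agent.Helper17.Fi23TC
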