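import Cfsg.Agent.Helper17.Fi23TC.Facts14

set_option autoImplicit false
set_option linter.all false

noncomputable section

namespace Cfsg.Agent.Helper17.Fi23TC

theorem F252710 : act 6 n56290 = n54928 := d26_2 (iv F246421) D56290 (iv D54928)
theorem F252711 : act 7 n56290 = n55722 := d27_2 (iv F246422) D56290 (iv D55722)
theorem F252712 : act 8 n56290 = n54932 := d28_2 D54927 D56290 (iv D54932) (iv D53309) (iv F238969)
def n56291 : Q := act 2 n54928
theorem D56291 : act 2 n54928 = n56291 := rfl
theorem F252713 : act 0 n56291 = n55066 := d1_1 D56291 (iv F252509) F252507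
theorem F252714 : act 3 n56291 = n54984 := d17_2 D54928 D56291 F246740 (iv F246159) F246158
theorem F252715 : act 5 n56291 = n54929 := d19_2 (iv F246423) D56291 (iv D54929)
theorem F252716 : act 6 n56291 = n55738 := d20_2 F252710 D56291 (iv F252708)
theorem F252717 : act 7 n56291 = n54993 := d21_2 F252494 D56291 (iv F252491)
theorem F252718 : act 8 n56291 = n54933 := d22_2 (iv F246424) D56291 (iv D54933)
theorem F252719 : act 1 n55739 = n56291 := d15_3 F252718 (iv F246459) (iv F249920)
def n56292 : Q := act 4 n54928
theorem D56292 : act 4 n54928 = n56292 := rfl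
theorem F252720 : act 5 n56292 = n55104 := d30_2 (iv F246423) D56292 (iv D55104) F239837 (iv F238974)
theorem F252721 : act 8 n56292 = n54934 := d33_2 (iv F246424) D56292 (iv D54934)
def n56293 : Q := act 4 n54932
theorem D56293 : act 4 n54932 = n56293 := rfl
theorem F252722 : act 0 n56293 = n55741 := d3_1 D56293 (iv D55741) (iv F246446)
theorem F252723 : act 1 n56293 = n55010 := d11_1 D56293 (iv D55010) (iv F246447)
theorem F252724 : act 2 n56293 = n55745 := d18_1 D56293 F249936 (iv F246448)
theorem F252725 : act 3 n56293 = n55184 := d24_1 D56293 (iv D55184) (iv D53593) (iv F239027) D54932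
theorem F252726 : act 5 n56293 = n55740 := d30_2 (iv F246449) D56293 (iv D55740) F242919 (iv F239044)
theorem F252727 : act 6 n56293 = n54934 := d31_2 (iv F246450) D56293 (iv D54934)
theorem F252728 : act 7 n56293 = n55742 := d32_2 (iv F246451) D56293 (iv D55742)
theorem F252729 : act 9 n56293 = n56293 := d34_2 F246452 D56293 (iv D56293)
def n56294 : Q := act 4 n54933
theorem D56294 : act 4 n54933 = n56294 := rfl
theorem F252730 : act 0 n56294 = n55116 := d3_1 D56294 (iv D55116) (iv F246453)
theorem F252731 : act 1 n56294 = n55748 := d11_1 D56294 F249942 F246459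
theorem F252732 : act 2 n56294 = n54934 := d18_1 D56294 (iv D54934) D54933
theorem F252733 : act 5 n56294 = n55112 := d30_2 (iv F246455) D56294 (iv D55112) F239882 (iv F239036)
theorem F252734 : act 6 n56294 = n55745 := d31_2 (iv F246456) D56294 F249936
theorem F252735 : act 7 n56294 = n55012 := d32_2 (iv F246457) D56294 (iv D55012)
theorem F252736 : act 9 n56294 = n56294 := d34_2 F246458 D56294 (iv D56294)
def n56295 : Q := act 4 n54935
theorem D56295 : act 4 n54935 = n56295 := rfl
theorem F252737 : act 0 n56295 = n55745 := d3_1 D56295 F249936 (iv F246463)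
theorem F252738 : act 1 n56295 = n54938 := d11_1 D56295 (iv D54938) (iv F246464)
theorem F252739 : act 2 n56295 = n55741 := d18_1 D56295 (iv D55741) (iv F246465)
theorem F252740 : act 5 n56295 = n55742 := d30_2 (iv F246466) D56295 (iv D55742) F242929 (iv F239075)
theorem F252741 : act 6 n56295 = n55116 := d31_2 (iv F246467) D56295 (iv D55116)
theorem F252742 : act 7 n56295 = n55740 := d32_2 (iv F246468) D56295 (iv D55740)
theorem F252743 : act 9 n56295 = n56295 := d34_2 F246469 D56295 (iv D56295)
def n56296 : Q := act 3 n54936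
theorem D56296 : act 3 n54936 = n56296 := rfl
theorem F252744 : act 0 n56296 = n55175 := d2_1 D56296 (iv D55175) (iv F246470)
theorem F252745 : act 2 n56296 = n55788 := d17_1 D56296 (iv D55788) F243096 (iv F240360) (iv F246471)
theorem F252746 : act 5 n56296 = n55140 := d25_2 (iv F246472) D56296 (iv D55140)
theorem F252747 : act 6 n56296 = n55688 := d26_2 (iv F246473) D56296 (iv D55688)
theorem F252748 : act 7 n56296 = n55141 := d27_2 (iv F246474) D56296 (iv D55141)
theorem F252749 : act 8 n56296 = n54937 := d28_2 D54936 D56296 (iv D54937) (iv D53315) (iv F239057)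
theorem F252750 : act 9 n56296 = n55784 := d29_2 (iv F246475) D56296 (iv D55784)
def n56297 : Q := act 4 n54937
theorem D56297 : act 4 n54937 = n56297 := rfl
theorem F252751 : act 0 n56297 = n55182 := d3_1 D56297 (iv D55182) (iv F246476)
theorem F252752 : act 2 n56297 = n55902 := d18_1 D56297 (iv D55902) (iv F246477)
theorem F252753 : act 3 n56297 = n54938 := d24_1 D56297 (iv D54938) (iv D53316) (iv F239063) D54937
theorem F252754 : act 5 n56297 = n55256 := d30_2 (iv F246478) D56297 (iv D55256) F240696 (iv F240106)
theorem F252755 : act 6 n56297 = n55689 := d31_2 (iv F246479) D56297 (iv D55689)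
theorem F252756 : act 7 n56297 = n55142 := d32_2 (iv F246480) D56297 (iv D55142)
theorem F252757 : act 9 n56297 = n56297 := d34_2 F246481 D56297 (iv D56297)
def n56298 : Q := act 5 n54938
theorem D56298 : act 5 n54938 = n56298 := rfl
theorem F252758 : act 0 n56298 = n55108 := d4_1 D56298 (iv F252526) F252522
theorem F252759 : act 1 n56298 = n55742 := d12_1 D56298 (iv F252740) F252738
theorem F252760 : act 2 n56298 = n55127 := d19_1 D56298 (iv D55127) (iv F246482)
theorem F252761 : act 3 n56298 = n55256 := d25_1 D56298 (iv F252754) F252753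
theorem F252762 : act 4 n56298 = n54939 := d30_1 D56298 (iv D54939) (iv D53318) (iv F239069) D54938
theorem F252763 : act 7 n56298 = n55010 := d36_2 F252520 D56298 (iv F252518)
theorem F252764 : act 9 n56298 = n56298 := d38_2 F246484 D56298 (iv D56298)
def n56299 : Q := act 8 n54940
theorem D56299 : act 8 n54940 = n56299 := rfl
theorem F252765 : act 0 n56299 = n55465 := d7_1 D56299 (iv D55465) (iv F246491)
theorem F252766 : act 1 n56299 = n54970 := d15_1 D56299 (iv D54970) (iv F246492)
theorem F252767 : act 2 n56299 = n55721 := d22_1 D56299 (iv D55721) (iv F246493)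
theorem F252768 : act 4 n56299 = n54941 := d33_1 D56299 (iv D54941) (iv F246495)
theorem F252769 : act 6 n56299 = n55659 := d40_1 D56299 (iv D55659) (iv F246496)
theorem F252770 : act 9 n56299 = n54949 := d44_2 D54940 D56299 (iv D54949) (iv D53328) (iv F239099)
def n56300 : Q := act 8 n54942
theorem D56300 : act 8 n54942 = n56300 := rfl
theorem F252771 : act 0 n56300 = n55724 := d7_1 D56300 (iv D55724) (iv F246504)
theorem F252772 : act 1 n56300 = n54987 := d15_1 D56300 (iv D54987) (iv F246505)
theorem F252773 : act 4 n56300 = n54943 := d33_1 D56300 (iv D54943) (iv F246507)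
theorem F252774 : act 5 n56300 = n55721 := d37_1 D56300 (iv D55721) (iv F246508)
theorem F252775 : act 7 n56300 = n54949 := d42_1 D56300 (iv D54949) (iv F246509)
def n56301 : Q := act 3 n54944
theorem D56301 : act 3 n54944 = n56301 := rfl
theorem F252776 : act 0 n56301 = n55018 := d2_1 D56301 F246912 (iv F246514)
theorem F252777 : act 1 n56301 = n54946 := d10_1 D56301 (iv D54946) (iv F246515)
theorem F252778 : act 2 n56301 = n55351 := d17_1 D56301 F248475 F241124 (iv F239338) (iv F246516)
theorem F252779 : act 4 n56301 = n56301 := d24_2 D54944 D56301 (iv D56301) (iv D54944) F239123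
theorem F252780 : act 5 n56301 = n54952 := d25_2 (iv F246517) D56301 F246561
theorem F252781 : act 6 n56301 = n55061 := d26_2 (iv F246518) D56301 F247102
theorem F252782 : act 7 n56301 = n54956 := d27_2 (iv F246519) D56301 F246587
theorem F252783 : act 8 n56301 = n55199 := d28_2 (iv F246520) D56301 F247726 F240490 (iv F239320)
def n56302 : Q := act 9 n54944
theorem D56302 : act 9 n54944 = n56302 := rfl
theorem F252784 : act 0 n56302 = n55034 := d8_1 D56302 (iv D55034) (iv F246514)
theorem F252785 : act 1 n56302 = n54947 := d16_1 D56302 (iv D54947) (iv F246515)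
theorem F252786 : act 2 n56302 = n54989 := d23_1 D56302 (iv D54989) (iv F246516)
theorem F252787 : act 4 n56302 = n54945 := d34_1 D56302 (iv D54945) D54944
theorem F252788 : act 5 n56302 = n54961 := d38_1 D56302 (iv D54961) (iv F246517)
theorem F252789 : act 6 n56302 = n55064 := d41_1 D56302 (iv D55064) (iv F246518)
theorem F252790 : act 7 n56302 = n54969 := d43_1 D56302 (iv D54969) (iv F246519)
def n56303 : Q := act 8 n54945
theorem D56303 : act 8 n54945 = n56303 := rfl
theorem F252791 : act 0 n56303 = n55048 := d7_1 D56303 (iv D55048) (iv F246521)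
theorem F252792 : act 1 n56303 = n54948 := d15_1 D56303 (iv D54948) (iv F246522)
theorem F252793 : act 2 n56303 = n54990 := d22_1 D56303 (iv D54990) (iv F246523)
theorem F252794 : act 5 n56303 = n54950 := d37_1 D56303 (iv D54950) (iv F246525)
theorem F252795 : act 6 n56303 = n55090 := d40_1 D56303 (iv D55090) (iv F246526)
theorem F252796 : act 7 n56303 = n54976 := d42_1 D56303 (iv D54976) (iv F246527)
theorem F252797 : act 9 n56303 = n54996 := d44_2 D54945 D56303 (iv D54996) (iv D53377) (iv F239127)
def n56304 : Q := act 9 n54946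
theorem D56304 : act 9 n54946 = n56304 := rfl
theorem F252798 : act 0 n56304 = n55162 := d8_1 D56304 (iv D55162) (iv F246528)
theorem F252799 : act 2 n56304 = n55194 := d23_1 D56304 (iv D55194) (iv F246529)
theorem F252800 : act 3 n56304 = n54947 := d29_1 D56304 (iv D54947) D54946
theorem F252801 : act 4 n56304 = n56304 := d34_1 D56304 (iv D56304) F246530
theorem F252802 : act 5 n56304 = n55135 := d38_1 D56304 (iv D55135) (iv F246531)
theorem F252803 : act 6 n56304 = n55675 := d41_1 D56304 (iv D55675) (iv F246532)
theorem F252804 : act 7 n56304 = n55749 := d43_1 D56304 (iv D55749) (iv F246533)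
def n56305 : Q := act 8 n54947
theorem D56305 : act 8 n54947 = n56305 := rfl
theorem F252805 : act 0 n56305 = n55703 := d7_1 D56305 (iv D55703) (iv F246535)
theorem F252806 : act 2 n56305 = n54949 := d22_1 D56305 (iv D54949) (iv F246536)
theorem F252807 : act 4 n56305 = n54948 := d33_1 D56305 (iv D54948) (iv F246537)
theorem F252808 : act 6 n56305 = n55678 := d40_1 D56305 (iv D55678) (iv F246538)
theorem F252809 : act 9 n56305 = n55721 := d44_2 D54947 D56305 (iv D55721) (iv D54210) (iv F239131)
def n56306 : Q := act 3 n54948
theorem D56306 : act 3 n54948 = n56306 := rfl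
theorem F252810 : act 0 n56306 = n55704 := d2_1 D56306 (iv D55704) (iv F246539)
theorem F252811 : act 5 n56306 = n54951 := d25_2 (iv F246541) D56306 (iv D54951)
theorem F252812 : act 6 n56306 = n55683 := d26_2 (iv F246542) D56306 (iv D55683)
theorem F252813 : act 8 n56306 = n56306 := d28_2 D54948 D56306 (iv D56306) (iv D54948) F239134
theorem F252814 : act 9 n56306 = n55722 := d29_2 (iv F246543) D56306 (iv D55722)
def n56307 : Q := act 3 n54949
theorem D56307 : act 3 n54949 = n56307 := rfl
theorem F252815 : act 1 n56307 = n54995 := d10_1 D56307 (iv D54995) (iv F246544)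
theorem F252816 : act 6 n56307 = n55681 := d26_2 (iv F246546) D56307 (iv D55681)
theorem F252817 : act 8 n56307 = n55197 := d28_2 D54949 D56307 (iv D55197) (iv D53612) (iv F239138)
def n56308 : Q := act 9 n54952
theorem D56308 : act 9 n54952 = n56308 := rfl
theorem F252818 : act 0 n56308 = n55019 := d8_1 D56308 (iv D55019) (iv F246558)
theorem F252819 : act 1 n56308 = n55135 := d16_1 D56308 (iv D55135) (iv F246559)
theorem F252820 : act 2 n56308 = n55605 := d23_1 D56308 (iv D55605) (iv F246560)
theorem F252821 : act 3 n56308 = n54961 := d29_1 D56308 (iv D54961) (iv F246561)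
theorem F252822 : act 4 n56308 = n54953 := d34_1 D56308 (iv D54953) D54952
theorem F252823 : act 6 n56308 = n55128 := d41_1 D56308 (iv D55128) (iv F246562)
theorem F252824 : act 7 n56308 = n54957 := d43_1 D56308 (iv D54957) (iv F246563)
def n56309 : Q := act 8 n54953
theorem D56309 : act 8 n54953 = n56309 := rfl
theorem F252825 : act 0 n56309 = n55020 := d7_1 D56309 (iv D55020) (iv F246565)
theorem F252826 : act 1 n56309 = n55136 := d15_1 D56309 (iv D55136) (iv F246566)
theorem F252827 : act 2 n56309 = n55647 := d22_1 D56309 (iv D55647) (iv F246567)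
theorem F252828 : act 3 n56309 = n55190 := d28_1 D56309 (iv D55190) F240396 (iv F239183) (iv F246568)
theorem F252829 : act 5 n56309 = n56309 := d37_1 D56309 (iv D56309) F246569
theorem F252830 : act 6 n56309 = n55129 := d40_1 D56309 (iv D55129) (iv F246570)
theorem F252831 : act 7 n56309 = n54958 := d42_1 D56309 (iv D54958) (iv F246571)
theorem F252832 : act 9 n56309 = n55201 := d44_2 D54953 D56309 (iv D55201) (iv D53616) (iv F239174)
def n56310 : Q := act 3 n54954
theorem D56310 : act 3 n54954 = n56310 := rfl
theorem F252833 : act 0 n56310 = n55023 := d2_1 D56310 (iv D55023) (iv F246572)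
theorem F252834 : act 1 n56310 = n55565 := d10_1 D56310 F249389 (iv F246573)
theorem F252835 : act 2 n56310 = n54965 := d17_1 D56310 (iv D54965) F239222 (iv F239193) (iv F246574)
theorem F252836 : act 4 n56310 = n56310 := d24_2 D54954 D56310 (iv D56310) (iv D54954) F239186
theorem F252837 : act 6 n56310 = n55512 := d26_2 (iv F246575) D56310 F249155
theorem F252838 : act 7 n56310 = n55337 := d27_2 (iv F246576) D56310 F248405
theorem F252839 : act 8 n56310 = n55562 := d28_2 (iv F246577) D56310 (iv D55562) F242208 (iv F240451)
theorem F252840 : act 5 n56310 = n55356 := d45_3 (iv D55203) (iv F246577) D56310 F248500 F241235 F241233 F235631 F226638 D50742 (iv F233111) (iv F240751) F240752 (iv F247936) F247935 F243198 F235277 (iv F234111) (iv D52219) F224842 (iv F224108) (iv D50019) (iv D47818) (iv D44524) F129462 F91890 D21370 D31142 D45436 (iv F215643) F215644 F188709 F188708 F131786 (iv F131853) D45466 F189344 F211477 F211473 F206210 F131803 (iv F132848) (iv F190712) (iv F216710) (iv F226359) (iv D50643) (iv F226225) F226222 F216828 F223463 (iv F232686)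 F232685 (iv F229046) F229047 D53042 D54721 D56141 F251798 (iv F250918) (iv D56000) F244265 F240181 F233752 F225021 (iv D48735) F207683 (iv F190486) F190485 (iv F190500) (iv F214872) (iv F224835) F224836 (iv D50178) F214869 F187294 F130532 F91115 (iv F130446) D44893 F187311 F132689 D31443 D45881 D48543 (iv F226539) (iv F235421) F235420 (iv F235411) (iv F242339) (iv F247752)
def n56311 : Q := act 5 n54954
theorem D56311 : act 5 n54954 = n56311 := rfl
theorem F252841 : act 0 n56311 = n55024 := d4_1 D56311 (iv D55024) (iv F246572)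
theorem F252842 : act 1 n56311 = n55593 := d12_1 D56311 F249502 (iv F246573)
theorem F252843 : act 2 n56311 = n54956 := d19_1 D56311 (iv D54956) (iv F246574)
theorem F252844 : act 3 n56311 = n55356 := d25_1 D56311 (iv F252840) (iv D56310)
theorem F252845 : act 4 n56311 = n56311 := d30_1 D56311 (iv D56311) (iv D54954) F239187 D54954
theorem F252846 : act 6 n56311 = n55373 := d35_2 (iv F246575) D56311 F248558 F241932 D53958
theorem F252847 : act 7 n56311 = n55351 := d36_2 (iv F246576) D56311 F248477
theorem F252848 : act 8 n56311 = n55202 := d37_2 (iv F246577) D56311 (iv D55202)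
def n56312 : Q := act 9 n54954
theorem D56312 : act 9 n54954 = n56312 := rfl
theorem F252849 : act 0 n56312 = n55025 := d8_1 D56312 (iv D55025) (iv F246572)
theorem F252850 : act 1 n56312 = n55595 := d16_1 D56312 (iv D55595) (iv F246573)
theorem F252851 : act 2 n56312 = n54957 := d23_1 D56312 (iv D54957) (iv F246574)
theorem F252852 : act 4 n56312 = n54955 := d34_1 D56312 (iv D54955) D54954
theorem F252853 : act 6 n56312 = n55514 := d41_1 D56312 (iv D55514) (iv F246575)
theorem F252854 : act 7 n56312 = n55605 := d43_1 D56312 (iv D55605) (iv F246576)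
def n56313 : Q := act 8 n54955
theorem D56313 : act 8 n54955 = n56313 := rfl
theorem F252855 : act 0 n56313 = n55026 := d7_1 D56313 (iv D55026) (iv F246578)
theorem F252856 : act 1 n56313 = n55643 := d15_1 D56313 (iv D55643) (iv F246579)
theorem F252857 : act 2 n56313 = n54958 := d22_1 D56313 (iv D54958) (iv F246580)
theorem F252858 : act 5 n56313 = n56313 := d37_1 D56313 (iv D56313) F246582
theorem F252859 : act 6 n56313 = n55530 := d40_1 D56313 (iv D55530) (iv F246583)
theorem F252860 : act 7 n56313 = n55647 := d42_1 D56313 (iv D55647) (iv F246584)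
theorem F252861 : act 9 n56313 = n55204 := d44_2 D54955 D56313 (iv D55204) (iv D53618) (iv F239190)
def n56314 : Q := act 9 n54956
theorem D56314 : act 9 n54956 = n56314 := rfl
theorem F252862 : act 0 n56314 = n55027 := d8_1 D56314 (iv D55027) (iv F246585)
theorem F252863 : act 1 n56314 = n55749 := d16_1 D56314 (iv D55749) (iv F246586)
theorem F252864 : act 3 n56314 = n54969 := d29_1 D56314 (iv D54969) (iv F246587)
theorem F252865 : act 4 n56314 = n56314 := d34_1 D56314 (iv D56314) F246588
theorem F252866 : act 5 n56314 = n54957 := d38_1 D56314 (iv D54957) D54956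
theorem F252867 : act 6 n56314 = n55508 := d41_1 D56314 (iv D55508) (iv F246589)
def n56315 : Q := act 8 n54957
theorem D56315 : act 8 n54957 = n56315 := rfl
theorem F252868 : act 0 n56315 = n55028 := d7_1 D56315 (iv D55028) (iv F246591)
theorem F252869 : act 1 n56315 = n55750 := d15_1 D56315 (iv D55750) (iv F246592)
theorem F252870 : act 4 n56315 = n54958 := d33_1 D56315 (iv D54958) (iv F246594)
theorem F252871 : act 6 n56315 = n55517 := d40_1 D56315 (iv D55517) (iv F246595)
theorem F252872 : act 9 n56315 = n55206 := d44_2 D54957 D56315 (iv D55206) (iv D53620) (iv F239195)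
def n56316 : Q := act 9 n54959
theorem D56316 : act 9 n54959 = n56316 := rfl
theorem F252873 : act 0 n56316 = n55032 := d8_1 D56316 (iv D55032) (iv F246602)
theorem F252874 : act 1 n56316 = n54991 := d16_1 D56316 (iv D54991) (iv F246603)
theorem F252875 : act 2 n56316 = n54961 := d23_1 D56316 (iv D54961) (iv F246604)
theorem F252876 : act 3 n56316 = n55341 := d29_1 D56316 (iv D55341) F246609
theorem F252877 : act 4 n56316 = n54960 := d34_1 D56316 (iv D54960) D54959
theorem F252878 : act 5 n56316 = n54989 := d38_1 D56316 (iv D54989) (iv F246605)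
theorem F252879 : act 6 n56316 = n55059 := d41_1 D56316 (iv D55059) (iv F246606)
theorem F252880 : act 7 n56316 = n54967 := d43_1 D56316 (iv D54967) (iv F246607)
def n56317 : Q := act 8 n54960
theorem D56317 : act 8 n54960 = n56317 := rfl
theorem F252881 : act 0 n56317 = n55033 := d7_1 D56317 (iv D55033) (iv F246610)
theorem F252882 : act 1 n56317 = n54999 := d15_1 D56317 (iv D54999) (iv F246611)
theorem F252883 : act 2 n56317 = n54962 := d22_1 D56317 (iv D54962) (iv F246612)
theorem F252884 : act 5 n56317 = n54971 := d37_1 D56317 (iv D54971) (iv F246614)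
theorem F252885 : act 7 n56317 = n54968 := d42_1 D56317 (iv D54968) (iv F246615)
theorem F252886 : act 9 n56317 = n54984 := d44_2 D54960 D56317 (iv D54984) (iv D53364) (iv F239206)
def n56318 : Q := act 8 n54961
theorem D56318 : act 8 n54961 = n56318 := rfl
theorem F252887 : act 0 n56318 = n55035 := d7_1 D56318 (iv D55035) (iv F246616)
theorem F252888 : act 4 n56318 = n54962 := d33_1 D56318 (iv D54962) (iv F246617)
theorem F252889 : act 7 n56318 = n54970 := d42_1 D56318 (iv D54970) (iv F246618)
theorem F252890 : act 9 n56318 = n54987 := d44_2 D54961 D56318 (iv D54987) (iv D53366) (iv F239209)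
def n56319 : Q := act 9 n54963
theorem D56319 : act 9 n54963 = n56319 := rfl
theorem F252891 : act 0 n56319 = n55064 := d8_1 D56319 (iv D55064) (iv F246623)
theorem F252892 : act 1 n56319 = n54967 := d16_1 D56319 (iv D54967) (iv F246624)
theorem F252893 : act 2 n56319 = n54986 := d23_1 D56319 (iv D54986) (iv F246625)
theorem F252894 : act 4 n56319 = n54964 := d34_1 D56319 (iv D54964) D54963
theorem F252895 : act 5 n56319 = n54983 := d38_1 D56319 (iv D54983) (iv F246626)
theorem F252896 : act 6 n56319 = n55034 := d41_1 D56319 (iv D55034) (iv F246627)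
theorem F252897 : act 7 n56319 = n54991 := d43_1 D56319 (iv D54991) (iv F246628)
def n56320 : Q := act 8 n54964
theorem D56320 : act 8 n54964 = n56320 := rfl
theorem F252898 : act 0 n56320 = n55090 := d7_1 D56320 (iv D55090) (iv F246630)
theorem F252899 : act 1 n56320 = n54968 := d15_1 D56320 (iv D54968) (iv F246631)
theorem F252900 : act 2 n56320 = n54996 := d22_1 D56320 (iv D54996) (iv F246632)
theorem F252901 : act 5 n56320 = n54972 := d37_1 D56320 (iv D54972) (iv F246634)
theorem F252902 : act 6 n56320 = n55048 := d40_1 D56320 (iv D55048) (iv F246635)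
theorem F252903 : act 7 n56320 = n54999 := d42_1 D56320 (iv D54999) (iv F246636)
theorem F252904 : act 9 n56320 = n54990 := d44_2 D54964 D56320 (iv D54990) (iv D53370) (iv F239220)
def n56321 : Q := act 9 n54965
theorem D56321 : act 9 n54965 = n56321 := rfl
theorem F252905 : act 0 n56321 = n55040 := d8_1 D56321 (iv D55040) (iv F246637)
theorem F252906 : act 3 n56321 = n54967 := d29_1 D56321 (iv D54967) D54965
theorem F252907 : act 4 n56321 = n56321 := d34_1 D56321 (iv D56321) F246638
theorem F252908 : act 5 n56321 = n55361 := d38_1 D56321 (iv D55361) F246641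
theorem F252909 : act 6 n56321 = n55692 := d41_1 D56321 (iv D55692) (iv F246639)
theorem F252910 : act 7 n56321 = n55341 := d43_1 D56321 (iv D55341) (iv F246640)
def n56322 : Q := act 9 n54966
theorem D56322 : act 9 n54966 = n56322 := rfl
theorem F252911 : act 0 n56322 = n55041 := d8_1 D56322 (iv D55041) (iv F246642)
theorem F252912 : act 1 n56322 = n54983 := d16_1 D56322 (iv D54983) (iv F246643)
theorem F252913 : act 2 n56322 = n54969 := d23_1 D56322 (iv D54969) (iv F246644)
theorem F252914 : act 3 n56322 = n55361 := d29_1 D56322 (iv D55361) (iv F246645)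
theorem F252915 : act 4 n56322 = n54973 := d34_1 D56322 (iv D54973) (iv F246646)
theorem F252916 : act 5 n56322 = n54967 := d38_1 D56322 (iv D54967) D54966
theorem F252917 : act 6 n56322 = n55086 := d41_1 D56322 (iv D55086) (iv F246647)
theorem F252918 : act 7 n56322 = n54989 := d43_1 D56322 (iv D54989) (iv F246648)
def n56323 : Q := act 8 n54967
theorem D56323 : act 8 n54967 = n56323 := rfl
theorem F252919 : act 0 n56323 = n55042 := d7_1 D56323 (iv D55042) (iv F246650)
theorem F252920 : act 2 n56323 = n54970 := d22_1 D56323 (iv D54970) (iv F246651)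
theorem F252921 : act 4 n56323 = n54968 := d33_1 D56323 (iv D54968) (iv F246652)
theorem F252922 : act 6 n56323 = n55693 := d40_1 D56323 (iv D55693) (iv F246653)
theorem F252923 : act 9 n56323 = n54992 := d44_2 D54967 D56323 (iv D54992) (iv D53372) (iv F239224)
def n56324 : Q := act 3 n54968
theorem D56324 : act 3 n54968 = n56324 := rfl
theorem F252924 : act 0 n56324 = n55043 := d2_1 D56324 (iv D55043) (iv F246654)
theorem F252925 : act 5 n56324 = n54975 := d25_2 (iv F246656) D56324 (iv D54975)
theorem F252926 : act 6 n56324 = n55694 := d26_2 (iv F246657) D56324 (iv D55694)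
theorem F252927 : act 8 n56324 = n56324 := d28_2 D54968 D56324 (iv D56324) (iv D54968) F239227
theorem F252928 : act 9 n56324 = n54993 := d29_2 (iv F246658) D56324 (iv D54993)
def n56325 : Q := act 8 n54969
theorem D56325 : act 8 n54969 = n56325 := rfl
theorem F252929 : act 0 n56325 = n55045 := d7_1 D56325 (iv D55045) (iv F246659)
theorem F252930 : act 4 n56325 = n54976 := d33_1 D56325 (iv D54976) (iv F246660)
theorem F252931 : act 5 n56325 = n54970 := d37_1 D56325 (iv D54970) (iv F246661)
theorem F252932 : act 9 n56325 = n54994 := d44_2 D54969 D56325 (iv D54994) (iv D53374) (iv F239232)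
def n56326 : Q := act 3 n54970
theorem D56326 : act 3 n54970 = n56326 := rfl
theorem F252933 : act 0 n56326 = n55046 := d2_1 D56326 (iv D55046) (iv F246662)
theorem F252934 : act 6 n56326 = n55695 := d26_2 (iv F246664) D56326 (iv D55695)
theorem F252935 : act 9 n56326 = n54995 := d29_2 (iv F246665) D56326 (iv D54995)
def n56327 : Q := act 3 n54972
theorem D56327 : act 3 n54972 = n56327 := rfl
theorem F252936 : act 0 n56327 = n55091 := d2_1 D56327 (iv D55091) (iv F246673)
theorem F252937 : act 1 n56327 = n54975 := d10_1 D56327 (iv D54975) (iv F246674)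
theorem F252938 : act 2 n56327 = n55099 := d17_1 D56327 F247260 (iv F246413) F246414 (iv F246675)
theorem F252939 : act 4 n56327 = n55098 := d24_2 (iv F246676) D56327 F247257 (iv F246427) F246426
theorem F252940 : act 6 n56327 = n54978 := d26_2 (iv F246677) D56327 (iv D54978)
theorem F252941 : act 7 n56327 = n55000 := d27_2 (iv F246678) D56327 (iv D55000)
theorem F252942 : act 8 n56327 = n56327 := d28_2 D54972 D56327 (iv D56327) (iv D54972) F239253
theorem F252943 : act 9 n56327 = n54998 := d29_2 (iv F246679) D56327 (iv D54998)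
def n56328 : Q := act 8 n54973
theorem D56328 : act 8 n54973 = n56328 := rfl
theorem F252944 : act 0 n56328 = n55051 := d7_1 D56328 (iv D55051) (iv F246680)
theorem F252945 : act 1 n56328 = n54984 := d15_1 D56328 (iv D54984) (iv F246681)
theorem F252946 : act 2 n56328 = n54976 := d22_1 D56328 (iv D54976) (iv F246682)
theorem F252947 : act 3 n56328 = n55739 := d28_1 D56328 F249920 F242950 F239456 (iv F246683)
theorem F252948 : act 5 n56328 = n54974 := d37_1 D56328 (iv D54974) (iv F246684)
theorem F252949 : act 6 n56328 = n55101 := d40_1 D56328 (iv D55101) (iv F246685)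
theorem F252950 : act 7 n56328 = n54990 := d42_1 D56328 (iv D54990) (iv F246686)
theorem F252951 : act 9 n56328 = n54999 := d44_2 D54973 D56328 (iv D54999) (iv D53381) (iv F239263)
def n56329 : Q := act 4 n54975
theorem D56329 : act 4 n54975 = n56329 := rfl
theorem F252952 : act 0 n56329 = n55053 := d3_1 D56329 (iv D55053) (iv F246695)
theorem F252953 : act 1 n56329 = n55098 := d11_1 D56329 (iv F252939) F252937
theorem F252954 : act 2 n56329 = n55049 := d18_1 D56329 (iv F252442) F252441
theorem F252955 : act 3 n56329 = n55105 := d24_1 D56329 F247274 (iv F246690) F246691 D54975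
theorem F252956 : act 6 n56329 = n54979 := d31_2 (iv F246696) D56329 (iv D54979)
theorem F252957 : act 7 n56329 = n55056 := d32_2 F252644 D56329 (iv F252642)
theorem F252958 : act 8 n56329 = n56329 := d33_2 F246697 D56329 (iv D56329)
theorem F252959 : act 9 n56329 = n55001 := d34_2 (iv F246698) D56329 (iv D55001)
def n56330 : Q := act 3 n54976
theorem D56330 : act 3 n54976 = n56330 := rfl
theorem F252960 : act 0 n56330 = n55055 := d2_1 D56330 (iv D55055) (iv F246699)
theorem F252961 : act 5 n56330 = n54977 := d25_2 (iv F246700) D56330 (iv D54977)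
theorem F252962 : act 8 n56330 = n56330 := d28_2 D54976 D56330 (iv D56330) (iv D54976) F239276
theorem F252963 : act 9 n56330 = n55002 := d29_2 (iv F246701) D56330 (iv D55002)
def n56331 : Q := act 2 n54977
theorem D56331 : act 2 n54977 = n56331 := rfl
theorem F252964 : act 0 n56331 = n55056 := d1_1 D56331 (iv D55056) (iv F246702)
theorem F252965 : act 1 n56331 = n55672 := d9_1 D56331 F249758 (iv F249857) (iv F252650) F252649
theorem F252966 : act 3 n56331 = n55686 := d17_2 D54977 D56331 F249795 (iv F246690) F246689
theorem F252967 : act 4 n56331 = n55047 := d18_2 F252457 D56331 (iv F252456)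
theorem F252968 : act 6 n56331 = n54980 := d20_2 (iv F246703) D56331 (iv D54980)
theorem F252969 : act 7 n56331 = n55053 := d21_2 F252627 D56331 (iv F252624)
theorem F252970 : act 8 n56331 = n56331 := d22_2 F246704 D56331 (iv D56331)
theorem F252971 : act 9 n56331 = n55003 := d23_2 (iv F246705) D56331 (iv D55003)
def n56332 : Q := act 8 n54981
theorem D56332 : act 8 n54981 = n56332 := rfl
theorem F252972 : act 0 n56332 = n55060 := d7_1 D56332 (iv D55060) (iv F246727)
theorem F252973 : act 4 n56332 = n54982 := d33_1 D56332 (iv D54982) (iv F246729)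
theorem F252974 : act 6 n56332 = n54987 := d40_1 D56332 (iv D54987) (iv F246730)
theorem F252975 : act 7 n56332 = n55696 := d42_1 D56332 (iv D55696) (iv F246731)
def n56333 : Q := act 8 n54983
theorem D56333 : act 8 n54983 = n56333 := rfl
theorem F252976 : act 0 n56333 = n55065 := d7_1 D56333 (iv D55065) (iv F246735)
theorem F252977 : act 2 n56333 = n54987 := d22_1 D56333 (iv D54987) (iv F246736)
theorem F252978 : act 4 n56333 = n54984 := d33_1 D56333 (iv D54984) (iv F246737)
theorem F252979 : act 7 n56333 = n54992 := d42_1 D56333 (iv D54992) (iv F246738)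
def n56334 : Q := act 9 n54985
theorem D56334 : act 9 n54985 = n56334 := rfl
theorem F252980 : act 0 n56334 = n54989 := d8_1 D56334 (iv D54989) (iv F246743)
theorem F252981 : act 1 n56334 = n55070 := d16_1 D56334 (iv D55070) (iv F246744)
theorem F252982 : act 2 n56334 = n55034 := d23_1 D56334 (iv D55034) (iv F246745)
theorem F252983 : act 3 n56334 = n55230 := d29_1 D56334 (iv D55230) (iv F246746)
theorem F252984 : act 4 n56334 = n54988 := d34_1 D56334 (iv D54988) (iv F246747)
theorem F252985 : act 5 n56334 = n55032 := d38_1 D56334 (iv D55032) (iv F246748)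
theorem F252986 : act 6 n56334 = n54986 := d41_1 D56334 (iv D54986) D54985
theorem F252987 : act 7 n56334 = n55041 := d43_1 D56334 (iv D55041) (iv F246749)
def n56335 : Q := act 8 n54986
theorem D56335 : act 8 n54986 = n56335 := rfl
theorem F252988 : act 0 n56335 = n55067 := d7_1 D56335 (iv D55067) (iv F246751)
theorem F252989 : act 1 n56335 = n55721 := d15_1 D56335 (iv D55721) (iv F246752)
theorem F252990 : act 4 n56335 = n54996 := d33_1 D56335 (iv D54996) (iv F246754)
theorem F252991 : act 5 n56335 = n54987 := d37_1 D56335 (iv D54987) (iv F246755)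
theorem F252992 : act 7 n56335 = n54994 := d42_1 D56335 (iv D54994) (iv F246756)
def n56336 : Q := act 3 n54987
theorem D56336 : act 3 n54987 = n56336 := rfl
theorem F252993 : act 0 n56336 = n55068 := d2_1 D56336 (iv D55068) (iv F246757)
theorem F252994 : act 7 n56336 = n54995 := d27_2 (iv F246759) D56336 (iv D54995)
theorem F252995 : act 8 n56336 = n55232 := d28_2 D54987 D56336 (iv D55232) (iv D53646) (iv F239324)
def n56337 : Q := act 8 n54988
theorem D56337 : act 8 n54988 = n56337 := rfl
theorem F252996 : act 0 n56337 = n54990 := d7_1 D56337 (iv D54990) (iv F246760)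
theorem F252997 : act 1 n56337 = n55071 := d15_1 D56337 (iv D55071) (iv F246761)
theorem F252998 : act 2 n56337 = n55048 := d22_1 D56337 (iv D55048) (iv F246762)
theorem F252999 : act 5 n56337 = n54997 := d37_1 D56337 (iv D54997) (iv F246764)
theorem F253000 : act 6 n56337 = n54996 := d40_1 D56337 (iv D54996) (iv F246765)
theorem F253001 : act 7 n56337 = n55051 := d42_1 D56337 (iv D55051) (iv F246766)
theorem F253002 : act 9 n56337 = n55090 := d44_2 D54988 D56337 (iv D55090) (iv D53473) (iv F239336)
def n56338 : Q := act 8 n54989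
theorem D56338 : act 8 n54989 = n56338 := rfl
theorem F253003 : act 1 n56338 = n54992 := d15_1 D56338 (iv D54992) (iv F246767)
theorem F253004 : act 4 n56338 = n54990 := d33_1 D56338 (iv D54990) (iv F246769)
theorem F253005 : act 6 n56338 = n55067 := d40_1 D56338 (iv D55067) (iv F246770)
def n56339 : Q := act 3 n54990
theorem D56339 : act 3 n54990 = n56339 := rfl
theorem F253006 : act 1 n56339 = n54993 := d10_1 D56339 (iv D54993) (iv F246771)
theorem F253007 : act 5 n56339 = n54998 := d25_2 (iv F246772) D56339 (iv D54998)
theorem F253008 : act 6 n56339 = n55092 := d26_2 (iv F246773) D56339 (iv D55092)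
theorem F253009 : act 7 n56339 = n55739 := d27_2 F252950 D56339 (iv F252947)
theorem F253010 : act 8 n56339 = n55011 := d28_2 D54990 D56339 (iv D55011) (iv D53399) (iv F239341)
def n56340 : Q := act 8 n54991
theorem D56340 : act 8 n54991 = n56340 := rfl
theorem F253011 : act 0 n56340 = n55083 := d7_1 D56340 (iv D55083) (iv F246774)
theorem F253012 : act 2 n56340 = n54994 := d22_1 D56340 (iv D54994) (iv F246775)
theorem F253013 : act 4 n56340 = n54999 := d33_1 D56340 (iv D54999) (iv F246776)
theorem F253014 : act 5 n56340 = n54992 := d37_1 D56340 (iv D54992) (iv F246777)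
def n56341 : Q := act 3 n54992
theorem D56341 : act 3 n54992 = n56341 := rfl
theorem F253015 : act 0 n56341 = n55084 := d2_1 D56341 (iv D55084) (iv F246778)
theorem F253016 : act 6 n56341 = n55698 := d26_2 (iv F246781) D56341 (iv D55698)
def n56342 : Q := act 4 n54993
theorem D56342 : act 4 n54993 = n56342 := rfl
theorem F253017 : act 0 n56342 = n55085 := d3_1 D56342 (iv D55085) (iv F246782)
theorem F253018 : act 6 n56342 = n55699 := d31_2 (iv F246784) D56342 (iv D55699)
theorem F253019 : act 8 n56342 = n55012 := d33_2 (iv F246785) D56342 (iv D55012)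
def n56343 : Q := act 3 n54994
theorem D56343 : act 3 n54994 = n56343 := rfl
theorem F253020 : act 0 n56343 = n55088 := d2_1 D56343 (iv D55088) (iv F246786)
theorem F253021 : act 5 n56343 = n54995 := d25_2 (iv F246788) D56343 (iv D54995)
theorem F253022 : act 8 n56343 = n55242 := d28_2 D54994 D56343 (iv D55242) (iv D53655) (iv F239356)
def n56344 : Q := act 2 n54995
theorem D56344 : act 2 n54995 = n56344 := rfl
theorem F253023 : act 0 n56344 = n55089 := d1_1 D56344 (iv D55089) (iv F246789)
theorem F253024 : act 6 n56344 = n55700 := d20_2 (iv F246790) D56344 (iv D55700)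
theorem F253025 : act 8 n56344 = n55243 := d22_2 (iv F246791) D56344 (iv D55243)
def n56345 : Q := act 2 n54998
theorem D56345 : act 2 n54998 = n56345 := rfl
theorem F253026 : act 0 n56345 = n55105 := d1_1 D56345 (iv F250696) F250695
theorem F253027 : act 1 n56345 = n55663 := d9_1 D56345 F249729 (iv F246186) F246187 (iv F246803)
theorem F253028 : act 3 n56345 = n55053 := d17_2 D54998 D56345 (iv F252624) F252625 F246549
theorem F253029 : act 6 n56345 = n55004 := d20_2 (iv F246804) D56345 (iv D55004)
theorem F253030 : act 7 n56345 = n55686 := d21_2 (iv F246805) D56345 F249795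
theorem F253031 : act 8 n56345 = n55013 := d22_2 (iv F246806) D56345 (iv D55013)
theorem F253032 : act 9 n56345 = n55099 := d23_2 F252943 D56345 (iv F252938)
theorem F253033 : act 4 n55052 = n56345 := d34_3 F253032 (iv D55099) (iv F247069)
def n56346 : Q := act 4 n54998
theorem D56346 : act 4 n54998 = n56346 := rfl
theorem F253034 : act 0 n56346 = n55686 := d3_1 D56346 (iv F250698) F250695
theorem F253035 : act 1 n56346 = n55001 := d11_1 D56346 (iv D55001) (iv F246803)
theorem F253036 : act 2 n56346 = n55052 := d18_1 D56346 F253033 (iv D56345)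
theorem F253037 : act 3 n56346 = n55056 := d24_1 D56346 (iv F252642) F252641 F246669 D54998
theorem F253038 : act 6 n56346 = n55005 := d31_2 (iv F246804) D56346 (iv D55005)
theorem F253039 : act 7 n56346 = n55105 := d32_2 (iv F246805) D56346 F247274
theorem F253040 : act 8 n56346 = n55014 := d33_2 (iv F246806) D56346 (iv D55014)
theorem F253041 : act 9 n56346 = n55098 := d34_2 F252943 D56346 (iv F252939)
def n56347 : Q := act 3 n54999
theorem D56347 : act 3 n54999 = n56347 := rfl
theorem F253042 : act 0 n56347 = n55097 := d2_1 D56347 (iv D55097) (iv F246807)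
theorem F253043 : act 5 n56347 = n55000 := d25_2 (iv F246809) D56347 (iv D55000)
theorem F253044 : act 6 n56347 = n55711 := d26_2 F250545 D56347 F250548
theorem F253045 : act 8 n56347 = n56347 := d28_2 D54999 D56347 (iv D56347) (iv D54999) F239387
theorem F253046 : act 9 n56347 = n55739 := d29_2 F252951 D56347 (iv F252947)
def n56348 : Q := act 2 n55000
theorem D56348 : act 2 n55000 = n56348 := rfl
theorem F253047 : act 0 n56348 = n55098 := d1_1 D56348 (iv D55098) (iv F246810)
theorem F253048 : act 1 n56348 = n55684 := d9_1 D56348 (iv F250463) F250462 D56277 (iv F252647)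
theorem F253049 : act 3 n56348 = n55003 := d17_2 D55000 D56348 (iv D55003) (iv D53385) (iv F239390)
theorem F253050 : act 6 n56348 = n55006 := d20_2 (iv F246811) D56348 (iv D55006)
theorem F253051 : act 7 n56348 = n55099 := d21_2 F252941 D56348 (iv F252938)
theorem F253052 : act 8 n56348 = n56348 := d22_2 F246812 D56348 (iv D56348)
theorem F253053 : act 9 n56348 = n55686 := d23_2 (iv F246813) D56348 F249795
theorem F253054 : act 4 n55091 = n56348 := d34_3 F253053 (iv F250698) F250702
def n56349 : Q := act 4 n55000
theorem D56349 : act 4 n55000 = n56349 := rfl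
theorem F253055 : act 0 n56349 = n55099 := d3_1 D56349 (iv D55099) (iv F246810)
theorem F253056 : act 1 n56349 = n55056 := d11_1 D56349 (iv F252642) (iv F252647)
theorem F253057 : act 2 n56349 = n55091 := d18_1 D56349 F253054 (iv D56348)
theorem F253058 : act 3 n56349 = n55001 := d24_1 D56349 (iv D55001) (iv D53383) (iv F239391) D55000
theorem F253059 : act 6 n56349 = n55007 := d31_2 (iv F246811) D56349 (iv D55007)
theorem F253060 : act 7 n56349 = n55098 := d32_2 F252941 D56349 (iv F252939)
theorem F253061 : act 8 n56349 = n56349 := d33_2 F246812 D56349 (iv D56349)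
theorem F253062 : act 9 n56349 = n55105 := d34_2 (iv F246813) D56349 F247274
def n56350 : Q := act 5 n55001
theorem D56350 : act 5 n55001 = n56350 := rfl
theorem F253063 : act 0 n56350 = n55100 := d4_1 D56350 (iv D55100) (iv F246814)
theorem F253064 : act 2 n56350 = n55092 := d19_1 D56350 F247231 (iv F246815)
theorem F253065 : act 7 n56350 = n55103 := d36_2 (iv F246817) D56350 F247271
theorem F253066 : act 8 n56350 = n55015 := d37_2 (iv F246818) D56350 (iv D55015)
def n56351 : Q := act 2 n55002
theorem D56351 : act 2 n55002 = n56351 := rfl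
theorem F253067 : act 0 n56351 = n55103 := d1_1 D56351 (iv D55103) (iv F246819)
theorem F253068 : act 1 n56351 = n55685 := d9_1 D56351 F249793 (iv F249917) (iv F252708) F252707
theorem F253069 : act 5 n56351 = n55003 := d19_2 (iv F246820) D56351 (iv D55003)
theorem F253070 : act 7 n56351 = n55100 := d21_2 F252704 D56351 (iv F252702)
theorem F253071 : act 8 n56351 = n55009 := d22_2 (iv F246821) D56351 (iv D55009)
def n56352 : Q := act 4 n55002
theorem D56352 : act 4 n55002 = n56352 := rfl
theorem F253072 : act 0 n56352 = n55104 := d3_1 D56352 (iv D55104) (iv F246819)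
theorem F253073 : act 8 n56352 = n55010 := d33_2 (iv F246821) D56352 (iv D55010)
def n56353 : Q := act 4 n55009
theorem D56353 : act 4 n55009 = n56353 := rfl
theorem F253074 : act 0 n56353 = n55112 := d3_1 D56353 (iv D55112) (iv F246864)
theorem F253075 : act 1 n56353 = n55690 := d11_1 D56353 F249806 (iv F246865)
theorem F253076 : act 2 n56353 = n55010 := d18_1 D56353 (iv D55010) D55009
theorem F253077 : act 5 n56353 = n55116 := d30_2 (iv F246867) D56353 (iv D55116) F239915 (iv F239445)
theorem F253078 : act 7 n56353 = n55127 := d32_2 (iv F246868) D56353 F247381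
theorem F253079 : act 9 n56353 = n56353 := d34_2 F246869 D56353 (iv D56353)
def n56354 : Q := act 2 n55011
theorem D56354 : act 2 n55011 = n56354 := rfl
theorem F253080 : act 0 n56354 = n55111 := d1_1 D56354 (iv F250712) F250711
theorem F253081 : act 1 n56354 = n55666 := d9_1 D56354 F249741 (iv F246213) F246214 (iv F246873)
theorem F253082 : act 3 n56354 = n56354 := d17_2 D55011 D56354 (iv D56354) (iv D55011) F239472
theorem F253083 : act 5 n56354 = n55013 := d19_2 (iv F246874) D56354 (iv D55013)
theorem F253084 : act 6 n56354 = n55015 := d20_2 (iv F246875) D56354 F246896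
theorem F253085 : act 7 n56354 = n55691 := d21_2 (iv F246876) D56354 F249808
theorem F253086 : act 9 n56354 = n56354 := d23_2 F246877 D56354 (iv D56354)
def n56355 : Q := act 4 n55011
theorem D56355 : act 4 n55011 = n56355 := rfl
theorem F253087 : act 1 n56355 = n55012 := d11_1 D56355 (iv D55012) (iv F246873)
theorem F253088 : act 3 n56355 = n55423 := d24_1 D56355 (iv D55423) (iv D53832) (iv F239473) D55011
theorem F253089 : act 6 n56355 = n55108 := d31_2 (iv F246875) D56355 (iv D55108)
theorem F253090 : act 7 n56355 = n55748 := d32_2 (iv F246876) D56355 F249942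
theorem F253091 : act 9 n56355 = n56355 := d34_2 F246877 D56355 (iv D56355)
def n56356 : Q := act 5 n55012
theorem D56356 : act 5 n55012 = n56356 := rfl
theorem F253092 : act 0 n56356 = n55127 := d4_1 D56356 (iv D55127) (iv F246878)
theorem F253093 : act 2 n56356 = n55108 := d19_1 D56356 (iv F252526) F252524
theorem F253094 : act 4 n56356 = n55015 := d30_1 D56356 (iv D55015) (iv D53403) (iv F239479) D55012
theorem F253095 : act 7 n56356 = n55112 := d36_2 F252735 D56356 (iv F252733)
theorem F253096 : act 9 n56356 = n56356 := d38_2 F246880 D56356 (iv D56356)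
def n56357 : Q := act 5 n55014
theorem D56357 : act 5 n55014 = n56357 := rfl
theorem F253097 : act 0 n56357 = n55691 := d4_1 D56357 F249810 (iv F246888)
theorem F253098 : act 1 n56357 = n55015 := d12_1 D56357 (iv D55015) (iv F246889)
theorem F253099 : act 2 n56357 = n55664 := d19_1 D56357 F249734 (iv F246890)
theorem F253100 : act 3 n56357 = n56357 := d25_1 D56357 (iv D56357) F246891
theorem F253101 : act 6 n56357 = n55666 := d35_2 (iv F246892) D56357 (iv D55666) F242695 (iv F239509)
theorem F253102 : act 7 n56357 = n55111 := d36_2 (iv F246893) D56357 F247305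
theorem F253103 : act 9 n56357 = n56357 := d38_2 F246894 D56357 (iv D56357)
def n56358 : Q := act 3 n55016
theorem D56358 : act 3 n55016 = n56358 := rfl
theorem F253104 : act 0 n56358 = n55337 := d2_1 D56358 F248405 (iv F246900)
theorem F253105 : act 1 n56358 = n55374 := d10_1 D56358 (iv F251591) F251586
theorem F253106 : act 2 n56358 = n55031 := d17_1 D56358 (iv D55031) F239563 (iv F239518) (iv F246901)
theorem F253107 : act 4 n56358 = n56358 := d24_2 D55016 D56358 (iv D56358) (iv D55016) F239512
theorem F253108 : act 6 n56358 = n55220 := d26_2 (iv F246902) D56358 F247843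
theorem F253109 : act 7 n56358 = n55023 := d27_2 (iv F246903) D56358 (iv D55023)
theorem F253110 : act 8 n56358 = n55366 := d28_2 (iv F246904) D56358 F248529 F241165 (iv F240778)
theorem F253111 : act 5 n55227 = n56358 := d46_1 (iv F247884) F253107 (iv D56358) F246901 F239517 (iv F236721) (iv F244177) (iv F244178) F242820 F242819 F234854 (iv F232255) F232254 (iv F232513) D53706 F240862 F232567 F226900 (iv F229423) (iv D51230) F219855 F219853 F209976 F207233 F135814 (iv D32185) F94762 F66434 F46778 (iv F45924) (iv F65383) (iv D14961) F45884 (iv F204305) D20589 (iv F127140) (iv F182465) D47739 D49961 F223830 (iv F224674) F224679 F224676 F224675 (iv F226486) F226485 (iv F225054) (iv F231651) F231655 F225945 D50529 F225978 F225977 (iv D48414) F190273 (iv F190505) (iv F216466) D50604 D52592 (iv F242247) (iv F248205) F248204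
def n56359 : Q := act 5 n55016
theorem D56359 : act 5 n55016 = n56359 := rfl
theorem F253112 : act 0 n56359 = n55351 := d4_1 D56359 F248477 (iv F246900)
theorem F253113 : act 1 n56359 = n55829 := d12_1 D56359 F251592 F251586
theorem F253114 : act 2 n56359 = n55018 := d19_1 D56359 (iv D55018) (iv F246901)
theorem F253115 : act 3 n56359 = n55227 := d25_1 D56359 F253111 (iv D56358)
theorem F253116 : act 4 n56359 = n56359 := d30_1 D56359 (iv D56359) (iv D55016) F239513 D55016
theorem F253117 : act 6 n56359 = n55225 := d35_2 (iv F246902) D56359 (iv D55225) (iv F245419) F245418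
theorem F253118 : act 7 n56359 = n55024 := d36_2 (iv F246903) D56359 (iv D55024)
theorem F253119 : act 8 n56359 = n55267 := d37_2 (iv F246904) D56359 (iv D55267)
def n56360 : Q := act 9 n55016
theorem D56360 : act 9 n55016 = n56360 := rfl
theorem F253120 : act 0 n56360 = n55605 := d8_1 D56360 (iv D55605) (iv F246900)
theorem F253121 : act 2 n56360 = n55019 := d23_1 D56360 (iv D55019) (iv F246901)
theorem F253122 : act 4 n56360 = n55017 := d34_1 D56360 (iv D55017) D55016
theorem F253123 : act 6 n56360 = n55616 := d41_1 D56360 (iv D55616) (iv F246902)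
theorem F253124 : act 7 n56360 = n55025 := d43_1 D56360 (iv D55025) (iv F246903)
def n56361 : Q := act 8 n55017
theorem D56361 : act 8 n55017 = n56361 := rfl
theorem F253125 : act 0 n56361 = n55647 := d7_1 D56361 (iv D55647) (iv F246905)
theorem F253126 : act 2 n56361 = n55020 := d22_1 D56361 (iv D55020) (iv F246906)
theorem F253127 : act 5 n56361 = n56361 := d37_1 D56361 (iv D56361) F246908
theorem F253128 : act 6 n56361 = n55636 := d40_1 D56361 (iv D55636) (iv F246909)
theorem F253129 : act 7 n56361 = n55026 := d42_1 D56361 (iv D55026) (iv F246910)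
theorem F253130 : act 9 n56361 = n55269 := d44_2 D55017 D56361 (iv D55269) (iv D53685) (iv F239516)
def n56362 : Q := act 9 n55018
theorem D56362 : act 9 n55018 = n56362 := rfl
theorem F253131 : act 1 n56362 = n55692 := d16_1 D56362 (iv D55692) (iv F246911)
theorem F253132 : act 3 n56362 = n55034 := d29_1 D56362 (iv D55034) (iv F246912)
theorem F253133 : act 4 n56362 = n56362 := d34_1 D56362 (iv D56362) F246913
theorem F253134 : act 5 n56362 = n55019 := d38_1 D56362 (iv D55019) D55018
theorem F253135 : act 7 n56362 = n55027 := d43_1 D56362 (iv D55027) (iv F246914)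
def n56363 : Q := act 8 n55019
theorem D56363 : act 8 n55019 = n56363 := rfl
theorem F253136 : act 1 n56363 = n55862 := d15_1 D56363 (iv D55862) (iv F246916)
theorem F253137 : act 4 n56363 = n55020 := d33_1 D56363 (iv D55020) (iv F246918)
theorem F253138 : act 6 n56363 = n55622 := d40_1 D56363 (iv D55622) (iv F246919)
theorem F253139 : act 7 n56363 = n55028 := d42_1 D56363 (iv D55028) (iv F246920)
theorem F253140 : act 9 n56363 = n55272 := d44_2 D55019 D56363 (iv D55272) (iv D53687) (iv F239521)
def n56364 : Q := act 9 n55021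
theorem D56364 : act 9 n55021 = n56364 := rfl
theorem F253141 : act 1 n56364 = n55025 := d16_1 D56364 (iv D55025) (iv F246926)
theorem F253142 : act 2 n56364 = n55519 := d23_1 D56364 (iv D55519) (iv F246927)
theorem F253143 : act 4 n56364 = n55022 := d34_1 D56364 (iv D55022) D55021
theorem F253144 : act 6 n56364 = n55590 := d41_1 D56364 (iv D55590) (iv F246928)
def n56365 : Q := act 8 n55022
theorem D56365 : act 8 n55022 = n56365 := rfl
theorem F253145 : act 1 n56365 = n55026 := d15_1 D56365 (iv D55026) (iv F246930)
theorem F253146 : act 2 n56365 = n55542 := d22_1 D56365 (iv D55542) (iv F246931)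
theorem F253147 : act 5 n56365 = n56365 := d37_1 D56365 (iv D56365) F246933
theorem F253148 : act 6 n56365 = n55628 := d40_1 D56365 (iv D55628) (iv F246934)
theorem F253149 : act 9 n56365 = n55278 := d44_2 D55022 D56365 (iv D55278) (iv D53691) (iv F239531)
def n56366 : Q := act 8 n55023
theorem D56366 : act 8 n55023 = n56366 := rfl
theorem F253150 : act 0 n56366 = n55562 := d7_1 D56366 (iv F252839) F252833
theorem F253151 : act 1 n56366 = n55373 := d15_1 D56366 (iv F250776) F250770
theorem F253152 : act 2 n56366 = n55039 := d22_1 D56366 (iv D55039) (iv F246935)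
theorem F253153 : act 3 n56366 = n55280 := d28_1 D56366 (iv D55280) (iv D53692) (iv F239534) D55023
theorem F253154 : act 4 n56366 = n56366 := d33_1 D56366 (iv D56366) F246936
theorem F253155 : act 5 n56366 = n55504 := d37_1 D56366 (iv F250751) (iv F250753)
theorem F253156 : act 6 n56366 = n55593 := d40_1 D56366 (iv D55593) (iv F246937)
theorem F253157 : act 7 n56366 = n55366 := d42_1 D56366 (iv F253110) F253109
def n56367 : Q := act 9 n55023
theorem D56367 : act 9 n55023 = n56367 := rfl
theorem F253158 : act 2 n56367 = n55040 := d23_1 D56367 (iv D55040) (iv F246935)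
theorem F253159 : act 3 n56367 = n55025 := d29_1 D56367 (iv D55025) D55023
theorem F253160 : act 4 n56367 = n56367 := d34_1 D56367 (iv D56367) F246936
theorem F253161 : act 6 n56367 = n55594 := d41_1 D56367 (iv D55594) (iv F246937)
def n56368 : Q := act 9 n55024
theorem D56368 : act 9 n55024 = n56368 := rfl
theorem F253162 : act 2 n56368 = n55027 := d23_1 D56368 (iv D55027) (iv F246938)
theorem F253163 : act 4 n56368 = n56368 := d34_1 D56368 (iv D56368) F246939
theorem F253164 : act 5 n56368 = n55025 := d38_1 D56368 (iv D55025) D55024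
theorem F253165 : act 6 n56368 = n55585 := d41_1 D56368 (iv D55585) (iv F246940)
def n56369 : Q := act 8 n55025
theorem D56369 : act 8 n55025 = n56369 := rfl
theorem F253166 : act 2 n56369 = n55028 := d22_1 D56369 (iv D55028) (iv F246942)
theorem F253167 : act 4 n56369 = n55026 := d33_1 D56369 (iv D55026) (iv F246943)
theorem F253168 : act 6 n56369 = n55597 := d40_1 D56369 (iv D55597) (iv F246944)
theorem F253169 : act 9 n56369 = n55284 := d44_2 D55025 D56369 (iv D55284) (iv D53694) (iv F239534)
def n56370 : Q := act 3 n55026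
theorem D56370 : act 3 n55026 = n56370 := rfl
theorem F253170 : act 5 n56370 = n56370 := d25_2 F246946 D56370 (iv D56370)
theorem F253171 : act 6 n56370 = n55630 := d26_2 (iv F246947) D56370 (iv D55630)
theorem F253172 : act 8 n56370 = n56370 := d28_2 D55026 D56370 (iv D56370) (iv D55026) F239536
theorem F253173 : act 9 n56370 = n55285 := d29_2 (iv F246948) D56370 (iv D55285)
def n56371 : Q := act 8 n55027
theorem D56371 : act 8 n55027 = n56371 := rfl
theorem F253174 : act 1 n56371 = n55852 := d15_1 D56371 (iv D55852) (iv F246949)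
theorem F253175 : act 4 n56371 = n56371 := d33_1 D56371 (iv D56371) F246951
theorem F253176 : act 5 n56371 = n55028 := d37_1 D56371 (iv D55028) (iv F246952)
theorem F253177 : act 6 n56371 = n55588 := d40_1 D56371 (iv D55588) (iv F246953)
theorem F253178 : act 9 n56371 = n55287 := d44_2 D55027 D56371 (iv D55287) (iv D53697) (iv F239543)
def n56372 : Q := act 3 n55028
theorem D56372 : act 3 n55028 = n56372 := rfl
theorem F253179 : act 1 n56372 = n55863 := d10_1 D56372 (iv D55863) (iv F246954)
theorem F253180 : act 6 n56372 = n55600 := d26_2 (iv F246956) D56372 (iv D55600)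
theorem F253181 : act 8 n56372 = n55046 := d28_2 D55028 D56372 (iv D55046) (iv D53430) (iv F239545)
theorem F253182 : act 9 n56372 = n55288 := d29_2 (iv F246957) D56372 (iv D55288)
def n56373 : Q := act 8 n55029
theorem D56373 : act 8 n55029 = n56373 := rfl
theorem F253183 : act 1 n56373 = n55734 := d15_1 D56373 (iv D55734) (iv F246958)
theorem F253184 : act 4 n56373 = n55030 := d33_1 D56373 (iv D55030) (iv F246960)
theorem F253185 : act 6 n56373 = n55035 := d40_1 D56373 (iv D55035) (iv F246961)
theorem F253186 : act 7 n56373 = n55471 := d42_1 D56373 (iv D55471) (iv F246962)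
theorem F253187 : act 9 n56373 = n55060 := d44_2 D55029 D56373 (iv D55060) (iv D53448) (iv F239556)
def n56374 : Q := act 8 n55031
theorem D56374 : act 8 n55031 = n56374 := rfl
theorem F253188 : act 0 n56374 = n55291 := d7_1 D56374 F248185 (iv F246969)
theorem F253189 : act 1 n56374 = n55667 := d15_1 D56374 (iv D55667) (iv F246970)
theorem F253190 : act 2 n56374 = n55366 := d22_1 D56374 (iv F253110) F253106
theorem F253191 : act 3 n56374 = n55062 := d28_1 D56374 (iv D55062) (iv D53450) (iv F239565) D55031
theorem F253192 : act 4 n56374 = n56374 := d33_1 D56374 (iv D56374) F246971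
theorem F253193 : act 5 n56374 = n55210 := d37_1 D56374 F247794 (iv F246972)
theorem F253194 : act 6 n56374 = n55207 := d40_1 D56374 F247775 (iv F246973)
theorem F253195 : act 7 n56374 = n55039 := d42_1 D56374 (iv D55039) (iv F246974)
def n56375 : Q := act 9 n55031
theorem D56375 : act 9 n55031 = n56375 := rfl
theorem F253196 : act 0 n56375 = n55341 := d8_1 D56375 (iv D55341) (iv F246969)
theorem F253197 : act 1 n56375 = n55668 := d16_1 D56375 (iv D55668) (iv F246970)
theorem F253198 : act 3 n56375 = n55032 := d29_1 D56375 (iv D55032) D55031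
theorem F253199 : act 4 n56375 = n56375 := d34_1 D56375 (iv D56375) F246971
theorem F253200 : act 5 n56375 = n55230 := d38_1 D56375 (iv D55230) (iv F246972)
theorem F253201 : act 6 n56375 = n55223 := d41_1 D56375 (iv D55223) (iv F246973)
theorem F253202 : act 7 n56375 = n55040 := d43_1 D56375 (iv D55040) (iv F246974)
def n56376 : Q := act 8 n55032
theorem D56376 : act 8 n55032 = n56376 := rfl
theorem F253203 : act 1 n56376 = n55669 := d15_1 D56376 (iv D55669) (iv F246975)
theorem F253204 : act 2 n56376 = n55035 := d22_1 D56376 (iv D55035) (iv F246976)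
theorem F253205 : act 4 n56376 = n55033 := d33_1 D56376 (iv D55033) (iv F246977)
theorem F253206 : act 7 n56376 = n55042 := d42_1 D56376 (iv D55042) (iv F246978)
theorem F253207 : act 9 n56376 = n55065 := d44_2 D55032 D56376 (iv D55065) (iv D53452) (iv F239565)
def n56377 : Q := act 3 n55033
theorem D56377 : act 3 n55033 = n56377 := rfl
theorem F253208 : act 1 n56377 = n55670 := d10_1 D56377 (iv D55670) (iv F246979)
theorem F253209 : act 5 n56377 = n55047 := d25_2 (iv F246981) D56377 (iv D55047)
theorem F253210 : act 7 n56377 = n55043 := d27_2 (iv F246982) D56377 (iv D55043)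
theorem F253211 : act 8 n56377 = n56377 := d28_2 D55033 D56377 (iv D56377) (iv D55033) F239568
theorem F253212 : act 9 n56377 = n55066 := d29_2 (iv F246983) D56377 (iv D55066)
def n56378 : Q := act 8 n55034
theorem D56378 : act 8 n55034 = n56378 := rfl
theorem F253213 : act 1 n56378 = n55693 := d15_1 D56378 (iv D55693) (iv F246984)
theorem F253214 : act 4 n56378 = n55048 := d33_1 D56378 (iv D55048) (iv F246985)
theorem F253215 : act 5 n56378 = n55035 := d37_1 D56378 (iv D55035) (iv F246986)
theorem F253216 : act 7 n56378 = n55045 := d42_1 D56378 (iv D55045) (iv F246987)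
theorem F253217 : act 9 n56378 = n55067 := d44_2 D55034 D56378 (iv D55067) (iv D53454) (iv F239574)
def n56379 : Q := act 3 n55035
theorem D56379 : act 3 n55035 = n56379 := rfl
theorem F253218 : act 7 n56379 = n55046 := d27_2 (iv F246989) D56379 (iv D55046)
theorem F253219 : act 9 n56379 = n55068 := d29_2 (iv F246990) D56379 (iv D55068)
def n56380 : Q := act 9 n55036
theorem D56380 : act 9 n55036 = n56380 := rfl
theorem F253220 : act 0 n56380 = n55675 := d8_1 D56380 (iv D55675) (iv F246991)
theorem F253221 : act 1 n56380 = n55040 := d16_1 D56380 (iv D55040) (iv F246992)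
theorem F253222 : act 2 n56380 = n55148 := d23_1 D56380 (iv D55148) (iv F246993)
theorem F253223 : act 3 n56380 = n55037 := d29_1 D56380 (iv D55037) D55036
theorem F253224 : act 4 n56380 = n56380 := d34_1 D56380 (iv D56380) F246994
theorem F253225 : act 5 n56380 = n55146 := d38_1 D56380 (iv D55146) (iv F246995)
theorem F253226 : act 6 n56380 = n55162 := d41_1 D56380 (iv D55162) (iv F246996)
theorem F253227 : act 7 n56380 = n55668 := d43_1 D56380 (iv D55668) (iv F246997)
def n56381 : Q := act 8 n55037
theorem D56381 : act 8 n55037 = n56381 := rfl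
theorem F253228 : act 0 n56381 = n55678 := d7_1 D56381 (iv D55678) (iv F246998)
theorem F253229 : act 1 n56381 = n55042 := d15_1 D56381 (iv D55042) (iv F246999)
theorem F253230 : act 2 n56381 = n55457 := d22_1 D56381 (iv D55457) (iv F247000)
theorem F253231 : act 4 n56381 = n55038 := d33_1 D56381 (iv D55038) (iv F247001)
theorem F253232 : act 5 n56381 = n55660 := d37_1 D56381 (iv D55660) (iv F247002)
theorem F253233 : act 6 n56381 = n55703 := d40_1 D56381 (iv D55703) (iv F247003)
theorem F253234 : act 7 n56381 = n55669 := d42_1 D56381 (iv D55669) (iv F247004)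
theorem F253235 : act 9 n56381 = n55076 := d44_2 D55037 D56381 (iv D55076) (iv D53460) (iv F239586)
def n56382 : Q := act 3 n55038
theorem D56382 : act 3 n55038 = n56382 := rfl
theorem F253236 : act 0 n56382 = n55683 := d2_1 D56382 (iv D55683) (iv F247005)
theorem F253237 : act 1 n56382 = n55043 := d10_1 D56382 (iv D55043) (iv F247006)
theorem F253238 : act 2 n56382 = n55477 := d17_1 D56382 (iv D55477) F241720 (iv F241597) (iv F247007)
theorem F253239 : act 5 n56382 = n55050 := d25_2 (iv F247008) D56382 (iv D55050)
theorem F253240 : act 6 n56382 = n55704 := d26_2 (iv F247009) D56382 (iv D55704)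
theorem F253241 : act 7 n56382 = n55670 := d27_2 (iv F247010) D56382 (iv D55670)
theorem F253242 : act 8 n56382 = n56382 := d28_2 D55038 D56382 (iv D56382) (iv D55038) F239590
theorem F253243 : act 9 n56382 = n55077 := d29_2 (iv F247011) D56382 (iv D55077)
def n56383 : Q := act 9 n55039
theorem D56383 : act 9 n55039 = n56383 := rfl
theorem F253244 : act 3 n56383 = n55080 := d29_1 D56383 (iv D55080) (iv F247012)
theorem F253245 : act 4 n56383 = n56383 := d34_1 D56383 (iv D56383) F247013
theorem F253246 : act 6 n56383 = n55705 := d41_1 D56383 (iv D55705) (iv F247014)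
def n56384 : Q := act 8 n55040
theorem D56384 : act 8 n55040 = n56384 := rfl
theorem F253247 : act 4 n56384 = n56384 := d33_1 D56384 (iv D56384) F247016
theorem F253248 : act 6 n56384 = n55706 := d40_1 D56384 (iv D55706) (iv F247017)
def n56385 : Q := act 8 n55041
theorem D56385 : act 8 n55041 = n56385 := rfl
theorem F253249 : act 1 n56385 = n55660 := d15_1 D56385 (iv D55660) (iv F247018)
theorem F253250 : act 2 n56385 = n55045 := d22_1 D56385 (iv D55045) (iv F247019)
theorem F253251 : act 4 n56385 = n55051 := d33_1 D56385 (iv D55051) (iv F247020)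
theorem F253252 : act 5 n56385 = n55042 := d37_1 D56385 (iv D55042) (iv F247021)
theorem F253253 : act 9 n56385 = n55083 := d44_2 D55041 D56385 (iv D55083) (iv D53466) (iv F239599)
def n56386 : Q := act 3 n55042
theorem D56386 : act 3 n55042 = n56386 := rfl
theorem F253254 : act 6 n56386 = n55707 := d26_2 (iv F247024) D56386 (iv D55707)
theorem F253255 : act 9 n56386 = n55084 := d29_2 (iv F247025) D56386 (iv D55084)
def n56387 : Q := act 4 n55043
theorem D56387 : act 4 n55043 = n56387 := rfl
theorem F253256 : act 6 n56387 = n55708 := d31_2 (iv F247027) D56387 (iv D55708)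
theorem F253257 : act 8 n56387 = n56387 := d33_2 F247028 D56387 (iv D56387)
theorem F253258 : act 9 n56387 = n55085 := d34_2 (iv F247029) D56387 (iv D55085)
def n56388 : Q := act 8 n55044
theorem D56388 : act 8 n55044 = n56388 := rfl
theorem F253259 : act 1 n56388 = n55714 := d15_1 D56388 (iv D55714) (iv F247030)
theorem F253260 : act 4 n56388 = n55054 := d33_1 D56388 (iv D55054) (iv F247032)
theorem F253261 : act 5 n56388 = n55461 := d37_1 D56388 (iv D55461) (iv F247033)
theorem F253262 : act 6 n56388 = n55045 := d40_1 D56388 (iv D55045) (iv F247034)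
theorem F253263 : act 9 n56388 = n55087 := d44_2 D55044 D56388 (iv D55087) (iv D53470) (iv F239611)
def n56389 : Q := act 3 n55045
theorem D56389 : act 3 n55045 = n56389 := rfl
theorem F253264 : act 5 n56389 = n55046 := d25_2 (iv F247036) D56389 (iv D55046)
theorem F253265 : act 9 n56389 = n55088 := d29_2 (iv F247037) D56389 (iv D55088)
def n56390 : Q := act 2 n55046
theorem D56390 : act 2 n55046 = n56390 := rfl
theorem F253266 : act 6 n56390 = n55709 := d20_2 (iv F247038) D56390 (iv D55709)
theorem F253267 : act 9 n56390 = n55089 := d23_2 (iv F247039) D56390 (iv D55089)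
def n56391 : Q := act 3 n55048
theorem D56391 : act 3 n55048 = n56391 := rfl
theorem F253268 : act 1 n56391 = n55694 := d10_1 D56391 (iv D55694) (iv F247045)
theorem F253269 : act 5 n56391 = n55049 := d25_2 (iv F247046) D56391 (iv D55049)
theorem F253270 : act 7 n56391 = n55055 := d27_2 (iv F247047) D56391 (iv D55055)
theorem F253271 : act 8 n56391 = n56391 := d28_2 D55048 D56391 (iv D56391) (iv D55048) F239623
theorem F253272 : act 9 n56391 = n55092 := d29_2 (iv F247048) D56391 (iv D55092)
def n56392 : Q := act 4 n55050
theorem D56392 : act 4 n55050 = n56392 := rfl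
theorem F253273 : act 0 n56392 = n55684 := d3_1 D56392 (iv D55684) (iv F247054)
theorem F253274 : act 1 n56392 = n55053 := d11_1 D56392 (iv D55053) (iv F247055)
theorem F253275 : act 2 n56392 = n55058 := d18_1 D56392 F247089 (iv F247056)
theorem F253276 : act 3 n56392 = n55663 := d24_1 D56392 (iv D55663) (iv D54142) (iv F239634) D55050
theorem F253277 : act 6 n56392 = n55057 := d31_2 (iv F247057) D56392 (iv D55057)
theorem F253278 : act 7 n56392 = n55672 := d32_2 (iv F247058) D56392 (iv D55672)
theorem F253279 : act 8 n56392 = n56392 := d33_2 F247059 D56392 (iv D56392)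
theorem F253280 : act 9 n56392 = n55095 := d34_2 (iv F247060) D56392 (iv D55095)
def n56393 : Q := act 3 n55051
theorem D56393 : act 3 n55051 = n56393 := rfl
theorem F253281 : act 0 n56393 = n55739 := d2_1 D56393 (iv F252947) F252944
theorem F253282 : act 1 n56393 = n55661 := d10_1 D56393 (iv D55661) (iv F247061)
theorem F253283 : act 5 n56393 = n55052 := d25_2 (iv F247063) D56393 (iv D55052)
theorem F253284 : act 6 n56393 = n55701 := d26_2 F250514 D56393 (iv F250512)
theorem F253285 : act 8 n56393 = n55664 := d28_2 D55051 D56393 (iv D55664) (iv D54144) (iv F239640)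
theorem F253286 : act 9 n56393 = n55097 := d29_2 (iv F247064) D56393 (iv D55097)
def n56394 : Q := act 5 n55053
theorem D56394 : act 5 n55053 = n56394 := rfl
theorem F253287 : act 8 n56394 = n56394 := d37_2 F247071 D56394 (iv D56394)
theorem F253288 : act 9 n56394 = n55100 := d38_2 (iv F247072) D56394 (iv D55100)
def n56395 : Q := act 3 n55054
theorem D56395 : act 3 n55054 = n56395 := rfl
theorem F253289 : act 5 n56395 = n55058 := d25_2 (iv F247073) D56395 (iv D55058)
theorem F253290 : act 6 n56395 = n55055 := d26_2 (iv F247074) D56395 (iv D55055)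
theorem F253291 : act 7 n56395 = n55711 := d27_2 F250546 D56395 F250548
theorem F253292 : act 8 n56395 = n56395 := d28_2 D55054 D56395 (iv D56395) (iv D55054) F239650
theorem F253293 : act 9 n56395 = n55102 := d29_2 (iv F247075) D56395 (iv D55102)
def n56396 : Q := act 2 n55055
theorem D56396 : act 2 n55055 = n56396 := rfl
theorem F253294 : act 5 n56396 = n55056 := d19_2 (iv F247076) D56396 (iv D55056)
theorem F253295 : act 8 n56396 = n56396 := d22_2 F247077 D56396 (iv D56396)
theorem F253296 : act 9 n56396 = n55103 := d23_2 (iv F247078) D56396 (iv D55103)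
def n56397 : Q := act 4 n55055
theorem D56397 : act 4 n55055 = n56397 := rfl
theorem F253297 : act 8 n56397 = n56397 := d33_2 F247077 D56397 (iv D56397)
theorem F253298 : act 9 n56397 = n55104 := d34_2 (iv F247078) D56397 (iv D55104)
def n56398 : Q := act 8 n55059
theorem D56398 : act 8 n55059 = n56398 := rfl
theorem F253299 : act 5 n56398 = n55060 := d37_1 D56398 (iv D55060) (iv F247095)
theorem F253300 : act 7 n56398 = n55714 := d42_1 D56398 (iv D55714) (iv F247096)
def n56399 : Q := act 3 n55060
theorem D56399 : act 3 n55060 = n56399 := rfl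
theorem F253301 : act 6 n56399 = n55068 := d26_2 (iv F247098) D56399 (iv D55068)
theorem F253302 : act 7 n56399 = n55715 := d27_2 (iv F247099) D56399 (iv D55715)
theorem F253303 : act 8 n56399 = n55343 := d28_2 D55060 D56399 (iv D55343) (iv D53755) (iv F239682)
def n56400 : Q := act 8 n55061
theorem D56400 : act 8 n55061 = n56400 := rfl
theorem F253304 : act 0 n56400 = n55270 := d7_1 D56400 (iv F251854) F251847
theorem F253305 : act 1 n56400 = n55674 := d15_1 D56400 (iv D55674) (iv F247100)
theorem F253306 : act 2 n56400 = n55352 := d22_1 D56400 (iv D55352) (iv F247101)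
theorem F253307 : act 3 n56400 = n55210 := d28_1 D56400 F247794 (iv F246746) F246750 (iv F247102)
theorem F253308 : act 4 n56400 = n56400 := d33_1 D56400 (iv D56400) F247103
theorem F253309 : act 5 n56400 = n55062 := d37_1 D56400 (iv D55062) D55061
theorem F253310 : act 6 n56400 = n55199 := d40_1 D56400 (iv F252783) F252781
theorem F253311 : act 7 n56400 = n55078 := d42_1 D56400 (iv D55078) (iv F247104)
def n56401 : Q := act 9 n55061
theorem D56401 : act 9 n55061 = n56401 := rfl
theorem F253312 : act 1 n56401 = n55675 := d16_1 D56401 (iv D55675) (iv F247100)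
theorem F253313 : act 2 n56401 = n55353 := d23_1 D56401 (iv D55353) (iv F247101)
theorem F253314 : act 3 n56401 = n55064 := d29_1 D56401 (iv D55064) (iv F247102)
theorem F253315 : act 4 n56401 = n56401 := d34_1 D56401 (iv D56401) F247103
theorem F253316 : act 5 n56401 = n55063 := d38_1 D56401 (iv D55063) D55061
theorem F253317 : act 7 n56401 = n55079 := d43_1 D56401 (iv D55079) (iv F247104)
def n56402 : Q := act 9 n55062
theorem D56402 : act 9 n55062 = n56402 := rfl
theorem F253318 : act 0 n56402 = n55824 := d8_1 D56402 (iv D55824) (iv F247105)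
theorem F253319 : act 1 n56402 = n55676 := d16_1 D56402 (iv D55676) (iv F247106)
theorem F253320 : act 2 n56402 = n55354 := d23_1 D56402 (iv D55354) (iv F247107)
theorem F253321 : act 4 n56402 = n55113 := d34_1 D56402 (iv D55113) (iv F247108)
theorem F253322 : act 6 n56402 = n55763 := d41_1 D56402 (iv D55763) (iv F247109)
theorem F253323 : act 7 n56402 = n55080 := d43_1 D56402 (iv D55080) (iv F247110)
def n56403 : Q := act 8 n55063
theorem D56403 : act 8 n55063 = n56403 := rfl
theorem F253324 : act 1 n56403 = n55677 := d15_1 D56403 (iv D55677) (iv F247111)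
theorem F253325 : act 2 n56403 = n55355 := d22_1 D56403 (iv D55355) (iv F247112)
theorem F253326 : act 4 n56403 = n55114 := d33_1 D56403 (iv D55114) (iv F247114)
theorem F253327 : act 7 n56403 = n55081 := d42_1 D56403 (iv D55081) (iv F247115)
def n56404 : Q := act 8 n55064
theorem D56404 : act 8 n55064 = n56404 := rfl
theorem F253328 : act 1 n56404 = n55678 := d15_1 D56404 (iv D55678) (iv F247116)
theorem F253329 : act 2 n56404 = n55067 := d22_1 D56404 (iv D55067) (iv F247117)
theorem F253330 : act 4 n56404 = n55090 := d33_1 D56404 (iv D55090) (iv F247118)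
theorem F253331 : act 5 n56404 = n55065 := d37_1 D56404 (iv D55065) (iv F247119)
theorem F253332 : act 7 n56404 = n55083 := d42_1 D56404 (iv D55083) (iv F247120)
def n56405 : Q := act 3 n55065
theorem D56405 : act 3 n55065 = n56405 := rfl
theorem F253333 : act 1 n56405 = n55679 := d10_1 D56405 (iv D55679) (iv F247121)
theorem F253334 : act 7 n56405 = n55084 := d27_2 (iv F247124) D56405 (iv D55084)
def n56406 : Q := act 4 n55066
theorem D56406 : act 4 n55066 = n56406 := rfl
theorem F253335 : act 1 n56406 = n55680 := d11_1 D56406 (iv D55680) (iv F247125)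
theorem F253336 : act 7 n56406 = n55085 := d32_2 (iv F247127) D56406 (iv D55085)
theorem F253337 : act 8 n56406 = n55116 := d33_2 (iv F247128) D56406 (iv D55116)
def n56407 : Q := act 3 n55067
theorem D56407 : act 3 n55067 = n56407 := rfl
theorem F253338 : act 1 n56407 = n55698 := d10_1 D56407 (iv D55698) (iv F247129)
theorem F253339 : act 5 n56407 = n55068 := d25_2 (iv F247131) D56407 (iv D55068)
theorem F253340 : act 7 n56407 = n55088 := d27_2 (iv F247132) D56407 (iv D55088)
theorem F253341 : act 8 n56407 = n55363 := d28_2 D55067 D56407 (iv D55363) (iv D53771) (iv F239705)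
def n56408 : Q := act 2 n55068
theorem D56408 : act 2 n55068 = n56408 := rfl
theorem F253342 : act 7 n56408 = n55089 := d21_2 (iv F247133) D56408 (iv D55089)
theorem F253343 : act 8 n56408 = n55364 := d22_2 (iv F247134) D56408 (iv D55364)
def n56409 : Q := act 9 n55069
theorem D56409 : act 9 n55069 = n56409 := rfl
theorem F253344 : act 0 n56409 = n55074 := d8_1 D56409 (iv D55074) (iv F247135)
theorem F253345 : act 1 n56409 = n55230 := d16_1 D56409 (iv D55230) (iv F247136)
theorem F253346 : act 2 n56409 = n55144 := d23_1 D56409 (iv D55144) (iv F247137)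
theorem F253347 : act 3 n56409 = n55070 := d29_1 D56409 (iv D55070) D55069
theorem F253348 : act 4 n56409 = n55117 := d34_1 D56409 (iv D55117) (iv F247138)
theorem F253349 : act 5 n56409 = n55668 := d38_1 D56409 (iv D55668) (iv F247139)
theorem F253350 : act 6 n56409 = n55171 := d41_1 D56409 (iv D55171) (iv F247140)
theorem F253351 : act 7 n56409 = n55146 := d43_1 D56409 (iv D55146) (iv F247141)
def n56410 : Q := act 8 n55070
theorem D56410 : act 8 n55070 = n56410 := rfl
theorem F253352 : act 0 n56410 = n55076 := d7_1 D56410 (iv D55076) (iv F247142)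
theorem F253353 : act 2 n56410 = n55659 := d22_1 D56410 (iv D55659) (iv F247143)
theorem F253354 : act 4 n56410 = n55071 := d33_1 D56410 (iv D55071) (iv F247144)
theorem F253355 : act 5 n56410 = n55669 := d37_1 D56410 (iv D55669) (iv F247145)
theorem F253356 : act 6 n56410 = n55721 := d40_1 D56410 (iv D55721) (iv F247146)
theorem F253357 : act 7 n56410 = n55660 := d42_1 D56410 (iv D55660) (iv F247147)
theorem F253358 : act 9 n56410 = n55678 := d44_2 D55070 D56410 (iv D55678) (iv D54159) (iv F239716)
def n56411 : Q := act 9 n55072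
theorem D56411 : act 9 n55072 = n56411 := rfl
theorem F253359 : act 0 n56411 = n55668 := d8_1 D56411 (iv D55668) (iv F247154)
theorem F253360 : act 1 n56411 = n55079 := d16_1 D56411 (iv D55079) (iv F247155)
theorem F253361 : act 2 n56411 = n55765 := d23_1 D56411 (iv D55765) (iv F247156)
theorem F253362 : act 3 n56411 = n55075 := d29_1 D56411 (iv D55075) (iv F247157)
theorem F253363 : act 4 n56411 = n56411 := d34_1 D56411 (iv D56411) F247158
theorem F253364 : act 5 n56411 = n55074 := d38_1 D56411 (iv D55074) D55072
theorem F253365 : act 7 n56411 = n55675 := d43_1 D56411 (iv D55675) (iv F247159)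
def n56412 : Q := act 9 n55073
theorem D56412 : act 9 n55073 = n56412 := rfl
theorem F253366 : act 1 n56412 = n55080 := d16_1 D56412 (iv D55080) (iv F247160)
theorem F253367 : act 2 n56412 = n55189 := d23_1 D56412 (iv D55189) (iv F247161)
theorem F253368 : act 4 n56412 = n55119 := d34_1 D56412 (iv D55119) (iv F247162)
theorem F253369 : act 6 n56412 = n55191 := d41_1 D56412 (iv D55191) (iv F247163)
theorem F253370 : act 7 n56412 = n55676 := d43_1 D56412 (iv D55676) (iv F247164)
def n56413 : Q := act 8 n55074
theorem D56413 : act 8 n55074 = n56413 := rfl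
theorem F253371 : act 1 n56413 = n55081 := d15_1 D56413 (iv D55081) (iv F247165)
theorem F253372 : act 2 n56413 = n55766 := d22_1 D56413 (iv D55766) (iv F247166)
theorem F253373 : act 4 n56413 = n55120 := d33_1 D56413 (iv D55120) (iv F247168)
theorem F253374 : act 6 n56413 = n55723 := d40_1 D56413 (iv D55723) (iv F247169)
theorem F253375 : act 7 n56413 = n55677 := d42_1 D56413 (iv D55677) (iv F247170)
def n56414 : Q := act 8 n55075
theorem D56414 : act 8 n55075 = n56414 := rfl
theorem F253376 : act 0 n56414 = n55669 := d7_1 D56414 (iv D55669) (iv F247171)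
theorem F253377 : act 1 n56414 = n55083 := d15_1 D56414 (iv D55083) (iv F247172)
theorem F253378 : act 2 n56414 = n55658 := d22_1 D56414 (iv D55658) (iv F247173)
theorem F253379 : act 4 n56414 = n55093 := d33_1 D56414 (iv D55093) (iv F247174)
theorem F253380 : act 5 n56414 = n55076 := d37_1 D56414 (iv D55076) (iv F247175)
theorem F253381 : act 7 n56414 = n55678 := d42_1 D56414 (iv D55678) (iv F247176)
theorem F253382 : act 9 n56414 = n55660 := d44_2 D55075 D56414 (iv D55660) (iv D54139) (iv F239733)
def n56415 : Q := act 3 n55076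
theorem D56415 : act 3 n55076 = n56415 := rfl
theorem F253383 : act 1 n56415 = n55084 := d10_1 D56415 (iv D55084) (iv F247177)
theorem F253384 : act 6 n56415 = n55725 := d26_2 (iv F247180) D56415 (iv D55725)
theorem F253385 : act 7 n56415 = n55679 := d27_2 (iv F247181) D56415 (iv D55679)
def n56416 : Q := act 4 n55077
theorem D56416 : act 4 n55077 = n56416 := rfl
theorem F253386 : act 1 n56416 = n55085 := d11_1 D56416 (iv D55085) (iv F247182)
theorem F253387 : act 2 n56416 = n55719 := d18_1 D56416 (iv D55719) (iv F247183)
theorem F253388 : act 6 n56416 = n55726 := d31_2 (iv F247185) D56416 (iv D55726)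
theorem F253389 : act 7 n56416 = n55680 := d32_2 (iv F247186) D56416 (iv D55680)
theorem F253390 : act 8 n56416 = n55122 := d33_2 (iv F247187) D56416 (iv D55122)
def n56417 : Q := act 9 n55078
theorem D56417 : act 9 n55078 = n56417 := rfl
theorem F253391 : act 2 n56417 = n55376 := d23_1 D56417 (iv D55376) (iv F247188)
theorem F253392 : act 4 n56417 = n56417 := d34_1 D56417 (iv D56417) F247189
theorem F253393 : act 5 n56417 = n55080 := d38_1 D56417 (iv D55080) (iv F247190)
def n56418 : Q := act 8 n55079
theorem D56418 : act 8 n55079 = n56418 := rfl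
theorem F253394 : act 2 n56418 = n55377 := d22_1 D56418 (iv D55377) (iv F247191)
theorem F253395 : act 4 n56418 = n56418 := d33_1 D56418 (iv D56418) F247193
theorem F253396 : act 5 n56418 = n55081 := d37_1 D56418 (iv D55081) (iv F247194)
def n56419 : Q := act 8 n55080
theorem D56419 : act 8 n55080 = n56419 := rfl
theorem F253397 : act 2 n56419 = n55378 := d22_1 D56419 (iv D55378) (iv F247195)
theorem F253398 : act 4 n56419 = n55123 := d33_1 D56419 (iv D55123) (iv F247196)
theorem F253399 : act 6 n56419 = n55727 := d40_1 D56419 (iv D55727) (iv F247197)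
theorem F253400 : act 9 n56419 = n55081 := d44_2 D55080 D56419 (iv D55081) (iv D53464) D53463
def n56420 : Q := act 3 n55081
theorem D56420 : act 3 n55081 = n56420 := rfl
theorem F253401 : act 6 n56420 = n55728 := d26_2 (iv F247200) D56420 (iv D55728)
theorem F253402 : act 8 n56420 = n55084 := d28_2 D55081 D56420 (iv D55084) (iv D53467) (iv F239751)
def n56421 : Q := act 8 n55082
theorem D56421 : act 8 n55082 = n56421 := rfl
theorem F253403 : act 2 n56421 = n55087 := d22_1 D56421 (iv D55087) (iv F247201)
theorem F253404 : act 4 n56421 = n55096 := d33_1 D56421 (iv D55096) (iv F247202)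
theorem F253405 : act 5 n56421 = n55729 := d37_1 D56421 (iv D55729) (iv F247203)
theorem F253406 : act 6 n56421 = n55083 := d40_1 D56421 (iv D55083) (iv F247204)
def n56422 : Q := act 3 n55083
theorem D56422 : act 3 n55083 = n56422 := rfl
theorem F253407 : act 5 n56422 = n55084 := d25_2 (iv F247207) D56422 (iv D55084)
def n56423 : Q := act 2 n55084
theorem D56423 : act 2 n55084 = n56423 := rfl
theorem F253408 : act 3 n56423 = n55089 := d17_2 D55084 D56423 (iv D55089) (iv D53472) (iv F239760)
theorem F253409 : act 6 n56423 = n55731 := d20_2 (iv F247208) D56423 (iv D55731)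
def n56424 : Q := act 4 n55084
theorem D56424 : act 4 n55084 = n56424 := rfl
theorem F253410 : act 3 n56424 = n55085 := d24_1 D56424 (iv D55085) (iv D53468) (iv F239761) D55084
theorem F253411 : act 6 n56424 = n55732 := d31_2 (iv F247208) D56424 (iv D55732)
def n56425 : Q := act 5 n55085
theorem D56425 : act 5 n55085 = n56425 := rfl
theorem F253412 : act 4 n56425 = n55100 := d30_1 D56425 (iv D55100) (iv D53485) (iv F239763) D55085
theorem F253413 : act 8 n56425 = n55127 := d37_2 (iv F247210) D56425 (iv D55127)
def n56426 : Q := act 8 n55086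
theorem D56426 : act 8 n55086 = n56426 := rfl
theorem F253414 : act 4 n56426 = n55101 := d33_1 D56426 (iv D55101) (iv F247212)
theorem F253415 : act 5 n56426 = n55734 := d37_1 D56426 (iv D55734) (iv F247213)
theorem F253416 : act 7 n56426 = n55087 := d42_1 D56426 (iv D55087) (iv F247214)
def n56427 : Q := act 3 n55087
theorem D56427 : act 3 n55087 = n56427 := rfl
theorem F253417 : act 5 n56427 = n55735 := d25_2 (iv F247216) D56427 (iv D55735)
theorem F253418 : act 6 n56427 = n55088 := d26_2 (iv F247217) D56427 (iv D55088)
theorem F253419 : act 8 n56427 = n55387 := d28_2 D55087 D56427 (iv D55387) (iv D53792) (iv F239769)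
def n56428 : Q := act 2 n55088
theorem D56428 : act 2 n55088 = n56428 := rfl
theorem F253420 : act 5 n56428 = n55089 := d19_2 (iv F247218) D56428 (iv D55089)
theorem F253421 : act 8 n56428 = n55388 := d22_2 (iv F247219) D56428 (iv D55388)
def n56429 : Q := act 4 n55088
theorem D56429 : act 4 n55088 = n56429 := rfl
theorem F253422 : act 3 n56429 = n55104 := d24_1 D56429 (iv D55104) (iv D53488) (iv F239773) D55088
theorem F253423 : act 8 n56429 = n55389 := d33_2 (iv F247219) D56429 (iv D55389)
def n56430 : Q := act 1 n55089
theorem D56430 : act 1 n55089 = n56430 := rfl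
theorem F253424 : act 6 n56430 = n55737 := d13_2 (iv F247220) D56430 (iv D55737)
theorem F253425 : act 8 n56430 = n55390 := d15_2 (iv F247221) D56430 (iv D55390)
def n56431 : Q := act 3 n55090
theorem D56431 : act 3 n55090 = n56431 := rfl
theorem F253426 : act 1 n56431 = n55683 := d10_1 D56431 (iv D55683) (iv F247222)
theorem F253427 : act 5 n56431 = n55091 := d25_2 (iv F247224) D56431 (iv D55091)
theorem F253428 : act 7 n56431 = n55097 := d27_2 (iv F247225) D56431 (iv D55097)
theorem F253429 : act 8 n56431 = n56431 := d28_2 D55090 D56431 (iv D56431) (iv D55090) F239779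
def n56432 : Q := act 4 n55092
theorem D56432 : act 4 n55092 = n56432 := rfl
theorem F253430 : act 1 n56432 = n55699 := d11_1 D56432 (iv D55699) (iv F247230)
theorem F253431 : act 7 n56432 = n55104 := d32_2 (iv F247232) D56432 (iv D55104)
theorem F253432 : act 8 n56432 = n55108 := d33_2 (iv F247233) D56432 (iv D55108)
def n56433 : Q := act 3 n55093
theorem D56433 : act 3 n55093 = n56433 := rfl
theorem F253433 : act 0 n56433 = n55670 := d2_1 D56433 (iv D55670) (iv F247234)
theorem F253434 : act 1 n56433 = n55097 := d10_1 D56433 (iv D55097) (iv F247235)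
theorem F253435 : act 2 n56433 = n55694 := d17_1 D56433 (iv D55694) F242776 (iv F242647) (iv F247236)
theorem F253436 : act 5 n56433 = n55094 := d25_2 (iv F247237) D56433 (iv D55094)
theorem F253437 : act 7 n56433 = n55683 := d27_2 (iv F247238) D56433 (iv D55683)
theorem F253438 : act 8 n56433 = n56433 := d28_2 D55093 D56433 (iv D56433) (iv D55093) F239807
theorem F253439 : act 9 n56433 = n55661 := d29_2 (iv F247239) D56433 (iv D55661)
def n56434 : Q := act 4 n55094
theorem D56434 : act 4 n55094 = n56434 := rfl
theorem F253440 : act 0 n56434 = n55672 := d3_1 D56434 (iv D55672) (iv F247240)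
theorem F253441 : act 1 n56434 = n55099 := d11_1 D56434 (iv D55099) (iv F247241)
theorem F253442 : act 2 n56434 = n55107 := d18_1 D56434 F247285 (iv F247242)
theorem F253443 : act 3 n56434 = n55095 := d24_1 D56434 (iv D55095) (iv D53481) (iv F239813) D55094
theorem F253444 : act 6 n56434 = n55106 := d31_2 (iv F247243) D56434 (iv D55106)
theorem F253445 : act 7 n56434 = n55684 := d32_2 (iv F247244) D56434 (iv D55684)
theorem F253446 : act 8 n56434 = n56434 := d33_2 F247245 D56434 (iv D56434)
theorem F253447 : act 9 n56434 = n55663 := d34_2 (iv F247246) D56434 (iv D55663)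
def n56435 : Q := act 5 n55095
theorem D56435 : act 5 n55095 = n56435 := rfl
theorem F253448 : act 1 n56435 = n55100 := d12_1 D56435 (iv D55100) (iv F247247)
theorem F253449 : act 2 n56435 = n55102 := d19_1 D56435 F247267 (iv F247248)
theorem F253450 : act 6 n56435 = n55103 := d35_2 (iv F247249) D56435 F247271 F239839 (iv F239848)
theorem F253451 : act 7 n56435 = n55685 := d36_2 (iv F247250) D56435 (iv D55685)
theorem F253452 : act 8 n56435 = n55109 := d37_2 (iv F247251) D56435 F247295
def n56436 : Q := act 3 n55096
theorem D56436 : act 3 n55096 = n56436 := rfl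
theorem F253453 : act 0 n56436 = n55711 := d2_1 D56436 F250548 F250542
theorem F253454 : act 5 n56436 = n55107 := d25_2 (iv F247253) D56436 (iv D55107)
theorem F253455 : act 6 n56436 = n55097 := d26_2 (iv F247254) D56436 (iv D55097)
theorem F253456 : act 8 n56436 = n56436 := d28_2 D55096 D56436 (iv D56436) (iv D55096) F239823
theorem F253457 : act 9 n56436 = n55701 := d29_2 F250516 D56436 (iv F250512)
def n56437 : Q := act 2 n55097
theorem D56437 : act 2 n55097 = n56437 := rfl
theorem F253458 : act 3 n56437 = n55103 := d17_2 D55097 D56437 (iv D55103) (iv D53488) (iv F239826)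
theorem F253459 : act 5 n56437 = n55098 := d19_2 (iv F247255) D56437 (iv D55098)
theorem F253460 : act 8 n56437 = n56437 := d22_2 F247256 D56437 (iv D56437)
def n56438 : Q := act 4 n55097
theorem D56438 : act 4 n55097 = n56438 := rfl
theorem F253461 : act 8 n56438 = n56438 := d33_2 F247256 D56438 (iv D56438)
def n56439 : Q := act 5 n55099
theorem D56439 : act 5 n55099 = n56439 := rfl
theorem F253462 : act 3 n56439 = n55100 := d25_1 D56439 (iv D55100) (iv F247260)
theorem F253463 : act 8 n56439 = n56439 := d37_2 F247262 D56439 (iv D56439)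
def n56440 : Q := act 6 n55100
theorem D56440 : act 6 n55100 = n56440 := rfl
theorem F253464 : act 1 n56440 = n55103 := d13_1 D56440 (iv F253450) F253448
theorem F253465 : act 5 n56440 = n55105 := d35_1 D56440 F247275 (iv D53496) (iv F239830) D55100
theorem F253466 : act 8 n56440 = n55111 := d40_2 (iv F247263) D56440 F247306
def n56441 : Q := act 4 n55102
theorem D56441 : act 4 n55102 = n56441 := rfl
theorem F253467 : act 5 n56441 = n55719 := d30_2 (iv F247267) D56441 (iv D55719) F242858 (iv F239869)
theorem F253468 : act 6 n56441 = n55104 := d31_2 (iv F247268) D56441 (iv D55104)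
theorem F253469 : act 7 n56441 = n55733 := d32_2 (iv F247269) D56441 F249908
theorem F253470 : act 8 n56441 = n55110 := d33_2 (iv F247270) D56441 (iv D55110)
def n56442 : Q := act 4 n55103
theorem D56442 : act 4 n55103 = n56442 := rfl
theorem F253471 : act 2 n56442 = n55104 := d18_1 D56442 (iv D55104) D55103
theorem F253472 : act 8 n56442 = n55112 := d33_2 (iv F247272) D56442 (iv D55112)
def n56443 : Q := act 4 n55109
theorem D56443 : act 4 n55109 = n56443 := rfl
theorem F253473 : act 1 n56443 = n55127 := d11_1 D56443 F247381 (iv F247293)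
theorem F253474 : act 2 n56443 = n55110 := d18_1 D56443 (iv D55110) D55109
theorem F253475 : act 5 n56443 = n55122 := d30_2 (iv F247295) D56443 (iv D55122) F239958 (iv F239892)
theorem F253476 : act 6 n56443 = n55112 := d31_2 (iv F247296) D56443 (iv D55112)
theorem F253477 : act 7 n56443 = n55690 := d32_2 (iv F247297) D56443 F249806
theorem F253478 : act 9 n56443 = n56443 := d34_2 F247298 D56443 (iv D56443)
def n56444 : Q := act 4 n55111
theorem D56444 : act 4 n55111 = n56444 := rfl
theorem F253479 : act 1 n56444 = n55112 := d11_1 D56444 (iv D55112) D55111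
theorem F253480 : act 5 n56444 = n55748 := d30_2 (iv F247305) D56444 F249942 F242951 (iv F239887)
theorem F253481 : act 6 n56444 = n55127 := d31_2 (iv F247306) D56444 F247381
theorem F253482 : act 9 n56444 = n56444 := d34_2 F247307 D56444 (iv D56444)
def n56445 : Q := act 3 n55112
theorem D56445 : act 3 n55112 = n56445 := rfl
theorem F253483 : act 2 n56445 = n55432 := d17_1 D56445 (iv D55432) F241391 (iv F239884) (iv F247308)
theorem F253484 : act 4 n56445 = n56445 := d24_2 D55112 D56445 (iv D56445) (iv D55112) F239881
theorem F253485 : act 9 n56445 = n56445 := d29_2 F247309 D56445 (iv D56445)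
def n56446 : Q := act 8 n55113
theorem D56446 : act 8 n55113 = n56446 := rfl
theorem F253486 : act 0 n56446 = n55914 := d7_1 D56446 (iv D55914) (iv F247310)
theorem F253487 : act 1 n56446 = n55687 := d15_1 D56446 (iv D55687) (iv F247311)
theorem F253488 : act 2 n56446 = n55433 := d22_1 D56446 (iv D55433) (iv F247312)
theorem F253489 : act 5 n56446 = n56446 := d37_1 D56446 (iv D56446) F247314
theorem F253490 : act 6 n56446 = n55782 := d40_1 D56446 (iv D55782) (iv F247315)
theorem F253491 : act 7 n56446 = n55123 := d42_1 D56446 (iv D55123) (iv F247316)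
theorem F253492 : act 9 n56446 = n55114 := d44_2 D55113 D56446 (iv D55114) (iv D53506) D53505
def n56447 : Q := act 3 n55114
theorem D56447 : act 3 n55114 = n56447 := rfl
theorem F253493 : act 1 n56447 = n55688 := d10_1 D56447 (iv D55688) (iv F247317)
theorem F253494 : act 5 n56447 = n56447 := d25_2 F247319 D56447 (iv D56447)
theorem F253495 : act 7 n56447 = n55124 := d27_2 (iv F247320) D56447 (iv D55124)
theorem F253496 : act 8 n56447 = n55115 := d28_2 D55114 D56447 (iv D55115) (iv D53507) (iv F239905)
def n56448 : Q := act 4 n55115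
theorem D56448 : act 4 n55115 = n56448 := rfl
theorem F253497 : act 1 n56448 = n55689 := d11_1 D56448 (iv D55689) (iv F247321)
theorem F253498 : act 3 n56448 = n55116 := d24_1 D56448 (iv D55116) (iv D53508) (iv F239910) D55115
theorem F253499 : act 7 n56448 = n55126 := d32_2 (iv F247323) D56448 (iv D55126)
theorem F253500 : act 9 n56448 = n56448 := d34_2 F247324 D56448 (iv D56448)
def n56449 : Q := act 8 n55117
theorem D56449 : act 8 n55117 = n56449 := rfl
theorem F253501 : act 0 n56449 = n55120 := d7_1 D56449 (iv D55120) (iv F247328)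
theorem F253502 : act 1 n56449 = n55247 := d15_1 D56449 (iv D55247) (iv F247329)
theorem F253503 : act 2 n56449 = n55145 := d22_1 D56449 (iv D55145) (iv F247330)
theorem F253504 : act 5 n56449 = n56449 := d37_1 D56449 (iv D56449) F247332
theorem F253505 : act 6 n56449 = n55176 := d40_1 D56449 (iv D55176) (iv F247333)
theorem F253506 : act 7 n56449 = n55147 := d42_1 D56449 (iv D55147) (iv F247334)
def n56450 : Q := act 3 n55118
theorem D56450 : act 3 n55118 = n56450 := rfl
theorem F253507 : act 0 n56450 = n55121 := d2_1 D56450 (iv D55121) (iv F247335)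
theorem F253508 : act 1 n56450 = n55254 := d10_1 D56450 (iv D55254) (iv F247336)
theorem F253509 : act 2 n56450 = n55441 := d17_1 D56450 (iv D55441) F241476 (iv F239985) (iv F247337)
theorem F253510 : act 5 n56450 = n56450 := d25_2 F247339 D56450 (iv D56450)
theorem F253511 : act 6 n56450 = n55183 := d26_2 (iv F247340) D56450 (iv D55183)
theorem F253512 : act 7 n56450 = n55181 := d27_2 (iv F247341) D56450 (iv D55181)
theorem F253513 : act 9 n56450 = n56450 := d29_2 F247342 D56450 (iv D56450)
def n56451 : Q := act 8 n55119
theorem D56451 : act 8 n55119 = n56451 := rfl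
theorem F253514 : act 1 n56451 = n55123 := d15_1 D56451 (iv D55123) (iv F247343)
theorem F253515 : act 2 n56451 = n55190 := d22_1 D56451 (iv D55190) (iv F247344)
theorem F253516 : act 5 n56451 = n56451 := d37_1 D56451 (iv D56451) F247346
theorem F253517 : act 6 n56451 = n55192 := d40_1 D56451 (iv D55192) (iv F247347)
theorem F253518 : act 7 n56451 = n55687 := d42_1 D56451 (iv D55687) (iv F247348)
theorem F253519 : act 9 n56451 = n55120 := d44_2 D55119 D56451 (iv D55120) (iv D53513) D53512
def n56452 : Q := act 3 n55120
theorem D56452 : act 3 n55120 = n56452 := rfl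
theorem F253520 : act 1 n56452 = n55124 := d10_1 D56452 (iv D55124) (iv F247349)
theorem F253521 : act 2 n56452 = n55648 := d17_1 D56452 (iv D55648) (iv F247738) F247739 (iv F247350)
theorem F253522 : act 5 n56452 = n56452 := d25_2 F247351 D56452 (iv D56452)
theorem F253523 : act 6 n56452 = n55743 := d26_2 (iv F247352) D56452 (iv D55743)
theorem F253524 : act 7 n56452 = n55688 := d27_2 (iv F247353) D56452 (iv D55688)
theorem F253525 : act 8 n56452 = n55121 := d28_2 D55120 D56452 (iv D55121) (iv D53514) (iv F239945)
def n56453 : Q := act 4 n55121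
theorem D56453 : act 4 n55121 = n56453 := rfl
theorem F253526 : act 1 n56453 = n55126 := d11_1 D56453 (iv D55126) (iv F247354)
theorem F253527 : act 2 n56453 = n55649 := d18_1 D56453 (iv D55649) (iv F247355)
theorem F253528 : act 3 n56453 = n55122 := d24_1 D56453 (iv D55122) (iv D53515) (iv F239951) D55121
theorem F253529 : act 6 n56453 = n55744 := d31_2 (iv F247357) D56453 (iv D55744)
theorem F253530 : act 7 n56453 = n55689 := d32_2 (iv F247358) D56453 (iv D55689)
theorem F253531 : act 9 n56453 = n56453 := d34_2 F247359 D56453 (iv D56453)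
def n56454 : Q := act 3 n55123
theorem D56454 : act 3 n55123 = n56454 := rfl
theorem F253532 : act 5 n56454 = n56454 := d25_2 F247366 D56454 (iv D56454)
theorem F253533 : act 6 n56454 = n55746 := d26_2 (iv F247367) D56454 (iv D55746)
theorem F253534 : act 8 n56454 = n56454 := d28_2 D55123 D56454 (iv D56454) (iv D55123) F239963
theorem F253535 : act 9 n56454 = n55124 := d29_2 (iv F247368) D56454 (iv D55124)
def n56455 : Q := act 2 n55124
theorem D56455 : act 2 n55124 = n56455 := rfl
theorem F253536 : act 0 n56455 = n55912 := d1_1 D56455 (iv F252047) F252045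
theorem F253537 : act 1 n56455 = n55587 := d9_1 D56455 F249476 (iv F249676) (iv F253521) F253520
theorem F253538 : act 3 n56455 = n55435 := d17_2 D55124 D56455 (iv D55435) (iv D53851) (iv F239966)
theorem F253539 : act 5 n56455 = n56455 := d19_2 F247369 D56455 (iv D56455)
theorem F253540 : act 6 n56455 = n55592 := d20_2 (iv F247370) D56455 F249495
theorem F253541 : act 8 n56455 = n55125 := d22_2 (iv F247371) D56455 (iv D55125)
def n56456 : Q := act 4 n55124
theorem D56456 : act 4 n55124 = n56456 := rfl
theorem F253542 : act 6 n56456 = n55747 := d31_2 (iv F247370) D56456 (iv D55747)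
theorem F253543 : act 8 n56456 = n55126 := d33_2 (iv F247371) D56456 (iv D55126)
def n56457 : Q := act 4 n55125
theorem D56457 : act 4 n55125 = n56457 := rfl
theorem F253544 : act 0 n56457 = n55913 := d3_1 D56457 (iv D55913) (iv F247372)
theorem F253545 : act 1 n56457 = n55641 := d11_1 D56457 (iv D55641) (iv F247373)
theorem F253546 : act 2 n56457 = n55126 := d18_1 D56457 (iv D55126) D55125
theorem F253547 : act 3 n56457 = n55902 := d24_1 D56457 (iv D55902) (iv D54429) (iv F239976) (iv F247374)
theorem F253548 : act 6 n56457 = n55642 := d31_2 (iv F247376) D56457 (iv D55642)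
theorem F253549 : act 9 n56457 = n56457 := d34_2 F247377 D56457 (iv D56457)
def n56458 : Q := act 5 n55126
theorem D56458 : act 5 n55126 = n56458 := rfl
theorem F253550 : act 3 n56458 = n55127 := d25_1 D56458 (iv D55127) (iv F247378)
theorem F253551 : act 4 n56458 = n56458 := d30_1 D56458 (iv D56458) (iv D55126) F239969 D55126
theorem F253552 : act 9 n56458 = n56458 := d38_2 F247380 D56458 (iv D56458)
def n56459 : Q := act 8 n55128
theorem D56459 : act 8 n55128 = n56459 := rfl
theorem F253553 : act 0 n56459 = n55622 := d7_1 D56459 (iv D55622) (iv F247383)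
theorem F253554 : act 1 n56459 = n55137 := d15_1 D56459 (iv D55137) (iv F247384)
theorem F253555 : act 4 n56459 = n55129 := d33_1 D56459 (iv D55129) (iv F247385)
theorem F253556 : act 7 n56459 = n55132 := d42_1 D56459 (iv D55132) (iv F247386)
theorem F253557 : act 9 n56459 = n55764 := d44_2 D55128 D56459 (iv D55764) (iv D54266) (iv F240003)
def n56460 : Q := act 8 n55130
theorem D56460 : act 8 n55130 = n56460 := rfl
theorem F253558 : act 0 n56460 = n55617 := d7_1 D56460 (iv D55617) (iv F247393)
theorem F253559 : act 1 n56460 = n55385 := d15_1 D56460 F248593 (iv F247394)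
theorem F253560 : act 2 n56460 = n55132 := d22_1 D56460 (iv D55132) (iv F247395)
theorem F253561 : act 4 n56460 = n55131 := d33_1 D56460 (iv D55131) (iv F247397)
theorem F253562 : act 5 n56460 = n55372 := d37_1 D56460 F248552 (iv F247398)
theorem F253563 : act 6 n56460 = n55524 := d40_1 D56460 (iv D55524) (iv F247399)
theorem F253564 : act 9 n56460 = n55487 := d44_2 D55130 D56460 (iv D55487) (iv D53923) (iv F240014)
def n56461 : Q := act 3 n55131
theorem D56461 : act 3 n55131 = n56461 := rfl
theorem F253565 : act 0 n56461 = n55637 := d2_1 D56461 (iv D55637) (iv F247400)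
theorem F253566 : act 1 n56461 = n55410 := d10_1 D56461 F248680 (iv F247401)
theorem F253567 : act 2 n56461 = n55196 := d17_1 D56461 (iv D55196) F240422 (iv F240028) (iv F247402)
theorem F253568 : act 5 n56461 = n55134 := d25_2 (iv F247403) D56461 (iv D55134)
theorem F253569 : act 6 n56461 = n55534 := d26_2 (iv F247404) D56461 (iv D55534)
theorem F253570 : act 8 n56461 = n56461 := d28_2 D55131 D56461 (iv D56461) (iv D55131) F240019
theorem F253571 : act 9 n56461 = n55488 := d29_2 (iv F247405) D56461 (iv D55488)
def n56462 : Q := act 3 n55132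
theorem D56462 : act 3 n55132 = n56462 := rfl
theorem F253572 : act 0 n56462 = n55623 := d2_1 D56462 (iv D55623) (iv F247406)
theorem F253573 : act 1 n56462 = n55139 := d10_1 D56462 (iv D55139) (iv F247407)
theorem F253574 : act 4 n56462 = n55197 := d24_2 (iv F247408) D56462 (iv D55197) F240426 (iv F240028)
theorem F253575 : act 6 n56462 = n55527 := d26_2 (iv F247409) D56462 (iv D55527)
theorem F253576 : act 9 n56462 = n55775 := d29_2 (iv F247410) D56462 (iv D55775)
def n56463 : Q := act 3 n55133
theorem D56463 : act 3 n55133 = n56463 := rfl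
theorem F253577 : act 0 n56463 = n55640 := d2_1 D56463 (iv D55640) (iv F247411)
theorem F253578 : act 1 n56463 = n55397 := d10_1 D56463 F248631 (iv F247412)
theorem F253579 : act 2 n56463 = n55198 := d17_1 D56463 (iv D55198) F240429 (iv F240041) (iv F247413)
theorem F253580 : act 4 n56463 = n55392 := d24_2 (iv F247414) D56463 (iv D55392) F241225 D53798
theorem F253581 : act 6 n56463 = n56463 := d26_2 F247415 D56463 (iv D56463)
theorem F253582 : act 7 n56463 = n55134 := d27_2 (iv F247416) D56463 (iv D55134)
theorem F253583 : act 8 n56463 = n56463 := d28_2 D55133 D56463 (iv D56463) (iv D55133) F240035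
theorem F253584 : act 9 n56463 = n55493 := d29_2 (iv F247417) D56463 (iv D55493)
def n56464 : Q := act 8 n55135
theorem D56464 : act 8 n55135 = n56464 := rfl
theorem F253585 : act 0 n56464 = n55163 := d7_1 D56464 (iv D55163) (iv F247425)
theorem F253586 : act 2 n56464 = n55754 := d22_1 D56464 (iv D55754) (iv F247426)
theorem F253587 : act 4 n56464 = n55136 := d33_1 D56464 (iv D55136) (iv F247427)
theorem F253588 : act 6 n56464 = n55137 := d40_1 D56464 (iv D55137) (iv F247428)
theorem F253589 : act 7 n56464 = n55750 := d42_1 D56464 (iv D55750) (iv F247429)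
theorem F253590 : act 9 n56464 = n55759 := d44_2 D55135 D56464 (iv D55759) (iv D54260) (iv F240063)
def n56465 : Q := act 3 n55137
theorem D56465 : act 3 n55137 = n56465 := rfl
theorem F253591 : act 0 n56465 = n55166 := d2_1 D56465 (iv D55166) (iv F247437)
theorem F253592 : act 4 n56465 = n55232 := d24_2 (iv F247439) D56465 (iv D55232) F240595 (iv F240076)
theorem F253593 : act 7 n56465 = n55139 := d27_2 (iv F247440) D56465 (iv D55139)
theorem F253594 : act 9 n56465 = n55768 := d29_2 (iv F247441) D56465 (iv D55768)
def n56466 : Q := act 3 n55138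
theorem D56466 : act 3 n55138 = n56466 := rfl
theorem F253595 : act 0 n56466 = n55173 := d2_1 D56466 (iv D55173) (iv F247442)
theorem F253596 : act 5 n56466 = n55139 := d25_2 (iv F247445) D56466 (iv D55139)
theorem F253597 : act 9 n56466 = n55778 := d29_2 (iv F247446) D56466 (iv D55778)
def n56467 : Q := act 2 n55139
theorem D56467 : act 2 n55139 = n56467 := rfl
theorem F253598 : act 0 n56467 = n55174 := d1_1 D56467 (iv D55174) (iv F247447)
theorem F253599 : act 3 n56467 = n55757 := d17_2 D55139 D56467 (iv D55757) (iv D54258) (iv F240085)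
theorem F253600 : act 4 n56467 = n55243 := d18_2 (iv F247448) D56467 (iv D55243)
theorem F253601 : act 6 n56467 = n55752 := d20_2 (iv F247449) D56467 (iv D55752)
theorem F253602 : act 9 n56467 = n55779 := d23_2 (iv F247450) D56467 (iv D55779)
def n56468 : Q := act 4 n55141
theorem D56468 : act 4 n55141 = n56468 := rfl
theorem F253603 : act 0 n56468 = n55179 := d3_1 D56468 (iv D55179) (iv F247458)
theorem F253604 : act 5 n56468 = n55253 := d30_2 (iv F247459) D56468 (iv D55253) F240679 (iv F240100)
theorem F253605 : act 8 n56468 = n55142 := d33_2 (iv F247460) D56468 (iv D55142)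
theorem F253606 : act 9 n56468 = n55786 := d34_2 (iv F247461) D56468 (iv D55786)
def n56469 : Q := act 9 n55143
theorem D56469 : act 9 n55143 = n56469 := rfl
theorem F253607 : act 0 n56469 = n55765 := d8_1 D56469 (iv D55765) (iv F247465)
theorem F253608 : act 2 n56469 = n55668 := d23_1 D56469 (iv D55668) (iv F247466)
theorem F253609 : act 3 n56469 = n55153 := d29_1 D56469 (iv D55153) (iv F247467)
theorem F253610 : act 4 n56469 = n56469 := d34_1 D56469 (iv D56469) F247468
theorem F253611 : act 5 n56469 = n55144 := d38_1 D56469 (iv D55144) D55143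
theorem F253612 : act 7 n56469 = n55148 := d43_1 D56469 (iv D55148) (iv F247469)
def n56470 : Q := act 8 n55144
theorem D56470 : act 8 n55144 = n56470 := rfl
theorem F253613 : act 0 n56470 = n55766 := d7_1 D56470 (iv D55766) (iv F247470)
theorem F253614 : act 4 n56470 = n55145 := d33_1 D56470 (iv D55145) (iv F247472)
theorem F253615 : act 7 n56470 = n55149 := d42_1 D56470 (iv D55149) (iv F247473)
def n56471 : Q := act 8 n55146
theorem D56471 : act 8 n55146 = n56471 := rfl
theorem F253616 : act 0 n56471 = n55677 := d7_1 D56471 (iv D55677) (iv F247478)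
theorem F253617 : act 2 n56471 = n55149 := d22_1 D56471 (iv D55149) (iv F247479)
theorem F253618 : act 4 n56471 = n55147 := d33_1 D56471 (iv D55147) (iv F247481)
theorem F253619 : act 6 n56471 = n55165 := d40_1 D56471 (iv D55165) (iv F247482)
def n56472 : Q := act 3 n55147
theorem D56472 : act 3 n55147 = n56472 := rfl
theorem F253620 : act 0 n56472 = n55688 := d2_1 D56472 (iv D55688) (iv F247483)
theorem F253621 : act 2 n56472 = n55285 := d17_1 D56472 (iv D55285) F240814 (iv F240137) (iv F247484)
theorem F253622 : act 5 n56472 = n56472 := d25_2 F247485 D56472 (iv D56472)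
theorem F253623 : act 6 n56472 = n55175 := d26_2 (iv F247486) D56472 (iv D55175)
theorem F253624 : act 8 n56472 = n55181 := d28_2 D55147 D56472 (iv D55181) (iv D53590) (iv F240126)
def n56473 : Q := act 8 n55148
theorem D56473 : act 8 n55148 = n56473 := rfl
theorem F253625 : act 0 n56473 = n55776 := d7_1 D56473 (iv D55776) (iv F247487)
theorem F253626 : act 4 n56473 = n56473 := d33_1 D56473 (iv D56473) F247489
theorem F253627 : act 5 n56473 = n55149 := d37_1 D56473 (iv D55149) (iv F247490)
def n56474 : Q := act 3 n55149
theorem D56474 : act 3 n55149 = n56474 := rfl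
theorem F253628 : act 0 n56474 = n55777 := d2_1 D56474 (iv D55777) (iv F247491)
theorem F253629 : act 4 n56474 = n55288 := d24_2 (iv F247492) D56474 (iv D55288) F240825 (iv F240137)
theorem F253630 : act 6 n56474 = n55753 := d26_2 (iv F247493) D56474 (iv D55753)
theorem F253631 : act 8 n56474 = n55156 := d28_2 D55149 D56474 (iv D55156) (iv D53558) (iv F240133)
def n56475 : Q := act 9 n55150
theorem D56475 : act 9 n55150 = n56475 := rfl
theorem F253632 : act 0 n56475 = n55758 := d8_1 D56475 (iv D55758) (iv F247494)
theorem F253633 : act 1 n56475 = n55705 := d16_1 D56475 (iv D55705) (iv F247495)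
theorem F253634 : act 2 n56475 = n55749 := d23_1 D56475 (iv D55749) (iv F247496)
theorem F253635 : act 3 n56475 = n55191 := d29_1 D56475 (iv D55191) (iv F247497)
theorem F253636 : act 4 n56475 = n56475 := d34_1 D56475 (iv D56475) F247498
theorem F253637 : act 5 n56475 = n55151 := d38_1 D56475 (iv D55151) D55150
theorem F253638 : act 7 n56475 = n55194 := d43_1 D56475 (iv D55194) (iv F247499)
def n56476 : Q := act 8 n55151
theorem D56476 : act 8 n55151 = n56476 := rfl
theorem F253639 : act 0 n56476 = n55759 := d7_1 D56476 (iv D55759) (iv F247501)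
theorem F253640 : act 2 n56476 = n55750 := d22_1 D56476 (iv D55750) (iv F247502)
theorem F253641 : act 4 n56476 = n55152 := d33_1 D56476 (iv D55152) (iv F247503)
theorem F253642 : act 6 n56476 = n55154 := d40_1 D56476 (iv D55154) (iv F247504)
theorem F253643 : act 7 n56476 = n55754 := d42_1 D56476 (iv D55754) (iv F247505)
theorem F253644 : act 9 n56476 = n55163 := d44_2 D55151 D56476 (iv D55163) (iv D53566) (iv F240144)
def n56477 : Q := act 8 n55153
theorem D56477 : act 8 n55153 = n56477 := rfl
theorem F253645 : act 0 n56477 = n55767 := d7_1 D56477 (iv D55767) (iv F247513)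
theorem F253646 : act 2 n56477 = n55497 := d22_1 D56477 (iv D55497) (iv F247514)
theorem F253647 : act 4 n56477 = n55157 := d33_1 D56477 (iv D55157) (iv F247515)
theorem F253648 : act 5 n56477 = n55154 := d37_1 D56477 (iv D55154) (iv F247516)
theorem F253649 : act 7 n56477 = n55155 := d42_1 D56477 (iv D55155) (iv F247517)
theorem F253650 : act 9 n56477 = n55165 := d44_2 D55153 D56477 (iv D55165) (iv D53570) (iv F240155)
def n56478 : Q := act 3 n55154
theorem D56478 : act 3 n55154 = n56478 := rfl
theorem F253651 : act 0 n56478 = n55768 := d2_1 D56478 (iv D55768) (iv F247518)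
theorem F253652 : act 4 n56478 = n55302 := d24_2 (iv F247520) D56478 (iv D55302) F240881 (iv F240162)
theorem F253653 : act 7 n56478 = n55156 := d27_2 (iv F247521) D56478 (iv D55156)
theorem F253654 : act 9 n56478 = n55166 := d29_2 (iv F247522) D56478 (iv D55166)
def n56479 : Q := act 3 n55155
theorem D56479 : act 3 n55155 = n56479 := rfl
theorem F253655 : act 0 n56479 = n55778 := d2_1 D56479 (iv D55778) (iv F247523)
theorem F253656 : act 5 n56479 = n55156 := d25_2 (iv F247526) D56479 (iv D55156)
theorem F253657 : act 9 n56479 = n55173 := d29_2 (iv F247527) D56479 (iv D55173)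
def n56480 : Q := act 2 n55156
theorem D56480 : act 2 n55156 = n56480 := rfl
theorem F253658 : act 0 n56480 = n55779 := d1_1 D56480 (iv D55779) (iv F247528)
theorem F253659 : act 3 n56480 = n55752 := d17_2 D55156 D56480 (iv D55752) (iv D54252) (iv F240171)
theorem F253660 : act 4 n56480 = n55315 := d18_2 (iv F247529) D56480 (iv D55315)
theorem F253661 : act 6 n56480 = n55757 := d20_2 (iv F247530) D56480 (iv D55757)
theorem F253662 : act 9 n56480 = n55174 := d23_2 (iv F247531) D56480 (iv D55174)
def n56481 : Q := act 3 n55157
theorem D56481 : act 3 n55157 = n56481 := rfl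
theorem F253663 : act 0 n56481 = n55784 := d2_1 D56481 (iv D55784) (iv F247532)
theorem F253664 : act 2 n56481 = n55630 := d17_1 D56481 (iv D55630) F242470 (iv F241893) (iv F247533)
theorem F253665 : act 5 n56481 = n55158 := d25_2 (iv F247534) D56481 (iv D55158)
theorem F253666 : act 7 n56481 = n55159 := d27_2 (iv F247535) D56481 (iv D55159)
theorem F253667 : act 8 n56481 = n56481 := d28_2 D55157 D56481 (iv D56481) (iv D55157) F240177
theorem F253668 : act 9 n56481 = n55175 := d29_2 (iv F247536) D56481 (iv D55175)
def n56482 : Q := act 4 n55159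
theorem D56482 : act 4 n55159 = n56482 := rfl
theorem F253669 : act 0 n56482 = n55786 := d3_1 D56482 (iv D55786) (iv F247544)
theorem F253670 : act 2 n56482 = n55638 := d18_1 D56482 (iv D55638) (iv F247545)
theorem F253671 : act 5 n56482 = n55329 := d30_2 (iv F247546) D56482 (iv D55329) F241006 (iv F240192)
theorem F253672 : act 8 n56482 = n56482 := d33_2 F247547 D56482 (iv D56482)
theorem F253673 : act 9 n56482 = n55179 := d34_2 (iv F247548) D56482 (iv D55179)
def n56483 : Q := act 8 n55160
theorem D56483 : act 8 n55160 = n56483 := rfl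
theorem F253674 : act 0 n56483 = n55754 := d7_1 D56483 (iv D55754) (iv F247549)
theorem F253675 : act 1 n56483 = n55206 := d15_1 D56483 (iv D55206) (iv F247550)
theorem F253676 : act 2 n56483 = n55163 := d22_1 D56483 (iv D55163) (iv F247551)
theorem F253677 : act 4 n56483 = n55161 := d33_1 D56483 (iv D55161) (iv F247553)
theorem F253678 : act 6 n56483 = n55164 := d40_1 D56483 (iv D55164) (iv F247554)
theorem F253679 : act 7 n56483 = n55759 := d42_1 D56483 (iv D55759) (iv F247555)
theorem F253680 : act 9 n56483 = n55750 := d44_2 D55160 D56483 (iv D55750) (iv D54249) (iv F240202)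
def n56484 : Q := act 8 n55162
theorem D56484 : act 8 n55162 = n56484 := rfl
theorem F253681 : act 1 n56484 = n55706 := d15_1 D56484 (iv D55706) (iv F247564)
theorem F253682 : act 4 n56484 = n56484 := d33_1 D56484 (iv D56484) F247566
theorem F253683 : act 5 n56484 = n55163 := d37_1 D56484 (iv D55163) (iv F247567)
theorem F253684 : act 7 n56484 = n55761 := d42_1 D56484 (iv D55761) (iv F247568)
def n56485 : Q := act 3 n55163
theorem D56485 : act 3 n55163 = n56485 := rfl
theorem F253685 : act 4 n56485 = n55343 := d24_2 (iv F247569) D56485 (iv D55343) F241080 (iv F240217)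
theorem F253686 : act 6 n56485 = n55166 := d26_2 (iv F247570) D56485 (iv D55166)
theorem F253687 : act 7 n56485 = n55762 := d27_2 (iv F247571) D56485 (iv D55762)
def n56486 : Q := act 3 n55164
theorem D56486 : act 3 n55164 = n56486 := rfl
theorem F253688 : act 0 n56486 = n55755 := d2_1 D56486 (iv D55755) (iv F247572)
theorem F253689 : act 1 n56486 = n55789 := d10_1 D56486 (iv D55789) (iv F247573)
theorem F253690 : act 4 n56486 = n55790 := d24_2 (iv F247575) D56486 (iv D55790) F243101 (iv F240231)
theorem F253691 : act 5 n56486 = n55753 := d25_2 (iv F247576) D56486 (iv D55753)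
theorem F253692 : act 7 n56486 = n55170 := d27_2 (iv F247577) D56486 (iv D55170)
theorem F253693 : act 8 n56486 = n55756 := d28_2 D55164 D56486 (iv D55756) (iv D54257) (iv F240224)
theorem F253694 : act 9 n56486 = n55751 := d29_2 (iv F247578) D56486 (iv D55751)
def n56487 : Q := act 3 n55165
theorem D56487 : act 3 n55165 = n56487 := rfl
theorem F253695 : act 5 n56487 = n55166 := d25_2 (iv F247581) D56487 (iv D55166)
theorem F253696 : act 7 n56487 = n55173 := d27_2 (iv F247582) D56487 (iv D55173)
def n56488 : Q := act 2 n55166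
theorem D56488 : act 2 n55166 = n56488 := rfl
theorem F253697 : act 4 n56488 = n55364 := d18_2 (iv F247583) D56488 (iv D55364)
theorem F253698 : act 7 n56488 = n55174 := d21_2 (iv F247584) D56488 (iv D55174)
def n56489 : Q := act 3 n55167
theorem D56489 : act 3 n55167 = n56489 := rfl
theorem F253699 : act 0 n56489 = n55581 := d2_1 D56489 (iv D55581) (iv F247585)
theorem F253700 : act 1 n56489 = n55170 := d10_1 D56489 (iv D55170) (iv F247586)
theorem F253701 : act 4 n56489 = n55756 := d24_2 (iv F247587) D56489 (iv D55756) F242978 (iv F240250)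
theorem F253702 : act 5 n56489 = n55502 := d25_2 (iv F247588) D56489 (iv D55502)
theorem F253703 : act 6 n56489 = n55775 := d26_2 (iv F247589) D56489 (iv D55775)
theorem F253704 : act 7 n56489 = n55789 := d27_2 (iv F247590) D56489 (iv D55789)
theorem F253705 : act 8 n56489 = n55790 := d28_2 D55167 D56489 (iv D55790) (iv D54298) (iv F240243)
theorem F253706 : act 9 n56489 = n55527 := d29_2 (iv F247591) D56489 (iv D55527)
def n56490 : Q := act 3 n55168
theorem D56490 : act 3 n55168 = n56490 := rfl
theorem F253707 : act 0 n56490 = n55753 := d2_1 D56490 (iv D55753) (iv F247592)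
theorem F253708 : act 1 n56490 = n55790 := d10_1 D56490 (iv D55790) (iv F247593)
theorem F253709 : act 4 n56490 = n55789 := d24_2 (iv F247594) D56490 (iv D55789) F243099 (iv F240360)
theorem F253710 : act 5 n56490 = n55755 := d25_2 (iv F247595) D56490 (iv D55755)
theorem F253711 : act 6 n56490 = n55777 := d26_2 (iv F247596) D56490 (iv D55777)
theorem F253712 : act 7 n56490 = n55756 := d27_2 (iv F247597) D56490 (iv D55756)
theorem F253713 : act 8 n56490 = n55170 := d28_2 D55168 D56490 (iv D55170) (iv D53576) (iv F240257)
theorem F253714 : act 9 n56490 = n55770 := d29_2 (iv F247598) D56490 (iv D55770)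
def n56491 : Q := act 3 n55169
theorem D56491 : act 3 n55169 = n56491 := rfl
theorem F253715 : act 0 n56491 = n55756 := d2_1 D56491 (iv D55756) (iv F247599)
theorem F253716 : act 1 n56491 = n55502 := d10_1 D56491 (iv D55502) (iv F247600)
theorem F253717 : act 4 n56491 = n55581 := d24_2 (iv F247602) D56491 (iv D55581) F242271 (iv F240298)
theorem F253718 : act 5 n56491 = n55170 := d25_2 (iv F247603) D56491 (iv D55170)
theorem F253719 : act 7 n56491 = n55753 := d27_2 (iv F247604) D56491 (iv D55753)
theorem F253720 : act 8 n56491 = n55755 := d28_2 D55169 D56491 (iv D55755) (iv D54256) (iv F240265)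
theorem F253721 : act 9 n56491 = n55498 := d29_2 (iv F247605) D56491 (iv D55498)
def n56492 : Q := act 2 n55170
theorem D56492 : act 2 n55170 = n56492 := rfl
theorem F253722 : act 0 n56492 = n55757 := d1_1 D56492 (iv D55757) (iv F247606)
theorem F253723 : act 3 n56492 = n55174 := d17_2 D55170 D56492 (iv D55174) (iv D53580) (iv F240270)
theorem F253724 : act 4 n56492 = n55791 := d18_2 (iv F247607) D56492 (iv D55791)
theorem F253725 : act 6 n56492 = n55779 := d20_2 (iv F247608) D56492 (iv D55779)
theorem F253726 : act 9 n56492 = n55752 := d23_2 (iv F247609) D56492 (iv D55752)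
def n56493 : Q := act 8 n55171
theorem D56493 : act 8 n55171 = n56493 := rfl
theorem F253727 : act 0 n56493 = n55723 := d7_1 D56493 (iv D55723) (iv F247610)
theorem F253728 : act 1 n56493 = n55231 := d15_1 D56493 (iv D55231) (iv F247611)
theorem F253729 : act 4 n56493 = n55176 := d33_1 D56493 (iv D55176) (iv F247613)
theorem F253730 : act 5 n56493 = n55193 := d37_1 D56493 (iv D55193) (iv F247614)
theorem F253731 : act 7 n56493 = n55172 := d42_1 D56493 (iv D55172) (iv F247615)
def n56494 : Q := act 3 n55172
theorem D56494 : act 3 n55172 = n56494 := rfl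
theorem F253732 : act 1 n56494 = n55242 := d10_1 D56494 (iv D55242) (iv F247616)
theorem F253733 : act 5 n56494 = n55197 := d25_2 (iv F247618) D56494 (iv D55197)
theorem F253734 : act 6 n56494 = n55173 := d26_2 (iv F247619) D56494 (iv D55173)
def n56495 : Q := act 2 n55173
theorem D56495 : act 2 n55173 = n56495 := rfl
theorem F253735 : act 5 n56495 = n55174 := d19_2 (iv F247620) D56495 (iv D55174)
def n56496 : Q := act 4 n55173
theorem D56496 : act 4 n55173 = n56496 := rfl
theorem F253736 : act 3 n56496 = n55179 := d24_1 D56496 (iv D55179) (iv D53586) (iv F240283) D55173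
theorem F253737 : act 5 n56496 = n55389 := d30_2 (iv F247620) D56496 (iv D55389) F241211 (iv F240285)
def n56497 : Q := act 1 n55174
theorem D56497 : act 1 n55174 = n56497 := rfl
theorem F253738 : act 4 n56497 = n55390 := d11_2 (iv F247621) D56497 (iv D55390)
theorem F253739 : act 6 n56497 = n55781 := d13_2 (iv F247622) D56497 (iv D55781)
def n56498 : Q := act 4 n55175
theorem D56498 : act 4 n55175 = n56498 := rfl
theorem F253740 : act 2 n56498 = n55813 := d18_1 D56498 (iv D55813) (iv F247623)
theorem F253741 : act 5 n56498 = n55401 := d30_2 (iv F247624) D56498 (iv D55401) F241261 (iv F240291)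
theorem F253742 : act 7 n56498 = n55179 := d32_2 (iv F247625) D56498 (iv D55179)
theorem F253743 : act 8 n56498 = n55182 := d33_2 (iv F247626) D56498 (iv D55182)
def n56499 : Q := act 3 n55176
theorem D56499 : act 3 n55176 = n56499 := rfl
theorem F253744 : act 0 n56499 = n55743 := d2_1 D56499 (iv D55743) (iv F247627)
theorem F253745 : act 1 n56499 = n55248 := d10_1 D56499 (iv D55248) (iv F247628)
theorem F253746 : act 5 n56499 = n55180 := d25_2 (iv F247629) D56499 (iv D55180)
theorem F253747 : act 7 n56499 = n55177 := d27_2 (iv F247630) D56499 (iv D55177)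
theorem F253748 : act 8 n56499 = n55183 := d28_2 D55176 D56499 (iv D55183) (iv D53592) (iv F240304)
def n56500 : Q := act 4 n55177
theorem D56500 : act 4 n55177 = n56500 := rfl
theorem F253749 : act 1 n56500 = n55253 := d11_1 D56500 (iv D55253) (iv F247631)
theorem F253750 : act 6 n56500 = n55179 := d31_2 (iv F247633) D56500 (iv D55179)
theorem F253751 : act 8 n56500 = n55184 := d33_2 (iv F247634) D56500 (iv D55184)
def n56501 : Q := act 4 n55178
theorem D56501 : act 4 n55178 = n56501 := rfl
theorem F253752 : act 2 n56501 = n55179 := d18_1 D56501 (iv D55179) D55178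
theorem F253753 : act 5 n56501 = n55415 := d30_2 (iv F247636) D56501 (iv D55415) F241315 (iv F240313)
theorem F253754 : act 7 n56501 = n55813 := d32_2 (iv F247637) D56501 (iv D55813)
theorem F253755 : act 8 n56501 = n55185 := d33_2 (iv F247638) D56501 (iv D55185)
theorem F253756 : act 9 n56501 = n55638 := d34_2 (iv F247639) D56501 (iv D55638)
def n56502 : Q := act 4 n55181
theorem D56502 : act 4 n55181 = n56502 := rfl
theorem F253757 : act 0 n56502 = n55689 := d3_1 D56502 (iv D55689) (iv F247647)
theorem F253758 : act 2 n56502 = n55446 := d18_1 D56502 (iv D55446) (iv F247648)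
theorem F253759 : act 3 n56502 = n55665 := d24_1 D56502 (iv D55665) (iv D54145) (iv F240328) D55181
theorem F253760 : act 6 n56502 = n55182 := d31_2 (iv F247650) D56502 (iv D55182)
theorem F253761 : act 9 n56502 = n56502 := d34_2 F247651 D56502 (iv D56502)
def n56503 : Q := act 4 n55183
theorem D56503 : act 4 n55183 = n56503 := rfl
theorem F253762 : act 0 n56503 = n55744 := d3_1 D56503 (iv D55744) (iv F247656)
theorem F253763 : act 1 n56503 = n55256 := d11_1 D56503 (iv D55256) (iv F247657)
theorem F253764 : act 3 n56503 = n55742 := d24_1 D56503 (iv D55742) (iv D54238) (iv F240339) D55183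
theorem F253765 : act 7 n56503 = n55184 := d32_2 (iv F247659) D56503 (iv D55184)
theorem F253766 : act 9 n56503 = n56503 := d34_2 F247660 D56503 (iv D56503)
def n56504 : Q := act 3 n55185
theorem D56504 : act 3 n55185 = n56504 := rfl
theorem F253767 : act 4 n56504 = n55905 := d24_2 D55185 D56504 (iv D55905) F243483 (iv F240347)
theorem F253768 : act 5 n56504 = n55432 := d25_2 (iv F247665) D56504 (iv D55432)
theorem F253769 : act 7 n56504 = n55913 := d27_2 (iv F247666) D56504 F250366
theorem F253770 : act 9 n56504 = n56504 := d29_2 F247667 D56504 (iv D56504)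
def n56505 : Q := act 8 n55186
theorem D56505 : act 8 n55186 = n56505 := rfl
theorem F253771 : act 1 n56505 = n55212 := d15_1 D56505 (iv D55212) (iv F247668)
theorem F253772 : act 2 n56505 = n55723 := d22_1 D56505 (iv D55723) (iv F247669)
theorem F253773 : act 4 n56505 = n55187 := d33_1 D56505 (iv D55187) (iv F247671)
theorem F253774 : act 6 n56505 = n55766 := d40_1 D56505 (iv D55766) (iv F247672)
theorem F253775 : act 7 n56505 = n55188 := d42_1 D56505 (iv D55188) (iv F247673)
theorem F253776 : act 9 n56505 = n55193 := d44_2 D55186 D56505 (iv D55193) (iv D53607) (iv F240370)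
def n56506 : Q := act 3 n55188
theorem D56506 : act 3 n55188 = n56506 := rfl
theorem F253777 : act 1 n56506 = n55214 := d10_1 D56506 (iv D55214) (iv F247681)
theorem F253778 : act 4 n56506 = n55775 := d24_2 (iv F247682) D56506 (iv D55775) F243046 (iv F240381)
theorem F253779 : act 6 n56506 = n55756 := d26_2 (iv F247683) D56506 (iv D55756)
theorem F253780 : act 9 n56506 = n55197 := d29_2 (iv F247684) D56506 (iv D55197)
def n56507 : Q := act 8 n55189
theorem D56507 : act 8 n55189 = n56507 := rfl
theorem F253781 : act 1 n56507 = n55224 := d15_1 D56507 (iv D55224) (iv F247685)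
theorem F253782 : act 4 n56507 = n55190 := d33_1 D56507 (iv D55190) (iv F247686)
theorem F253783 : act 6 n56507 = n55193 := d40_1 D56507 (iv D55193) (iv F247687)
theorem F253784 : act 7 n56507 = n55769 := d42_1 D56507 (iv D55769) (iv F247688)
theorem F253785 : act 9 n56507 = n55766 := d44_2 D55189 D56507 (iv D55766) (iv D54269) (iv F240394)
def n56508 : Q := act 8 n55191
theorem D56508 : act 8 n55191 = n56508 := rfl
theorem F253786 : act 1 n56508 = n55727 := d15_1 D56508 (iv D55727) (iv F247694)
theorem F253787 : act 2 n56508 = n55193 := d22_1 D56508 (iv D55193) (iv F247695)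
theorem F253788 : act 4 n56508 = n55192 := d33_1 D56508 (iv D55192) (iv F247696)
theorem F253789 : act 7 n56508 = n55195 := d42_1 D56508 (iv D55195) (iv F247697)
theorem F253790 : act 9 n56508 = n55723 := d44_2 D55191 D56508 (iv D55723) (iv D54212) (iv F240403)
def n56509 : Q := act 3 n55192
theorem D56509 : act 3 n55192 = n56509 := rfl
theorem F253791 : act 1 n56509 = n55746 := d10_1 D56509 (iv D55746) (iv F247698)
theorem F253792 : act 5 n56509 = n55198 := d25_2 (iv F247700) D56509 (iv D55198)
theorem F253793 : act 7 n56509 = n55196 := d27_2 (iv F247701) D56509 (iv D55196)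
theorem F253794 : act 8 n56509 = n56509 := d28_2 D55192 D56509 (iv D56509) (iv D55192) F240406
theorem F253795 : act 9 n56509 = n55743 := d29_2 (iv F247702) D56509 (iv D55743)
def n56510 : Q := act 3 n55193
theorem D56510 : act 3 n55193 = n56510 := rfl
theorem F253796 : act 1 n56510 = n55232 := d10_1 D56510 (iv D55232) (iv F247703)
theorem F253797 : act 7 n56510 = n55197 := d27_2 (iv F247705) D56510 (iv D55197)
def n56511 : Q := act 8 n55194
theorem D56511 : act 8 n55194 = n56511 := rfl
theorem F253798 : act 4 n56511 = n56511 := d33_1 D56511 (iv D56511) F247707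
theorem F253799 : act 5 n56511 = n55754 := d37_1 D56511 (iv D55754) (iv F247708)
theorem F253800 : act 6 n56511 = n55776 := d40_1 D56511 (iv D55776) (iv F247709)
theorem F253801 : act 9 n56511 = n55761 := d44_2 D55194 D56511 (iv D55761) (iv D54263) F240418
def n56512 : Q := act 3 n55195
theorem D56512 : act 3 n55195 = n56512 := rfl
theorem F253802 : act 6 n56512 = n55778 := d26_2 (iv F247712) D56512 (iv D55778)
def n56513 : Q := act 4 n55196
theorem D56513 : act 4 n55196 = n56513 := rfl
theorem F253803 : act 6 n56513 = n55786 := d31_2 (iv F247714) D56513 (iv D55786)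
theorem F253804 : act 8 n56513 = n56513 := d33_2 F247715 D56513 (iv D56513)
def n56514 : Q := act 2 n55197
theorem D56514 : act 2 n55197 = n56514 := rfl
theorem F253805 : act 6 n56514 = n55780 := d20_2 (iv F247717) D56514 (iv D55780)
def n56515 : Q := act 9 n55199
theorem D56515 : act 9 n55199 = n56515 := rfl
theorem F253806 : act 0 n56515 = n55271 := d8_1 D56515 (iv D55271) (iv F247723)
theorem F253807 : act 1 n56515 = n55758 := d16_1 D56515 (iv D55758) (iv F247724)
theorem F253808 : act 2 n56515 = n55604 := d23_1 D56515 (iv D55604) (iv F247725)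
theorem F253809 : act 3 n56515 = n55211 := d29_1 D56515 (iv D55211) (iv F247726)
theorem F253810 : act 4 n56515 = n56515 := d34_1 D56515 (iv D56515) F247727
theorem F253811 : act 5 n56515 = n55200 := d38_1 D56515 (iv D55200) D55199
theorem F253812 : act 7 n56515 = n55205 := d43_1 D56515 (iv D55205) (iv F247728)
def n56516 : Q := act 8 n55200
theorem D56516 : act 8 n55200 = n56516 := rfl
theorem F253813 : act 0 n56516 = n55272 := d7_1 D56516 (iv D55272) (iv F247729)
theorem F253814 : act 1 n56516 = n55759 := d15_1 D56516 (iv D55759) (iv F247730)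
theorem F253815 : act 2 n56516 = n55606 := d22_1 D56516 (iv D55606) (iv F247731)
theorem F253816 : act 4 n56516 = n55201 := d33_1 D56516 (iv D55201) (iv F247733)
theorem F253817 : act 6 n56516 = n55764 := d40_1 D56516 (iv D55764) (iv F247734)
theorem F253818 : act 7 n56516 = n55206 := d42_1 D56516 (iv D55206) (iv F247735)
def n56517 : Q := act 9 n55202
theorem D56517 : act 9 n55202 = n56517 := rfl
theorem F253819 : act 0 n56517 = n55283 := d8_1 D56517 (iv D55283) (iv F247743)
theorem F253820 : act 1 n56517 = n55594 := d16_1 D56517 (iv D55594) (iv F247744)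
theorem F253821 : act 2 n56517 = n55205 := d23_1 D56517 (iv D55205) (iv F247745)
theorem F253822 : act 3 n56517 = n55590 := d29_1 D56517 (iv D55590) (iv F247746)
theorem F253823 : act 4 n56517 = n56517 := d34_1 D56517 (iv D56517) F247747
theorem F253824 : act 5 n56517 = n55203 := d38_1 D56517 (iv D55203) D55202
theorem F253825 : act 7 n56517 = n55604 := d43_1 D56517 (iv D55604) (iv F247748)
def n56518 : Q := act 8 n55203
theorem D56518 : act 8 n55203 = n56518 := rfl
theorem F253826 : act 0 n56518 = n55284 := d7_1 D56518 (iv D55284) (iv F247749)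
theorem F253827 : act 1 n56518 = n55596 := d15_1 D56518 (iv D55596) (iv F247750)
theorem F253828 : act 2 n56518 = n55206 := d22_1 D56518 (iv D55206) (iv F247751)
theorem F253829 : act 4 n56518 = n55204 := d33_1 D56518 (iv D55204) (iv F247753)
theorem F253830 : act 6 n56518 = n55787 := d40_1 D56518 (iv D55787) (iv F247754)
theorem F253831 : act 7 n56518 = n55606 := d42_1 D56518 (iv D55606) (iv F247755)
def n56519 : Q := act 3 n55204
theorem D56519 : act 3 n55204 = n56519 := rfl
theorem F253832 : act 0 n56519 = n55285 := d2_1 D56519 (iv D55285) (iv F247756)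
theorem F253833 : act 1 n56519 = n55644 := d10_1 D56519 (iv D55644) (iv F247757)
theorem F253834 : act 2 n56519 = n55688 := d17_1 D56519 (iv D55688) F242756 (iv F240469) (iv F247758)
theorem F253835 : act 5 n56519 = n56519 := d25_2 F247759 D56519 (iv D56519)
theorem F253836 : act 6 n56519 = n55788 := d26_2 (iv F247760) D56519 (iv D55788)
theorem F253837 : act 7 n56519 = n55648 := d27_2 (iv F247761) D56519 (iv D55648)
theorem F253838 : act 8 n56519 = n55439 := d28_2 D55204 D56519 (iv D55439) (iv D53855) (iv F240457)
def n56520 : Q := act 8 n55205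
theorem D56520 : act 8 n55205 = n56520 := rfl
theorem F253839 : act 0 n56520 = n55287 := d7_1 D56520 (iv D55287) (iv F247762)
theorem F253840 : act 4 n56520 = n56520 := d33_1 D56520 (iv D56520) F247764
theorem F253841 : act 5 n56520 = n55206 := d37_1 D56520 (iv D55206) (iv F247765)
def n56521 : Q := act 3 n55206
theorem D56521 : act 3 n55206 = n56521 := rfl
theorem F253842 : act 0 n56521 = n55288 := d2_1 D56521 (iv D55288) (iv F247766)
theorem F253843 : act 4 n56521 = n55777 := d24_2 (iv F247767) D56521 (iv D55777) F243050 (iv F240469)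
theorem F253844 : act 6 n56521 = n55789 := d26_2 (iv F247768) D56521 (iv D55789)
theorem F253845 : act 8 n56521 = n55214 := d28_2 D55206 D56521 (iv D55214) (iv D53628) (iv F240465)
def n56522 : Q := act 9 n55207
theorem D56522 : act 9 n55207 = n56522 := rfl
theorem F253846 : act 0 n56522 = n55292 := d8_1 D56522 (iv D55292) (iv F247769)
theorem F253847 : act 1 n56522 = n55765 := d16_1 D56522 (iv D55765) (iv F247770)
theorem F253848 : act 2 n56522 = n55367 := d23_1 D56522 (iv D55367) (iv F247771)
theorem F253849 : act 3 n56522 = n55763 := d29_1 D56522 (iv D55763) (iv F247772)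
theorem F253850 : act 4 n56522 = n56522 := d34_1 D56522 (iv D56522) F247773
theorem F253851 : act 5 n56522 = n55208 := d38_1 D56522 (iv D55208) D55207
theorem F253852 : act 7 n56522 = n55772 := d43_1 D56522 (iv D55772) (iv F247774)
def n56523 : Q := act 8 n55208
theorem D56523 : act 8 n55208 = n56523 := rfl
theorem F253853 : act 0 n56523 = n55293 := d7_1 D56523 (iv D55293) (iv F247776)
theorem F253854 : act 1 n56523 = n55766 := d15_1 D56523 (iv D55766) (iv F247777)
theorem F253855 : act 2 n56523 = n55368 := d22_1 D56523 (iv D55368) (iv F247778)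
theorem F253856 : act 4 n56523 = n55209 := d33_1 D56523 (iv D55209) (iv F247780)
theorem F253857 : act 6 n56523 = n55212 := d40_1 D56523 (iv D55212) (iv F247781)
theorem F253858 : act 7 n56523 = n55773 := d42_1 D56523 (iv D55773) (iv F247782)
theorem F253859 : act 9 n56523 = n55224 := d44_2 D55208 D56523 (iv D55224) (iv D53638) (iv F240478)
def n56524 : Q := act 9 n55210
theorem D56524 : act 9 n55210 = n56524 := rfl
theorem F253860 : act 0 n56524 = n55300 := d8_1 D56524 (iv D55300) (iv F247791)
theorem F253861 : act 2 n56524 = n55868 := d23_1 D56524 (iv D55868) (iv F247792)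
theorem F253862 : act 4 n56524 = n55215 := d34_1 D56524 (iv D55215) (iv F247793)
theorem F253863 : act 6 n56524 = n55211 := d41_1 D56524 (iv D55211) D55210
def n56525 : Q := act 8 n55211
theorem D56525 : act 8 n55211 = n56525 := rfl
theorem F253864 : act 0 n56525 = n55301 := d7_1 D56525 (iv D55301) (iv F247795)
theorem F253865 : act 2 n56525 = n55861 := d22_1 D56525 F250244 (iv F247796)
theorem F253866 : act 4 n56525 = n55216 := d33_1 D56525 (iv D55216) (iv F247797)
theorem F253867 : act 5 n56525 = n55212 := d37_1 D56525 (iv D55212) (iv F247798)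
theorem F253868 : act 7 n56525 = n55213 := d42_1 D56525 (iv D55213) (iv F247799)
theorem F253869 : act 9 n56525 = n55231 := d44_2 D55211 D56525 (iv D55231) (iv D53645) (iv F240490)
def n56526 : Q := act 3 n55212
theorem D56526 : act 3 n55212 = n56526 := rfl
theorem F253870 : act 0 n56526 = n55302 := d2_1 D56526 (iv D55302) (iv F247800)
theorem F253871 : act 4 n56526 = n55768 := d24_2 (iv F247802) D56526 (iv D55768) F243020 (iv F240497)
theorem F253872 : act 7 n56526 = n55214 := d27_2 (iv F247803) D56526 (iv D55214)
theorem F253873 : act 9 n56526 = n55232 := d29_2 (iv F247804) D56526 (iv D55232)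
def n56527 : Q := act 3 n55213
theorem D56527 : act 3 n55213 = n56527 := rfl
theorem F253874 : act 0 n56527 = n55314 := d2_1 D56527 (iv D55314) (iv F247805)
theorem F253875 : act 5 n56527 = n55214 := d25_2 (iv F247808) D56527 (iv D55214)
theorem F253876 : act 9 n56527 = n55242 := d29_2 (iv F247809) D56527 (iv D55242)
def n56528 : Q := act 2 n55214
theorem D56528 : act 2 n55214 = n56528 := rfl
theorem F253877 : act 0 n56528 = n55315 := d1_1 D56528 (iv D55315) (iv F247810)
theorem F253878 : act 3 n56528 = n55883 := d17_2 D55214 D56528 F250284 F243389 (iv F240506)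
theorem F253879 : act 4 n56528 = n55779 := d18_2 (iv F247811) D56528 (iv D55779)
theorem F253880 : act 6 n56528 = n55791 := d20_2 (iv F247812) D56528 (iv D55791)
theorem F253881 : act 9 n56528 = n55243 := d23_2 (iv F247813) D56528 (iv D55243)
def n56529 : Q := act 8 n55215
theorem D56529 : act 8 n55215 = n56529 := rfl
theorem F253882 : act 0 n56529 = n55320 := d7_1 D56529 (iv D55320) (iv F247814)
theorem F253883 : act 2 n56529 = n55894 := d22_1 D56529 F250308 (iv F247815)
theorem F253884 : act 5 n56529 = n56529 := d37_1 D56529 (iv D56529) F247817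
theorem F253885 : act 6 n56529 = n55216 := d40_1 D56529 (iv D55216) (iv F247818)
theorem F253886 : act 9 n56529 = n55247 := d44_2 D55215 D56529 (iv D55247) (iv D53660) (iv F240514)
def n56530 : Q := act 3 n55216
theorem D56530 : act 3 n55216 = n56530 := rfl
theorem F253887 : act 0 n56530 = n55321 := d2_1 D56530 (iv D55321) (iv F247819)
theorem F253888 : act 5 n56530 = n55217 := d25_2 (iv F247821) D56530 (iv D55217)
theorem F253889 : act 7 n56530 = n55218 := d27_2 (iv F247822) D56530 (iv D55218)
theorem F253890 : act 8 n56530 = n56530 := d28_2 D55216 D56530 (iv D56530) (iv D55216) F240517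
theorem F253891 : act 9 n56530 = n55248 := d29_2 (iv F247823) D56530 (iv D55248)
def n56531 : Q := act 2 n55217
theorem D56531 : act 2 n55217 = n56531 := rfl
theorem F253892 : act 0 n56531 = n55322 := d1_1 D56531 (iv D55322) (iv F247824)
theorem F253893 : act 3 n56531 = n55532 := d17_2 D55217 D56531 F249238 F243416 (iv F240521)
theorem F253894 : act 4 n56531 = n55531 := d18_2 (iv F247825) D56531 F249232
theorem F253895 : act 6 n56531 = n56531 := d20_2 F247826 D56531 (iv D56531)
theorem F253896 : act 7 n56531 = n55219 := d21_2 (iv F247827) D56531 (iv D55219)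
theorem F253897 : act 8 n56531 = n56531 := d22_2 F247828 D56531 (iv D56531)
theorem F253898 : act 9 n56531 = n55249 := d23_2 (iv F247829) D56531 (iv D55249)
def n56532 : Q := act 2 n55218
theorem D56532 : act 2 n55218 = n56532 := rfl
theorem F253899 : act 0 n56532 = n55328 := d1_1 D56532 (iv D55328) (iv F247830)
theorem F253900 : act 3 n56532 = n55535 := d17_2 D55218 D56532 F249251 F243444 (iv F240527)
theorem F253901 : act 5 n56532 = n55219 := d19_2 (iv F247831) D56532 (iv D55219)
theorem F253902 : act 8 n56532 = n56532 := d22_2 F247832 D56532 (iv D56532)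
theorem F253903 : act 9 n56532 = n55252 := d23_2 (iv F247833) D56532 (iv D55252)
def n56533 : Q := act 4 n55218
theorem D56533 : act 4 n55218 = n56533 := rfl
theorem F253904 : act 0 n56533 = n55329 := d3_1 D56533 (iv D55329) (iv F247830)
theorem F253905 : act 5 n56533 = n55786 := d30_2 (iv F247831) D56533 (iv D55786) F243083 (iv F240531)
theorem F253906 : act 8 n56533 = n56533 := d33_2 F247832 D56533 (iv D56533)
theorem F253907 : act 9 n56533 = n55253 := d34_2 (iv F247833) D56533 (iv D55253)
def n56534 : Q := act 9 n55220
theorem D56534 : act 9 n55220 = n56534 := rfl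
theorem F253908 : act 0 n56534 = n55338 := d8_1 D56534 (iv D55338) (iv F247840)
theorem F253909 : act 1 n56534 = n55376 := d16_1 D56534 (iv D55376) (iv F247841)
theorem F253910 : act 2 n56534 = n55223 := d23_1 D56534 (iv D55223) (iv F247842)
theorem F253911 : act 3 n56534 = n55616 := d29_1 D56534 (iv D55616) (iv F247843)
theorem F253912 : act 4 n56534 = n56534 := d34_1 D56534 (iv D56534) F247844
theorem F253913 : act 5 n56534 = n55221 := d38_1 D56534 (iv D55221) D55220
theorem F253914 : act 7 n56534 = n55611 := d43_1 D56534 (iv D55611) (iv F247845)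
def n56535 : Q := act 8 n55221
theorem D56535 : act 8 n55221 = n56535 := rfl
theorem F253915 : act 0 n56535 = n55339 := d7_1 D56535 (iv D55339) (iv F247847)
theorem F253916 : act 1 n56535 = n55378 := d15_1 D56535 (iv D55378) (iv F247848)
theorem F253917 : act 2 n56535 = n55224 := d22_1 D56535 (iv D55224) (iv F247849)
theorem F253918 : act 4 n56535 = n55222 := d33_1 D56535 (iv D55222) (iv F247850)
theorem F253919 : act 6 n56535 = n55229 := d40_1 D56535 (iv D55229) (iv F247851)
theorem F253920 : act 7 n56535 = n55792 := d42_1 D56535 (iv D55792) (iv F247852)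
theorem F253921 : act 9 n56535 = n55368 := d44_2 D55221 D56535 (iv D55368) (iv D53776) (iv F240546)
def n56536 : Q := act 8 n55223
theorem D56536 : act 8 n55223 = n56536 := rfl
theorem F253922 : act 0 n56536 = n55342 := d7_1 D56536 (iv D55342) (iv F247861)
theorem F253923 : act 4 n56536 = n56536 := d33_1 D56536 (iv D56536) F247862
theorem F253924 : act 5 n56536 = n55224 := d37_1 D56536 (iv D55224) (iv F247863)
theorem F253925 : act 7 n56536 = n55793 := d42_1 D56536 (iv D55793) (iv F247864)
def n56537 : Q := act 3 n55224
theorem D56537 : act 3 n55224 = n56537 := rfl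
theorem F253926 : act 0 n56537 = n55343 := d2_1 D56537 (iv D55343) (iv F247865)
theorem F253927 : act 6 n56537 = n55232 := d26_2 (iv F247867) D56537 (iv D55232)
theorem F253928 : act 7 n56537 = n55794 := d27_2 (iv F247868) D56537 (iv D55794)
def n56538 : Q := act 9 n55225
theorem D56538 : act 9 n55225 = n56538 := rfl
theorem F253929 : act 0 n56538 = n55353 := d8_1 D56538 (iv D55353) (iv F247869)
theorem F253930 : act 1 n56538 = n55831 := d16_1 D56538 (iv D55831) (iv F247870)
theorem F253931 : act 3 n56538 = n55228 := d29_1 D56538 (iv D55228) (iv F247871)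
theorem F253932 : act 4 n56538 = n56538 := d34_1 D56538 (iv D56538) F247872
theorem F253933 : act 5 n56538 = n55226 := d38_1 D56538 (iv D55226) D55225
theorem F253934 : act 7 n56538 = n55237 := d43_1 D56538 (iv D55237) (iv F247873)
def n56539 : Q := act 8 n55226
theorem D56539 : act 8 n55226 = n56539 := rfl
theorem F253935 : act 0 n56539 = n55355 := d7_1 D56539 (iv D55355) (iv F247875)
theorem F253936 : act 1 n56539 = n55833 := d15_1 D56539 (iv D55833) (iv F247876)
theorem F253937 : act 4 n56539 = n55258 := d33_1 D56539 (iv D55258) (iv F247878)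
theorem F253938 : act 7 n56539 = n55239 := d42_1 D56539 (iv D55239) (iv F247879)
theorem F253939 : act 9 n56539 = n55826 := d44_2 D55226 D56539 (iv D55826) (iv D54343) (iv F240569)
def n56540 : Q := act 9 n55227
theorem D56540 : act 9 n55227 = n56540 := rfl
theorem F253940 : act 0 n56540 = n55357 := d8_1 D56540 (iv D55357) (iv F247880)
theorem F253941 : act 1 n56540 = n55872 := d16_1 D56540 (iv D55872) (iv F247881)
theorem F253942 : act 2 n56540 = n55230 := d23_1 D56540 (iv D55230) (iv F247882)
theorem F253943 : act 4 n56540 = n55244 := d34_1 D56540 (iv D55244) (iv F247883)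
theorem F253944 : act 6 n56540 = n55228 := d41_1 D56540 (iv D55228) D55227
def n56541 : Q := act 8 n55228
theorem D56541 : act 8 n55228 = n56541 := rfl
theorem F253945 : act 0 n56541 = n55358 := d7_1 D56541 (iv D55358) (iv F247885)
theorem F253946 : act 1 n56541 = n55874 := d15_1 D56541 (iv D55874) (iv F247886)
theorem F253947 : act 2 n56541 = n55231 := d22_1 D56541 (iv D55231) (iv F247887)
theorem F253948 : act 4 n56541 = n55245 := d33_1 D56541 (iv D55245) (iv F247888)
theorem F253949 : act 5 n56541 = n55229 := d37_1 D56541 (iv D55229) (iv F247889)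
theorem F253950 : act 7 n56541 = n55240 := d42_1 D56541 (iv D55240) (iv F247890)
theorem F253951 : act 9 n56541 = n55861 := d44_2 D55228 D56541 F250244 (iv D54389) (iv F240575)
def n56542 : Q := act 3 n55229
theorem D56542 : act 3 n55229 = n56542 := rfl
theorem F253952 : act 0 n56542 = n55359 := d2_1 D56542 (iv D55359) (iv F247891)
theorem F253953 : act 1 n56542 = n55876 := d10_1 D56542 (iv D55876) (iv F247892)
theorem F253954 : act 4 n56542 = n55821 := d24_2 (iv F247894) D56542 (iv D55821) F243210 (iv F240584)
theorem F253955 : act 7 n56542 = n55241 := d27_2 (iv F247895) D56542 (iv D55241)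
theorem F253956 : act 9 n56542 = n55860 := d29_2 (iv F247896) D56542 F250238
def n56543 : Q := act 8 n55230
theorem D56543 : act 8 n55230 = n56543 := rfl
theorem F253957 : act 0 n56543 = n55362 := d7_1 D56543 (iv D55362) (iv F247897)
theorem F253958 : act 4 n56543 = n55247 := d33_1 D56543 (iv D55247) (iv F247898)
theorem F253959 : act 6 n56543 = n55231 := d40_1 D56543 (iv D55231) (iv F247899)
def n56544 : Q := act 3 n55231
theorem D56544 : act 3 n55231 = n56544 := rfl
theorem F253960 : act 0 n56544 = n55363 := d2_1 D56544 (iv D55363) (iv F247900)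
theorem F253961 : act 5 n56544 = n55232 := d25_2 (iv F247902) D56544 (iv D55232)
theorem F253962 : act 7 n56544 = n55242 := d27_2 (iv F247903) D56544 (iv D55242)
def n56545 : Q := act 2 n55232
theorem D56545 : act 2 n55232 = n56545 := rfl
theorem F253963 : act 0 n56545 = n55364 := d1_1 D56545 (iv D55364) (iv F247904)
theorem F253964 : act 7 n56545 = n55243 := d21_2 (iv F247905) D56545 (iv D55243)
def n56546 : Q := act 9 n55233
theorem D56546 : act 9 n55233 = n56546 := rfl
theorem F253965 : act 1 n56546 = n55357 := d16_1 D56546 (iv D55357) (iv F247906)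
theorem F253966 : act 2 n56546 = n55234 := d23_1 D56546 (iv D55234) D55233
theorem F253967 : act 3 n56546 = n55612 := d29_1 D56546 (iv D55612) (iv F247907)
theorem F253968 : act 4 n56546 = n55260 := d34_1 D56546 (iv D55260) (iv F247908)
theorem F253969 : act 5 n56546 = n55575 := d38_1 D56546 (iv D55575) (iv F247909)
theorem F253970 : act 6 n56546 = n55348 := d41_1 D56546 (iv D55348) (iv F247910)
theorem F253971 : act 7 n56546 = n55810 := d43_1 D56546 (iv D55810) (iv F247911)
def n56547 : Q := act 8 n55234
theorem D56547 : act 8 n55234 = n56547 := rfl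
theorem F253972 : act 1 n56547 = n55239 := d15_1 D56547 (iv D55239) (iv F247913)
theorem F253973 : act 4 n56547 = n55261 := d33_1 D56547 (iv D55261) (iv F247915)
theorem F253974 : act 6 n56547 = n55799 := d40_1 D56547 (iv D55799) (iv F247916)
theorem F253975 : act 7 n56547 = n55833 := d42_1 D56547 (iv D55833) (iv F247917)
theorem F253976 : act 9 n56547 = n55820 := d44_2 D55234 D56547 (iv D55820) (iv D54336) (iv F240601)
def n56548 : Q := act 3 n55235
theorem D56548 : act 3 n55235 = n56548 := rfl
theorem F253977 : act 1 n56548 = n55241 := d10_1 D56548 (iv D55241) (iv F247918)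
theorem F253978 : act 4 n56548 = n55828 := d24_2 (iv F247919) D56548 (iv D55828) F243231 (iv F240607)
theorem F253979 : act 6 n56548 = n55800 := d26_2 (iv F247920) D56548 (iv D55800)
theorem F253980 : act 7 n56548 = n55876 := d27_2 (iv F247921) D56548 (iv D55876)
theorem F253981 : act 9 n56548 = n55857 := d29_2 (iv F247922) D56548 (iv D55857)
def n56549 : Q := act 9 n55236
theorem D56549 : act 9 n55236 = n56549 := rfl
theorem F253982 : act 0 n56549 = n55376 := d8_1 D56549 (iv D55376) (iv F247923)
theorem F253983 : act 1 n56549 = n55554 := d16_1 D56549 (iv D55554) (iv F247924)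
theorem F253984 : act 3 n56549 = n55552 := d29_1 D56549 (iv D55552) (iv F247925)
theorem F253985 : act 4 n56549 = n56549 := d34_1 D56549 (iv D56549) F247926
theorem F253986 : act 5 n56549 = n55238 := d38_1 D56549 (iv D55238) (iv F247927)
theorem F253987 : act 7 n56549 = n55825 := d43_1 D56549 (iv D55825) (iv F247928)
def n56550 : Q := act 8 n55237
theorem D56550 : act 8 n55237 = n56550 := rfl
theorem F253988 : act 0 n56550 = n55377 := d7_1 D56550 (iv D55377) (iv F247929)
theorem F253989 : act 4 n56550 = n56550 := d33_1 D56550 (iv D56550) F247931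
theorem F253990 : act 5 n56550 = n55239 := d37_1 D56550 (iv D55239) (iv F247932)
def n56551 : Q := act 8 n55238
theorem D56551 : act 8 n55238 = n56551 := rfl
theorem F253991 : act 0 n56551 = n55378 := d7_1 D56551 (iv D55378) (iv F247933)
theorem F253992 : act 1 n56551 = n55820 := d15_1 D56551 (iv D55820) (iv F247934)
theorem F253993 : act 4 n56551 = n55262 := d33_1 D56551 (iv D55262) (iv F247936)
theorem F253994 : act 6 n56551 = n55801 := d40_1 D56551 (iv D55801) (iv F247937)
theorem F253995 : act 7 n56551 = n55826 := d42_1 D56551 (iv D55826) (iv F247938)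
theorem F253996 : act 9 n56551 = n55239 := d44_2 D55238 D56551 (iv D55239) (iv D53652) D53651
def n56552 : Q := act 3 n55239
theorem D56552 : act 3 n55239 = n56552 := rfl
theorem F253997 : act 0 n56552 = n55379 := d2_1 D56552 (iv D55379) (iv F247939)
theorem F253998 : act 4 n56552 = n55834 := d24_2 (iv F247940) D56552 (iv D55834) F243243 (iv F240756)
theorem F253999 : act 6 n56552 = n55802 := d26_2 (iv F247941) D56552 (iv D55802)
theorem F254000 : act 8 n56552 = n55241 := d28_2 D55239 D56552 (iv D55241) (iv D53654) (iv F240622)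
def n56553 : Q := act 3 n55240
theorem D56553 : act 3 n55240 = n56553 := rfl
theorem F254001 : act 0 n56553 = n55382 := d2_1 D56553 (iv D55382) (iv F247942)
theorem F254002 : act 5 n56553 = n55241 := d25_2 (iv F247945) D56553 (iv D55241)
theorem F254003 : act 9 n56553 = n55884 := d29_2 (iv F247946) D56553 F250285
def n56554 : Q := act 2 n55241
theorem D56554 : act 2 n55241 = n56554 := rfl
theorem F254004 : act 0 n56554 = n55383 := d1_1 D56554 (iv D55383) (iv F247947)
theorem F254005 : act 3 n56554 = n55243 := d17_2 D55241 D56554 (iv D55243) (iv D53656) (iv F240630)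
theorem F254006 : act 4 n56554 = n55838 := d18_2 (iv F247948) D56554 (iv D55838)
theorem F254007 : act 6 n56554 = n55803 := d20_2 (iv F247949) D56554 (iv D55803)
theorem F254008 : act 9 n56554 = n55883 := d23_2 (iv F247950) D56554 F250284
def n56555 : Q := act 2 n55242
theorem D56555 : act 2 n55242 = n56555 := rfl
theorem F254009 : act 0 n56555 = n55388 := d1_1 D56555 (iv D55388) (iv F247951)
theorem F254010 : act 5 n56555 = n55243 := d19_2 (iv F247952) D56555 (iv D55243)
def n56556 : Q := act 4 n55242
theorem D56556 : act 4 n55242 = n56556 := rfl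
theorem F254011 : act 0 n56556 = n55389 := d3_1 D56556 (iv D55389) (iv F247951)
theorem F254012 : act 3 n56556 = n55253 := d24_1 D56556 (iv D55253) (iv D53665) (iv F240635) D55242
def n56557 : Q := act 1 n55243
theorem D56557 : act 1 n55243 = n56557 := rfl
theorem F254013 : act 6 n56557 = n55804 := d13_2 (iv F247954) D56557 (iv D55804)
def n56558 : Q := act 8 n55244
theorem D56558 : act 8 n55244 = n56558 := rfl
theorem F254014 : act 0 n56558 = n55394 := d7_1 D56558 (iv D55394) (iv F247955)
theorem F254015 : act 1 n56558 = n55917 := d15_1 D56558 (iv D55917) (iv F247956)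
theorem F254016 : act 2 n56558 = n55247 := d22_1 D56558 (iv D55247) (iv F247957)
theorem F254017 : act 5 n56558 = n56558 := d37_1 D56558 (iv D56558) F247959
theorem F254018 : act 6 n56558 = n55245 := d40_1 D56558 (iv D55245) (iv F247960)
theorem F254019 : act 9 n56558 = n55894 := d44_2 D55244 D56558 F250308 F243460 (iv F240644)
def n56559 : Q := act 3 n55245
theorem D56559 : act 3 n55245 = n56559 := rfl
theorem F254020 : act 0 n56559 = n55395 := d2_1 D56559 (iv D55395) (iv F247961)
theorem F254021 : act 1 n56559 = n55919 := d10_1 D56559 (iv D55919) (iv F247962)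
theorem F254022 : act 5 n56559 = n55246 := d25_2 (iv F247964) D56559 (iv D55246)
theorem F254023 : act 7 n56559 = n55250 := d27_2 (iv F247965) D56559 (iv D55250)
theorem F254024 : act 8 n56559 = n56559 := d28_2 D55245 D56559 (iv D56559) (iv D55245) F240648
theorem F254025 : act 9 n56559 = n55893 := d29_2 (iv F247966) D56559 F250303
def n56560 : Q := act 2 n55246
theorem D56560 : act 2 n55246 = n56560 := rfl
theorem F254026 : act 0 n56560 = n55396 := d1_1 D56560 (iv D55396) (iv F247967)
theorem F254027 : act 3 n56560 = n55249 := d17_2 D55246 D56560 (iv D55249) (iv D53662) (iv F240653)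
theorem F254028 : act 4 n56560 = n55503 := d18_2 (iv F247969) D56560 F249114
theorem F254029 : act 6 n56560 = n56560 := d20_2 F247970 D56560 (iv D56560)
theorem F254030 : act 7 n56560 = n55251 := d21_2 (iv F247971) D56560 (iv D55251)
theorem F254031 : act 8 n56560 = n56560 := d22_2 F247972 D56560 (iv D56560)
theorem F254032 : act 9 n56560 = n55532 := d23_2 (iv F247973) D56560 F249238
def n56561 : Q := act 3 n55247
theorem D56561 : act 3 n55247 = n56561 := rfl
theorem F254033 : act 0 n56561 = n55399 := d2_1 D56561 (iv D55399) (iv F247974)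
theorem F254034 : act 5 n56561 = n56561 := d25_2 F247975 D56561 (iv D56561)
theorem F254035 : act 6 n56561 = n55248 := d26_2 (iv F247976) D56561 (iv D55248)
theorem F254036 : act 8 n56561 = n55254 := d28_2 D55247 D56561 (iv D55254) (iv D53668) (iv F240659)
def n56562 : Q := act 2 n55248
theorem D56562 : act 2 n55248 = n56562 := rfl
theorem F254037 : act 0 n56562 = n55400 := d1_1 D56562 (iv D55400) (iv F247977)
theorem F254038 : act 5 n56562 = n55249 := d19_2 (iv F247978) D56562 (iv D55249)
theorem F254039 : act 7 n56562 = n55252 := d21_2 (iv F247979) D56562 (iv D55252)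
theorem F254040 : act 8 n56562 = n55255 := d22_2 (iv F247980) D56562 (iv D55255)
def n56563 : Q := act 4 n55248
theorem D56563 : act 4 n55248 = n56563 := rfl
theorem F254041 : act 0 n56563 = n55401 := d3_1 D56563 (iv D55401) (iv F247977)
theorem F254042 : act 7 n56563 = n55253 := d32_2 (iv F247979) D56563 (iv D55253)
theorem F254043 : act 8 n56563 = n55256 := d33_2 (iv F247980) D56563 (iv D55256)
def n56564 : Q := act 2 n55250
theorem D56564 : act 2 n55250 = n56564 := rfl
theorem F254044 : act 0 n56564 = n55408 := d1_1 D56564 (iv D55408) (iv F247986)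
theorem F254045 : act 3 n56564 = n55252 := d17_2 D55250 D56564 (iv D55252) (iv D53665) (iv F240670)
theorem F254046 : act 5 n56564 = n55251 := d19_2 (iv F247987) D56564 (iv D55251)
theorem F254047 : act 8 n56564 = n56564 := d22_2 F247988 D56564 (iv D56564)
theorem F254048 : act 9 n56564 = n55535 := d23_2 (iv F247989) D56564 F249251
def n56565 : Q := act 4 n55250
theorem D56565 : act 4 n55250 = n56565 := rfl
theorem F254049 : act 0 n56565 = n55409 := d3_1 D56565 (iv D55409) (iv F247986)
theorem F254050 : act 5 n56565 = n55848 := d30_2 (iv F247987) D56565 (iv D55848) F243293 (iv F240674)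
theorem F254051 : act 8 n56565 = n56565 := d33_2 F247988 D56565 (iv D56565)
theorem F254052 : act 9 n56565 = n55900 := d34_2 (iv F247989) D56565 F250323
def n56566 : Q := act 4 n55252
theorem D56566 : act 4 n55252 = n56566 := rfl
theorem F254053 : act 0 n56566 = n55415 := d3_1 D56566 (iv D55415) (iv F247996)
theorem F254054 : act 2 n56566 = n55253 := d18_1 D56566 (iv D55253) D55252
theorem F254055 : act 8 n56566 = n55257 := d33_2 (iv F247998) D56566 (iv D55257)
def n56567 : Q := act 2 n55254
theorem D56567 : act 2 n55254 = n56567 := rfl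
theorem F254056 : act 0 n56567 = n55422 := d1_1 D56567 (iv D55422) (iv F248001)
theorem F254057 : act 3 n56567 = n56567 := d17_2 D55254 D56567 (iv D56567) (iv D55254) F240691
theorem F254058 : act 5 n56567 = n56567 := d19_2 F248002 D56567 (iv D56567)
theorem F254059 : act 6 n56567 = n55255 := d20_2 (iv F248003) D56567 (iv D55255)
theorem F254060 : act 9 n56567 = n56567 := d23_2 F248004 D56567 (iv D56567)
def n56568 : Q := act 4 n55254
theorem D56568 : act 4 n55254 = n56568 := rfl
theorem F254061 : act 0 n56568 = n55423 := d3_1 D56568 (iv D55423) (iv F248001)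
theorem F254062 : act 6 n56568 = n55256 := d31_2 (iv F248003) D56568 (iv D55256)
theorem F254063 : act 9 n56568 = n56568 := d34_2 F248004 D56568 (iv D56568)
def n56569 : Q := act 4 n55255
theorem D56569 : act 4 n55255 = n56569 := rfl
theorem F254064 : act 0 n56569 = n55425 := d3_1 D56569 (iv D55425) (iv F248005)
theorem F254065 : act 2 n56569 = n55256 := d18_1 D56569 (iv D55256) D55255
theorem F254066 : act 5 n56569 = n55902 := d30_2 (iv F248007) D56569 (iv D55902) F243462 (iv F240701)
theorem F254067 : act 7 n56569 = n55257 := d32_2 (iv F248008) D56569 (iv D55257)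
theorem F254068 : act 9 n56569 = n56569 := d34_2 F248009 D56569 (iv D56569)
def n56570 : Q := act 3 n55257
theorem D56570 : act 3 n55257 = n56570 := rfl
theorem F254069 : act 0 n56570 = n55432 := d2_1 D56570 (iv D55432) (iv F248013)
theorem F254070 : act 4 n56570 = n56570 := d24_2 D55257 D56570 (iv D56570) (iv D55257) F240706
theorem F254071 : act 9 n56570 = n56570 := d29_2 F248015 D56570 (iv D56570)
def n56571 : Q := act 8 n55259
theorem D56571 : act 8 n55259 = n56571 := rfl
theorem F254072 : act 0 n56571 = n55261 := d7_1 D56571 (iv D55261) (iv F248022)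
theorem F254073 : act 1 n56571 = n55290 := d15_1 D56571 (iv D55290) (iv F248023)
theorem F254074 : act 3 n56571 = n55433 := d28_1 D56571 (iv D55433) F241419 (iv F240737) (iv F248024)
theorem F254075 : act 5 n56571 = n56571 := d37_1 D56571 (iv D56571) F248025
theorem F254076 : act 6 n56571 = n55295 := d40_1 D56571 (iv D55295) (iv F248026)
theorem F254077 : act 7 n56571 = n55434 := d42_1 D56571 F248781 (iv F248027)
theorem F254078 : act 9 n56571 = n55335 := d44_2 D55259 D56571 (iv D55335) (iv D53748) (iv F240729)
def n56572 : Q := act 8 n55260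
theorem D56572 : act 8 n55260 = n56572 := rfl
theorem F254079 : act 1 n56572 = n55394 := d15_1 D56572 (iv D55394) (iv F248028)
theorem F254080 : act 2 n56572 = n55261 := d22_1 D56572 (iv D55261) (iv F248029)
theorem F254081 : act 5 n56572 = n56572 := d37_1 D56572 (iv D56572) F248031
theorem F254082 : act 6 n56572 = n55391 := d40_1 D56572 (iv D55391) (iv F248032)
theorem F254083 : act 7 n56572 = n55911 := d42_1 D56572 (iv D55911) (iv F248033)
theorem F254084 : act 9 n56572 = n55904 := d44_2 D55260 D56572 (iv D55904) (iv D54432) (iv F240743)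
def n56573 : Q := act 8 n55263
theorem D56573 : act 8 n55263 = n56573 := rfl
theorem F254085 : act 0 n56573 = n55764 := d7_1 D56573 (iv D55764) (iv F248047)
theorem F254086 : act 1 n56573 = n55839 := d15_1 D56573 (iv D55839) (iv F248048)
theorem F254087 : act 4 n56573 = n55264 := d33_1 D56573 (iv D55264) (iv F248050)
theorem F254088 : act 6 n56573 = n55272 := d40_1 D56573 (iv D55272) (iv F248051)
theorem F254089 : act 7 n56573 = n55580 := d42_1 D56573 (iv D55580) (iv F248052)
theorem F254090 : act 9 n56573 = n55622 := d44_2 D55263 D56573 (iv D55622) (iv D54075) (iv F240764)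
def n56574 : Q := act 9 n55265
theorem D56574 : act 9 n55265 = n56574 := rfl
theorem F254091 : act 0 n56574 = n55519 := d8_1 D56574 (iv D55519) (iv F248059)
theorem F254092 : act 1 n56574 = n55268 := d16_1 D56574 (iv D55268) (iv F248060)
theorem F254093 : act 3 n56574 = n55309 := d29_1 D56574 (iv D55309) (iv F248061)
theorem F254094 : act 4 n56574 = n55266 := d34_1 D56574 (iv D55266) D55265
theorem F254095 : act 5 n56574 = n55830 := d38_1 D56574 (iv D55830) F248064
theorem F254096 : act 6 n56574 = n55306 := d41_1 D56574 (iv D55306) (iv F248062)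
theorem F254097 : act 7 n56574 = n55277 := d43_1 D56574 (iv D55277) (iv F248063)
def n56575 : Q := act 8 n55266
theorem D56575 : act 8 n55266 = n56575 := rfl
theorem F254098 : act 0 n56575 = n55542 := d7_1 D56575 (iv D55542) (iv F248065)
theorem F254099 : act 1 n56575 = n55269 := d15_1 D56575 (iv D55269) (iv F248066)
theorem F254100 : act 5 n56575 = n56575 := d37_1 D56575 (iv D56575) F248068
theorem F254101 : act 6 n56575 = n55889 := d40_1 D56575 (iv D55889) (iv F248069)
theorem F254102 : act 7 n56575 = n55278 := d42_1 D56575 (iv D55278) (iv F248070)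
def n56576 : Q := act 9 n55267
theorem D56576 : act 9 n55267 = n56576 := rfl
theorem F254103 : act 0 n56576 = n55604 := d8_1 D56576 (iv D55604) (iv F248071)
theorem F254104 : act 1 n56576 = n55830 := d16_1 D56576 (iv D55830) (iv F248072)
theorem F254105 : act 2 n56576 = n55271 := d23_1 D56576 (iv D55271) (iv F248073)
theorem F254106 : act 3 n56576 = n55602 := d29_1 D56576 (iv D55602) (iv F248074)
theorem F254107 : act 4 n56576 = n56576 := d34_1 D56576 (iv D56576) F248075
theorem F254108 : act 5 n56576 = n55268 := d38_1 D56576 (iv D55268) D55267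
theorem F254109 : act 6 n56576 = n55825 := d41_1 D56576 (iv D55825) (iv F248076)
theorem F254110 : act 7 n56576 = n55283 := d43_1 D56576 (iv D55283) (iv F248077)
def n56577 : Q := act 8 n55268
theorem D56577 : act 8 n55268 = n56577 := rfl
theorem F254111 : act 0 n56577 = n55606 := d7_1 D56577 (iv D55606) (iv F248078)
theorem F254112 : act 2 n56577 = n55272 := d22_1 D56577 (iv D55272) (iv F248079)
theorem F254113 : act 4 n56577 = n55269 := d33_1 D56577 (iv D55269) (iv F248081)
theorem F254114 : act 7 n56577 = n55284 := d42_1 D56577 (iv D55284) (iv F248082)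
def n56578 : Q := act 3 n55269
theorem D56578 : act 3 n55269 = n56578 := rfl
theorem F254115 : act 0 n56578 = n55648 := d2_1 D56578 (iv D55648) (iv F248083)
theorem F254116 : act 5 n56578 = n56578 := d25_2 F248085 D56578 (iv D56578)
theorem F254117 : act 7 n56578 = n55285 := d27_2 (iv F248086) D56578 (iv D55285)
theorem F254118 : act 8 n56578 = n55441 := d28_2 D55269 D56578 (iv D55441) (iv D53857) (iv F240782)
def n56579 : Q := act 9 n55270
theorem D56579 : act 9 n55270 = n56579 := rfl
theorem F254119 : act 2 n56579 = n55825 := d23_1 D56579 (iv D55825) (iv F248087)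
theorem F254120 : act 3 n56579 = n55300 := d29_1 D56579 (iv D55300) (iv F248088)
theorem F254121 : act 4 n56579 = n56579 := d34_1 D56579 (iv D56579) F248089
theorem F254122 : act 5 n56579 = n55824 := d38_1 D56579 (iv D55824) (iv F248090)
theorem F254123 : act 6 n56579 = n55271 := d41_1 D56579 (iv D55271) D55270
def n56580 : Q := act 8 n55271
theorem D56580 : act 8 n55271 = n56580 := rfl
theorem F254124 : act 4 n56580 = n56580 := d33_1 D56580 (iv D56580) F248092
theorem F254125 : act 5 n56580 = n55272 := d37_1 D56580 (iv D55272) (iv F248093)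
theorem F254126 : act 7 n56580 = n55287 := d42_1 D56580 (iv D55287) (iv F248094)
def n56581 : Q := act 3 n55272
theorem D56581 : act 3 n55272 = n56581 := rfl
theorem F254127 : act 7 n56581 = n55288 := d27_2 (iv F248096) D56581 (iv D55288)
theorem F254128 : act 8 n56581 = n55302 := d28_2 D55272 D56581 (iv D55302) (iv D53711) (iv F240788)
def n56582 : Q := act 9 n55273
theorem D56582 : act 9 n55273 = n56582 := rfl
theorem F254129 : act 0 n56582 = n55277 := d8_1 D56582 (iv D55277) (iv F248097)
theorem F254130 : act 1 n56582 = n55513 := d16_1 D56582 (iv D55513) (iv F248098)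
theorem F254131 : act 3 n56582 = n55510 := d29_1 D56582 (iv D55510) (iv F248099)
theorem F254132 : act 4 n56582 = n55274 := d34_1 D56582 (iv D55274) D55273
theorem F254133 : act 6 n56582 = n55805 := d41_1 D56582 (iv D55805) (iv F248100)
theorem F254134 : act 7 n56582 = n55519 := d43_1 D56582 (iv D55519) (iv F248101)
def n56583 : Q := act 8 n55274
theorem D56583 : act 8 n55274 = n56583 := rfl
theorem F254135 : act 0 n56583 = n55278 := d7_1 D56583 (iv D55278) (iv F248102)
theorem F254136 : act 1 n56583 = n55539 := d15_1 D56583 (iv D55539) (iv F248103)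
theorem F254137 : act 5 n56583 = n56583 := d37_1 D56583 (iv D56583) F248105
theorem F254138 : act 6 n56583 = n55806 := d40_1 D56583 (iv D55806) (iv F248106)
theorem F254139 : act 7 n56583 = n55542 := d42_1 D56583 (iv D55542) (iv F248107)
def n56584 : Q := act 9 n55275
theorem D56584 : act 9 n55275 = n56584 := rfl
theorem F254140 : act 0 n56584 = n55510 := d8_1 D56584 (iv D55510) (iv F248108)
theorem F254141 : act 1 n56584 = n55281 := d16_1 D56584 (iv D55281) (iv F248109)
theorem F254142 : act 2 n56584 = n55312 := d23_1 D56584 (iv D55312) (iv F248113)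
theorem F254143 : act 3 n56584 = n55277 := d29_1 D56584 (iv D55277) D55275
theorem F254144 : act 4 n56584 = n55323 := d34_1 D56584 (iv D55323) (iv F248110)
theorem F254145 : act 5 n56584 = n55835 := d38_1 D56584 (iv D55835) F248114
theorem F254146 : act 6 n56584 = n55807 := d41_1 D56584 (iv D55807) (iv F248111)
theorem F254147 : act 7 n56584 = n55309 := d43_1 D56584 (iv D55309) (iv F248112)
def n56585 : Q := act 9 n55276
theorem D56585 : act 9 n55276 = n56585 := rfl
theorem F254148 : act 1 n56585 = n55283 := d16_1 D56585 (iv D55283) (iv F248116)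
theorem F254149 : act 3 n56585 = n55835 := d29_1 D56585 (iv D55835) (iv F248117)
theorem F254150 : act 4 n56585 = n56585 := d34_1 D56585 (iv D56585) F248118
theorem F254151 : act 5 n56585 = n55277 := d38_1 D56585 (iv D55277) D55276
theorem F254152 : act 7 n56585 = n55830 := d43_1 D56585 (iv D55830) (iv F248119)
def n56586 : Q := act 8 n55277
theorem D56586 : act 8 n55277 = n56586 := rfl
theorem F254153 : act 1 n56586 = n55284 := d15_1 D56586 (iv D55284) (iv F248120)
theorem F254154 : act 4 n56586 = n55278 := d33_1 D56586 (iv D55278) (iv F248121)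
theorem F254155 : act 6 n56586 = n55808 := d40_1 D56586 (iv D55808) (iv F248122)
def n56587 : Q := act 3 n55278
theorem D56587 : act 3 n55278 = n56587 := rfl
theorem F254156 : act 1 n56587 = n55285 := d10_1 D56587 (iv D55285) (iv F248123)
theorem F254157 : act 5 n56587 = n56587 := d25_2 F248124 D56587 (iv D56587)
theorem F254158 : act 6 n56587 = n55809 := d26_2 (iv F248125) D56587 (iv D55809)
theorem F254159 : act 8 n56587 = n55444 := d28_2 D55278 D56587 (iv D55444) (iv D53860) (iv F240801)
def n56588 : Q := act 9 n55279
theorem D56588 : act 9 n55279 = n56588 := rfl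
theorem F254160 : act 0 n56588 = n55590 := d8_1 D56588 (iv D55590) (iv F248126)
theorem F254161 : act 1 n56588 = n55835 := d16_1 D56588 (iv D55835) (iv F248127)
theorem F254162 : act 2 n56588 = n55306 := d23_1 D56588 (iv D55306) (iv F248128)
theorem F254163 : act 3 n56588 = n55283 := d29_1 D56588 (iv D55283) (iv F248129)
theorem F254164 : act 4 n56588 = n55626 := d34_1 D56588 (iv D55626) (iv F248130)
theorem F254165 : act 5 n56588 = n55281 := d38_1 D56588 (iv D55281) D55279
theorem F254166 : act 7 n56588 = n55602 := d43_1 D56588 (iv D55602) (iv F248131)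
def n56589 : Q := act 9 n55280
theorem D56589 : act 9 n55280 = n56589 := rfl
theorem F254167 : act 0 n56589 = n55563 := d8_1 D56589 (iv D55563) (iv F248133)
theorem F254168 : act 1 n56589 = n55380 := d16_1 D56589 (iv D55380) (iv F248134)
theorem F254169 : act 2 n56589 = n55307 := d23_1 D56589 (iv D55307) (iv F248135)
theorem F254170 : act 4 n56589 = n55403 := d34_1 D56589 (iv D55403) (iv F248136)
theorem F254171 : act 5 n56589 = n55805 := d38_1 D56589 (iv D55805) (iv F248137)
theorem F254172 : act 6 n56589 = n55810 := d41_1 D56589 (iv D55810) (iv F248138)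
theorem F254173 : act 7 n56589 = n55369 := d43_1 D56589 (iv D55369) (iv F248139)
def n56590 : Q := act 8 n55281
theorem D56590 : act 8 n55281 = n56590 := rfl
theorem F254174 : act 0 n56590 = n55591 := d7_1 D56590 (iv D55591) (iv F248140)
theorem F254175 : act 2 n56590 = n55308 := d22_1 D56590 (iv D55308) (iv F248141)
theorem F254176 : act 4 n56590 = n55445 := d33_1 D56590 (iv D55445) (iv F248143)
theorem F254177 : act 6 n56590 = n55811 := d40_1 D56590 (iv D55811) (iv F248144)
theorem F254178 : act 7 n56590 = n55603 := d42_1 D56590 (iv D55603) (iv F248145)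
def n56591 : Q := act 9 n55282
theorem D56591 : act 9 n55282 = n56591 := rfl
theorem F254179 : act 2 n56591 = n55286 := d23_1 D56591 (iv D55286) (iv F248146)
theorem F254180 : act 4 n56591 = n56591 := d34_1 D56591 (iv D56591) F248147
theorem F254181 : act 5 n56591 = n55559 := d38_1 D56591 (iv D55559) (iv F248148)
theorem F254182 : act 6 n56591 = n55283 := d41_1 D56591 (iv D55283) D55282
def n56592 : Q := act 8 n55283
theorem D56592 : act 8 n55283 = n56592 := rfl
theorem F254183 : act 2 n56592 = n55287 := d22_1 D56592 (iv D55287) (iv F248150)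
theorem F254184 : act 4 n56592 = n56592 := d33_1 D56592 (iv D56592) F248151
theorem F254185 : act 5 n56592 = n55284 := d37_1 D56592 (iv D55284) (iv F248152)
def n56593 : Q := act 3 n55284
theorem D56593 : act 3 n55284 = n56593 := rfl
theorem F254186 : act 6 n56593 = n55812 := d26_2 (iv F248155) D56593 (iv D55812)
def n56594 : Q := act 4 n55285
theorem D56594 : act 4 n55285 = n56594 := rfl
theorem F254187 : act 6 n56594 = n55813 := d31_2 (iv F248157) D56594 (iv D55813)
theorem F254188 : act 8 n56594 = n55446 := d33_2 (iv F248158) D56594 (iv D55446)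
def n56595 : Q := act 8 n55286
theorem D56595 : act 8 n55286 = n56595 := rfl
theorem F254189 : act 1 n56595 = n55817 := d15_1 D56595 (iv D55817) (iv F248159)
theorem F254190 : act 4 n56595 = n56595 := d33_1 D56595 (iv D56595) F248161
theorem F254191 : act 5 n56595 = n55561 := d37_1 D56595 (iv D55561) (iv F248162)
theorem F254192 : act 6 n56595 = n55287 := d40_1 D56595 (iv D55287) (iv F248163)
theorem F254193 : act 9 n56595 = n55588 := d44_2 D55286 D56595 (iv D55588) (iv D54042) (iv F240821)
def n56596 : Q := act 3 n55287
theorem D56596 : act 3 n55287 = n56596 := rfl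
theorem F254194 : act 5 n56596 = n55288 := d25_2 (iv F248165) D56596 (iv D55288)
theorem F254195 : act 8 n56596 = n55314 := d28_2 D55287 D56596 (iv D55314) (iv D53723) (iv F240822)
def n56597 : Q := act 2 n55288
theorem D56597 : act 2 n55288 = n56597 := rfl
theorem F254196 : act 6 n56597 = n55814 := d20_2 (iv F248166) D56597 (iv D55814)
theorem F254197 : act 8 n56597 = n55315 := d22_2 (iv F248167) D56597 (iv D55315)
def n56598 : Q := act 8 n55289
theorem D56598 : act 8 n55289 = n56598 := rfl
theorem F254198 : act 0 n56598 = n55368 := d7_1 D56598 (iv D55368) (iv F248168)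
theorem F254199 : act 2 n56598 = n55293 := d22_1 D56598 (iv D55293) (iv F248169)
theorem F254200 : act 4 n56598 = n55290 := d33_1 D56598 (iv D55290) (iv F248171)
theorem F254201 : act 6 n56598 = n55298 := d40_1 D56598 (iv D55298) (iv F248172)
theorem F254202 : act 7 n56598 = n55816 := d42_1 D56598 (iv D55816) (iv F248173)
theorem F254203 : act 9 n56598 = n55339 := d44_2 D55289 D56598 (iv D55339) (iv D53751) (iv F240832)
def n56599 : Q := act 9 n55291
theorem D56599 : act 9 n55291 = n56599 := rfl
theorem F254204 : act 2 n56599 = n55570 := d23_1 D56599 (iv D55570) (iv F248181)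
theorem F254205 : act 3 n56599 = n55824 := d29_1 D56599 (iv D55824) (iv F248182)
theorem F254206 : act 4 n56599 = n56599 := d34_1 D56599 (iv D56599) F248183
theorem F254207 : act 5 n56599 = n55300 := d38_1 D56599 (iv D55300) (iv F248184)
theorem F254208 : act 6 n56599 = n55292 := d41_1 D56599 (iv D55292) D55291
def n56600 : Q := act 8 n55292
theorem D56600 : act 8 n55292 = n56600 := rfl
theorem F254209 : act 4 n56600 = n56600 := d33_1 D56600 (iv D56600) F248186
theorem F254210 : act 5 n56600 = n55293 := d37_1 D56600 (iv D55293) (iv F248187)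
theorem F254211 : act 7 n56600 = n55817 := d42_1 D56600 (iv D55817) (iv F248188)
theorem F254212 : act 9 n56600 = n55342 := d44_2 D55292 D56600 (iv D55342) (iv D53754) (iv F240841)
def n56601 : Q := act 3 n55293
theorem D56601 : act 3 n55293 = n56601 := rfl
theorem F254213 : act 6 n56601 = n55302 := d26_2 (iv F248190) D56601 (iv D55302)
theorem F254214 : act 7 n56601 = n55818 := d27_2 (iv F248191) D56601 (iv D55818)
theorem F254215 : act 9 n56601 = n55343 := d29_2 (iv F248192) D56601 (iv D55343)
def n56602 : Q := act 8 n55294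
theorem D56602 : act 8 n55294 = n56602 := rfl
theorem F254216 : act 0 n56602 = n55799 := d7_1 D56602 (iv D55799) (iv F248193)
theorem F254217 : act 1 n56602 = n55298 := d15_1 D56602 (iv D55298) (iv F248194)
theorem F254218 : act 4 n56602 = n55295 := d33_1 D56602 (iv D55295) (iv F248196)
theorem F254219 : act 7 n56602 = n55304 := d42_1 D56602 (iv D55304) (iv F248197)
theorem F254220 : act 9 n56602 = n55349 := d44_2 D55294 D56602 (iv D55349) (iv D53760) (iv F240853)
def n56603 : Q := act 9 n55296
theorem D56603 : act 9 n55296 = n56603 := rfl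
theorem F254221 : act 0 n56603 = n55868 := d8_1 D56603 (iv D55868) (iv F248204)
theorem F254222 : act 1 n56603 = n55574 := d16_1 D56603 (iv D55574) (iv F248205)
theorem F254223 : act 2 n56603 = n55300 := d23_1 D56603 (iv D55300) (iv F248206)
theorem F254224 : act 3 n56603 = n55571 := d29_1 D56603 (iv D55571) (iv F248207)
theorem F254225 : act 4 n56603 = n55316 := d34_1 D56603 (iv D55316) (iv F248208)
theorem F254226 : act 5 n56603 = n55570 := d38_1 D56603 (iv D55570) (iv F248209)
theorem F254227 : act 6 n56603 = n55297 := d41_1 D56603 (iv D55297) D55296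
theorem F254228 : act 7 n56603 = n55807 := d43_1 D56603 (iv D55807) (iv F248210)
def n56604 : Q := act 8 n55297
theorem D56604 : act 8 n55297 = n56604 := rfl
theorem F254229 : act 0 n56604 = n55861 := d7_1 D56604 F250244 (iv F248212)
theorem F254230 : act 2 n56604 = n55301 := d22_1 D56604 (iv D55301) (iv F248213)
theorem F254231 : act 4 n56604 = n55317 := d33_1 D56604 (iv D55317) (iv F248215)
theorem F254232 : act 5 n56604 = n55298 := d37_1 D56604 (iv D55298) (iv F248216)
theorem F254233 : act 7 n56604 = n55310 := d42_1 D56604 (iv D55310) (iv F248217)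
theorem F254234 : act 9 n56604 = n55358 := d44_2 D55297 D56604 (iv D55358) (iv D53766) (iv F240864)
def n56605 : Q := act 3 n55298
theorem D56605 : act 3 n55298 = n56605 := rfl
theorem F254235 : act 0 n56605 = n55860 := d2_1 D56605 F250238 (iv F248218)
theorem F254236 : act 4 n56605 = n55796 := d24_2 (iv F248220) D56605 (iv D55796) F243128 (iv F240872)
theorem F254237 : act 7 n56605 = n55311 := d27_2 (iv F248221) D56605 (iv D55311)
theorem F254238 : act 8 n56605 = n55867 := d28_2 D55298 D56605 (iv D55867) (iv D54387) (iv F240867)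
theorem F254239 : act 9 n56605 = n55359 := d29_2 (iv F248222) D56605 (iv D55359)
def n56606 : Q := act 9 n55299
theorem D56606 : act 9 n55299 = n56606 := rfl
theorem F254240 : act 1 n56606 = n55824 := d16_1 D56606 (iv D55824) (iv F248223)
theorem F254241 : act 2 n56606 = n55807 := d23_1 D56606 (iv D55807) (iv F248224)
theorem F254242 : act 4 n56606 = n55319 := d34_1 D56606 (iv D55319) (iv F248225)
theorem F254243 : act 6 n56606 = n55312 := d41_1 D56606 (iv D55312) (iv F248226)
theorem F254244 : act 7 n56606 = n55300 := d43_1 D56606 (iv D55300) D55299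
def n56607 : Q := act 8 n55300
theorem D56607 : act 8 n55300 = n56607 := rfl
theorem F254245 : act 4 n56607 = n55320 := d33_1 D56607 (iv D55320) (iv F248228)
theorem F254246 : act 6 n56607 = n55301 := d40_1 D56607 (iv D55301) (iv F248229)
theorem F254247 : act 9 n56607 = n55362 := d44_2 D55300 D56607 (iv D55362) (iv D53770) (iv F240877)
def n56608 : Q := act 3 n55301
theorem D56608 : act 3 n55301 = n56608 := rfl
theorem F254248 : act 5 n56608 = n55302 := d25_2 (iv F248231) D56608 (iv D55302)
theorem F254249 : act 7 n56608 = n55314 := d27_2 (iv F248232) D56608 (iv D55314)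
theorem F254250 : act 9 n56608 = n55363 := d29_2 (iv F248233) D56608 (iv D55363)
def n56609 : Q := act 2 n55302
theorem D56609 : act 2 n55302 = n56609 := rfl
theorem F254251 : act 7 n56609 = n55315 := d21_2 (iv F248234) D56609 (iv D55315)
theorem F254252 : act 9 n56609 = n55364 := d23_2 (iv F248235) D56609 (iv D55364)
def n56610 : Q := act 8 n55303
theorem D56610 : act 8 n55303 = n56610 := rfl
theorem F254253 : act 0 n56610 = n55795 := d7_1 D56610 (iv D55795) (iv F248236)
theorem F254254 : act 1 n56610 = n55308 := d15_1 D56610 (iv D55308) (iv F248237)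
theorem F254255 : act 4 n56610 = n55447 := d33_1 D56610 (iv D55447) (iv F248239)
theorem F254256 : act 6 n56610 = n55826 := d40_1 D56610 (iv D55826) (iv F248240)
theorem F254257 : act 7 n56610 = n55798 := d42_1 D56610 (iv D55798) (iv F248241)
def n56611 : Q := act 3 n55304
theorem D56611 : act 3 n55304 = n56611 := rfl
theorem F254258 : act 1 n56611 = n55311 := d10_1 D56611 (iv D55311) (iv F248242)
theorem F254259 : act 4 n56611 = n55800 := d24_2 (iv F248243) D56611 (iv D55800) F243142 (iv F240893)
theorem F254260 : act 6 n56611 = n55828 := d26_2 (iv F248244) D56611 (iv D55828)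
theorem F254261 : act 9 n56611 = n55371 := d29_2 (iv F248245) D56611 (iv D55371)
def n56612 : Q := act 9 n55305
theorem D56612 : act 9 n55305 = n56612 := rfl
theorem F254262 : act 0 n56612 = n55552 := d8_1 D56612 (iv D55552) (iv F248246)
theorem F254263 : act 1 n56612 = n55616 := d16_1 D56612 (iv D55616) (iv F248247)
theorem F254264 : act 2 n56612 = n55805 := d23_1 D56612 (iv D55805) (iv F248248)
theorem F254265 : act 3 n56612 = n55376 := d29_1 D56612 (iv D55376) (iv F248249)
theorem F254266 : act 4 n56612 = n55551 := d34_1 D56612 (iv D55551) (iv F248250)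
theorem F254267 : act 5 n56612 = n55307 := d38_1 D56612 (iv D55307) (iv F248251)
theorem F254268 : act 7 n56612 = n55607 := d43_1 D56612 (iv D55607) (iv F248252)
def n56613 : Q := act 8 n55306
theorem D56613 : act 8 n55306 = n56613 := rfl
theorem F254269 : act 0 n56613 = n55855 := d7_1 D56613 (iv D55855) (iv F248253)
theorem F254270 : act 4 n56613 = n55889 := d33_1 D56613 (iv D55889) (iv F248255)
theorem F254271 : act 5 n56613 = n55308 := d37_1 D56613 (iv D55308) (iv F248256)
theorem F254272 : act 7 n56613 = n55866 := d42_1 D56613 (iv D55866) (iv F248257)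
def n56614 : Q := act 8 n55307
theorem D56614 : act 8 n55307 = n56614 := rfl
theorem F254273 : act 0 n56614 = n55819 := d7_1 D56614 (iv D55819) (iv F248258)
theorem F254274 : act 4 n56614 = n55448 := d33_1 D56614 (iv D55448) (iv F248260)
theorem F254275 : act 6 n56614 = n55833 := d40_1 D56614 (iv D55833) (iv F248261)
theorem F254276 : act 7 n56614 = n55823 := d42_1 D56614 (iv D55823) (iv F248262)
theorem F254277 : act 9 n56614 = n55308 := d44_2 D55307 D56614 (iv D55308) (iv D53717) D53716
def n56615 : Q := act 3 n55308
theorem D56615 : act 3 n55308 = n56615 := rfl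
theorem F254278 : act 0 n56615 = n55856 := d2_1 D56615 (iv D55856) (iv F248263)
theorem F254279 : act 4 n56615 = n55802 := d24_2 (iv F248264) D56615 (iv D55802) F243146 (iv F241528)
theorem F254280 : act 6 n56615 = n55834 := d26_2 (iv F248265) D56615 (iv D55834)
theorem F254281 : act 7 n56615 = n55867 := d27_2 (iv F248266) D56615 (iv D55867)
theorem F254282 : act 8 n56615 = n55311 := d28_2 D55308 D56615 (iv D55311) (iv D53720) (iv F240907)
def n56616 : Q := act 8 n55309
theorem D56616 : act 8 n55309 = n56616 := rfl
theorem F254283 : act 0 n56616 = n55520 := d7_1 D56616 (iv D55520) (iv F248267)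
theorem F254284 : act 1 n56616 = n55603 := d15_1 D56616 (iv D55603) (iv F248268)
theorem F254285 : act 2 n56616 = n55313 := d22_1 D56616 (iv D55313) (iv F248269)
theorem F254286 : act 4 n56616 = n55324 := d33_1 D56616 (iv D55324) (iv F248270)
theorem F254287 : act 5 n56616 = n55836 := d37_1 D56616 (iv D55836) (iv F248271)
theorem F254288 : act 6 n56616 = n55310 := d40_1 D56616 (iv D55310) (iv F248272)
theorem F254289 : act 9 n56616 = n55381 := d44_2 D55309 D56616 (iv D55381) (iv D53787) (iv F240916)
def n56617 : Q := act 3 n55310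
theorem D56617 : act 3 n55310 = n56617 := rfl
theorem F254290 : act 0 n56617 = n55884 := d2_1 D56617 F250285 (iv F248273)
theorem F254291 : act 5 n56617 = n55311 := d25_2 (iv F248276) D56617 (iv D55311)
theorem F254292 : act 9 n56617 = n55382 := d29_2 (iv F248277) D56617 (iv D55382)
def n56618 : Q := act 2 n55311
theorem D56618 : act 2 n55311 = n56618 := rfl
theorem F254293 : act 0 n56618 = n55883 := d1_1 D56618 F250284 (iv F248278)
theorem F254294 : act 3 n56618 = n55315 := d17_2 D55311 D56618 (iv D55315) (iv D53724) (iv F240922)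
theorem F254295 : act 4 n56618 = n55803 := d18_2 (iv F248279) D56618 (iv D55803)
theorem F254296 : act 6 n56618 = n55838 := d20_2 (iv F248280) D56618 (iv D55838)
theorem F254297 : act 9 n56618 = n55383 := d23_2 (iv F248281) D56618 (iv D55383)
def n56619 : Q := act 8 n55312
theorem D56619 : act 8 n55312 = n56619 := rfl
theorem F254298 : act 4 n56619 = n55326 := d33_1 D56619 (iv D55326) (iv F248282)
theorem F254299 : act 5 n56619 = n55839 := d37_1 D56619 (iv D55839) (iv F248283)
theorem F254300 : act 7 n56619 = n55313 := d42_1 D56619 (iv D55313) (iv F248284)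
theorem F254301 : act 9 n56619 = n55386 := d44_2 D55312 D56619 (iv D55386) (iv D53791) (iv F240928)
def n56620 : Q := act 3 n55313
theorem D56620 : act 3 n55313 = n56620 := rfl
theorem F254302 : act 5 n56620 = n55840 := d25_2 (iv F248286) D56620 (iv D55840)
theorem F254303 : act 6 n56620 = n55314 := d26_2 (iv F248287) D56620 (iv D55314)
theorem F254304 : act 9 n56620 = n55387 := d29_2 (iv F248288) D56620 (iv D55387)
def n56621 : Q := act 2 n55314
theorem D56621 : act 2 n55314 = n56621 := rfl
theorem F254305 : act 5 n56621 = n55315 := d19_2 (iv F248289) D56621 (iv D55315)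
theorem F254306 : act 9 n56621 = n55388 := d23_2 (iv F248290) D56621 (iv D55388)
def n56622 : Q := act 4 n55314
theorem D56622 : act 4 n55314 = n56622 := rfl
theorem F254307 : act 3 n56622 = n55329 := d24_1 D56622 (iv D55329) (iv D53739) (iv F240932) D55314
theorem F254308 : act 9 n56622 = n55389 := d34_2 (iv F248290) D56622 (iv D55389)
def n56623 : Q := act 1 n55315
theorem D56623 : act 1 n55315 = n56623 := rfl
theorem F254309 : act 6 n56623 = n55842 := d13_2 (iv F248291) D56623 (iv D55842)
theorem F254310 : act 9 n56623 = n55390 := d16_2 (iv F248292) D56623 (iv D55390)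
def n56624 : Q := act 8 n55316
theorem D56624 : act 8 n55316 = n56624 := rfl
theorem F254311 : act 0 n56624 = n55894 := d7_1 D56624 F250308 (iv F248293)
theorem F254312 : act 1 n56624 = n55904 := d15_1 D56624 (iv D55904) (iv F248294)
theorem F254313 : act 2 n56624 = n55320 := d22_1 D56624 (iv D55320) (iv F248295)
theorem F254314 : act 5 n56624 = n56624 := d37_1 D56624 (iv D56624) F248297
theorem F254315 : act 6 n56624 = n55317 := d40_1 D56624 (iv D55317) (iv F248298)
theorem F254316 : act 7 n56624 = n55907 := d42_1 D56624 (iv D55907) (iv F248299)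
theorem F254317 : act 9 n56624 = n55394 := d44_2 D55316 D56624 (iv D55394) (iv D53800) (iv F240948)
def n56625 : Q := act 3 n55317
theorem D56625 : act 3 n55317 = n56625 := rfl
theorem F254318 : act 0 n56625 = n55893 := d2_1 D56625 F250303 (iv F248300)
theorem F254319 : act 5 n56625 = n55318 := d25_2 (iv F248302) D56625 (iv D55318)
theorem F254320 : act 7 n56625 = n55325 := d27_2 (iv F248303) D56625 (iv D55325)
theorem F254321 : act 8 n56625 = n55496 := d28_2 D55317 D56625 F249085 F243537 (iv F240952)
theorem F254322 : act 9 n56625 = n55395 := d29_2 (iv F248304) D56625 (iv D55395)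
theorem F254323 : act 2 n55631 = n56625 := d22_3 F254321 F249084 (iv F249616)
def n56626 : Q := act 8 n55319
theorem D56626 : act 8 n55319 = n56626 := rfl
theorem F254324 : act 1 n56626 = n55914 := d15_1 D56626 (iv D55914) (iv F248312)
theorem F254325 : act 2 n56626 = n55907 := d22_1 D56626 (iv D55907) (iv F248313)
theorem F254326 : act 5 n56626 = n56626 := d37_1 D56626 (iv D56626) F248315
theorem F254327 : act 6 n56626 = n55326 := d40_1 D56626 (iv D55326) (iv F248316)
theorem F254328 : act 7 n56626 = n55320 := d42_1 D56626 (iv D55320) (iv F248317)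
theorem F254329 : act 9 n56626 = n55398 := d44_2 D55319 D56626 (iv D55398) (iv D53804) (iv F240966)
def n56627 : Q := act 3 n55320
theorem D56627 : act 3 n55320 = n56627 := rfl
theorem F254330 : act 5 n56627 = n56627 := d25_2 F248318 D56627 (iv D56627)
theorem F254331 : act 6 n56627 = n55321 := d26_2 (iv F248319) D56627 (iv D55321)
theorem F254332 : act 8 n56627 = n56627 := d28_2 D55320 D56627 (iv D56627) (iv D55320) F240967
theorem F254333 : act 9 n56627 = n55399 := d29_2 (iv F248320) D56627 (iv D55399)
def n56628 : Q := act 2 n55321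
theorem D56628 : act 2 n55321 = n56628 := rfl
theorem F254334 : act 3 n56628 = n55631 := d17_2 D55321 D56628 F254323 (iv D56625) F248301
theorem F254335 : act 5 n56628 = n55322 := d19_2 (iv F248321) D56628 (iv D55322)
theorem F254336 : act 7 n56628 = n55328 := d21_2 (iv F248322) D56628 (iv D55328)
theorem F254337 : act 8 n56628 = n56628 := d22_2 F248323 D56628 (iv D56628)
theorem F254338 : act 9 n56628 = n55400 := d23_2 (iv F248324) D56628 (iv D55400)
def n56629 : Q := act 4 n55321
theorem D56629 : act 4 n55321 = n56629 := rfl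
theorem F254339 : act 7 n56629 = n55329 := d32_2 (iv F248322) D56629 (iv D55329)
theorem F254340 : act 8 n56629 = n56629 := d33_2 F248323 D56629 (iv D56629)
theorem F254341 : act 9 n56629 = n55401 := d34_2 (iv F248324) D56629 (iv D55401)
def n56630 : Q := act 1 n55322
theorem D56630 : act 1 n55322 = n56630 := rfl
theorem F254342 : act 2 n56630 = n55418 := d9_2 D55322 D56630 F251808 (iv D56142) F245218
theorem F254343 : act 3 n56630 = n55420 := d10_2 (iv F248325) D56630 (iv F248720)
theorem F254344 : act 4 n56630 = n55629 := d11_2 (iv F248326) D56630 F249606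
theorem F254345 : act 6 n56630 = n56630 := d13_2 F248327 D56630 (iv D56630)
theorem F254346 : act 7 n56630 = n55330 := d14_2 (iv F248328) D56630 (iv D55330)
theorem F254347 : act 8 n56630 = n56630 := d15_2 F248329 D56630 (iv D56630)
theorem F254348 : act 9 n56630 = n55402 := d16_2 (iv F248330) D56630 (iv D55402)
def n56631 : Q := act 8 n55323
theorem D56631 : act 8 n55323 = n56631 := rfl
theorem F254349 : act 0 n56631 = n55511 := d7_1 D56631 (iv D55511) (iv F248331)
theorem F254350 : act 1 n56631 = n55445 := d15_1 D56631 (iv D55445) (iv F248332)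
theorem F254351 : act 2 n56631 = n55326 := d22_1 D56631 (iv D55326) (iv F248333)
theorem F254352 : act 5 n56631 = n55331 := d37_1 D56631 (iv D55331) (iv F248335)
theorem F254353 : act 6 n56631 = n55907 := d40_1 D56631 (iv D55907) (iv F248336)
theorem F254354 : act 7 n56631 = n55324 := d42_1 D56631 (iv D55324) (iv F248337)
theorem F254355 : act 9 n56631 = n55406 := d44_2 D55323 D56631 (iv D55406) (iv D53812) (iv F240983)
def n56632 : Q := act 4 n55325
theorem D56632 : act 4 n55325 = n56632 := rfl
theorem F254356 : act 0 n56632 = n55900 := d3_1 D56632 F250323 (iv F248344)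
theorem F254357 : act 2 n56632 = n55621 := d18_1 D56632 F249579 F248348
theorem F254358 : act 5 n56632 = n55490 := d30_2 (iv F248345) D56632 (iv D55490) F241819 (iv F240995)
theorem F254359 : act 8 n56632 = n55495 := d33_2 (iv F248346) D56632 F249081
theorem F254360 : act 9 n56632 = n55409 := d34_2 (iv F248347) D56632 (iv D55409)
def n56633 : Q := act 3 n55326
theorem D56633 : act 3 n55326 = n56633 := rfl
theorem F254361 : act 5 n56633 = n55332 := d25_2 (iv F248349) D56633 (iv D55332)
theorem F254362 : act 7 n56633 = n55327 := d27_2 (iv F248350) D56633 (iv D55327)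
theorem F254363 : act 8 n56633 = n56633 := d28_2 D55326 D56633 (iv D56633) (iv D55326) F241000
theorem F254364 : act 9 n56633 = n55411 := d29_2 (iv F248351) D56633 (iv D55411)
def n56634 : Q := act 2 n55327
theorem D56634 : act 2 n55327 = n56634 := rfl
theorem F254365 : act 1 n56634 = n55408 := d9_1 D56634 (iv D55408) (iv F248664) (iv F251824) F251823
theorem F254366 : act 3 n56634 = n55414 := d17_2 D55327 D56634 (iv F252099) F252100 F248340
theorem F254367 : act 5 n56634 = n55333 := d19_2 (iv F248352) D56634 (iv D55333)
theorem F254368 : act 6 n56634 = n55328 := d20_2 (iv F248353) D56634 (iv D55328)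
theorem F254369 : act 8 n56634 = n56634 := d22_2 F248354 D56634 (iv D56634)
theorem F254370 : act 9 n56634 = n55412 := d23_2 (iv F248355) D56634 (iv D55412)
def n56635 : Q := act 4 n55327
theorem D56635 : act 4 n55327 = n56635 := rfl
theorem F254371 : act 6 n56635 = n55329 := d31_2 (iv F248353) D56635 (iv D55329)
theorem F254372 : act 8 n56635 = n56635 := d33_2 F248354 D56635 (iv D56635)
theorem F254373 : act 9 n56635 = n55413 := d34_2 (iv F248355) D56635 (iv D55413)
def n56636 : Q := act 1 n55328
theorem D56636 : act 1 n55328 = n56636 := rfl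
theorem F254374 : act 2 n56636 = n55407 := d9_2 D55328 D56636 F251835 (iv D56146) F245257
theorem F254375 : act 3 n56636 = n55412 := d10_2 (iv F248356) D56636 (iv F248689)
theorem F254376 : act 5 n56636 = n55330 := d12_2 (iv F248357) D56636 (iv D55330)
theorem F254377 : act 6 n56636 = n55408 := d13_2 F254368 D56636 (iv F254365)
theorem F254378 : act 8 n56636 = n56636 := d15_2 F248358 D56636 (iv D56636)
theorem F254379 : act 9 n56636 = n55414 := d16_2 (iv F248359) D56636 (iv D55414)
def n56637 : Q := act 4 n55328
theorem D56637 : act 4 n55328 = n56637 := rfl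
theorem F254380 : act 2 n56637 = n55329 := d18_1 D56637 (iv D55329) D55328
theorem F254381 : act 5 n56637 = n55638 := d30_2 (iv F248357) D56637 (iv D55638) F242512 (iv F241010)
theorem F254382 : act 8 n56637 = n56637 := d33_2 F248358 D56637 (iv D56637)
theorem F254383 : act 9 n56637 = n55415 := d34_2 (iv F248359) D56637 (iv D55415)
def n56638 : Q := act 2 n55332
theorem D56638 : act 2 n55332 = n56638 := rfl
theorem F254384 : act 1 n56638 = n55396 := d9_1 D56638 (iv D55396) (iv F248607) (iv F251841) F251840
theorem F254385 : act 3 n56638 = n55402 := d17_2 D55332 D56638 (iv F252062) F252063 F248370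
theorem F254386 : act 4 n56638 = n55583 := d18_2 (iv F248375) D56638 F249458
theorem F254387 : act 6 n56638 = n56638 := d20_2 F248376 D56638 (iv D56638)
theorem F254388 : act 7 n56638 = n55333 := d21_2 (iv F248377) D56638 (iv D55333)
theorem F254389 : act 8 n56638 = n56638 := d22_2 F248378 D56638 (iv D56638)
theorem F254390 : act 9 n56638 = n55420 := d23_2 (iv F248379) D56638 (iv D55420)
def n56639 : Q := act 8 n55334
theorem D56639 : act 8 n55334 = n56639 := rfl
theorem F254391 : act 0 n56639 = n55820 := d7_1 D56639 (iv D55820) (iv F248386)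
theorem F254392 : act 1 n56639 = n55339 := d15_1 D56639 (iv D55339) (iv F248387)
theorem F254393 : act 4 n56639 = n55335 := d33_1 D56639 (iv D55335) (iv F248389)
theorem F254394 : act 6 n56639 = n55349 := d40_1 D56639 (iv D55349) (iv F248390)
theorem F254395 : act 7 n56639 = n55436 := d42_1 D56639 F248791 (iv F248391)
def n56640 : Q := act 8 n55336
theorem D56640 : act 8 n55336 = n56640 := rfl
theorem F254396 : act 1 n56640 = n55360 := d15_1 D56640 F248514 (iv F248398)
theorem F254397 : act 4 n56640 = n55350 := d33_1 D56640 F248472 (iv F248400)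
theorem F254398 : act 6 n56640 = n55355 := d40_1 D56640 (iv D55355) (iv F248401)
theorem F254399 : act 7 n56640 = n55372 := d42_1 D56640 F248552 (iv F248402)
theorem F254400 : act 9 n56640 = n55795 := d44_2 D55336 D56640 (iv D55795) (iv D54304) (iv F241063)
def n56641 : Q := act 9 n55337
theorem D56641 : act 9 n55337 = n56641 := rfl
theorem F254401 : act 1 n56641 = n55575 := d16_1 D56641 (iv D55575) (iv F248403)
theorem F254402 : act 2 n56641 = n55341 := d23_1 D56641 (iv D55341) (iv F248404)
theorem F254403 : act 3 n56641 = n55605 := d29_1 D56641 (iv D55605) (iv F248405)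
theorem F254404 : act 4 n56641 = n56641 := d34_1 D56641 (iv D56641) F248406
theorem F254405 : act 5 n56641 = n55357 := d38_1 D56641 (iv D55357) (iv F248407)
theorem F254406 : act 6 n56641 = n55338 := d41_1 D56641 (iv D55338) D55337
def n56642 : Q := act 8 n55338
theorem D56642 : act 8 n55338 = n56642 := rfl
theorem F254407 : act 2 n56642 = n55342 := d22_1 D56642 (iv D55342) (iv F248409)
theorem F254408 : act 4 n56642 = n56642 := d33_1 D56642 (iv D56642) F248410
theorem F254409 : act 5 n56642 = n55339 := d37_1 D56642 (iv D55339) (iv F248411)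
theorem F254410 : act 7 n56642 = n55850 := d42_1 D56642 (iv D55850) (iv F248412)
def n56643 : Q := act 3 n55339
theorem D56643 : act 3 n55339 = n56643 := rfl
theorem F254411 : act 6 n56643 = n55359 := d26_2 (iv F248415) D56643 (iv D55359)
theorem F254412 : act 7 n56643 = n55851 := d27_2 (iv F248416) D56643 (iv D55851)
def n56644 : Q := act 4 n55340
theorem D56644 : act 4 n55340 = n56644 := rfl
theorem F254413 : act 0 n56644 = n55816 := d3_1 D56644 F250115 (iv F248417)
theorem F254414 : act 1 n56644 = n55355 := d11_1 D56644 F248496 (iv F248418)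
theorem F254415 : act 2 n56644 = n55773 := d18_1 D56644 F250017 (iv F248419)
theorem F254416 : act 6 n56644 = n55360 := d31_2 (iv F248421) D56644 (iv D55360)
theorem F254417 : act 7 n56644 = n55368 := d32_2 (iv F248422) D56644 F248537
theorem F254418 : act 8 n56644 = n55347 := d33_2 (iv F248423) D56644 F248457
theorem F254419 : act 9 n56644 = n55792 := d34_2 (iv F248424) D56644 F250062
def n56645 : Q := act 8 n55341
theorem D56645 : act 8 n55341 = n56645 := rfl
theorem F254420 : act 4 n56645 = n56645 := d33_1 D56645 (iv D56645) F248425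
theorem F254421 : act 5 n56645 = n55362 := d37_1 D56645 (iv D55362) (iv F248426)
theorem F254422 : act 6 n56645 = n55342 := d40_1 D56645 (iv D55342) (iv F248427)
def n56646 : Q := act 3 n55342
theorem D56646 : act 3 n55342 = n56646 := rfl
theorem F254423 : act 5 n56646 = n55343 := d25_2 (iv F248429) D56646 (iv D55343)
theorem F254424 : act 7 n56646 = n55853 := d27_2 (iv F248430) D56646 (iv D55853)
def n56647 : Q := act 2 n55343
theorem D56647 : act 2 n55343 = n56647 := rfl
theorem F254425 : act 6 n56647 = n55364 := d20_2 (iv F248431) D56647 (iv D55364)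
theorem F254426 : act 7 n56647 = n55854 := d21_2 (iv F248432) D56647 (iv D55854)
def n56648 : Q := act 8 n55344
theorem D56648 : act 8 n55344 = n56648 := rfl
theorem F254427 : act 0 n56648 = n55349 := d7_1 D56648 (iv D55349) (iv F248433)
theorem F254428 : act 1 n56648 = n55801 := d15_1 D56648 (iv D55801) (iv F248434)
theorem F254429 : act 4 n56648 = n55345 := d33_1 D56648 (iv D55345) (iv F248436)
theorem F254430 : act 6 n56648 = n55820 := d40_1 D56648 (iv D55820) (iv F248437)
theorem F254431 : act 7 n56648 = n55365 := d42_1 D56648 (iv D55365) (iv F248438)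
theorem F254432 : act 9 n56648 = n55799 := d44_2 D55344 D56648 (iv D55799) (iv D54310) (iv F241088)
def n56649 : Q := act 9 n55346
theorem D56649 : act 9 n55346 = n56649 := rfl
theorem F254433 : act 0 n56649 = n55815 := d8_1 D56649 (iv D55815) (iv F248445)
theorem F254434 : act 1 n56649 = n55353 := d16_1 D56649 (iv D55353) (iv F248446)
theorem F254435 : act 2 n56649 = n55772 := d23_1 D56649 (iv D55772) (iv F248447)
theorem F254436 : act 3 n56649 = n55348 := d29_1 D56649 (iv D55348) (iv F248448)
theorem F254437 : act 4 n56649 = n56649 := d34_1 D56649 (iv D56649) F248449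
theorem F254438 : act 5 n56649 = n55347 := d38_1 D56649 (iv D55347) D55346
theorem F254439 : act 6 n56649 = n55612 := d41_1 D56649 (iv D55612) (iv F248450)
theorem F254440 : act 7 n56649 = n55367 := d43_1 D56649 (iv D55367) (iv F248451)
def n56650 : Q := act 8 n55348
theorem D56650 : act 8 n55348 = n56650 := rfl
theorem F254441 : act 1 n56650 = n55358 := d15_1 D56650 (iv D55358) (iv F248460)
theorem F254442 : act 2 n56650 = n55799 := d22_1 D56650 (iv D55799) (iv F248461)
theorem F254443 : act 4 n56650 = n55391 := d33_1 D56650 (iv D55391) (iv F248462)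
theorem F254444 : act 5 n56650 = n55349 := d37_1 D56650 (iv D55349) (iv F248463)
theorem F254445 : act 7 n56650 = n55370 := d42_1 D56650 (iv D55370) (iv F248464)
def n56651 : Q := act 3 n55349
theorem D56651 : act 3 n55349 = n56651 := rfl
theorem F254446 : act 1 n56651 = n55359 := d10_1 D56651 (iv D55359) (iv F248465)
theorem F254447 : act 7 n56651 = n55371 := d27_2 (iv F248467) D56651 (iv D55371)
def n56652 : Q := act 9 n55351
theorem D56652 : act 9 n55351 = n56652 := rfl
theorem F254448 : act 1 n56652 = n55612 := d16_1 D56652 (iv D55612) (iv F248474)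
theorem F254449 : act 3 n56652 = n55357 := d29_1 D56652 (iv D55357) (iv F248475)
theorem F254450 : act 4 n56652 = n56652 := d34_1 D56652 (iv D56652) F248476
theorem F254451 : act 5 n56652 = n55605 := d38_1 D56652 (iv D55605) (iv F248477)
theorem F254452 : act 6 n56652 = n55353 := d41_1 D56652 (iv D55353) D55351
def n56653 : Q := act 9 n55352
theorem D56653 : act 9 n55352 = n56653 := rfl
theorem F254453 : act 0 n56653 = n55825 := d8_1 D56653 (iv D55825) (iv F248479)
theorem F254454 : act 1 n56653 = n55611 := d16_1 D56653 (iv D55611) (iv F248480)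
theorem F254455 : act 3 n56653 = n55607 := d29_1 D56653 (iv D55607) (iv F248481)
theorem F254456 : act 4 n56653 = n56653 := d34_1 D56653 (iv D56653) F248482
theorem F254457 : act 5 n56653 = n55354 := d38_1 D56653 (iv D55354) (iv F248483)
theorem F254458 : act 6 n56653 = n55604 := d41_1 D56653 (iv D55604) (iv F248484)
theorem F254459 : act 7 n56653 = n55376 := d43_1 D56653 (iv D55376) (iv F248485)
def n56654 : Q := act 8 n55353
theorem D56654 : act 8 n55353 = n56654 := rfl
theorem F254460 : act 4 n56654 = n56654 := d33_1 D56654 (iv D56654) F248487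
theorem F254461 : act 5 n56654 = n55355 := d37_1 D56654 (iv D55355) (iv F248488)
theorem F254462 : act 7 n56654 = n55377 := d42_1 D56654 (iv D55377) (iv F248489)
def n56655 : Q := act 8 n55354
theorem D56655 : act 8 n55354 = n56655 := rfl
theorem F254463 : act 0 n56655 = n55826 := d7_1 D56655 (iv D55826) (iv F248490)
theorem F254464 : act 1 n56655 = n55792 := d15_1 D56655 (iv D55792) (iv F248491)
theorem F254465 : act 4 n56655 = n55433 := d33_1 D56655 (iv D55433) (iv F248493)
theorem F254466 : act 6 n56655 = n55795 := d40_1 D56655 (iv D55795) (iv F248494)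
theorem F254467 : act 7 n56655 = n55378 := d42_1 D56655 (iv D55378) (iv F248495)
theorem F254468 : act 9 n56655 = n55355 := d44_2 D55354 D56655 (iv D55355) (iv D53764) D53763
def n56656 : Q := act 3 n55355
theorem D56656 : act 3 n55355 = n56656 := rfl
theorem F254469 : act 7 n56656 = n55379 := d27_2 (iv F248497) D56656 (iv D55379)
theorem F254470 : act 8 n56656 = n55359 := d28_2 D55355 D56656 (iv D55359) (iv D53767) (iv F241121)
def n56657 : Q := act 9 n55356
theorem D56657 : act 9 n55356 = n56657 := rfl
theorem F254471 : act 1 n56657 = n55810 := d16_1 D56657 (iv D55810) (iv F248498)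
theorem F254472 : act 2 n56657 = n55361 := d23_1 D56657 (iv D55361) (iv F248499)
theorem F254473 : act 4 n56657 = n55393 := d34_1 D56657 (iv D55393) (iv F248500)
theorem F254474 : act 6 n56657 = n55380 := d41_1 D56657 (iv D55380) (iv F248501)
theorem F254475 : act 7 n56657 = n55357 := d43_1 D56657 (iv D55357) D55356
def n56658 : Q := act 8 n55357
theorem D56658 : act 8 n55357 = n56658 := rfl
theorem F254476 : act 2 n56658 = n55362 := d22_1 D56658 (iv D55362) (iv F248503)
theorem F254477 : act 4 n56658 = n55394 := d33_1 D56658 (iv D55394) (iv F248504)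
theorem F254478 : act 6 n56658 = n55358 := d40_1 D56658 (iv D55358) (iv F248505)
def n56659 : Q := act 3 n55358
theorem D56659 : act 3 n55358 = n56659 := rfl
theorem F254479 : act 5 n56659 = n55359 := d25_2 (iv F248508) D56659 (iv D55359)
theorem F254480 : act 7 n56659 = n55382 := d27_2 (iv F248509) D56659 (iv D55382)
def n56660 : Q := act 2 n55359
theorem D56660 : act 2 n55359 = n56660 := rfl
theorem F254481 : act 3 n56660 = n55364 := d17_2 D55359 D56660 (iv D55364) (iv D53772) (iv F241130)
theorem F254482 : act 7 n56660 = n55383 := d21_2 (iv F248510) D56660 (iv D55383)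
def n56661 : Q := act 4 n55359
theorem D56661 : act 4 n55359 = n56661 := rfl
theorem F254483 : act 0 n56661 = n55821 := d3_1 D56661 (iv F253954) F253952
theorem F254484 : act 3 n56661 = n55360 := d24_1 D56661 (iv D55360) (iv D53768) (iv F241131) D55359
theorem F254485 : act 7 n56661 = n55384 := d32_2 (iv F248510) D56661 (iv D55384)
theorem F254486 : act 9 n56661 = n55796 := d34_2 F254239 D56661 (iv F254236)
def n56662 : Q := act 8 n55361
theorem D56662 : act 8 n55361 = n56662 := rfl
theorem F254487 : act 4 n56662 = n55398 := d33_1 D56662 (iv D55398) (iv F248516)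
theorem F254488 : act 6 n56662 = n55386 := d40_1 D56662 (iv D55386) (iv F248517)
theorem F254489 : act 7 n56662 = n55362 := d42_1 D56662 (iv D55362) (iv F248518)
def n56663 : Q := act 3 n55362
theorem D56663 : act 3 n55362 = n56663 := rfl
theorem F254490 : act 6 n56663 = n55363 := d26_2 (iv F248520) D56663 (iv D55363)
def n56664 : Q := act 2 n55363
theorem D56664 : act 2 n55363 = n56664 := rfl
theorem F254491 : act 5 n56664 = n55364 := d19_2 (iv F248521) D56664 (iv D55364)
theorem F254492 : act 7 n56664 = n55388 := d21_2 (iv F248522) D56664 (iv D55388)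
def n56665 : Q := act 4 n55363
theorem D56665 : act 4 n55363 = n56665 := rfl
theorem F254493 : act 3 n56665 = n55401 := d24_1 D56665 (iv D55401) (iv D53806) (iv F241143) D55363
theorem F254494 : act 7 n56665 = n55389 := d32_2 (iv F248522) D56665 (iv D55389)
def n56666 : Q := act 1 n55364
theorem D56666 : act 1 n55364 = n56666 := rfl
theorem F254495 : act 7 n56666 = n55390 := d14_2 (iv F248523) D56666 (iv D55390)
def n56667 : Q := act 3 n55365
theorem D56667 : act 3 n55365 = n56667 := rfl
theorem F254496 : act 0 n56667 = n55371 := d2_1 D56667 (iv D55371) (iv F248524)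
theorem F254497 : act 6 n56667 = n55867 := d26_2 (iv F248526) D56667 (iv D55867)
def n56668 : Q := act 9 n55366
theorem D56668 : act 9 n55366 = n56668 := rfl
theorem F254498 : act 0 n56668 = n55570 := d8_1 D56668 (iv D55570) (iv F248527)
theorem F254499 : act 1 n56668 = n55375 := d16_1 D56668 (iv D55375) (iv F248528)
theorem F254500 : act 3 n56668 = n55369 := d29_1 D56668 (iv D55369) (iv F248529)
theorem F254501 : act 4 n56668 = n56668 := d34_1 D56668 (iv D56668) F248530
theorem F254502 : act 5 n56668 = n55868 := d38_1 D56668 (iv D55868) (iv F248531)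
theorem F254503 : act 6 n56668 = n55367 := d41_1 D56668 (iv D55367) D55366
def n56669 : Q := act 8 n55367
theorem D56669 : act 8 n55367 = n56669 := rfl
theorem F254504 : act 1 n56669 = n55377 := d15_1 D56669 (iv D55377) (iv F248532)
theorem F254505 : act 4 n56669 = n56669 := d33_1 D56669 (iv D56669) F248534
theorem F254506 : act 5 n56669 = n55368 := d37_1 D56669 (iv D55368) (iv F248535)
def n56670 : Q := act 3 n55368
theorem D56670 : act 3 n55368 = n56670 := rfl
theorem F254507 : act 1 n56670 = n55379 := d10_1 D56670 (iv D55379) (iv F248536)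
theorem F254508 : act 4 n56670 = n55851 := d24_2 (iv F248537) D56670 (iv D55851) F243314 (iv F241430)
theorem F254509 : act 6 n56670 = n55860 := d26_2 (iv F248538) D56670 F250238
theorem F254510 : act 8 n56670 = n55371 := d28_2 D55368 D56670 (iv D55371) (iv D53779) (iv F241157)
def n56671 : Q := act 8 n55369
theorem D56671 : act 8 n55369 = n56671 := rfl
theorem F254511 : act 0 n56671 = n55572 := d7_1 D56671 (iv D55572) (iv F248539)
theorem F254512 : act 1 n56671 = n55381 := d15_1 D56671 (iv D55381) (iv F248540)
theorem F254513 : act 2 n56671 = n55823 := d22_1 D56671 (iv D55823) (iv F248541)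
theorem F254514 : act 4 n56671 = n55404 := d33_1 D56671 (iv D55404) (iv F248542)
theorem F254515 : act 5 n56671 = n55869 := d37_1 D56671 (iv D55869) (iv F248543)
theorem F254516 : act 6 n56671 = n55370 := d40_1 D56671 (iv D55370) (iv F248544)
theorem F254517 : act 9 n56671 = n55603 := d44_2 D55369 D56671 (iv D55603) (iv D54056) (iv F241165)
def n56672 : Q := act 3 n55370
theorem D56672 : act 3 n55370 = n56672 := rfl
theorem F254518 : act 1 n56672 = n55382 := d10_1 D56672 (iv D55382) (iv F248545)
theorem F254519 : act 5 n56672 = n55371 := d25_2 (iv F248547) D56672 (iv D55371)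
def n56673 : Q := act 2 n55371
theorem D56673 : act 2 n55371 = n56673 := rfl
theorem F254520 : act 6 n56673 = n55871 := d20_2 (iv F248549) D56673 (iv D55871)
def n56674 : Q := act 4 n55371
theorem D56674 : act 4 n55371 = n56674 := rfl
theorem F254521 : act 1 n56674 = n55384 := d11_1 D56674 (iv D55384) (iv F248548)
theorem F254522 : act 3 n56674 = n55372 := d24_1 D56674 (iv D55372) (iv D53780) (iv F241170) D55371
theorem F254523 : act 6 n56674 = n55857 := d31_2 (iv F248549) D56674 F250230
theorem F254524 : act 8 n56674 = n55851 := d33_2 F254510 D56674 (iv F254508)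
theorem F254525 : act 9 n56674 = n55800 := d34_2 F254261 D56674 (iv F254259)
def n56675 : Q := act 9 n55373
theorem D56675 : act 9 n55373 = n56675 := rfl
theorem F254526 : act 0 n56675 = n55585 := d8_1 D56675 (iv D55585) (iv F248554)
theorem F254527 : act 2 n56675 = n55508 := d23_1 D56675 (iv D55508) (iv F248555)
theorem F254528 : act 3 n56675 = n55380 := d29_1 D56675 (iv D55380) (iv F248556)
theorem F254529 : act 4 n56675 = n56675 := d34_1 D56675 (iv D56675) F248557
theorem F254530 : act 5 n56675 = n55506 := d38_1 D56675 (iv D55506) (iv F248558)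
theorem F254531 : act 7 n56675 = n55375 := d43_1 D56675 (iv D55375) D55373
def n56676 : Q := act 9 n55374
theorem D56676 : act 9 n55374 = n56676 := rfl
theorem F254532 : act 4 n56676 = n56676 := d34_1 D56676 (iv D56676) F248559
theorem F254533 : act 5 n56676 = n55872 := d38_1 D56676 (iv D55872) (iv F248560)
theorem F254534 : act 6 n56676 = n55376 := d41_1 D56676 (iv D55376) (iv F248561)
def n56677 : Q := act 8 n55375
theorem D56677 : act 8 n55375 = n56677 := rfl
theorem F254535 : act 4 n56677 = n56677 := d33_1 D56677 (iv D56677) F248563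
theorem F254536 : act 5 n56677 = n55873 := d37_1 D56677 (iv D55873) (iv F248564)
theorem F254537 : act 6 n56677 = n55377 := d40_1 D56677 (iv D55377) (iv F248565)
def n56678 : Q := act 8 n55376
theorem D56678 : act 8 n55376 = n56678 := rfl
theorem F254538 : act 4 n56678 = n56678 := d33_1 D56678 (iv D56678) F248566
theorem F254539 : act 5 n56678 = n55378 := d37_1 D56678 (iv D55378) (iv F248567)
theorem F254540 : act 9 n56678 = n55377 := d44_2 D55376 D56678 (iv D55377) (iv D53783) D53782
def n56679 : Q := act 3 n55377
theorem D56679 : act 3 n55377 = n56679 := rfl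
theorem F254541 : act 5 n56679 = n55379 := d25_2 (iv F248569) D56679 (iv D55379)
theorem F254542 : act 8 n56679 = n55382 := d28_2 D55377 D56679 (iv D55382) (iv D53788) (iv F241182)
def n56680 : Q := act 3 n55378
theorem D56680 : act 3 n55378 = n56680 := rfl
theorem F254543 : act 6 n56680 = n55876 := d26_2 (iv F248571) D56680 (iv D55876)
theorem F254544 : act 9 n56680 = n55379 := d29_2 (iv F248572) D56680 (iv D55379)
def n56681 : Q := act 2 n55379
theorem D56681 : act 2 n55379 = n56681 := rfl
theorem F254545 : act 6 n56681 = n55877 := d20_2 (iv F248573) D56681 (iv D55877)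
theorem F254546 : act 8 n56681 = n55383 := d22_2 (iv F248574) D56681 (iv D55383)
def n56682 : Q := act 4 n55379
theorem D56682 : act 4 n55379 = n56682 := rfl
theorem F254547 : act 0 n56682 = n55834 := d3_1 D56682 (iv F253998) F253997
theorem F254548 : act 1 n56682 = n55851 := d11_1 D56682 (iv F254508) F254507
theorem F254549 : act 3 n56682 = n55436 := d24_1 D56682 (iv D55436) (iv D53851) (iv F241187) D55379
theorem F254550 : act 6 n56682 = n55856 := d31_2 (iv F248573) D56682 F250226
theorem F254551 : act 8 n56682 = n55384 := d33_2 (iv F248574) D56682 (iv D55384)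
def n56683 : Q := act 8 n55380
theorem D56683 : act 8 n55380 = n56683 := rfl
theorem F254552 : act 2 n56683 = n55386 := d22_1 D56683 (iv D55386) (iv F248575)
theorem F254553 : act 4 n56683 = n55406 := d33_1 D56683 (iv D55406) (iv F248576)
theorem F254554 : act 5 n56683 = n55878 := d37_1 D56683 (iv D55878) (iv F248577)
theorem F254555 : act 7 n56683 = n55381 := d42_1 D56683 (iv D55381) (iv F248578)
def n56684 : Q := act 3 n55381
theorem D56684 : act 3 n55381 = n56684 := rfl
theorem F254556 : act 5 n56684 = n55879 := d25_2 (iv F248581) D56684 (iv D55879)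
theorem F254557 : act 6 n56684 = n55382 := d26_2 (iv F248582) D56684 (iv D55382)
def n56685 : Q := act 2 n55382
theorem D56685 : act 2 n55382 = n56685 := rfl
theorem F254558 : act 3 n56685 = n55388 := d17_2 D55382 D56685 (iv D55388) (iv D53793) (iv F241196)
theorem F254559 : act 5 n56685 = n55383 := d19_2 (iv F248583) D56685 (iv D55383)
def n56686 : Q := act 4 n55382
theorem D56686 : act 4 n55382 = n56686 := rfl
theorem F254560 : act 3 n56686 = n55409 := d24_1 D56686 (iv D55409) (iv D53814) (iv F241197) D55382
def n56687 : Q := act 1 n55383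
theorem D56687 : act 1 n55383 = n56687 := rfl
theorem F254561 : act 3 n56687 = n55390 := d10_2 (iv F248584) D56687 (iv D55390)
theorem F254562 : act 6 n56687 = n55882 := d13_2 (iv F248585) D56687 (iv D55882)
def n56688 : Q := act 4 n55383
theorem D56688 : act 4 n55383 = n56688 := rfl
theorem F254563 : act 0 n56688 = n55838 := d3_1 D56688 (iv F254006) F254004
theorem F254564 : act 2 n56688 = n55384 := d18_1 D56688 (iv D55384) D55383
theorem F254565 : act 3 n56688 = n55791 := d24_1 D56688 (iv F253724) F253723 F247621 (iv F248584)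
theorem F254566 : act 6 n56688 = n55883 := d31_2 (iv F248585) D56688 (iv D55883)
theorem F254567 : act 9 n56688 = n55803 := d34_2 F254297 D56688 (iv F254295)
def n56689 : Q := act 5 n55384
theorem D56689 : act 5 n55384 = n56689 := rfl
theorem F254568 : act 0 n56689 = n55837 := d4_1 D56689 F250171 (iv F248586)
theorem F254569 : act 3 n56689 = n55385 := d25_1 D56689 (iv D55385) (iv F248587)
theorem F254570 : act 9 n56689 = n55489 := d38_2 (iv F248589) D56689 F249058
def n56690 : Q := act 3 n55386
theorem D56690 : act 3 n55386 = n56690 := rfl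
theorem F254571 : act 5 n56690 = n55885 := d25_2 (iv F248596) D56690 (iv D55885)
theorem F254572 : act 7 n56690 = n55387 := d27_2 (iv F248597) D56690 (iv D55387)
def n56691 : Q := act 2 n55387
theorem D56691 : act 2 n55387 = n56691 := rfl
theorem F254573 : act 5 n56691 = n55886 := d19_2 (iv F248598) D56691 (iv D55886)
theorem F254574 : act 6 n56691 = n55388 := d20_2 (iv F248599) D56691 (iv D55388)
def n56692 : Q := act 4 n55387
theorem D56692 : act 4 n55387 = n56692 := rfl
theorem F254575 : act 3 n56692 = n55413 := d24_1 D56692 (iv D55413) (iv D53819) (iv F241208) D55387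
theorem F254576 : act 6 n56692 = n55389 := d31_2 (iv F248599) D56692 (iv D55389)
def n56693 : Q := act 1 n55388
theorem D56693 : act 1 n55388 = n56693 := rfl
theorem F254577 : act 5 n56693 = n55390 := d12_2 (iv F248600) D56693 (iv D55390)
def n56694 : Q := act 4 n55388
theorem D56694 : act 4 n55388 = n56694 := rfl
theorem F254578 : act 2 n56694 = n55389 := d18_1 D56694 (iv D55389) D55388
def n56695 : Q := act 0 n55390
theorem D56695 : act 0 n55390 = n56695 := rfl
theorem F254579 : act 6 n56695 = n55888 := d5_2 (iv F248602) D56695 (iv D55888)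
def n56696 : Q := act 3 n55391
theorem D56696 : act 3 n55391 = n56696 := rfl
theorem F254580 : act 1 n56696 = n55395 := d10_1 D56696 (iv D55395) (iv F248603)
theorem F254581 : act 5 n56696 = n55392 := d25_2 (iv F248605) D56696 (iv D55392)
theorem F254582 : act 7 n56696 = n55405 := d27_2 (iv F248606) D56696 (iv D55405)
theorem F254583 : act 8 n56696 = n56696 := d28_2 D55391 D56696 (iv D56696) (iv D55391) F241220
def n56697 : Q := act 8 n55393
theorem D56697 : act 8 n55393 = n56697 := rfl
theorem F254584 : act 1 n56697 = n55911 := d15_1 D56697 (iv D55911) (iv F248611)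
theorem F254585 : act 2 n56697 = n55398 := d22_1 D56697 (iv D55398) (iv F248612)
theorem F254586 : act 5 n56697 = n56697 := d37_1 D56697 (iv D56697) F248614
theorem F254587 : act 6 n56697 = n55406 := d40_1 D56697 (iv D55406) (iv F248615)
theorem F254588 : act 7 n56697 = n55394 := d42_1 D56697 (iv D55394) (iv F248616)
theorem F254589 : act 9 n56697 = n55907 := d44_2 D55393 D56697 (iv D55907) (iv D54435) (iv F241238)
def n56698 : Q := act 3 n55394
theorem D56698 : act 3 n55394 = n56698 := rfl
theorem F254590 : act 5 n56698 = n56698 := d25_2 F248618 D56698 (iv D56698)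
theorem F254591 : act 6 n56698 = n55395 := d26_2 (iv F248619) D56698 (iv D55395)
theorem F254592 : act 8 n56698 = n56698 := d28_2 D55394 D56698 (iv D56698) (iv D55394) F241240
def n56699 : Q := act 2 n55395
theorem D56699 : act 2 n55395 = n56699 := rfl
theorem F254593 : act 3 n56699 = n55400 := d17_2 D55395 D56699 (iv D55400) (iv D53806) (iv F241243)
theorem F254594 : act 5 n56699 = n55396 := d19_2 (iv F248620) D56699 (iv D55396)
theorem F254595 : act 7 n56699 = n55408 := d21_2 (iv F248621) D56699 (iv D55408)
theorem F254596 : act 8 n56699 = n56699 := d22_2 F248622 D56699 (iv D56699)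
theorem F254597 : act 9 n56699 = n55631 := d23_2 F254322 D56699 F254323
def n56700 : Q := act 4 n55395
theorem D56700 : act 4 n55395 = n56700 := rfl
theorem F254598 : act 7 n56700 = n55409 := d32_2 (iv F248621) D56700 (iv D55409)
theorem F254599 : act 8 n56700 = n56700 := d33_2 F248622 D56700 (iv D56700)
def n56701 : Q := act 3 n55398
theorem D56701 : act 3 n55398 = n56701 := rfl
theorem F254600 : act 5 n56701 = n56701 := d25_2 F248636 D56701 (iv D56701)
theorem F254601 : act 6 n56701 = n55411 := d26_2 (iv F248637) D56701 (iv D55411)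
theorem F254602 : act 7 n56701 = n55399 := d27_2 (iv F248638) D56701 (iv D55399)
theorem F254603 : act 8 n56701 = n55421 := d28_2 D55398 D56701 (iv D55421) (iv D53831) (iv F241255)
def n56702 : Q := act 2 n55399
theorem D56702 : act 2 n55399 = n56702 := rfl
theorem F254604 : act 5 n56702 = n56702 := d19_2 F248639 D56702 (iv D56702)
theorem F254605 : act 6 n56702 = n55400 := d20_2 (iv F248640) D56702 (iv D55400)
theorem F254606 : act 8 n56702 = n55422 := d22_2 (iv F248641) D56702 (iv D55422)
def n56703 : Q := act 4 n55399
theorem D56703 : act 4 n55399 = n56703 := rfl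
theorem F254607 : act 6 n56703 = n55401 := d31_2 (iv F248640) D56703 (iv D55401)
theorem F254608 : act 8 n56703 = n55423 := d33_2 (iv F248641) D56703 (iv D55423)
def n56704 : Q := act 1 n55400
theorem D56704 : act 1 n55400 = n56704 := rfl
theorem F254609 : act 5 n56704 = n55402 := d12_2 (iv F248642) D56704 (iv D55402)
theorem F254610 : act 7 n56704 = n55414 := d14_2 (iv F248643) D56704 (iv D55414)
theorem F254611 : act 8 n56704 = n55424 := d15_2 (iv F248644) D56704 (iv D55424)
def n56705 : Q := act 4 n55400
theorem D56705 : act 4 n55400 = n56705 := rfl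
theorem F254612 : act 2 n56705 = n55401 := d18_1 D56705 (iv D55401) D55400
theorem F254613 : act 5 n56705 = n55813 := d30_2 (iv F248642) D56705 (iv D55813) F243180 (iv F241264)
theorem F254614 : act 7 n56705 = n55415 := d32_2 (iv F248643) D56705 (iv D55415)
theorem F254615 : act 8 n56705 = n55425 := d33_2 (iv F248644) D56705 (iv D55425)
def n56706 : Q := act 0 n55402
theorem D56706 : act 0 n55402 = n56706 := rfl
theorem F254616 : act 1 n56706 = n55891 := d0_2 D55402 D56706 (iv F251076) F251077 F247981
theorem F254617 : act 2 n56706 = n55529 := d1_2 F252062 D56706 (iv F252061)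
theorem F254618 : act 4 n56706 = n55901 := d3_2 (iv F248647) D56706 F250325
theorem F254619 : act 6 n56706 = n56706 := d5_2 F248648 D56706 (iv D56706)
theorem F254620 : act 7 n56706 = n55416 := d6_2 (iv F248649) D56706 (iv D55416)
theorem F254621 : act 8 n56706 = n55426 := d7_2 (iv F248650) D56706 (iv D55426)
def n56707 : Q := act 8 n55403
theorem D56707 : act 8 n55403 = n56707 := rfl
theorem F254622 : act 0 n56707 = n55564 := d7_1 D56707 (iv D55564) (iv F248651)
theorem F254623 : act 1 n56707 = n55406 := d15_1 D56707 (iv D55406) (iv F248652)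
theorem F254624 : act 2 n56707 = n55448 := d22_1 D56707 (iv D55448) (iv F248653)
theorem F254625 : act 5 n56707 = n55417 := d37_1 D56707 (iv D55417) (iv F248655)
theorem F254626 : act 6 n56707 = n55911 := d40_1 D56707 (iv D55911) (iv F248656)
theorem F254627 : act 7 n56707 = n55404 := d42_1 D56707 (iv D55404) (iv F248657)
theorem F254628 : act 9 n56707 = n55445 := d44_2 D55403 D56707 (iv D55445) (iv D53861) (iv F241274)
def n56708 : Q := act 4 n55405
theorem D56708 : act 4 n55405 = n56708 := rfl
theorem F254629 : act 1 n56708 = n55409 := d11_1 D56708 (iv D55409) (iv F248664)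
theorem F254630 : act 8 n56708 = n56708 := d33_2 F248666 D56708 (iv D56708)
def n56709 : Q := act 3 n55406
theorem D56709 : act 3 n55406 = n56709 := rfl
theorem F254631 : act 5 n56709 = n55418 := d25_2 (iv F248668) D56709 (iv D55418)
theorem F254632 : act 7 n56709 = n55407 := d27_2 (iv F248669) D56709 (iv D55407)
theorem F254633 : act 8 n56709 = n56709 := d28_2 D55406 D56709 (iv D56709) (iv D55406) F241287
def n56710 : Q := act 4 n55407
theorem D56710 : act 4 n55407 = n56710 := rfl
theorem F254634 : act 6 n56710 = n55409 := d31_2 (iv F248671) D56710 (iv D55409)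
theorem F254635 : act 8 n56710 = n56710 := d33_2 F248672 D56710 (iv D56710)
def n56711 : Q := act 4 n55408
theorem D56711 : act 4 n55408 = n56711 := rfl
theorem F254636 : act 2 n56711 = n55409 := d18_1 D56711 (iv D55409) D55408
theorem F254637 : act 5 n56711 = n55579 := d30_2 (iv F248674) D56711 (iv D55579) F242262 F241299
theorem F254638 : act 8 n56711 = n56711 := d33_2 F248675 D56711 (iv D56711)
theorem F254639 : act 9 n56711 = n55621 := d34_2 (iv F248676) D56711 F249579
def n56712 : Q := act 5 n55409
theorem D56712 : act 5 n55409 = n56712 := rfl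
theorem F254640 : act 0 n56712 = n55848 := d4_1 D56712 (iv F254050) F254049
theorem F254641 : act 2 n56712 = n55579 := d19_1 D56712 (iv F254637) F254636
theorem F254642 : act 4 n56712 = n55410 := d30_1 D56712 (iv D55410) (iv D53816) (iv F241293) D55409
theorem F254643 : act 8 n56712 = n56712 := d37_2 F248677 D56712 (iv D56712)
theorem F254644 : act 9 n56712 = n55490 := d38_2 F254360 D56712 (iv F254358)
def n56713 : Q := act 2 n55411
theorem D56713 : act 2 n55411 = n56713 := rfl
theorem F254645 : act 5 n56713 = n55420 := d19_2 (iv F248683) D56713 (iv D55420)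
theorem F254646 : act 7 n56713 = n55412 := d21_2 (iv F248684) D56713 (iv D55412)
theorem F254647 : act 8 n56713 = n55427 := d22_2 (iv F248685) D56713 (iv D55427)
theorem F254648 : act 1 n55631 = n56713 := d15_3 F254647 (iv F248750) (iv F249616)
def n56714 : Q := act 4 n55411
theorem D56714 : act 4 n55411 = n56714 := rfl
theorem F254649 : act 5 n56714 = n55747 := d30_2 (iv F248683) D56714 (iv D55747) F242941 (iv F241343)
theorem F254650 : act 7 n56714 = n55413 := d32_2 (iv F248684) D56714 (iv D55413)
theorem F254651 : act 8 n56714 = n55428 := d33_2 (iv F248685) D56714 (iv D55428)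
def n56715 : Q := act 4 n55412
theorem D56715 : act 4 n55412 = n56715 := rfl
theorem F254652 : act 1 n56715 = n55621 := d11_1 D56715 F249579 F248689
theorem F254653 : act 2 n56715 = n55413 := d18_1 D56715 (iv D55413) D55412
theorem F254654 : act 5 n56715 = n55610 := d30_2 (iv F248686) D56715 (iv D55610) F242406 (iv F241347)
theorem F254655 : act 6 n56715 = n55415 := d31_2 (iv F248687) D56715 (iv D55415)
theorem F254656 : act 8 n56715 = n55429 := d33_2 (iv F248688) D56715 (iv D55429)
def n56716 : Q := act 0 n55414
theorem D56716 : act 0 n55414 = n56716 := rfl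
theorem F254657 : act 1 n56716 = n55896 := d0_2 D55414 D56716 (iv F251118) F251119 F247996
theorem F254658 : act 2 n56716 = n55521 := d1_2 F252099 D56716 (iv F252098)
theorem F254659 : act 5 n56716 = n55416 := d4_2 (iv F248692) D56716 (iv D55416)
theorem F254660 : act 6 n56716 = n55535 := d5_2 (iv F248693) D56716 F249250
theorem F254661 : act 8 n56716 = n55430 := d7_2 (iv F248694) D56716 (iv D55430)
def n56717 : Q := act 4 n55414
theorem D56717 : act 4 n55414 = n56717 := rfl
theorem F254662 : act 1 n56717 = n55415 := d11_1 D56717 (iv D55415) D55414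
theorem F254663 : act 6 n56717 = n55621 := d31_2 (iv F248693) D56717 F249579
theorem F254664 : act 8 n56717 = n55431 := d33_2 (iv F248694) D56717 (iv D55431)
def n56718 : Q := act 3 n55415
theorem D56718 : act 3 n55415 = n56718 := rfl
def n56719 : Q := act 4 n55418
theorem D56719 : act 4 n55418 = n56719 := rfl
theorem F254665 : act 2 n56719 = n55629 := d18_1 D56719 (iv F254344) F254342
theorem F254666 : act 3 n56719 = n55891 := d24_1 D56719 F250296 (iv D54427) (iv F241334) D55418
theorem F254667 : act 6 n56719 = n56719 := d31_2 F248709 D56719 (iv D56719)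
theorem F254668 : act 7 n56719 = n55419 := d32_2 (iv F248710) D56719 (iv D55419)
theorem F254669 : act 8 n56719 = n56719 := d33_2 F248711 D56719 (iv D56719)
theorem F254670 : act 9 n56719 = n55927 := d34_2 F252068 D56719 (iv F252064)
def n56720 : Q := act 5 n55419
theorem D56720 : act 5 n55419 = n56720 := rfl
theorem F254671 : act 2 n56720 = n55635 := d19_1 D56720 F249635 (iv F248712)
theorem F254672 : act 3 n56720 = n55896 := d25_1 D56720 F250313 (iv F248713)
theorem F254673 : act 8 n56720 = n56720 := d37_2 F248715 D56720 (iv D56720)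
def n56721 : Q := act 2 n55421
theorem D56721 : act 2 n55421 = n56721 := rfl
theorem F254674 : act 3 n56721 = n56721 := d17_2 D55421 D56721 (iv D56721) (iv D55421) F241357
theorem F254675 : act 5 n56721 = n56721 := d19_2 F248721 D56721 (iv D56721)
theorem F254676 : act 6 n56721 = n55427 := d20_2 (iv F248722) D56721 (iv D55427)
theorem F254677 : act 7 n56721 = n55422 := d21_2 (iv F248723) D56721 (iv D55422)
theorem F254678 : act 9 n56721 = n56721 := d23_2 F248724 D56721 (iv D56721)
theorem F254679 : act 1 n55653 = n56721 := d13_3 F254676 (iv F248750) D55653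
def n56722 : Q := act 4 n55421
theorem D56722 : act 4 n55421 = n56722 := rfl
theorem F254680 : act 3 n56722 = n55748 := d24_1 D56722 F249942 F242950 (iv F241358) D55421
theorem F254681 : act 6 n56722 = n55428 := d31_2 (iv F248722) D56722 (iv D55428)
theorem F254682 : act 7 n56722 = n55423 := d32_2 (iv F248723) D56722 (iv D55423)
theorem F254683 : act 9 n56722 = n56722 := d34_2 F248724 D56722 (iv D56722)
def n56723 : Q := act 1 n55422
theorem D56723 : act 1 n55422 = n56723 := rfl
theorem F254684 : act 2 n56723 = n55908 := d9_2 D55422 D56723 F250353 (iv F245573) F245572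
theorem F254685 : act 3 n56723 = n56723 := d10_2 F248725 D56723 (iv D56723)
theorem F254686 : act 5 n56723 = n56723 := d12_2 F248726 D56723 (iv D56723)
theorem F254687 : act 6 n56723 = n55424 := d13_2 (iv F248727) D56723 (iv D55424)
theorem F254688 : act 7 n56723 = n55653 := d14_2 F254677 D56723 F254679
theorem F254689 : act 9 n56723 = n56723 := d16_2 F248728 D56723 (iv D56723)
def n56724 : Q := act 4 n55422
theorem D56724 : act 4 n55422 = n56724 := rfl
theorem F254690 : act 2 n56724 = n55423 := d18_1 D56724 (iv D55423) D55422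
theorem F254691 : act 6 n56724 = n55425 := d31_2 (iv F248727) D56724 (iv D55425)
theorem F254692 : act 9 n56724 = n56724 := d34_2 F248728 D56724 (iv D56724)
def n56725 : Q := act 5 n55423
theorem D56725 : act 5 n55423 = n56725 := rfl
theorem F254693 : act 4 n56725 = n56725 := d30_1 D56725 (iv D56725) (iv D55423) F241363 D55423
theorem F254694 : act 9 n56725 = n56725 := d38_2 F248730 D56725 (iv D56725)
def n56726 : Q := act 0 n55424
theorem D56726 : act 0 n55424 = n56726 := rfl
theorem F254695 : act 1 n56726 = n55924 := d0_2 D55424 D56726 (iv F251226) F251227 F248005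
theorem F254696 : act 2 n56726 = n55538 := d1_2 F252122 D56726 (iv F252121)
theorem F254697 : act 3 n56726 = n56726 := d2_2 F248731 D56726 (iv D56726)
theorem F254698 : act 5 n56726 = n55426 := d4_2 (iv F248732) D56726 (iv D55426)
theorem F254699 : act 7 n56726 = n55430 := d6_2 (iv F248733) D56726 (iv D55430)
theorem F254700 : act 9 n56726 = n56726 := d8_2 F248734 D56726 (iv D56726)
def n56727 : Q := act 4 n55424
theorem D56727 : act 4 n55424 = n56727 := rfl
theorem F254701 : act 1 n56727 = n55425 := d11_1 D56727 (iv D55425) D55424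
theorem F254702 : act 5 n56727 = n55910 := d30_2 (iv F248732) D56727 (iv D55910) F243502 (iv F241373)
theorem F254703 : act 7 n56727 = n55431 := d32_2 (iv F248733) D56727 (iv D55431)
theorem F254704 : act 9 n56727 = n56727 := d34_2 F248734 D56727 (iv D56727)
def n56728 : Q := act 3 n55425
theorem D56728 : act 3 n55425 = n56728 := rfl
theorem F254705 : act 4 n56728 = n56728 := d24_2 D55425 D56728 (iv D56728) (iv D55425) F241366
theorem F254706 : act 5 n56728 = n55913 := d25_2 (iv F248736) D56728 F250366
theorem F254707 : act 7 n56728 = n55432 := d27_2 (iv F248737) D56728 (iv D55432)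
theorem F254708 : act 9 n56728 = n56728 := d29_2 F248738 D56728 (iv D56728)
def n56729 : Q := act 4 n55427
theorem D56729 : act 4 n55427 = n56729 := rfl
theorem F254709 : act 1 n56729 = n55646 := d11_1 D56729 F249670 F248750
theorem F254710 : act 2 n56729 = n55428 := d18_1 D56729 (iv D55428) D55427
theorem F254711 : act 5 n56729 = n55642 := d30_2 (iv F248747) D56729 (iv D55642) F242548 (iv F241400)
theorem F254712 : act 7 n56729 = n55429 := d32_2 (iv F248748) D56729 (iv D55429)
theorem F254713 : act 9 n56729 = n56729 := d34_2 F248749 D56729 (iv D56729)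
def n56730 : Q := act 3 n55429
theorem D56730 : act 3 n55429 = n56730 := rfl
theorem F254714 : act 1 n56730 = n55652 := d10_1 D56730 F249686 (iv F248755)
theorem F254715 : act 4 n56730 = n56730 := d24_2 D55429 D56730 (iv D56730) (iv D55429) F241380
theorem F254716 : act 5 n56730 = n55649 := d25_2 (iv F248757) D56730 F249680
theorem F254717 : act 6 n56730 = n55432 := d26_2 (iv F248758) D56730 (iv D55432)
theorem F254718 : act 9 n56730 = n56730 := d29_2 F248759 D56730 (iv D56730)
def n56731 : Q := act 4 n55430
theorem D56731 : act 4 n55430 = n56731 := rfl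
theorem F254719 : act 0 n56731 = n55431 := d3_1 D56731 (iv D55431) D55430
theorem F254720 : act 1 n56731 = n55926 := d11_1 D56731 (iv D55926) (iv F248760)
theorem F254721 : act 2 n56731 = n55544 := d18_1 D56731 (iv D55544) (iv F248761)
theorem F254722 : act 5 n56731 = n55925 := d30_2 (iv F248763) D56731 (iv D55925) F243587 (iv F241396)
theorem F254723 : act 6 n56731 = n55547 := d31_2 (iv F248764) D56731 F249306
theorem F254724 : act 9 n56731 = n56731 := d34_2 F248765 D56731 (iv D56731)
def n56732 : Q := act 3 n55431
theorem D56732 : act 3 n55431 = n56732 := rfl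
theorem F254725 : act 1 n56732 = n55432 := d10_1 D56732 (iv D55432) (iv F248766)
theorem F254726 : act 4 n56732 = n56732 := d24_2 D55431 D56732 (iv D56732) (iv D55431) F241387
theorem F254727 : act 6 n56732 = n55652 := d26_2 (iv F248767) D56732 F249686
theorem F254728 : act 9 n56732 = n56732 := d29_2 F248768 D56732 (iv D56732)
def n56733 : Q := act 8 n55432
theorem D56733 : act 8 n55432 = n56733 := rfl
theorem F254729 : act 4 n56733 = n56733 := d33_1 D56733 (iv D56733) F248769
def n56734 : Q := act 2 n55434
theorem D56734 : act 2 n55434 = n56734 := rfl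
theorem F254730 : act 0 n56734 = n55911 := d1_1 D56734 F250361 (iv F248777)
theorem F254731 : act 1 n56734 = n55560 := d9_1 D56734 F249366 F242200 (iv F243189) (iv F248778)
theorem F254732 : act 5 n56734 = n56734 := d19_2 F248779 D56734 (iv D56734)
theorem F254733 : act 6 n56734 = n55564 := d20_2 (iv F248780) D56734 F249384
theorem F254734 : act 8 n56734 = n55449 := d22_2 (iv F248781) D56734 (iv D55449)
theorem F254735 : act 9 n56734 = n55435 := d23_2 (iv F248782) D56734 (iv D55435)
def n56735 : Q := act 4 n55434
theorem D56735 : act 4 n55434 = n56735 := rfl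
theorem F254736 : act 0 n56735 = n55833 := d3_1 D56735 F250161 (iv F248777)
theorem F254737 : act 1 n56735 = n55816 := d11_1 D56735 F250115 (iv F248778)
theorem F254738 : act 6 n56735 = n55819 := d31_2 (iv F248780) D56735 F250124
theorem F254739 : act 8 n56735 = n55450 := d33_2 (iv F248781) D56735 (iv D55450)
theorem F254740 : act 9 n56735 = n55436 := d34_2 (iv F248782) D56735 (iv D55436)
def n56736 : Q := act 4 n55435
theorem D56736 : act 4 n55435 = n56736 := rfl
theorem F254741 : act 0 n56736 = n55811 := d3_1 D56736 F250108 (iv F248783)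
theorem F254742 : act 1 n56736 = n55586 := d11_1 D56736 F249474 (iv F248784)
theorem F254743 : act 2 n56736 = n55436 := d18_1 D56736 (iv D55436) D55435
theorem F254744 : act 6 n56736 = n55591 := d31_2 (iv F248786) D56736 F249492
theorem F254745 : act 8 n56736 = n55437 := d33_2 (iv F248787) D56736 (iv D55437)
def n56737 : Q := act 5 n55436
theorem D56737 : act 5 n55436 = n56737 := rfl
theorem F254746 : act 0 n56737 = n55832 := d4_1 D56737 F250160 (iv F248788)
theorem F254747 : act 1 n56737 = n55850 := d12_1 D56737 F250214 (iv F248789)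
theorem F254748 : act 4 n56737 = n56737 := d30_1 D56737 (iv D56737) (iv D55436) F241442 D55436
theorem F254749 : act 8 n56737 = n55438 := d37_2 (iv F248791) D56737 (iv D55438)
def n56738 : Q := act 5 n55437
theorem D56738 : act 5 n55437 = n56738 := rfl
theorem F254750 : act 0 n56738 = n55566 := d4_1 D56738 F249396 (iv F248792)
theorem F254751 : act 1 n56738 = n55585 := d12_1 D56738 F249472 (iv F248793)
theorem F254752 : act 2 n56738 = n55438 := d19_1 D56738 (iv D55438) (iv F248794)
theorem F254753 : act 3 n56738 = n55479 := d25_1 D56738 F249009 (iv F248795)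
theorem F254754 : act 4 n56738 = n56738 := d30_1 D56738 (iv D56738) (iv D55437) F241448 D55437
theorem F254755 : act 7 n56738 = n55499 := d36_2 F251001 D56738 (iv F250999)
theorem F254756 : act 9 n56738 = n55452 := d38_2 (iv F248797) D56738 (iv D55452)
def n56739 : Q := act 4 n55439
theorem D56739 : act 4 n55439 = n56739 := rfl
theorem F254757 : act 0 n56739 = n55446 := d3_1 D56739 (iv D55446) (iv F248803)
theorem F254758 : act 1 n56739 = n55645 := d11_1 D56739 (iv D55645) (iv F248804)
theorem F254759 : act 2 n56739 = n55689 := d18_1 D56739 (iv D55689) (iv F248805)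
theorem F254760 : act 3 n56739 = n55642 := d24_1 D56739 (iv D55642) (iv D54104) (iv F241463) D55439
theorem F254761 : act 6 n56739 = n55902 := d31_2 (iv F248807) D56739 (iv D55902)
theorem F254762 : act 7 n56739 = n55649 := d32_2 (iv F248808) D56739 (iv D55649)
theorem F254763 : act 9 n56739 = n56739 := d34_2 F248809 D56739 (iv D56739)
def n56740 : Q := act 3 n55442
theorem D56740 : act 3 n55442 = n56740 := rfl
theorem F254764 : act 0 n56740 = n55444 := d2_1 D56740 (iv D55444) (iv F248822)
theorem F254765 : act 1 n56740 = n55540 := d10_1 D56740 (iv D55540) (iv F248823)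
theorem F254766 : act 5 n56740 = n56740 := d25_2 F248826 D56740 (iv D56740)
theorem F254767 : act 6 n56740 = n55906 := d26_2 (iv F248827) D56740 (iv D55906)
theorem F254768 : act 7 n56740 = n55543 := d27_2 (iv F248828) D56740 (iv D55543)
theorem F254769 : act 9 n56740 = n56740 := d29_2 F248829 D56740 (iv D56740)
def n56741 : Q := act 2 n55444
theorem D56741 : act 2 n55444 = n56741 := rfl
theorem F254770 : act 3 n56741 = n56741 := d17_2 D55444 D56741 (iv D56741) (iv D55444) F241496
theorem F254771 : act 5 n56741 = n56741 := d19_2 F248839 D56741 (iv D56741)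
theorem F254772 : act 6 n56741 = n55909 := d20_2 (iv F248840) D56741 (iv D55909)
theorem F254773 : act 9 n56741 = n56741 := d23_2 F248841 D56741 (iv D56741)
def n56742 : Q := act 4 n55444
theorem D56742 : act 4 n55444 = n56742 := rfl
theorem F254774 : act 1 n56742 = n55446 := d11_1 D56742 (iv D55446) (iv F248838)
theorem F254775 : act 6 n56742 = n55910 := d31_2 (iv F248840) D56742 (iv D55910)
theorem F254776 : act 9 n56742 = n56742 := d34_2 F248841 D56742 (iv D56742)
def n56743 : Q := act 5 n55446
theorem D56743 : act 5 n55446 = n56743 := rfl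
theorem F254777 : act 4 n56743 = n56743 := d30_1 D56743 (iv D56743) (iv D55446) F241513 D55446
theorem F254778 : act 9 n56743 = n56743 := d38_2 F248848 D56743 (iv D56743)
def n56744 : Q := act 4 n55449
theorem D56744 : act 4 n55449 = n56744 := rfl
theorem F254779 : act 0 n56744 = n55810 := d3_1 D56744 F250106 (iv F248861)
theorem F254780 : act 1 n56744 = n55559 := d11_1 D56744 F249364 (iv F248862)
theorem F254781 : act 2 n56744 = n55450 := d18_1 D56744 (iv D55450) D55449
theorem F254782 : act 6 n56744 = n55563 := d31_2 (iv F248865) D56744 F249380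
theorem F254783 : act 9 n56744 = n55451 := d34_2 (iv F248866) D56744 (iv D55451)
def n56745 : Q := act 3 n55455
theorem D56745 : act 3 n55455 = n56745 := rfl
theorem F254784 : act 0 n56745 = n55463 := d2_1 D56745 (iv D55463) (iv F248895)
theorem F254785 : act 1 n56745 = n55671 := d10_1 D56745 (iv D55671) (iv F248896)
theorem F254786 : act 4 n56745 = n55460 := d24_2 (iv F248897) D56745 (iv D55460) F241616 (iv F241581)
theorem F254787 : act 5 n56745 = n55695 := d25_2 (iv F248898) D56745 (iv D55695)
theorem F254788 : act 7 n56745 = n55459 := d27_2 (iv F248899) D56745 (iv D55459)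
theorem F254789 : act 8 n56745 = n55518 := d28_2 D55455 D56745 (iv D55518) (iv D53962) (iv F241575)
theorem F254790 : act 9 n56745 = n55456 := d29_2 (iv F248900) D56745 (iv D55456)
def n56746 : Q := act 2 n55456
theorem D56746 : act 2 n55456 = n56746 := rfl
theorem F254791 : act 0 n56746 = n55736 := d1_1 D56746 (iv D55736) (iv F248901)
theorem F254792 : act 4 n56746 = n55473 := d18_2 (iv F248903) D56746 (iv D55473)
theorem F254793 : act 5 n56746 = n55700 := d19_2 (iv F248904) D56746 (iv D55700)
theorem F254794 : act 8 n56746 = n55491 := d22_2 (iv F248905) D56746 (iv D55491)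
def n56747 : Q := act 3 n55457
theorem D56747 : act 3 n55457 = n56747 := rfl
theorem F254795 : act 0 n56747 = n55681 := d2_1 D56747 (iv D55681) (iv F248906)
theorem F254796 : act 1 n56747 = n55459 := d10_1 D56747 (iv D55459) (iv F248907)
theorem F254797 : act 4 n56747 = n55472 := d24_2 (iv F248908) D56747 (iv D55472) F241693 (iv F241597)
theorem F254798 : act 5 n56747 = n55662 := d25_2 (iv F248909) D56747 (iv D55662)
theorem F254799 : act 7 n56747 = n55671 := d27_2 (iv F248910) D56747 (iv D55671)
theorem F254800 : act 8 n56747 = n55498 := d28_2 D55457 D56747 (iv D55498) (iv D53942) (iv F241591)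
theorem F254801 : act 9 n56747 = n55673 := d29_2 (iv F248911) D56747 (iv D55673)
def n56748 : Q := act 3 n55458
theorem D56748 : act 3 n55458 = n56748 := rfl
theorem F254802 : act 0 n56748 = n55472 := d2_1 D56748 (iv D55472) (iv F248912)
theorem F254803 : act 1 n56748 = n55662 := d10_1 D56748 (iv D55662) (iv F248913)
theorem F254804 : act 4 n56748 = n55681 := d24_2 (iv F248914) D56748 (iv D55681) F242735 (iv F241611)
theorem F254805 : act 5 n56748 = n55459 := d25_2 (iv F248915) D56748 (iv D55459)
theorem F254806 : act 7 n56748 = n55695 := d27_2 (iv F248916) D56748 (iv D55695)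
theorem F254807 : act 8 n56748 = n55527 := d28_2 D55458 D56748 (iv D55527) (iv D53971) (iv F241603)
theorem F254808 : act 9 n56748 = n55697 := d29_2 (iv F248917) D56748 (iv D55697)
def n56749 : Q := act 2 n55459
theorem D56749 : act 2 n55459 = n56749 := rfl
theorem F254809 : act 0 n56749 = n55473 := d1_1 D56749 (iv D55473) (iv F248918)
theorem F254810 : act 4 n56749 = n55736 := d18_2 (iv F248919) D56749 (iv D55736)
theorem F254811 : act 8 n56749 = n55528 := d22_2 (iv F248920) D56749 (iv D55528)
def n56750 : Q := act 2 n55460
theorem D56750 : act 2 n55460 = n56750 := rfl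
theorem F254812 : act 5 n56750 = n55720 := d19_2 (iv F248922) D56750 (iv D55720)
theorem F254813 : act 7 n56750 = n55736 := d21_2 (iv F248923) D56750 (iv D55736)
theorem F254814 : act 8 n56750 = n55864 := d22_2 (iv F248924) D56750 (iv D55864)
theorem F254815 : act 9 n56750 = n55473 := d23_2 (iv F248925) D56750 (iv D55473)
def n56751 : Q := act 3 n55461
theorem D56751 : act 3 n55461 = n56751 := rfl
theorem F254816 : act 1 n56751 = n55715 := d10_1 D56751 (iv D55715) (iv F248926)
theorem F254817 : act 4 n56751 = n55470 := d24_2 (iv F248927) D56751 (iv D55470) F241687 (iv F241630)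
theorem F254818 : act 6 n56751 = n55463 := d26_2 (iv F248928) D56751 (iv D55463)
theorem F254819 : act 8 n56751 = n55589 := d28_2 D55461 D56751 (iv D55589) (iv D54043) (iv F241626)
theorem F254820 : act 9 n56751 = n55735 := d29_2 (iv F248929) D56751 (iv D55735)
def n56752 : Q := act 3 n55462
theorem D56752 : act 3 n55462 = n56752 := rfl
theorem F254821 : act 5 n56752 = n55707 := d25_2 (iv F248932) D56752 (iv D55707)
theorem F254822 : act 7 n56752 = n55470 := d27_2 (iv F248933) D56752 (iv D55470)
theorem F254823 : act 9 n56752 = n55730 := d29_2 (iv F248934) D56752 (iv D55730)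
def n56753 : Q := act 2 n55463
theorem D56753 : act 2 n55463 = n56753 := rfl
theorem F254824 : act 5 n56753 = n55709 := d19_2 (iv F248936) D56753 (iv D55709)
theorem F254825 : act 7 n56753 = n55473 := d21_2 (iv F248937) D56753 (iv D55473)
theorem F254826 : act 8 n56753 = n55601 := d22_2 (iv F248938) D56753 (iv D55601)
theorem F254827 : act 9 n56753 = n55736 := d23_2 (iv F248939) D56753 (iv D55736)
def n56754 : Q := act 8 n55464
theorem D56754 : act 8 n55464 = n56754 := rfl
theorem F254828 : act 1 n56754 = n55469 := d15_1 D56754 (iv D55469) (iv F248940)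
theorem F254829 : act 2 n56754 = n55724 := d22_1 D56754 (iv D55724) (iv F248941)
theorem F254830 : act 4 n56754 = n55474 := d33_1 D56754 (iv D55474) (iv F248943)
theorem F254831 : act 5 n56754 = n55465 := d37_1 D56754 (iv D55465) (iv F248944)
theorem F254832 : act 7 n56754 = n55703 := d42_1 D56754 (iv D55703) (iv F248945)
theorem F254833 : act 9 n56754 = n55716 := d44_2 D55464 D56754 (iv D55716) (iv D54205) (iv F241652)
def n56755 : Q := act 3 n55465
theorem D56755 : act 3 n55465 = n56755 := rfl
theorem F254834 : act 1 n56755 = n55470 := d10_1 D56755 (iv D55470) (iv F248946)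
theorem F254835 : act 4 n56755 = n55715 := d24_2 (iv F248948) D56755 (iv D55715) F242847 (iv F241660)
theorem F254836 : act 6 n56755 = n55673 := d26_2 (iv F248949) D56755 (iv D55673)
theorem F254837 : act 8 n56755 = n55762 := d28_2 D55465 D56755 (iv D55762) (iv D54264) (iv F241655)
def n56756 : Q := act 8 n55466
theorem D56756 : act 8 n55466 = n56756 := rfl
theorem F254838 : act 0 n56756 = n55852 := d7_1 D56756 (iv D55852) (iv F248950)
theorem F254839 : act 1 n56756 = n55761 := d15_1 D56756 (iv D55761) (iv F248951)
theorem F254840 : act 2 n56756 = n55613 := d22_1 D56756 (iv D55613) (iv F248952)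
theorem F254841 : act 4 n56756 = n56756 := d33_1 D56756 (iv D56756) F248954
theorem F254842 : act 5 n56756 = n55467 := d37_1 D56756 (iv D55467) (iv F248955)
theorem F254843 : act 6 n56756 = n55793 := d40_1 D56756 (iv D55793) (iv F248956)
theorem F254844 : act 7 n56756 = n55706 := d42_1 D56756 (iv D55706) (iv F248957)
def n56757 : Q := act 3 n55467
theorem D56757 : act 3 n55467 = n56757 := rfl
theorem F254845 : act 0 n56757 = n55863 := d2_1 D56757 (iv D55863) (iv F248958)
theorem F254846 : act 1 n56757 = n55762 := d10_1 D56757 (iv D55762) (iv F248959)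
theorem F254847 : act 4 n56757 = n55589 := d24_2 (iv F248961) D56757 (iv D55589) F242331 (iv F241747)
theorem F254848 : act 6 n56757 = n55484 := d26_2 (iv F248962) D56757 (iv D55484)
theorem F254849 : act 8 n56757 = n55470 := d28_2 D55467 D56757 (iv D55470) (iv D53897) (iv F241673)
def n56758 : Q := act 8 n55468
theorem D56758 : act 8 n55468 = n56758 := rfl
theorem F254850 : act 0 n56758 = n55714 := d7_1 D56758 (iv D55714) (iv F248963)
theorem F254851 : act 2 n56758 = n55471 := d22_1 D56758 (iv D55471) (iv F248964)
theorem F254852 : act 4 n56758 = n55476 := d33_1 D56758 (iv D55476) (iv F248966)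
theorem F254853 : act 5 n56758 = n55696 := d37_1 D56758 (iv D55696) (iv F248967)
theorem F254854 : act 6 n56758 = n55469 := d40_1 D56758 (iv D55469) (iv F248968)
theorem F254855 : act 9 n56758 = n55712 := d44_2 D55468 D56758 (iv D55712) (iv D54201) (iv F241681)
def n56759 : Q := act 3 n55469
theorem D56759 : act 3 n55469 = n56759 := rfl
theorem F254856 : act 5 n56759 = n55470 := d25_2 (iv F248971) D56759 (iv D55470)
theorem F254857 : act 7 n56759 = n55707 := d27_2 (iv F248972) D56759 (iv D55707)
theorem F254858 : act 9 n56759 = n55718 := d29_2 (iv F248973) D56759 (iv D55718)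
def n56760 : Q := act 2 n55470
theorem D56760 : act 2 n55470 = n56760 := rfl
theorem F254859 : act 3 n56760 = n55473 := d17_2 D55470 D56760 (iv D55473) (iv D53900) (iv F241686)
def n56761 : Q := act 3 n55471
theorem D56761 : act 3 n55471 = n56761 := rfl
theorem F254860 : act 1 n56761 = n55735 := d10_1 D56761 (iv D55735) (iv F248974)
theorem F254861 : act 6 n56761 = n55472 := d26_2 (iv F248976) D56761 (iv D55472)
theorem F254862 : act 8 n56761 = n55623 := d28_2 D55471 D56761 (iv D55623) (iv D54076) (iv F241689)
theorem F254863 : act 9 n56761 = n55715 := d29_2 (iv F248977) D56761 (iv D55715)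
def n56762 : Q := act 2 n55472
theorem D56762 : act 2 n55472 = n56762 := rfl
theorem F254864 : act 5 n56762 = n55473 := d19_2 (iv F248979) D56762 (iv D55473)
theorem F254865 : act 7 n56762 = n55709 := d21_2 (iv F248980) D56762 (iv D55709)
theorem F254866 : act 8 n56762 = n55624 := d22_2 (iv F248981) D56762 (iv D55624)
theorem F254867 : act 9 n56762 = n55720 := d23_2 (iv F248982) D56762 (iv D55720)
def n56763 : Q := act 1 n55473
theorem D56763 : act 1 n55473 = n56763 := rfl
theorem F254868 : act 2 n56763 = n55737 := d9_2 D55473 D56763 (iv D55737) (iv D54225) (iv F241697)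
theorem F254869 : act 8 n56763 = n55625 := d15_2 (iv F248983) D56763 (iv D55625)
def n56764 : Q := act 3 n55474
theorem D56764 : act 3 n55474 = n56764 := rfl
theorem F254870 : act 1 n56764 = n55477 := d10_1 D56764 (iv D55477) (iv F248984)
theorem F254871 : act 5 n56764 = n55475 := d25_2 (iv F248986) D56764 (iv D55475)
theorem F254872 : act 7 n56764 = n55704 := d27_2 (iv F248987) D56764 (iv D55704)
theorem F254873 : act 8 n56764 = n56764 := d28_2 D55474 D56764 (iv D56764) (iv D55474) F241707
theorem F254874 : act 9 n56764 = n55717 := d29_2 (iv F248988) D56764 (iv D55717)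
def n56765 : Q := act 3 n55476
theorem D56765 : act 3 n55476 = n56765 := rfl
theorem F254875 : act 2 n56765 = n55704 := d17_1 D56765 (iv D55704) (iv F243913) F243914 (iv F248994)
theorem F254876 : act 5 n56765 = n55478 := d25_2 (iv F248995) D56765 (iv D55478)
theorem F254877 : act 6 n56765 = n55477 := d26_2 (iv F248996) D56765 (iv D55477)
theorem F254878 : act 8 n56765 = n56765 := d28_2 D55476 D56765 (iv D56765) (iv D55476) F241717
theorem F254879 : act 9 n56765 = n55713 := d29_2 (iv F248997) D56765 (iv D55713)
def n56766 : Q := act 4 n55477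
theorem D56766 : act 4 n55477 = n56766 := rfl
theorem F254880 : act 7 n56766 = n55708 := d32_2 (iv F248999) D56766 (iv D55708)
theorem F254881 : act 8 n56766 = n56766 := d33_2 F249000 D56766 (iv D56766)
theorem F254882 : act 9 n56766 = n55719 := d34_2 (iv F249001) D56766 (iv D55719)
def n56767 : Q := act 8 n55479
theorem D56767 : act 8 n55479 = n56767 := rfl
theorem F254883 : act 0 n56767 = n55567 := d7_1 D56767 (iv D55567) (iv F249006)
theorem F254884 : act 2 n56767 = n55481 := d22_1 D56767 (iv D55481) (iv F249007)
theorem F254885 : act 4 n56767 = n55480 := d33_1 D56767 (iv D55480) (iv F249008)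
theorem F254886 : act 5 n56767 = n55787 := d37_1 D56767 (iv D55787) (iv F249009)
theorem F254887 : act 7 n56767 = n55500 := d42_1 D56767 (iv D55500) (iv F249010)
theorem F254888 : act 9 n56767 = n55515 := d44_2 D55479 D56767 (iv D55515) (iv D53959) (iv F241754)
def n56768 : Q := act 3 n55480
theorem D56768 : act 3 n55480 = n56768 := rfl
theorem F254889 : act 0 n56768 = n55568 := d2_1 D56768 (iv D55568) (iv F249011)
theorem F254890 : act 2 n56768 = n55556 := d17_1 D56768 (iv D55556) F242180 (iv F241768) (iv F249012)
theorem F254891 : act 5 n56768 = n55503 := d25_2 (iv F249013) D56768 (iv D55503)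
theorem F254892 : act 7 n56768 = n55501 := d27_2 (iv F249014) D56768 (iv D55501)
theorem F254893 : act 8 n56768 = n56768 := d28_2 D55480 D56768 (iv D56768) (iv D55480) F241757
theorem F254894 : act 9 n56768 = n55516 := d29_2 (iv F249015) D56768 (iv D55516)
def n56769 : Q := act 3 n55481
theorem D56769 : act 3 n55481 = n56769 := rfl
theorem F254895 : act 0 n56769 = n55569 := d2_1 D56769 (iv D55569) (iv F249016)
theorem F254896 : act 1 n56769 = n55753 := d10_1 D56769 (iv D55753) (iv F249017)
theorem F254897 : act 4 n56769 = n55557 := d24_2 (iv F249018) D56769 (iv D55557) F242185 (iv F241768)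
theorem F254898 : act 5 n56769 = n55789 := d25_2 (iv F249019) D56769 (iv D55789)
theorem F254899 : act 7 n56769 = n55502 := d27_2 (iv F249020) D56769 (iv D55502)
theorem F254900 : act 8 n56769 = n55483 := d28_2 D55481 D56769 (iv D55483) (iv D53919) (iv F241762)
theorem F254901 : act 9 n56769 = n55518 := d29_2 (iv F249021) D56769 (iv D55518)
def n56770 : Q := act 3 n55482
theorem D56770 : act 3 n55482 = n56770 := rfl
theorem F254902 : act 0 n56770 = n55557 := d2_1 D56770 (iv D55557) (iv F249022)
theorem F254903 : act 1 n56770 = n55755 := d10_1 D56770 (iv D55755) (iv F249023)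
theorem F254904 : act 4 n56770 = n55569 := d24_2 (iv F249024) D56770 (iv D55569) F242227 (iv F241780)
theorem F254905 : act 5 n56770 = n55790 := d25_2 (iv F249025) D56770 (iv D55790)
theorem F254906 : act 7 n56770 = n55483 := d27_2 (iv F249026) D56770 (iv D55483)
theorem F254907 : act 8 n56770 = n55502 := d28_2 D55482 D56770 (iv D55502) (iv D53946) (iv F241774)
theorem F254908 : act 9 n56770 = n55484 := d29_2 (iv F249027) D56770 (iv D55484)
def n56771 : Q := act 2 n55483
theorem D56771 : act 2 n55483 = n56771 := rfl
theorem F254909 : act 0 n56771 = n55841 := d1_1 D56771 (iv D55841) (iv F249028)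
theorem F254910 : act 4 n56771 = n55582 := d18_2 (iv F249030) D56771 (iv D55582)
theorem F254911 : act 5 n56771 = n55791 := d19_2 (iv F249031) D56771 (iv D55791)
theorem F254912 : act 9 n56771 = n55491 := d23_2 (iv F249032) D56771 (iv D55491)
def n56772 : Q := act 2 n55484
theorem D56772 : act 2 n55484 = n56772 := rfl
theorem F254913 : act 0 n56772 = n55864 := d1_1 D56772 (iv D55864) (iv F249033)
theorem F254914 : act 4 n56772 = n55601 := d18_2 (iv F249035) D56772 (iv D55601)
theorem F254915 : act 5 n56772 = n55797 := d19_2 (iv F249036) D56772 (iv D55797)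
theorem F254916 : act 7 n56772 = n55491 := d21_2 (iv F249037) D56772 (iv D55491)
def n56773 : Q := act 8 n55485
theorem D56773 : act 8 n55485 = n56773 := rfl
theorem F254917 : act 0 n56773 = n55487 := d7_1 D56773 (iv D55487) (iv F249038)
theorem F254918 : act 1 n56773 = n55866 := d15_1 D56773 (iv D55866) (iv F249039)
theorem F254919 : act 2 n56773 = n55580 := d22_1 D56773 (iv D55580) (iv F249040)
theorem F254920 : act 4 n56773 = n55486 := d33_1 D56773 (iv D55486) (iv F249041)
theorem F254921 : act 5 n56773 = n55798 := d37_1 D56773 (iv D55798) (iv F249042)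
theorem F254922 : act 6 n56773 = n55577 := d40_1 D56773 (iv D55577) (iv F249043)
theorem F254923 : act 9 n56773 = n55617 := d44_2 D55485 D56773 (iv D55617) (iv D54071) (iv F241799)
def n56774 : Q := act 3 n55487
theorem D56774 : act 3 n55487 = n56774 := rfl
theorem F254924 : act 1 n56774 = n55489 := d10_1 D56774 (iv D55489) (iv F249050)
theorem F254925 : act 5 n56774 = n55800 := d25_2 (iv F249053) D56774 (iv D55800)
def n56775 : Q := act 4 n55488
theorem D56775 : act 4 n55488 = n56775 := rfl
theorem F254926 : act 1 n56775 = n55490 := d11_1 D56775 (iv D55490) (iv F249054)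
theorem F254927 : act 8 n56775 = n55494 := d33_2 (iv F249056) D56775 (iv D55494)
def n56776 : Q := act 2 n55489
theorem D56776 : act 2 n55489 = n56776 := rfl
theorem F254928 : act 0 n56776 = n55880 := d1_1 D56776 (iv D55880) (iv F249057)
theorem F254929 : act 3 n56776 = n55491 := d17_2 D55489 D56776 (iv D55491) (iv D53927) (iv F241814)
theorem F254930 : act 5 n56776 = n55803 := d19_2 (iv F249058) D56776 (iv D55803)
def n56777 : Q := act 4 n55489
theorem D56777 : act 4 n55489 = n56777 := rfl
theorem F254931 : act 0 n56777 = n55881 := d3_1 D56777 (iv D55881) (iv F249057)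
theorem F254932 : act 3 n56777 = n55490 := d24_1 D56777 (iv D55490) (iv D53926) (iv F241815) D55489
def n56778 : Q := act 1 n55491
theorem D56778 : act 1 n55491 = n56778 := rfl
theorem F254933 : act 2 n56778 = n55781 := d9_2 D55491 D56778 (iv D55781) (iv D54284) (iv F241822)
theorem F254934 : act 4 n56778 = n55625 := d11_2 (iv F249063) D56778 (iv D55625)
theorem F254935 : act 5 n56778 = n55804 := d12_2 (iv F249064) D56778 (iv D55804)
def n56779 : Q := act 6 n55496
theorem D56779 : act 6 n55496 = n56779 := rfl
theorem F254936 : act 0 n56779 = n55915 := d5_1 D56779 F250372 (iv F249083)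
theorem F254937 : act 1 n56779 = n55905 := d13_1 D56779 (iv F252138) F252135
theorem F254938 : act 2 n56779 = n55653 := d20_1 D56779 (iv D55653) (iv F249084)
theorem F254939 : act 3 n56779 = n55903 := d26_1 D56779 F250337 (iv F249085)
theorem F254940 : act 5 n56779 = n56779 := d35_1 D56779 (iv D56779) (iv D55496) F241878 D55496
theorem F254941 : act 7 n56779 = n55908 := d39_2 (iv F249086) D56779 (iv F252125) F252126 F245612
theorem F254942 : act 9 n56779 = n56779 := d41_2 F249087 D56779 (iv D56779)
def n56780 : Q := act 3 n55497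
theorem D56780 : act 3 n55497 = n56780 := rfl
theorem F254943 : act 0 n56780 = n55770 := d2_1 D56780 (iv D55770) (iv F249088)
theorem F254944 : act 1 n56780 = n55518 := d10_1 D56780 (iv D55518) (iv F249089)
theorem F254945 : act 4 n56780 = n55600 := d24_2 (iv F249090) D56780 (iv D55600) F242366 (iv F241893)
theorem F254946 : act 5 n56780 = n55751 := d25_2 (iv F249091) D56780 (iv D55751)
theorem F254947 : act 7 n56780 = n55498 := d27_2 (iv F249092) D56780 (iv D55498)
theorem F254948 : act 8 n56780 = n55671 := d28_2 D55497 D56780 (iv D55671) (iv D54151) (iv F241887)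
theorem F254949 : act 9 n56780 = n55753 := d29_2 (iv F249093) D56780 (iv D55753)
def n56781 : Q := act 2 n55498
theorem D56781 : act 2 n55498 = n56781 := rfl
theorem F254950 : act 0 n56781 = n55780 := d1_1 D56781 (iv D55780) (iv F249094)
theorem F254951 : act 4 n56781 = n55624 := d18_2 (iv F249096) D56781 (iv D55624)
theorem F254952 : act 5 n56781 = n55752 := d19_2 (iv F249097) D56781 (iv D55752)
def n56782 : Q := act 8 n55499
theorem D56782 : act 8 n55499 = n56782 := rfl
theorem F254953 : act 0 n56782 = n55576 := d7_1 D56782 (iv D55576) (iv F249098)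
theorem F254954 : act 4 n56782 = n56782 := d33_1 D56782 (iv D56782) F249100
def n56783 : Q := act 3 n55500
theorem D56783 : act 3 n55500 = n56783 := rfl
theorem F254955 : act 0 n56783 = n55578 := d2_1 D56783 (iv D55578) (iv F249101)
theorem F254956 : act 9 n56783 = n55525 := d29_2 (iv F249104) D56783 (iv D55525)
def n56784 : Q := act 4 n55501
theorem D56784 : act 4 n55501 = n56784 := rfl
theorem F254957 : act 0 n56784 = n55579 := d3_1 D56784 (iv D55579) (iv F249105)
theorem F254958 : act 2 n56784 = n55848 := d18_1 D56784 (iv D55848) (iv F249106)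
theorem F254959 : act 8 n56784 = n56784 := d33_2 F249108 D56784 (iv D56784)
theorem F254960 : act 9 n56784 = n55526 := d34_2 (iv F249109) D56784 (iv D55526)
def n56785 : Q := act 2 n55502
theorem D56785 : act 2 n55502 = n56785 := rfl
theorem F254961 : act 0 n56785 = n55582 := d1_1 D56785 (iv D55582) (iv F249110)
theorem F254962 : act 4 n56785 = n55841 := d18_2 (iv F249111) D56785 (iv D55841)
theorem F254963 : act 9 n56785 = n55528 := d23_2 (iv F249112) D56785 (iv D55528)
def n56786 : Q := act 9 n55504
theorem D56786 : act 9 n55504 = n56786 := rfl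
theorem F254964 : act 0 n56786 = n55807 := d8_1 D56786 (iv D55807) (iv F249119)
theorem F254965 : act 1 n56786 = n55506 := d16_1 D56786 (iv D55506) (iv F249120)
theorem F254966 : act 3 n56786 = n55805 := d29_1 D56786 (iv D55805) (iv F249121)
theorem F254967 : act 4 n56786 = n55505 := d34_1 D56786 (iv D55505) D55504
theorem F254968 : act 6 n56786 = n55510 := d41_1 D56786 (iv D55510) (iv F249122)
theorem F254969 : act 7 n56786 = n55868 := d43_1 D56786 (iv D55868) (iv F249123)
def n56787 : Q := act 8 n55505
theorem D56787 : act 8 n55505 = n56787 := rfl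
theorem F254970 : act 0 n56787 = n55907 := d7_1 D56787 (iv D55907) (iv F249124)
theorem F254971 : act 1 n56787 = n55507 := d15_1 D56787 (iv D55507) (iv F249125)
theorem F254972 : act 5 n56787 = n56787 := d37_1 D56787 (iv D56787) F249127
theorem F254973 : act 6 n56787 = n55511 := d40_1 D56787 (iv D55511) (iv F249128)
theorem F254974 : act 7 n56787 = n55894 := d42_1 D56787 F250308 (iv F249129)
def n56788 : Q := act 8 n55506
theorem D56788 : act 8 n55506 = n56788 := rfl
theorem F254975 : act 0 n56788 = n55586 := d7_1 D56788 (iv D55586) (iv F249130)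
theorem F254976 : act 2 n56788 = n55509 := d22_1 D56788 (iv D55509) (iv F249131)
theorem F254977 : act 4 n56788 = n55507 := d33_1 D56788 (iv D55507) (iv F249133)
theorem F254978 : act 6 n56788 = n55515 := d40_1 D56788 (iv D55515) (iv F249134)
theorem F254979 : act 7 n56788 = n55873 := d42_1 D56788 (iv D55873) (iv F249135)
def n56789 : Q := act 3 n55507
theorem D56789 : act 3 n55507 = n56789 := rfl
theorem F254980 : act 0 n56789 = n55587 := d2_1 D56789 (iv D55587) (iv F249136)
theorem F254981 : act 2 n56789 = n55545 := d17_1 D56789 (iv D55545) F242120 (iv F241946) (iv F249137)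
theorem F254982 : act 5 n56789 = n56789 := d25_2 F249138 D56789 (iv D56789)
theorem F254983 : act 6 n56789 = n55516 := d26_2 (iv F249139) D56789 (iv D55516)
theorem F254984 : act 7 n56789 = n55918 := d27_2 (iv F249140) D56789 (iv D55918)
theorem F254985 : act 8 n56789 = n55537 := d28_2 D55507 D56789 (iv D55537) (iv D53984) (iv F241936)
def n56790 : Q := act 8 n55508
theorem D56790 : act 8 n55508 = n56790 := rfl
theorem F254986 : act 0 n56790 = n55588 := d7_1 D56790 (iv D55588) (iv F249141)
theorem F254987 : act 4 n56790 = n56790 := d33_1 D56790 (iv D56790) F249142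
theorem F254988 : act 5 n56790 = n55509 := d37_1 D56790 (iv D55509) (iv F249143)
def n56791 : Q := act 3 n55509
theorem D56791 : act 3 n55509 = n56791 := rfl
theorem F254989 : act 0 n56791 = n55589 := d2_1 D56791 (iv D55589) (iv F249144)
theorem F254990 : act 4 n56791 = n55863 := d24_2 (iv F249145) D56791 (iv D55863) F243344 (iv F241946)
theorem F254991 : act 6 n56791 = n55518 := d26_2 (iv F249146) D56791 (iv D55518)
def n56792 : Q := act 8 n55510
theorem D56792 : act 8 n55510 = n56792 := rfl
theorem F254992 : act 1 n56792 = n55515 := d15_1 D56792 (iv D55515) (iv F249147)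
theorem F254993 : act 4 n56792 = n55511 := d33_1 D56792 (iv D55511) (iv F249148)
theorem F254994 : act 7 n56792 = n55520 := d42_1 D56792 (iv D55520) (iv F249149)
def n56793 : Q := act 3 n55511
theorem D56793 : act 3 n55511 = n56793 := rfl
theorem F254995 : act 1 n56793 = n55516 := d10_1 D56793 (iv D55516) (iv F249150)
theorem F254996 : act 5 n56793 = n55529 := d25_2 (iv F249151) D56793 (iv D55529)
theorem F254997 : act 7 n56793 = n55521 := d27_2 (iv F249152) D56793 (iv D55521)
theorem F254998 : act 8 n56793 = n55538 := d28_2 D55511 D56793 (iv D55538) (iv D53985) (iv F241952)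
def n56794 : Q := act 9 n55512
theorem D56794 : act 9 n55512 = n56794 := rfl
theorem F254999 : act 0 n56794 = n55594 := d8_1 D56794 (iv D55594) (iv F249153)
theorem F255000 : act 2 n56794 = n55692 := d23_1 D56794 (iv D55692) (iv F249154)
theorem F255001 : act 3 n56794 = n55514 := d29_1 D56794 (iv D55514) (iv F249155)
theorem F255002 : act 4 n56794 = n56794 := d34_1 D56794 (iv D56794) F249156
theorem F255003 : act 5 n56794 = n55513 := d38_1 D56794 (iv D55513) D55512
theorem F255004 : act 7 n56794 = n55522 := d43_1 D56794 (iv D55522) (iv F249157)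
def n56795 : Q := act 8 n55513
theorem D56795 : act 8 n55513 = n56795 := rfl
theorem F255005 : act 0 n56795 = n55596 := d7_1 D56795 (iv D55596) (iv F249158)
theorem F255006 : act 2 n56795 = n55862 := d22_1 D56795 (iv D55862) (iv F249159)
theorem F255007 : act 4 n56795 = n55539 := d33_1 D56795 (iv D55539) (iv F249161)
theorem F255008 : act 6 n56795 = n55878 := d40_1 D56795 (iv D55878) (iv F249162)
theorem F255009 : act 7 n56795 = n55523 := d42_1 D56795 (iv D55523) (iv F249163)
def n56796 : Q := act 8 n55514
theorem D56796 : act 8 n55514 = n56796 := rfl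
theorem F255010 : act 0 n56796 = n55597 := d7_1 D56796 (iv D55597) (iv F249164)
theorem F255011 : act 2 n56796 = n55517 := d22_1 D56796 (iv D55517) (iv F249165)
theorem F255012 : act 4 n56796 = n55530 := d33_1 D56796 (iv D55530) (iv F249166)
theorem F255013 : act 5 n56796 = n55515 := d37_1 D56796 (iv D55515) (iv F249167)
theorem F255014 : act 7 n56796 = n55524 := d42_1 D56796 (iv D55524) (iv F249168)
theorem F255015 : act 9 n56796 = n55787 := d44_2 D55514 D56796 (iv D55787) (iv D54295) (iv F241964)
def n56797 : Q := act 3 n55515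
theorem D56797 : act 3 n55515 = n56797 := rfl
theorem F255016 : act 0 n56797 = n55598 := d2_1 D56797 (iv D55598) (iv F249169)
theorem F255017 : act 7 n56797 = n55525 := d27_2 (iv F249172) D56797 (iv D55525)
def n56798 : Q := act 4 n55516
theorem D56798 : act 4 n55516 = n56798 := rfl
theorem F255018 : act 0 n56798 = n55599 := d3_1 D56798 (iv D55599) (iv F249173)
theorem F255019 : act 2 n56798 = n55892 := d18_1 D56798 (iv D55892) (iv F249174)
theorem F255020 : act 7 n56798 = n55526 := d32_2 (iv F249176) D56798 (iv D55526)
theorem F255021 : act 8 n56798 = n55541 := d33_2 (iv F249177) D56798 (iv D55541)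
def n56799 : Q := act 3 n55517
theorem D56799 : act 3 n55517 = n56799 := rfl
theorem F255022 : act 0 n56799 = n55600 := d2_1 D56799 (iv D55600) (iv F249178)
theorem F255023 : act 1 n56799 = n55751 := d10_1 D56799 (iv D55751) (iv F249179)
theorem F255024 : act 4 n56799 = n55770 := d24_2 (iv F249180) D56799 (iv D55770) F243026 (iv F242039)
theorem F255025 : act 5 n56799 = n55518 := d25_2 (iv F249181) D56799 (iv D55518)
theorem F255026 : act 7 n56799 = n55527 := d27_2 (iv F249182) D56799 (iv D55527)
theorem F255027 : act 8 n56799 = n55695 := d28_2 D55517 D56799 (iv D55695) (iv D54179) (iv F241975)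
theorem F255028 : act 9 n56799 = n55789 := d29_2 (iv F249183) D56799 (iv D55789)
def n56800 : Q := act 2 n55518
theorem D56800 : act 2 n55518 = n56800 := rfl
theorem F255029 : act 0 n56800 = n55601 := d1_1 D56800 (iv D55601) (iv F249184)
theorem F255030 : act 4 n56800 = n55864 := d18_2 (iv F249185) D56800 (iv D55864)
theorem F255031 : act 7 n56800 = n55528 := d21_2 (iv F249186) D56800 (iv D55528)
def n56801 : Q := act 8 n55519
theorem D56801 : act 8 n55519 = n56801 := rfl
theorem F255032 : act 1 n56801 = n55523 := d15_1 D56801 (iv D55523) (iv F249187)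
theorem F255033 : act 4 n56801 = n55542 := d33_1 D56801 (iv D55542) (iv F249189)
theorem F255034 : act 6 n56801 = n55855 := d40_1 D56801 (iv D55855) (iv F249190)
def n56802 : Q := act 3 n55520
theorem D56802 : act 3 n55520 = n56802 := rfl
theorem F255035 : act 1 n56802 = n55525 := d10_1 D56802 (iv D55525) (iv F249191)
theorem F255036 : act 6 n56802 = n55884 := d26_2 (iv F249193) D56802 F250285
def n56803 : Q := act 4 n55521
theorem D56803 : act 4 n55521 = n56803 := rfl
theorem F255037 : act 1 n56803 = n55526 := d11_1 D56803 (iv D55526) (iv F249194)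
theorem F255038 : act 6 n56803 = n55900 := d31_2 (iv F249196) D56803 F250323
theorem F255039 : act 8 n56803 = n55544 := d33_2 (iv F249197) D56803 (iv D55544)
def n56804 : Q := act 8 n55522
theorem D56804 : act 8 n55522 = n56804 := rfl
theorem F255040 : act 0 n56804 = n55613 := d7_1 D56804 (iv D55613) (iv F249198)
theorem F255041 : act 2 n56804 = n55852 := d22_1 D56804 (iv D55852) (iv F249199)
theorem F255042 : act 4 n56804 = n56804 := d33_1 D56804 (iv D56804) F249201
theorem F255043 : act 5 n56804 = n55523 := d37_1 D56804 (iv D55523) (iv F249202)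
theorem F255044 : act 6 n56804 = n55850 := d40_1 D56804 (iv D55850) (iv F249203)
def n56805 : Q := act 3 n55523
theorem D56805 : act 3 n55523 = n56805 := rfl
theorem F255045 : act 0 n56805 = n55615 := d2_1 D56805 (iv D55615) (iv F249204)
theorem F255046 : act 6 n56805 = n55858 := d26_2 (iv F249207) D56805 (iv D55858)
theorem F255047 : act 8 n56805 = n55525 := d28_2 D55523 D56805 (iv D55525) (iv D53969) (iv F241998)
def n56806 : Q := act 3 n55524
theorem D56806 : act 3 n55524 = n56806 := rfl
theorem F255048 : act 0 n56806 = n55618 := d2_1 D56806 (iv D55618) (iv F249208)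
theorem F255049 : act 5 n56806 = n55525 := d25_2 (iv F249211) D56806 (iv D55525)
def n56807 : Q := act 2 n55525
theorem D56807 : act 2 n55525 = n56807 := rfl
theorem F255050 : act 0 n56807 = n55619 := d1_1 D56807 (iv D55619) (iv F249212)
theorem F255051 : act 3 n56807 = n55528 := d17_2 D55525 D56807 (iv D55528) (iv D53972) (iv F242006)
def n56808 : Q := act 4 n55525
theorem D56808 : act 4 n55525 = n56808 := rfl
theorem F255052 : act 0 n56808 = n55620 := d3_1 D56808 (iv D55620) (iv F249212)
theorem F255053 : act 3 n56808 = n55526 := d24_1 D56808 (iv D55526) (iv D53970) (iv F242007) D55525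
def n56809 : Q := act 5 n55526
theorem D56809 : act 5 n55526 = n56809 := rfl
theorem F255054 : act 0 n56809 = n55621 := d4_1 D56809 (iv D55621) (iv F249213)
theorem F255055 : act 2 n56809 = n55900 := d19_1 D56809 (iv D55900) (iv F249214)
theorem F255056 : act 4 n56809 = n55535 := d30_1 D56809 (iv D55535) (iv D53981) (iv F242010) D55526
theorem F255057 : act 8 n56809 = n55547 := d37_2 (iv F249215) D56809 (iv D55547)
def n56810 : Q := act 2 n55527
theorem D56810 : act 2 n55527 = n56810 := rfl
theorem F255058 : act 0 n56810 = n55624 := d1_1 D56810 (iv D55624) (iv F249216)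
theorem F255059 : act 4 n56810 = n55780 := d18_2 (iv F249218) D56810 (iv D55780)
theorem F255060 : act 5 n56810 = n55528 := d19_2 (iv F249219) D56810 (iv D55528)
def n56811 : Q := act 1 n55528
theorem D56811 : act 1 n55528 = n56811 := rfl
theorem F255061 : act 4 n56811 = n55887 := d11_2 (iv F249221) D56811 (iv D55887)
def n56812 : Q := act 4 n55529
theorem D56812 : act 4 n55529 = n56812 := rfl
theorem F255062 : act 0 n56812 = n55927 := d3_1 D56812 (iv F252064) F252061
theorem F255063 : act 1 n56812 = n55532 := d11_1 D56812 (iv D55532) (iv F249222)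
theorem F255064 : act 2 n56812 = n55901 := d18_1 D56812 (iv F254618) F254617
theorem F255065 : act 6 n56812 = n56812 := d31_2 F249223 D56812 (iv D56812)
theorem F255066 : act 7 n56812 = n55533 := d32_2 (iv F249224) D56812 (iv D55533)
theorem F255067 : act 8 n56812 = n55548 := d33_2 (iv F249225) D56812 (iv D55548)
def n56813 : Q := act 3 n55530
theorem D56813 : act 3 n55530 = n56813 := rfl
theorem F255068 : act 0 n56813 = n55630 := d2_1 D56813 (iv D55630) (iv F249226)
theorem F255069 : act 2 n56813 = n55784 := d17_1 D56813 (iv D55784) F243067 (iv F242039) (iv F249227)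
theorem F255070 : act 5 n56813 = n55531 := d25_2 (iv F249228) D56813 (iv D55531)
theorem F255071 : act 7 n56813 = n55534 := d27_2 (iv F249229) D56813 (iv D55534)
theorem F255072 : act 8 n56813 = n56813 := d28_2 D55530 D56813 (iv D56813) (iv D55530) F242023
theorem F255073 : act 9 n56813 = n55788 := d29_2 (iv F249230) D56813 (iv D55788)
def n56814 : Q := act 5 n55532
theorem D56814 : act 5 n55532 = n56814 := rfl
theorem F255074 : act 0 n56814 = n55631 := d4_1 D56814 (iv D55631) (iv F249237)
theorem F255075 : act 2 n56814 = n55893 := d19_1 D56814 (iv D55893) (iv F249238)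
theorem F255076 : act 7 n56814 = n55535 := d36_2 (iv F249240) D56814 (iv D55535)
theorem F255077 : act 8 n56814 = n55549 := d37_2 (iv F249241) D56814 (iv D55549)
def n56815 : Q := act 5 n55533
theorem D56815 : act 5 n55533 = n56815 := rfl
theorem F255078 : act 1 n56815 = n55535 := d12_1 D56815 (iv D55535) (iv F249242)
theorem F255079 : act 2 n56815 = n55895 := d19_1 D56815 F250310 (iv F249243)
theorem F255080 : act 6 n56815 = n55896 := d35_2 (iv F249244) D56815 F250313 F243435 (iv F242059)
theorem F255081 : act 8 n56815 = n55550 := d37_2 (iv F249245) D56815 (iv D55550)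
def n56816 : Q := act 4 n55534
theorem D56816 : act 4 n55534 = n56816 := rfl
theorem F255082 : act 0 n56816 = n55638 := d3_1 D56816 (iv D55638) (iv F249246)
theorem F255083 : act 2 n56816 = n55786 := d18_1 D56816 (iv D55786) (iv F249247)
theorem F255084 : act 8 n56816 = n56816 := d33_2 F249249 D56816 (iv D56816)
def n56817 : Q := act 3 n55536
theorem D56817 : act 3 n55536 = n56817 := rfl
theorem F255085 : act 0 n56817 = n55908 := d2_1 D56817 (iv D55908) (iv F249253)
theorem F255086 : act 1 n56817 = n55537 := d10_1 D56817 (iv D55537) (iv F249254)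
theorem F255087 : act 5 n56817 = n56817 := d25_2 F249257 D56817 (iv D56817)
theorem F255088 : act 6 n56817 = n55538 := d26_2 (iv F249258) D56817 (iv D55538)
theorem F255089 : act 7 n56817 = n55915 := d27_2 (iv F249259) D56817 (iv D55915)
theorem F255090 : act 9 n56817 = n56817 := d29_2 F249260 D56817 (iv D56817)
def n56818 : Q := act 4 n55537
theorem D56818 : act 4 n55537 = n56818 := rfl
theorem F255091 : act 0 n56818 = n55641 := d3_1 D56818 (iv D55641) (iv F249261)
theorem F255092 : act 2 n56818 = n55546 := d18_1 D56818 (iv D55546) (iv F249262)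
theorem F255093 : act 3 n56818 = n55922 := d24_1 D56818 (iv D55922) F243564 (iv F242071) D55537
theorem F255094 : act 6 n56818 = n55541 := d31_2 (iv F249264) D56818 (iv D55541)
theorem F255095 : act 7 n56818 = n55921 := d32_2 (iv F249265) D56818 (iv D55921)
theorem F255096 : act 9 n56818 = n56818 := d34_2 F249266 D56818 (iv D56818)
def n56819 : Q := act 4 n55538
theorem D56819 : act 4 n55538 = n56819 := rfl
theorem F255097 : act 1 n56819 = n55541 := d11_1 D56819 (iv D55541) (iv F249267)
theorem F255098 : act 7 n56819 = n55544 := d32_2 (iv F249269) D56819 (iv D55544)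
theorem F255099 : act 9 n56819 = n56819 := d34_2 F249270 D56819 (iv D56819)
def n56820 : Q := act 3 n55539
theorem D56820 : act 3 n55539 = n56820 := rfl
theorem F255100 : act 0 n56820 = n55644 := d2_1 D56820 (iv D55644) (iv F249271)
theorem F255101 : act 2 n56820 = n55918 := d17_1 D56820 (iv D55918) (iv F244865) F244866 (iv F249272)
theorem F255102 : act 5 n56820 = n56820 := d25_2 F249273 D56820 (iv D56820)
theorem F255103 : act 6 n56820 = n55898 := d26_2 (iv F249274) D56820 (iv D55898)
theorem F255104 : act 7 n56820 = n55545 := d27_2 (iv F249275) D56820 (iv D55545)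
theorem F255105 : act 8 n56820 = n55540 := d28_2 D55539 D56820 (iv D55540) (iv D53987) (iv F242083)
def n56821 : Q := act 4 n55540
theorem D56821 : act 4 n55540 = n56821 := rfl
theorem F255106 : act 0 n56821 = n55645 := d3_1 D56821 (iv D55645) (iv F249276)
theorem F255107 : act 2 n56821 = n55921 := d18_1 D56821 (iv D55921) (iv F249277)
theorem F255108 : act 3 n56821 = n55541 := d24_1 D56821 (iv D55541) (iv D53988) (iv F242089) D55540
theorem F255109 : act 6 n56821 = n55922 := d31_2 (iv F249279) D56821 (iv D55922)
theorem F255110 : act 7 n56821 = n55546 := d32_2 (iv F249280) D56821 (iv D55546)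
theorem F255111 : act 9 n56821 = n56821 := d34_2 F249281 D56821 (iv D56821)
def n56822 : Q := act 5 n55541
theorem D56822 : act 5 n55541 = n56822 := rfl
theorem F255112 : act 0 n56822 = n55646 := d4_1 D56822 (iv D55646) (iv F249282)
theorem F255113 : act 2 n56822 = n55916 := d19_1 D56822 F250376 (iv F249283)
theorem F255114 : act 4 n56822 = n55549 := d30_1 D56822 (iv D55549) (iv D53998) (iv F242096) D55541
theorem F255115 : act 7 n56822 = n55547 := d36_2 (iv F249284) D56822 (iv D55547)
theorem F255116 : act 9 n56822 = n56822 := d38_2 F249285 D56822 (iv D56822)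
def n56823 : Q := act 3 n55542
theorem D56823 : act 3 n55542 = n56823 := rfl
theorem F255117 : act 1 n56823 = n55545 := d10_1 D56823 (iv D55545) (iv F249286)
theorem F255118 : act 5 n56823 = n56823 := d25_2 F249287 D56823 (iv D56823)
theorem F255119 : act 6 n56823 = n55890 := d26_2 (iv F249288) D56823 (iv D55890)
theorem F255120 : act 8 n56823 = n55543 := d28_2 D55542 D56823 (iv D55543) (iv D53991) (iv F242106)
def n56824 : Q := act 2 n55543
theorem D56824 : act 2 n55543 = n56824 := rfl
theorem F255121 : act 3 n56824 = n56824 := d17_2 D55543 D56824 (iv D56824) (iv D55543) F242110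
theorem F255122 : act 5 n56824 = n56824 := d19_2 F249290 D56824 (iv D56824)
theorem F255123 : act 6 n56824 = n55924 := d20_2 (iv F249291) D56824 F250400
theorem F255124 : act 9 n56824 = n56824 := d23_2 F249292 D56824 (iv D56824)
def n56825 : Q := act 4 n55543
theorem D56825 : act 4 n55543 = n56825 := rfl
theorem F255125 : act 1 n56825 = n55546 := d11_1 D56825 (iv D55546) (iv F249289)
theorem F255126 : act 3 n56825 = n55544 := d24_1 D56825 (iv D55544) (iv D53992) (iv F242111) D55543
theorem F255127 : act 6 n56825 = n55923 := d31_2 (iv F249291) D56825 F250397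
theorem F255128 : act 9 n56825 = n56825 := d34_2 F249292 D56825 (iv D56825)
def n56826 : Q := act 5 n55544
theorem D56826 : act 5 n55544 = n56826 := rfl
theorem F255129 : act 1 n56826 = n55547 := d12_1 D56826 (iv D55547) (iv F249293)
theorem F255130 : act 2 n56826 = n55925 := d19_1 D56826 (iv F254722) F254721
theorem F255131 : act 4 n56826 = n55550 := d30_1 D56826 (iv D55550) (iv D53999) (iv F242116) D55544
theorem F255132 : act 6 n56826 = n55926 := d35_2 (iv F249294) D56826 F250408 F243595 D54468
theorem F255133 : act 9 n56826 = n56826 := d38_2 F249295 D56826 (iv D56826)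
def n56827 : Q := act 4 n55545
theorem D56827 : act 4 n55545 = n56827 := rfl
theorem F255134 : act 0 n56827 = n55651 := d3_1 D56827 (iv D55651) (iv F249296)
theorem F255135 : act 6 n56827 = n55892 := d31_2 (iv F249298) D56827 (iv D55892)
theorem F255136 : act 8 n56827 = n55546 := d33_2 (iv F249299) D56827 (iv D55546)
def n56828 : Q := act 5 n55546
theorem D56828 : act 5 n55546 = n56828 := rfl
theorem F255137 : act 0 n56828 = n55652 := d4_1 D56828 (iv D55652) (iv F249300)
theorem F255138 : act 3 n56828 = n55547 := d25_1 D56828 (iv D55547) (iv F249301)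
theorem F255139 : act 4 n56828 = n56828 := d30_1 D56828 (iv D56828) (iv D55546) F242124 D55546
theorem F255140 : act 9 n56828 = n56828 := d38_2 F249303 D56828 (iv D56828)
def n56829 : Q := act 5 n55548
theorem D56829 : act 5 n55548 = n56829 := rfl
theorem F255141 : act 0 n56829 = n55909 := d4_1 D56829 F250357 (iv F249308)
theorem F255142 : act 1 n56829 = n55549 := d12_1 D56829 (iv D55549) (iv F249309)
theorem F255143 : act 2 n56829 = n55906 := d19_1 D56829 F250348 (iv F249310)
theorem F255144 : act 3 n56829 = n56829 := d25_1 D56829 (iv D56829) F249311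
theorem F255145 : act 7 n56829 = n55550 := d36_2 (iv F249313) D56829 (iv D55550)
theorem F255146 : act 9 n56829 = n56829 := d38_2 F249314 D56829 (iv D56829)
def n56830 : Q := act 6 n55549
theorem D56830 : act 6 n55549 = n56830 := rfl
theorem F255147 : act 0 n56830 = n55653 := d5_1 D56830 (iv D55653) (iv F249315)
theorem F255148 : act 2 n56830 = n55915 := d20_1 D56830 F250372 (iv F249316)
theorem F255149 : act 3 n56830 = n56830 := d26_1 D56830 (iv D56830) F249317
theorem F255150 : act 5 n56830 = n56830 := d35_1 D56830 (iv D56830) (iv D55549) F242144 D55549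
theorem F255151 : act 9 n56830 = n56830 := d41_2 F249319 D56830 (iv D56830)
def n56831 : Q := act 8 n55551
theorem D56831 : act 8 n55551 = n56831 := rfl
theorem F255152 : act 0 n56831 = n55553 := d7_1 D56831 (iv D55553) (iv F249325)
theorem F255153 : act 1 n56831 = n55636 := d15_1 D56831 (iv D55636) (iv F249326)
theorem F255154 : act 2 n56831 = n55806 := d22_1 D56831 (iv D55806) (iv F249327)
theorem F255155 : act 5 n56831 = n55639 := d37_1 D56831 (iv D55639) (iv F249329)
theorem F255156 : act 7 n56831 = n55634 := d42_1 D56831 (iv D55634) (iv F249330)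
theorem F255157 : act 9 n56831 = n55889 := d44_2 D55551 D56831 (iv D55889) (iv D54409) (iv F242161)
def n56832 : Q := act 8 n55552
theorem D56832 : act 8 n55552 = n56832 := rfl
theorem F255158 : act 1 n56832 = n55555 := d15_1 D56832 (iv D55555) (iv F249331)
theorem F255159 : act 2 n56832 = n55808 := d22_1 D56832 (iv D55808) (iv F249332)
theorem F255160 : act 4 n56832 = n55553 := d33_1 D56832 (iv D55553) (iv F249333)
theorem F255161 : act 5 n56832 = n55819 := d37_1 D56832 (iv D55819) (iv F249334)
theorem F255162 : act 7 n56832 = n55827 := d42_1 D56832 (iv D55827) (iv F249335)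
theorem F255163 : act 9 n56832 = n55855 := d44_2 D55552 D56832 (iv D55855) (iv D54376) (iv F242166)
def n56833 : Q := act 3 n55553
theorem D56833 : act 3 n55553 = n56833 := rfl
theorem F255164 : act 1 n56833 = n55556 := d10_1 D56833 (iv D55556) (iv F249336)
theorem F255165 : act 5 n56833 = n55843 := d25_2 (iv F249338) D56833 (iv D55843)
theorem F255166 : act 7 n56833 = n55844 := d27_2 (iv F249339) D56833 (iv D55844)
theorem F255167 : act 8 n56833 = n56833 := d28_2 D55553 D56833 (iv D56833) (iv D55553) F242169
theorem F255168 : act 9 n56833 = n55890 := d29_2 (iv F249340) D56833 (iv D55890)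
def n56834 : Q := act 8 n55554
theorem D56834 : act 8 n55554 = n56834 := rfl
theorem F255169 : act 2 n56834 = n55576 := d22_1 D56834 (iv D55576) (iv F249341)
theorem F255170 : act 4 n56834 = n56834 := d33_1 D56834 (iv D56834) F249343
theorem F255171 : act 5 n56834 = n55820 := d37_1 D56834 (iv D55820) (iv F249344)
theorem F255172 : act 7 n56834 = n55832 := d42_1 D56834 (iv D55832) (iv F249345)
def n56835 : Q := act 3 n55555
theorem D56835 : act 3 n55555 = n56835 := rfl
theorem F255173 : act 5 n56835 = n55821 := d25_2 (iv F249348) D56835 (iv D55821)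
theorem F255174 : act 7 n56835 = n55837 := d27_2 (iv F249349) D56835 (iv D55837)
theorem F255175 : act 9 n56835 = n55858 := d29_2 (iv F249350) D56835 (iv D55858)
def n56836 : Q := act 4 n55556
theorem D56836 : act 4 n55556 = n56836 := rfl
theorem F255176 : act 7 n56836 = n55848 := d32_2 (iv F249352) D56836 (iv D55848)
theorem F255177 : act 8 n56836 = n56836 := d33_2 F249353 D56836 (iv D56836)
theorem F255178 : act 9 n56836 = n55892 := d34_2 (iv F249354) D56836 (iv D55892)
def n56837 : Q := act 2 n55557
theorem D56837 : act 2 n55557 = n56837 := rfl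
theorem F255179 : act 5 n56837 = n55822 := d19_2 (iv F249356) D56837 (iv D55822)
theorem F255180 : act 7 n56837 = n55841 := d21_2 (iv F249357) D56837 (iv D55841)
theorem F255181 : act 8 n56837 = n55582 := d22_2 (iv F249358) D56837 (iv D55582)
theorem F255182 : act 9 n56837 = n55864 := d23_2 (iv F249359) D56837 (iv D55864)
def n56838 : Q := act 9 n55558
theorem D56838 : act 9 n55558 = n56838 := rfl
theorem F255183 : act 2 n56838 = n55830 := d23_1 D56838 (iv D55830) (iv F249360)
theorem F255184 : act 3 n56838 = n55559 := d29_1 D56838 (iv D55559) D55558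
theorem F255185 : act 4 n56838 = n56838 := d34_1 D56838 (iv D56838) F249361
theorem F255186 : act 6 n56838 = n55566 := d41_1 D56838 (iv D55566) (iv F249362)
def n56839 : Q := act 8 n55559
theorem D56839 : act 8 n55559 = n56839 := rfl
theorem F255187 : act 2 n56839 = n55561 := d22_1 D56839 (iv D55561) (iv F249363)
theorem F255188 : act 4 n56839 = n55560 := d33_1 D56839 (iv D55560) (iv F249364)
theorem F255189 : act 6 n56839 = n55567 := d40_1 D56839 (iv D55567) (iv F249365)
theorem F255190 : act 9 n56839 = n55586 := d44_2 D55559 D56839 (iv D55586) (iv D54040) (iv F242191)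
def n56840 : Q := act 3 n55560
theorem D56840 : act 3 n55560 = n56840 := rfl
theorem F255191 : act 2 n56840 = n55650 := d17_1 D56840 (iv D55650) (iv F244780) F244781 (iv F249366)
theorem F255192 : act 5 n56840 = n56840 := d25_2 F249367 D56840 (iv D56840)
theorem F255193 : act 6 n56840 = n55568 := d26_2 (iv F249368) D56840 (iv D55568)
theorem F255194 : act 8 n56840 = n56840 := d28_2 D55560 D56840 (iv D56840) (iv D55560) F242193
theorem F255195 : act 9 n56840 = n55587 := d29_2 (iv F249369) D56840 (iv D55587)
def n56841 : Q := act 3 n55561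
theorem D56841 : act 3 n55561 = n56841 := rfl
theorem F255196 : act 1 n56841 = n55818 := d10_1 D56841 (iv D55818) (iv F249370)
theorem F255197 : act 6 n56841 = n55569 := d26_2 (iv F249372) D56841 (iv D55569)
theorem F255198 : act 8 n56841 = n55840 := d28_2 D55561 D56841 (iv D55840) (iv D54356) (iv F242197)
theorem F255199 : act 9 n56841 = n55589 := d29_2 (iv F249373) D56841 (iv D55589)
def n56842 : Q := act 9 n55562
theorem D56842 : act 9 n55562 = n56842 := rfl
theorem F255200 : act 1 n56842 = n55566 := d16_1 D56842 (iv D55566) (iv F249374)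
theorem F255201 : act 3 n56842 = n55563 := d29_1 D56842 (iv D55563) D55562
theorem F255202 : act 4 n56842 = n56842 := d34_1 D56842 (iv D56842) F249375
theorem F255203 : act 5 n56842 = n55807 := d38_1 D56842 (iv D55807) (iv F249376)
theorem F255204 : act 7 n56842 = n55570 := d43_1 D56842 (iv D55570) (iv F249377)
def n56843 : Q := act 8 n55563
theorem D56843 : act 8 n55563 = n56843 := rfl
theorem F255205 : act 1 n56843 = n55567 := d15_1 D56843 (iv D55567) (iv F249378)
theorem F255206 : act 2 n56843 = n55819 := d22_1 D56843 (iv D55819) (iv F249379)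
theorem F255207 : act 4 n56843 = n55564 := d33_1 D56843 (iv D55564) (iv F249380)
theorem F255208 : act 5 n56843 = n55808 := d37_1 D56843 (iv D55808) (iv F249381)
theorem F255209 : act 7 n56843 = n55572 := d42_1 D56843 (iv D55572) (iv F249382)
theorem F255210 : act 9 n56843 = n55591 := d44_2 D55563 D56843 (iv D55591) (iv D54045) (iv F242208)
def n56844 : Q := act 3 n55564
theorem D56844 : act 3 n55564 = n56844 := rfl
theorem F255211 : act 1 n56844 = n55568 := d10_1 D56844 (iv D55568) (iv F249383)
theorem F255212 : act 2 n56844 = n55746 := d17_1 D56844 (iv D55746) F242938 (iv F243202) (iv F249384)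
theorem F255213 : act 5 n56844 = n55583 := d25_2 (iv F249385) D56844 (iv D55583)
theorem F255214 : act 7 n56844 = n55573 := d27_2 (iv F249386) D56844 (iv D55573)
theorem F255215 : act 8 n56844 = n56844 := d28_2 D55564 D56844 (iv D56844) (iv D55564) F242211
theorem F255216 : act 9 n56844 = n55592 := d29_2 (iv F249387) D56844 (iv D55592)
def n56845 : Q := act 9 n55565
theorem D56845 : act 9 n55565 = n56845 := rfl
theorem F255217 : act 2 n56845 = n55831 := d23_1 D56845 (iv D55831) (iv F249388)
theorem F255218 : act 3 n56845 = n55595 := d29_1 D56845 (iv D55595) (iv F249389)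
theorem F255219 : act 4 n56845 = n56845 := d34_1 D56845 (iv D56845) F249390
theorem F255220 : act 5 n56845 = n55810 := d38_1 D56845 (iv D55810) (iv F249391)
theorem F255221 : act 7 n56845 = n55575 := d43_1 D56845 (iv D55575) (iv F249392)
def n56846 : Q := act 8 n55566
theorem D56846 : act 8 n55566 = n56846 := rfl
theorem F255222 : act 2 n56846 = n55832 := d22_1 D56846 (iv D55832) (iv F249393)
theorem F255223 : act 4 n56846 = n56846 := d33_1 D56846 (iv D56846) F249395
theorem F255224 : act 5 n56846 = n55811 := d37_1 D56846 (iv D55811) (iv F249396)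
theorem F255225 : act 7 n56846 = n55576 := d42_1 D56846 (iv D55576) (iv F249397)
def n56847 : Q := act 3 n55567
theorem D56847 : act 3 n55567 = n56847 := rfl
theorem F255226 : act 5 n56847 = n55812 := d25_2 (iv F249400) D56847 (iv D55812)
theorem F255227 : act 7 n56847 = n55578 := d27_2 (iv F249401) D56847 (iv D55578)
theorem F255228 : act 9 n56847 = n55598 := d29_2 (iv F249402) D56847 (iv D55598)
def n56848 : Q := act 4 n55568
theorem D56848 : act 4 n55568 = n56848 := rfl
theorem F255229 : act 7 n56848 = n55579 := d32_2 (iv F249404) D56848 (iv D55579)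
theorem F255230 : act 8 n56848 = n56848 := d33_2 F249405 D56848 (iv D56848)
theorem F255231 : act 9 n56848 = n55599 := d34_2 (iv F249406) D56848 (iv D55599)
def n56849 : Q := act 2 n55569
theorem D56849 : act 2 n55569 = n56849 := rfl
theorem F255232 : act 5 n56849 = n55814 := d19_2 (iv F249408) D56849 (iv D55814)
theorem F255233 : act 7 n56849 = n55582 := d21_2 (iv F249409) D56849 (iv D55582)
theorem F255234 : act 8 n56849 = n55841 := d22_2 (iv F249410) D56849 (iv D55841)
theorem F255235 : act 9 n56849 = n55601 := d23_2 (iv F249411) D56849 (iv D55601)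
def n56850 : Q := act 8 n55570
theorem D56850 : act 8 n55570 = n56850 := rfl
theorem F255236 : act 1 n56850 = n55576 := d15_1 D56850 (iv D55576) (iv F249412)
theorem F255237 : act 4 n56850 = n56850 := d33_1 D56850 (iv D56850) F249414
def n56851 : Q := act 8 n55571
theorem D56851 : act 8 n55571 = n56851 := rfl
theorem F255238 : act 0 n56851 = n55869 := d7_1 D56851 (iv D55869) (iv F249415)
theorem F255239 : act 1 n56851 = n55577 := d15_1 D56851 (iv D55577) (iv F249416)
theorem F255240 : act 2 n56851 = n55827 := d22_1 D56851 (iv D55827) (iv F249417)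
theorem F255241 : act 4 n56851 = n55584 := d33_1 D56851 (iv D55584) (iv F249418)
theorem F255242 : act 5 n56851 = n55572 := d37_1 D56851 (iv D55572) (iv F249419)
theorem F255243 : act 6 n56851 = n55866 := d40_1 D56851 (iv D55866) (iv F249420)
theorem F255244 : act 7 n56851 = n55808 := d42_1 D56851 (iv D55808) (iv F249421)
theorem F255245 : act 9 n56851 = n55608 := d44_2 D55571 D56851 (iv D55608) (iv D54062) (iv F242239)
def n56852 : Q := act 3 n55572
theorem D56852 : act 3 n55572 = n56852 := rfl
theorem F255246 : act 1 n56852 = n55578 := d10_1 D56852 (iv D55578) (iv F249422)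
theorem F255247 : act 9 n56852 = n55609 := d29_2 (iv F249425) D56852 (iv D55609)
def n56853 : Q := act 4 n55573
theorem D56853 : act 4 n55573 = n56853 := rfl
theorem F255248 : act 1 n56853 = n55579 := d11_1 D56853 (iv D55579) (iv F249426)
theorem F255249 : act 8 n56853 = n56853 := d33_2 F249428 D56853 (iv D56853)
theorem F255250 : act 9 n56853 = n55610 := d34_2 (iv F249429) D56853 (iv D55610)
def n56854 : Q := act 8 n55574
theorem D56854 : act 8 n55574 = n56854 := rfl
theorem F255251 : act 2 n56854 = n55820 := d22_1 D56854 (iv D55820) (iv F249430)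
theorem F255252 : act 4 n56854 = n55904 := d33_1 D56854 (iv D55904) (iv F249432)
theorem F255253 : act 5 n56854 = n55576 := d37_1 D56854 (iv D55576) (iv F249433)
theorem F255254 : act 7 n56854 = n55811 := d42_1 D56854 (iv D55811) (iv F249434)
def n56855 : Q := act 8 n55575
theorem D56855 : act 8 n55575 = n56855 := rfl
theorem F255255 : act 4 n56855 = n56855 := d33_1 D56855 (iv D56855) F249436
theorem F255256 : act 9 n56855 = n55576 := d44_2 D55575 D56855 (iv D55576) (iv D54024) D54023
def n56856 : Q := act 3 n55576
theorem D56856 : act 3 n55576 = n56856 := rfl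
theorem F255257 : act 8 n56856 = n55578 := d28_2 D55576 D56856 (iv D55578) (iv D54026) (iv F242253)
def n56857 : Q := act 3 n55577
theorem D56857 : act 3 n55577 = n56857 := rfl
theorem F255258 : act 5 n56857 = n55578 := d25_2 (iv F249440) D56857 (iv D55578)
theorem F255259 : act 7 n56857 = n55812 := d27_2 (iv F249441) D56857 (iv D55812)
theorem F255260 : act 9 n56857 = n55618 := d29_2 (iv F249442) D56857 (iv D55618)
def n56858 : Q := act 2 n55578
theorem D56858 : act 2 n55578 = n56858 := rfl
theorem F255261 : act 3 n56858 = n55582 := d17_2 D55578 D56858 (iv D55582) (iv D54030) (iv F242259)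
theorem F255262 : act 9 n56858 = n55619 := d23_2 (iv F249443) D56858 (iv D55619)
def n56859 : Q := act 4 n55578
theorem D56859 : act 4 n55578 = n56859 := rfl
theorem F255263 : act 3 n56859 = n55579 := d24_1 D56859 (iv D55579) (iv D54027) (iv F242260) D55578
theorem F255264 : act 9 n56859 = n55620 := d34_2 (iv F249443) D56859 (iv D55620)
def n56860 : Q := act 3 n55580
theorem D56860 : act 3 n55580 = n56860 := rfl
theorem F255265 : act 0 n56860 = n55775 := d2_1 D56860 (iv D55775) (iv F249446)
theorem F255266 : act 1 n56860 = n55840 := d10_1 D56860 (iv D55840) (iv F249447)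
theorem F255267 : act 6 n56860 = n55581 := d26_2 (iv F249449) D56860 (iv D55581)
theorem F255268 : act 8 n56860 = n55818 := d28_2 D55580 D56860 (iv D55818) (iv D54333) (iv F242267)
theorem F255269 : act 9 n56860 = n55623 := d29_2 (iv F249450) D56860 (iv D55623)
def n56861 : Q := act 2 n55581
theorem D56861 : act 2 n55581 = n56861 := rfl
theorem F255270 : act 5 n56861 = n55582 := d19_2 (iv F249452) D56861 (iv D55582)
theorem F255271 : act 7 n56861 = n55814 := d21_2 (iv F249453) D56861 (iv D55814)
theorem F255272 : act 8 n56861 = n55822 := d22_2 (iv F249454) D56861 (iv D55822)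
theorem F255273 : act 9 n56861 = n55624 := d23_2 (iv F249455) D56861 (iv D55624)
def n56862 : Q := act 1 n55582
theorem D56862 : act 1 n55582 = n56862 := rfl
theorem F255274 : act 2 n56862 = n55842 := d9_2 D55582 D56862 (iv D55842) (iv D54358) (iv F242275)
theorem F255275 : act 9 n56862 = n55625 := d16_2 (iv F249456) D56862 (iv D55625)
def n56863 : Q := act 8 n55585
theorem D56863 : act 8 n55585 = n56863 := rfl
theorem F255276 : act 2 n56863 = n55588 := d22_1 D56863 (iv D55588) (iv F249470)
theorem F255277 : act 4 n56863 = n56863 := d33_1 D56863 (iv D56863) F249471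
theorem F255278 : act 5 n56863 = n55586 := d37_1 D56863 (iv D55586) (iv F249472)
def n56864 : Q := act 3 n55586
theorem D56864 : act 3 n55586 = n56864 := rfl
theorem F255279 : act 6 n56864 = n55598 := d26_2 (iv F249475) D56864 (iv D55598)
def n56865 : Q := act 4 n55587
theorem D56865 : act 4 n55587 = n56865 := rfl
theorem F255280 : act 2 n56865 = n55651 := d18_1 D56865 (iv D55651) (iv F249476)
theorem F255281 : act 6 n56865 = n55599 := d31_2 (iv F249478) D56865 (iv D55599)
theorem F255282 : act 8 n56865 = n55641 := d33_2 (iv F249479) D56865 (iv D55641)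
def n56866 : Q := act 3 n55588
theorem D56866 : act 3 n55588 = n56866 := rfl
theorem F255283 : act 1 n56866 = n55853 := d10_1 D56866 (iv D55853) (iv F249480)
theorem F255284 : act 5 n56866 = n55589 := d25_2 (iv F249482) D56866 (iv D55589)
def n56867 : Q := act 2 n55589
theorem D56867 : act 2 n55589 = n56867 := rfl
theorem F255285 : act 6 n56867 = n55601 := d20_2 (iv F249484) D56867 (iv D55601)
def n56868 : Q := act 8 n55590
theorem D56868 : act 8 n55590 = n56868 := rfl
theorem F255286 : act 1 n56868 = n55597 := d15_1 D56868 (iv D55597) (iv F249485)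
theorem F255287 : act 2 n56868 = n55855 := d22_1 D56868 (iv D55855) (iv F249486)
theorem F255288 : act 4 n56868 = n55628 := d33_1 D56868 (iv D55628) (iv F249487)
theorem F255289 : act 5 n56868 = n55591 := d37_1 D56868 (iv D55591) (iv F249488)
theorem F255290 : act 7 n56868 = n55608 := d42_1 D56868 (iv D55608) (iv F249489)
theorem F255291 : act 9 n56868 = n55808 := d44_2 D55590 D56868 (iv D55808) (iv D54322) (iv F242337)
def n56869 : Q := act 3 n55591
theorem D56869 : act 3 n55591 = n56869 := rfl
theorem F255292 : act 1 n56869 = n55598 := d10_1 D56869 (iv D55598) (iv F249490)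
theorem F255293 : act 7 n56869 = n55609 := d27_2 (iv F249493) D56869 (iv D55609)
def n56870 : Q := act 4 n55592
theorem D56870 : act 4 n55592 = n56870 := rfl
theorem F255294 : act 1 n56870 = n55599 := d11_1 D56870 (iv D55599) (iv F249494)
theorem F255295 : act 2 n56870 = n55747 := d18_1 D56870 (iv D55747) (iv F249495)
theorem F255296 : act 7 n56870 = n55610 := d32_2 (iv F249497) D56870 (iv D55610)
theorem F255297 : act 8 n56870 = n55642 := d33_2 (iv F249498) D56870 (iv D55642)
def n56871 : Q := act 9 n55593
theorem D56871 : act 9 n55593 = n56871 := rfl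
theorem F255298 : act 2 n56871 = n55705 := d23_1 D56871 (iv D55705) (iv F249499)
theorem F255299 : act 3 n56871 = n55810 := d29_1 D56871 (iv D55810) (iv F249500)
theorem F255300 : act 4 n56871 = n56871 := d34_1 D56871 (iv D56871) F249501
theorem F255301 : act 5 n56871 = n55595 := d38_1 D56871 (iv D55595) (iv F249502)
theorem F255302 : act 7 n56871 = n55612 := d43_1 D56871 (iv D55612) (iv F249503)
def n56872 : Q := act 8 n55594
theorem D56872 : act 8 n55594 = n56872 := rfl
theorem F255303 : act 2 n56872 = n55706 := d22_1 D56872 (iv D55706) (iv F249504)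
theorem F255304 : act 4 n56872 = n56872 := d33_1 D56872 (iv D56872) F249506
theorem F255305 : act 5 n56872 = n55596 := d37_1 D56872 (iv D55596) (iv F249507)
theorem F255306 : act 7 n56872 = n55613 := d42_1 D56872 (iv D55613) (iv F249508)
def n56873 : Q := act 8 n55595
theorem D56873 : act 8 n55595 = n56873 := rfl
theorem F255307 : act 4 n56873 = n55643 := d33_1 D56873 (iv D55643) (iv F249509)
theorem F255308 : act 7 n56873 = n55614 := d42_1 D56873 (iv D55614) (iv F249510)
theorem F255309 : act 9 n56873 = n55596 := d44_2 D55595 D56873 (iv D55596) (iv D54049) D54048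
def n56874 : Q := act 3 n55596
theorem D56874 : act 3 n55596 = n56874 := rfl
theorem F255310 : act 7 n56874 = n55615 := d27_2 (iv F249512) D56874 (iv D55615)
theorem F255311 : act 8 n56874 = n55598 := d28_2 D55596 D56874 (iv D55598) (iv D54051) (iv F242352)
def n56875 : Q := act 3 n55597
theorem D56875 : act 3 n55597 = n56875 := rfl
theorem F255312 : act 5 n56875 = n55598 := d25_2 (iv F249515) D56875 (iv D55598)
theorem F255313 : act 7 n56875 = n55618 := d27_2 (iv F249516) D56875 (iv D55618)
theorem F255314 : act 9 n56875 = n55812 := d29_2 (iv F249517) D56875 (iv D55812)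
def n56876 : Q := act 2 n55598
theorem D56876 : act 2 n55598 = n56876 := rfl
theorem F255315 : act 3 n56876 = n55601 := d17_2 D55598 D56876 (iv D55601) (iv D54054) (iv F242359)
theorem F255316 : act 7 n56876 = n55619 := d21_2 (iv F249518) D56876 (iv D55619)
def n56877 : Q := act 4 n55598
theorem D56877 : act 4 n55598 = n56877 := rfl
theorem F255317 : act 3 n56877 = n55599 := d24_1 D56877 (iv D55599) (iv D54052) (iv F242360) D55598
theorem F255318 : act 7 n56877 = n55620 := d32_2 (iv F249518) D56877 (iv D55620)
def n56878 : Q := act 5 n55599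
theorem D56878 : act 5 n55599 = n56878 := rfl
theorem F255319 : act 4 n56878 = n55631 := d30_1 D56878 (iv D55631) (iv D54087) (iv F242362) D55599
theorem F255320 : act 7 n56878 = n55621 := d36_2 (iv F249519) D56878 (iv D55621)
theorem F255321 : act 8 n56878 = n55646 := d37_2 (iv F249520) D56878 (iv D55646)
def n56879 : Q := act 2 n55600
theorem D56879 : act 2 n55600 = n56879 := rfl
theorem F255322 : act 5 n56879 = n55601 := d19_2 (iv F249522) D56879 (iv D55601)
theorem F255323 : act 7 n56879 = n55624 := d21_2 (iv F249523) D56879 (iv D55624)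
theorem F255324 : act 8 n56879 = n55709 := d22_2 (iv F249524) D56879 (iv D55709)
theorem F255325 : act 9 n56879 = n55814 := d23_2 (iv F249525) D56879 (iv D55814)
def n56880 : Q := act 1 n55601
theorem D56880 : act 1 n55601 = n56880 := rfl
theorem F255326 : act 2 n56880 = n55865 := d9_2 D55601 D56880 (iv D55865) (iv D54385) (iv F242370)
theorem F255327 : act 7 n56880 = n55625 := d14_2 (iv F249526) D56880 (iv D55625)
def n56881 : Q := act 8 n55602
theorem D56881 : act 8 n55602 = n56881 := rfl
theorem F255328 : act 0 n56881 = n55608 := d7_1 D56881 (iv D55608) (iv F249527)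
theorem F255329 : act 1 n56881 = n55836 := d15_1 D56881 (iv D55836) (iv F249528)
theorem F255330 : act 2 n56881 = n55866 := d22_1 D56881 (iv D55866) (iv F249529)
theorem F255331 : act 4 n56881 = n55632 := d33_1 D56881 (iv D55632) (iv F249530)
theorem F255332 : act 5 n56881 = n55603 := d37_1 D56881 (iv D55603) (iv F249531)
theorem F255333 : act 6 n56881 = n55827 := d40_1 D56881 (iv D55827) (iv F249532)
theorem F255334 : act 9 n56881 = n55869 := d44_2 D55602 D56881 (iv D55869) (iv D54390) (iv F242377)
def n56882 : Q := act 3 n55603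
theorem D56882 : act 3 n55603 = n56882 := rfl
theorem F255335 : act 0 n56882 = n55609 := d2_1 D56882 (iv D55609) (iv F249533)
def n56883 : Q := act 8 n55604
theorem D56883 : act 8 n55604 = n56883 := rfl
theorem F255336 : act 1 n56883 = n55613 := d15_1 D56883 (iv D55613) (iv F249536)
theorem F255337 : act 4 n56883 = n56883 := d33_1 D56883 (iv D56883) F249538
theorem F255338 : act 5 n56883 = n55606 := d37_1 D56883 (iv D55606) (iv F249539)
def n56884 : Q := act 8 n55605
theorem D56884 : act 8 n55605 = n56884 := rfl
theorem F255339 : act 1 n56884 = n55614 := d15_1 D56884 (iv D55614) (iv F249540)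
theorem F255340 : act 4 n56884 = n55647 := d33_1 D56884 (iv D55647) (iv F249541)
theorem F255341 : act 9 n56884 = n55606 := d44_2 D55605 D56884 (iv D55606) (iv D54060) D54059
def n56885 : Q := act 3 n55606
theorem D56885 : act 3 n55606 = n56885 := rfl
theorem F255342 : act 1 n56885 = n55615 := d10_1 D56885 (iv D55615) (iv F249542)
theorem F255343 : act 8 n56885 = n55609 := d28_2 D55606 D56885 (iv D55609) (iv D54063) (iv F242390)
def n56886 : Q := act 8 n55607
theorem D56886 : act 8 n55607 = n56886 := rfl
theorem F255344 : act 0 n56886 = n55827 := d7_1 D56886 (iv D55827) (iv F249544)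
theorem F255345 : act 1 n56886 = n55617 := d15_1 D56886 (iv D55617) (iv F249545)
theorem F255346 : act 2 n56886 = n55869 := d22_1 D56886 (iv D55869) (iv F249546)
theorem F255347 : act 4 n56886 = n55634 := d33_1 D56886 (iv D55634) (iv F249547)
theorem F255348 : act 5 n56886 = n55823 := d37_1 D56886 (iv D55823) (iv F249548)
theorem F255349 : act 6 n56886 = n55608 := d40_1 D56886 (iv D55608) (iv F249549)
theorem F255350 : act 9 n56886 = n55866 := d44_2 D55607 D56886 (iv D55866) (iv D54386) (iv F242397)
def n56887 : Q := act 3 n55608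
theorem D56887 : act 3 n55608 = n56887 := rfl
theorem F255351 : act 1 n56887 = n55618 := d10_1 D56887 (iv D55618) (iv F249550)
theorem F255352 : act 5 n56887 = n55609 := d25_2 (iv F249553) D56887 (iv D55609)
def n56888 : Q := act 2 n55609
theorem D56888 : act 2 n55609 = n56888 := rfl
theorem F255353 : act 3 n56888 = n55871 := d17_2 D55609 D56888 (iv D55871) (iv D54392) (iv F242403)
def n56889 : Q := act 4 n55609
theorem D56889 : act 4 n55609 = n56889 := rfl
theorem F255354 : act 1 n56889 = n55620 := d11_1 D56889 (iv D55620) (iv F249554)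
theorem F255355 : act 3 n56889 = n55610 := d24_1 D56889 (iv D55610) (iv D54064) (iv F242404) D55609
def n56890 : Q := act 8 n55611
theorem D56890 : act 8 n55611 = n56890 := rfl
theorem F255356 : act 0 n56890 = n55850 := d7_1 D56890 (iv D55850) (iv F249557)
theorem F255357 : act 2 n56890 = n55793 := d22_1 D56890 (iv D55793) (iv F249558)
theorem F255358 : act 4 n56890 = n56890 := d33_1 D56890 (iv D56890) F249560
theorem F255359 : act 5 n56890 = n55792 := d37_1 D56890 (iv D55792) (iv F249561)
theorem F255360 : act 6 n56890 = n55613 := d40_1 D56890 (iv D55613) (iv F249562)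
def n56891 : Q := act 8 n55612
theorem D56891 : act 8 n55612 = n56891 := rfl
theorem F255361 : act 4 n56891 = n56891 := d33_1 D56891 (iv D56891) F249563
theorem F255362 : act 5 n56891 = n55614 := d37_1 D56891 (iv D55614) (iv F249564)
theorem F255363 : act 9 n56891 = n55613 := d44_2 D55612 D56891 (iv D55613) (iv D54067) D54066
def n56892 : Q := act 3 n55613
theorem D56892 : act 3 n55613 = n56892 := rfl
theorem F255364 : act 5 n56892 = n55615 := d25_2 (iv F249566) D56892 (iv D55615)
theorem F255365 : act 8 n56892 = n55618 := d28_2 D55613 D56892 (iv D55618) (iv D54072) (iv F242415)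
def n56893 : Q := act 3 n55614
theorem D56893 : act 3 n55614 = n56893 := rfl
theorem F255366 : act 9 n56893 = n55615 := d29_2 (iv F249568) D56893 (iv D55615)
def n56894 : Q := act 2 n55615
theorem D56894 : act 2 n55615 = n56894 := rfl
theorem F255367 : act 8 n56894 = n55619 := d22_2 (iv F249569) D56894 (iv D55619)
def n56895 : Q := act 4 n55615
theorem D56895 : act 4 n55615 = n56895 := rfl
theorem F255368 : act 3 n56895 = n55651 := d24_1 D56895 (iv D55651) (iv D54114) (iv F242419) D55615
theorem F255369 : act 8 n56895 = n55620 := d33_2 (iv F249569) D56895 (iv D55620)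
def n56896 : Q := act 8 n55616
theorem D56896 : act 8 n55616 = n56896 := rfl
theorem F255370 : act 2 n56896 = n55622 := d22_1 D56896 (iv D55622) (iv F249570)
theorem F255371 : act 4 n56896 = n55636 := d33_1 D56896 (iv D55636) (iv F249571)
theorem F255372 : act 7 n56896 = n55617 := d42_1 D56896 (iv D55617) (iv F249572)
def n56897 : Q := act 3 n55617
theorem D56897 : act 3 n55617 = n56897 := rfl
theorem F255373 : act 6 n56897 = n55618 := d26_2 (iv F249575) D56897 (iv D55618)
def n56898 : Q := act 2 n55618
theorem D56898 : act 2 n55618 = n56898 := rfl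
theorem F255374 : act 3 n56898 = n55624 := d17_2 D55618 D56898 (iv D55624) (iv D54077) (iv F242425)
theorem F255375 : act 5 n56898 = n55619 := d19_2 (iv F249576) D56898 (iv D55619)
def n56899 : Q := act 4 n55618
theorem D56899 : act 4 n55618 = n56899 := rfl
theorem F255376 : act 3 n56899 = n55638 := d24_1 D56899 (iv D55638) (iv D54095) (iv F242426) D55618
def n56900 : Q := act 1 n55619
theorem D56900 : act 1 n55619 = n56900 := rfl
theorem F255377 : act 3 n56900 = n55625 := d10_2 (iv F249577) D56900 (iv D55625)
def n56901 : Q := act 4 n55619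
theorem D56901 : act 4 n55619 = n56901 := rfl
theorem F255378 : act 2 n56901 = n55620 := d18_1 D56901 (iv D55620) D55619
def n56902 : Q := act 5 n55620
theorem D56902 : act 5 n55620 = n56902 := rfl
theorem F255379 : act 3 n56902 = n55621 := d25_1 D56902 (iv D55621) (iv F249578)
def n56903 : Q := act 3 n55622
theorem D56903 : act 3 n55622 = n56903 := rfl
theorem F255380 : act 1 n56903 = n55885 := d10_1 D56903 (iv D55885) (iv F249581)
theorem F255381 : act 7 n56903 = n55623 := d27_2 (iv F249583) D56903 (iv D55623)
def n56904 : Q := act 2 n55623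
theorem D56904 : act 2 n55623 = n56904 := rfl
theorem F255382 : act 6 n56904 = n55624 := d20_2 (iv F249585) D56904 (iv D55624)
def n56905 : Q := act 1 n55624
theorem D56905 : act 1 n55624 = n56905 := rfl
theorem F255383 : act 2 n56905 = n55887 := d9_2 D55624 D56905 (iv D55887) (iv D54407) (iv F242435)
theorem F255384 : act 5 n56905 = n55625 := d12_2 (iv F249586) D56905 (iv D55625)
def n56906 : Q := act 0 n55625
theorem D56906 : act 0 n55625 = n56906 := rfl
theorem F255385 : act 2 n56906 = n55888 := d1_2 (iv F249587) D56906 (iv D55888)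
def n56907 : Q := act 8 n55626
theorem D56907 : act 8 n55626 = n56907 := rfl
theorem F255386 : act 0 n56907 = n55628 := d7_1 D56907 (iv D55628) (iv F249588)
theorem F255387 : act 1 n56907 = n55846 := d15_1 D56907 (iv D55846) (iv F249589)
theorem F255388 : act 2 n56907 = n55889 := d22_1 D56907 (iv D55889) (iv F249590)
theorem F255389 : act 5 n56907 = n55627 := d37_1 D56907 (iv D55627) (iv F249592)
theorem F255390 : act 7 n56907 = n55632 := d42_1 D56907 (iv D55632) (iv F249593)
theorem F255391 : act 9 n56907 = n55806 := d44_2 D55626 D56907 (iv D55806) (iv D54320) (iv F242442)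
def n56908 : Q := act 3 n55627
theorem D56908 : act 3 n55627 = n56908 := rfl
theorem F255392 : act 0 n56908 = n55629 := d2_1 D56908 (iv D55629) (iv F249594)
theorem F255393 : act 1 n56908 = n55849 := d10_1 D56908 (iv D55849) (iv F249595)
theorem F255394 : act 6 n56908 = n56908 := d26_2 F249598 D56908 (iv D56908)
theorem F255395 : act 7 n56908 = n55633 := d27_2 (iv F249599) D56908 (iv D55633)
theorem F255396 : act 8 n56908 = n56908 := d28_2 D55627 D56908 (iv D56908) (iv D55627) F242446
theorem F255397 : act 9 n56908 = n55901 := d29_2 (iv F249600) D56908 (iv D55901)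
def n56909 : Q := act 3 n55628
theorem D56909 : act 3 n55628 = n56909 := rfl
theorem F255398 : act 1 n56909 = n55630 := d10_1 D56909 (iv D55630) (iv F249601)
theorem F255399 : act 5 n56909 = n55629 := d25_2 (iv F249603) D56909 (iv D55629)
theorem F255400 : act 7 n56909 = n55635 := d27_2 (iv F249604) D56909 (iv D55635)
theorem F255401 : act 8 n56909 = n56909 := d28_2 D55628 D56909 (iv D56909) (iv D55628) F242456
theorem F255402 : act 9 n56909 = n55809 := d29_2 (iv F249605) D56909 (iv D55809)
def n56910 : Q := act 4 n55630
theorem D56910 : act 4 n55630 = n56910 := rfl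
theorem F255403 : act 7 n56910 = n55638 := d32_2 (iv F249612) D56910 (iv D55638)
theorem F255404 : act 8 n56910 = n56910 := d33_2 F249613 D56910 (iv D56910)
theorem F255405 : act 9 n56910 = n55813 := d34_2 (iv F249614) D56910 (iv D55813)
def n56911 : Q := act 6 n55631
theorem D56911 : act 6 n55631 = n56911 := rfl
theorem F255406 : act 5 n56911 = n56911 := d35_1 D56911 (iv D56911) (iv D55631) F242478 D55631
theorem F255407 : act 8 n56911 = n55653 := d40_2 (iv F249616) D56911 (iv D55653)
def n56912 : Q := act 3 n55632
theorem D56912 : act 3 n55632 = n56912 := rfl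
theorem F255408 : act 0 n56912 = n55635 := d2_1 D56912 (iv D55635) (iv F249617)
theorem F255409 : act 1 n56912 = n55847 := d10_1 D56912 (iv D55847) (iv F249618)
theorem F255410 : act 5 n56912 = n55633 := d25_2 (iv F249620) D56912 (iv D55633)
theorem F255411 : act 6 n56912 = n55844 := d26_2 (iv F249621) D56912 (iv D55844)
theorem F255412 : act 8 n56912 = n56912 := d28_2 D55632 D56912 (iv D56912) (iv D55632) F242484
theorem F255413 : act 9 n56912 = n55895 := d29_2 (iv F249622) D56912 (iv D55895)
def n56913 : Q := act 4 n55635
theorem D56913 : act 4 n55635 = n56913 := rfl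
theorem F255414 : act 1 n56913 = n55638 := d11_1 D56913 (iv D55638) (iv F249634)
theorem F255415 : act 8 n56913 = n56913 := d33_2 F249636 D56913 (iv D56913)
def n56914 : Q := act 3 n55636
theorem D56914 : act 3 n55636 = n56914 := rfl
theorem F255416 : act 5 n56914 = n55640 := d25_2 (iv F249638) D56914 (iv D55640)
theorem F255417 : act 7 n56914 = n55637 := d27_2 (iv F249639) D56914 (iv D55637)
theorem F255418 : act 8 n56914 = n56914 := d28_2 D55636 D56914 (iv D56914) (iv D55636) F242506
def n56915 : Q := act 4 n55637
theorem D56915 : act 4 n55637 = n56915 := rfl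
theorem F255419 : act 6 n56915 = n55638 := d31_2 (iv F249641) D56915 (iv D55638)
theorem F255420 : act 8 n56915 = n56915 := d33_2 F249642 D56915 (iv D56915)
def n56916 : Q := act 5 n55641
theorem D56916 : act 5 n55641 = n56916 := rfl
theorem F255421 : act 2 n56916 = n55652 := d19_1 D56916 (iv D55652) (iv F249654)
theorem F255422 : act 4 n56916 = n56916 := d30_1 D56916 (iv D56916) (iv D55641) F242543 D55641
theorem F255423 : act 9 n56916 = n56916 := d38_2 F249656 D56916 (iv D56916)
def n56917 : Q := act 3 n55643
theorem D56917 : act 3 n55643 = n56917 := rfl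
theorem F255424 : act 5 n56917 = n56917 := d25_2 F249661 D56917 (iv D56917)
theorem F255425 : act 7 n56917 = n55650 := d27_2 (iv F249662) D56917 (iv D55650)
theorem F255426 : act 8 n56917 = n56917 := d28_2 D55643 D56917 (iv D56917) (iv D55643) F242551
theorem F255427 : act 9 n56917 = n55644 := d29_2 (iv F249663) D56917 (iv D55644)
def n56918 : Q := act 4 n55644
theorem D56918 : act 4 n55644 = n56918 := rfl
theorem F255428 : act 7 n56918 = n55651 := d32_2 (iv F249665) D56918 (iv D55651)
theorem F255429 : act 8 n56918 = n55645 := d33_2 (iv F249666) D56918 (iv D55645)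
def n56919 : Q := act 5 n55645
theorem D56919 : act 5 n55645 = n56919 := rfl
theorem F255430 : act 3 n56919 = n55646 := d25_1 D56919 (iv D55646) (iv F249667)
theorem F255431 : act 4 n56919 = n56919 := d30_1 D56919 (iv D56919) (iv D55645) F242556 D55645
theorem F255432 : act 7 n56919 = n55652 := d36_2 (iv F249668) D56919 (iv D55652)
theorem F255433 : act 9 n56919 = n56919 := d38_2 F249669 D56919 (iv D56919)
def n56920 : Q := act 6 n55646
theorem D56920 : act 6 n55646 = n56920 := rfl
theorem F255434 : act 4 n56920 = n55653 := d31_1 D56920 (iv D55653) (iv F249670)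
theorem F255435 : act 9 n56920 = n56920 := d41_2 F249672 D56920 (iv D56920)
def n56921 : Q := act 3 n55647
theorem D56921 : act 3 n55647 = n56921 := rfl
theorem F255436 : act 1 n56921 = n55650 := d10_1 D56921 (iv D55650) (iv F249673)
theorem F255437 : act 5 n56921 = n56921 := d25_2 F249674 D56921 (iv D56921)
theorem F255438 : act 8 n56921 = n56921 := d28_2 D55647 D56921 (iv D56921) (iv D55647) F242562
theorem F255439 : act 9 n56921 = n55648 := d29_2 (iv F249675) D56921 (iv D55648)
def n56922 : Q := act 4 n55648
theorem D56922 : act 4 n55648 = n56922 := rfl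
theorem F255440 : act 1 n56922 = n55651 := d11_1 D56922 (iv D55651) (iv F249676)
theorem F255441 : act 8 n56922 = n55649 := d33_2 (iv F249678) D56922 (iv D55649)
def n56923 : Q := act 4 n55650
theorem D56923 : act 4 n55650 = n56923 := rfl
theorem F255442 : act 8 n56923 = n56923 := d33_2 F249683 D56923 (iv D56923)
theorem F255443 : act 9 n56923 = n55651 := d34_2 (iv F249684) D56923 (iv D55651)
def n56924 : Q := act 5 n55651
theorem D56924 : act 5 n55651 = n56924 := rfl
theorem F255444 : act 4 n56924 = n56924 := d30_1 D56924 (iv D56924) (iv D55651) F242573 D55651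
theorem F255445 : act 8 n56924 = n55652 := d37_2 (iv F249685) D56924 (iv D55652)
def n56925 : Q := act 3 n55658
theorem D56925 : act 3 n55658 = n56925 := rfl
theorem F255446 : act 0 n56925 = n55671 := d2_1 D56925 (iv D55671) (iv F249706)
theorem F255447 : act 1 n56925 = n55697 := d10_1 D56925 (iv D55697) (iv F249707)
theorem F255448 : act 4 n56925 = n55695 := d24_2 (iv F249708) D56925 (iv D55695) F242780 (iv F242647)
theorem F255449 : act 5 n56925 = n55673 := d25_2 (iv F249709) D56925 (iv D55673)
theorem F255450 : act 7 n56925 = n55681 := d27_2 (iv F249710) D56925 (iv D55681)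
theorem F255451 : act 8 n56925 = n55770 := d28_2 D55658 D56925 (iv D55770) (iv D54273) (iv F242641)
theorem F255452 : act 9 n56925 = n55662 := d29_2 (iv F249711) D56925 (iv D55662)
def n56926 : Q := act 3 n55659
theorem D56926 : act 3 n55659 = n56926 := rfl
theorem F255453 : act 0 n56926 = n55673 := d2_1 D56926 (iv D55673) (iv F249712)
theorem F255454 : act 1 n56926 = n55695 := d10_1 D56926 (iv D55695) (iv F249713)
theorem F255455 : act 4 n56926 = n55697 := d24_2 (iv F249714) D56926 (iv D55697) F242796 (iv F242659)
theorem F255456 : act 5 n56926 = n55671 := d25_2 (iv F249715) D56926 (iv D55671)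
theorem F255457 : act 7 n56926 = n55662 := d27_2 (iv F249716) D56926 (iv D55662)
theorem F255458 : act 8 n56926 = n55751 := d28_2 D55659 D56926 (iv D55751) (iv D54251) (iv F242653)
theorem F255459 : act 9 n56926 = n55681 := d29_2 (iv F249717) D56926 (iv D55681)
def n56927 : Q := act 3 n55660
theorem D56927 : act 3 n55660 = n56927 := rfl
theorem F255460 : act 0 n56927 = n55679 := d2_1 D56927 (iv D55679) (iv F249718)
def n56928 : Q := act 4 n55661
theorem D56928 : act 4 n55661 = n56928 := rfl
theorem F255461 : act 0 n56928 = n55680 := d3_1 D56928 (iv D55680) (iv F249721)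
theorem F255462 : act 2 n56928 = n55699 := d18_1 D56928 (iv D55699) (iv F249722)
theorem F255463 : act 8 n56928 = n55665 := d33_2 (iv F249724) D56928 (iv D55665)
def n56929 : Q := act 2 n55662
theorem D56929 : act 2 n55662 = n56929 := rfl
theorem F255464 : act 0 n56929 = n55682 := d1_1 D56929 (iv D55682) (iv F249725)
theorem F255465 : act 4 n56929 = n55700 := d18_2 (iv F249726) D56929 (iv D55700)
theorem F255466 : act 8 n56929 = n55752 := d22_2 (iv F249727) D56929 (iv D55752)
def n56930 : Q := act 5 n55663
theorem D56930 : act 5 n55663 = n56930 := rfl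
theorem F255467 : act 0 n56930 = n55685 := d4_1 D56930 (iv D55685) (iv F249728)
theorem F255468 : act 2 n56930 = n55701 := d19_1 D56930 (iv D55701) (iv F249729)
theorem F255469 : act 8 n56930 = n55666 := d37_2 (iv F249731) D56930 (iv D55666)
def n56931 : Q := act 4 n55664
theorem D56931 : act 4 n55664 = n56931 := rfl
theorem F255470 : act 0 n56931 = n55748 := d3_1 D56931 F249942 (iv F249732)
theorem F255471 : act 1 n56931 = n55665 := d11_1 D56931 (iv D55665) (iv F249733)
theorem F255472 : act 6 n56931 = n55702 := d31_2 (iv F249735) D56931 F249841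
theorem F255473 : act 9 n56931 = n56931 := d34_2 F249736 D56931 (iv D56931)
def n56932 : Q := act 5 n55665
theorem D56932 : act 5 n55665 = n56932 := rfl
theorem F255474 : act 0 n56932 = n55690 := d4_1 D56932 (iv D55690) (iv F249737)
theorem F255475 : act 2 n56932 = n55702 := d19_1 D56932 (iv D55702) (iv F249738)
theorem F255476 : act 4 n56932 = n55666 := d30_1 D56932 (iv D55666) (iv D54147) (iv F242686) D55665
theorem F255477 : act 9 n56932 = n56932 := d38_2 F249739 D56932 (iv D56932)
def n56933 : Q := act 9 n55667
theorem D56933 : act 9 n55667 = n56933 := rfl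
theorem F255478 : act 3 n56933 = n55676 := d29_1 D56933 (iv D55676) (iv F249744)
theorem F255479 : act 4 n56933 = n56933 := d34_1 D56933 (iv D56933) F249745
theorem F255480 : act 6 n56933 = n55765 := d41_1 D56933 (iv D55765) (iv F249746)
def n56934 : Q := act 8 n55668
theorem D56934 : act 8 n55668 = n56934 := rfl
theorem F255481 : act 4 n56934 = n56934 := d33_1 D56934 (iv D56934) F249748
def n56935 : Q := act 3 n55669
theorem D56935 : act 3 n55669 = n56935 := rfl
theorem F255482 : act 9 n56935 = n55679 := d29_2 (iv F249751) D56935 (iv D55679)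
def n56936 : Q := act 4 n55670
theorem D56936 : act 4 n55670 = n56936 := rfl
theorem F255483 : act 2 n56936 = n55708 := d18_1 D56936 (iv D55708) (iv F249752)
theorem F255484 : act 8 n56936 = n56936 := d33_2 F249754 D56936 (iv D56936)
theorem F255485 : act 9 n56936 = n55680 := d34_2 (iv F249755) D56936 (iv D55680)
def n56937 : Q := act 2 n55671
theorem D56937 : act 2 n55671 = n56937 := rfl
theorem F255486 : act 4 n56937 = n55709 := d18_2 (iv F249756) D56937 (iv D55709)
theorem F255487 : act 9 n56937 = n55682 := d23_2 (iv F249757) D56937 (iv D55682)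
def n56938 : Q := act 5 n55672
theorem D56938 : act 5 n55672 = n56938 := rfl
theorem F255488 : act 2 n56938 = n55711 := d19_1 D56938 (iv D55711) (iv F249758)
theorem F255489 : act 8 n56938 = n56938 := d37_2 F249760 D56938 (iv D56938)
theorem F255490 : act 9 n56938 = n55685 := d38_2 (iv F249761) D56938 (iv D55685)
def n56939 : Q := act 2 n55673
theorem D56939 : act 2 n55673 = n56939 := rfl
theorem F255491 : act 4 n56939 = n55720 := d18_2 (iv F249762) D56939 (iv D55720)
theorem F255492 : act 7 n56939 = n55682 := d21_2 (iv F249763) D56939 (iv D55682)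
theorem F255493 : act 8 n56939 = n55771 := d22_2 (iv F249764) D56939 (iv D55771)
def n56940 : Q := act 9 n55674
theorem D56940 : act 9 n55674 = n56940 := rfl
theorem F255494 : act 2 n56940 = n55760 := d23_1 D56940 (iv D55760) (iv F249765)
theorem F255495 : act 4 n56940 = n56940 := d34_1 D56940 (iv D56940) F249766
theorem F255496 : act 5 n56940 = n55676 := d38_1 D56940 (iv D55676) (iv F249767)
theorem F255497 : act 6 n56940 = n55758 := d41_1 D56940 (iv D55758) (iv F249768)
def n56941 : Q := act 8 n55675
theorem D56941 : act 8 n55675 = n56941 := rfl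
theorem F255498 : act 2 n56941 = n55776 := d22_1 D56941 (iv D55776) (iv F249769)
theorem F255499 : act 4 n56941 = n56941 := d33_1 D56941 (iv D56941) F249771
theorem F255500 : act 5 n56941 = n55677 := d37_1 D56941 (iv D55677) (iv F249772)
def n56942 : Q := act 8 n55676
theorem D56942 : act 8 n55676 = n56942 := rfl
theorem F255501 : act 2 n56942 = n55769 := d22_1 D56942 (iv D55769) (iv F249773)
theorem F255502 : act 4 n56942 = n55687 := d33_1 D56942 (iv D55687) (iv F249774)
theorem F255503 : act 6 n56942 = n55767 := d40_1 D56942 (iv D55767) (iv F249775)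
theorem F255504 : act 9 n56942 = n55677 := d44_2 D55676 D56942 (iv D55677) (iv D54158) D54157
def n56943 : Q := act 3 n55677
theorem D56943 : act 3 n55677 = n56943 := rfl
theorem F255505 : act 8 n56943 = n55679 := d28_2 D55677 D56943 (iv D55679) (iv D54160) (iv F242724)
def n56944 : Q := act 3 n55678
theorem D56944 : act 3 n55678 = n56944 := rfl
theorem F255506 : act 5 n56944 = n55679 := d25_2 (iv F249780) D56944 (iv D55679)
def n56945 : Q := act 2 n55679
theorem D56945 : act 2 n55679 = n56945 := rfl
theorem F255507 : act 3 n56945 = n55682 := d17_2 D55679 D56945 (iv D55682) (iv D54163) (iv F242729)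
def n56946 : Q := act 4 n55679
theorem D56946 : act 4 n55679 = n56946 := rfl
theorem F255508 : act 3 n56946 = n55680 := d24_1 D56946 (iv D55680) (iv D54161) (iv F242730) D55679
def n56947 : Q := act 5 n55680
theorem D56947 : act 5 n55680 = n56947 := rfl
theorem F255509 : act 2 n56947 = n55733 := d19_1 D56947 (iv D55733) (iv F249781)
theorem F255510 : act 4 n56947 = n55685 := d30_1 D56947 (iv D55685) (iv D54166) (iv F242732) D55680
theorem F255511 : act 8 n56947 = n55690 := d37_2 (iv F249782) D56947 (iv D55690)
def n56948 : Q := act 2 n55681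
theorem D56948 : act 2 n55681 = n56948 := rfl
theorem F255512 : act 5 n56948 = n55682 := d19_2 (iv F249784) D56948 (iv D55682)
theorem F255513 : act 8 n56948 = n55780 := d22_2 (iv F249785) D56948 (iv D55780)
def n56949 : Q := act 1 n55682
theorem D56949 : act 1 n55682 = n56949 := rfl
theorem F255514 : act 4 n56949 = n55737 := d11_2 (iv F249786) D56949 (iv D55737)
theorem F255515 : act 8 n56949 = n55781 := d15_2 (iv F249787) D56949 (iv D55781)
def n56950 : Q := act 4 n55683
theorem D56950 : act 4 n55683 = n56950 := rfl
theorem F255516 : act 8 n56950 = n56950 := d33_2 F249789 D56950 (iv D56950)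
def n56951 : Q := act 5 n55684
theorem D56951 : act 5 n55684 = n56951 := rfl
theorem F255517 : act 3 n56951 = n55685 := d25_1 D56951 (iv D55685) (iv F249790)
theorem F255518 : act 8 n56951 = n56951 := d37_2 F249792 D56951 (iv D56951)
def n56952 : Q := act 6 n55685
theorem D56952 : act 6 n55685 = n56952 := rfl
theorem F255519 : act 2 n56952 = n55739 := d20_1 D56952 (iv D55739) (iv F249793)
theorem F255520 : act 5 n56952 = n55686 := d35_1 D56952 (iv D55686) (iv D54169) (iv F242744) D55685
theorem F255521 : act 8 n56952 = n55691 := d40_2 (iv F249794) D56952 (iv D55691)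
def n56953 : Q := act 3 n55687
theorem D56953 : act 3 n55687 = n56953 := rfl
theorem F255522 : act 5 n56953 = n56953 := d25_2 F249798 D56953 (iv D56953)
theorem F255523 : act 6 n56953 = n55784 := d26_2 (iv F249799) D56953 (iv D55784)
theorem F255524 : act 8 n56953 = n56953 := d28_2 D55687 D56953 (iv D56953) (iv D55687) F242753
theorem F255525 : act 9 n56953 = n55688 := d29_2 (iv F249800) D56953 (iv D55688)
def n56954 : Q := act 4 n55688
theorem D56954 : act 4 n55688 = n56954 := rfl
theorem F255526 : act 8 n56954 = n55689 := d33_2 (iv F249802) D56954 (iv D55689)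
def n56955 : Q := act 5 n55689
theorem D56955 : act 5 n55689 = n56955 := rfl
theorem F255527 : act 3 n56955 = n55690 := d25_1 D56955 (iv D55690) (iv F249803)
theorem F255528 : act 4 n56955 = n56955 := d30_1 D56955 (iv D56955) (iv D55689) F242758 D55689
theorem F255529 : act 9 n56955 = n56955 := d38_2 F249804 D56955 (iv D56955)
def n56956 : Q := act 6 n55690
theorem D56956 : act 6 n55690 = n56956 := rfl
theorem F255530 : act 2 n56956 = n55748 := d20_1 D56956 (iv D55748) (iv F249805)
theorem F255531 : act 4 n56956 = n55691 := d31_1 D56956 (iv D55691) (iv F249806)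
theorem F255532 : act 9 n56956 = n56956 := d41_2 F249807 D56956 (iv D56956)
def n56957 : Q := act 8 n55692
theorem D56957 : act 8 n55692 = n56957 := rfl
theorem F255533 : act 0 n56957 = n55706 := d7_1 D56957 (iv D55706) (iv F249812)
theorem F255534 : act 4 n56957 = n56957 := d33_1 D56957 (iv D56957) F249814
theorem F255535 : act 5 n56957 = n55862 := d37_1 D56957 (iv D55862) (iv F249815)
theorem F255536 : act 7 n56957 = n55852 := d42_1 D56957 (iv D55852) (iv F249816)
def n56958 : Q := act 3 n55693
theorem D56958 : act 3 n55693 = n56958 := rfl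
theorem F255537 : act 0 n56958 = n55707 := d2_1 D56958 (iv D55707) (iv F249817)
theorem F255538 : act 9 n56958 = n55698 := d29_2 (iv F249820) D56958 (iv D55698)
def n56959 : Q := act 4 n55694
theorem D56959 : act 4 n55694 = n56959 := rfl
theorem F255539 : act 0 n56959 = n55708 := d3_1 D56959 (iv D55708) (iv F249821)
theorem F255540 : act 8 n56959 = n56959 := d33_2 F249823 D56959 (iv D56959)
theorem F255541 : act 9 n56959 = n55699 := d34_2 (iv F249824) D56959 (iv D55699)
def n56960 : Q := act 2 n55695
theorem D56960 : act 2 n55695 = n56960 := rfl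
theorem F255542 : act 0 n56960 = n55709 := d1_1 D56960 (iv D55709) (iv F249825)
theorem F255543 : act 9 n56960 = n55700 := d23_2 (iv F249826) D56960 (iv D55700)
def n56961 : Q := act 3 n55696
theorem D56961 : act 3 n55696 = n56961 := rfl
theorem F255544 : act 0 n56961 = n55715 := d2_1 D56961 (iv D55715) (iv F249827)
theorem F255545 : act 6 n56961 = n55697 := d26_2 (iv F249829) D56961 (iv D55697)
theorem F255546 : act 8 n56961 = n55794 := d28_2 D55696 D56961 (iv D55794) (iv D54303) (iv F242790)
def n56962 : Q := act 2 n55697
theorem D56962 : act 2 n55697 = n56962 := rfl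
theorem F255547 : act 0 n56962 = n55720 := d1_1 D56962 (iv D55720) (iv F249830)
theorem F255548 : act 7 n56962 = n55700 := d21_2 (iv F249831) D56962 (iv D55700)
theorem F255549 : act 8 n56962 = n55797 := d22_2 (iv F249832) D56962 (iv D55797)
def n56963 : Q := act 2 n55698
theorem D56963 : act 2 n55698 = n56963 := rfl
theorem F255550 : act 0 n56963 = n55731 := d1_1 D56963 (iv D55731) (iv F249833)
theorem F255551 : act 3 n56963 = n55700 := d17_2 D55698 D56963 (iv D55700) (iv D54187) (iv F242799)
def n56964 : Q := act 4 n55698
theorem D56964 : act 4 n55698 = n56964 := rfl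
theorem F255552 : act 0 n56964 = n55732 := d3_1 D56964 (iv D55732) (iv F249833)
theorem F255553 : act 3 n56964 = n55699 := d24_1 D56964 (iv D55699) (iv D54186) (iv F242800) D55698
def n56965 : Q := act 5 n55699
theorem D56965 : act 5 n55699 = n56965 := rfl
theorem F255554 : act 0 n56965 = n55733 := d4_1 D56965 (iv D55733) (iv F249834)
theorem F255555 : act 4 n56965 = n55701 := d30_1 D56965 (iv D55701) (iv D54188) (iv F242802) D55699
theorem F255556 : act 8 n56965 = n55702 := d37_2 (iv F249835) D56965 (iv D55702)
def n56966 : Q := act 1 n55700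
theorem D56966 : act 1 n55700 = n56966 := rfl
theorem F255557 : act 8 n56966 = n55804 := d15_2 (iv F249837) D56966 (iv D55804)
def n56967 : Q := act 3 n55703
theorem D56967 : act 3 n55703 = n56967 := rfl
theorem F255558 : act 1 n56967 = n55707 := d10_1 D56967 (iv D55707) (iv F249843)
theorem F255559 : act 9 n56967 = n55725 := d29_2 (iv F249845) D56967 (iv D55725)
def n56968 : Q := act 4 n55704
theorem D56968 : act 4 n55704 = n56968 := rfl
theorem F255560 : act 1 n56968 = n55708 := d11_1 D56968 (iv D55708) (iv F249846)
theorem F255561 : act 8 n56968 = n56968 := d33_2 F249848 D56968 (iv D56968)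
theorem F255562 : act 9 n56968 = n55726 := d34_2 (iv F249849) D56968 (iv D55726)
def n56969 : Q := act 8 n55705
theorem D56969 : act 8 n55705 = n56969 := rfl
theorem F255563 : act 4 n56969 = n56969 := d33_1 D56969 (iv D56969) F249851
theorem F255564 : act 9 n56969 = n55706 := d44_2 D55705 D56969 (iv D55706) (iv D54194) D54193
def n56970 : Q := act 3 n55706
theorem D56970 : act 3 n55706 = n56970 := rfl
theorem F255565 : act 8 n56970 = n55707 := d28_2 D55706 D56970 (iv D55707) (iv D54195) (iv F242821)
def n56971 : Q := act 2 n55707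
theorem D56971 : act 2 n55707 = n56971 := rfl
theorem F255566 : act 3 n56971 = n55709 := d17_2 D55707 D56971 (iv D55709) (iv D54197) (iv F242823)
theorem F255567 : act 9 n56971 = n55731 := d23_2 (iv F249853) D56971 (iv D55731)
def n56972 : Q := act 4 n55707
theorem D56972 : act 4 n55707 = n56972 := rfl
theorem F255568 : act 3 n56972 = n55708 := d24_1 D56972 (iv D55708) (iv D54196) (iv F242824) D55707
theorem F255569 : act 9 n56972 = n55732 := d34_2 (iv F249853) D56972 (iv D55732)
def n56973 : Q := act 5 n55708
theorem D56973 : act 5 n55708 = n56973 := rfl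
theorem F255570 : act 4 n56973 = n55711 := d30_1 D56973 (iv D55711) (iv D54199) (iv F242826) D55708
theorem F255571 : act 8 n56973 = n56973 := d37_2 F249854 D56973 (iv D56973)
theorem F255572 : act 9 n56973 = n55733 := d38_2 (iv F249855) D56973 (iv D55733)
def n56974 : Q := act 1 n55709
theorem D56974 : act 1 n55709 = n56974 := rfl
theorem F255573 : act 9 n56974 = n55737 := d16_2 (iv F249856) D56974 (iv D55737)
def n56975 : Q := act 5 n55710
theorem D56975 : act 5 n55710 = n56975 := rfl
theorem F255574 : act 1 n56975 = n55711 := d12_1 D56975 (iv D55711) (iv F249857)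
theorem F255575 : act 8 n56975 = n56975 := d37_2 F249859 D56975 (iv D56975)
theorem F255576 : act 9 n56975 = n55738 := d38_2 (iv F249860) D56975 (iv D55738)
def n56976 : Q := act 3 n55712
theorem D56976 : act 3 n55712 = n56976 := rfl
theorem F255577 : act 6 n56976 = n55718 := d26_2 (iv F249865) D56976 (iv D55718)
def n56977 : Q := act 4 n55713
theorem D56977 : act 4 n55713 = n56977 := rfl
theorem F255578 : act 2 n56977 = n55726 := d18_1 D56977 (iv D55726) (iv F249866)
theorem F255579 : act 6 n56977 = n55719 := d31_2 (iv F249868) D56977 (iv D55719)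
theorem F255580 : act 8 n56977 = n55740 := d33_2 (iv F249869) D56977 (iv D55740)
def n56978 : Q := act 3 n55714
theorem D56978 : act 3 n55714 = n56978 := rfl
theorem F255581 : act 5 n56978 = n55715 := d25_2 (iv F249870) D56978 (iv D55715)
theorem F255582 : act 8 n56978 = n55853 := d28_2 D55714 D56978 (iv D55853) (iv D54374) (iv F242845)
def n56979 : Q := act 2 n55715
theorem D56979 : act 2 n55715 = n56979 := rfl
theorem F255583 : act 6 n56979 = n55720 := d20_2 (iv F249871) D56979 (iv D55720)
theorem F255584 : act 8 n56979 = n55854 := d22_2 (iv F249872) D56979 (iv D55854)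
def n56980 : Q := act 3 n55716
theorem D56980 : act 3 n55716 = n56980 := rfl
theorem F255585 : act 1 n56980 = n55718 := d10_1 D56980 (iv D55718) (iv F249873)
theorem F255586 : act 7 n56980 = n55725 := d27_2 (iv F249875) D56980 (iv D55725)
def n56981 : Q := act 4 n55717
theorem D56981 : act 4 n55717 = n56981 := rfl
theorem F255587 : act 1 n56981 = n55719 := d11_1 D56981 (iv D55719) (iv F249876)
theorem F255588 : act 7 n56981 = n55726 := d32_2 (iv F249878) D56981 (iv D55726)
theorem F255589 : act 8 n56981 = n55741 := d33_2 (iv F249879) D56981 (iv D55741)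
def n56982 : Q := act 2 n55718
theorem D56982 : act 2 n55718 = n56982 := rfl
theorem F255590 : act 3 n56982 = n55720 := d17_2 D55718 D56982 (iv D55720) (iv D54209) (iv F242855)
theorem F255591 : act 7 n56982 = n55731 := d21_2 (iv F249880) D56982 (iv D55731)
def n56983 : Q := act 4 n55718
theorem D56983 : act 4 n55718 = n56983 := rfl
theorem F255592 : act 3 n56983 = n55719 := d24_1 D56983 (iv D55719) (iv D54208) (iv F242856) D55718
theorem F255593 : act 7 n56983 = n55732 := d32_2 (iv F249880) D56983 (iv D55732)
def n56984 : Q := act 1 n55720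
theorem D56984 : act 1 n55720 = n56984 := rfl
theorem F255594 : act 7 n56984 = n55737 := d14_2 (iv F249883) D56984 (iv D55737)
theorem F255595 : act 8 n56984 = n55865 := d15_2 (iv F249884) D56984 (iv D55865)
def n56985 : Q := act 3 n55721
theorem D56985 : act 3 n55721 = n56985 := rfl
theorem F255596 : act 0 n56985 = n55725 := d2_1 D56985 (iv D55725) (iv F249885)
def n56986 : Q := act 4 n55722
theorem D56986 : act 4 n55722 = n56986 := rfl
theorem F255597 : act 0 n56986 = n55726 := d3_1 D56986 (iv D55726) (iv F249887)
theorem F255598 : act 8 n56986 = n55742 := d33_2 (iv F249889) D56986 (iv D55742)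
def n56987 : Q := act 3 n55723
theorem D56987 : act 3 n55723 = n56987 := rfl
theorem F255599 : act 1 n56987 = n55728 := d10_1 D56987 (iv D55728) (iv F249890)
theorem F255600 : act 8 n56987 = n55725 := d28_2 D55723 D56987 (iv D55725) (iv D54214) (iv F242868)
def n56988 : Q := act 3 n55724
theorem D56988 : act 3 n55724 = n56988 := rfl
theorem F255601 : act 1 n56988 = n55730 := d10_1 D56988 (iv D55730) (iv F249892)
theorem F255602 : act 5 n56988 = n55725 := d25_2 (iv F249894) D56988 (iv D55725)
def n56989 : Q := act 2 n55725
theorem D56989 : act 2 n55725 = n56989 := rfl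
def n56990 : Q := act 4 n55725
theorem D56990 : act 4 n55725 = n56990 := rfl
theorem F255603 : act 1 n56990 = n55732 := d11_1 D56990 (iv D55732) (iv F249895)
theorem F255604 : act 3 n56990 = n55726 := d24_1 D56990 (iv D55726) (iv D54215) (iv F242874) D55725
def n56991 : Q := act 5 n55726
theorem D56991 : act 5 n55726 = n56991 := rfl
theorem F255605 : act 1 n56991 = n55733 := d12_1 D56991 (iv D55733) (iv F249896)
theorem F255606 : act 4 n56991 = n55738 := d30_1 D56991 (iv D55738) (iv D54230) (iv F242876) D55726
theorem F255607 : act 8 n56991 = n55745 := d37_2 (iv F249897) D56991 (iv D55745)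
def n56992 : Q := act 3 n55727
theorem D56992 : act 3 n55727 = n56992 := rfl
theorem F255608 : act 9 n56992 = n55728 := d29_2 (iv F249900) D56992 (iv D55728)
def n56993 : Q := act 2 n55728
theorem D56993 : act 2 n55728 = n56993 := rfl
theorem F255609 : act 3 n56993 = n55877 := d17_2 D55728 D56993 (iv D55877) (iv D54398) (iv F242880)
theorem F255610 : act 8 n56993 = n55731 := d22_2 (iv F249901) D56993 (iv D55731)
def n56994 : Q := act 4 n55728
theorem D56994 : act 4 n55728 = n56994 := rfl
theorem F255611 : act 3 n56994 = n55747 := d24_1 D56994 (iv D55747) (iv D54243) (iv F242881) D55728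
theorem F255612 : act 8 n56994 = n55732 := d33_2 (iv F249901) D56994 (iv D55732)
def n56995 : Q := act 3 n55729
theorem D56995 : act 3 n55729 = n56995 := rfl
theorem F255613 : act 6 n56995 = n55730 := d26_2 (iv F249904) D56995 (iv D55730)
def n56996 : Q := act 2 n55730
theorem D56996 : act 2 n55730 = n56996 := rfl
theorem F255614 : act 3 n56996 = n55736 := d17_2 D55730 D56996 (iv D55736) (iv D54224) (iv F242885)
theorem F255615 : act 5 n56996 = n55731 := d19_2 (iv F249905) D56996 (iv D55731)
def n56997 : Q := act 4 n55730
theorem D56997 : act 4 n55730 = n56997 := rfl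
theorem F255616 : act 3 n56997 = n55734 := d24_1 D56997 F249910 (iv D54232) (iv F242886) D55730
theorem F255617 : act 7 n56997 = n55735 := d32_2 F250589 D56997 (iv F250586)
theorem F255618 : act 8 n56997 = n55885 := d33_2 F251447 D56997 (iv F251444)
def n56998 : Q := act 1 n55731
theorem D56998 : act 1 n55731 = n56998 := rfl
theorem F255619 : act 3 n56998 = n55737 := d10_2 (iv F249906) D56998 (iv D55737)
def n56999 : Q := act 4 n55731
theorem D56999 : act 4 n55731 = n56999 := rfl
theorem F255620 : act 2 n56999 = n55732 := d18_1 D56999 (iv D55732) D55731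
def n57000 : Q := act 5 n55732
theorem D57000 : act 5 n55732 = n57000 := rfl
theorem F255621 : act 3 n57000 = n55733 := d25_1 D57000 (iv D55733) (iv F249907)
def n57001 : Q := act 6 n55733
theorem D57001 : act 6 n55733 = n57001 := rfl
theorem F255622 : act 4 n57001 = n55739 := d31_1 D57001 (iv D55739) (iv F249908)
theorem F255623 : act 8 n57001 = n55748 := d40_2 (iv F249909) D57001 (iv D55748)
def n57002 : Q := act 2 n55735
theorem D57002 : act 2 n55735 = n57002 := rfl
theorem F255624 : act 6 n57002 = n55736 := d20_2 (iv F249912) D57002 (iv D55736)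
theorem F255625 : act 8 n57002 = n55886 := d22_2 (iv F249913) D57002 (iv D55886)
def n57003 : Q := act 1 n55736
theorem D57003 : act 1 n55736 = n57003 := rfl
theorem F255626 : act 5 n57003 = n55737 := d12_2 (iv F249914) D57003 (iv D55737)
theorem F255627 : act 8 n57003 = n55887 := d15_2 (iv F249915) D57003 (iv D55887)
def n57004 : Q := act 0 n55737
theorem D57004 : act 0 n55737 = n57004 := rfl
theorem F255628 : act 8 n57004 = n55888 := d7_2 (iv F249916) D57004 (iv D55888)
def n57005 : Q := act 4 n55743
theorem D57005 : act 4 n55743 = n57005 := rfl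
theorem F255629 : act 1 n57005 = n55747 := d11_1 D57005 (iv D55747) (iv F249929)
theorem F255630 : act 8 n57005 = n55744 := d33_2 (iv F249931) D57005 (iv D55744)
def n57006 : Q := act 4 n55746
theorem D57006 : act 4 n55746 = n57006 := rfl
theorem F255631 : act 8 n57006 = n57006 := d33_2 F249939 D57006 (iv D57006)
theorem F255632 : act 9 n57006 = n55747 := d34_2 (iv F249940) D57006 (iv D55747)
def n57007 : Q := act 8 n55749
theorem D57007 : act 8 n55749 = n57007 := rfl
theorem F255633 : act 0 n57007 = n55761 := d7_1 D57007 (iv D55761) (iv F249944)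
theorem F255634 : act 4 n57007 = n57007 := d33_1 D57007 (iv D57007) F249945
theorem F255635 : act 5 n57007 = n55750 := d37_1 D57007 (iv D55750) (iv F249946)
def n57008 : Q := act 3 n55750
theorem D57008 : act 3 n55750 = n57008 := rfl
theorem F255636 : act 0 n57008 = n55762 := d2_1 D57008 (iv D55762) (iv F249947)
theorem F255637 : act 4 n57008 = n55794 := d24_2 (iv F249948) D57008 (iv D55794) F243118 (iv F242959)
theorem F255638 : act 6 n57008 = n55751 := d26_2 (iv F249949) D57008 (iv D55751)
def n57009 : Q := act 2 n55751
theorem D57009 : act 2 n55751 = n57009 := rfl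
theorem F255639 : act 0 n57009 = n55771 := d1_1 D57009 (iv D55771) (iv F249950)
theorem F255640 : act 4 n57009 = n55797 := d18_2 (iv F249951) D57009 (iv D55797)
theorem F255641 : act 7 n57009 = n55752 := d21_2 (iv F249952) D57009 (iv D55752)
def n57010 : Q := act 1 n55752
theorem D57010 : act 1 n55752 = n57010 := rfl
theorem F255642 : act 4 n57010 = n55804 := d11_2 (iv F249954) D57010 (iv D55804)
def n57011 : Q := act 2 n55753
theorem D57011 : act 2 n55753 = n57011 := rfl
theorem F255643 : act 4 n57011 = n55814 := d18_2 (iv F249955) D57011 (iv D55814)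
theorem F255644 : act 8 n57011 = n55757 := d22_2 (iv F249956) D57011 (iv D55757)
def n57012 : Q := act 3 n55754
theorem D57012 : act 3 n55754 = n57012 := rfl
theorem F255645 : act 4 n57012 = n55818 := d24_2 (iv F249957) D57012 (iv D55818) F243195 (iv F242970)
theorem F255646 : act 6 n57012 = n55755 := d26_2 (iv F249958) D57012 (iv D55755)
theorem F255647 : act 9 n57012 = n55762 := d29_2 (iv F249959) D57012 (iv D55762)
def n57013 : Q := act 2 n55755
theorem D57013 : act 2 n55755 = n57013 := rfl
theorem F255648 : act 4 n57013 = n55822 := d18_2 (iv F249960) D57013 (iv D55822)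
theorem F255649 : act 7 n57013 = n55757 := d21_2 (iv F249961) D57013 (iv D55757)
theorem F255650 : act 9 n57013 = n55771 := d23_2 (iv F249962) D57013 (iv D55771)
def n57014 : Q := act 2 n55756
theorem D57014 : act 2 n55756 = n57014 := rfl
theorem F255651 : act 5 n57014 = n55757 := d19_2 (iv F249964) D57014 (iv D55757)
theorem F255652 : act 9 n57014 = n55780 := d23_2 (iv F249965) D57014 (iv D55780)
def n57015 : Q := act 1 n55757
theorem D57015 : act 1 n55757 = n57015 := rfl
theorem F255653 : act 4 n57015 = n55842 := d11_2 (iv F249966) D57015 (iv D55842)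
theorem F255654 : act 9 n57015 = n55781 := d16_2 (iv F249967) D57015 (iv D55781)
def n57016 : Q := act 8 n55758
theorem D57016 : act 8 n55758 = n57016 := rfl
theorem F255655 : act 2 n57016 = n55761 := d22_1 D57016 (iv D55761) (iv F249968)
theorem F255656 : act 4 n57016 = n57016 := d33_1 D57016 (iv D57016) F249969
theorem F255657 : act 5 n57016 = n55759 := d37_1 D57016 (iv D55759) (iv F249970)
def n57017 : Q := act 3 n55759
theorem D57017 : act 3 n55759 = n57017 := rfl
theorem F255658 : act 6 n57017 = n55768 := d26_2 (iv F249973) D57017 (iv D55768)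
def n57018 : Q := act 8 n55760
theorem D57018 : act 8 n55760 = n57018 := rfl
theorem F255659 : act 1 n57018 = n55793 := d15_1 D57018 (iv D55793) (iv F249974)
theorem F255660 : act 4 n57018 = n57018 := d33_1 D57018 (iv D57018) F249975
theorem F255661 : act 5 n57018 = n55769 := d37_1 D57018 (iv D55769) (iv F249976)
theorem F255662 : act 6 n57018 = n55761 := d40_1 D57018 (iv D55761) (iv F249977)
theorem F255663 : act 9 n57018 = n55776 := d44_2 D55760 D57018 (iv D55776) (iv D54279) (iv F242994)
def n57019 : Q := act 3 n55761
theorem D57019 : act 3 n55761 = n57019 := rfl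
theorem F255664 : act 5 n57019 = n55762 := d25_2 (iv F249979) D57019 (iv D55762)
def n57020 : Q := act 2 n55762
theorem D57020 : act 2 n55762 = n57020 := rfl
theorem F255665 : act 4 n57020 = n55854 := d18_2 (iv F249980) D57020 (iv D55854)
theorem F255666 : act 6 n57020 = n55771 := d20_2 (iv F249981) D57020 (iv D55771)
def n57021 : Q := act 8 n55763
theorem D57021 : act 8 n55763 = n57021 := rfl
theorem F255667 : act 1 n57021 = n55767 := d15_1 D57021 (iv D55767) (iv F249982)
theorem F255668 : act 2 n57021 = n55795 := d22_1 D57021 (iv D55795) (iv F249983)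
theorem F255669 : act 4 n57021 = n55782 := d33_1 D57021 (iv D55782) (iv F249984)
theorem F255670 : act 5 n57021 = n55764 := d37_1 D57021 (iv D55764) (iv F249985)
theorem F255671 : act 7 n57021 = n55774 := d42_1 D57021 (iv D55774) (iv F249986)
def n57022 : Q := act 3 n55764
theorem D57022 : act 3 n55764 = n57022 := rfl
theorem F255672 : act 1 n57022 = n55768 := d10_1 D57022 (iv D55768) (iv F249987)
theorem F255673 : act 7 n57022 = n55775 := d27_2 (iv F249989) D57022 (iv D55775)
def n57023 : Q := act 8 n55765
theorem D57023 : act 8 n55765 = n57023 := rfl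
theorem F255674 : act 4 n57023 = n57023 := d33_1 D57023 (iv D57023) F249991
theorem F255675 : act 5 n57023 = n55766 := d37_1 D57023 (iv D55766) (iv F249992)
theorem F255676 : act 7 n57023 = n55776 := d42_1 D57023 (iv D55776) (iv F249993)
def n57024 : Q := act 3 n55766
theorem D57024 : act 3 n55766 = n57024 := rfl
theorem F255677 : act 7 n57024 = n55777 := d27_2 (iv F249995) D57024 (iv D55777)
theorem F255678 : act 8 n57024 = n55768 := d28_2 D55766 D57024 (iv D55768) (iv D54271) (iv F243012)
def n57025 : Q := act 3 n55767
theorem D57025 : act 3 n55767 = n57025 := rfl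
theorem F255679 : act 5 n57025 = n55768 := d25_2 (iv F249998) D57025 (iv D55768)
theorem F255680 : act 7 n57025 = n55778 := d27_2 (iv F249999) D57025 (iv D55778)
def n57026 : Q := act 2 n55768
theorem D57026 : act 2 n55768 = n57026 := rfl
theorem F255681 : act 3 n57026 = n55771 := d17_2 D55768 D57026 (iv D55771) (iv D54274) (iv F243019)
theorem F255682 : act 7 n57026 = n55779 := d21_2 (iv F250000) D57026 (iv D55779)
def n57027 : Q := act 3 n55769
theorem D57027 : act 3 n55769 = n57027 := rfl
theorem F255683 : act 1 n57027 = n55794 := d10_1 D57027 (iv D55794) (iv F250001)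
theorem F255684 : act 6 n57027 = n55770 := d26_2 (iv F250003) D57027 (iv D55770)
theorem F255685 : act 9 n57027 = n55777 := d29_2 (iv F250004) D57027 (iv D55777)
def n57028 : Q := act 2 n55770
theorem D57028 : act 2 n55770 = n57028 := rfl
theorem F255686 : act 5 n57028 = n55771 := d19_2 (iv F250006) D57028 (iv D55771)
theorem F255687 : act 7 n57028 = n55780 := d21_2 (iv F250007) D57028 (iv D55780)
def n57029 : Q := act 1 n55771
theorem D57029 : act 1 n55771 = n57029 := rfl
theorem F255688 : act 4 n57029 = n55865 := d11_2 (iv F250008) D57029 (iv D55865)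
theorem F255689 : act 7 n57029 = n55781 := d14_2 (iv F250009) D57029 (iv D55781)
def n57030 : Q := act 8 n55772
theorem D57030 : act 8 n55772 = n57030 := rfl
theorem F255690 : act 0 n57030 = n55817 := d7_1 D57030 (iv D55817) (iv F250010)
theorem F255691 : act 1 n57030 = n55776 := d15_1 D57030 (iv D55776) (iv F250011)
theorem F255692 : act 4 n57030 = n57030 := d33_1 D57030 (iv D57030) F250013
theorem F255693 : act 5 n57030 = n55773 := d37_1 D57030 (iv D55773) (iv F250014)
theorem F255694 : act 9 n57030 = n55793 := d44_2 D55772 D57030 (iv D55793) (iv D54302) (iv F243035)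
def n57031 : Q := act 3 n55773
theorem D57031 : act 3 n55773 = n57031 := rfl
theorem F255695 : act 0 n57031 = n55818 := d2_1 D57031 (iv D55818) (iv F250015)
theorem F255696 : act 1 n57031 = n55777 := d10_1 D57031 (iv D55777) (iv F250016)
theorem F255697 : act 6 n57031 = n55790 := d26_2 (iv F250018) D57031 (iv D55790)
theorem F255698 : act 8 n57031 = n55775 := d28_2 D55773 D57031 (iv D55775) (iv D54278) (iv F243038)
theorem F255699 : act 9 n57031 = n55794 := d29_2 (iv F250019) D57031 (iv D55794)
def n57032 : Q := act 3 n55774
theorem D57032 : act 3 n55774 = n57032 := rfl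
theorem F255700 : act 1 n57032 = n55778 := d10_1 D57032 (iv D55778) (iv F250020)
theorem F255701 : act 5 n57032 = n55775 := d25_2 (iv F250023) D57032 (iv D55775)
def n57033 : Q := act 2 n55775
theorem D57033 : act 2 n55775 = n57033 := rfl
def n57034 : Q := act 3 n55776
theorem D57034 : act 3 n55776 = n57034 := rfl
theorem F255702 : act 5 n57034 = n55777 := d25_2 (iv F250026) D57034 (iv D55777)
theorem F255703 : act 8 n57034 = n55778 := d28_2 D55776 D57034 (iv D55778) (iv D54281) (iv F243047)
def n57035 : Q := act 2 n55777
theorem D57035 : act 2 n55777 = n57035 := rfl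
theorem F255704 : act 8 n57035 = n55779 := d22_2 (iv F250027) D57035 (iv D55779)
def n57036 : Q := act 2 n55778
theorem D57036 : act 2 n55778 = n57036 := rfl
theorem F255705 : act 3 n57036 = n55780 := d17_2 D55778 D57036 (iv D55780) (iv D54283) (iv F243051)
theorem F255706 : act 5 n57036 = n55779 := d19_2 (iv F250028) D57036 (iv D55779)
def n57037 : Q := act 4 n55778
theorem D57037 : act 4 n55778 = n57037 := rfl
theorem F255707 : act 3 n57037 = n55786 := d24_1 D57037 (iv D55786) (iv D54292) (iv F243052) D55778
def n57038 : Q := act 1 n55779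
theorem D57038 : act 1 n55779 = n57038 := rfl
theorem F255708 : act 3 n57038 = n55781 := d10_2 (iv F250029) D57038 (iv D55781)
def n57039 : Q := act 1 n55780
theorem D57039 : act 1 n55780 = n57039 := rfl
theorem F255709 : act 2 n57039 = n55804 := d9_2 D55780 D57039 (iv D55804) (iv D54315) (iv F243054)
theorem F255710 : act 5 n57039 = n55781 := d12_2 (iv F250030) D57039 (iv D55781)
def n57040 : Q := act 0 n55781
theorem D57040 : act 0 n55781 = n57040 := rfl
theorem F255711 : act 4 n57040 = n55888 := d3_2 (iv F250031) D57040 (iv D55888)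
def n57041 : Q := act 3 n55782
theorem D57041 : act 3 n55782 = n57041 := rfl
theorem F255712 : act 1 n57041 = n55784 := d10_1 D57041 (iv D55784) (iv F250032)
theorem F255713 : act 5 n57041 = n55783 := d25_2 (iv F250034) D57041 (iv D55783)
theorem F255714 : act 7 n57041 = n55785 := d27_2 (iv F250035) D57041 (iv D55785)
theorem F255715 : act 8 n57041 = n57041 := d28_2 D55782 D57041 (iv D57041) (iv D55782) F243059
def n57042 : Q := act 4 n55784
theorem D57042 : act 4 n55784 = n57042 := rfl
theorem F255716 : act 7 n57042 = n55786 := d32_2 (iv F250041) D57042 (iv D55786)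
theorem F255717 : act 8 n57042 = n57042 := d33_2 F250042 D57042 (iv D57042)
def n57043 : Q := act 4 n55785
theorem D57043 : act 4 n55785 = n57043 := rfl
theorem F255718 : act 1 n57043 = n55786 := d11_1 D57043 (iv D55786) (iv F250043)
theorem F255719 : act 8 n57043 = n57043 := d33_2 F250045 D57043 (iv D57043)
def n57044 : Q := act 3 n55787
theorem D57044 : act 3 n55787 = n57044 := rfl
theorem F255720 : act 0 n57044 = n55812 := d2_1 D57044 (iv D55812) (iv F250047)
def n57045 : Q := act 4 n55788
theorem D57045 : act 4 n55788 = n57045 := rfl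
theorem F255721 : act 0 n57045 = n55813 := d3_1 D57045 (iv D55813) (iv F250050)
theorem F255722 : act 8 n57045 = n55902 := d33_2 (iv F250052) D57045 (iv D55902)
def n57046 : Q := act 2 n55789
theorem D57046 : act 2 n55789 = n57046 := rfl
theorem F255723 : act 0 n57046 = n55814 := d1_1 D57046 (iv D55814) (iv F250053)
theorem F255724 : act 8 n57046 = n55791 := d22_2 (iv F250054) D57046 (iv D55791)
def n57047 : Q := act 2 n55790
theorem D57047 : act 2 n55790 = n57047 := rfl
theorem F255725 : act 0 n57047 = n55822 := d1_1 D57047 (iv D55822) (iv F250055)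
theorem F255726 : act 7 n57047 = n55791 := d21_2 (iv F250056) D57047 (iv D55791)
theorem F255727 : act 9 n57047 = n55797 := d23_2 (iv F250057) D57047 (iv D55797)
def n57048 : Q := act 1 n55791
theorem D57048 : act 1 n55791 = n57048 := rfl
theorem F255728 : act 9 n57048 = n55804 := d16_2 (iv F250059) D57048 (iv D55804)
def n57049 : Q := act 3 n55792
theorem D57049 : act 3 n55792 = n57049 := rfl
theorem F255729 : act 0 n57049 = n55851 := d2_1 D57049 (iv D55851) (iv F250060)
theorem F255730 : act 6 n57049 = n55796 := d26_2 (iv F250063) D57049 (iv D55796)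
def n57050 : Q := act 3 n55793
theorem D57050 : act 3 n55793 = n57050 := rfl
theorem F255731 : act 0 n57050 = n55853 := d2_1 D57050 (iv D55853) (iv F250064)
theorem F255732 : act 5 n57050 = n55794 := d25_2 (iv F250066) D57050 (iv D55794)
def n57051 : Q := act 2 n55794
theorem D57051 : act 2 n55794 = n57051 := rfl
theorem F255733 : act 0 n57051 = n55854 := d1_1 D57051 (iv D55854) (iv F250067)
theorem F255734 : act 6 n57051 = n55797 := d20_2 (iv F250068) D57051 (iv D55797)
def n57052 : Q := act 3 n55795
theorem D57052 : act 3 n55795 = n57052 := rfl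
theorem F255735 : act 1 n57052 = n55796 := d10_1 D57052 (iv D55796) (iv F250069)
theorem F255736 : act 7 n57052 = n55800 := d27_2 (iv F250071) D57052 (iv D55800)
def n57053 : Q := act 2 n55796
theorem D57053 : act 2 n55796 = n57053 := rfl
theorem F255737 : act 0 n57053 = n55859 := d1_1 D57053 (iv D55859) (iv F250072)
theorem F255738 : act 3 n57053 = n55797 := d17_2 D55796 D57053 (iv D55797) (iv D54307) (iv F243127)
theorem F255739 : act 7 n57053 = n55803 := d21_2 (iv F250073) D57053 (iv D55803)
def n57054 : Q := act 1 n55797
theorem D57054 : act 1 n55797 = n57054 := rfl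
theorem F255740 : act 7 n57054 = n55804 := d14_2 (iv F250075) D57054 (iv D55804)
def n57055 : Q := act 3 n55798
theorem D57055 : act 3 n55798 = n57055 := rfl
theorem F255741 : act 0 n57055 = n55800 := d2_1 D57055 (iv D55800) (iv F250076)
theorem F255742 : act 1 n57055 = n55867 := d10_1 D57055 (iv D55867) (iv F250077)
def n57056 : Q := act 3 n55799
theorem D57056 : act 3 n55799 = n57056 := rfl
theorem F255743 : act 1 n57056 = n55802 := d10_1 D57056 (iv D55802) (iv F250079)
theorem F255744 : act 8 n57056 = n55800 := d28_2 D55799 D57056 (iv D55800) (iv D54311) (iv F243139)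
def n57057 : Q := act 2 n55800
theorem D57057 : act 2 n55800 = n57057 := rfl
def n57058 : Q := act 3 n55801
theorem D57058 : act 3 n55801 = n57058 := rfl
theorem F255745 : act 0 n57058 = n55876 := d2_1 D57058 (iv D55876) (iv F250082)
theorem F255746 : act 9 n57058 = n55802 := d29_2 (iv F250084) D57058 (iv D55802)
def n57059 : Q := act 2 n55802
theorem D57059 : act 2 n55802 = n57059 := rfl
theorem F255747 : act 0 n57059 = n55877 := d1_1 D57059 (iv D55877) (iv F250085)
theorem F255748 : act 8 n57059 = n55803 := d22_2 (iv F250086) D57059 (iv D55803)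
def n57060 : Q := act 1 n55803
theorem D57060 : act 1 n55803 = n57060 := rfl
theorem F255749 : act 3 n57060 = n55804 := d10_2 (iv F250088) D57060 (iv D55804)
def n57061 : Q := act 0 n55804
theorem D57061 : act 0 n55804 = n57061 := rfl
theorem F255750 : act 1 n57061 = n55888 := d0_2 D55804 D57061 (iv D55888) (iv D54408) (iv F243148)
def n57062 : Q := act 8 n55805
theorem D57062 : act 8 n55805 = n57062 := rfl
theorem F255751 : act 0 n57062 = n55808 := d7_1 D57062 (iv D55808) (iv F250089)
theorem F255752 : act 1 n57062 = n55878 := d15_1 D57062 (iv D55878) (iv F250090)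
theorem F255753 : act 4 n57062 = n55806 := d33_1 D57062 (iv D55806) (iv F250091)
theorem F255754 : act 7 n57062 = n55869 := d42_1 D57062 (iv D55869) (iv F250092)
def n57063 : Q := act 3 n55806
theorem D57063 : act 3 n55806 = n57063 := rfl
theorem F255755 : act 0 n57063 = n55809 := d2_1 D57063 (iv D55809) (iv F250093)
theorem F255756 : act 1 n57063 = n55898 := d10_1 D57063 (iv D55898) (iv F250094)
theorem F255757 : act 5 n57063 = n55901 := d25_2 (iv F250095) D57063 (iv D55901)
theorem F255758 : act 7 n57063 = n55895 := d27_2 (iv F250096) D57063 (iv D55895)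
theorem F255759 : act 8 n57063 = n55906 := d28_2 D55806 D57063 (iv D55906) (iv D54434) (iv F243164)
def n57064 : Q := act 8 n55807
theorem D57064 : act 8 n55807 = n57064 := rfl
theorem F255760 : act 1 n57064 = n55811 := d15_1 D57064 (iv D55811) (iv F250097)
theorem F255761 : act 4 n57064 = n55907 := d33_1 D57064 (iv D55907) (iv F250099)
def n57065 : Q := act 3 n55808
theorem D57065 : act 3 n55808 = n57065 := rfl
theorem F255762 : act 1 n57065 = n55812 := d10_1 D57065 (iv D55812) (iv F250100)
def n57066 : Q := act 2 n55809
theorem D57066 : act 2 n55809 = n57066 := rfl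
theorem F255763 : act 5 n57066 = n55927 := d19_2 (iv F250103) D57066 (iv D55927)
theorem F255764 : act 8 n57066 = n55909 := d22_2 (iv F250104) D57066 (iv D55909)
def n57067 : Q := act 4 n55809
theorem D57067 : act 4 n55809 = n57067 := rfl
theorem F255765 : act 1 n57067 = n55813 := d11_1 D57067 (iv D55813) (iv F250102)
theorem F255766 : act 8 n57067 = n55910 := d33_2 (iv F250104) D57067 (iv D55910)
def n57068 : Q := act 8 n55810
theorem D57068 : act 8 n55810 = n57068 := rfl
theorem F255767 : act 2 n57068 = n55833 := d22_1 D57068 (iv D55833) (iv F250105)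
theorem F255768 : act 4 n57068 = n55911 := d33_1 D57068 (iv D55911) (iv F250106)
theorem F255769 : act 9 n57068 = n55811 := d44_2 D55810 D57068 (iv D55811) (iv D54325) D54324
def n57069 : Q := act 3 n55811
theorem D57069 : act 3 n55811 = n57069 := rfl
theorem F255770 : act 8 n57069 = n55812 := d28_2 D55811 D57069 (iv D55812) (iv D54326) (iv F243176)
def n57070 : Q := act 2 n55812
theorem D57070 : act 2 n55812 = n57070 := rfl
theorem F255771 : act 3 n57070 = n55814 := d17_2 D55812 D57070 (iv D55814) (iv D54328) (iv F243178)
def n57071 : Q := act 4 n55812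
theorem D57071 : act 4 n55812 = n57071 := rfl
theorem F255772 : act 3 n57071 = n55813 := d24_1 D57071 (iv D55813) (iv D54327) (iv F243179) D55812
def n57072 : Q := act 1 n55814
theorem D57072 : act 1 n55814 = n57072 := rfl
theorem F255773 : act 8 n57072 = n55842 := d15_2 (iv F250110) D57072 (iv D55842)
def n57073 : Q := act 8 n55815
theorem D57073 : act 8 n55815 = n57073 := rfl
theorem F255774 : act 2 n57073 = n55817 := d22_1 D57073 (iv D55817) (iv F250111)
theorem F255775 : act 4 n57073 = n57073 := d33_1 D57073 (iv D57073) F250112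
theorem F255776 : act 5 n57073 = n55816 := d37_1 D57073 (iv D55816) (iv F250113)
theorem F255777 : act 9 n57073 = n55850 := d44_2 D55815 D57073 (iv D55850) (iv D54371) (iv F243185)
def n57074 : Q := act 3 n55816
theorem D57074 : act 3 n55816 = n57074 := rfl
theorem F255778 : act 6 n57074 = n55821 := d26_2 (iv F250116) D57074 (iv D55821)
theorem F255779 : act 9 n57074 = n55851 := d29_2 (iv F250117) D57074 (iv D55851)
def n57075 : Q := act 3 n55817
theorem D57075 : act 3 n55817 = n57075 := rfl
theorem F255780 : act 5 n57075 = n55818 := d25_2 (iv F250119) D57075 (iv D55818)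
theorem F255781 : act 9 n57075 = n55853 := d29_2 (iv F250120) D57075 (iv D55853)
def n57076 : Q := act 2 n55818
theorem D57076 : act 2 n55818 = n57076 := rfl
theorem F255782 : act 6 n57076 = n55822 := d20_2 (iv F250121) D57076 (iv D55822)
theorem F255783 : act 9 n57076 = n55854 := d23_2 (iv F250122) D57076 (iv D55854)
def n57077 : Q := act 3 n55819
theorem D57077 : act 3 n55819 = n57077 := rfl
theorem F255784 : act 1 n57077 = n55821 := d10_1 D57077 (iv D55821) (iv F250123)
theorem F255785 : act 4 n57077 = n55876 := d24_2 (iv F250124) D57077 (iv D55876) F243378 (iv F243202)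
theorem F255786 : act 7 n57077 = n55828 := d27_2 (iv F250125) D57077 (iv D55828)
theorem F255787 : act 9 n57077 = n55856 := d29_2 (iv F250126) D57077 (iv D55856)
def n57078 : Q := act 3 n55820
theorem D57078 : act 3 n55820 = n57078 := rfl
theorem F255788 : act 7 n57078 = n55834 := d27_2 (iv F250128) D57078 (iv D55834)
theorem F255789 : act 8 n57078 = n55821 := d28_2 D55820 D57078 (iv D55821) (iv D54337) (iv F243206)
def n57079 : Q := act 2 n55821
theorem D57079 : act 2 n55821 = n57079 := rfl
theorem F255790 : act 3 n57079 = n55822 := d17_2 D55821 D57079 (iv D55822) (iv D54338) (iv F243209)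
theorem F255791 : act 7 n57079 = n55838 := d21_2 (iv F250129) D57079 (iv D55838)
theorem F255792 : act 9 n57079 = n55859 := d23_2 (iv F250130) D57079 (iv D55859)
def n57080 : Q := act 1 n55822
theorem D57080 : act 1 n55822 = n57080 := rfl
theorem F255793 : act 7 n57080 = n55842 := d14_2 (iv F250131) D57080 (iv D55842)
theorem F255794 : act 9 n57080 = n55865 := d16_2 (iv F250132) D57080 (iv D55865)
def n57081 : Q := act 3 n55823
theorem D57081 : act 3 n55823 = n57081 := rfl
theorem F255795 : act 0 n57081 = n55828 := d2_1 D57081 (iv D55828) (iv F250133)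
theorem F255796 : act 9 n57081 = n55867 := d29_2 (iv F250135) D57081 (iv D55867)
def n57082 : Q := act 8 n55824
theorem D57082 : act 8 n55824 = n57082 := rfl
theorem F255797 : act 2 n57082 = n55826 := d22_1 D57082 (iv D55826) (iv F250136)
theorem F255798 : act 4 n57082 = n55914 := d33_1 D57082 (iv D55914) (iv F250137)
def n57083 : Q := act 8 n55825
theorem D57083 : act 8 n55825 = n57083 := rfl
theorem F255799 : act 1 n57083 = n55832 := d15_1 D57083 (iv D55832) (iv F250138)
theorem F255800 : act 4 n57083 = n57083 := d33_1 D57083 (iv D57083) F250140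
theorem F255801 : act 5 n57083 = n55826 := d37_1 D57083 (iv D55826) (iv F250141)
def n57084 : Q := act 3 n55826
theorem D57084 : act 3 n55826 = n57084 := rfl
theorem F255802 : act 1 n57084 = n55834 := d10_1 D57084 (iv D55834) (iv F250142)
theorem F255803 : act 8 n57084 = n55828 := d28_2 D55826 D57084 (iv D55828) (iv D54345) (iv F243225)
def n57085 : Q := act 3 n55827
theorem D57085 : act 3 n55827 = n57085 := rfl
theorem F255804 : act 1 n57085 = n55837 := d10_1 D57085 (iv D55837) (iv F250144)
theorem F255805 : act 5 n57085 = n55828 := d25_2 (iv F250146) D57085 (iv D55828)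
theorem F255806 : act 9 n57085 = n55870 := d29_2 (iv F250147) D57085 (iv D55870)
def n57086 : Q := act 2 n55828
theorem D57086 : act 2 n55828 = n57086 := rfl
theorem F255807 : act 9 n57086 = n55871 := d23_2 (iv F250149) D57086 (iv D55871)
def n57087 : Q := act 9 n55829
theorem D57087 : act 9 n55829 = n57087 := rfl
theorem F255808 : act 3 n57087 = n55872 := d29_1 D57087 (iv D55872) (iv F250150)
theorem F255809 : act 4 n57087 = n57087 := d34_1 D57087 (iv D57087) F250151
theorem F255810 : act 6 n57087 = n55831 := d41_1 D57087 (iv D55831) (iv F250152)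
def n57088 : Q := act 8 n55830
theorem D57088 : act 8 n55830 = n57088 := rfl
theorem F255811 : act 4 n57088 = n57088 := d33_1 D57088 (iv D57088) F250154
theorem F255812 : act 6 n57088 = n55832 := d40_1 D57088 (iv D55832) (iv F250155)
def n57089 : Q := act 8 n55831
theorem D57089 : act 8 n55831 = n57089 := rfl
theorem F255813 : act 4 n57089 = n57089 := d33_1 D57089 (iv D57089) F250157
theorem F255814 : act 5 n57089 = n55833 := d37_1 D57089 (iv D55833) (iv F250158)
theorem F255815 : act 9 n57089 = n55832 := d44_2 D55831 D57089 (iv D55832) (iv D54348) D54347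
def n57090 : Q := act 3 n55832
theorem D57090 : act 3 n55832 = n57090 := rfl
theorem F255816 : act 5 n57090 = n55834 := d25_2 (iv F250160) D57090 (iv D55834)
theorem F255817 : act 8 n57090 = n55837 := d28_2 D55832 D57090 (iv D55837) (iv D54353) (iv F243238)
def n57091 : Q := act 3 n55833
theorem D57091 : act 3 n55833 = n57091 := rfl
theorem F255818 : act 8 n57091 = n55876 := d28_2 D55833 D57091 (iv D55876) (iv D54397) (iv F243241)
theorem F255819 : act 9 n57091 = n55834 := d29_2 (iv F250162) D57091 (iv D55834)
def n57092 : Q := act 2 n55834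
theorem D57092 : act 2 n55834 = n57092 := rfl
theorem F255820 : act 8 n57092 = n55838 := d22_2 (iv F250163) D57092 (iv D55838)
def n57093 : Q := act 8 n55835
theorem D57093 : act 8 n55835 = n57093 := rfl
theorem F255821 : act 2 n57093 = n55839 := d22_1 D57093 (iv D55839) (iv F250164)
theorem F255822 : act 4 n57093 = n55846 := d33_1 D57093 (iv D55846) (iv F250165)
theorem F255823 : act 7 n57093 = n55836 := d42_1 D57093 (iv D55836) (iv F250166)
theorem F255824 : act 9 n57093 = n55878 := d44_2 D55835 D57093 (iv D55878) (iv D54399) (iv F243246)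
def n57094 : Q := act 3 n55836
theorem D57094 : act 3 n55836 = n57094 := rfl
theorem F255825 : act 6 n57094 = n55837 := d26_2 (iv F250169) D57094 (iv D55837)
theorem F255826 : act 9 n57094 = n55879 := d29_2 (iv F250170) D57094 (iv D55879)
def n57095 : Q := act 2 n55837
theorem D57095 : act 2 n55837 = n57095 := rfl
theorem F255827 : act 3 n57095 = n55841 := d17_2 D55837 D57095 (iv D55841) (iv D54357) (iv F243250)
theorem F255828 : act 5 n57095 = n55838 := d19_2 (iv F250171) D57095 (iv D55838)
theorem F255829 : act 9 n57095 = n55880 := d23_2 (iv F250172) D57095 (iv D55880)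
def n57096 : Q := act 4 n55837
theorem D57096 : act 4 n55837 = n57096 := rfl
theorem F255830 : act 3 n57096 = n55848 := d24_1 D57096 (iv D55848) (iv D54366) (iv F243251) D55837
theorem F255831 : act 9 n57096 = n55881 := d34_2 (iv F250172) D57096 (iv D55881)
def n57097 : Q := act 1 n55838
theorem D57097 : act 1 n55838 = n57097 := rfl
theorem F255832 : act 3 n57097 = n55842 := d10_2 (iv F250173) D57097 (iv D55842)
theorem F255833 : act 9 n57097 = n55882 := d16_2 (iv F250174) D57097 (iv D55882)
def n57098 : Q := act 3 n55839
theorem D57098 : act 3 n55839 = n57098 := rfl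
theorem F255834 : act 7 n57098 = n55840 := d27_2 (iv F250176) D57098 (iv D55840)
theorem F255835 : act 9 n57098 = n55885 := d29_2 (iv F250177) D57098 (iv D55885)
def n57099 : Q := act 2 n55840
theorem D57099 : act 2 n55840 = n57099 := rfl
theorem F255836 : act 6 n57099 = n55841 := d20_2 (iv F250178) D57099 (iv D55841)
theorem F255837 : act 9 n57099 = n55886 := d23_2 (iv F250179) D57099 (iv D55886)
def n57100 : Q := act 1 n55841
theorem D57100 : act 1 n55841 = n57100 := rfl
theorem F255838 : act 5 n57100 = n55842 := d12_2 (iv F250180) D57100 (iv D55842)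
theorem F255839 : act 9 n57100 = n55887 := d16_2 (iv F250181) D57100 (iv D55887)
def n57101 : Q := act 0 n55842
theorem D57101 : act 0 n55842 = n57101 := rfl
theorem F255840 : act 9 n57101 = n55888 := d8_2 (iv F250182) D57101 (iv D55888)
def n57102 : Q := act 2 n55843
theorem D57102 : act 2 n55843 = n57102 := rfl
theorem F255841 : act 3 n57102 = n55927 := d17_2 D55843 D57102 (iv D55927) (iv D54470) (iv F243269)
theorem F255842 : act 4 n57102 = n55849 := d18_2 (iv F250184) D57102 F250207
theorem F255843 : act 6 n57102 = n57102 := d20_2 F250185 D57102 (iv D57102)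
theorem F255844 : act 7 n57102 = n55845 := d21_2 (iv F250186) D57102 (iv D55845)
theorem F255845 : act 8 n57102 = n57102 := d22_2 F250187 D57102 (iv D57102)
theorem F255846 : act 9 n57102 = n55891 := d23_2 (iv F250188) D57102 (iv D55891)
def n57103 : Q := act 2 n55844
theorem D57103 : act 2 n55844 = n57103 := rfl
theorem F255847 : act 5 n57103 = n55845 := d19_2 (iv F250190) D57103 (iv D55845)
theorem F255848 : act 8 n57103 = n57103 := d22_2 F250191 D57103 (iv D57103)
theorem F255849 : act 9 n57103 = n55896 := d23_2 (iv F250192) D57103 (iv D55896)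
def n57104 : Q := act 4 n55844
theorem D57104 : act 4 n55844 = n57104 := rfl
theorem F255850 : act 1 n57104 = n55848 := d11_1 D57104 (iv D55848) (iv F250189)
theorem F255851 : act 8 n57104 = n57104 := d33_2 F250191 D57104 (iv D57104)
theorem F255852 : act 9 n57104 = n55897 := d34_2 (iv F250192) D57104 (iv D55897)
def n57105 : Q := act 3 n55846
theorem D57105 : act 3 n55846 = n57105 := rfl
theorem F255853 : act 2 n57105 = n55919 := d17_1 D57105 (iv D55919) (iv F244791) F244792 (iv F250197)
theorem F255854 : act 5 n57105 = n55849 := d25_2 (iv F250198) D57105 (iv D55849)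
theorem F255855 : act 7 n57105 = n55847 := d27_2 (iv F250199) D57105 (iv D55847)
theorem F255856 : act 8 n57105 = n57105 := d28_2 D55846 D57105 (iv D57105) (iv D55846) F243286
theorem F255857 : act 9 n57105 = n55898 := d29_2 (iv F250200) D57105 (iv D55898)
def n57106 : Q := act 4 n55847
theorem D57106 : act 4 n55847 = n57106 := rfl
theorem F255858 : act 6 n57106 = n55848 := d31_2 (iv F250202) D57106 (iv D55848)
theorem F255859 : act 8 n57106 = n57106 := d33_2 F250203 D57106 (iv D57106)
theorem F255860 : act 9 n57106 = n55899 := d34_2 (iv F250204) D57106 (iv D55899)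
def n57107 : Q := act 3 n55850
theorem D57107 : act 3 n55850 = n57107 := rfl
theorem F255861 : act 5 n57107 = n55851 := d25_2 (iv F250214) D57107 (iv D55851)
def n57108 : Q := act 2 n55851
theorem D57108 : act 2 n55851 = n57108 := rfl
theorem F255862 : act 3 n57108 = n55854 := d17_2 D55851 D57108 (iv D55854) (iv D54375) (iv F243313)
theorem F255863 : act 6 n57108 = n55859 := d20_2 (iv F250215) D57108 (iv D55859)
def n57109 : Q := act 3 n55852
theorem D57109 : act 3 n55852 = n57109 := rfl
theorem F255864 : act 5 n57109 = n55863 := d25_2 (iv F250217) D57109 (iv D55863)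
theorem F255865 : act 6 n57109 = n55853 := d26_2 (iv F250218) D57109 (iv D55853)
def n57110 : Q := act 2 n55853
theorem D57110 : act 2 n55853 = n57110 := rfl
theorem F255866 : act 5 n57110 = n55854 := d19_2 (iv F250219) D57110 (iv D55854)
def n57111 : Q := act 4 n55853
theorem D57111 : act 4 n55853 = n57111 := rfl
theorem F255867 : act 3 n57111 = n57111 := d24_1 D57111 (iv D57111) (iv D55853) F243319 D55853
def n57112 : Q := act 1 n55854
theorem D57112 : act 1 n55854 = n57112 := rfl
theorem F255868 : act 6 n57112 = n55865 := d13_2 (iv F250220) D57112 (iv D55865)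
def n57113 : Q := act 3 n55855
theorem D57113 : act 3 n55855 = n57113 := rfl
theorem F255869 : act 1 n57113 = n55858 := d10_1 D57113 (iv D55858) (iv F250221)
theorem F255870 : act 5 n57113 = n55856 := d25_2 (iv F250223) D57113 (iv D55856)
theorem F255871 : act 7 n57113 = n55870 := d27_2 (iv F250224) D57113 (iv D55870)
theorem F255872 : act 8 n57113 = n55884 := d28_2 D55855 D57113 F250285 F243391 (iv F243323)
def n57114 : Q := act 2 n55856
theorem D57114 : act 2 n55856 = n57114 := rfl
theorem F255873 : act 4 n57114 = n55877 := d18_2 (iv F250226) D57114 (iv D55877)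
theorem F255874 : act 7 n57114 = n55871 := d21_2 (iv F250227) D57114 (iv D55871)
theorem F255875 : act 8 n57114 = n55883 := d22_2 (iv F250228) D57114 F250284
def n57115 : Q := act 2 n55857
theorem D57115 : act 2 n55857 = n57115 := rfl
theorem F255876 : act 4 n57115 = n55871 := d18_2 (iv F250230) D57115 (iv D55871)
theorem F255877 : act 7 n57115 = n55877 := d21_2 (iv F250231) D57115 (iv D55877)
theorem F255878 : act 8 n57115 = n55859 := d22_2 (iv F250232) D57115 (iv D55859)
def n57116 : Q := act 2 n55858
theorem D57116 : act 2 n55858 = n57116 := rfl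
theorem F255879 : act 3 n57116 = n55864 := d17_2 D55858 D57116 (iv D55864) (iv D54384) (iv F243333)
theorem F255880 : act 5 n57116 = n55859 := d19_2 (iv F250233) D57116 (iv D55859)
theorem F255881 : act 7 n57116 = n55880 := d21_2 (iv F250234) D57116 (iv D55880)
def n57117 : Q := act 4 n55858
theorem D57117 : act 4 n55858 = n57117 := rfl
theorem F255882 : act 3 n57117 = n55892 := d24_1 D57117 (iv D55892) (iv D54413) (iv F243334) D55858
theorem F255883 : act 7 n57117 = n55881 := d32_2 (iv F250234) D57117 (iv D55881)
def n57118 : Q := act 1 n55859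
theorem D57118 : act 1 n55859 = n57118 := rfl
theorem F255884 : act 3 n57118 = n55865 := d10_2 (iv F250235) D57118 (iv D55865)
theorem F255885 : act 7 n57118 = n55882 := d14_2 (iv F250236) D57118 (iv D55882)
def n57119 : Q := act 4 n55859
theorem D57119 : act 4 n55859 = n57119 := rfl
theorem F255886 : act 2 n57119 = n55860 := d18_1 D57119 (iv D55860) D55859
theorem F255887 : act 7 n57119 = n55883 := d32_2 (iv F250236) D57119 (iv D55883)
theorem F255888 : act 8 n57119 = n55871 := d33_2 F255878 D57119 (iv F255876)
def n57120 : Q := act 5 n55860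
theorem D57120 : act 5 n55860 = n57120 := rfl
theorem F255889 : act 1 n57120 = n55875 := d12_1 D57120 F250272 (iv F250237)
theorem F255890 : act 3 n57120 = n55861 := d25_1 D57120 (iv D55861) (iv F250238)
theorem F255891 : act 7 n57120 = n55884 := d36_2 (iv F250239) D57120 (iv D55884)
theorem F255892 : act 8 n57120 = n55870 := d37_2 (iv F250240) D57120 F250264
def n57121 : Q := act 6 n55861
theorem D57121 : act 6 n55861 = n57121 := rfl
theorem F255893 : act 1 n57121 = n55873 := d13_1 D57121 F250268 (iv F250241)
theorem F255894 : act 4 n57121 = n55894 := d31_1 D57121 (iv D55894) (iv F250242)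
theorem F255895 : act 8 n57121 = n55868 := d40_2 (iv F250244) D57121 F250259
def n57122 : Q := act 3 n55862
theorem D57122 : act 3 n55862 = n57122 := rfl
theorem F255896 : act 6 n57122 = n55885 := d26_2 (iv F250246) D57122 (iv D55885)
theorem F255897 : act 7 n57122 = n55863 := d27_2 (iv F250247) D57122 (iv D55863)
def n57123 : Q := act 2 n55863
theorem D57123 : act 2 n55863 = n57123 := rfl
theorem F255898 : act 6 n57123 = n55864 := d20_2 (iv F250248) D57123 (iv D55864)
def n57124 : Q := act 1 n55864
theorem D57124 : act 1 n55864 = n57124 := rfl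
theorem F255899 : act 5 n57124 = n55865 := d12_2 (iv F250249) D57124 (iv D55865)
theorem F255900 : act 7 n57124 = n55887 := d14_2 (iv F250250) D57124 (iv D55887)
def n57125 : Q := act 0 n55865
theorem D57125 : act 0 n55865 = n57125 := rfl
theorem F255901 : act 7 n57125 = n55888 := d6_2 (iv F250251) D57125 (iv D55888)
def n57126 : Q := act 3 n55866
theorem D57126 : act 3 n55866 = n57126 := rfl
theorem F255902 : act 0 n57126 = n55870 := d2_1 D57126 (iv D55870) (iv F250252)
theorem F255903 : act 5 n57126 = n55867 := d25_2 (iv F250254) D57126 (iv D55867)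
def n57127 : Q := act 2 n55867
theorem D57127 : act 2 n55867 = n57127 := rfl
theorem F255904 : act 0 n57127 = n55871 := d1_1 D57127 (iv D55871) (iv F250255)
def n57128 : Q := act 3 n55869
theorem D57128 : act 3 n55869 = n57128 := rfl
theorem F255905 : act 1 n57128 = n55879 := d10_1 D57128 (iv D55879) (iv F250260)
theorem F255906 : act 6 n57128 = n55870 := d26_2 (iv F250262) D57128 (iv D55870)
def n57129 : Q := act 2 n55870
theorem D57129 : act 2 n55870 = n57129 := rfl
theorem F255907 : act 5 n57129 = n55871 := d19_2 (iv F250264) D57129 (iv D55871)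
def n57130 : Q := act 4 n55870
theorem D57130 : act 4 n55870 = n57130 := rfl
theorem F255908 : act 1 n57130 = n55881 := d11_1 D57130 (iv D55881) (iv F250263)
theorem F255909 : act 3 n57130 = n55897 := d24_1 D57130 (iv D55897) (iv D54419) (iv F243366) D55870
def n57131 : Q := act 1 n55871
theorem D57131 : act 1 n55871 = n57131 := rfl
theorem F255910 : act 2 n57131 = n55882 := d9_2 D55871 D57131 (iv D55882) (iv D54402) (iv F243368)
def n57132 : Q := act 8 n55872
theorem D57132 : act 8 n55872 = n57132 := rfl
theorem F255911 : act 4 n57132 = n55917 := d33_1 D57132 (iv D55917) (iv F250265)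
theorem F255912 : act 6 n57132 = n55874 := d40_1 D57132 (iv D55874) (iv F250266)
theorem F255913 : act 9 n57132 = n55873 := d44_2 D55872 D57132 (iv D55873) (iv D54394) D54393
def n57133 : Q := act 3 n55873
theorem D57133 : act 3 n55873 = n57133 := rfl
theorem F255914 : act 6 n57133 = n55875 := d26_2 (iv F250268) D57133 (iv D55875)
theorem F255915 : act 8 n57133 = n55879 := d28_2 D55873 D57133 (iv D55879) (iv D54400) (iv F243371)
def n57134 : Q := act 3 n55874
theorem D57134 : act 3 n55874 = n57134 := rfl
theorem F255916 : act 5 n57134 = n55876 := d25_2 (iv F250270) D57134 (iv D55876)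
theorem F255917 : act 9 n57134 = n55875 := d29_2 (iv F250271) D57134 (iv D55875)
def n57135 : Q := act 2 n55875
theorem D57135 : act 2 n55875 = n57135 := rfl
theorem F255918 : act 5 n57135 = n55877 := d19_2 (iv F250272) D57135 (iv D55877)
theorem F255919 : act 8 n57135 = n55880 := d22_2 (iv F250273) D57135 (iv D55880)
def n57136 : Q := act 4 n55875
theorem D57136 : act 4 n55875 = n57136 := rfl
theorem F255920 : act 3 n57136 = n55920 := d24_1 D57136 (iv D55920) (iv D54455) (iv F243376) D55875
theorem F255921 : act 8 n57136 = n55881 := d33_2 (iv F250273) D57136 (iv D55881)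
def n57137 : Q := act 2 n55876
theorem D57137 : act 2 n55876 = n57137 := rfl
theorem F255922 : act 9 n57137 = n55877 := d23_2 (iv F250274) D57137 (iv D55877)
def n57138 : Q := act 1 n55877
theorem D57138 : act 1 n55877 = n57138 := rfl
theorem F255923 : act 8 n57138 = n55882 := d15_2 (iv F250275) D57138 (iv D55882)
def n57139 : Q := act 3 n55878
theorem D57139 : act 3 n55878 = n57139 := rfl
theorem F255924 : act 7 n57139 = n55879 := d27_2 (iv F250278) D57139 (iv D55879)
def n57140 : Q := act 2 n55879
theorem D57140 : act 2 n55879 = n57140 := rfl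
theorem F255925 : act 3 n57140 = n55886 := d17_2 D55879 D57140 (iv D55886) (iv D54406) (iv F243384)
theorem F255926 : act 6 n57140 = n55880 := d20_2 (iv F250279) D57140 (iv D55880)
def n57141 : Q := act 4 n55879
theorem D57141 : act 4 n55879 = n57141 := rfl
theorem F255927 : act 3 n57141 = n55899 := d24_1 D57141 (iv D55899) (iv D54422) (iv F243385) D55879
theorem F255928 : act 6 n57141 = n55881 := d31_2 (iv F250279) D57141 (iv D55881)
def n57142 : Q := act 1 n55880
theorem D57142 : act 1 n55880 = n57142 := rfl
theorem F255929 : act 3 n57142 = n55887 := d10_2 (iv F250280) D57142 (iv D55887)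
theorem F255930 : act 5 n57142 = n55882 := d12_2 (iv F250281) D57142 (iv D55882)
def n57143 : Q := act 4 n55880
theorem D57143 : act 4 n55880 = n57143 := rfl
theorem F255931 : act 2 n57143 = n55881 := d18_1 D57143 (iv D55881) D55880
def n57144 : Q := act 5 n55881
theorem D57144 : act 5 n55881 = n57144 := rfl
theorem F255932 : act 3 n57144 = n55900 := d25_1 D57144 (iv D55900) (iv F250282)
theorem F255933 : act 4 n57144 = n55884 := d30_1 D57144 (iv D55884) (iv D54403) (iv F243387) D55881
def n57145 : Q := act 0 n55882
theorem D57145 : act 0 n55882 = n57145 := rfl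
theorem F255934 : act 3 n57145 = n55888 := d2_2 (iv F250283) D57145 (iv D55888)
def n57146 : Q := act 4 n55882
theorem D57146 : act 4 n55882 = n57146 := rfl
theorem F255935 : act 1 n57146 = n55883 := d11_1 D57146 (iv D55883) D55882
def n57147 : Q := act 5 n55883
theorem D57147 : act 5 n55883 = n57147 := rfl
theorem F255936 : act 2 n57147 = n55884 := d19_1 D57147 (iv D55884) (iv F250284)
def n57148 : Q := act 2 n55885
theorem D57148 : act 2 n55885 = n57148 := rfl
theorem F255937 : act 7 n57148 = n55886 := d21_2 (iv F250286) D57148 (iv D55886)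
def n57149 : Q := act 1 n55886
theorem D57149 : act 1 n55886 = n57149 := rfl
theorem F255938 : act 6 n57149 = n55887 := d13_2 (iv F250287) D57149 (iv D55887)
def n57150 : Q := act 0 n55887
theorem D57150 : act 0 n55887 = n57150 := rfl
theorem F255939 : act 5 n57150 = n55888 := d4_2 (iv F250288) D57150 (iv D55888)
def n57151 : Q := act 2 n55890
theorem D57151 : act 2 n55890 = n57151 := rfl
theorem F255940 : act 5 n57151 = n55891 := d19_2 (iv F250293) D57151 (iv D55891)
theorem F255941 : act 7 n57151 = n55896 := d21_2 (iv F250294) D57151 (iv D55896)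
theorem F255942 : act 8 n57151 = n55924 := d22_2 (iv F250295) D57151 F250400
def n57152 : Q := act 4 n55890
theorem D57152 : act 4 n55890 = n57152 := rfl
theorem F255943 : act 1 n57152 = n55892 := d11_1 D57152 (iv D55892) (iv F250292)
theorem F255944 : act 5 n57152 = n55920 := d30_2 (iv F250293) D57152 (iv D55920) F243556 (iv F243408)
theorem F255945 : act 7 n57152 = n55897 := d32_2 (iv F250294) D57152 (iv D55897)
theorem F255946 : act 8 n57152 = n55923 := d33_2 (iv F250295) D57152 F250397
def n57153 : Q := act 5 n55892
theorem D57153 : act 5 n55892 = n57153 := rfl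
theorem F255947 : act 1 n57153 = n55920 := d12_1 D57153 (iv F255944) F255943
theorem F255948 : act 4 n57153 = n55893 := d30_1 D57153 (iv D55893) (iv D54414) (iv F243412) D55892
theorem F255949 : act 7 n57153 = n55900 := d36_2 (iv F250300) D57153 (iv D55900)
theorem F255950 : act 8 n57153 = n55916 := d37_2 (iv F250301) D57153 F250376
def n57154 : Q := act 6 n55893
theorem D57154 : act 6 n55893 = n57154 := rfl
theorem F255951 : act 1 n57154 = n55918 := d13_1 D57154 F250383 (iv F250302)
theorem F255952 : act 3 n57154 = n55894 := d26_1 D57154 (iv D55894) (iv F250303)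
theorem F255953 : act 5 n57154 = n57154 := d35_1 D57154 (iv D57154) (iv D55893) F243417 D55893
theorem F255954 : act 8 n57154 = n55915 := d40_2 (iv F250305) D57154 F250372
def n57155 : Q := act 4 n55895
theorem D57155 : act 4 n55895 = n57155 := rfl
theorem F255955 : act 1 n57155 = n55899 := d11_1 D57155 (iv D55899) (iv F250309)
theorem F255956 : act 6 n57155 = n55897 := d31_2 (iv F250311) D57155 (iv D55897)
theorem F255957 : act 8 n57155 = n55925 := d33_2 (iv F250312) D57155 (iv D55925)
def n57156 : Q := act 4 n55896
theorem D57156 : act 4 n55896 = n57156 := rfl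
theorem F255958 : act 2 n57156 = n55897 := d18_1 D57156 (iv D55897) D55896
theorem F255959 : act 5 n57156 = n55899 := d30_2 (iv F250313) D57156 (iv D55899) F243440 (iv F243434)
theorem F255960 : act 8 n57156 = n55926 := d33_2 (iv F250314) D57156 (iv D55926)
def n57157 : Q := act 4 n55898
theorem D57157 : act 4 n55898 = n57157 := rfl
theorem F255961 : act 2 n57157 = n55920 := d18_1 D57157 (iv D55920) (iv F250317)
theorem F255962 : act 7 n57157 = n55899 := d32_2 (iv F250319) D57157 (iv D55899)
theorem F255963 : act 8 n57157 = n55922 := d33_2 (iv F250320) D57157 (iv D55922)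
def n57158 : Q := act 3 n55904
theorem D57158 : act 3 n55904 = n57158 := rfl
theorem F255964 : act 5 n57158 = n57158 := d25_2 F250341 D57158 (iv D57158)
theorem F255965 : act 7 n57158 = n55912 := d27_2 (iv F250342) D57158 (iv D55912)
theorem F255966 : act 8 n57158 = n55905 := d28_2 D55904 D57158 (iv D55905) (iv D54433) (iv F243479)
def n57159 : Q := act 4 n55906
theorem D57159 : act 4 n55906 = n57159 := rfl
theorem F255967 : act 0 n57159 = n55910 := d3_1 D57159 (iv D55910) (iv F250346)
theorem F255968 : act 1 n57159 = n55922 := d11_1 D57159 (iv D55922) (iv F250347)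
theorem F255969 : act 7 n57159 = n55925 := d32_2 (iv F250349) D57159 (iv D55925)
theorem F255970 : act 9 n57159 = n57159 := d34_2 F250350 D57159 (iv D57159)
def n57160 : Q := act 3 n55907
theorem D57160 : act 3 n55907 = n57160 := rfl
theorem F255971 : act 1 n57160 = n55912 := d10_1 D57160 (iv D55912) (iv F250351)
theorem F255972 : act 5 n57160 = n57160 := d25_2 F250352 D57160 (iv D57160)
theorem F255973 : act 8 n57160 = n55908 := d28_2 D55907 D57160 (iv D55908) (iv D54436) (iv F243494)
def n57161 : Q := act 4 n55908
theorem D57161 : act 4 n55908 = n57161 := rfl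
theorem F255974 : act 1 n57161 = n55913 := d11_1 D57161 (iv D55913) (iv F250353)
theorem F255975 : act 3 n57161 = n55910 := d24_1 D57161 (iv D55910) (iv D54437) (iv F243498) D55908
theorem F255976 : act 9 n57161 = n57161 := d34_2 F250355 D57161 (iv D57161)
def n57162 : Q := act 4 n55909
theorem D57162 : act 4 n55909 = n57162 := rfl
theorem F255977 : act 2 n57162 = n55910 := d18_1 D57162 (iv D55910) D55909
theorem F255978 : act 9 n57162 = n57162 := d34_2 F250358 D57162 (iv D57162)
def n57163 : Q := act 3 n55911
theorem D57163 : act 3 n55911 = n57163 := rfl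
theorem F255979 : act 5 n57163 = n57163 := d25_2 F250362 D57163 (iv D57163)
theorem F255980 : act 8 n57163 = n57163 := d28_2 D55911 D57163 (iv D57163) (iv D55911) F243505
theorem F255981 : act 9 n57163 = n55912 := d29_2 (iv F250363) D57163 (iv D55912)
def n57164 : Q := act 4 n55912
theorem D57164 : act 4 n55912 = n57164 := rfl
theorem F255982 : act 8 n57164 = n55913 := d33_2 (iv F250365) D57164 (iv D55913)
def n57165 : Q := act 3 n55914
theorem D57165 : act 3 n55914 = n57165 := rfl
theorem F255983 : act 5 n57165 = n57165 := d25_2 F250369 D57165 (iv D57165)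
theorem F255984 : act 8 n57165 = n57165 := d28_2 D55914 D57165 (iv D57165) (iv D55914) F243515
def n57166 : Q := act 4 n55915
theorem D57166 : act 4 n55915 = n57166 := rfl
theorem F255985 : act 1 n57166 = n55921 := d11_1 D57166 (iv D55921) (iv F250370)
theorem F255986 : act 3 n57166 = n55925 := d24_1 D57166 (iv D55925) (iv D54464) (iv F243541) D55915
theorem F255987 : act 6 n57166 = n55916 := d31_2 (iv F250372) D57166 (iv D55916)
theorem F255988 : act 9 n57166 = n57166 := d34_2 F250373 D57166 (iv D57166)
def n57167 : Q := act 3 n55917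
theorem D57167 : act 3 n55917 = n57167 := rfl
theorem F255989 : act 5 n57167 = n57167 := d25_2 F250379 D57167 (iv D57167)
theorem F255990 : act 6 n57167 = n55919 := d26_2 (iv F250380) D57167 (iv D55919)
theorem F255991 : act 8 n57167 = n57167 := d28_2 D55917 D57167 (iv D57167) (iv D55917) F243549
theorem F255992 : act 9 n57167 = n55918 := d29_2 (iv F250381) D57167 (iv D55918)
def n57168 : Q := act 4 n55918
theorem D57168 : act 4 n55918 = n57168 := rfl
theorem F255993 : act 6 n57168 = n55920 := d31_2 (iv F250383) D57168 (iv D55920)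
theorem F255994 : act 8 n57168 = n55921 := d33_2 (iv F250384) D57168 (iv D55921)
def n57169 : Q := act 4 n55919
theorem D57169 : act 4 n55919 = n57169 := rfl
theorem F255995 : act 8 n57169 = n57169 := d33_2 F250386 D57169 (iv D57169)
theorem F255996 : act 9 n57169 = n55920 := d34_2 (iv F250387) D57169 (iv D55920)
def n57170 : Q := act 5 n55921
theorem D57170 : act 5 n55921 = n57170 := rfl
theorem F255997 : act 3 n57170 = n55926 := d25_1 D57170 F250408 (iv F250389)
theorem F255998 : act 4 n57170 = n57170 := d30_1 D57170 (iv D57170) (iv D55921) F243561 D55921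
theorem F255999 : act 9 n57170 = n57170 := d38_2 F250391 D57170 (iv D57170)
def n57171 : Q := act 5 n55922
theorem D57171 : act 5 n55922 = n57171 := rfl
theorem F256000 : act 2 n57171 = n55923 := d19_1 D57171 (iv D55923) (iv F250392)
theorem F256001 : act 4 n57171 = n55924 := d30_1 D57171 (iv D55924) (iv D54461) (iv F243565) D55922
theorem F256002 : act 7 n57171 = n55926 := d36_2 (iv F250393) D57171 F250408
theorem F256003 : act 9 n57171 = n57171 := d38_2 F250394 D57171 (iv D57171)
def n57172 : Q := act 8 n55931
theorem D57172 : act 8 n55931 = n57172 := rfl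
theorem F256004 : act 0 n57172 = n56388 := d7_1 D57172 (iv D56388) (iv F250439)
theorem F256005 : act 1 n57172 = n56271 := d15_1 D57172 (iv D56271) (iv F250440)
theorem F256006 : act 2 n57172 = n56426 := d22_1 D57172 (iv D56426) (iv F250441)
theorem F256007 : act 4 n57172 = n55933 := d33_1 D57172 (iv D55933) (iv F250443)
theorem F256008 : act 5 n57172 = n55932 := d37_1 D57172 (iv D55932) (iv F250444)
theorem F256009 : act 6 n57172 = n56325 := d40_1 D57172 (iv D56325) (iv F250445)
theorem F256010 : act 7 n57172 = n56421 := d42_1 D57172 (iv D56421) (iv F250446)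
theorem F256011 : act 9 n57172 = n55939 := d44_2 D55931 D57172 (iv D55939) (iv D54495) (iv F243706)
def n57173 : Q := act 3 n55932
theorem D57173 : act 3 n55932 = n57173 := rfl
theorem F256012 : act 0 n57173 = n56751 := d2_1 D57173 (iv D56751) (iv F250447)
theorem F256013 : act 1 n57173 = n56272 := d10_1 D57173 (iv D56272) (iv F250448)
theorem F256014 : act 4 n57173 = n55954 := d24_2 (iv F250450) D57173 (iv D55954) F243971 (iv F243717)
theorem F256015 : act 6 n57173 = n56745 := d26_2 (iv F250451) D57173 (iv D56745)
theorem F256016 : act 7 n57173 = n56995 := d27_2 (iv F250452) D57173 (iv D56995)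
theorem F256017 : act 8 n57173 = n56791 := d28_2 D55932 D57173 (iv D56791) (iv D55509) (iv F243710)
theorem F256018 : act 9 n57173 = n55940 := d29_2 (iv F250453) D57173 (iv D55940)
def n57174 : Q := act 3 n55933
theorem D57174 : act 3 n55933 = n57174 := rfl
theorem F256019 : act 0 n57174 = n56395 := d2_1 D57174 (iv D56395) (iv F250454)
theorem F256020 : act 1 n57174 = n56276 := d10_1 D57174 (iv D56276) (iv F250455)
theorem F256021 : act 2 n57174 = n56951 := d17_1 D57174 F255517 F249793 (iv F247264) (iv F250456)
theorem F256022 : act 5 n57174 = n55934 := d25_2 (iv F250457) D57174 (iv D55934)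
theorem F256023 : act 6 n57174 = n56330 := d26_2 (iv F250458) D57174 (iv D56330)
theorem F256024 : act 7 n57174 = n56436 := d27_2 (iv F250459) D57174 (iv D56436)
theorem F256025 : act 8 n57174 = n57174 := d28_2 D55933 D57174 (iv D57174) (iv D55933) F243725
theorem F256026 : act 9 n57174 = n55946 := d29_2 (iv F250460) D57174 (iv D55946)
def n57175 : Q := act 8 n55935
theorem D57175 : act 8 n55935 = n57175 := rfl
theorem F256027 : act 0 n57175 = n56426 := d7_1 D57175 (iv D56426) (iv F250469)
theorem F256028 : act 1 n57175 = n56251 := d15_1 D57175 (iv D56251) (iv F250470)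
theorem F256029 : act 2 n57175 = n56388 := d22_1 D57175 (iv D56388) (iv F250471)
theorem F256030 : act 4 n57175 = n55941 := d33_1 D57175 (iv D55941) (iv F250473)
theorem F256031 : act 5 n57175 = n55936 := d37_1 D57175 (iv D55936) (iv F250474)
theorem F256032 : act 6 n57175 = n56385 := d40_1 D57175 (iv D56385) (iv F250475)
theorem F256033 : act 7 n57175 = n55939 := d42_1 D57175 (iv D55939) (iv F250476)
theorem F256034 : act 9 n57175 = n56421 := d44_2 D55935 D57175 (iv D56421) (iv D55082) (iv F243750)
def n57176 : Q := act 3 n55936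
theorem D57176 : act 3 n55936 = n57176 := rfl
theorem F256035 : act 0 n57176 = n56997 := d2_1 D57176 F255616 (iv F250477)
theorem F256036 : act 1 n57176 = n56280 := d10_1 D57176 (iv D56280) (iv F250478)
theorem F256037 : act 4 n57176 = n55958 := d24_2 (iv F250480) D57176 (iv D55958) F244011 (iv F243761)
theorem F256038 : act 6 n57176 = n56752 := d26_2 (iv F250481) D57176 (iv D56752)
theorem F256039 : act 7 n57176 = n55940 := d27_2 (iv F250482) D57176 (iv D55940)
theorem F256040 : act 8 n57176 = n56010 := d28_2 D55936 D57176 (iv D56010) (iv D54580) (iv F243754)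
theorem F256041 : act 9 n57176 = n56995 := d29_2 (iv F250483) D57176 (iv D56995)
def n57177 : Q := act 8 n55937
theorem D57177 : act 8 n55937 = n57177 := rfl
theorem F256042 : act 0 n57177 = n56421 := d7_1 D57177 (iv D56421) (iv F250484)
theorem F256043 : act 1 n57177 = n56398 := d15_1 D57177 (iv D56398) (iv F250485)
theorem F256044 : act 2 n57177 = n55939 := d22_1 D57177 (iv D55939) (iv F250486)
theorem F256045 : act 4 n57177 = n55945 := d33_1 D57177 (iv D55945) (iv F250488)
theorem F256046 : act 5 n57177 = n55938 := d37_1 D57177 (iv D55938) (iv F250489)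
theorem F256047 : act 6 n57177 = n56340 := d40_1 D57177 (iv D56340) (iv F250490)
theorem F256048 : act 7 n57177 = n56388 := d42_1 D57177 (iv D56388) (iv F250491)
theorem F256049 : act 9 n57177 = n56426 := d44_2 D55937 D57177 (iv D56426) (iv D55086) (iv F243773)
def n57178 : Q := act 3 n55938
theorem D57178 : act 3 n55938 = n57178 := rfl
theorem F256050 : act 0 n57178 = n56995 := d2_1 D57178 (iv D56995) (iv F250492)
theorem F256051 : act 1 n57178 = n56399 := d10_1 D57178 (iv D56399) (iv F250493)
theorem F256052 : act 4 n57178 = n56752 := d24_2 (iv F250495) D57178 (iv D56752) F248931 (iv F243784)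
theorem F256053 : act 6 n57178 = n55958 := d26_2 (iv F250496) D57178 (iv D55958)
theorem F256054 : act 7 n57178 = n56751 := d27_2 (iv F250497) D57178 (iv D56751)
theorem F256055 : act 8 n57178 = n56152 := d28_2 D55938 D57178 (iv D56152) (iv D54734) (iv F243777)
theorem F256056 : act 9 n57178 = n56997 := d29_2 (iv F250498) D57178 F255616
def n57179 : Q := act 3 n55939
theorem D57179 : act 3 n55939 = n57179 := rfl
theorem F256057 : act 0 n57179 = n56427 := d2_1 D57179 (iv D56427) (iv F250499)
theorem F256058 : act 1 n57179 = n56287 := d10_1 D57179 (iv D56287) (iv F250500)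
theorem F256059 : act 5 n57179 = n55940 := d25_2 (iv F250502) D57179 (iv D55940)
theorem F256060 : act 6 n57179 = n56343 := d26_2 (iv F250503) D57179 (iv D56343)
theorem F256061 : act 8 n57179 = n56022 := d28_2 D55939 D57179 (iv D56022) (iv D54590) (iv F243791)
def n57180 : Q := act 2 n55940
theorem D57180 : act 2 n55940 = n57180 := rfl
theorem F256062 : act 0 n57180 = n57002 := d1_1 D57180 (iv D57002) (iv F250504)
theorem F256063 : act 4 n57180 = n55963 := d18_2 (iv F250506) D57180 (iv D55963)
theorem F256064 : act 6 n57180 = n56746 := d20_2 (iv F250507) D57180 (iv D56746)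
theorem F256065 : act 8 n57180 = n56023 := d22_2 (iv F250508) D57180 (iv D56023)
def n57181 : Q := act 8 n55943
theorem D57181 : act 8 n55943 = n57181 := rfl
theorem F256066 : act 0 n57181 = n56266 := d7_1 D57181 (iv D56266) (iv F250526)
theorem F256067 : act 1 n57181 = n55945 := d15_1 D57181 (iv D55945) (iv F250527)
theorem F256068 : act 2 n57181 = n56237 := d22_1 D57181 (iv D56237) (iv F250528)
theorem F256069 : act 4 n57181 = n56398 := d33_1 D57181 (iv D56398) (iv F250530)
theorem F256070 : act 5 n57181 = n55944 := d37_1 D57181 (iv D55944) (iv F250531)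
theorem F256071 : act 6 n57181 = n56317 := d40_1 D57181 (iv D56317) (iv F250532)
theorem F256072 : act 7 n57181 = n55955 := d42_1 D57181 (iv D55955) (iv F250533)
theorem F256073 : act 9 n57181 = n55964 := d44_2 D55943 D57181 (iv D55964) (iv D54532) (iv F243829)
theorem F256074 : act 3 n56975 = n57181 := d29_3 F256073 F250673 (iv F255576)
def n57182 : Q := act 2 n55946
theorem D57182 : act 2 n55946 = n57182 := rfl
theorem F256075 : act 0 n57182 = n56435 := d1_1 D57182 F253449 (iv F250549)
theorem F256076 : act 1 n57182 = n56952 := d9_1 D57182 F255519 F252719 (iv D56291) (iv F250550)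
theorem F256077 : act 3 n57182 = n56938 := d17_2 D55946 D57182 F255488 F250548 F250543
theorem F256078 : act 5 n57182 = n55947 := d19_2 (iv F250551) D57182 (iv D55947)
theorem F256079 : act 6 n57182 = n56351 := d20_2 (iv F250552) D57182 (iv D56351)
theorem F256080 : act 7 n57182 = n56930 := d21_2 (iv F250553) D57182 F255468
theorem F256081 : act 8 n57182 = n55948 := d22_2 (iv F250554) D57182 (iv D55948)
theorem F256082 : act 9 n57182 = n56951 := d23_2 F256026 D57182 (iv F256021)
def n57183 : Q := act 4 n55946
theorem D57183 : act 4 n55946 = n57183 := rfl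
theorem F256083 : act 0 n57183 = n56441 := d3_1 D57183 (iv D56441) (iv F250549)
theorem F256084 : act 1 n57183 = n56292 := d11_1 D57183 (iv D56292) (iv F250550)
theorem F256085 : act 5 n57183 = n55967 := d30_2 (iv F250551) D57183 (iv D55967) F244060 (iv F243863)
theorem F256086 : act 6 n57183 = n56352 := d31_2 (iv F250552) D57183 (iv D56352)
theorem F256087 : act 7 n57183 = n56965 := d32_2 (iv F250553) D57183 F255555
theorem F256088 : act 8 n57183 = n55949 := d33_2 (iv F250554) D57183 (iv D55949)
def n57184 : Q := act 4 n55948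
theorem D57184 : act 4 n55948 = n57184 := rfl
theorem F256089 : act 0 n57184 = n56443 := d3_1 D57184 (iv D56443) (iv F250563)
theorem F256090 : act 1 n57184 = n56956 := d11_1 D57184 F255531 (iv F250564)
theorem F256091 : act 2 n57184 = n55949 := d18_1 D57184 (iv D55949) D55948
theorem F256092 : act 5 n57184 = n55971 := d30_2 (iv F250566) D57184 (iv D55971) F244106 (iv F243899)
theorem F256093 : act 6 n57184 = n56353 := d31_2 (iv F250567) D57184 (iv D56353)
theorem F256094 : act 7 n57184 = n56932 := d32_2 (iv F250568) D57184 F255476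
theorem F256095 : act 9 n57184 = n57184 := d34_2 F250569 D57184 (iv D57184)
def n57185 : Q := act 3 n55950
theorem D57185 : act 3 n55950 = n57185 := rfl
theorem F256096 : act 0 n57185 = n56307 := d2_1 D57185 (iv D56307) (iv F250577)
theorem F256097 : act 1 n57185 = n55951 := d10_1 D57185 (iv D55951) (iv F250578)
theorem F256098 : act 4 n57185 = n56761 := d24_2 (iv F250580) D57185 (iv D56761) F248975 (iv F243914)
theorem F256099 : act 5 n57185 = n56980 := d25_2 (iv F250581) D57185 (iv D56980)
theorem F256100 : act 6 n57185 = n56747 := d26_2 (iv F250582) D57185 (iv D56747)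
theorem F256101 : act 7 n57185 = n56988 := d27_2 (iv F250583) D57185 (iv D56988)
theorem F256102 : act 8 n57185 = n56067 := d28_2 D55950 D57185 (iv D56067) (iv D54640) (iv F243906)
theorem F256103 : act 9 n57185 = n56755 := d29_2 (iv F250584) D57185 (iv D56755)
def n57186 : Q := act 2 n55951
theorem D57186 : act 2 n55951 = n57186 := rfl
theorem F256104 : act 0 n57186 = n55963 := d1_1 D57186 (iv D55963) (iv F250585)
theorem F256105 : act 3 n57186 = n56750 := d17_2 D55951 D57186 (iv D56750) (iv D55460) (iv F243929)
theorem F256106 : act 4 n57186 = n57002 := d18_2 (iv F250586) D57186 (iv D57002)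
theorem F256107 : act 5 n57186 = n56982 := d19_2 (iv F250587) D57186 (iv D56982)
theorem F256108 : act 6 n57186 = n56749 := d20_2 (iv F250588) D57186 (iv D56749)
theorem F256109 : act 7 n57186 = n56996 := d21_2 (iv F250589) D57186 (iv D56996)
theorem F256110 : act 8 n57186 = n56088 := d22_2 (iv F250590) D57186 (iv D56088)
theorem F256111 : act 9 n57186 = n56760 := d23_2 (iv F250591) D57186 (iv D56760)
def n57187 : Q := act 3 n55952
theorem D57187 : act 3 n55952 = n57187 := rfl
theorem F256112 : act 0 n57187 = n56752 := d2_1 D57187 (iv D56752) (iv F250592)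
theorem F256113 : act 1 n57187 = n56379 := d10_1 D57187 (iv D56379) (iv F250593)
theorem F256114 : act 4 n57187 = n56995 := d24_2 (iv F250595) D57187 (iv D56995) F249903 (iv F243955)
theorem F256115 : act 5 n57187 = n56958 := d25_2 (iv F250596) D57187 (iv D56958)
theorem F256116 : act 6 n57187 = n56997 := d26_2 (iv F250597) D57187 F255616
theorem F256117 : act 7 n57187 = n55954 := d27_2 (iv F250598) D57187 (iv D55954)
theorem F256118 : act 8 n57187 = n57122 := d28_2 D55952 D57187 (iv D57122) (iv D55862) (iv F243947)
theorem F256119 : act 9 n57187 = n55958 := d29_2 (iv F250599) D57187 (iv D55958)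
def n57188 : Q := act 3 n55953
theorem D57188 : act 3 n55953 = n57188 := rfl
theorem F256120 : act 0 n57188 = n56759 := d2_1 D57188 (iv D56759) (iv F250600)
theorem F256121 : act 1 n57188 = n56389 := d10_1 D57188 (iv D56389) (iv F250601)
theorem F256122 : act 5 n57188 = n55954 := d25_2 (iv F250604) D57188 (iv D55954)
theorem F256123 : act 6 n57188 = n56978 := d26_2 (iv F250605) D57188 (iv D56978)
theorem F256124 : act 7 n57188 = n56958 := d27_2 (iv F250606) D57188 (iv D56958)
theorem F256125 : act 8 n57188 = n57109 := d28_2 D55953 D57188 (iv D57109) (iv D55852) (iv F243963)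
theorem F256126 : act 9 n57188 = n55962 := d29_2 (iv F250607) D57188 (iv D55962)
def n57189 : Q := act 2 n55954
theorem D57189 : act 2 n55954 = n57189 := rfl
theorem F256127 : act 0 n57189 = n56760 := d1_1 D57189 (iv D56760) (iv F250608)
theorem F256128 : act 3 n57189 = n56749 := d17_2 D55954 D57189 (iv D56749) (iv D55459) (iv F243970)
theorem F256129 : act 6 n57189 = n56750 := d20_2 (iv F250610) D57189 (iv D56750)
theorem F256130 : act 8 n57189 = n57123 := d22_2 (iv F250611) D57189 (iv D57123)
theorem F256131 : act 9 n57189 = n55963 := d23_2 (iv F250612) D57189 (iv D55963)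
def n57190 : Q := act 3 n55955
theorem D57190 : act 3 n55955 = n57190 := rfl
theorem F256132 : act 0 n57190 = n56765 := d2_1 D57190 (iv D56765) (iv F250613)
theorem F256133 : act 1 n57190 = n56395 := d10_1 D57190 (iv D56395) (iv F250614)
theorem F256134 : act 2 n57190 = n56306 := d17_1 D57190 (iv D56306) F246540 (iv F246036) (iv F250615)
theorem F256135 : act 5 n57190 = n55957 := d25_2 (iv F250617) D57190 (iv D55957)
theorem F256136 : act 6 n57190 = n55956 := d26_2 (iv F250618) D57190 (iv D55956)
theorem F256137 : act 7 n57190 = n56975 := d27_2 F256072 D57190 F256074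
theorem F256138 : act 8 n57190 = n57190 := d28_2 D55955 D57190 (iv D57190) (iv D55955) F243977
theorem F256139 : act 9 n57190 = n55965 := d29_2 (iv F250619) D57190 (iv D55965)
def n57191 : Q := act 4 n55956
theorem D57191 : act 4 n55956 = n57191 := rfl
theorem F256140 : act 0 n57191 = n56766 := d3_1 D57191 (iv D56766) (iv F250620)
theorem F256141 : act 1 n57191 = n56397 := d11_1 D57191 (iv D56397) (iv F250621)
theorem F256142 : act 2 n57191 = n56950 := d18_1 D57191 (iv D56950) (iv F250622)
theorem F256143 : act 7 n57191 = n56959 := d32_2 (iv F250624) D57191 (iv D56959)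
theorem F256144 : act 8 n57191 = n57191 := d33_2 F250625 D57191 (iv D57191)
theorem F256145 : act 9 n57191 = n55967 := d34_2 (iv F250626) D57191 (iv D55967)
def n57192 : Q := act 2 n55958
theorem D57192 : act 2 n55958 = n57192 := rfl
theorem F256146 : act 0 n57192 = n56996 := d1_1 D57192 (iv D56996) (iv F250635)
theorem F256147 : act 3 n57192 = n56746 := d17_2 D55958 D57192 (iv D56746) (iv D55456) (iv F244010)
theorem F256148 : act 5 n57192 = n56963 := d19_2 (iv F250637) D57192 (iv D56963)
theorem F256149 : act 7 n57192 = n55963 := d21_2 (iv F250638) D57192 (iv D55963)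
theorem F256150 : act 8 n57192 = n56162 := d22_2 (iv F250639) D57192 (iv D56162)
def n57193 : Q := act 2 n55959
theorem D57193 : act 2 n55959 = n57193 := rfl
theorem F256151 : act 0 n57193 = n56750 := d1_1 D57193 (iv D56750) (iv F250640)
theorem F256152 : act 3 n57193 = n55963 := d17_2 D55959 D57193 (iv D55963) (iv D54531) (iv F244016)
theorem F256153 : act 4 n57193 = n56753 := d18_2 (iv F250642) D57193 (iv D56753)
theorem F256154 : act 5 n57193 = n56962 := d19_2 (iv F250643) D57193 (iv D56962)
theorem F256155 : act 6 n57193 = n56760 := d20_2 (iv F250644) D57193 (iv D56760)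
theorem F256156 : act 7 n57193 = n56746 := d21_2 (iv F250645) D57193 (iv D56746)
theorem F256157 : act 8 n57193 = n56772 := d22_2 (iv F250646) D57193 (iv D56772)
theorem F256158 : act 9 n57193 = n56749 := d23_2 (iv F250647) D57193 (iv D56749)
def n57194 : Q := act 8 n55960
theorem D57194 : act 8 n55960 = n57194 := rfl
theorem F256159 : act 0 n57194 = n56281 := d7_1 D57194 (iv D56281) (iv F250648)
theorem F256160 : act 1 n57194 = n56426 := d15_1 D57194 (iv D56426) (iv F250649)
theorem F256161 : act 2 n57194 = n56332 := d22_1 D57194 (iv D56332) (iv F250650)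
theorem F256162 : act 4 n57194 = n55964 := d33_1 D57194 (iv D55964) (iv F250652)
theorem F256163 : act 5 n57194 = n56373 := d37_1 D57194 (iv D56373) (iv F250653)
theorem F256164 : act 6 n57194 = n56333 := d40_1 D57194 (iv D56333) (iv F250654)
theorem F256165 : act 7 n57194 = n55961 := d42_1 D57194 (iv D55961) (iv F250655)
theorem F256166 : act 9 n57194 = n56398 := d44_2 D55960 D57194 (iv D56398) (iv D55059) (iv F244029)
def n57195 : Q := act 3 n55961
theorem D57195 : act 3 n55961 = n57195 := rfl
theorem F256167 : act 0 n57195 = n56976 := d2_1 D57195 (iv D56976) (iv F250656)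
theorem F256168 : act 1 n57195 = n56427 := d10_1 D57195 (iv D56427) (iv F250657)
theorem F256169 : act 5 n57195 = n56761 := d25_2 (iv F250660) D57195 (iv D56761)
theorem F256170 : act 6 n57195 = n55962 := d26_2 (iv F250661) D57195 (iv D55962)
theorem F256171 : act 8 n57195 = n56180 := d28_2 D55961 D57195 (iv D56180) (iv D54761) (iv F244033)
theorem F256172 : act 9 n57195 = n56978 := d29_2 (iv F250662) D57195 (iv D56978)
def n57196 : Q := act 2 n55962
theorem D57196 : act 2 n55962 = n57196 := rfl
theorem F256173 : act 0 n57196 = n56982 := d1_1 D57196 (iv D56982) (iv F250663)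
theorem F256174 : act 3 n57196 = n56962 := d17_2 D55962 D57196 (iv D56962) (iv D55697) (iv F244039)
theorem F256175 : act 5 n57196 = n55963 := d19_2 (iv F250665) D57196 (iv D55963)
theorem F256176 : act 7 n57196 = n56963 := d21_2 (iv F250666) D57196 (iv D56963)
theorem F256177 : act 8 n57196 = n56181 := d22_2 (iv F250667) D57196 (iv D56181)
def n57197 : Q := act 4 n55962
theorem D57197 : act 4 n55962 = n57197 := rfl
theorem F256178 : act 0 n57197 = n56983 := d3_1 D57197 (iv D56983) (iv F250663)
theorem F256179 : act 1 n57197 = n56429 := d11_1 D57197 (iv D56429) (iv F250664)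
theorem F256180 : act 3 n57197 = n55967 := d24_1 D57197 (iv D55967) (iv D54534) (iv F244040) D55962
theorem F256181 : act 7 n57197 = n56964 := d32_2 (iv F250666) D57197 (iv D56964)
theorem F256182 : act 8 n57197 = n56182 := d33_2 (iv F250667) D57197 (iv D56182)
def n57198 : Q := act 1 n55963
theorem D57198 : act 1 n55963 = n57198 := rfl
theorem F256183 : act 2 n57198 = n56430 := d9_2 D55963 D57198 (iv D56430) (iv D55089) (iv F244043)
theorem F256184 : act 6 n57198 = n56763 := d13_2 (iv F250668) D57198 (iv D56763)
theorem F256185 : act 8 n57198 = n56183 := d15_2 (iv F250669) D57198 (iv D56183)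
def n57199 : Q := act 4 n55965
theorem D57199 : act 4 n55965 = n57199 := rfl
theorem F256186 : act 0 n57199 = n56977 := d3_1 D57199 (iv D56977) (iv F250677)
theorem F256187 : act 1 n57199 = n56441 := d11_1 D57199 (iv D56441) (iv F250678)
theorem F256188 : act 2 n57199 = n56986 := d18_1 D57199 (iv D56986) (iv F250679)
theorem F256189 : act 5 n57199 = n56981 := d30_2 (iv F250680) D57199 (iv D56981) F249877 (iv F244086)
theorem F256190 : act 6 n57199 = n55967 := d31_2 (iv F250681) D57199 (iv D55967)
theorem F256191 : act 7 n57199 = n56991 := d32_2 (iv F250682) D57199 F255606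
theorem F256192 : act 8 n57199 = n55969 := d33_2 (iv F250683) D57199 (iv D55969)
def n57200 : Q := act 1 n55966
theorem D57200 : act 1 n55966 = n57200 := rfl
theorem F256193 : act 0 n57200 = n56339 := d0_1 D57200 F253006 F246782 (iv F247182) (iv F250684)
theorem F256194 : act 2 n57200 = n56440 := d9_2 D55966 D57200 F253464 (iv D55103) (iv F244059)
theorem F256195 : act 3 n57200 = n56337 := d10_2 (iv F250685) D57200 F252997
theorem F256196 : act 5 n57200 = n55968 := d12_2 (iv F250686) D57200 (iv D55968)
theorem F256197 : act 6 n57200 = n56289 := d13_2 (iv F250687) D57200 F252701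
theorem F256198 : act 7 n57200 = n56393 := d14_2 (iv F250688) D57200 F253282
theorem F256199 : act 8 n57200 = n55970 := d15_2 (iv F250689) D57200 (iv D55970)
theorem F256200 : act 9 n57200 = n56431 := d16_2 (iv F250690) D57200 F253426
def n57201 : Q := act 4 n55966
theorem D57201 : act 4 n55966 = n57201 := rfl
theorem F256201 : act 0 n57201 = n56416 := d3_1 D57201 (iv D56416) (iv F250684)
theorem F256202 : act 2 n57201 = n55967 := d18_1 D57201 (iv D55967) D55966
theorem F256203 : act 6 n57201 = n56986 := d31_2 (iv F250687) D57201 (iv D56986)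
theorem F256204 : act 7 n57201 = n56928 := d32_2 (iv F250688) D57201 (iv D56928)
theorem F256205 : act 8 n57201 = n55971 := d33_2 (iv F250689) D57201 (iv D55971)
theorem F256206 : act 9 n57201 = n56950 := d34_2 (iv F250690) D57201 (iv D56950)
def n57202 : Q := act 4 n55970
theorem D57202 : act 4 n55970 = n57202 := rfl
theorem F256207 : act 0 n57202 = n56355 := d3_1 D57202 (iv D56355) (iv F250711)
theorem F256208 : act 1 n57202 = n55971 := d11_1 D57202 (iv D55971) D55970
theorem F256209 : act 2 n57202 = n56444 := d18_1 D57202 (iv D56444) (iv F250712)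
theorem F256210 : act 3 n57202 = n56568 := d24_1 D57202 (iv D56568) (iv D55254) (iv F246859) (iv F250713)
theorem F256211 : act 5 n57202 = n56956 := d30_2 (iv F250714) D57202 F255531 F249810 (iv F244118)
theorem F256212 : act 6 n57202 = n56298 := d31_2 (iv F250715) D57202 F252762
theorem F256213 : act 7 n57202 = n56931 := d32_2 (iv F250716) D57202 (iv D56931)
theorem F256214 : act 9 n57202 = n57202 := d34_2 F250717 D57202 (iv D57202)
def n57203 : Q := act 3 n55971
theorem D57203 : act 3 n55971 = n57203 := rfl
theorem F256215 : act 0 n57203 = n56453 := d2_1 D57203 F253528 (iv F250718)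
theorem F256216 : act 1 n57203 = n56568 := d10_1 D57203 (iv F256210) F256208
theorem F256217 : act 2 n57203 = n56207 := d17_1 D57203 (iv D56207) F245615 (iv F244112) (iv F250719)
theorem F256218 : act 4 n57203 = n56450 := d24_2 D55971 D57203 (iv D56450) F247338 (iv F244105)
theorem F256219 : act 6 n57203 = n56503 := d26_2 (iv F250720) D57203 F253764
theorem F256220 : act 7 n57203 = n56502 := d27_2 (iv F250721) D57203 F253759
theorem F256221 : act 9 n57203 = n57203 := d29_2 F250722 D57203 (iv D57203)
def n57204 : Q := act 9 n55972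
theorem D57204 : act 9 n55972 = n57204 := rfl
theorem F256222 : act 0 n57204 = n56115 := d8_1 D57204 (iv D56115) (iv F250723)
theorem F256223 : act 1 n57204 = n56469 := d16_1 D57204 (iv D56469) (iv F250724)
theorem F256224 : act 2 n57204 = n56676 := d23_1 D57204 (iv D56676) (iv F250725)
theorem F256225 : act 3 n57204 = n55989 := d29_1 D57204 (iv D55989) (iv F250726)
theorem F256226 : act 4 n57204 = n57204 := d34_1 D57204 (iv D57204) F250727
theorem F256227 : act 5 n57204 = n55973 := d38_1 D57204 (iv D55973) D55972
theorem F256228 : act 6 n57204 = n56417 := d41_1 D57204 (iv D56417) (iv F250728)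
theorem F256229 : act 7 n57204 = n55981 := d43_1 D57204 (iv D55981) (iv F250729)
def n57205 : Q := act 8 n55973
theorem D57205 : act 8 n55973 = n57205 := rfl
theorem F256230 : act 0 n57205 = n56116 := d7_1 D57205 (iv D56116) (iv F250731)
theorem F256231 : act 1 n57205 = n56470 := d15_1 D57205 (iv D56470) (iv F250732)
theorem F256232 : act 2 n57205 = n57132 := d22_1 D57205 (iv D57132) (iv F250733)
theorem F256233 : act 4 n57205 = n55974 := d33_1 D57205 (iv D55974) (iv F250735)
theorem F256234 : act 6 n57205 = n56073 := d40_1 D57205 (iv D56073) (iv F250736)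
theorem F256235 : act 7 n57205 = n55982 := d42_1 D57205 (iv D55982) (iv F250737)
theorem F256236 : act 9 n57205 = n56081 := d44_2 D55973 D57205 (iv D56081) (iv D54660) (iv F244128)
def n57206 : Q := act 9 n55975
theorem D57206 : act 9 n55975 = n57206 := rfl
theorem F256237 : act 0 n57206 = n56657 := d8_1 D57206 (iv D56657) (iv F250746)
theorem F256238 : act 1 n57206 = n55979 := d16_1 D57206 (iv D55979) (iv F250747)
theorem F256239 : act 2 n57206 = n56008 := d23_1 D57206 (iv D56008) (iv F250748)
theorem F256240 : act 3 n57206 = n56368 := d29_1 D57206 (iv D56368) (iv F250752)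
theorem F256241 : act 4 n57206 = n55976 := d34_1 D57206 (iv D55976) D55975
theorem F256242 : act 5 n57206 = n56367 := d38_1 D57206 (iv D56367) F250753
theorem F256243 : act 6 n57206 = n56005 := d41_1 D57206 (iv D56005) (iv F250749)
theorem F256244 : act 7 n57206 = n56540 := d43_1 D57206 (iv D56540) (iv F250750)
def n57207 : Q := act 8 n55976
theorem D57207 : act 8 n55976 = n57207 := rfl
theorem F256245 : act 0 n57207 = n56697 := d7_1 D57207 (iv D56697) (iv F250754)
theorem F256246 : act 1 n57207 = n55980 := d15_1 D57207 (iv D55980) (iv F250755)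
theorem F256247 : act 2 n57207 = n56027 := d22_1 D57207 (iv D56027) (iv F250756)
theorem F256248 : act 5 n57207 = n57207 := d37_1 D57207 (iv D57207) F250758
theorem F256249 : act 6 n57207 = n56024 := d40_1 D57207 (iv D56024) (iv F250759)
theorem F256250 : act 7 n57207 = n56558 := d42_1 D57207 (iv D56558) (iv F250760)
theorem F256251 : act 9 n57207 = n56787 := d44_2 D55976 D57207 (iv D56787) (iv D55505) (iv F244142)
def n57208 : Q := act 9 n55977
theorem D57208 : act 9 n55977 = n57208 := rfl
theorem F256252 : act 0 n57208 = n56838 := d8_1 D57208 (iv D56838) (iv F250761)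
theorem F256253 : act 1 n57208 = n56368 := d16_1 D57208 (iv D56368) (iv F250762)
theorem F256254 : act 2 n57208 = n55992 := d23_1 D57208 (iv D55992) (iv F250763)
theorem F256255 : act 3 n57208 = n55979 := d29_1 D57208 (iv D55979) D55977
theorem F256256 : act 4 n57208 = n57208 := d34_1 D57208 (iv D57208) F250764
theorem F256257 : act 5 n57208 = n56364 := d38_1 D57208 (iv D56364) F250768
theorem F256258 : act 6 n57208 = n56738 := d41_1 D57208 F254756 (iv F250765)
theorem F256259 : act 7 n57208 = n57087 := d43_1 D57208 (iv D57087) (iv F250766)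
def n57209 : Q := act 9 n55978
theorem D57209 : act 9 n55978 = n57209 := rfl
theorem F256260 : act 0 n57209 = n56591 := d8_1 D57209 (iv D56591) (iv F250769)
theorem F256261 : act 1 n57209 = n56367 := d16_1 D57209 (iv D56367) (iv F250770)
theorem F256262 : act 2 n57209 = n55981 := d23_1 D57209 (iv D55981) (iv F250771)
theorem F256263 : act 3 n57209 = n56364 := d29_1 D57209 (iv D56364) (iv F250772)
theorem F256264 : act 4 n57209 = n57209 := d34_1 D57209 (iv D57209) F250773
theorem F256265 : act 5 n57209 = n55979 := d38_1 D57209 (iv D55979) D55978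
theorem F256266 : act 6 n57209 = n56517 := d41_1 D57209 (iv D56517) (iv F250774)
theorem F256267 : act 7 n57209 = n56676 := d43_1 D57209 (iv D56676) (iv F250775)
def n57210 : Q := act 8 n55979
theorem D57210 : act 8 n55979 = n57210 := rfl
theorem F256268 : act 0 n57210 = n56839 := d7_1 D57210 (iv D56839) (iv F250777)
theorem F256269 : act 2 n57210 = n55982 := d22_1 D57210 (iv D55982) (iv F250778)
theorem F256270 : act 4 n57210 = n55980 := d33_1 D57210 (iv D55980) (iv F250779)
theorem F256271 : act 6 n57210 = n56767 := d40_1 D57210 (iv D56767) (iv F250780)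
theorem F256272 : act 7 n57210 = n57132 := d42_1 D57210 (iv D57132) (iv F250781)
theorem F256273 : act 9 n57210 = n56788 := d44_2 D55979 D57210 (iv D56788) (iv D55506) (iv F244147)
def n57211 : Q := act 3 n55980
theorem D57211 : act 3 n55980 = n57211 := rfl
theorem F256274 : act 0 n57211 = n56840 := d2_1 D57211 (iv D56840) (iv F250782)
theorem F256275 : act 2 n57211 = n56111 := d17_1 D57211 (iv D56111) F245044 (iv F244167) (iv F250783)
theorem F256276 : act 5 n57211 = n57211 := d25_2 F250784 D57211 (iv D57211)
theorem F256277 : act 6 n57211 = n56768 := d26_2 (iv F250785) D57211 (iv D56768)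
theorem F256278 : act 7 n57211 = n57167 := d27_2 (iv F250786) D57211 (iv D57167)
theorem F256279 : act 8 n57211 = n57211 := d28_2 D55980 D57211 (iv D57211) (iv D55980) F244150
theorem F256280 : act 9 n57211 = n56789 := d29_2 (iv F250787) D57211 (iv D56789)
def n57212 : Q := act 8 n55981
theorem D57212 : act 8 n55981 = n57212 := rfl
theorem F256281 : act 0 n57212 = n56595 := d7_1 D57212 (iv D56595) (iv F250788)
theorem F256282 : act 1 n57212 = n56473 := d15_1 D57212 (iv D56473) (iv F250789)
theorem F256283 : act 4 n57212 = n57212 := d33_1 D57212 (iv D57212) F250791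
theorem F256284 : act 5 n57212 = n55982 := d37_1 D57212 (iv D55982) (iv F250792)
theorem F256285 : act 6 n57212 = n56520 := d40_1 D57212 (iv D56520) (iv F250793)
theorem F256286 : act 9 n57212 = n56790 := d44_2 D55981 D57212 (iv D56790) (iv D55508) (iv F244159)
def n57213 : Q := act 3 n55982
theorem D57213 : act 3 n55982 = n57213 := rfl
theorem F256287 : act 0 n57213 = n56841 := d2_1 D57213 (iv D56841) (iv F250794)
theorem F256288 : act 1 n57213 = n56474 := d10_1 D57213 (iv D56474) (iv F250795)
theorem F256289 : act 4 n57213 = n56113 := d24_2 (iv F250796) D57213 (iv D56113) F245054 (iv F244167)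
theorem F256290 : act 6 n57213 = n56769 := d26_2 (iv F250797) D57213 (iv D56769)
theorem F256291 : act 8 n57213 = n55996 := d28_2 D55982 D57213 (iv D55996) (iv D54563) (iv F244162)
theorem F256292 : act 9 n57213 = n56791 := d29_2 (iv F250798) D57213 (iv D56791)
def n57214 : Q := act 8 n55983
theorem D57214 : act 8 n55983 = n57214 := rfl
theorem F256293 : act 0 n57214 = n56103 := d7_1 D57214 (iv D56103) (iv F250799)
theorem F256294 : act 1 n57214 = n56476 := d15_1 D57214 (iv D56476) (iv F250800)
theorem F256295 : act 2 n57214 = n56873 := d22_1 D57214 (iv D56873) (iv F250801)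
theorem F256296 : act 4 n57214 = n55984 := d33_1 D57214 (iv D55984) (iv F250803)
theorem F256297 : act 5 n57214 = n56969 := d37_1 D57214 (iv D56969) (iv F250804)
theorem F256298 : act 6 n57214 = n55990 := d40_1 D57214 (iv D55990) (iv F250805)
theorem F256299 : act 7 n57214 = n56072 := d42_1 D57214 (iv D56072) (iv F250806)
theorem F256300 : act 9 n57214 = n56004 := d44_2 D55983 D57214 (iv D56004) (iv D54573) (iv F244177)
def n57215 : Q := act 9 n55985
theorem D57215 : act 9 n55985 = n57215 := rfl
theorem F256301 : act 0 n57215 = n56585 := d8_1 D57215 (iv D56585) (iv F250815)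
theorem F256302 : act 1 n57215 = n56794 := d16_1 D57215 (iv D56794) (iv F250816)
theorem F256303 : act 2 n57215 = n57087 := d23_1 D57215 (iv D57087) (iv F250817)
theorem F256304 : act 3 n57215 = n55986 := d29_1 D57215 (iv D55986) D55985
theorem F256305 : act 4 n57215 = n57215 := d34_1 D57215 (iv D57215) F250818
theorem F256306 : act 5 n57215 = n56582 := d38_1 D57215 (iv D56582) (iv F250819)
theorem F256307 : act 6 n57215 = n56845 := d41_1 D57215 (iv D56845) (iv F250820)
theorem F256308 : act 7 n57215 = n55992 := d43_1 D57215 (iv D55992) (iv F250821)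
def n57216 : Q := act 8 n55986
theorem D57216 : act 8 n55986 = n57216 := rfl
theorem F256309 : act 0 n57216 = n57093 := d7_1 D57216 (iv D57093) (iv F250823)
theorem F256310 : act 1 n57216 = n56796 := d15_1 D57216 (iv D56796) (iv F250824)
theorem F256311 : act 2 n57216 = n55990 := d22_1 D57216 (iv D55990) (iv F250825)
theorem F256312 : act 4 n57216 = n55987 := d33_1 D57216 (iv D55987) (iv F250826)
theorem F256313 : act 5 n57216 = n56792 := d37_1 D57216 (iv D56792) (iv F250827)
theorem F256314 : act 6 n57216 = n56873 := d40_1 D57216 (iv D56873) (iv F250828)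
theorem F256315 : act 7 n57216 = n55993 := d42_1 D57216 (iv D55993) (iv F250829)
theorem F256316 : act 9 n57216 = n56006 := d44_2 D55986 D57216 (iv D56006) (iv D54576) (iv F244192)
def n57217 : Q := act 3 n55987
theorem D57217 : act 3 n55987 = n57217 := rfl
theorem F256317 : act 0 n57217 = n57105 := d2_1 D57217 (iv D57105) (iv F250830)
theorem F256318 : act 1 n57217 = n56813 := d10_1 D57217 (iv D56813) (iv F250831)
theorem F256319 : act 2 n57217 = n56121 := d17_1 D57217 (iv D56121) F245097 (iv F244212) (iv F250832)
theorem F256320 : act 5 n57217 = n55997 := d25_2 (iv F250833) D57217 (iv D55997)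
theorem F256321 : act 6 n57217 = n56917 := d26_2 (iv F250834) D57217 (iv D56917)
theorem F256322 : act 7 n57217 = n55994 := d27_2 (iv F250835) D57217 (iv D55994)
theorem F256323 : act 8 n57217 = n57217 := d28_2 D55987 D57217 (iv D57217) (iv D55987) F244196
theorem F256324 : act 9 n57217 = n56007 := d29_2 (iv F250836) D57217 (iv D56007)
def n57218 : Q := act 9 n55988
theorem D57218 : act 9 n55988 = n57218 := rfl
theorem F256325 : act 0 n57218 = n56606 := d8_1 D57218 (iv D56606) (iv F250837)
theorem F256326 : act 1 n57218 = n56260 := d16_1 D57218 (iv D56260) (iv F250838)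
theorem F256327 : act 2 n57218 = n56786 := d23_1 D57218 (iv D56786) (iv F250839)
theorem F256328 : act 3 n57218 = n56417 := d29_1 D57218 (iv D56417) (iv F250840)
theorem F256329 : act 4 n57218 = n55998 := d34_1 D57218 (iv D55998) (iv F250841)
theorem F256330 : act 5 n57218 = n56383 := d38_1 D57218 (iv D56383) (iv F250842)
theorem F256331 : act 6 n57218 = n55989 := d41_1 D57218 (iv D55989) D55988
theorem F256332 : act 7 n57218 = n56524 := d43_1 D57218 (iv D56524) (iv F250843)
def n57219 : Q := act 8 n55989
theorem D57219 : act 8 n55989 = n57219 := rfl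
theorem F256333 : act 0 n57219 = n56619 := d7_1 D57219 (iv D56619) (iv F250845)
theorem F256334 : act 1 n57219 = n56477 := d15_1 D57219 (iv D56477) (iv F250846)
theorem F256335 : act 2 n57219 = n56792 := d22_1 D57219 (iv D56792) (iv F250847)
theorem F256336 : act 4 n57219 = n55999 := d33_1 D57219 (iv D55999) (iv F250848)
theorem F256337 : act 5 n57219 = n55990 := d37_1 D57219 (iv D55990) (iv F250849)
theorem F256338 : act 7 n57219 = n55995 := d42_1 D57219 (iv D55995) (iv F250850)
theorem F256339 : act 9 n57219 = n56009 := d44_2 D55989 D57219 (iv D56009) (iv D54579) (iv F244205)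
def n57220 : Q := act 3 n55990
theorem D57220 : act 3 n55990 = n57220 := rfl
theorem F256340 : act 0 n57220 = n57098 := d2_1 D57220 (iv D57098) (iv F250851)
theorem F256341 : act 1 n57220 = n56478 := d10_1 D57220 (iv D56478) (iv F250852)
theorem F256342 : act 4 n57220 = n56124 := d24_2 (iv F250853) D57220 (iv D56124) F245114 (iv F244212)
theorem F256343 : act 7 n57220 = n55996 := d27_2 (iv F250854) D57220 (iv D55996)
theorem F256344 : act 9 n57220 = n56010 := d29_2 (iv F250855) D57220 (iv D56010)
def n57221 : Q := act 9 n55991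
theorem D57221 : act 9 n55991 = n57221 := rfl
theorem F256345 : act 0 n57221 = n57087 := d8_1 D57221 (iv D57087) (iv F250856)
theorem F256346 : act 1 n57221 = n56109 := d16_1 D57221 (iv D56109) (iv F250857)
theorem F256347 : act 2 n57221 = n56585 := d23_1 D57221 (iv D56585) (iv F250858)
theorem F256348 : act 3 n57221 = n56017 := d29_1 D57221 (iv D56017) (iv F250859)
theorem F256349 : act 4 n57221 = n57221 := d34_1 D57221 (iv D57221) F250860
theorem F256350 : act 5 n57221 = n56106 := d38_1 D57221 (iv D56106) (iv F250861)
theorem F256351 : act 6 n57221 = n56119 := d41_1 D57221 (iv D56119) (iv F250862)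
theorem F256352 : act 7 n57221 = n56838 := d43_1 D57221 (iv D56838) (iv F250863)
def n57222 : Q := act 8 n55992
theorem D57222 : act 8 n55992 = n57222 := rfl
theorem F256353 : act 0 n57222 = n57088 := d7_1 D57222 (iv D57088) (iv F250864)
theorem F256354 : act 1 n57222 = n56804 := d15_1 D57222 (iv D56804) (iv F250865)
theorem F256355 : act 4 n57222 = n57222 := d33_1 D57222 (iv D57222) F250867
theorem F256356 : act 5 n57222 = n56801 := d37_1 D57222 (iv D56801) (iv F250868)
theorem F256357 : act 6 n57222 = n56737 := d40_1 D57222 F254749 (iv F250869)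
def n57223 : Q := act 3 n55993
theorem D57223 : act 3 n55993 = n57223 := rfl
theorem F256358 : act 0 n57223 = n57094 := d2_1 D57223 (iv D57094) (iv F250870)
theorem F256359 : act 1 n57223 = n56806 := d10_1 D57223 (iv D56806) (iv F250871)
theorem F256360 : act 5 n57223 = n56802 := d25_2 (iv F250874) D57223 (iv D56802)
theorem F256361 : act 6 n57223 = n56689 := d26_2 (iv F250875) D57223 F254569
theorem F256362 : act 9 n57223 = n56020 := d29_2 (iv F250876) D57223 (iv D56020)
def n57224 : Q := act 4 n55994
theorem D57224 : act 4 n55994 = n57224 := rfl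
theorem F256363 : act 0 n57224 = n57106 := d3_1 D57224 (iv D57106) (iv F250877)
theorem F256364 : act 1 n57224 = n56816 := d11_1 D57224 (iv D56816) (iv F250878)
theorem F256365 : act 2 n57224 = n56133 := d18_1 D57224 (iv D56133) (iv F250879)
theorem F256366 : act 6 n57224 = n56712 := d31_2 (iv F250881) D57224 F254642
theorem F256367 : act 8 n57224 = n57224 := d33_2 F250882 D57224 (iv D57224)
theorem F256368 : act 9 n57224 = n56021 := d34_2 (iv F250883) D57224 (iv D56021)
def n57225 : Q := act 3 n55995
theorem D57225 : act 3 n55995 = n57225 := rfl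
theorem F256369 : act 0 n57225 = n56620 := d2_1 D57225 (iv D56620) (iv F250884)
theorem F256370 : act 1 n57225 = n56479 := d10_1 D57225 (iv D56479) (iv F250885)
theorem F256371 : act 5 n57225 = n55996 := d25_2 (iv F250888) D57225 (iv D55996)
theorem F256372 : act 6 n57225 = n56527 := d26_2 (iv F250889) D57225 (iv D56527)
theorem F256373 : act 9 n57225 = n56022 := d29_2 (iv F250890) D57225 (iv D56022)
def n57226 : Q := act 2 n55996
theorem D57226 : act 2 n55996 = n57226 := rfl
theorem F256374 : act 0 n57226 = n57099 := d1_1 D57226 (iv D57099) (iv F250891)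
theorem F256375 : act 4 n57226 = n56137 := d18_2 (iv F250893) D57226 (iv D56137)
theorem F256376 : act 6 n57226 = n56771 := d20_2 (iv F250894) D57226 (iv D56771)
theorem F256377 : act 9 n57226 = n56023 := d23_2 (iv F250895) D57226 (iv D56023)
def n57227 : Q := act 4 n55997
theorem D57227 : act 4 n55997 = n57227 := rfl
theorem F256378 : act 0 n57227 = n57102 := d3_1 D57227 F255842 (iv F250896)
theorem F256379 : act 1 n57227 = n56531 := d11_1 D57227 F253894 (iv F250897)
theorem F256380 : act 2 n57227 = n56139 := d18_1 D57227 (iv D56139) (iv F250898)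
theorem F256381 : act 3 n57227 = n56812 := d24_1 D57227 (iv D56812) (iv D55529) (iv F244247) D55997
theorem F256382 : act 6 n57227 = n57227 := d31_2 F250899 D57227 (iv D57227)
theorem F256383 : act 7 n57227 = n56001 := d32_2 (iv F250900) D57227 (iv D56001)
theorem F256384 : act 8 n57227 = n57227 := d33_2 F250901 D57227 (iv D57227)
theorem F256385 : act 9 n57227 = n56026 := d34_2 (iv F250902) D57227 (iv D56026)
def n57228 : Q := act 8 n55998
theorem D57228 : act 8 n55998 = n57228 := rfl
theorem F256386 : act 0 n57228 = n56626 := d7_1 D57228 (iv D56626) (iv F250903)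
theorem F256387 : act 1 n57228 = n56261 := d15_1 D57228 (iv D56261) (iv F250904)
theorem F256388 : act 2 n57228 = n56787 := d22_1 D57228 (iv D56787) (iv F250905)
theorem F256389 : act 5 n57228 = n57228 := d37_1 D57228 (iv D57228) F250907
theorem F256390 : act 6 n57228 = n55999 := d40_1 D57228 (iv D55999) (iv F250908)
theorem F256391 : act 7 n57228 = n56529 := d42_1 D57228 (iv D56529) (iv F250909)
theorem F256392 : act 9 n57228 = n56027 := d44_2 D55998 D57228 (iv D56027) (iv D54595) (iv F244257)
def n57229 : Q := act 3 n55999
theorem D57229 : act 3 n55999 = n57229 := rfl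
theorem F256393 : act 0 n57229 = n56633 := d2_1 D57229 (iv D56633) (iv F250910)
theorem F256394 : act 1 n57229 = n56481 := d10_1 D57229 (iv D56481) (iv F250911)
theorem F256395 : act 5 n57229 = n56000 := d25_2 (iv F250913) D57229 (iv D56000)
theorem F256396 : act 7 n57229 = n56002 := d27_2 (iv F250914) D57229 (iv D56002)
theorem F256397 : act 8 n57229 = n57229 := d28_2 D55999 D57229 (iv D57229) (iv D55999) F244261
theorem F256398 : act 9 n57229 = n56028 := d29_2 (iv F250915) D57229 (iv D56028)
def n57230 : Q := act 2 n56000
theorem D57230 : act 2 n56000 = n57230 := rfl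
theorem F256399 : act 0 n57230 = n56638 := d1_1 D57230 (iv D56638) (iv F250916)
theorem F256400 : act 1 n57230 = n56719 := d9_1 D57230 F254665 F249606 (iv F247538) (iv F250917)
theorem F256401 : act 3 n57230 = n56706 := d17_2 D56000 D57230 F254617 (iv D55529) (iv F244266)
theorem F256402 : act 4 n57230 = n56142 := d18_2 (iv F250918) D57230 (iv D56142)
theorem F256403 : act 6 n57230 = n57230 := d20_2 F250919 D57230 (iv D57230)
theorem F256404 : act 7 n57230 = n56003 := d21_2 (iv F250920) D57230 (iv D56003)
theorem F256405 : act 8 n57230 = n57230 := d22_2 F250921 D57230 (iv D57230)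
theorem F256406 : act 9 n57230 = n56029 := d23_2 (iv F250922) D57230 (iv D56029)
def n57231 : Q := act 5 n56001
theorem D57231 : act 5 n56001 = n57231 := rfl
theorem F256407 : act 0 n57231 = n57103 := d4_1 D57231 F255847 (iv F250923)
theorem F256408 : act 1 n57231 = n56532 := d12_1 D57231 F253901 (iv F250924)
theorem F256409 : act 2 n57231 = n56143 := d19_1 D57231 (iv D56143) (iv F250925)
theorem F256410 : act 3 n57231 = n56815 := d25_1 D57231 (iv D56815) (iv F250926)
theorem F256411 : act 6 n57231 = n56720 := d35_2 (iv F250927) D57231 (iv D56720) F248714 (iv F244293)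
theorem F256412 : act 8 n57231 = n57231 := d37_2 F250928 D57231 (iv D57231)
theorem F256413 : act 9 n57231 = n56033 := d38_2 (iv F250929) D57231 (iv D56033)
def n57232 : Q := act 2 n56002
theorem D57232 : act 2 n56002 = n57232 := rfl
theorem F256414 : act 0 n57232 = n56634 := d1_1 D57232 (iv D56634) (iv F250930)
theorem F256415 : act 1 n57232 = n56720 := d9_1 D57232 F254671 F249634 (iv F247545) (iv F250931)
theorem F256416 : act 3 n57232 = n56716 := d17_2 D56002 D57232 F254658 (iv D55521) (iv F244279)
theorem F256417 : act 5 n57232 = n56003 := d19_2 (iv F250932) D57232 (iv D56003)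
theorem F256418 : act 6 n57232 = n56532 := d20_2 (iv F250933) D57232 (iv D56532)
theorem F256419 : act 8 n57232 = n57232 := d22_2 F250934 D57232 (iv D57232)
theorem F256420 : act 9 n57232 = n56034 := d23_2 (iv F250935) D57232 (iv D56034)
def n57233 : Q := act 4 n56002
theorem D57233 : act 4 n56002 = n57233 := rfl
theorem F256421 : act 0 n57233 = n56635 := d3_1 D57233 (iv D56635) (iv F250930)
theorem F256422 : act 1 n57233 = n56482 := d11_1 D57233 (iv D56482) (iv F250931)
theorem F256423 : act 5 n57233 = n56147 := d30_2 (iv F250932) D57233 (iv D56147) F245258 (iv F244285)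
theorem F256424 : act 6 n57233 = n56533 := d31_2 (iv F250933) D57233 (iv D56533)
theorem F256425 : act 8 n57233 = n57233 := d33_2 F250934 D57233 (iv D57233)
theorem F256426 : act 9 n57233 = n56035 := d34_2 (iv F250935) D57233 (iv D56035)
def n57234 : Q := act 3 n56004
theorem D57234 : act 3 n56004 = n57234 := rfl
theorem F256427 : act 0 n57234 = n57122 := d2_1 D57234 (iv D57122) (iv F250943)
theorem F256428 : act 1 n57234 = n56485 := d10_1 D57234 (iv D56485) (iv F250944)
theorem F256429 : act 4 n57234 = n56152 := d24_2 (iv F250946) D57234 (iv D56152) F245292 (iv F244316)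
theorem F256430 : act 5 n57234 = n56970 := d25_2 (iv F250947) D57234 (iv D56970)
theorem F256431 : act 6 n57234 = n56010 := d26_2 (iv F250948) D57234 (iv D56010)
theorem F256432 : act 7 n57234 = n56757 := d27_2 (iv F250949) D57234 (iv D56757)
theorem F256433 : act 8 n57234 = n56752 := d28_2 D56004 D57234 (iv D56752) (iv D55462) (iv F244308)
def n57235 : Q := act 8 n56005
theorem D57235 : act 8 n56005 = n57235 := rfl
theorem F256434 : act 0 n57235 = n56683 := d7_1 D57235 (iv D56683) (iv F250950)
theorem F256435 : act 1 n57235 = n56767 := d15_1 D57235 (iv D56767) (iv F250951)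
theorem F256436 : act 2 n57235 = n56009 := d22_1 D57235 (iv D56009) (iv F250952)
theorem F256437 : act 4 n57235 = n56024 := d33_1 D57235 (iv D56024) (iv F250954)
theorem F256438 : act 5 n57235 = n56006 := d37_1 D57235 (iv D56006) (iv F250955)
theorem F256439 : act 7 n57235 = n56019 := d42_1 D57235 (iv D56019) (iv F250956)
theorem F256440 : act 9 n57235 = n56792 := d44_2 D56005 D57235 (iv D56792) (iv D55510) (iv F244326)
def n57236 : Q := act 3 n56006
theorem D57236 : act 3 n56006 = n57236 := rfl
theorem F256441 : act 0 n57236 = n57139 := d2_1 D57236 (iv D57139) (iv F250957)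
theorem F256442 : act 1 n57236 = n57044 := d10_1 D57236 (iv D57044) (iv F250958)
theorem F256443 : act 6 n57236 = n56874 := d26_2 (iv F250961) D57236 (iv D56874)
theorem F256444 : act 7 n57236 = n56020 := d27_2 (iv F250962) D57236 (iv D56020)
theorem F256445 : act 8 n57236 = n56864 := d28_2 D56006 D57236 (iv D56864) (iv D55586) (iv F244330)
def n57237 : Q := act 4 n56007
theorem D57237 : act 4 n56007 = n57237 := rfl
theorem F256446 : act 0 n57237 = n57157 := d3_1 D57237 (iv D57157) (iv F250963)
theorem F256447 : act 1 n57237 = n57045 := d11_1 D57237 (iv D57045) (iv F250964)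
theorem F256448 : act 2 n57237 = n56158 := d18_1 D57237 (iv D56158) (iv F250965)
theorem F256449 : act 6 n57237 = n56918 := d31_2 (iv F250967) D57237 (iv D56918)
theorem F256450 : act 7 n57237 = n56021 := d32_2 (iv F250968) D57237 (iv D56021)
theorem F256451 : act 8 n57237 = n56042 := d33_2 (iv F250969) D57237 (iv D56042)
def n57238 : Q := act 8 n56008
theorem D57238 : act 8 n56008 = n57238 := rfl
theorem F256452 : act 0 n57238 = n56662 := d7_1 D57238 (iv D56662) (iv F250970)
theorem F256453 : act 1 n57238 = n56471 := d15_1 D57238 (iv D56471) (iv F250971)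
theorem F256454 : act 4 n57238 = n56027 := d33_1 D57238 (iv D56027) (iv F250973)
theorem F256455 : act 5 n57238 = n56384 := d37_1 D57238 (iv D56384) (iv F250974)
theorem F256456 : act 6 n57238 = n56009 := d40_1 D57238 (iv D56009) (iv F250975)
theorem F256457 : act 7 n57238 = n56543 := d42_1 D57238 (iv D56543) (iv F250976)
def n57239 : Q := act 3 n56009
theorem D57239 : act 3 n56009 = n57239 := rfl
theorem F256458 : act 0 n57239 = n56690 := d2_1 D57239 (iv D56690) (iv F250977)
theorem F256459 : act 1 n57239 = n56487 := d10_1 D57239 (iv D56487) (iv F250978)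
theorem F256460 : act 5 n57239 = n56010 := d25_2 (iv F250980) D57239 (iv D56010)
theorem F256461 : act 7 n57239 = n56022 := d27_2 (iv F250981) D57239 (iv D56022)
def n57240 : Q := act 2 n56010
theorem D57240 : act 2 n56010 = n57240 := rfl
theorem F256462 : act 0 n57240 = n57148 := d1_1 D57240 (iv D57148) (iv F250982)
theorem F256463 : act 4 n57240 = n56162 := d18_2 (iv F250984) D57240 (iv D56162)
theorem F256464 : act 7 n57240 = n56023 := d21_2 (iv F250985) D57240 (iv D56023)
def n57241 : Q := act 9 n56011
theorem D57241 : act 9 n56011 = n57241 := rfl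
theorem F256465 : act 0 n57241 = n56546 := d8_1 D57241 (iv D56546) (iv F250986)
theorem F256466 : act 1 n57241 = n56017 := d16_1 D57241 (iv D56017) (iv F250987)
theorem F256467 : act 2 n57241 = n56128 := d23_1 D57241 (iv D56128) (iv F250988)
theorem F256468 : act 3 n57241 = n56109 := d29_1 D57241 (iv D56109) (iv F250989)
theorem F256469 : act 4 n57241 = n56043 := d34_1 D57241 (iv D56043) (iv F250990)
theorem F256470 : act 5 n57241 = n56108 := d38_1 D57241 (iv D56108) (iv F250991)
theorem F256471 : act 6 n57241 = n56117 := d41_1 D57241 (iv D56117) (iv F250992)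
theorem F256472 : act 7 n57241 = n56744 := d43_1 D57241 F254783 (iv F250993)
def n57242 : Q := act 8 n56012
theorem D57242 : act 8 n56012 = n57242 := rfl
theorem F256473 : act 0 n57242 = n56854 := d7_1 D57242 (iv D56854) (iv F250994)
theorem F256474 : act 1 n57242 = n56018 := d15_1 D57242 (iv D56018) (iv F250995)
theorem F256475 : act 2 n57242 = n56639 := d22_1 D57242 (iv D56639) (iv F250996)
theorem F256476 : act 4 n57242 = n56044 := d33_1 D57242 (iv D56044) (iv F250998)
theorem F256477 : act 5 n57242 = n56782 := d37_1 D57242 (iv D56782) (iv F250999)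
theorem F256478 : act 6 n57242 = n56155 := d40_1 D57242 (iv D56155) (iv F251000)
theorem F256479 : act 7 n57242 = n56736 := d42_1 D57242 F254745 (iv F251001)
def n57243 : Q := act 3 n56013
theorem D57243 : act 3 n56013 = n57243 := rfl
theorem F256480 : act 0 n57243 = n56857 := d2_1 D57243 (iv D56857) (iv F251002)
theorem F256481 : act 1 n57243 = n56020 := d10_1 D57243 (iv D56020) (iv F251003)
theorem F256482 : act 5 n57243 = n56783 := d25_2 (iv F251006) D57243 (iv D56783)
theorem F256483 : act 6 n57243 = n56774 := d26_2 (iv F251007) D57243 (iv D56774)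
theorem F256484 : act 7 n57243 = n57044 := d27_2 (iv F251008) D57243 (iv D57044)
theorem F256485 : act 9 n57243 = n56806 := d29_2 (iv F251009) D57243 (iv D56806)
def n57244 : Q := act 4 n56014
theorem D57244 : act 4 n56014 = n57244 := rfl
theorem F256486 : act 0 n57244 = n56501 := d3_1 D57244 (iv D56501) (iv F251010)
theorem F256487 : act 1 n57244 = n56021 := d11_1 D57244 (iv D56021) (iv F251011)
theorem F256488 : act 2 n57244 = n56468 := d18_1 D57244 (iv D56468) (iv F251012)
theorem F256489 : act 5 n57244 = n56566 := d30_2 (iv F251013) D57244 (iv D56566) F247997 F244460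
theorem F256490 : act 6 n57244 = n56775 := d31_2 (iv F251014) D57244 (iv D56775)
theorem F256491 : act 7 n57244 = n57045 := d32_2 (iv F251015) D57244 (iv D57045)
theorem F256492 : act 8 n57244 = n56046 := d33_2 (iv F251016) D57244 (iv D56046)
theorem F256493 : act 9 n57244 = n56816 := d34_2 (iv F251017) D57244 (iv D56816)
def n57245 : Q := act 9 n56015
theorem D57245 : act 9 n56015 = n57245 := rfl
theorem F256494 : act 0 n57245 = n56676 := d8_1 D57245 (iv D56676) (iv F251018)
theorem F256495 : act 1 n57245 = n56108 := d16_1 D57245 (iv D56108) (iv F251019)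
theorem F256496 : act 2 n57245 = n56115 := d23_1 D57245 (iv D56115) (iv F251020)
theorem F256497 : act 3 n57245 = n56106 := d29_1 D57245 (iv D56106) (iv F251021)
theorem F256498 : act 4 n57245 = n57245 := d34_1 D57245 (iv D57245) F251022
theorem F256499 : act 5 n57245 = n56017 := d38_1 D57245 (iv D56017) (iv F251023)
theorem F256500 : act 6 n57245 = n56549 := d41_1 D57245 (iv D56549) (iv F251024)
theorem F256501 : act 7 n57245 = n56591 := d43_1 D57245 (iv D56591) (iv F251025)
def n57246 : Q := act 8 n56016
theorem D57246 : act 8 n56016 = n57246 := rfl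
theorem F256502 : act 0 n57246 = n56677 := d7_1 D57246 (iv D56677) (iv F251026)
theorem F256503 : act 1 n57246 = n56782 := d15_1 D57246 (iv D56782) (iv F251027)
theorem F256504 : act 2 n57246 = n56151 := d22_1 D57246 (iv D56151) (iv F251028)
theorem F256505 : act 4 n57246 = n57246 := d33_1 D57246 (iv D57246) F251030
theorem F256506 : act 5 n57246 = n56018 := d37_1 D57246 (iv D56018) (iv F251031)
theorem F256507 : act 6 n57246 = n56550 := d40_1 D57246 (iv D56550) (iv F251032)
theorem F256508 : act 7 n57246 = n56863 := d42_1 D57246 (iv D56863) (iv F251033)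
def n57247 : Q := act 8 n56017
theorem D57247 : act 8 n56017 = n57247 := rfl
theorem F256509 : act 0 n57247 = n57132 := d7_1 D57247 (iv D57132) (iv F251034)
theorem F256510 : act 2 n57247 = n56116 := d22_1 D57247 (iv D56116) (iv F251035)
theorem F256511 : act 4 n57247 = n56047 := d33_1 D57247 (iv D56047) (iv F251036)
theorem F256512 : act 6 n57247 = n56120 := d40_1 D57247 (iv D56120) (iv F251037)
theorem F256513 : act 7 n57247 = n56839 := d42_1 D57247 (iv D56839) (iv F251038)
theorem F256514 : act 9 n57247 = n56018 := d44_2 D56017 D57247 (iv D56018) (iv D54586) D54585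
def n57248 : Q := act 3 n56018
theorem D57248 : act 3 n56018 = n57248 := rfl
theorem F256515 : act 0 n57248 = n57133 := d2_1 D57248 (iv D57133) (iv F251039)
theorem F256516 : act 6 n57248 = n56157 := d26_2 (iv F251042) D57248 (iv D56157)
theorem F256517 : act 7 n57248 = n56864 := d27_2 (iv F251043) D57248 (iv D56864)
theorem F256518 : act 8 n57248 = n56020 := d28_2 D56018 D57248 (iv D56020) (iv D54588) (iv F244390)
def n57249 : Q := act 3 n56019
theorem D57249 : act 3 n56019 = n57249 := rfl
theorem F256519 : act 0 n57249 = n56684 := d2_1 D57249 (iv D56684) (iv F251044)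
theorem F256520 : act 1 n57249 = n56783 := d10_1 D57249 (iv D56783) (iv F251045)
theorem F256521 : act 5 n57249 = n56020 := d25_2 (iv F251048) D57249 (iv D56020)
theorem F256522 : act 6 n57249 = n56553 := d26_2 (iv F251049) D57249 (iv D56553)
theorem F256523 : act 9 n57249 = n56802 := d29_2 (iv F251050) D57249 (iv D56802)
def n57250 : Q := act 2 n56020
theorem D57250 : act 2 n56020 = n57250 := rfl
theorem F256524 : act 0 n57250 = n57140 := d1_1 D57250 (iv D57140) (iv F251051)
theorem F256525 : act 3 n57250 = n56023 := d17_2 D56020 D57250 (iv D56023) (iv D54591) (iv F244401)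
theorem F256526 : act 6 n57250 = n56776 := d20_2 (iv F251052) D57250 (iv D56776)
def n57251 : Q := act 4 n56020
theorem D57251 : act 4 n56020 = n57251 := rfl
theorem F256527 : act 0 n57251 = n57141 := d3_1 D57251 (iv D57141) (iv F251051)
theorem F256528 : act 3 n57251 = n56021 := d24_1 D57251 (iv D56021) (iv D54589) (iv F244402) D56020
theorem F256529 : act 6 n57251 = n56777 := d31_2 (iv F251052) D57251 (iv D56777)
def n57252 : Q := act 5 n56021
theorem D57252 : act 5 n56021 = n57252 := rfl
theorem F256530 : act 0 n57252 = n57156 := d4_1 D57252 F255959 (iv F251053)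
theorem F256531 : act 1 n57252 = n56566 := d12_1 D57252 (iv F256489) F256487
theorem F256532 : act 2 n57252 = n56178 := d19_1 D57252 (iv D56178) (iv F251054)
theorem F256533 : act 4 n57252 = n56033 := d30_1 D57252 (iv D56033) (iv D54601) (iv F244406) D56021
theorem F256534 : act 8 n57252 = n56050 := d37_2 (iv F251056) D57252 (iv D56050)
def n57253 : Q := act 2 n56022
theorem D57253 : act 2 n56022 = n57253 := rfl
theorem F256535 : act 0 n57253 = n56691 := d1_1 D57253 (iv D56691) (iv F251057)
theorem F256536 : act 5 n57253 = n56023 := d19_2 (iv F251059) D57253 (iv D56023)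
theorem F256537 : act 6 n57253 = n56555 := d20_2 (iv F251060) D57253 (iv D56555)
def n57254 : Q := act 4 n56022
theorem D57254 : act 4 n56022 = n57254 := rfl
theorem F256538 : act 0 n57254 = n56692 := d3_1 D57254 (iv D56692) (iv F251057)
theorem F256539 : act 1 n57254 = n56496 := d11_1 D57254 (iv D56496) (iv F251058)
theorem F256540 : act 3 n57254 = n56035 := d24_1 D57254 (iv D56035) (iv D54602) (iv F244411) D56022
theorem F256541 : act 5 n57254 = n56182 := d30_2 (iv F251059) D57254 (iv D56182) F245445 (iv F244416)
theorem F256542 : act 6 n57254 = n56556 := d31_2 (iv F251060) D57254 (iv D56556)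
def n57255 : Q := act 1 n56023
theorem D57255 : act 1 n56023 = n57255 := rfl
theorem F256543 : act 2 n57255 = n56497 := d9_2 D56023 D57255 (iv D56497) (iv D55174) (iv F244415)
theorem F256544 : act 4 n57255 = n56183 := d11_2 (iv F251062) D57255 (iv D56183)
theorem F256545 : act 6 n57255 = n56778 := d13_2 (iv F251063) D57255 (iv D56778)
def n57256 : Q := act 3 n56024
theorem D57256 : act 3 n56024 = n57256 := rfl
theorem F256546 : act 0 n57256 = n56709 := d2_1 D57256 (iv D56709) (iv F251064)
theorem F256547 : act 1 n57256 = n56768 := d10_1 D57256 (iv D56768) (iv F251065)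
theorem F256548 : act 5 n57256 = n56025 := d25_2 (iv F251067) D57256 (iv D56025)
theorem F256549 : act 7 n57256 = n56030 := d27_2 (iv F251068) D57256 (iv D56030)
theorem F256550 : act 8 n57256 = n57256 := d28_2 D56024 D57256 (iv D57256) (iv D56024) F244421
theorem F256551 : act 9 n57256 = n56793 := d29_2 (iv F251069) D57256 (iv D56793)
def n57257 : Q := act 2 n56025
theorem D57257 : act 2 n56025 = n57257 := rfl
theorem F256552 : act 0 n57257 = n56630 := d1_1 D57257 F254342 (iv F251070)
theorem F256553 : act 1 n57257 = n57102 := d9_1 D57257 (iv D57102) F250183 (iv F249114) (iv F251071)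
theorem F256554 : act 3 n57257 = n56029 := d17_2 D56025 D57257 (iv D56029) (iv D54597) (iv F244426)
theorem F256555 : act 6 n57257 = n57257 := d20_2 F251072 D57257 (iv D57257)
theorem F256556 : act 7 n57257 = n56031 := d21_2 (iv F251073) D57257 (iv D56031)
theorem F256557 : act 8 n57257 = n57257 := d22_2 F251074 D57257 (iv D57257)
theorem F256558 : act 9 n57257 = n56706 := d23_2 (iv F251075) D57257 F254617
theorem F256559 : act 4 n56908 = n57257 := d34_3 F256558 F254618 (iv F255397)
def n57258 : Q := act 4 n56025
theorem D57258 : act 4 n56025 = n57258 := rfl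
theorem F256560 : act 0 n57258 = n56719 := d3_1 D57258 (iv D56719) (iv F251070)
theorem F256561 : act 1 n57258 = n56560 := d11_1 D57258 F254028 (iv F251071)
theorem F256562 : act 2 n57258 = n56908 := d18_1 D57258 F256559 (iv D57257)
theorem F256563 : act 3 n57258 = n56026 := d24_1 D57258 (iv D56026) (iv D54594) (iv F244427) D56025
theorem F256564 : act 6 n57258 = n57258 := d31_2 F251072 D57258 (iv D57258)
theorem F256565 : act 7 n57258 = n56032 := d32_2 (iv F251073) D57258 (iv D56032)
theorem F256566 : act 8 n57258 = n57258 := d33_2 F251074 D57258 (iv D57258)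
theorem F256567 : act 9 n57258 = n56812 := d34_2 (iv F251075) D57258 (iv D56812)
def n57259 : Q := act 5 n56026
theorem D57259 : act 5 n56026 = n57259 := rfl
theorem F256568 : act 0 n57259 = n57151 := d4_1 D57259 F255940 (iv F251076)
theorem F256569 : act 1 n57259 = n56562 := d12_1 D57259 F254038 (iv F251077)
theorem F256570 : act 2 n57259 = n56186 := d19_1 D57259 (iv D56186) (iv F251078)
theorem F256571 : act 7 n57259 = n56033 := d36_2 (iv F251080) D57259 (iv D56033)
theorem F256572 : act 8 n57259 = n56051 := d37_2 (iv F251081) D57259 (iv D56051)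
def n57260 : Q := act 3 n56027
theorem D57260 : act 3 n56027 = n57260 := rfl
theorem F256573 : act 0 n57260 = n56701 := d2_1 D57260 (iv D56701) (iv F251082)
theorem F256574 : act 1 n57260 = n56472 := d10_1 D57260 (iv D56472) (iv F251083)
theorem F256575 : act 5 n57260 = n57260 := d25_2 F251084 D57260 (iv D57260)
theorem F256576 : act 6 n57260 = n56028 := d26_2 (iv F251085) D57260 (iv D56028)
theorem F256577 : act 7 n57260 = n56561 := d27_2 (iv F251086) D57260 (iv D56561)
theorem F256578 : act 8 n57260 = n56037 := d28_2 D56027 D57260 (iv D56037) (iv D54607) (iv F244439)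
def n57261 : Q := act 2 n56028
theorem D57261 : act 2 n56028 = n57261 := rfl
theorem F256579 : act 0 n57261 = n56713 := d1_1 D57261 (iv D56713) (iv F251087)
theorem F256580 : act 1 n57261 = n57066 := d9_1 D57261 (iv D57066) F250102 (iv F247623) (iv F251088)
theorem F256581 : act 5 n57261 = n56029 := d19_2 (iv F251089) D57261 (iv D56029)
theorem F256582 : act 7 n57261 = n56034 := d21_2 (iv F251090) D57261 (iv D56034)
theorem F256583 : act 8 n57261 = n56038 := d22_2 (iv F251091) D57261 (iv D56038)
def n57262 : Q := act 4 n56028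
theorem D57262 : act 4 n56028 = n57262 := rfl
theorem F256584 : act 0 n57262 = n56714 := d3_1 D57262 (iv D56714) (iv F251087)
theorem F256585 : act 1 n57262 = n56498 := d11_1 D57262 (iv D56498) (iv F251088)
theorem F256586 : act 5 n57262 = n56190 := d30_2 (iv F251089) D57262 (iv D56190) F245477 (iv F244449)
theorem F256587 : act 7 n57262 = n56035 := d32_2 (iv F251090) D57262 (iv D56035)
theorem F256588 : act 8 n57262 = n56039 := d33_2 (iv F251091) D57262 (iv D56039)
def n57263 : Q := act 2 n56030
theorem D57263 : act 2 n56030 = n57263 := rfl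
theorem F256589 : act 0 n57263 = n56636 := d1_1 D57263 F254374 (iv F251098)
theorem F256590 : act 1 n57263 = n57103 := d9_1 D57263 (iv D57103) F250189 (iv F249106) (iv F251099)
theorem F256591 : act 3 n57263 = n56034 := d17_2 D56030 D57263 (iv D56034) (iv D54602) (iv F244463)
theorem F256592 : act 5 n57263 = n56031 := d19_2 (iv F251100) D57263 (iv D56031)
theorem F256593 : act 6 n57263 = n56564 := d20_2 (iv F251101) D57263 (iv D56564)
theorem F256594 : act 8 n57263 = n57263 := d22_2 F251102 D57263 (iv D57263)
theorem F256595 : act 9 n57263 = n56716 := d23_2 (iv F251103) D57263 F254658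
def n57264 : Q := act 4 n56030
theorem D57264 : act 4 n56030 = n57264 := rfl
theorem F256596 : act 0 n57264 = n56710 := d3_1 D57264 (iv D56710) (iv F251098)
theorem F256597 : act 1 n57264 = n56784 := d11_1 D57264 (iv D56784) (iv F251099)
theorem F256598 : act 6 n57264 = n56565 := d31_2 (iv F251101) D57264 (iv D56565)
theorem F256599 : act 8 n57264 = n57264 := d33_2 F251102 D57264 (iv D57264)
theorem F256600 : act 9 n57264 = n56803 := d34_2 (iv F251103) D57264 (iv D56803)
def n57265 : Q := act 5 n56032
theorem D57265 : act 5 n56032 = n57265 := rfl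
theorem F256601 : act 0 n57265 = n56720 := d4_1 D57265 (iv D56720) (iv F251111)
theorem F256602 : act 1 n57265 = n56564 := d12_1 D57265 F254046 (iv F251112)
theorem F256603 : act 2 n57265 = n56912 := d19_1 D57265 F255410 (iv F251113)
theorem F256604 : act 3 n57265 = n56033 := d25_1 D57265 (iv D56033) (iv F251114)
theorem F256605 : act 6 n57265 = n57103 := d35_2 (iv F251115) D57265 F255847 F250194 (iv F244498)
theorem F256606 : act 8 n57265 = n57265 := d37_2 F251116 D57265 (iv D57265)
theorem F256607 : act 9 n57265 = n56815 := d38_2 (iv F251117) D57265 (iv D56815)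
def n57266 : Q := act 6 n56033
theorem D57266 : act 6 n56033 = n57266 := rfl
theorem F256608 : act 0 n57266 = n56815 := d5_1 D57266 F255080 (iv F251118)
theorem F256609 : act 1 n57266 = n56034 := d13_1 D57266 F251124 (iv F251119)
theorem F256610 : act 2 n57266 = n56194 := d20_1 D57266 (iv D56194) (iv F251120)
theorem F256611 : act 3 n57266 = n57103 := d26_1 D57266 (iv F256605) F256604
theorem F256612 : act 5 n57266 = n56036 := d35_1 D57266 F251135 (iv D54606) (iv F244475) D56033
theorem F256613 : act 8 n57266 = n56040 := d40_2 (iv F251121) D57266 F251161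
theorem F256614 : act 9 n57266 = n56720 := d41_2 F256413 D57266 (iv F256411)
theorem F256615 : act 7 n57066 = n57266 := d42_3 F256613 F251162 (iv F255764)
def n57267 : Q := act 4 n56034
theorem D57267 : act 4 n56034 = n57267 := rfl
theorem F256616 : act 0 n57267 = n56715 := d3_1 D57267 (iv D56715) (iv F251122)
theorem F256617 : act 2 n57267 = n56035 := d18_1 D57267 (iv D56035) D56034
theorem F256618 : act 5 n57267 = n56198 := d30_2 (iv F251123) D57267 (iv D56198) F245533 (iv F244483)
theorem F256619 : act 6 n57267 = n56566 := d31_2 (iv F251124) D57267 (iv D56566)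
theorem F256620 : act 8 n57267 = n56041 := d33_2 (iv F251125) D57267 (iv D56041)
def n57268 : Q := act 2 n56037
theorem D57268 : act 2 n56037 = n57268 := rfl
theorem F256621 : act 0 n57268 = n56721 := d1_1 D57268 (iv D56721) (iv F251139)
theorem F256622 : act 1 n57268 = n56741 := d9_1 D57268 (iv D56741) F248838 (iv F247648) (iv F251140)
theorem F256623 : act 3 n57268 = n57268 := d17_2 D56037 D57268 (iv D57268) (iv D56037) F244512
theorem F256624 : act 5 n57268 = n57268 := d19_2 F251141 D57268 (iv D57268)
theorem F256625 : act 6 n57268 = n56038 := d20_2 (iv F251142) D57268 (iv D56038)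
theorem F256626 : act 7 n57268 = n56567 := d21_2 (iv F251143) D57268 (iv D56567)
theorem F256627 : act 9 n57268 = n57268 := d23_2 F251144 D57268 (iv D57268)
def n57269 : Q := act 4 n56037
theorem D57269 : act 4 n56037 = n57269 := rfl
theorem F256628 : act 0 n57269 = n56722 := d3_1 D57269 (iv D56722) (iv F251139)
theorem F256629 : act 1 n57269 = n56502 := d11_1 D57269 (iv D56502) (iv F251140)
theorem F256630 : act 3 n57269 = n56931 := d24_1 D57269 (iv D56931) (iv D55664) (iv F244513) D56037
theorem F256631 : act 6 n57269 = n56039 := d31_2 (iv F251142) D57269 (iv D56039)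
theorem F256632 : act 7 n57269 = n56568 := d32_2 (iv F251143) D57269 (iv D56568)
theorem F256633 : act 9 n57269 = n57269 := d34_2 F251144 D57269 (iv D57269)
def n57270 : Q := act 4 n56038
theorem D57270 : act 4 n56038 = n57270 := rfl
theorem F256634 : act 0 n57270 = n56729 := d3_1 D57270 (iv D56729) (iv F251145)
theorem F256635 : act 1 n57270 = n57162 := d11_1 D57270 (iv D57162) (iv F251146)
theorem F256636 : act 2 n57270 = n56039 := d18_1 D57270 (iv D56039) D56038
theorem F256637 : act 5 n57270 = n56202 := d30_2 (iv F251148) D57270 (iv D56202) F245579 (iv F244526)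
theorem F256638 : act 7 n57270 = n56041 := d32_2 (iv F251149) D57270 (iv D56041)
theorem F256639 : act 9 n57270 = n57270 := d34_2 F251150 D57270 (iv D57270)
theorem F256640 : act 3 n56743 = n57270 := d25_3 F256637 F252130 D56743
def n57271 : Q := act 4 n56040
theorem D57271 : act 4 n56040 = n57271 := rfl
theorem F256641 : act 0 n57271 = n56826 := d3_1 D57271 F255131 (iv F251157)
theorem F256642 : act 1 n57271 = n56041 := d11_1 D57271 (iv D56041) D56040
theorem F256643 : act 2 n57271 = n56219 := d18_1 D57271 F252229 (iv F251158)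
theorem F256644 : act 5 n57271 = n56206 := d30_2 (iv F251160) D57271 (iv D56206) F245611 (iv F244543)
theorem F256645 : act 6 n57271 = n56050 := d31_2 (iv F251161) D57271 F251224
theorem F256646 : act 7 n57271 = n57162 := d32_2 (iv F251162) D57271 (iv D57162)
theorem F256647 : act 9 n57271 = n57271 := d34_2 F251163 D57271 (iv D57271)
def n57272 : Q := act 3 n56041
theorem D57272 : act 3 n56041 = n57272 := rfl
theorem F256648 : act 0 n57272 = n56730 := d2_1 D57272 (iv D56730) (iv F251164)
theorem F256649 : act 4 n57272 = n57272 := d24_2 D56041 D57272 (iv D57272) (iv D56041) F244531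
theorem F256650 : act 5 n57272 = n56207 := d25_2 (iv F251166) D57272 (iv D56207)
theorem F256651 : act 6 n57272 = n56570 := d26_2 (iv F251167) D57272 (iv D56570)
theorem F256652 : act 7 n57272 = n56743 := d27_2 F256638 D57272 F256640
theorem F256653 : act 9 n57272 = n57272 := d29_2 F251168 D57272 (iv D57272)
def n57273 : Q := act 5 n56042
theorem D57273 : act 5 n56042 = n57273 := rfl
theorem F256654 : act 0 n57273 = n57171 := d4_1 D57273 (iv D57171) (iv F251169)
theorem F256655 : act 1 n57273 = n56569 := d12_1 D57273 F254066 (iv F251170)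
theorem F256656 : act 2 n57273 = n56209 := d19_1 D57273 (iv D56209) (iv F251171)
theorem F256657 : act 3 n57273 = n56916 := d25_1 D57273 (iv D56916) (iv F251172)
theorem F256658 : act 4 n57273 = n56051 := d30_1 D57273 (iv D56051) (iv D54622) (iv F244550) D56042
theorem F256659 : act 7 n57273 = n56050 := d36_2 (iv F251174) D57273 (iv D56050)
theorem F256660 : act 9 n57273 = n57273 := d38_2 F251175 D57273 (iv D57273)
def n57274 : Q := act 8 n56043
theorem D57274 : act 8 n56043 = n57274 := rfl
theorem F256661 : act 0 n57274 = n56572 := d7_1 D57274 (iv D56572) (iv F251176)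
theorem F256662 : act 1 n57274 = n56047 := d15_1 D57274 (iv D56047) (iv F251177)
theorem F256663 : act 2 n57274 = n56571 := d22_1 D57274 (iv D56571) (iv F251178)
theorem F256664 : act 5 n57274 = n57274 := d37_1 D57274 (iv D57274) F251180
theorem F256665 : act 6 n57274 = n56118 := d40_1 D57274 (iv D56118) (iv F251181)
theorem F256666 : act 7 n57274 = n56734 := d42_1 D57274 F254734 (iv F251182)
theorem F256667 : act 9 n57274 = n56044 := d44_2 D56043 D57274 (iv D56044) (iv D54615) D54614
def n57275 : Q := act 3 n56044
theorem D57275 : act 3 n56044 = n57275 := rfl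
theorem F256668 : act 0 n57275 = n57158 := d2_1 D57275 (iv D57158) (iv F251183)
theorem F256669 : act 1 n57275 = n56048 := d10_1 D57275 (iv D56048) (iv F251184)
theorem F256670 : act 2 n57275 = n56447 := d17_1 D57275 (iv D56447) F247318 (iv F248394) (iv F251185)
theorem F256671 : act 5 n57275 = n57275 := d25_2 F251186 D57275 (iv D57275)
theorem F256672 : act 6 n57275 = n56156 := d26_2 (iv F251187) D57275 (iv D56156)
theorem F256673 : act 7 n57275 = n56455 := d27_2 (iv F251188) D57275 F253538
theorem F256674 : act 8 n57275 = n56045 := d28_2 D56044 D57275 (iv D56045) (iv D54616) (iv F244564)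
def n57276 : Q := act 4 n56045
theorem D57276 : act 4 n56045 = n57276 := rfl
theorem F256675 : act 0 n57276 = n56504 := d3_1 D57276 F253767 (iv F251189)
theorem F256676 : act 1 n57276 = n56049 := d11_1 D57276 (iv D56049) (iv F251190)
theorem F256677 : act 2 n57276 = n56448 := d18_1 D57276 (iv D56448) (iv F251191)
theorem F256678 : act 3 n57276 = n56046 := d24_1 D57276 (iv D56046) (iv D54617) (iv F244571) D56045
theorem F256679 : act 6 n57276 = n56208 := d31_2 (iv F251193) D57276 (iv D56208)
theorem F256680 : act 7 n57276 = n56457 := d32_2 (iv F251194) D57276 (iv D56457)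
theorem F256681 : act 9 n57276 = n57276 := d34_2 F251195 D57276 (iv D57276)
theorem F256682 : act 5 n56570 = n57276 := d25_0 F256678 F251199 D56570
def n57277 : Q := act 3 n56047
theorem D57277 : act 3 n56047 = n57277 := rfl
theorem F256683 : act 0 n57277 = n57167 := d2_1 D57277 (iv D57167) (iv F251203)
theorem F256684 : act 2 n57277 = n56917 := d17_1 D57277 (iv D56917) (iv F250809) F250810 (iv F251204)
theorem F256685 : act 5 n57277 = n57277 := d25_2 F251205 D57277 (iv D57277)
theorem F256686 : act 6 n57277 = n56121 := d26_2 (iv F251206) D57277 (iv D56121)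
theorem F256687 : act 7 n57277 = n56840 := d27_2 (iv F251207) D57277 (iv D56840)
theorem F256688 : act 8 n57277 = n57277 := d28_2 D56047 D57277 (iv D57277) (iv D56047) F244585
theorem F256689 : act 9 n57277 = n56048 := d29_2 (iv F251208) D57277 (iv D56048)
def n57278 : Q := act 4 n56048
theorem D57278 : act 4 n56048 = n57278 := rfl
theorem F256690 : act 0 n57278 = n57168 := d3_1 D57278 (iv D57168) (iv F251209)
theorem F256691 : act 2 n57278 = n56918 := d18_1 D57278 (iv D56918) (iv F251210)
theorem F256692 : act 6 n57278 = n56158 := d31_2 (iv F251212) D57278 (iv D56158)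
theorem F256693 : act 7 n57278 = n56865 := d32_2 (iv F251213) D57278 (iv D56865)
theorem F256694 : act 8 n57278 = n56049 := d33_2 (iv F251214) D57278 (iv D56049)
def n57279 : Q := act 5 n56049
theorem D57279 : act 5 n56049 = n57279 := rfl
theorem F256695 : act 0 n57279 = n57170 := d4_1 D57279 (iv D57170) (iv F251215)
theorem F256696 : act 1 n57279 = n56570 := d12_1 D57279 F256682 F256676
theorem F256697 : act 2 n57279 = n56919 := d19_1 D57279 (iv D56919) (iv F251216)
theorem F256698 : act 3 n57279 = n56050 := d25_1 D57279 (iv D56050) (iv F251217)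
theorem F256699 : act 4 n57279 = n57279 := d30_1 D57279 (iv D57279) (iv D56049) F244596 D56049
theorem F256700 : act 7 n57279 = n56916 := d36_2 (iv F251219) D57279 (iv D56916)
theorem F256701 : act 9 n57279 = n57279 := d38_2 F251220 D57279 (iv D57279)
def n57280 : Q := act 6 n56051
theorem D57280 : act 6 n56051 = n57280 := rfl
theorem F256702 : act 0 n57280 = n56824 := d5_1 D57280 F255123 (iv F251226)
theorem F256703 : act 1 n57280 = n56567 := d13_1 D57280 F254059 (iv F251227)
theorem F256704 : act 2 n57280 = n56220 := d20_1 D57280 (iv D56220) (iv F251228)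
theorem F256705 : act 3 n57280 = n57280 := d26_1 D57280 (iv D57280) F251229
theorem F256706 : act 5 n57280 = n57280 := d35_1 D57280 (iv D57280) (iv D56051) F244608 D56051
theorem F256707 : act 7 n57280 = n56741 := d39_2 (iv F251230) D57280 F254772 (iv F251162) F251161
theorem F256708 : act 9 n57280 = n57280 := d41_2 F251231 D57280 (iv D57280)
def n57281 : Q := act 8 n56052
theorem D57281 : act 8 n56052 = n57281 := rfl
theorem F256709 : act 0 n57281 = n56505 := d7_1 D57281 (iv D56505) (iv F251232)
theorem F256710 : act 1 n57281 = n56073 := d15_1 D57281 (iv D56073) (iv F251233)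
theorem F256711 : act 2 n57281 = n56493 := d22_1 D57281 (iv D56493) (iv F251234)
theorem F256712 : act 4 n57281 = n56053 := d33_1 D57281 (iv D56053) (iv F251236)
theorem F256713 : act 5 n57281 = n56508 := d37_1 D57281 (iv D56508) (iv F251237)
theorem F256714 : act 6 n57281 = n56470 := d40_1 D57281 (iv D56470) (iv F251238)
theorem F256715 : act 7 n57281 = n56054 := d42_1 D57281 (iv D56054) (iv F251239)
theorem F256716 : act 9 n57281 = n56062 := d44_2 D56052 D57281 (iv D56062) (iv D54634) (iv F244623)
def n57282 : Q := act 3 n56054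
theorem D57282 : act 3 n56054 = n57282 := rfl
theorem F256717 : act 0 n57282 = n56506 := d2_1 D57282 (iv D56506) (iv F251248)
theorem F256718 : act 1 n57282 = n56078 := d10_1 D57282 (iv D56078) (iv F251249)
theorem F256719 : act 4 n57282 = n56860 := d24_2 (iv F251251) D57282 (iv D56860) F249448 (iv F244641)
theorem F256720 : act 5 n57282 = n56512 := d25_2 (iv F251252) D57282 (iv D56512)
theorem F256721 : act 6 n57282 = n56491 := d26_2 (iv F251253) D57282 (iv D56491)
theorem F256722 : act 8 n57282 = n57012 := d28_2 D56054 D57282 (iv D57012) (iv D55754) (iv F244634)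
theorem F256723 : act 9 n57282 = n56067 := d29_2 (iv F251254) D57282 (iv D56067)
def n57283 : Q := act 9 n56055
theorem D57283 : act 9 n56055 = n57283 := rfl
theorem F256724 : act 0 n57283 = n56412 := d8_1 D57283 (iv D56412) (iv F251255)
theorem F256725 : act 1 n57283 = n56524 := d16_1 D57283 (iv D56524) (iv F251256)
theorem F256726 : act 2 n57283 = n56058 := d23_1 D57283 (iv D56058) (iv F251257)
theorem F256727 : act 3 n57283 = n56940 := d29_1 D57283 (iv D56940) (iv F251261)
theorem F256728 : act 4 n57283 = n56056 := d34_1 D57283 (iv D56056) D56055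
theorem F256729 : act 5 n57283 = n56933 := d38_1 D57283 (iv D56933) F251262
theorem F256730 : act 6 n57283 = n56060 := d41_1 D57283 (iv D56060) (iv F251258)
theorem F256731 : act 7 n57283 = n56260 := d43_1 D57283 (iv D56260) (iv F251259)
def n57284 : Q := act 8 n56056
theorem D57284 : act 8 n56056 = n57284 := rfl
theorem F256732 : act 0 n57284 = n56451 := d7_1 D57284 (iv D56451) (iv F251263)
theorem F256733 : act 1 n57284 = n56529 := d15_1 D57284 (iv D56529) (iv F251264)
theorem F256734 : act 2 n57284 = n56059 := d22_1 D57284 (iv D56059) (iv F251265)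
theorem F256735 : act 5 n57284 = n57284 := d37_1 D57284 (iv D57284) F251267
theorem F256736 : act 6 n57284 = n56061 := d40_1 D57284 (iv D56061) (iv F251268)
theorem F256737 : act 7 n57284 = n56261 := d42_1 D57284 (iv D56261) (iv F251269)
theorem F256738 : act 9 n57284 = n56449 := d44_2 D56056 D57284 (iv D56449) (iv D55117) (iv F244659)
def n57285 : Q := act 9 n56057
theorem D57285 : act 9 n56057 = n57285 := rfl
theorem F256739 : act 0 n57285 = n56267 := d8_1 D57285 (iv D56267) (iv F251270)
theorem F256740 : act 1 n57285 = n56080 := d16_1 D57285 (iv D56080) (iv F251271)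
theorem F256741 : act 2 n57285 = n56933 := d23_1 D57285 (iv D56933) (iv F251272)
theorem F256742 : act 3 n57285 = n56241 := d29_1 D57285 (iv D56241) (iv F251273)
theorem F256743 : act 4 n57285 = n57285 := d34_1 D57285 (iv D57285) F251274
theorem F256744 : act 5 n57285 = n56058 := d38_1 D57285 (iv D56058) D56057
theorem F256745 : act 6 n57285 = n56411 := d41_1 D57285 (iv D56411) (iv F251275)
theorem F256746 : act 7 n57285 = n56262 := d43_1 D57285 (iv D56262) (iv F251276)
def n57286 : Q := act 8 n56058
theorem D57286 : act 8 n56058 = n57286 := rfl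
theorem F256747 : act 0 n57286 = n56507 := d7_1 D57286 (iv D56507) (iv F251278)
theorem F256748 : act 1 n57286 = n56081 := d15_1 D57286 (iv D56081) (iv F251279)
theorem F256749 : act 4 n57286 = n56059 := d33_1 D57286 (iv D56059) (iv F251281)
theorem F256750 : act 6 n57286 = n56062 := d40_1 D57286 (iv D56062) (iv F251282)
theorem F256751 : act 7 n57286 = n56263 := d42_1 D57286 (iv D56263) (iv F251283)
theorem F256752 : act 9 n57286 = n56470 := d44_2 D56058 D57286 (iv D56470) (iv D55144) (iv F244665)
def n57287 : Q := act 8 n56060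
theorem D57287 : act 8 n56060 = n57287 := rfl
theorem F256753 : act 0 n57287 = n56508 := d7_1 D57287 (iv D56508) (iv F251291)
theorem F256754 : act 1 n57287 = n56525 := d15_1 D57287 (iv D56525) (iv F251292)
theorem F256755 : act 2 n57287 = n56062 := d22_1 D57287 (iv D56062) (iv F251293)
theorem F256756 : act 4 n57287 = n56061 := d33_1 D57287 (iv D56061) (iv F251295)
theorem F256757 : act 5 n57287 = n56505 := d37_1 D57287 (iv D56505) (iv F251296)
theorem F256758 : act 7 n57287 = n56064 := d42_1 D57287 (iv D56064) (iv F251297)
theorem F256759 : act 9 n57287 = n56493 := d44_2 D56060 D57287 (iv D56493) (iv D55171) (iv F244677)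
def n57288 : Q := act 3 n56061
theorem D57288 : act 3 n56061 = n57288 := rfl
theorem F256760 : act 0 n57288 = n56509 := d2_1 D57288 (iv D56509) (iv F251298)
theorem F256761 : act 1 n57288 = n56530 := d10_1 D57288 (iv D56530) (iv F251299)
theorem F256762 : act 2 n57288 = n56914 := d17_1 D57288 (iv D56914) F249637 (iv F244693) (iv F251300)
theorem F256763 : act 5 n57288 = n56068 := d25_2 (iv F251301) D57288 (iv D56068)
theorem F256764 : act 7 n57288 = n56065 := d27_2 (iv F251302) D57288 (iv D56065)
theorem F256765 : act 8 n57288 = n57288 := d28_2 D56061 D57288 (iv D57288) (iv D56061) F244682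
theorem F256766 : act 9 n57288 = n56499 := d29_2 (iv F251303) D57288 (iv D56499)
def n57289 : Q := act 3 n56062
theorem D57289 : act 3 n56062 = n57289 := rfl
theorem F256767 : act 0 n57289 = n56510 := d2_1 D57289 (iv D56510) (iv F251304)
theorem F256768 : act 1 n57289 = n56082 := d10_1 D57289 (iv D56082) (iv F251305)
theorem F256769 : act 4 n57289 = n56903 := d24_2 (iv F251306) D57289 (iv D56903) F249582 (iv F244693)
theorem F256770 : act 5 n57289 = n56987 := d25_2 (iv F251307) D57289 (iv D56987)
theorem F256771 : act 7 n57289 = n56067 := d27_2 (iv F251308) D57289 (iv D56067)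
theorem F256772 : act 8 n57289 = n56988 := d28_2 D56062 D57289 (iv D56988) (iv D55724) (iv F244687)
def n57290 : Q := act 8 n56063
theorem D57290 : act 8 n56063 = n57290 := rfl
theorem F256773 : act 0 n57290 = n56511 := d7_1 D57290 (iv D56511) (iv F251309)
theorem F256774 : act 1 n57290 = n56520 := d15_1 D57290 (iv D56520) (iv F251310)
theorem F256775 : act 2 n57290 = n56484 := d22_1 D57290 (iv D56484) (iv F251311)
theorem F256776 : act 4 n57290 = n57290 := d33_1 D57290 (iv D57290) F251313
theorem F256777 : act 5 n57290 = n56483 := d37_1 D57290 (iv D56483) (iv F251314)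
theorem F256778 : act 6 n57290 = n56473 := d40_1 D57290 (iv D56473) (iv F251315)
theorem F256779 : act 7 n57290 = n57016 := d42_1 D57290 (iv D57016) (iv F251316)
theorem F256780 : act 9 n57290 = n57007 := d44_2 D56063 D57290 (iv D57007) (iv D55749) F244703
def n57291 : Q := act 3 n56064
theorem D57291 : act 3 n56064 = n57291 := rfl
theorem F256781 : act 0 n57291 = n56512 := d2_1 D57291 (iv D56512) (iv F251317)
theorem F256782 : act 1 n57291 = n56527 := d10_1 D57291 (iv D56527) (iv F251318)
theorem F256783 : act 5 n57291 = n56506 := d25_2 (iv F251321) D57291 (iv D56506)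
theorem F256784 : act 6 n57291 = n56479 := d26_2 (iv F251322) D57291 (iv D56479)
theorem F256785 : act 9 n57291 = n56494 := d29_2 (iv F251323) D57291 (iv D56494)
def n57292 : Q := act 4 n56065
theorem D57292 : act 4 n56065 = n57292 := rfl
theorem F256786 : act 0 n57292 = n56513 := d3_1 D57292 (iv D56513) (iv F251324)
theorem F256787 : act 1 n57292 = n56533 := d11_1 D57292 (iv D56533) (iv F251325)
theorem F256788 : act 2 n57292 = n56915 := d18_1 D57292 (iv D56915) (iv F251326)
theorem F256789 : act 5 n57292 = n57043 := d30_2 (iv F251327) D57292 (iv D57043) F250044 (iv F244738)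
theorem F256790 : act 6 n57292 = n56482 := d31_2 (iv F251328) D57292 (iv D56482)
theorem F256791 : act 8 n57292 = n57292 := d33_2 F251329 D57292 (iv D57292)
theorem F256792 : act 9 n57292 = n56500 := d34_2 (iv F251330) D57292 (iv D56500)
def n57293 : Q := act 3 n56066
theorem D57293 : act 3 n56066 = n57293 := rfl
theorem F256793 : act 0 n57293 = n56494 := d2_1 D57293 (iv D56494) (iv F251331)
theorem F256794 : act 1 n57293 = n56087 := d10_1 D57293 (iv D56087) (iv F251332)
theorem F256795 : act 5 n57293 = n56067 := d25_2 (iv F251335) D57293 (iv D56067)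
theorem F256796 : act 6 n57293 = n56466 := d26_2 (iv F251336) D57293 (iv D56466)
theorem F256797 : act 7 n57293 = n56987 := d27_2 (iv F251337) D57293 (iv D56987)
theorem F256798 : act 8 n57293 = n56980 := d28_2 D56066 D57293 (iv D56980) (iv D55716) (iv F244719)
theorem F256799 : act 9 n57293 = n56512 := d29_2 (iv F251338) D57293 (iv D56512)
def n57294 : Q := act 2 n56067
theorem D57294 : act 2 n56067 = n57294 := rfl
theorem F256800 : act 0 n57294 = n56514 := d1_1 D57294 (iv D56514) (iv F251339)
theorem F256801 : act 4 n57294 = n56904 := d18_2 (iv F251341) D57294 (iv D56904)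
theorem F256802 : act 6 n57294 = n56781 := d20_2 (iv F251342) D57294 (iv D56781)
def n57295 : Q := act 4 n56069
theorem D57295 : act 4 n56069 = n57295 := rfl
theorem F256803 : act 0 n57295 = n56500 := d3_1 D57295 (iv D56500) (iv F251351)
theorem F256804 : act 1 n57295 = n56091 := d11_1 D57295 (iv D56091) (iv F251352)
theorem F256805 : act 2 n57295 = n56775 := d18_1 D57295 (iv D56775) (iv F251353)
theorem F256806 : act 5 n57295 = n56196 := d30_2 (iv F251354) D57295 (iv D56196) F245528 (iv F244752)
theorem F256807 : act 6 n57295 = n56468 := d31_2 (iv F251355) D57295 (iv D56468)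
theorem F256808 : act 7 n57295 = n57005 := d32_2 (iv F251356) D57295 (iv D57005)
theorem F256809 : act 8 n57295 = n56070 := d33_2 (iv F251357) D57295 (iv D56070)
theorem F256810 : act 9 n57295 = n56513 := d34_2 (iv F251358) D57295 (iv D56513)
def n57296 : Q := act 8 n56071
theorem D57296 : act 8 n56071 = n57296 := rfl
theorem F256811 : act 0 n57296 = n56112 := d7_1 D57296 (iv D56112) (iv F251367)
theorem F256812 : act 1 n57296 = n56511 := d15_1 D57296 (iv D56511) (iv F251368)
theorem F256813 : act 2 n57296 = n56891 := d22_1 D57296 (iv D56891) (iv F251369)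
theorem F256814 : act 4 n57296 = n57296 := d33_1 D57296 (iv D57296) F251371
theorem F256815 : act 5 n57296 = n56072 := d37_1 D57296 (iv D56072) (iv F251372)
theorem F256816 : act 6 n57296 = n57030 := d40_1 D57296 (iv D57030) (iv F251373)
theorem F256817 : act 7 n57296 = n56969 := d42_1 D57296 (iv D56969) (iv F251374)
theorem F256818 : act 9 n57296 = n56756 := d44_2 D56071 D57296 (iv D56756) (iv D55466) (iv F244771)
def n57297 : Q := act 3 n56072
theorem D57297 : act 3 n56072 = n57297 := rfl
theorem F256819 : act 0 n57297 = n56113 := d2_1 D57297 (iv D56113) (iv F251375)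
theorem F256820 : act 1 n57297 = n57012 := d10_1 D57297 (iv D57012) (iv F251376)
theorem F256821 : act 4 n57297 = n56841 := d24_2 (iv F251378) D57297 (iv D56841) F249371 (iv F244781)
theorem F256822 : act 6 n57297 = n56770 := d26_2 (iv F251379) D57297 (iv D56770)
theorem F256823 : act 8 n57297 = n56078 := d28_2 D56072 D57297 (iv D56078) (iv D54655) (iv F244775)
theorem F256824 : act 9 n57297 = n56757 := d29_2 (iv F251380) D57297 (iv D56757)
def n57298 : Q := act 3 n56073
theorem D57298 : act 3 n56073 = n57298 := rfl
theorem F256825 : act 0 n57298 = n56124 := d2_1 D57298 (iv D56124) (iv F251381)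
theorem F256826 : act 4 n57298 = n57098 := d24_2 (iv F251383) D57298 (iv D57098) F250175 (iv F244792)
theorem F256827 : act 5 n57298 = n56992 := d25_2 (iv F251384) D57298 (iv D56992)
theorem F256828 : act 7 n57298 = n56078 := d27_2 (iv F251385) D57298 (iv D56078)
theorem F256829 : act 9 n57298 = n56082 := d29_2 (iv F251386) D57298 (iv D56082)
def n57299 : Q := act 8 n56074
theorem D57299 : act 8 n56074 = n57299 := rfl
theorem F256830 : act 0 n57299 = n56130 := d7_1 D57299 (iv D56130) (iv F251387)
theorem F256831 : act 1 n57299 = n56550 := d15_1 D57299 (iv D56550) (iv F251388)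
theorem F256832 : act 2 n57299 = n56855 := d22_1 D57299 (iv D56855) (iv F251389)
theorem F256833 : act 4 n57299 = n57299 := d33_1 D57299 (iv D57299) F251391
theorem F256834 : act 5 n57299 = n56547 := d37_1 D57299 (iv D56547) (iv F251392)
theorem F256835 : act 6 n57299 = n56782 := d40_1 D57299 (iv D56782) (iv F251393)
theorem F256836 : act 7 n57299 = n57089 := d42_1 D57299 (iv D57089) (iv F251394)
theorem F256837 : act 9 n57299 = n56834 := d44_2 D56074 D57299 (iv D56834) (iv D55554) (iv F244803)
def n57300 : Q := act 3 n56075
theorem D57300 : act 3 n56075 = n57300 := rfl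
theorem F256838 : act 0 n57300 = n56132 := d2_1 D57300 (iv D56132) (iv F251395)
theorem F256839 : act 1 n57300 = n56553 := d10_1 D57300 (iv D56553) (iv F251396)
theorem F256840 : act 5 n57300 = n56548 := d25_2 (iv F251399) D57300 (iv D56548)
theorem F256841 : act 6 n57300 = n56783 := d26_2 (iv F251400) D57300 (iv D56783)
theorem F256842 : act 7 n57300 = n57134 := d27_2 (iv F251401) D57300 (iv D57134)
theorem F256843 : act 9 n57300 = n56083 := d29_2 (iv F251402) D57300 (iv D56083)
def n57301 : Q := act 4 n56076
theorem D57301 : act 4 n56076 = n57301 := rfl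
theorem F256844 : act 0 n57301 = n56133 := d3_1 D57301 (iv D56133) (iv F251403)
theorem F256845 : act 1 n57301 = n56565 := d11_1 D57301 (iv D56565) (iv F251404)
theorem F256846 : act 2 n57301 = n57106 := d18_1 D57301 (iv D57106) (iv F251405)
theorem F256847 : act 5 n57301 = n57104 := d30_2 (iv F251406) D57301 (iv D57104) F250190 (iv F244832)
theorem F256848 : act 6 n57301 = n56784 := d31_2 (iv F251407) D57301 (iv D56784)
theorem F256849 : act 7 n57301 = n57169 := d32_2 (iv F251408) D57301 (iv D57169)
theorem F256850 : act 8 n57301 = n57301 := d33_2 F251409 D57301 (iv D57301)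
theorem F256851 : act 9 n57301 = n56084 := d34_2 (iv F251410) D57301 (iv D56084)
def n57302 : Q := act 3 n56077
theorem D57302 : act 3 n56077 = n57302 := rfl
theorem F256852 : act 0 n57302 = n56136 := d2_1 D57302 (iv D56136) (iv F251411)
theorem F256853 : act 1 n57302 = n56512 := d10_1 D57302 (iv D56512) (iv F251412)
theorem F256854 : act 5 n57302 = n56078 := d25_2 (iv F251415) D57302 (iv D56078)
theorem F256855 : act 6 n57302 = n57032 := d26_2 (iv F251416) D57302 (iv D57032)
theorem F256856 : act 7 n57302 = n56992 := d27_2 (iv F251417) D57302 (iv D56992)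
theorem F256857 : act 9 n57302 = n56087 := d29_2 (iv F251418) D57302 (iv D56087)
def n57303 : Q := act 2 n56078
theorem D57303 : act 2 n56078 = n57303 := rfl
theorem F256858 : act 0 n57303 = n56137 := d1_1 D57303 (iv D56137) (iv F251419)
theorem F256859 : act 4 n57303 = n57099 := d18_2 (iv F251420) D57303 (iv D57099)
theorem F256860 : act 6 n57303 = n56785 := d20_2 (iv F251421) D57303 (iv D56785)
theorem F256861 : act 9 n57303 = n56088 := d23_2 (iv F251422) D57303 (iv D56088)
def n57304 : Q := act 4 n56079
theorem D57304 : act 4 n56079 = n57304 := rfl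
theorem F256862 : act 0 n57304 = n56147 := d3_1 D57304 (iv D56147) (iv F251423)
theorem F256863 : act 1 n57304 = n56513 := d11_1 D57304 (iv D56513) (iv F251424)
theorem F256864 : act 2 n57304 = n56853 := d18_1 D57304 (iv D56853) (iv F251425)
theorem F256865 : act 5 n57304 = n56635 := d30_2 (iv F251426) D57304 (iv D56635) F248352 (iv F244847)
theorem F256866 : act 6 n57304 = n57043 := d31_2 (iv F251427) D57304 (iv D57043)
theorem F256867 : act 7 n57304 = n57006 := d32_2 (iv F251428) D57304 (iv D57006)
theorem F256868 : act 8 n57304 = n57304 := d33_2 F251429 D57304 (iv D57304)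
theorem F256869 : act 9 n57304 = n56091 := d34_2 (iv F251430) D57304 (iv D56091)
def n57305 : Q := act 8 n56080
theorem D57305 : act 8 n56080 = n57305 := rfl
theorem F256870 : act 0 n57305 = n56151 := d7_1 D57305 (iv D56151) (iv F251431)
theorem F256871 : act 2 n57305 = n56677 := d22_1 D57305 (iv D56677) (iv F251432)
theorem F256872 : act 4 n57305 = n57305 := d33_1 D57305 (iv D57305) F251434
theorem F256873 : act 5 n57305 = n56081 := d37_1 D57305 (iv D56081) (iv F251435)
theorem F256874 : act 6 n57305 = n56418 := d40_1 D57305 (iv D56418) (iv F251436)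
theorem F256875 : act 7 n57305 = n56790 := d42_1 D57305 (iv D56790) (iv F251437)
def n57306 : Q := act 3 n56081
theorem D57306 : act 3 n56081 = n57306 := rfl
theorem F256876 : act 0 n57306 = n56152 := d2_1 D57306 (iv D56152) (iv F251438)
theorem F256877 : act 4 n57306 = n57122 := d24_2 (iv F251440) D57306 (iv D57122) F250245 (iv F244866)
theorem F256878 : act 6 n57306 = n56082 := d26_2 (iv F251441) D57306 (iv D56082)
theorem F256879 : act 7 n57306 = n56791 := d27_2 (iv F251442) D57306 (iv D56791)
theorem F256880 : act 8 n57306 = n56995 := d28_2 D56081 D57306 (iv D56995) (iv D55729) (iv F244860)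
def n57307 : Q := act 2 n56082
theorem D57307 : act 2 n56082 = n57307 := rfl
theorem F256881 : act 0 n57307 = n56162 := d1_1 D57307 (iv D56162) (iv F251443)
theorem F256882 : act 3 n57307 = n57135 := d17_2 D56082 D57307 (iv D57135) (iv D55875) (iv F244871)
theorem F256883 : act 4 n57307 = n57148 := d18_2 (iv F251444) D57307 (iv D57148)
theorem F256884 : act 5 n57307 = n56993 := d19_2 (iv F251445) D57307 (iv D56993)
theorem F256885 : act 7 n57307 = n56088 := d21_2 (iv F251446) D57307 (iv D56088)
theorem F256886 : act 8 n57307 = n56996 := d22_2 (iv F251447) D57307 (iv D56996)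
def n57308 : Q := act 2 n56083
theorem D57308 : act 2 n56083 = n57308 := rfl
theorem F256887 : act 0 n57308 = n56176 := d1_1 D57308 (iv D56176) (iv F251448)
theorem F256888 : act 3 n57308 = n56088 := d17_2 D56083 D57308 (iv D56088) (iv D54668) (iv F244877)
theorem F256889 : act 5 n57308 = n57115 := d19_2 (iv F251450) D57308 (iv D57115)
theorem F256890 : act 6 n57308 = n56807 := d20_2 (iv F251451) D57308 (iv D56807)
theorem F256891 : act 7 n57308 = n57135 := d21_2 (iv F251452) D57308 (iv D57135)
theorem F256892 : act 8 n57308 = n57116 := d22_2 (iv F251453) D57308 (iv D57116)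
def n57309 : Q := act 4 n56083
theorem D57309 : act 4 n56083 = n57309 := rfl
theorem F256893 : act 0 n57309 = n56177 := d3_1 D57309 (iv D56177) (iv F251448)
theorem F256894 : act 1 n57309 = n57144 := d11_1 D57309 F255933 (iv F251449)
theorem F256895 : act 3 n57309 = n56084 := d24_1 D57309 (iv D56084) (iv D54664) (iv F244878) D56083
theorem F256896 : act 5 n57309 = n57130 := d30_2 (iv F251450) D57309 (iv D57130) F250264 (iv F250230)
theorem F256897 : act 6 n57309 = n56808 := d31_2 (iv F251451) D57309 (iv D56808)
theorem F256898 : act 7 n57309 = n57136 := d32_2 (iv F251452) D57309 (iv D57136)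
theorem F256899 : act 8 n57309 = n57117 := d33_2 (iv F251453) D57309 (iv D57117)
def n57310 : Q := act 8 n56085
theorem D57310 : act 8 n56085 = n57310 := rfl
theorem F256900 : act 0 n57310 = n56179 := d7_1 D57310 (iv D56179) (iv F251461)
theorem F256901 : act 1 n57310 = n56283 := d15_1 D57310 (iv D56283) (iv F251462)
theorem F256902 : act 2 n57310 = n56640 := d22_1 D57310 (iv D56640) (iv F251463)
theorem F256903 : act 4 n57310 = n56089 := d33_1 D57310 (iv D56089) (iv F251465)
theorem F256904 : act 5 n57310 = n56459 := d37_1 D57310 (iv D56459) (iv F251466)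
theorem F256905 : act 6 n57310 = n56403 := d40_1 D57310 (iv D56403) (iv F251467)
theorem F256906 : act 7 n57310 = n56086 := d42_1 D57310 (iv D56086) (iv F251468)
theorem F256907 : act 9 n57310 = n57021 := d44_2 D56085 D57310 (iv D57021) (iv D55763) (iv F244896)
def n57311 : Q := act 3 n56086
theorem D57311 : act 3 n56086 = n57311 := rfl
theorem F256908 : act 0 n57311 = n56180 := d2_1 D57311 (iv D56180) (iv F251469)
theorem F256909 : act 1 n57311 = n56466 := d10_1 D57311 (iv D56466) (iv F251470)
theorem F256910 : act 5 n57311 = n56462 := d25_2 (iv F251473) D57311 (iv D56462)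
theorem F256911 : act 6 n57311 = n56087 := d26_2 (iv F251474) D57311 (iv D56087)
theorem F256912 : act 8 n57311 = n56976 := d28_2 D56086 D57311 (iv D56976) (iv D55712) (iv F244900)
theorem F256913 : act 9 n57311 = n57032 := d29_2 (iv F251475) D57311 (iv D57032)
def n57312 : Q := act 2 n56087
theorem D57312 : act 2 n56087 = n57312 := rfl
theorem F256914 : act 0 n57312 = n56181 := d1_1 D57312 (iv D56181) (iv F251476)
theorem F256915 : act 3 n57312 = n57115 := d17_2 D56087 D57312 (iv D57115) (iv D55857) (iv F244905)
theorem F256916 : act 5 n57312 = n56088 := d19_2 (iv F251477) D57312 (iv D56088)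
theorem F256917 : act 7 n57312 = n56993 := d21_2 (iv F251478) D57312 (iv D56993)
theorem F256918 : act 8 n57312 = n56982 := d22_2 (iv F251479) D57312 (iv D56982)
def n57313 : Q := act 4 n56087
theorem D57313 : act 4 n56087 = n57313 := rfl
theorem F256919 : act 0 n57313 = n56182 := d3_1 D57313 (iv D56182) (iv F251476)
theorem F256920 : act 3 n57313 = n56091 := d24_1 D57313 (iv D56091) (iv D54671) (iv F244906) D56087
theorem F256921 : act 5 n57313 = n56692 := d30_2 (iv F251477) D57313 (iv D56692) F248598 (iv F244910)
theorem F256922 : act 7 n57313 = n56994 := d32_2 (iv F251478) D57313 (iv D56994)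
theorem F256923 : act 8 n57313 = n56983 := d33_2 (iv F251479) D57313 (iv D56983)
def n57314 : Q := act 1 n56088
theorem D57314 : act 1 n56088 = n57314 := rfl
theorem F256924 : act 4 n57314 = n57149 := d11_2 (iv F251481) D57314 (iv D57149)
theorem F256925 : act 6 n57314 = n56811 := d13_2 (iv F251482) D57314 (iv D56811)
def n57315 : Q := act 3 n56089
theorem D57315 : act 3 n56089 = n57315 := rfl
theorem F256926 : act 0 n57315 = n56195 := d2_1 D57315 (iv D56195) (iv F251483)
theorem F256927 : act 1 n57315 = n56296 := d10_1 D57315 (iv D56296) (iv F251484)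
theorem F256928 : act 2 n57315 = n56156 := d17_1 D57315 (iv D56156) F245317 D55350 (iv F251485)
theorem F256929 : act 5 n57315 = n56092 := d25_2 (iv F251486) D57315 (iv D56092)
theorem F256930 : act 6 n57315 = n56447 := d26_2 (iv F251487) D57315 (iv D56447)
theorem F256931 : act 7 n57315 = n56090 := d27_2 (iv F251488) D57315 (iv D56090)
theorem F256932 : act 8 n57315 = n56093 := d28_2 D56089 D57315 (iv D56093) (iv D54674) (iv F244915)
theorem F256933 : act 9 n57315 = n57041 := d29_2 (iv F251489) D57315 (iv D57041)
def n57316 : Q := act 4 n56090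
theorem D57316 : act 4 n56090 = n57316 := rfl
theorem F256934 : act 0 n57316 = n56196 := d3_1 D57316 (iv D56196) (iv F251490)
theorem F256935 : act 1 n57316 = n56468 := d11_1 D57316 (iv D56468) (iv F251491)
theorem F256936 : act 2 n57316 = n56170 := d18_1 D57316 (iv D56170) (iv F251492)
theorem F256937 : act 5 n57316 = n56500 := d30_2 (iv F251493) D57316 (iv D56500) F247632 (iv F244940)
theorem F256938 : act 6 n57316 = n56091 := d31_2 (iv F251494) D57316 (iv D56091)
theorem F256939 : act 8 n57316 = n56094 := d33_2 (iv F251495) D57316 (iv D56094)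
theorem F256940 : act 9 n57316 = n57043 := d34_2 (iv F251496) D57316 (iv D57043)
def n57317 : Q := act 4 n56093
theorem D57317 : act 4 n56093 = n57317 := rfl
theorem F256941 : act 0 n57317 = n56204 := d3_1 D57317 (iv D56204) (iv F251510)
theorem F256942 : act 1 n57317 = n56297 := d11_1 D57317 (iv D56297) (iv F251511)
theorem F256943 : act 2 n57317 = n56208 := d18_1 D57317 (iv D56208) (iv F251512)
theorem F256944 : act 3 n57317 = n56295 := d24_1 D57317 (iv D56295) (iv D54935) (iv F244947) D56093
theorem F256945 : act 5 n57317 = n56503 := d30_2 (iv F251513) D57317 (iv D56503) F247658 (iv F244967)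
theorem F256946 : act 6 n57317 = n56448 := d31_2 (iv F251514) D57317 (iv D56448)
theorem F256947 : act 7 n57317 = n56094 := d32_2 (iv F251515) D57317 (iv D56094)
theorem F256948 : act 9 n57317 = n57317 := d34_2 F251516 D57317 (iv D57317)
def n57318 : Q := act 9 n56095
theorem D57318 : act 9 n56095 = n57318 := rfl
theorem F256949 : act 0 n57318 = n56364 := d8_1 D57318 (iv D56364) (iv F251524)
theorem F256950 : act 1 n57318 = n56099 := d16_1 D57318 (iv D56099) (iv F251525)
theorem F256951 : act 2 n57318 = n56574 := d23_1 D57318 (iv D56574) (iv F251526)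
theorem F256952 : act 3 n57318 = n56591 := d29_1 D57318 (iv D56591) (iv F251530)
theorem F256953 : act 4 n57318 = n56096 := d34_1 D57318 (iv D56096) D56095
theorem F256954 : act 5 n57318 = n56838 := d38_1 D57318 (iv D56838) F251531
theorem F256955 : act 6 n57318 = n56588 := d41_1 D57318 (iv D56588) (iv F251527)
theorem F256956 : act 7 n57318 = n56106 := d43_1 D57318 (iv D56106) (iv F251528)
def n57319 : Q := act 8 n56096
theorem D57319 : act 8 n56096 = n57319 := rfl
theorem F256957 : act 0 n57319 = n56365 := d7_1 D57319 (iv D56365) (iv F251532)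
theorem F256958 : act 1 n57319 = n56100 := d15_1 D57319 (iv D56100) (iv F251533)
theorem F256959 : act 2 n57319 = n56575 := d22_1 D57319 (iv D56575) (iv F251534)
theorem F256960 : act 5 n57319 = n57319 := d37_1 D57319 (iv D57319) F251536
theorem F256961 : act 6 n57319 = n56907 := d40_1 D57319 (iv D56907) (iv F251537)
theorem F256962 : act 7 n57319 = n56107 := d42_1 D57319 (iv D56107) (iv F251538)
theorem F256963 : act 9 n57319 = n56583 := d44_2 D56096 D57319 (iv D56583) (iv D55274) (iv F244985)
def n57320 : Q := act 9 n56097
theorem D57320 : act 9 n56097 = n57320 := rfl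
theorem F256964 : act 0 n57320 = n56845 := d8_1 D57320 (iv D56845) (iv F251539)
theorem F256965 : act 1 n57320 = n56591 := d16_1 D57320 (iv D56591) (iv F251540)
theorem F256966 : act 2 n57320 = n56119 := d23_1 D57320 (iv D56119) (iv F251541)
theorem F256967 : act 3 n57320 = n56099 := d29_1 D57320 (iv D56099) D56097
theorem F256968 : act 4 n57320 = n57320 := d34_1 D57320 (iv D57320) F251542
theorem F256969 : act 5 n57320 = n56744 := d38_1 D57320 F254783 F251546
theorem F256970 : act 6 n57320 = n56585 := d41_1 D57320 (iv D56585) (iv F251543)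
theorem F256971 : act 7 n57320 = n56108 := d43_1 D57320 (iv D56108) (iv F251544)
def n57321 : Q := act 9 n56098
theorem D57321 : act 9 n56098 = n57321 := rfl
theorem F256972 : act 0 n57321 = n56871 := d8_1 D57321 (iv D56871) (iv F251547)
theorem F256973 : act 1 n57321 = n56838 := d16_1 D57321 (iv D56838) (iv F251548)
theorem F256974 : act 2 n57321 = n56102 := d23_1 D57321 (iv D56102) (iv F251549)
theorem F256975 : act 3 n57321 = n56744 := d29_1 D57321 F254783 (iv F251550)
theorem F256976 : act 4 n57321 = n57321 := d34_1 D57321 (iv D57321) F251551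
theorem F256977 : act 5 n57321 = n56099 := d38_1 D57321 (iv D56099) D56098
theorem F256978 : act 6 n57321 = n56842 := d41_1 D57321 (iv D56842) (iv F251552)
theorem F256979 : act 7 n57321 = n56109 := d43_1 D57321 (iv D56109) (iv F251553)
def n57322 : Q := act 8 n56099
theorem D57322 : act 8 n56099 = n57322 := rfl
theorem F256980 : act 0 n57322 = n56873 := d7_1 D57322 (iv D56873) (iv F251555)
theorem F256981 : act 2 n57322 = n56103 := d22_1 D57322 (iv D56103) (iv F251556)
theorem F256982 : act 4 n57322 = n56100 := d33_1 D57322 (iv D56100) (iv F251557)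
theorem F256983 : act 6 n57322 = n57093 := d40_1 D57322 (iv D57093) (iv F251558)
theorem F256984 : act 7 n57322 = n56110 := d42_1 D57322 (iv D56110) (iv F251559)
theorem F256985 : act 9 n57322 = n56795 := d44_2 D56099 D57322 (iv D56795) (iv D55513) (iv F244990)
def n57323 : Q := act 3 n56100
theorem D57323 : act 3 n56100 = n57323 := rfl
theorem F256986 : act 0 n57323 = n56917 := d2_1 D57323 (iv D56917) (iv F251560)
theorem F256987 : act 2 n57323 = n57167 := d17_1 D57323 (iv D57167) (iv F250740) F250741 (iv F251561)
theorem F256988 : act 5 n57323 = n57323 := d25_2 F251562 D57323 (iv D57323)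
theorem F256989 : act 6 n57323 = n57105 := d26_2 (iv F251563) D57323 (iv D57105)
theorem F256990 : act 7 n57323 = n56111 := d27_2 (iv F251564) D57323 (iv D56111)
theorem F256991 : act 8 n57323 = n57323 := d28_2 D56100 D57323 (iv D57323) (iv D56100) F244993
theorem F256992 : act 9 n57323 = n56820 := d29_2 (iv F251565) D57323 (iv D56820)
def n57324 : Q := act 9 n56101
theorem D57324 : act 9 n56101 = n57324 := rfl
theorem F256993 : act 0 n57324 = n56383 := d8_1 D57324 (iv D56383) (iv F251566)
theorem F256994 : act 1 n57324 = n56579 := d16_1 D57324 (iv D56579) (iv F251567)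
theorem F256995 : act 2 n57324 = n56842 := d23_1 D57324 (iv D56842) (iv F251568)
theorem F256996 : act 3 n57324 = n56122 := d29_1 D57324 (iv D56122) (iv F251569)
theorem F256997 : act 4 n57324 = n57324 := d34_1 D57324 (iv D57324) F251570
theorem F256998 : act 5 n57324 = n56606 := d38_1 D57324 (iv D56606) (iv F251571)
theorem F256999 : act 6 n57324 = n56102 := d41_1 D57324 (iv D56102) D56101
theorem F257000 : act 7 n57324 = n56599 := d43_1 D57324 (iv D56599) (iv F251572)
def n57325 : Q := act 8 n56102
theorem D57325 : act 8 n56102 = n57325 := rfl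
theorem F257001 : act 0 n57325 = n56969 := d7_1 D57325 (iv D56969) (iv F251574)
theorem F257002 : act 1 n57325 = n56580 := d15_1 D57325 (iv D56580) (iv F251575)
theorem F257003 : act 4 n57325 = n57325 := d33_1 D57325 (iv D57325) F251577
theorem F257004 : act 5 n57325 = n56103 := d37_1 D57325 (iv D56103) (iv F251578)
theorem F257005 : act 7 n57325 = n56112 := d42_1 D57325 (iv D56112) (iv F251579)
theorem F257006 : act 9 n57325 = n56957 := d44_2 D56102 D57325 (iv D56957) (iv D55692) (iv F245002)
def n57326 : Q := act 3 n56103
theorem D57326 : act 3 n56103 = n57326 := rfl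
theorem F257007 : act 1 n57326 = n56581 := d10_1 D57326 (iv D56581) (iv F251580)
theorem F257008 : act 6 n57326 = n57098 := d26_2 (iv F251582) D57326 (iv D57098)
theorem F257009 : act 7 n57326 = n56113 := d27_2 (iv F251583) D57326 (iv D56113)
theorem F257010 : act 8 n57326 = n56124 := d28_2 D56103 D57326 (iv D56124) (iv D54704) (iv F245004)
theorem F257011 : act 9 n57326 = n57122 := d29_2 (iv F251584) D57326 (iv D57122)
def n57327 : Q := act 9 n56104
theorem D57327 : act 9 n56104 = n57327 := rfl
theorem F257012 : act 0 n57327 = n56106 := d8_1 D57327 (iv D56106) (iv F251585)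
theorem F257013 : act 1 n57327 = n56360 := d16_1 D57327 (iv D56360) (iv F251586)
theorem F257014 : act 2 n57327 = n56582 := d23_1 D57327 (iv D56582) (iv F251587)
theorem F257015 : act 3 n57327 = n56676 := d29_1 D57327 (iv D56676) (iv F251591)
theorem F257016 : act 4 n57327 = n56105 := d34_1 D57327 (iv D56105) D56104
theorem F257017 : act 5 n57327 = n57087 := d38_1 D57327 (iv D57087) F251592
theorem F257018 : act 6 n57327 = n56612 := d41_1 D57327 (iv D56612) (iv F251588)
theorem F257019 : act 7 n57327 = n56364 := d43_1 D57327 (iv D56364) (iv F251589)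
def n57328 : Q := act 8 n56105
theorem D57328 : act 8 n56105 = n57328 := rfl
theorem F257020 : act 0 n57328 = n56107 := d7_1 D57328 (iv D56107) (iv F251593)
theorem F257021 : act 1 n57328 = n56361 := d15_1 D57328 (iv D56361) (iv F251594)
theorem F257022 : act 2 n57328 = n56583 := d22_1 D57328 (iv D56583) (iv F251595)
theorem F257023 : act 5 n57328 = n57328 := d37_1 D57328 (iv D57328) F251597
theorem F257024 : act 6 n57328 = n56831 := d40_1 D57328 (iv D56831) (iv F251598)
theorem F257025 : act 7 n57328 = n56365 := d42_1 D57328 (iv D56365) (iv F251599)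
theorem F257026 : act 9 n57328 = n56575 := d44_2 D56105 D57328 (iv D56575) (iv D55266) (iv F245019)
def n57329 : Q := act 8 n56106
theorem D57329 : act 8 n56106 = n57329 := rfl
theorem F257027 : act 1 n57329 = n56110 := d15_1 D57329 (iv D56110) (iv F251600)
theorem F257028 : act 2 n57329 = n56586 := d22_1 D57329 (iv D56586) (iv F251601)
theorem F257029 : act 4 n57329 = n56107 := d33_1 D57329 (iv D56107) (iv F251602)
theorem F257030 : act 6 n57329 = n56832 := d40_1 D57329 (iv D56832) (iv F251603)
theorem F257031 : act 9 n57329 = n56801 := d44_2 D56106 D57329 (iv D56801) (iv D55519) (iv F245023)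
def n57330 : Q := act 3 n56107
theorem D57330 : act 3 n56107 = n57330 := rfl
theorem F257032 : act 1 n57330 = n56111 := d10_1 D57330 (iv D56111) (iv F251604)
theorem F257033 : act 5 n57330 = n57330 := d25_2 F251606 D57330 (iv D57330)
theorem F257034 : act 6 n57330 = n56833 := d26_2 (iv F251607) D57330 (iv D56833)
theorem F257035 : act 8 n57330 = n57330 := d28_2 D56107 D57330 (iv D57330) (iv D56107) F245026
theorem F257036 : act 9 n57330 = n56823 := d29_2 (iv F251608) D57330 (iv D56823)
def n57331 : Q := act 8 n56108
theorem D57331 : act 8 n56108 = n57331 := rfl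
theorem F257037 : act 0 n57331 = n56855 := d7_1 D57331 (iv D56855) (iv F251609)
theorem F257038 : act 2 n57331 = n56130 := d22_1 D57331 (iv D56130) (iv F251610)
theorem F257039 : act 4 n57331 = n57331 := d33_1 D57331 (iv D57331) F251612
theorem F257040 : act 6 n57331 = n56834 := d40_1 D57331 (iv D56834) (iv F251613)
theorem F257041 : act 9 n57331 = n56782 := d44_2 D56108 D57331 (iv D56782) (iv D55499) (iv F245033)
def n57332 : Q := act 8 n56109
theorem D57332 : act 8 n56109 = n57332 := rfl
theorem F257042 : act 0 n57332 = n56891 := d7_1 D57332 (iv D56891) (iv F251614)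
theorem F257043 : act 2 n57332 = n56112 := d22_1 D57332 (iv D56112) (iv F251615)
theorem F257044 : act 4 n57332 = n57332 := d33_1 D57332 (iv D57332) F251616
theorem F257045 : act 5 n57332 = n56110 := d37_1 D57332 (iv D56110) (iv F251617)
theorem F257046 : act 6 n57332 = n57073 := d40_1 D57332 (iv D57073) (iv F251618)
theorem F257047 : act 9 n57332 = n56804 := d44_2 D56109 D57332 (iv D56804) (iv D55522) (iv F245038)
def n57333 : Q := act 3 n56110
theorem D57333 : act 3 n56110 = n57333 := rfl
theorem F257048 : act 0 n57333 = n56893 := d2_1 D57333 (iv D56893) (iv F251619)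
theorem F257049 : act 6 n57333 = n56835 := d26_2 (iv F251622) D57333 (iv D56835)
theorem F257050 : act 9 n57333 = n56805 := d29_2 (iv F251623) D57333 (iv D56805)
def n57334 : Q := act 4 n56111
theorem D57334 : act 4 n56111 = n57334 := rfl
theorem F257051 : act 0 n57334 = n56923 := d3_1 D57334 (iv D56923) (iv F251624)
theorem F257052 : act 6 n57334 = n56836 := d31_2 (iv F251626) D57334 (iv D56836)
theorem F257053 : act 8 n57334 = n57334 := d33_2 F251627 D57334 (iv D57334)
theorem F257054 : act 9 n57334 = n56827 := d34_2 (iv F251628) D57334 (iv D56827)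
def n57335 : Q := act 3 n56112
theorem D57335 : act 3 n56112 = n57335 := rfl
theorem F257055 : act 1 n57335 = n56596 := d10_1 D57335 (iv D56596) (iv F251629)
theorem F257056 : act 5 n57335 = n56113 := d25_2 (iv F251631) D57335 (iv D56113)
theorem F257057 : act 6 n57335 = n57075 := d26_2 (iv F251632) D57335 (iv D57075)
theorem F257058 : act 8 n57335 = n56136 := d28_2 D56112 D57335 (iv D56136) (iv D54716) (iv F245049)
theorem F257059 : act 9 n57335 = n57109 := d29_2 (iv F251633) D57335 (iv D57109)
def n57336 : Q := act 2 n56113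
theorem D57336 : act 2 n56113 = n57336 := rfl
theorem F257060 : act 6 n57336 = n56837 := d20_2 (iv F251635) D57336 (iv D56837)
theorem F257061 : act 8 n57336 = n56137 := d22_2 (iv F251636) D57336 (iv D56137)
theorem F257062 : act 9 n57336 = n57123 := d23_2 (iv F251637) D57336 (iv D57123)
def n57337 : Q := act 9 n56114
theorem D57337 : act 9 n56114 = n57337 := rfl
theorem F257063 : act 0 n57337 = n56417 := d8_1 D57337 (iv D56417) (iv F251638)
theorem F257064 : act 1 n57337 = n56599 := d16_1 D57337 (iv D56599) (iv F251639)
theorem F257065 : act 2 n57337 = n56549 := d23_1 D57337 (iv D56549) (iv F251640)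
theorem F257066 : act 3 n57337 = n56606 := d29_1 D57337 (iv D56606) (iv F251641)
theorem F257067 : act 4 n57337 = n57337 := d34_1 D57337 (iv D57337) F251642
theorem F257068 : act 5 n57337 = n56122 := d38_1 D57337 (iv D56122) (iv F251643)
theorem F257069 : act 6 n57337 = n56115 := d41_1 D57337 (iv D56115) D56114
theorem F257070 : act 7 n57337 = n56579 := d43_1 D57337 (iv D56579) (iv F251644)
def n57338 : Q := act 8 n56115
theorem D57338 : act 8 n56115 = n57338 := rfl
theorem F257071 : act 1 n57338 = n56600 := d15_1 D57338 (iv D56600) (iv F251646)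
theorem F257072 : act 4 n57338 = n57338 := d33_1 D57338 (iv D57338) F251648
theorem F257073 : act 5 n57338 = n56116 := d37_1 D57338 (iv D56116) (iv F251649)
theorem F257074 : act 7 n57338 = n56595 := d42_1 D57338 (iv D56595) (iv F251650)
theorem F257075 : act 9 n57338 = n56151 := d44_2 D56115 D57338 (iv D56151) (iv D54733) (iv F245061)
def n57339 : Q := act 3 n56116
theorem D57339 : act 3 n56116 = n57339 := rfl
theorem F257076 : act 1 n57339 = n56601 := d10_1 D57339 (iv D56601) (iv F251651)
theorem F257077 : act 6 n57339 = n56124 := d26_2 (iv F251653) D57339 (iv D56124)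
theorem F257078 : act 7 n57339 = n56841 := d27_2 (iv F251654) D57339 (iv D56841)
theorem F257079 : act 8 n57339 = n57098 := d28_2 D56116 D57339 (iv D57098) (iv D55839) (iv F245063)
theorem F257080 : act 9 n57339 = n56152 := d29_2 (iv F251655) D57339 (iv D56152)
def n57340 : Q := act 8 n56117
theorem D57340 : act 8 n56117 = n57340 := rfl
theorem F257081 : act 0 n57340 = n56650 := d7_1 D57340 (iv D56650) (iv F251656)
theorem F257082 : act 1 n57340 = n56120 := d15_1 D57340 (iv D56120) (iv F251657)
theorem F257083 : act 2 n57340 = n56602 := d22_1 D57340 (iv D56602) (iv F251658)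
theorem F257084 : act 4 n57340 = n56118 := d33_1 D57340 (iv D56118) (iv F251660)
theorem F257085 : act 5 n57340 = n56648 := d37_1 D57340 (iv D56648) (iv F251661)
theorem F257086 : act 7 n57340 = n56126 := d42_1 D57340 (iv D56126) (iv F251662)
theorem F257087 : act 9 n57340 = n56155 := d44_2 D56117 D57340 (iv D56155) (iv D54737) (iv F245077)
def n57341 : Q := act 3 n56118
theorem D57341 : act 3 n56118 = n57341 := rfl
theorem F257088 : act 0 n57341 = n56696 := d2_1 D57341 (iv D56696) (iv F251663)
theorem F257089 : act 1 n57341 = n56121 := d10_1 D57341 (iv D56121) (iv F251664)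
theorem F257090 : act 2 n57341 = n57041 := d17_1 D57341 (iv D57041) F250033 (iv F248200) (iv F251665)
theorem F257091 : act 5 n57341 = n56138 := d25_2 (iv F251666) D57341 (iv D56138)
theorem F257092 : act 7 n57341 = n56127 := d27_2 (iv F251667) D57341 (iv D56127)
theorem F257093 : act 8 n57341 = n57341 := d28_2 D56118 D57341 (iv D57341) (iv D56118) F245082
theorem F257094 : act 9 n57341 = n56156 := d29_2 (iv F251668) D57341 (iv D56156)
def n57342 : Q := act 8 n56119
theorem D57342 : act 8 n56119 = n57342 := rfl
theorem F257095 : act 0 n57342 = n57089 := d7_1 D57342 (iv D57089) (iv F251669)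
theorem F257096 : act 1 n57342 = n57073 := d15_1 D57342 (iv D57073) (iv F251670)
theorem F257097 : act 4 n57342 = n57342 := d33_1 D57342 (iv D57342) F251672
theorem F257098 : act 5 n57342 = n56735 := d37_1 D57342 F254739 (iv F251673)
theorem F257099 : act 7 n57342 = n56130 := d42_1 D57342 (iv D56130) (iv F251674)
theorem F257100 : act 9 n57342 = n56737 := d44_2 D56119 D57342 F254749 F248802 (iv F245090)
def n57343 : Q := act 3 n56120
theorem D57343 : act 3 n56120 = n57343 := rfl
theorem F257101 : act 0 n57343 = n57134 := d2_1 D57343 (iv D57134) (iv F251675)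
theorem F257102 : act 5 n57343 = n57058 := d25_2 (iv F251678) D57343 (iv D57058)
theorem F257103 : act 7 n57343 = n56132 := d27_2 (iv F251679) D57343 (iv D56132)
theorem F257104 : act 9 n57343 = n56157 := d29_2 (iv F251680) D57343 (iv D56157)
def n57344 : Q := act 4 n56121
theorem D57344 : act 4 n56121 = n57344 := rfl
theorem F257105 : act 0 n57344 = n57169 := d3_1 D57344 (iv D57169) (iv F251681)
theorem F257106 : act 7 n57344 = n56133 := d32_2 (iv F251683) D57344 (iv D56133)
theorem F257107 : act 8 n57344 = n57344 := d33_2 F251684 D57344 (iv D57344)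
theorem F257108 : act 9 n57344 = n56158 := d34_2 (iv F251685) D57344 (iv D56158)
def n57345 : Q := act 8 n56122
theorem D57345 : act 8 n56122 = n57345 := rfl
theorem F257109 : act 0 n57345 = n56419 := d7_1 D57345 (iv D56419) (iv F251686)
theorem F257110 : act 1 n57345 = n56607 := d15_1 D57345 (iv D56607) (iv F251687)
theorem F257111 : act 2 n57345 = n56551 := d22_1 D57345 (iv D56551) (iv F251688)
theorem F257112 : act 4 n57345 = n56140 := d33_1 D57345 (iv D56140) (iv F251689)
theorem F257113 : act 6 n57345 = n56123 := d40_1 D57345 (iv D56123) (iv F251690)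
theorem F257114 : act 7 n57345 = n57082 := d42_1 D57345 (iv D57082) (iv F251691)
theorem F257115 : act 9 n57345 = n56160 := d44_2 D56122 D57345 (iv D56160) (iv D54742) (iv F245105)
def n57346 : Q := act 3 n56123
theorem D57346 : act 3 n56123 = n57346 := rfl
theorem F257116 : act 0 n57346 = n56992 := d2_1 D57346 (iv D56992) (iv F251692)
theorem F257117 : act 1 n57346 = n56608 := d10_1 D57346 (iv D56608) (iv F251693)
theorem F257118 : act 5 n57346 = n56124 := d25_2 (iv F251696) D57346 (iv D56124)
theorem F257119 : act 7 n57346 = n56136 := d27_2 (iv F251697) D57346 (iv D56136)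
theorem F257120 : act 9 n57346 = n56161 := d29_2 (iv F251698) D57346 (iv D56161)
def n57347 : Q := act 2 n56124
theorem D57347 : act 2 n56124 = n57347 := rfl
theorem F257121 : act 7 n57347 = n56137 := d21_2 (iv F251700) D57347 (iv D56137)
theorem F257122 : act 9 n57347 = n56162 := d23_2 (iv F251701) D57347 (iv D56162)
def n57348 : Q := act 8 n56125
theorem D57348 : act 8 n56125 = n57348 := rfl
theorem F257123 : act 0 n57348 = n56669 := d7_1 D57348 (iv D56669) (iv F251702)
theorem F257124 : act 1 n57348 = n56130 := d15_1 D57348 (iv D56130) (iv F251703)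
theorem F257125 : act 2 n57348 = n56600 := d22_1 D57348 (iv D56600) (iv F251704)
theorem F257126 : act 4 n57348 = n57348 := d33_1 D57348 (iv D57348) F251706
theorem F257127 : act 5 n57348 = n56598 := d37_1 D57348 (iv D56598) (iv F251707)
theorem F257128 : act 6 n57348 = n56850 := d40_1 D57348 (iv D56850) (iv F251708)
theorem F257129 : act 7 n57348 = n57073 := d42_1 D57348 (iv D57073) (iv F251709)
theorem F257130 : act 9 n57348 = n56642 := d44_2 D56125 D57348 (iv D56642) (iv D55338) F245124
def n57349 : Q := act 3 n56126
theorem D57349 : act 3 n56126 = n57349 := rfl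
theorem F257131 : act 0 n57349 = n56672 := d2_1 D57349 (iv D56672) (iv F251710)
theorem F257132 : act 1 n57349 = n56132 := d10_1 D57349 (iv D56132) (iv F251711)
theorem F257133 : act 5 n57349 = n56667 := d25_2 (iv F251714) D57349 (iv D56667)
theorem F257134 : act 6 n57349 = n56852 := d26_2 (iv F251715) D57349 (iv D56852)
theorem F257135 : act 9 n57349 = n56169 := d29_2 (iv F251716) D57349 (iv D56169)
def n57350 : Q := act 4 n56127
theorem D57350 : act 4 n56127 = n57350 := rfl
theorem F257136 : act 0 n57350 = n56708 := d3_1 D57350 (iv D56708) (iv F251717)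
theorem F257137 : act 1 n57350 = n56133 := d11_1 D57350 (iv D56133) (iv F251718)
theorem F257138 : act 2 n57350 = n57043 := d18_1 D57350 (iv D57043) (iv F251719)
theorem F257139 : act 5 n57350 = n56915 := d30_2 (iv F251720) D57350 (iv D56915) F249640 (iv F245226)
theorem F257140 : act 6 n57350 = n56853 := d31_2 (iv F251721) D57350 (iv D56853)
theorem F257141 : act 8 n57350 = n57350 := d33_2 F251722 D57350 (iv D57350)
theorem F257142 : act 9 n57350 = n56170 := d34_2 (iv F251723) D57350 (iv D56170)
def n57351 : Q := act 8 n56128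
theorem D57351 : act 8 n56128 = n57351 := rfl
theorem F257143 : act 0 n57351 = n56547 := d7_1 D57351 (iv D56547) (iv F251724)
theorem F257144 : act 1 n57351 = n56598 := d15_1 D57351 (iv D56598) (iv F251725)
theorem F257145 : act 4 n57351 = n56571 := d33_1 D57351 (iv D56571) (iv F251727)
theorem F257146 : act 5 n57351 = n56130 := d37_1 D57351 (iv D56130) (iv F251728)
theorem F257147 : act 6 n57351 = n56602 := d40_1 D57351 (iv D56602) (iv F251729)
theorem F257148 : act 7 n57351 = n56735 := d42_1 D57351 F254739 (iv F251730)
theorem F257149 : act 9 n57351 = n56639 := d44_2 D56128 D57351 (iv D56639) (iv D55334) F245143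
def n57352 : Q := act 8 n56129
theorem D57352 : act 8 n56129 = n57352 := rfl
theorem F257150 : act 0 n57352 = n56834 := d7_1 D57352 (iv D56834) (iv F251731)
theorem F257151 : act 1 n57352 = n56642 := d15_1 D57352 (iv D56642) (iv F251732)
theorem F257152 : act 2 n57352 = n56782 := d22_1 D57352 (iv D56782) (iv F251733)
theorem F257153 : act 4 n57352 = n57352 := d33_1 D57352 (iv D57352) F251735
theorem F257154 : act 5 n57352 = n56639 := d37_1 D57352 (iv D56639) (iv F251736)
theorem F257155 : act 6 n57352 = n56855 := d40_1 D57352 (iv D56855) (iv F251737)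
theorem F257156 : act 7 n57352 = n56737 := d42_1 D57352 F254749 (iv F251738)
theorem F257157 : act 9 n57352 = n56130 := d44_2 D56129 D57352 (iv D56130) (iv D54710) D54709
def n57353 : Q := act 3 n56130
theorem D57353 : act 3 n56130 = n57353 := rfl
theorem F257158 : act 6 n57353 = n56856 := d26_2 (iv F251740) D57353 (iv D56856)
theorem F257159 : act 8 n57353 = n56132 := d28_2 D56130 D57353 (iv D56132) (iv D54712) (iv F245152)
def n57354 : Q := act 3 n56131
theorem D57354 : act 3 n56131 = n57354 := rfl
theorem F257160 : act 0 n57354 = n56548 := d2_1 D57354 (iv D56548) (iv F251741)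
theorem F257161 : act 1 n57354 = n56667 := d10_1 D57354 (iv D56667) (iv F251742)
theorem F257162 : act 4 n57354 = n57081 := d24_2 (iv F251744) D57354 (iv D57081) F250134 (iv F245233)
theorem F257163 : act 5 n57354 = n56132 := d25_2 (iv F251745) D57354 (iv D56132)
theorem F257164 : act 6 n57354 = n57055 := d26_2 (iv F251746) D57354 (iv D57055)
theorem F257165 : act 7 n57354 = n57058 := d27_2 (iv F251747) D57354 (iv D57058)
theorem F257166 : act 9 n57354 = n56175 := d29_2 (iv F251748) D57354 (iv D56175)
def n57355 : Q := act 2 n56132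
theorem D57355 : act 2 n56132 = n57355 := rfl
theorem F257167 : act 3 n57355 = n56137 := d17_2 D56132 D57355 (iv D56137) (iv D54717) (iv F245162)
theorem F257168 : act 6 n57355 = n56858 := d20_2 (iv F251749) D57355 (iv D56858)
theorem F257169 : act 9 n57355 = n56176 := d23_2 (iv F251750) D57355 (iv D56176)
def n57356 : Q := act 4 n56132
theorem D57356 : act 4 n56132 = n57356 := rfl
theorem F257170 : act 3 n57356 = n56133 := d24_1 D57356 (iv D56133) (iv D54713) (iv F245163) D56132
theorem F257171 : act 6 n57356 = n56859 := d31_2 (iv F251749) D57356 (iv D56859)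
theorem F257172 : act 9 n57356 = n56177 := d34_2 (iv F251750) D57356 (iv D56177)
def n57357 : Q := act 5 n56133
theorem D57357 : act 5 n56133 = n57357 := rfl
theorem F257173 : act 0 n57357 = n57104 := d4_1 D57357 (iv F256847) F256844
theorem F257174 : act 1 n57357 = n56915 := d12_1 D57357 (iv F257139) F257137
theorem F257175 : act 4 n57357 = n56143 := d30_1 D57357 (iv D56143) (iv D54725) (iv F245166) D56133
theorem F257176 : act 8 n57357 = n57357 := d37_2 F251752 D57357 (iv D57357)
theorem F257177 : act 9 n57357 = n56178 := d38_2 (iv F251753) D57357 (iv D56178)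
theorem F257178 : act 6 n56913 = n57357 := d31_0 F257175 F251812 D56913
def n57358 : Q := act 8 n56134
theorem D57358 : act 8 n56134 = n57358 := rfl
theorem F257179 : act 0 n57358 = n57021 := d7_1 D57358 (iv D57021) (iv F251754)
theorem F257180 : act 1 n57358 = n56619 := d15_1 D57358 (iv D56619) (iv F251755)
theorem F257181 : act 2 n57358 = n56610 := d22_1 D57358 (iv D56610) (iv F251756)
theorem F257182 : act 4 n57358 = n56144 := d33_1 D57358 (iv D56144) (iv F251758)
theorem F257183 : act 5 n57358 = n56573 := d37_1 D57358 (iv D56573) (iv F251759)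
theorem F257184 : act 6 n57358 = n57082 := d40_1 D57358 (iv D57082) (iv F251760)
theorem F257185 : act 7 n57358 = n56135 := d42_1 D57358 (iv D56135) (iv F251761)
theorem F257186 : act 9 n57358 = n56179 := d44_2 D56134 D57358 (iv D56179) (iv D54760) (iv F245177)
def n57359 : Q := act 3 n56135
theorem D57359 : act 3 n56135 = n57359 := rfl
theorem F257187 : act 0 n57359 = n57032 := d2_1 D57359 (iv D57032) (iv F251762)
theorem F257188 : act 1 n57359 = n56620 := d10_1 D57359 (iv D56620) (iv F251763)
theorem F257189 : act 5 n57359 = n56860 := d25_2 (iv F251766) D57359 (iv D56860)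
theorem F257190 : act 6 n57359 = n56136 := d26_2 (iv F251767) D57359 (iv D56136)
theorem F257191 : act 8 n57359 = n57075 := d28_2 D56135 D57359 (iv D57075) (iv D55817) (iv F245181)
theorem F257192 : act 9 n57359 = n56180 := d29_2 (iv F251768) D57359 (iv D56180)
def n57360 : Q := act 2 n56136
theorem D57360 : act 2 n56136 = n57360 := rfl
theorem F257193 : act 5 n57360 = n56137 := d19_2 (iv F251770) D57360 (iv D56137)
theorem F257194 : act 9 n57360 = n56181 := d23_2 (iv F251771) D57360 (iv D56181)
def n57361 : Q := act 4 n56136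
theorem D57361 : act 4 n56136 = n57361 := rfl
theorem F257195 : act 1 n57361 = n56622 := d11_1 D57361 (iv D56622) (iv F251769)
theorem F257196 : act 3 n57361 = n56147 := d24_1 D57361 (iv D56147) (iv D54728) (iv F245186) D56136
theorem F257197 : act 9 n57361 = n56182 := d34_2 (iv F251771) D57361 (iv D56182)
def n57362 : Q := act 1 n56137
theorem D57362 : act 1 n56137 = n57362 := rfl
theorem F257198 : act 2 n57362 = n56623 := d9_2 D56137 D57362 (iv D56623) (iv D55315) (iv F245189)
theorem F257199 : act 6 n57362 = n56862 := d13_2 (iv F251772) D57362 (iv D56862)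
theorem F257200 : act 9 n57362 = n56183 := d16_2 (iv F251773) D57362 (iv D56183)
def n57363 : Q := act 5 n56139
theorem D57363 : act 5 n56139 = n57363 := rfl
theorem F257201 : act 0 n57363 = n56833 := d4_1 D57363 F255165 (iv F251782)
theorem F257202 : act 1 n57363 = n56914 := d12_1 D57363 F255416 (iv F251783)
theorem F257203 : act 3 n57363 = n56831 := d25_1 D57363 F255155 (iv F251784)
theorem F257204 : act 7 n57363 = n56143 := d36_2 (iv F251786) D57363 (iv D56143)
theorem F257205 : act 8 n57363 = n57363 := d37_2 F251787 D57363 (iv D57363)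
theorem F257206 : act 9 n57363 = n56186 := d38_2 (iv F251788) D57363 (iv D56186)
def n57364 : Q := act 3 n56140
theorem D57364 : act 3 n56140 = n57364 := rfl
theorem F257207 : act 0 n57364 = n56454 := d2_1 D57364 (iv D56454) (iv F251789)
theorem F257208 : act 1 n57364 = n56627 := d10_1 D57364 (iv D56627) (iv F251790)
theorem F257209 : act 2 n57364 = n57163 := d17_1 D57364 (iv D57163) F250361 (iv F248042) (iv F251791)
theorem F257210 : act 5 n57364 = n57364 := d25_2 F251792 D57364 (iv D57364)
theorem F257211 : act 6 n57364 = n56141 := d26_2 (iv F251793) D57364 (iv D56141)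
theorem F257212 : act 7 n57364 = n57165 := d27_2 (iv F251794) D57364 (iv D57165)
theorem F257213 : act 8 n57364 = n57364 := d28_2 D56140 D57364 (iv D57364) (iv D56140) F245207
theorem F257214 : act 9 n57364 = n56188 := d29_2 (iv F251795) D57364 (iv D56188)
def n57365 : Q := act 2 n56141
theorem D57365 : act 2 n56141 = n57365 := rfl
theorem F257215 : act 0 n57365 = n56844 := d1_1 D57365 F255212 (iv F251796)
theorem F257216 : act 3 n57365 = n56707 := d17_2 D56141 D57365 F254624 F248856 (iv F245213)
theorem F257217 : act 5 n57365 = n56142 := d19_2 (iv F251798) D57365 (iv D56142)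
theorem F257218 : act 6 n57365 = n57163 := d20_2 F257211 D57365 (iv F257209)
theorem F257219 : act 7 n57365 = n56146 := d21_2 (iv F251799) D57365 (iv D56146)
theorem F257220 : act 8 n57365 = n57365 := d22_2 F251800 D57365 (iv D57365)
theorem F257221 : act 9 n57365 = n56189 := d23_2 (iv F251801) D57365 (iv D56189)
theorem F257222 : act 1 n57365 = n56709 := d46_5 D54704 (iv F251696) F251695 D56141 D57365 (iv F256546) F256550 F256548 D57258 F256563 F251078 (iv F252027) F252026 F249076 (iv F245669) D56214 F252199 (iv F251519) F251518 F247462 (iv F247641) F247640 (iv D53821) (iv D51954) (iv F232832) (iv F241281) (iv F245131) (iv D54707) F237511 F229065 F223297 F213282 F180054 F180053 D43119 (iv F213379) F213378 F190713 (iv F190561) (iv F214942) (iv F224572) F224576 F216705 (iv F218554) (iv F227903) F227902 (iv F233358) F233357 D52382 F234696 F225509 F215615 (iv F215844) (iv F225715) (iv F234880) (iv D52454) (iv F234845) (iv F242864) (iv F247612) (iv F251234) F251233 F244785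
def n57366 : Q := act 4 n56141
theorem D57366 : act 4 n56141 = n57366 := rfl
theorem F257223 : act 0 n57366 = n57006 := d3_1 D57366 (iv D57006) (iv F251796)
theorem F257224 : act 1 n57366 = n56629 := d11_1 D57366 (iv D56629) (iv F251797)
theorem F257225 : act 7 n57366 = n56147 := d32_2 (iv F251799) D57366 (iv D56147)
theorem F257226 : act 8 n57366 = n57366 := d33_2 F251800 D57366 (iv D57366)
theorem F257227 : act 9 n57366 = n56190 := d34_2 (iv F251801) D57366 (iv D56190)
def n57367 : Q := act 3 n56144
theorem D57367 : act 3 n56144 = n57367 := rfl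
theorem F257228 : act 0 n57367 = n57041 := d2_1 D57367 (iv D57041) (iv F251815)
theorem F257229 : act 1 n57367 = n56633 := d10_1 D57367 (iv D56633) (iv F251816)
theorem F257230 : act 2 n57367 = n56696 := d17_1 D57367 (iv D56696) F248604 (iv F248851) (iv F251817)
theorem F257231 : act 5 n57367 = n56148 := d25_2 (iv F251818) D57367 (iv D56148)
theorem F257232 : act 6 n57367 = n57165 := d26_2 (iv F251819) D57367 (iv D57165)
theorem F257233 : act 7 n57367 = n56145 := d27_2 (iv F251820) D57367 (iv D56145)
theorem F257234 : act 8 n57367 = n57367 := d28_2 D56144 D57367 (iv D57367) (iv D56144) F245247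
theorem F257235 : act 9 n57367 = n56195 := d29_2 (iv F251821) D57367 (iv D56195)
def n57368 : Q := act 4 n56145
theorem D57368 : act 4 n56145 = n57368 := rfl
theorem F257236 : act 0 n57368 = n57043 := d3_1 D57368 (iv D57043) (iv F251822)
theorem F257237 : act 1 n57368 = n56635 := d11_1 D57368 (iv D56635) (iv F251823)
theorem F257238 : act 2 n57368 = n56708 := d18_1 D57368 (iv D56708) (iv F251824)
theorem F257239 : act 5 n57368 = n56513 := d30_2 (iv F251825) D57368 (iv D56513) F247713 (iv F245277)
theorem F257240 : act 6 n57368 = n56147 := d31_2 (iv F251826) D57368 (iv D56147)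
theorem F257241 : act 8 n57368 = n57368 := d33_2 F251827 D57368 (iv D57368)
theorem F257242 : act 9 n57368 = n56196 := d34_2 (iv F251828) D57368 (iv D56196)
def n57369 : Q := act 4 n56146
theorem D57369 : act 4 n56146 = n57369 := rfl
theorem F257243 : act 0 n57369 = n56853 := d3_1 D57369 (iv D56853) (iv F251829)
theorem F257244 : act 1 n57369 = n56710 := d11_1 D57369 (iv D56710) F251835
theorem F257245 : act 2 n57369 = n56147 := d18_1 D57369 (iv D56147) D56146
theorem F257246 : act 6 n57369 = n56708 := d31_2 (iv F251832) D57369 (iv D56708)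
theorem F257247 : act 8 n57369 = n57369 := d33_2 F251833 D57369 (iv D57369)
theorem F257248 : act 9 n57369 = n56198 := d34_2 (iv F251834) D57369 (iv D56198)
def n57370 : Q := act 9 n56149
theorem D57370 : act 9 n56149 = n57370 := rfl
theorem F257249 : act 0 n57370 = n56401 := d8_1 D57370 (iv D56401) (iv F251847)
theorem F257250 : act 1 n57370 = n56321 := d16_1 D57370 (iv D56321) (iv F251848)
theorem F257251 : act 2 n57370 = n56538 := d23_1 D57370 (iv D56538) (iv F251849)
theorem F257252 : act 3 n57370 = n56319 := d29_1 D57370 (iv D56319) (iv F251850)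
theorem F257253 : act 4 n57370 = n57370 := d34_1 D57370 (iv D57370) F251851
theorem F257254 : act 5 n57370 = n56159 := d38_1 D57370 (iv D56159) (iv F251852)
theorem F257255 : act 6 n57370 = n56362 := d41_1 D57370 (iv D56362) (iv F251853)
theorem F257256 : act 7 n57370 = n56150 := d43_1 D57370 (iv D56150) D56149
def n57371 : Q := act 8 n56150
theorem D57371 : act 8 n56150 = n57371 := rfl
theorem F257257 : act 0 n57371 = n56418 := d7_1 D57371 (iv D56418) (iv F251855)
theorem F257258 : act 1 n57371 = n56645 := d15_1 D57371 (iv D56645) (iv F251856)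
theorem F257259 : act 2 n57371 = n56550 := d22_1 D57371 (iv D56550) (iv F251857)
theorem F257260 : act 4 n57371 = n57371 := d33_1 D57371 (iv D57371) F251859
theorem F257261 : act 5 n57371 = n56160 := d37_1 D57371 (iv D56160) (iv F251860)
theorem F257262 : act 6 n57371 = n56151 := d40_1 D57371 (iv D56151) (iv F251861)
def n57372 : Q := act 3 n56151
theorem D57372 : act 3 n56151 = n57372 := rfl
theorem F257263 : act 1 n57372 = n56646 := d10_1 D57372 (iv D56646) (iv F251862)
theorem F257264 : act 5 n57372 = n56152 := d25_2 (iv F251864) D57372 (iv D56152)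
theorem F257265 : act 7 n57372 = n56866 := d27_2 (iv F251865) D57372 (iv D56866)
def n57373 : Q := act 2 n56152
theorem D57373 : act 2 n56152 = n57373 := rfl
theorem F257266 : act 6 n57373 = n56162 := d20_2 (iv F251867) D57373 (iv D56162)
theorem F257267 : act 7 n57373 = n56867 := d21_2 (iv F251868) D57373 (iv D56867)
def n57374 : Q := act 8 n56153
theorem D57374 : act 8 n56153 = n57374 := rfl
theorem F257268 : act 0 n57374 = n56155 := d7_1 D57374 (iv D56155) (iv F251869)
theorem F257269 : act 1 n57374 = n56604 := d15_1 D57374 (iv D56604) (iv F251870)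
theorem F257270 : act 2 n57374 = n56648 := d22_1 D57374 (iv D56648) (iv F251871)
theorem F257271 : act 4 n57374 = n56154 := d33_1 D57374 (iv D56154) (iv F251873)
theorem F257272 : act 5 n57374 = n56602 := d37_1 D57374 (iv D56602) (iv F251874)
theorem F257273 : act 6 n57374 = n56854 := d40_1 D57374 (iv D56854) (iv F251875)
theorem F257274 : act 7 n57374 = n56164 := d42_1 D57374 (iv D56164) (iv F251876)
theorem F257275 : act 9 n57374 = n56650 := d44_2 D56153 D57374 (iv D56650) (iv D55348) (iv F245302)
def n57375 : Q := act 3 n56154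
theorem D57375 : act 3 n56154 = n57375 := rfl
theorem F257276 : act 0 n57375 = n56156 := d2_1 D57375 (iv D56156) (iv F251877)
theorem F257277 : act 1 n57375 = n56625 := d10_1 D57375 (iv D56625) (iv F251878)
theorem F257278 : act 2 n57375 = n56195 := d17_1 D57375 (iv D56195) (iv F252078) F252079 (iv F251879)
theorem F257279 : act 5 n57375 = n56184 := d25_2 (iv F251880) D57375 (iv D56184)
theorem F257280 : act 6 n57375 = n57158 := d26_2 (iv F251881) D57375 (iv D57158)
theorem F257281 : act 7 n57375 = n56165 := d27_2 (iv F251882) D57375 (iv D56165)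
theorem F257282 : act 8 n57375 = n56203 := d28_2 D56154 D57375 F252136 (iv D54796) (iv F245306)
theorem F257283 : act 9 n57375 = n56696 := d29_2 (iv F251883) D57375 (iv D56696)
def n57376 : Q := act 3 n56155
theorem D57376 : act 3 n56155 = n57376 := rfl
theorem F257284 : act 1 n57376 = n56157 := d10_1 D57376 (iv D56157) (iv F251884)
theorem F257285 : act 5 n57376 = n57056 := d25_2 (iv F251887) D57376 (iv D57056)
theorem F257286 : act 7 n57376 = n56169 := d27_2 (iv F251888) D57376 (iv D56169)
theorem F257287 : act 8 n57376 = n56774 := d28_2 D56155 D57376 (iv D56774) (iv D55487) (iv F245312)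
def n57377 : Q := act 4 n56156
theorem D57377 : act 4 n56156 = n57377 := rfl
theorem F257288 : act 1 n57377 = n56158 := d11_1 D57377 (iv D56158) (iv F251889)
theorem F257289 : act 7 n57377 = n56170 := d32_2 (iv F251891) D57377 (iv D56170)
theorem F257290 : act 8 n57377 = n56208 := d33_2 (iv F251892) D57377 (iv D56208)
def n57378 : Q := act 2 n56157
theorem D57378 : act 2 n56157 = n57378 := rfl
theorem F257291 : act 0 n57378 = n57135 := d1_1 D57378 (iv D57135) (iv F251893)
theorem F257292 : act 3 n57378 = n56162 := d17_2 D56157 D57378 (iv D56162) (iv D54744) (iv F245321)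
theorem F257293 : act 5 n57378 = n57059 := d19_2 (iv F251894) D57378 (iv D57059)
theorem F257294 : act 7 n57378 = n56176 := d21_2 (iv F251895) D57378 (iv D56176)
theorem F257295 : act 8 n57378 = n56776 := d22_2 (iv F251896) D57378 (iv D56776)
def n57379 : Q := act 4 n56157
theorem D57379 : act 4 n56157 = n57379 := rfl
theorem F257296 : act 0 n57379 = n57136 := d3_1 D57379 (iv D57136) (iv F251893)
theorem F257297 : act 3 n57379 = n56158 := d24_1 D57379 (iv D56158) (iv D54740) (iv F245322) D56157
theorem F257298 : act 7 n57379 = n56177 := d32_2 (iv F251895) D57379 (iv D56177)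
theorem F257299 : act 8 n57379 = n56777 := d33_2 (iv F251896) D57379 (iv D56777)
def n57380 : Q := act 5 n56158
theorem D57380 : act 5 n56158 = n57380 := rfl
theorem F257300 : act 0 n57380 = n57152 := d4_1 D57380 F255944 (iv F251897)
theorem F257301 : act 4 n57380 = n56186 := d30_1 D57380 (iv D56186) (iv D54766) (iv F245326) D56158
theorem F257302 : act 7 n57380 = n56178 := d36_2 (iv F251898) D57380 (iv D56178)
theorem F257303 : act 8 n57380 = n56209 := d37_2 (iv F251899) D57380 (iv D56209)
def n57381 : Q := act 8 n56159
theorem D57381 : act 8 n56159 = n57381 := rfl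
theorem F257304 : act 0 n57381 = n56403 := d7_1 D57381 (iv D56403) (iv F251900)
theorem F257305 : act 1 n57381 = n56662 := d15_1 D57381 (iv D56662) (iv F251901)
theorem F257306 : act 2 n57381 = n56539 := d22_1 D57381 (iv D56539) (iv F251902)
theorem F257307 : act 4 n57381 = n56187 := d33_1 D57381 (iv D56187) (iv F251904)
theorem F257308 : act 6 n57381 = n56179 := d40_1 D57381 (iv D56179) (iv F251905)
theorem F257309 : act 7 n57381 = n56160 := d42_1 D57381 (iv D56160) (iv F251906)
theorem F257310 : act 9 n57381 = n57082 := d44_2 D56159 D57381 (iv D57082) (iv D55824) (iv F245335)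
def n57382 : Q := act 3 n56160
theorem D57382 : act 3 n56160 = n57382 := rfl
theorem F257311 : act 0 n57382 = n56420 := d2_1 D57382 (iv D56420) (iv F251907)
theorem F257312 : act 1 n57382 = n56663 := d10_1 D57382 (iv D56663) (iv F251908)
theorem F257313 : act 6 n57382 = n56161 := d26_2 (iv F251911) D57382 (iv D56161)
theorem F257314 : act 8 n57382 = n56341 := d28_2 D56160 D57382 (iv D56341) (iv D54992) (iv F245339)
def n57383 : Q := act 2 n56161
theorem D57383 : act 2 n56161 = n57383 := rfl
theorem F257315 : act 0 n57383 = n56993 := d1_1 D57383 (iv D56993) (iv F251912)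
theorem F257316 : act 3 n57383 = n57059 := d17_2 D56161 D57383 (iv D57059) (iv D55802) (iv F245344)
theorem F257317 : act 5 n57383 = n56162 := d19_2 (iv F251914) D57383 (iv D56162)
theorem F257318 : act 7 n57383 = n56181 := d21_2 (iv F251915) D57383 (iv D56181)
theorem F257319 : act 8 n57383 = n56963 := d22_2 (iv F251916) D57383 (iv D56963)
def n57384 : Q := act 4 n56161
theorem D57384 : act 4 n56161 = n57384 := rfl
theorem F257320 : act 0 n57384 = n56994 := d3_1 D57384 (iv D56994) (iv F251912)
theorem F257321 : act 1 n57384 = n56665 := d11_1 D57384 (iv D56665) (iv F251913)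
theorem F257322 : act 3 n57384 = n56190 := d24_1 D57384 (iv D56190) (iv D54769) (iv F245345) D56161
theorem F257323 : act 7 n57384 = n56182 := d32_2 (iv F251915) D57384 (iv D56182)
theorem F257324 : act 8 n57384 = n56964 := d33_2 (iv F251916) D57384 (iv D56964)
def n57385 : Q := act 1 n56162
theorem D57385 : act 1 n56162 = n57385 := rfl
theorem F257325 : act 2 n57385 = n56666 := d9_2 D56162 D57385 (iv D56666) (iv D55364) (iv F245348)
theorem F257326 : act 7 n57385 = n56183 := d14_2 (iv F251917) D57385 (iv D56183)
def n57386 : Q := act 8 n56163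
theorem D57386 : act 8 n56163 = n57386 := rfl
theorem F257327 : act 0 n57386 = n56167 := d7_1 D57386 (iv D56167) (iv F251918)
theorem F257328 : act 1 n57386 = n56613 := d15_1 D57386 (iv D56613) (iv F251919)
theorem F257329 : act 2 n57386 = n56573 := d22_1 D57386 (iv D56573) (iv F251920)
theorem F257330 : act 4 n57386 = n56210 := d33_1 D57386 (iv D56210) (iv F251922)
theorem F257331 : act 5 n57386 = n56610 := d37_1 D57386 (iv D56610) (iv F251923)
theorem F257332 : act 6 n57386 = n56577 := d40_1 D57386 (iv D56577) (iv F251924)
theorem F257333 : act 7 n57386 = n56773 := d42_1 D57386 (iv D56773) (iv F251925)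
theorem F257334 : act 9 n57386 = n56896 := d44_2 D56163 D57386 (iv D56896) (iv D55616) F245357
def n57387 : Q := act 3 n56164
theorem D57387 : act 3 n56164 = n57387 := rfl
theorem F257335 : act 0 n57387 = n56169 := d2_1 D57387 (iv D56169) (iv F251926)
theorem F257336 : act 1 n57387 = n56617 := d10_1 D57387 (iv D56617) (iv F251927)
theorem F257337 : act 5 n57387 = n56611 := d25_2 (iv F251930) D57387 (iv D56611)
theorem F257338 : act 6 n57387 = n56882 := d26_2 (iv F251931) D57387 (iv D56882)
theorem F257339 : act 9 n57387 = n56672 := d29_2 (iv F251932) D57387 (iv D56672)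
def n57388 : Q := act 4 n56165
theorem D57388 : act 4 n56165 = n57388 := rfl
theorem F257340 : act 0 n57388 = n56170 := d3_1 D57388 (iv D56170) (iv F251933)
theorem F257341 : act 1 n57388 = n56632 := d11_1 D57388 (iv D56632) (iv F251934)
theorem F257342 : act 2 n57388 = n56196 := d18_1 D57388 (iv D56196) (iv F251935)
theorem F257343 : act 5 n57388 = n56775 := d30_2 (iv F251936) D57388 (iv D56775) F249055 (iv F245488)
theorem F257344 : act 6 n57388 = n56198 := d31_2 (iv F251937) D57388 (iv D56198)
theorem F257345 : act 8 n57388 = n56205 := d33_2 (iv F251938) D57388 (iv D56205)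
theorem F257346 : act 9 n57388 = n56708 := d34_2 (iv F251939) D57388 (iv D56708)
def n57389 : Q := act 8 n56166
theorem D57389 : act 8 n56166 = n57389 := rfl
theorem F257347 : act 0 n57389 = n56896 := d7_1 D57389 (iv D56896) (iv F251940)
theorem F257348 : act 1 n57389 = n56171 := d15_1 D57389 (iv D56171) (iv F251941)
theorem F257349 : act 2 n57389 = n56459 := d22_1 D57389 (iv D56459) (iv F251942)
theorem F257350 : act 4 n57389 = n56212 := d33_1 D57389 (iv D56212) (iv F251944)
theorem F257351 : act 5 n57389 = n56640 := d37_1 D57389 (iv D56640) (iv F251945)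
theorem F257352 : act 6 n57389 = n56884 := d40_1 D57389 (iv D56884) (iv F251946)
theorem F257353 : act 7 n57389 = n56460 := d42_1 D57389 (iv D56460) (iv F251947)
theorem F257354 : act 9 n57389 = n56167 := d44_2 D56166 D57389 (iv D56167) (iv D54749) D54748
def n57390 : Q := act 3 n56167
theorem D57390 : act 3 n56167 = n57390 := rfl
theorem F257355 : act 1 n57390 = n56172 := d10_1 D57390 (iv D56172) (iv F251948)
theorem F257356 : act 5 n57390 = n57052 := d25_2 (iv F251951) D57390 (iv D57052)
theorem F257357 : act 6 n57390 = n56885 := d26_2 (iv F251952) D57390 (iv D56885)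
theorem F257358 : act 7 n57390 = n56774 := d27_2 (iv F251953) D57390 (iv D56774)
theorem F257359 : act 8 n57390 = n56169 := d28_2 D56167 D57390 (iv D56169) (iv D54751) (iv F245380)
def n57391 : Q := act 3 n56168
theorem D57391 : act 3 n56168 = n57391 := rfl
theorem F257360 : act 0 n57391 = n56611 := d2_1 D57391 (iv D56611) (iv F251954)
theorem F257361 : act 1 n57391 = n56175 := d10_1 D57391 (iv D56175) (iv F251955)
theorem F257362 : act 4 n57391 = n57055 := d24_2 (iv F251957) D57391 (iv D57055) F250078 (iv F245495)
theorem F257363 : act 5 n57391 = n56169 := d25_2 (iv F251958) D57391 (iv D56169)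
theorem F257364 : act 6 n57391 = n57081 := d26_2 (iv F251959) D57391 (iv D57081)
theorem F257365 : act 7 n57391 = n57056 := d27_2 (iv F251960) D57391 (iv D57056)
theorem F257366 : act 8 n57391 = n57052 := d28_2 D56168 D57391 (iv D57052) (iv D55795) (iv F245388)
theorem F257367 : act 9 n57391 = n56667 := d29_2 (iv F251961) D57391 (iv D56667)
def n57392 : Q := act 2 n56169
theorem D57392 : act 2 n56169 = n57392 := rfl
theorem F257368 : act 3 n57392 = n56673 := d17_2 D56169 D57392 (iv D56673) (iv D55371) (iv F245394)
theorem F257369 : act 6 n57392 = n56888 := d20_2 (iv F251963) D57392 (iv D56888)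
def n57393 : Q := act 4 n56169
theorem D57393 : act 4 n56169 = n57393 := rfl
theorem F257370 : act 1 n57393 = n56177 := d11_1 D57393 (iv D56177) (iv F251962)
theorem F257371 : act 3 n57393 = n56170 := d24_1 D57393 (iv D56170) (iv D54752) (iv F245395) D56169
theorem F257372 : act 6 n57393 = n56889 := d31_2 (iv F251963) D57393 (iv D56889)
def n57394 : Q := act 5 n56170
theorem D57394 : act 5 n56170 = n57394 := rfl
theorem F257373 : act 0 n57394 = n56775 := d4_1 D57394 (iv F257343) F257340
theorem F257374 : act 1 n57394 = n56178 := d12_1 D57394 (iv D56178) (iv F251964)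
theorem F257375 : act 2 n57394 = n56500 := d19_1 D57394 (iv F256937) F256936
theorem F257376 : act 4 n57394 = n56192 := d30_1 D57394 (iv D56192) (iv D54773) (iv F245398) D56170
theorem F257377 : act 6 n57394 = n56501 := d35_2 (iv F251965) D57394 F253753 (iv F254655) F254654
theorem F257378 : act 8 n57394 = n56215 := d37_2 (iv F251966) D57394 (iv D56215)
theorem F257379 : act 9 n57394 = n56915 := d38_2 F257142 D57394 (iv F257139)
def n57395 : Q := act 3 n56171
theorem D57395 : act 3 n56171 = n57395 := rfl
theorem F257380 : act 0 n57395 = n56835 := d2_1 D57395 (iv D56835) (iv F251967)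
theorem F257381 : act 5 n57395 = n56661 := d25_2 (iv F251970) D57395 F254484
theorem F257382 : act 6 n57395 = n56893 := d26_2 (iv F251971) D57395 (iv D56893)
theorem F257383 : act 7 n57395 = n56689 := d27_2 (iv F251972) D57395 F254569
theorem F257384 : act 9 n57395 = n56172 := d29_2 (iv F251973) D57395 (iv D56172)
def n57396 : Q := act 2 n56172
theorem D57396 : act 2 n56172 = n57396 := rfl
theorem F257385 : act 0 n57396 = n57116 := d1_1 D57396 (iv D57116) (iv F251974)
theorem F257386 : act 3 n57396 = n56772 := d17_2 D56172 D57396 (iv D56772) (iv D55484) (iv F245408)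
theorem F257387 : act 5 n57396 = n57053 := d19_2 (iv F251975) D57396 (iv D57053)
theorem F257388 : act 6 n57396 = n56894 := d20_2 (iv F251976) D57396 (iv D56894)
theorem F257389 : act 7 n57396 = n56776 := d21_2 (iv F251977) D57396 (iv D56776)
theorem F257390 : act 8 n57396 = n56176 := d22_2 (iv F251978) D57396 (iv D56176)
def n57397 : Q := act 4 n56172
theorem D57397 : act 4 n56172 = n57397 := rfl
theorem F257391 : act 0 n57397 = n57117 := d3_1 D57397 (iv D57117) (iv F251974)
theorem F257392 : act 3 n57397 = n56217 := d24_1 D57397 (iv D56217) (iv D54806) (iv F245409) D56172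
theorem F257393 : act 6 n57397 = n56895 := d31_2 (iv F251976) D57397 (iv D56895)
theorem F257394 : act 7 n57397 = n56777 := d32_2 (iv F251977) D57397 (iv D56777)
theorem F257395 : act 8 n57397 = n56177 := d33_2 (iv F251978) D57397 (iv D56177)
def n57398 : Q := act 8 n56173
theorem D57398 : act 8 n56173 = n57398 := rfl
theorem F257396 : act 0 n57398 = n56640 := d7_1 D57398 (iv D56640) (iv F251979)
theorem F257397 : act 1 n57398 = n56614 := d15_1 D57398 (iv D56614) (iv F251980)
theorem F257398 : act 2 n57398 = n56179 := d22_1 D57398 (iv D56179) (iv F251981)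
theorem F257399 : act 4 n57398 = n56193 := d33_1 D57398 (iv D56193) (iv F251983)
theorem F257400 : act 5 n57398 = n56896 := d37_1 D57398 (iv D56896) (iv F251984)
theorem F257401 : act 6 n57398 = n56539 := d40_1 D57398 (iv D56539) (iv F251985)
theorem F257402 : act 7 n57398 = n56174 := d42_1 D57398 (iv D56174) (iv F251986)
theorem F257403 : act 9 n57398 = n56610 := d44_2 D56173 D57398 (iv D56610) (iv D55303) (iv F245420)
def n57399 : Q := act 3 n56174
theorem D57399 : act 3 n56174 = n57399 := rfl
theorem F257404 : act 0 n57399 = n56674 := d2_1 D57399 F254522 (iv F251987)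
theorem F257405 : act 1 n57399 = n57081 := d10_1 D57399 (iv D57081) (iv F251988)
theorem F257406 : act 4 n57399 = n56667 := d24_2 (iv F251990) D57399 (iv D56667) F248525 (iv F245517)
theorem F257407 : act 5 n57399 = n56897 := d25_2 (iv F251991) D57399 (iv D56897)
theorem F257408 : act 6 n57399 = n56175 := d26_2 (iv F251992) D57399 (iv D56175)
theorem F257409 : act 8 n57399 = n57049 := d28_2 D56174 D57399 (iv D57049) (iv D55792) (iv F245424)
theorem F257410 : act 9 n57399 = n57055 := d29_2 (iv F251993) D57399 (iv D57055)
def n57400 : Q := act 2 n56175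
theorem D57400 : act 2 n56175 = n57400 := rfl
theorem F257411 : act 0 n57400 = n57115 := d1_1 D57400 (iv D57115) (iv F251994)
theorem F257412 : act 3 n57400 = n56181 := d17_2 D56175 D57400 (iv D56181) (iv D54762) (iv F245429)
theorem F257413 : act 4 n57400 = n57127 := d18_2 (iv F251995) D57400 (iv D57127)
theorem F257414 : act 5 n57400 = n56176 := d19_2 (iv F251996) D57400 (iv D56176)
theorem F257415 : act 7 n57400 = n57059 := d21_2 (iv F251997) D57400 (iv D57059)
theorem F257416 : act 8 n57400 = n57053 := d22_2 (iv F251998) D57400 (iv D57053)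
def n57401 : Q := act 1 n56176
theorem D57401 : act 1 n56176 = n57401 := rfl
theorem F257417 : act 3 n57401 = n56183 := d10_2 (iv F251999) D57401 (iv D56183)
theorem F257418 : act 6 n57401 = n56900 := d13_2 (iv F252000) D57401 (iv D56900)
def n57402 : Q := act 4 n56176
theorem D57402 : act 4 n56176 = n57402 := rfl
theorem F257419 : act 2 n57402 = n56177 := d18_1 D57402 (iv D56177) D56176
theorem F257420 : act 6 n57402 = n56901 := d31_2 (iv F252000) D57402 (iv D56901)
def n57403 : Q := act 5 n56177
theorem D57403 : act 5 n56177 = n57403 := rfl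
theorem F257421 : act 0 n57403 = n57130 := d4_1 D57403 (iv F256896) F256893
theorem F257422 : act 3 n57403 = n56178 := d25_1 D57403 (iv D56178) (iv F252001)
theorem F257423 : act 4 n57403 = n57126 := d30_1 D57403 F255903 (iv F251995) F251996 D56177
def n57404 : Q := act 6 n56178
theorem D57404 : act 6 n56178 = n57404 := rfl
theorem F257424 : act 0 n57404 = n57155 := d5_1 D57404 F255956 (iv F252003)
theorem F257425 : act 1 n57404 = n56501 := d13_1 D57404 (iv F257377) F257374
theorem F257426 : act 4 n57404 = n56194 := d31_1 D57404 (iv D56194) (iv F252004)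
theorem F257427 : act 5 n57404 = n56717 := d35_1 D57404 F254663 (iv D55621) (iv F245434) D56178
theorem F257428 : act 8 n57404 = n56219 := d40_2 (iv F252005) D57404 (iv D56219)
theorem F257429 : act 9 n57404 = n56913 := d41_2 F257177 D57404 F257178
theorem F257430 : act 7 n57067 = n57404 := d42_3 F257428 (iv F252232) (iv F255766)
def n57405 : Q := act 3 n56179
theorem D57405 : act 3 n56179 = n57405 := rfl
theorem F257431 : act 1 n57405 = n56690 := d10_1 D57405 (iv D56690) (iv F252006)
theorem F257432 : act 5 n57405 = n56903 := d25_2 (iv F252008) D57405 (iv D56903)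
theorem F257433 : act 7 n57405 = n56180 := d27_2 (iv F252009) D57405 (iv D56180)
def n57406 : Q := act 2 n56180
theorem D57406 : act 2 n56180 = n57406 := rfl
theorem F257434 : act 5 n57406 = n56904 := d19_2 (iv F252011) D57406 (iv D56904)
theorem F257435 : act 6 n57406 = n56181 := d20_2 (iv F252012) D57406 (iv D56181)
def n57407 : Q := act 4 n56180
theorem D57407 : act 4 n56180 = n57407 := rfl
theorem F257436 : act 1 n57407 = n56692 := d11_1 D57407 (iv D56692) (iv F252010)
theorem F257437 : act 3 n57407 = n56196 := d24_1 D57407 (iv D56196) (iv D54778) (iv F245441) D56180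
theorem F257438 : act 6 n57407 = n56182 := d31_2 (iv F252012) D57407 (iv D56182)
def n57408 : Q := act 1 n56181
theorem D57408 : act 1 n56181 = n57408 := rfl
theorem F257439 : act 2 n57408 = n56693 := d9_2 D56181 D57408 (iv D56693) (iv D55388) (iv F245444)
theorem F257440 : act 5 n57408 = n56183 := d12_2 (iv F252013) D57408 (iv D56183)
def n57409 : Q := act 4 n56181
theorem D57409 : act 4 n56181 = n57409 := rfl
theorem F257441 : act 2 n57409 = n56182 := d18_1 D57409 (iv D56182) D56181
def n57410 : Q := act 0 n56183
theorem D57410 : act 0 n56183 = n57410 := rfl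
theorem F257442 : act 2 n57410 = n56695 := d1_2 (iv F252016) D57410 (iv D56695)
theorem F257443 : act 6 n57410 = n56906 := d5_2 (iv F252017) D57410 (iv D56906)
def n57411 : Q := act 5 n56185
theorem D57411 : act 5 n56185 = n57411 := rfl
theorem F257444 : act 0 n57411 = n56213 := d4_1 D57411 F252193 (iv F252026)
theorem F257445 : act 1 n57411 = n56186 := d12_1 D57411 (iv D56186) (iv F252027)
theorem F257446 : act 2 n57411 = n56499 := d19_1 D57411 F253746 (iv F252028)
theorem F257447 : act 3 n57411 = n56210 := d25_1 D57411 F252173 (iv F252029)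
theorem F257448 : act 7 n57411 = n56192 := d36_2 (iv F252031) D57411 (iv D56192)
theorem F257449 : act 8 n57411 = n56211 := d37_2 (iv F252032) D57411 F252180
theorem F257450 : act 9 n57411 = n56914 := d38_2 (iv F252033) D57411 F255416
theorem F257451 : act 6 n56578 = n57411 := d40_3 F257449 F252181 (iv F254118)
def n57412 : Q := act 6 n56186
theorem D57412 : act 6 n56186 = n57412 := rfl
theorem F257452 : act 0 n57412 = n56823 := d5_1 D57412 F255119 (iv F252034)
theorem F257453 : act 1 n57412 = n56578 := d13_1 D57412 F257451 F257445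
theorem F257454 : act 3 n57412 = n56575 := d26_1 D57412 F254101 (iv F252035)
theorem F257455 : act 5 n57412 = n57412 := d35_1 D57412 (iv D57412) (iv D56186) F245460 D56186
theorem F257456 : act 7 n57412 = n56587 := d39_2 (iv F252036) D57412 F254158 F252090 (iv D56194)
theorem F257457 : act 8 n57412 = n56220 := d40_2 (iv F252037) D57412 (iv D56220)
def n57413 : Q := act 3 n56187
theorem D57413 : act 3 n56187 = n57413 := rfl
theorem F257458 : act 0 n57413 = n56447 := d2_1 D57413 (iv D56447) (iv F252038)
theorem F257459 : act 1 n57413 = n56701 := d10_1 D57413 (iv D56701) (iv F252039)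
theorem F257460 : act 2 n57413 = n57158 := d17_1 D57413 (iv D57158) F250340 (iv F248018) (iv F252040)
theorem F257461 : act 5 n57413 = n57413 := d25_2 F252041 D57413 (iv D57413)
theorem F257462 : act 6 n57413 = n56195 := d26_2 (iv F252042) D57413 (iv D56195)
theorem F257463 : act 7 n57413 = n56188 := d27_2 (iv F252043) D57413 (iv D56188)
theorem F257464 : act 8 n57413 = n56199 := d28_2 D56187 D57413 (iv D56199) (iv D54785) (iv F245466)
theorem F257465 : act 9 n57413 = n57165 := d29_2 (iv F252044) D57413 (iv D57165)
def n57414 : Q := act 4 n56188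
theorem D57414 : act 4 n56188 = n57414 := rfl
theorem F257466 : act 0 n57414 = n56456 := d3_1 D57414 (iv D56456) (iv F252045)
theorem F257467 : act 1 n57414 = n56703 := d11_1 D57414 (iv D56703) (iv F252046)
theorem F257468 : act 2 n57414 = n57164 := d18_1 D57414 (iv D57164) (iv F252047)
theorem F257469 : act 6 n57414 = n56190 := d31_2 (iv F252049) D57414 (iv D56190)
theorem F257470 : act 8 n57414 = n56200 := d33_2 (iv F252050) D57414 (iv D56200)
def n57415 : Q := act 1 n56189
theorem D57415 : act 1 n56189 = n57415 := rfl
theorem F257471 : act 0 n57415 = n56793 := d0_1 D57415 F254995 F249173 (iv F249494) (iv F252051)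
theorem F257472 : act 2 n57415 = n56704 := d9_2 D56189 D57415 (iv D56704) (iv D55400) (iv F245476)
theorem F257473 : act 3 n57415 = n56631 := d10_2 (iv F252052) D57415 F254350
theorem F257474 : act 5 n57415 = n56191 := d12_2 (iv F252053) D57415 (iv D56191)
theorem F257475 : act 6 n57415 = n57160 := d13_2 (iv F252054) D57415 F255971
theorem F257476 : act 7 n57415 = n56197 := d14_2 (iv F252055) D57415 (iv D56197)
theorem F257477 : act 8 n57415 = n56201 := d15_2 (iv F252056) D57415 (iv D56201)
theorem F257478 : act 9 n57415 = n56709 := d16_2 F257221 D57415 (iv F257222)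
def n57416 : Q := act 4 n56189
theorem D57416 : act 4 n56189 = n57416 := rfl
theorem F257479 : act 0 n57416 = n56870 := d3_1 D57416 (iv D56870) (iv F252051)
theorem F257480 : act 2 n57416 = n56190 := d18_1 D57416 (iv D56190) D56189
theorem F257481 : act 6 n57416 = n57164 := d31_2 (iv F252054) D57416 (iv D57164)
theorem F257482 : act 7 n57416 = n56198 := d32_2 (iv F252055) D57416 (iv D56198)
theorem F257483 : act 8 n57416 = n56202 := d33_2 (iv F252056) D57416 (iv D56202)
def n57417 : Q := act 4 n56195
theorem D57417 : act 4 n56195 = n57417 := rfl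
theorem F257484 : act 1 n57417 = n56714 := d11_1 D57417 (iv D56714) (iv F252091)
theorem F257485 : act 5 n57417 = n57005 := d30_2 (iv F252092) D57417 (iv D57005) F249930 (iv F245559)
theorem F257486 : act 7 n57417 = n56196 := d32_2 (iv F252093) D57417 (iv D56196)
theorem F257487 : act 8 n57417 = n56204 := d33_2 (iv F252094) D57417 (iv D56204)
def n57418 : Q := act 4 n56197
theorem D57418 : act 4 n56197 = n57418 := rfl
theorem F257488 : act 0 n57418 = n56803 := d3_1 D57418 (iv D56803) (iv F252098)
theorem F257489 : act 1 n57418 = n56198 := d11_1 D57418 (iv D56198) D56197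
theorem F257490 : act 2 n57418 = n56717 := d18_1 D57418 (iv D56717) (iv F252099)
theorem F257491 : act 6 n57418 = n56632 := d31_2 (iv F252102) D57418 (iv D56632)
theorem F257492 : act 8 n57418 = n56206 := d33_2 (iv F252103) D57418 (iv D56206)
theorem F257493 : act 9 n57418 = n56710 := d34_2 (iv F252104) D57418 (iv D56710)
def n57419 : Q := act 3 n56198
theorem D57419 : act 3 n56198 = n57419 := rfl
theorem F257494 : act 0 n57419 = n56889 := d2_1 D57419 F255355 (iv F252105)
theorem F257495 : act 4 n57419 = n56882 := d24_2 D56198 D57419 (iv D56882) F249535 (iv F245532)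
def n57420 : Q := act 4 n56199
theorem D57420 : act 4 n56199 = n57420 := rfl
theorem F257496 : act 0 n57420 = n56448 := d3_1 D57420 (iv D56448) (iv F252108)
theorem F257497 : act 1 n57420 = n56722 := d11_1 D57420 (iv D56722) (iv F252109)
theorem F257498 : act 2 n57420 = n56504 := d18_1 D57420 F253767 (iv F252110)
theorem F257499 : act 3 n57420 = n56294 := d24_1 D57420 (iv D56294) F246454 (iv F245566) D56199
theorem F257500 : act 6 n57420 = n56204 := d31_2 (iv F252112) D57420 (iv D56204)
theorem F257501 : act 7 n57420 = n56200 := d32_2 (iv F252113) D57420 (iv D56200)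
theorem F257502 : act 9 n57420 = n57420 := d34_2 F252114 D57420 (iv D57420)
theorem F257503 : act 5 n56445 = n57420 := d25_0 F257499 F252733 D56445
def n57421 : Q := act 5 n56200
theorem D57421 : act 5 n56200 = n57421 := rfl
theorem F257504 : act 0 n57421 = n56458 := d4_1 D57421 (iv D56458) (iv F252115)
theorem F257505 : act 1 n57421 = n56725 := d12_1 D57421 (iv D56725) (iv F252116)
theorem F257506 : act 2 n57421 = n56728 := d19_1 D57421 F254706 (iv F252117)
theorem F257507 : act 3 n57421 = n56356 := d25_1 D57421 (iv D56356) (iv F252118)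
theorem F257508 : act 4 n57421 = n57421 := d30_1 D57421 (iv D57421) (iv D56200) F245574 D56200
theorem F257509 : act 7 n57421 = n56445 := d36_2 F257501 D57421 F257503
theorem F257510 : act 9 n57421 = n57421 := d38_2 F252120 D57421 (iv D57421)
def n57422 : Q := act 4 n56201
theorem D57422 : act 4 n56201 = n57422 := rfl
theorem F257511 : act 0 n57422 = n56819 := d3_1 D57422 (iv D56819) (iv F252121)
theorem F257512 : act 1 n57422 = n56202 := d11_1 D57422 (iv D56202) D56201
theorem F257513 : act 2 n57422 = n56727 := d18_1 D57422 (iv D56727) (iv F252122)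
theorem F257514 : act 3 n57422 = n56742 := d24_1 D57422 (iv D56742) (iv D55444) (iv F248833) (iv F252123)
theorem F257515 : act 5 n57422 = n57162 := d30_2 (iv F252124) D57422 (iv D57162) F250357 (iv F245591)
theorem F257516 : act 6 n57422 = n57161 := d31_2 (iv F252125) D57422 (iv D57161)
theorem F257517 : act 7 n57422 = n56206 := d32_2 (iv F252126) D57422 (iv D56206)
theorem F257518 : act 9 n57422 = n57422 := d34_2 F252127 D57422 (iv D57422)
def n57423 : Q := act 4 n56203
theorem D57423 : act 4 n56203 = n57423 := rfl
theorem F257519 : act 0 n57423 = n56208 := d3_1 D57423 (iv D56208) (iv F252134)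
theorem F257520 : act 1 n57423 = n56218 := d11_1 D57423 F252224 (iv F252135)
theorem F257521 : act 2 n57423 = n56204 := d18_1 D57423 (iv D56204) D56203
theorem F257522 : act 3 n57423 = n56215 := d24_1 D57423 F252206 F245711 (iv F245627) (iv F252136)
theorem F257523 : act 5 n57423 = n56214 := d30_2 (iv F252137) D57423 (iv D56214) F245669 (iv F245620)
theorem F257524 : act 6 n57423 = n56504 := d31_2 (iv F252138) D57423 F253767
theorem F257525 : act 7 n57423 = n56205 := d32_2 (iv F252139) D57423 (iv D56205)
theorem F257526 : act 9 n57423 = n57423 := d34_2 F252140 D57423 (iv D57423)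
def n57424 : Q := act 3 n56205
theorem D57424 : act 3 n56205 = n57424 := rfl
theorem F257527 : act 0 n57424 = n56214 := d2_1 D57424 F252199 (iv F252146)
theorem F257528 : act 1 n57424 = n56209 := d10_1 D57424 F252166 (iv F252147)
theorem F257529 : act 2 n57424 = n56503 := d17_1 D57424 F253764 (iv F250705) F250706 (iv F252148)
theorem F257530 : act 4 n57424 = n56211 := d24_2 D56205 D57424 (iv D56211) F245650 (iv F245601)
theorem F257531 : act 5 n57424 = n56208 := d25_2 (iv F252149) D57424 F252162
theorem F257532 : act 6 n57424 = n56207 := d26_2 (iv F252150) D57424 (iv D56207)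
theorem F257533 : act 7 n57424 = n56215 := d27_2 F257525 D57424 (iv F257522)
theorem F257534 : act 9 n57424 = n57424 := d29_2 F252151 D57424 (iv D57424)
def n57425 : Q := act 3 n56206
theorem D57425 : act 3 n56206 = n57425 := rfl
theorem F257535 : act 0 n57425 = n56825 := d2_1 D57425 F255126 (iv F252152)
theorem F257536 : act 1 n57425 = n56207 := d10_1 D57425 (iv D56207) (iv F252153)
theorem F257537 : act 4 n57425 = n56220 := d24_2 D56206 D57425 F252235 F248813 (iv F245610)
theorem F257538 : act 6 n57425 = n56209 := d26_2 (iv F252155) D57425 F252166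
theorem F257539 : act 7 n57425 = n56742 := d27_2 F257517 D57425 (iv F257514)
theorem F257540 : act 9 n57425 = n57425 := d29_2 F252156 D57425 (iv D57425)
def n57426 : Q := act 8 n56207
theorem D57426 : act 8 n56207 = n57426 := rfl
theorem F257541 : act 0 n57426 = n56922 := d7_1 D57426 F255441 (iv F252157)
theorem F257542 : act 4 n57426 = n56578 := d33_1 D57426 F254118 (iv F252158)
theorem F257543 : act 7 n57426 = n56594 := d42_1 D57426 F254188 (iv F252159)
def n57427 : Q := act 3 n56212
theorem D57427 : act 3 n56212 = n57427 := rfl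
theorem F257544 : act 0 n57427 = n56914 := d2_1 D57427 (iv D56914) (iv F252184)
theorem F257545 : act 1 n57427 = n56216 := d10_1 D57427 (iv D56216) (iv F252185)
theorem F257546 : act 2 n57427 = n56509 := d17_1 D57427 (iv D56509) F247699 (iv F247389) (iv F252186)
theorem F257547 : act 5 n57427 = n56463 := d25_2 (iv F252187) D57427 (iv D56463)
theorem F257548 : act 6 n57427 = n56921 := d26_2 (iv F252188) D57427 (iv D56921)
theorem F257549 : act 7 n57427 = n56461 := d27_2 (iv F252189) D57427 (iv D56461)
theorem F257550 : act 8 n57427 = n57427 := d28_2 D56212 D57427 (iv D57427) (iv D56212) F245658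
theorem F257551 : act 9 n57427 = n56213 := d29_2 (iv F252190) D57427 (iv D56213)
def n57428 : Q := act 4 n56213
theorem D57428 : act 4 n56213 = n57428 := rfl
theorem F257552 : act 1 n57428 = n56217 := d11_1 D57428 (iv D56217) (iv F252191)
theorem F257553 : act 2 n57428 = n57005 := d18_1 D57428 (iv D57005) (iv F252192)
theorem F257554 : act 6 n57428 = n56922 := d31_2 (iv F252194) D57428 (iv D56922)
theorem F257555 : act 7 n57428 = n56775 := d32_2 (iv F252195) D57428 (iv D56775)
theorem F257556 : act 8 n57428 = n56214 := d33_2 (iv F252196) D57428 (iv D56214)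
def n57429 : Q := act 4 n56216
theorem D57429 : act 4 n56216 = n57429 := rfl
theorem F257557 : act 0 n57429 = n56836 := d3_1 D57429 (iv D56836) (iv F252209)
theorem F257558 : act 2 n57429 = n56848 := d18_1 D57429 (iv D56848) (iv F252210)
theorem F257559 : act 5 n57429 = n56700 := d30_2 (iv F252211) D57429 (iv D56700) F248620 D55397
theorem F257560 : act 6 n57429 = n56923 := d31_2 (iv F252212) D57429 (iv D56923)
theorem F257561 : act 7 n57429 = n56712 := d32_2 (iv F252213) D57429 F254642
theorem F257562 : act 8 n57429 = n57429 := d33_2 F252214 D57429 (iv D57429)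
theorem F257563 : act 9 n57429 = n56217 := d34_2 (iv F252215) D57429 (iv D56217)
def n57430 : Q := act 5 n56217
theorem D57430 : act 5 n56217 = n57430 := rfl
theorem F257564 : act 0 n57430 = n57153 := d4_1 D57430 (iv D57153) (iv F252216)
theorem F257565 : act 2 n57430 = n56878 := d19_1 D57430 (iv D56878) (iv F252217)
theorem F257566 : act 4 n57430 = n56625 := d30_1 D57430 F254319 F248306 (iv F245684) D56217
theorem F257567 : act 7 n57430 = n56632 := d36_2 (iv F252219) D57430 F254358
theorem F257568 : act 8 n57430 = n56218 := d37_2 (iv F252220) D57430 (iv D56218)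
theorem F257569 : act 9 n57430 = n56700 := d38_2 F257563 D57430 (iv F257559)
def n57431 : Q := act 6 n56218
theorem D57431 : act 6 n56218 = n57431 := rfl
theorem F257570 : act 0 n57431 = n57166 := d5_1 D57431 F255987 (iv F252221)
theorem F257571 : act 1 n57431 = n56504 := d13_1 D57431 (iv F257524) F257520
theorem F257572 : act 2 n57431 = n56920 := d20_1 D57431 (iv D56920) (iv F252222)
theorem F257573 : act 3 n57431 = n56219 := d26_1 D57431 (iv D56219) (iv F252223)
theorem F257574 : act 4 n57431 = n56779 := d31_1 D57431 (iv D56779) (iv F252224)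
theorem F257575 : act 5 n57431 = n56732 := d35_1 D57431 F254727 (iv D55652) (iv F245691) D56218
theorem F257576 : act 7 n57431 = n57161 := d39_2 (iv F252225) D57431 (iv F257516) F257517 F252155
theorem F257577 : act 9 n57431 = n57431 := d41_2 F252226 D57431 (iv D57431)
def n57432 : Q := act 8 n56236
theorem D57432 : act 8 n56236 = n57432 := rfl
theorem F257578 : act 0 n57432 = n56373 := d7_1 D57432 (iv D56373) (iv F252374)
theorem F257579 : act 1 n57432 = n56250 := d15_1 D57432 (iv D56250) (iv F252375)
theorem F257580 : act 2 n57432 = n56398 := d22_1 D57432 (iv D56398) (iv F252376)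
theorem F257581 : act 4 n57432 = n56237 := d33_1 D57432 (iv D56237) (iv F252378)
theorem F257582 : act 5 n57432 = n56281 := d37_1 D57432 (iv D56281) (iv F252379)
theorem F257583 : act 6 n57432 = n56318 := d40_1 D57432 (iv D56318) (iv F252380)
theorem F257584 : act 7 n57432 = n56238 := d42_1 D57432 (iv D56238) (iv F252381)
theorem F257585 : act 9 n57432 = n56332 := d44_2 D56236 D57432 (iv D56332) (iv D54981) (iv F246020)
def n57433 : Q := act 3 n56238
theorem D57433 : act 3 n56238 = n57433 := rfl
theorem F257586 : act 0 n57433 = n56761 := d2_1 D57433 (iv D56761) (iv F252389)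
theorem F257587 : act 1 n57433 = n56254 := d10_1 D57433 (iv D56254) (iv F252390)
theorem F257588 : act 4 n57433 = n56307 := d24_2 (iv F252392) D57433 (iv D56307) F246545 (iv F246036)
theorem F257589 : act 5 n57433 = n56976 := d25_2 (iv F252393) D57433 (iv D56976)
theorem F257590 : act 6 n57433 = n56748 := d26_2 (iv F252394) D57433 (iv D56748)
theorem F257591 : act 8 n57433 = n56462 := d28_2 D56238 D57433 (iv D56462) (iv D55132) (iv F246030)
theorem F257592 : act 9 n57433 = n56961 := d29_2 (iv F252395) D57433 (iv D56961)
def n57434 : Q := act 8 n56239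
theorem D57434 : act 8 n56239 = n57434 := rfl
theorem F257593 : act 0 n57434 = n56264 := d7_1 D57434 (iv D56264) (iv F252396)
theorem F257594 : act 1 n57434 = n56332 := d15_1 D57434 (iv D56332) (iv F252397)
theorem F257595 : act 2 n57434 = n56271 := d22_1 D57434 (iv D56271) (iv F252398)
theorem F257596 : act 4 n57434 = n56240 := d33_1 D57434 (iv D56240) (iv F252400)
theorem F257597 : act 5 n57434 = n56268 := d37_1 D57434 (iv D56268) (iv F252401)
theorem F257598 : act 6 n57434 = n56300 := d40_1 D57434 (iv D56300) (iv F252402)
theorem F257599 : act 7 n57434 = n56244 := d42_1 D57434 (iv D56244) (iv F252403)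
theorem F257600 : act 9 n57434 = n56250 := d44_2 D56239 D57434 (iv D56250) (iv D54878) (iv F246053)
def n57435 : Q := act 8 n56241
theorem D57435 : act 8 n56241 = n57435 := rfl
theorem F257601 : act 0 n57435 = n56268 := d7_1 D57435 (iv D56268) (iv F252412)
theorem F257602 : act 1 n57435 = n56421 := d15_1 D57435 (iv D56421) (iv F252413)
theorem F257603 : act 2 n57435 = n56244 := d22_1 D57435 (iv D56244) (iv F252414)
theorem F257604 : act 4 n57435 = n56242 := d33_1 D57435 (iv D56242) (iv F252415)
theorem F257605 : act 5 n57435 = n56264 := d37_1 D57435 (iv D56264) (iv F252416)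
theorem F257606 : act 6 n57435 = n56414 := d40_1 D57435 (iv D56414) (iv F252417)
theorem F257607 : act 7 n57435 = n56271 := d42_1 D57435 (iv D56271) (iv F252418)
theorem F257608 : act 9 n57435 = n56251 := d44_2 D56241 D57435 (iv D56251) (iv D54880) (iv F246067)
def n57436 : Q := act 3 n56242
theorem D57436 : act 3 n56242 = n57436 := rfl
theorem F257609 : act 0 n57436 = n56269 := d2_1 D57436 (iv D56269) (iv F252419)
theorem F257610 : act 1 n57436 = n56436 := d10_1 D57436 (iv D56436) (iv F252420)
theorem F257611 : act 2 n57436 = n56324 := d17_1 D57436 (iv D56324) F246655 (iv F246090) (iv F252421)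
theorem F257612 : act 5 n57436 = n56245 := d25_2 (iv F252422) D57436 (iv D56245)
theorem F257613 : act 6 n57436 = n56433 := d26_2 (iv F252423) D57436 (iv D56433)
theorem F257614 : act 7 n57436 = n56276 := d27_2 (iv F252424) D57436 (iv D56276)
theorem F257615 : act 8 n57436 = n57436 := d28_2 D56242 D57436 (iv D57436) (iv D56242) F246071
theorem F257616 : act 9 n57436 = n56252 := d29_2 (iv F252425) D57436 (iv D56252)
def n57437 : Q := act 8 n56243
theorem D57437 : act 8 n56243 = n57437 := rfl
theorem F257617 : act 0 n57437 = n56271 := d7_1 D57437 (iv D56271) (iv F252426)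
theorem F257618 : act 1 n57437 = n56758 := d15_1 D57437 (iv D56758) (iv F252427)
theorem F257619 : act 2 n57437 = n56264 := d22_1 D57437 (iv D56264) (iv F252428)
theorem F257620 : act 4 n57437 = n56246 := d33_1 D57437 (iv D56246) (iv F252430)
theorem F257621 : act 5 n57437 = n56244 := d37_1 D57437 (iv D56244) (iv F252431)
theorem F257622 : act 6 n57437 = n56754 := d40_1 D57437 (iv D56754) (iv F252432)
theorem F257623 : act 7 n57437 = n56268 := d42_1 D57437 (iv D56268) (iv F252433)
theorem F257624 : act 9 n57437 = n56253 := d44_2 D56243 D57437 (iv D56253) (iv D54882) (iv F246082)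
def n57438 : Q := act 3 n56244
theorem D57438 : act 3 n56244 = n57438 := rfl
theorem F257625 : act 0 n57438 = n56272 := d2_1 D57438 (iv D56272) (iv F252434)
theorem F257626 : act 1 n57438 = n56961 := d10_1 D57438 (iv D56961) (iv F252435)
theorem F257627 : act 4 n57438 = n56326 := d24_2 (iv F252436) D57438 (iv D56326) F246663 (iv F246090)
theorem F257628 : act 6 n57438 = n56925 := d26_2 (iv F252437) D57438 (iv D56925)
theorem F257629 : act 8 n57438 = n57027 := d28_2 D56244 D57438 (iv D57027) (iv D55769) (iv F246085)
theorem F257630 : act 9 n57438 = n56254 := d29_2 (iv F252438) D57438 (iv D56254)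
def n57439 : Q := act 3 n56246
theorem D57439 : act 3 n56246 = n57439 := rfl
theorem F257631 : act 0 n57439 = n56276 := d2_1 D57439 (iv D56276) (iv F252447)
theorem F257632 : act 1 n57439 = n56765 := d10_1 D57439 (iv D56765) (iv F252448)
theorem F257633 : act 2 n57439 = n56377 := d17_1 D57439 (iv D56377) F246980 (iv F246250) (iv F252449)
theorem F257634 : act 5 n57439 = n56247 := d25_2 (iv F252450) D57439 (iv D56247)
theorem F257635 : act 6 n57439 = n56764 := d26_2 (iv F252451) D57439 (iv D56764)
theorem F257636 : act 7 n57439 = n56269 := d27_2 (iv F252452) D57439 (iv D56269)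
theorem F257637 : act 8 n57439 = n57439 := d28_2 D56246 D57439 (iv D57439) (iv D56246) F246111
theorem F257638 : act 9 n57439 = n56255 := d29_2 (iv F252453) D57439 (iv D56255)
def n57440 : Q := act 8 n56248
theorem D57440 : act 8 n56248 = n57440 := rfl
theorem F257639 : act 0 n57440 = n56279 := d7_1 D57440 (iv D56279) (iv F252462)
theorem F257640 : act 1 n57440 = n56318 := d15_1 D57440 (iv D56318) (iv F252463)
theorem F257641 : act 2 n57440 = n56286 := d22_1 D57440 (iv D56286) (iv F252464)
theorem F257642 : act 4 n57440 = n56249 := d33_1 D57440 (iv D56249) (iv F252466)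
theorem F257643 : act 5 n57440 = n56305 := d37_1 D57440 (iv D56305) (iv F252467)
theorem F257644 : act 6 n57440 = n56250 := d40_1 D57440 (iv D56250) (iv F252468)
theorem F257645 : act 7 n57440 = n56299 := d42_1 D57440 (iv D56299) (iv F252469)
theorem F257646 : act 9 n57440 = n56300 := d44_2 D56248 D57440 (iv D56300) (iv D54942) (iv F246143)
def n57441 : Q := act 3 n56250
theorem D57441 : act 3 n56250 = n57441 := rfl
theorem F257647 : act 0 n57441 = n56280 := d2_1 D57441 (iv D56280) (iv F252478)
theorem F257648 : act 4 n57441 = n56336 := d24_2 (iv F252480) D57441 (iv D56336) F246758 (iv F246159)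
theorem F257649 : act 5 n57441 = n56284 := d25_2 (iv F252481) D57441 (iv D56284)
theorem F257650 : act 7 n57441 = n56254 := d27_2 (iv F252482) D57441 (iv D56254)
theorem F257651 : act 8 n57441 = n56465 := d28_2 D56250 D57441 (iv D56465) (iv D55137) (iv F246153)
def n57442 : Q := act 3 n56251
theorem D57442 : act 3 n56251 = n57442 := rfl
theorem F257652 : act 0 n57442 = n56284 := d2_1 D57442 (iv D56284) (iv F252483)
theorem F257653 : act 5 n57442 = n56280 := d25_2 (iv F252486) D57442 (iv D56280)
theorem F257654 : act 6 n57442 = n56927 := d26_2 (iv F252487) D57442 (iv D56927)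
theorem F257655 : act 7 n57442 = n56287 := d27_2 (iv F252488) D57442 (iv D56287)
theorem F257656 : act 8 n57442 = n56487 := d28_2 D56251 D57442 (iv D56487) (iv D55165) (iv F246164)
def n57443 : Q := act 4 n56252
theorem D57443 : act 4 n56252 = n57443 := rfl
theorem F257657 : act 0 n57443 = n56285 := d3_1 D57443 (iv D56285) (iv F252489)
theorem F257658 : act 1 n57443 = n56965 := d11_1 D57443 F255555 (iv F252490)
theorem F257659 : act 2 n57443 = n56342 := d18_1 D57443 (iv D56342) (iv F252491)
theorem F257660 : act 5 n57443 = n56432 := d30_2 (iv F252492) D57443 (iv D56432) F247231 (iv F246188)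
theorem F257661 : act 6 n57443 = n56928 := d31_2 (iv F252493) D57443 (iv D56928)
theorem F257662 : act 7 n57443 = n56292 := d32_2 (iv F252494) D57443 (iv D56292)
theorem F257663 : act 8 n57443 = n56257 := d33_2 (iv F252495) D57443 (iv D56257)
def n57444 : Q := act 3 n56253
theorem D57444 : act 3 n56253 = n57444 := rfl
theorem F257664 : act 0 n57444 = n56287 := d2_1 D57444 (iv D56287) (iv F252496)
theorem F257665 : act 1 n57444 = n56976 := d10_1 D57444 (iv D56976) (iv F252497)
theorem F257666 : act 5 n57444 = n56254 := d25_2 (iv F252500) D57444 (iv D56254)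
theorem F257667 : act 6 n57444 = n56980 := d26_2 (iv F252501) D57444 (iv D56980)
theorem F257668 : act 7 n57444 = n56284 := d27_2 (iv F252502) D57444 (iv D56284)
theorem F257669 : act 8 n57444 = n56466 := d28_2 D56253 D57444 (iv D56466) (iv D55138) (iv F246177)
def n57445 : Q := act 2 n56254
theorem D57445 : act 2 n56254 = n57445 := rfl
theorem F257670 : act 0 n57445 = n56288 := d1_1 D57445 (iv D56288) (iv F252503)
theorem F257671 : act 4 n57445 = n56344 := d18_2 (iv F252504) D57445 (iv D56344)
theorem F257672 : act 6 n57445 = n56929 := d20_2 (iv F252505) D57445 (iv D56929)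
theorem F257673 : act 8 n57445 = n56467 := d22_2 (iv F252506) D57445 (iv D56467)
def n57446 : Q := act 4 n56255
theorem D57446 : act 4 n56255 = n57446 := rfl
theorem F257674 : act 0 n57446 = n56292 := d3_1 D57446 (iv D56292) (iv F252507)
theorem F257675 : act 1 n57446 = n56977 := d11_1 D57446 (iv D56977) (iv F252508)
theorem F257676 : act 2 n57446 = n56406 := d18_1 D57446 (iv D56406) (iv F252509)
theorem F257677 : act 5 n57446 = n56352 := d30_2 (iv F252510) D57446 (iv D56352) F246820 (iv F246201)
theorem F257678 : act 6 n57446 = n56981 := d31_2 (iv F252511) D57446 (iv D56981)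
theorem F257679 : act 7 n57446 = n56285 := d32_2 (iv F252512) D57446 (iv D56285)
theorem F257680 : act 8 n57446 = n56256 := d33_2 (iv F252513) D57446 (iv D56256)
def n57447 : Q := act 9 n56258
theorem D57447 : act 9 n56258 = n57447 := rfl
theorem F257681 : act 0 n57447 = n56933 := d8_1 D57447 (iv D56933) (iv F252530)
theorem F257682 : act 1 n57447 = n56417 := d16_1 D57447 (iv D56417) (iv F252531)
theorem F257683 : act 2 n57447 = n56267 := d23_1 D57447 (iv D56267) (iv F252532)
theorem F257684 : act 3 n57447 = n56260 := d29_1 D57447 (iv D56260) D56258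
theorem F257685 : act 4 n57447 = n57447 := d34_1 D57447 (iv D57447) F252533
theorem F257686 : act 5 n57447 = n56412 := d38_1 D57447 (iv D56412) F252537
theorem F257687 : act 6 n57447 = n56469 := d41_1 D57447 (iv D56469) (iv F252534)
theorem F257688 : act 7 n57447 = n56940 := d43_1 D57447 (iv D56940) (iv F252535)
def n57448 : Q := act 9 n56259
theorem D57448 : act 9 n56259 = n57448 := rfl
theorem F257689 : act 0 n57448 = n56940 := d8_1 D57448 (iv D56940) (iv F252538)
theorem F257690 : act 1 n57448 = n56383 := d16_1 D57448 (iv D56383) (iv F252539)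
theorem F257691 : act 2 n57448 = n56262 := d23_1 D57448 (iv D56262) (iv F252540)
theorem F257692 : act 3 n57448 = n56412 := d29_1 D57448 (iv D56412) (iv F252541)
theorem F257693 : act 4 n57448 = n57448 := d34_1 D57448 (iv D57448) F252542
theorem F257694 : act 5 n57448 = n56260 := d38_1 D57448 (iv D56260) D56259
theorem F257695 : act 6 n57448 = n56475 := d41_1 D57448 (iv D56475) (iv F252543)
theorem F257696 : act 7 n57448 = n56933 := d43_1 D57448 (iv D56933) (iv F252544)
def n57449 : Q := act 8 n56260
theorem D57449 : act 8 n56260 = n57449 := rfl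
theorem F257697 : act 0 n57449 = n56942 := d7_1 D57449 (iv D56942) (iv F252546)
theorem F257698 : act 2 n57449 = n56263 := d22_1 D57449 (iv D56263) (iv F252547)
theorem F257699 : act 4 n57449 = n56261 := d33_1 D57449 (iv D56261) (iv F252548)
theorem F257700 : act 6 n57449 = n56477 := d40_1 D57449 (iv D56477) (iv F252549)
theorem F257701 : act 9 n57449 = n56471 := d44_2 D56260 D57449 (iv D56471) (iv D55146) (iv F246222)
def n57450 : Q := act 3 n56261
theorem D57450 : act 3 n56261 = n57450 := rfl
theorem F257702 : act 0 n57450 = n56953 := d2_1 D57450 (iv D56953) (iv F252550)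
theorem F257703 : act 2 n57450 = n56370 := d17_1 D57450 (iv D56370) F246945 (iv F246241) (iv F252551)
theorem F257704 : act 5 n57450 = n57450 := d25_2 F252552 D57450 (iv D57450)
theorem F257705 : act 6 n57450 = n56481 := d26_2 (iv F252553) D57450 (iv D56481)
theorem F257706 : act 8 n57450 = n57450 := d28_2 D56261 D57450 (iv D57450) (iv D56261) F246225
theorem F257707 : act 9 n57450 = n56472 := d29_2 (iv F252554) D57450 (iv D56472)
def n57451 : Q := act 8 n56262
theorem D57451 : act 8 n56262 = n57451 := rfl
theorem F257708 : act 0 n57451 = n57018 := d7_1 D57451 (iv D57018) (iv F252555)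
theorem F257709 : act 1 n57451 = n56790 := d15_1 D57451 (iv D56790) (iv F252556)
theorem F257710 : act 4 n57451 = n57451 := d33_1 D57451 (iv D57451) F252558
theorem F257711 : act 5 n57451 = n56263 := d37_1 D57451 (iv D56263) (iv F252559)
theorem F257712 : act 6 n57451 = n57007 := d40_1 D57451 (iv D57007) (iv F252560)
theorem F257713 : act 9 n57451 = n56473 := d44_2 D56262 D57451 (iv D56473) (iv D55148) (iv F246233)
def n57452 : Q := act 3 n56263
theorem D57452 : act 3 n56263 = n57452 := rfl
theorem F257714 : act 0 n57452 = n57027 := d2_1 D57452 (iv D57027) (iv F252561)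
theorem F257715 : act 1 n57452 = n56791 := d10_1 D57452 (iv D56791) (iv F252562)
theorem F257716 : act 4 n57452 = n56372 := d24_2 (iv F252563) D57452 (iv D56372) F246955 (iv F246241)
theorem F257717 : act 6 n57452 = n56780 := d26_2 (iv F252564) D57452 (iv D56780)
theorem F257718 : act 8 n57452 = n56272 := d28_2 D56263 D57452 (iv D56272) (iv D54903) (iv F246236)
theorem F257719 : act 9 n57452 = n56474 := d29_2 (iv F252565) D57452 (iv D56474)
def n57453 : Q := act 3 n56264
theorem D57453 : act 3 n56264 = n57453 := rfl
theorem F257720 : act 1 n57453 = n56995 := d10_1 D57453 (iv D56995) (iv F252566)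
theorem F257721 : act 4 n57453 = n56379 := d24_2 (iv F252567) D57453 (iv D56379) F246988 (iv F246250)
theorem F257722 : act 6 n57453 = n56988 := d26_2 (iv F252568) D57453 (iv D56988)
theorem F257723 : act 7 n57453 = n56272 := d27_2 (iv F252569) D57453 (iv D56272)
theorem F257724 : act 9 n57453 = n56280 := d29_2 (iv F252570) D57453 (iv D56280)
def n57454 : Q := act 8 n56265
theorem D57454 : act 8 n56265 = n57454 := rfl
theorem F257725 : act 0 n57454 = n56398 := d7_1 D57454 (iv D56398) (iv F252571)
theorem F257726 : act 1 n57454 = n56268 := d15_1 D57454 (iv D56268) (iv F252572)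
theorem F257727 : act 2 n57454 = n56373 := d22_1 D57454 (iv D56373) (iv F252573)
theorem F257728 : act 4 n57454 = n56266 := d33_1 D57454 (iv D56266) (iv F252575)
theorem F257729 : act 5 n57454 = n56332 := d37_1 D57454 (iv D56332) (iv F252576)
theorem F257730 : act 6 n57454 = n56376 := d40_1 D57454 (iv D56376) (iv F252577)
theorem F257731 : act 7 n57454 = n56758 := d42_1 D57454 (iv D56758) (iv F252578)
theorem F257732 : act 9 n57454 = n56281 := d44_2 D56265 D57454 (iv D56281) (iv D54917) (iv F246261)
def n57455 : Q := act 3 n56266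
theorem D57455 : act 3 n56266 = n57455 := rfl
theorem F257733 : act 0 n57455 = n56975 := d2_1 D57455 F256074 F256066
theorem F257734 : act 1 n57455 = n56269 := d10_1 D57455 (iv D56269) (iv F252579)
theorem F257735 : act 2 n57455 = n56764 := d17_1 D57455 (iv D56764) F248985 (iv F246964) (iv F252580)
theorem F257736 : act 5 n57455 = n56273 := d25_2 (iv F252581) D57455 (iv D56273)
theorem F257737 : act 6 n57455 = n56377 := d26_2 (iv F252582) D57455 (iv D56377)
theorem F257738 : act 7 n57455 = n56765 := d27_2 (iv F252583) D57455 (iv D56765)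
theorem F257739 : act 8 n57455 = n57455 := d28_2 D56266 D57455 (iv D57455) (iv D56266) F246265
theorem F257740 : act 9 n57455 = n56282 := d29_2 (iv F252584) D57455 (iv D56282)
def n57456 : Q := act 8 n56267
theorem D57456 : act 8 n56267 = n57456 := rfl
theorem F257741 : act 1 n57456 = n56536 := d15_1 D57456 (iv D56536) (iv F252585)
theorem F257742 : act 4 n57456 = n57456 := d33_1 D57456 (iv D57456) F252587
theorem F257743 : act 5 n57456 = n56507 := d37_1 D57456 (iv D56507) (iv F252588)
theorem F257744 : act 6 n57456 = n56934 := d40_1 D57456 (iv D56934) (iv F252589)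
theorem F257745 : act 7 n57456 = n57018 := d42_1 D57456 (iv D57018) (iv F252590)
theorem F257746 : act 9 n57456 = n57023 := d44_2 D56267 D57456 (iv D57023) (iv D55765) (iv F246274)
def n57457 : Q := act 3 n56268
theorem D57457 : act 3 n56268 = n57457 := rfl
theorem F257747 : act 6 n57457 = n56935 := d26_2 (iv F252593) D57457 (iv D56935)
theorem F257748 : act 9 n57457 = n56284 := d29_2 (iv F252594) D57457 (iv D56284)
def n57458 : Q := act 4 n56269
theorem D57458 : act 4 n56269 = n57458 := rfl
theorem F257749 : act 2 n57458 = n56387 := d18_1 D57458 (iv D56387) (iv F252595)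
theorem F257750 : act 6 n57458 = n56936 := d31_2 (iv F252597) D57458 (iv D56936)
theorem F257751 : act 8 n57458 = n57458 := d33_2 F252598 D57458 (iv D57458)
theorem F257752 : act 9 n57458 = n56285 := d34_2 (iv F252599) D57458 (iv D56285)
def n57459 : Q := act 8 n56270
theorem D57459 : act 8 n56270 = n57459 := rfl
theorem F257753 : act 0 n57459 = n56754 := d7_1 D57459 (iv D56754) (iv F252600)
theorem F257754 : act 1 n57459 = n56325 := d15_1 D57459 (iv D56325) (iv F252601)
theorem F257755 : act 2 n57459 = n56300 := d22_1 D57459 (iv D56300) (iv F252602)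
theorem F257756 : act 4 n57459 = n56275 := d33_1 D57459 (iv D56275) (iv F252604)
theorem F257757 : act 5 n57459 = n56299 := d37_1 D57459 (iv D56299) (iv F252605)
theorem F257758 : act 6 n57459 = n56271 := d40_1 D57459 (iv D56271) (iv F252606)
theorem F257759 : act 7 n57459 = n56305 := d42_1 D57459 (iv D56305) (iv F252607)
theorem F257760 : act 9 n57459 = n56286 := d44_2 D56270 D57459 (iv D56286) (iv D54922) (iv F246289)
def n57460 : Q := act 3 n56271
theorem D57460 : act 3 n56271 = n57460 := rfl
theorem F257761 : act 5 n57460 = n56272 := d25_2 (iv F252609) D57460 (iv D56272)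
theorem F257762 : act 9 n57460 = n56287 := d29_2 (iv F252610) D57460 (iv D56287)
def n57461 : Q := act 2 n56272
theorem D57461 : act 2 n56272 = n57461 := rfl
theorem F257763 : act 4 n57461 = n56390 := d18_2 (iv F252611) D57461 (iv D56390)
theorem F257764 : act 6 n57461 = n56937 := d20_2 (iv F252612) D57461 (iv D56937)
theorem F257765 : act 9 n57461 = n56288 := d23_2 (iv F252613) D57461 (iv D56288)
def n57462 : Q := act 5 n56274
theorem D57462 : act 5 n56274 = n57462 := rfl
theorem F257766 : act 0 n57462 = n56391 := d4_1 D57462 F253269 (iv F252622)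
theorem F257767 : act 1 n57462 = n56306 := d12_1 D57462 F252811 (iv F252623)
theorem F257768 : act 2 n57462 = n56394 := d19_1 D57462 (iv D56394) (iv F252624)
theorem F257769 : act 3 n57462 = n56303 := d25_1 D57462 F252794 (iv F252625)
theorem F257770 : act 6 n57462 = n56431 := d35_2 (iv F252626) D57462 F253427 F247227 F246330
theorem F257771 : act 7 n57462 = n56330 := d36_2 (iv F252627) D57462 F252961
theorem F257772 : act 8 n57462 = n57462 := d37_2 F252628 D57462 (iv D57462)
theorem F257773 : act 9 n57462 = n56289 := d38_2 (iv F252629) D57462 (iv D56289)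
def n57463 : Q := act 3 n56275
theorem D57463 : act 3 n56275 = n57463 := rfl
theorem F257774 : act 0 n57463 = n56764 := d2_1 D57463 (iv D56764) (iv F252630)
theorem F257775 : act 1 n57463 = n56330 := d10_1 D57463 (iv D56330) (iv F252631)
theorem F257776 : act 2 n57463 = n56975 := d17_1 D57463 F256074 F256068 F252384 (iv F252632)
theorem F257777 : act 5 n57463 = n56278 := d25_2 (iv F252633) D57463 (iv D56278)
theorem F257778 : act 6 n57463 = n56276 := d26_2 (iv F252634) D57463 (iv D56276)
theorem F257779 : act 7 n57463 = n56306 := d27_2 (iv F252635) D57463 (iv D56306)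
theorem F257780 : act 8 n57463 = n57463 := d28_2 D56275 D57463 (iv D57463) (iv D56275) F246307
theorem F257781 : act 9 n57463 = n56290 := d29_2 (iv F252636) D57463 (iv D56290)
def n57464 : Q := act 2 n56276
theorem D57464 : act 2 n56276 = n57464 := rfl
theorem F257782 : act 0 n57464 = n56377 := d1_1 D57464 (iv F257633) F257631
theorem F257783 : act 3 n57464 = n56317 := d17_2 D56276 D57464 F252883 (iv F252407) F252406
theorem F257784 : act 5 n57464 = n56277 := d19_2 (iv F252637) D57464 (iv D56277)
theorem F257785 : act 6 n57464 = n56975 := d20_2 F257778 D57464 (iv F257776)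
theorem F257786 : act 7 n57464 = n56324 := d21_2 F257614 D57464 (iv F257611)
theorem F257787 : act 8 n57464 = n57464 := d22_2 F252638 D57464 (iv D57464)
theorem F257788 : act 9 n57464 = n56291 := d23_2 (iv F252639) D57464 (iv D56291)
theorem F257789 : act 1 n57464 = n56347 := d46_5 D54903 (iv F252609) F252608 D56276 D57464 F253042 F247256 F247255 D55099 F247260 (iv F246413) F246412 F242900 F234890 (iv F234948) D54241 (iv F249933) (iv F252198) F252197 F245688 (iv F250301) D57153 F255948 F250303 (iv F247820) (iv F251299) F251298 (iv D55192) F240407 (iv F237049) F237048 F228582 F226081 F226080 (iv D48391) (iv F216262) (iv F223596) F223595 (iv F223507) F223506 (iv F223053) F223058 F216863 F216862 (iv F216480) F216479 (iv F214872) (iv F224542) D52141 F233768 (iv F231965) F231964 (iv F231759) (iv F237367) F237366 (iv D51215) (iv F229296) (iv F237786) (iv F244033) F244032 (iv F246084) F246083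
def n57465 : Q := act 4 n56276
theorem D57465 : act 4 n56276 = n57465 := rfl
theorem F257790 : act 5 n57465 = n56397 := d30_2 (iv F252637) D57465 (iv D56397) F247076 (iv F246313)
theorem F257791 : act 8 n57465 = n57465 := d33_2 F252638 D57465 (iv D57465)
theorem F257792 : act 9 n57465 = n56292 := d34_2 (iv F252639) D57465 (iv D56292)
def n57466 : Q := act 3 n56279
theorem D57466 : act 3 n56279 = n57466 := rfl
theorem F257793 : act 1 n57466 = n56752 := d10_1 D57466 (iv D56752) (iv F252656)
theorem F257794 : act 4 n57466 = n56399 := d24_2 (iv F252658) D57466 (iv D56399) F247097 (iv F246361)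
theorem F257795 : act 5 n57466 = n56967 := d25_2 (iv F252659) D57466 (iv D56967)
theorem F257796 : act 6 n57466 = n56280 := d26_2 (iv F252660) D57466 (iv D56280)
theorem F257797 : act 7 n57466 = n56755 := d27_2 (iv F252661) D57466 (iv D56755)
theorem F257798 : act 8 n57466 = n56485 := d28_2 D56279 D57466 (iv D56485) (iv D55163) (iv F246354)
theorem F257799 : act 9 n57466 = n56988 := d29_2 (iv F252662) D57466 (iv D56988)
def n57467 : Q := act 2 n56280
theorem D57467 : act 2 n56280 = n57467 := rfl
theorem F257800 : act 4 n57467 = n56408 := d18_2 (iv F252663) D57467 (iv D56408)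
theorem F257801 : act 7 n57467 = n56288 := d21_2 (iv F252664) D57467 (iv D56288)
theorem F257802 : act 8 n57467 = n56488 := d22_2 (iv F252665) D57467 (iv D56488)
def n57468 : Q := act 3 n56281
theorem D57468 : act 3 n56281 = n57468 := rfl
theorem F257803 : act 1 n57468 = n56284 := d10_1 D57468 (iv D56284) (iv F252666)
theorem F257804 : act 6 n57468 = n56405 := d26_2 (iv F252669) D57468 (iv D56405)
theorem F257805 : act 7 n57468 = n56976 := d27_2 (iv F252670) D57468 (iv D56976)
def n57469 : Q := act 4 n56282
theorem D57469 : act 4 n56282 = n57469 := rfl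
theorem F257806 : act 0 n57469 = n56991 := d3_1 D57469 F255606 (iv F252671)
theorem F257807 : act 1 n57469 = n56285 := d11_1 D57469 (iv D56285) (iv F252672)
theorem F257808 : act 2 n57469 = n56981 := d18_1 D57469 (iv D56981) (iv F252673)
theorem F257809 : act 5 n57469 = n56986 := d30_2 (iv F252674) D57469 (iv D56986) F249888 (iv F246407)
theorem F257810 : act 6 n57469 = n56406 := d31_2 (iv F252675) D57469 (iv D56406)
theorem F257811 : act 7 n57469 = n56977 := d32_2 (iv F252676) D57469 (iv D56977)
theorem F257812 : act 8 n57469 = n56295 := d33_2 (iv F252677) D57469 (iv D56295)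
def n57470 : Q := act 3 n56283
theorem D57470 : act 3 n56283 = n57470 := rfl
theorem F257813 : act 0 n57470 = n56487 := d2_1 D57470 (iv D56487) (iv F252678)
theorem F257814 : act 5 n57470 = n56465 := d25_2 (iv F252681) D57470 (iv D56465)
theorem F257815 : act 6 n57470 = n56943 := d26_2 (iv F252682) D57470 (iv D56943)
theorem F257816 : act 7 n57470 = n56466 := d27_2 (iv F252683) D57470 (iv D56466)
theorem F257817 : act 8 n57470 = n56284 := d28_2 D56283 D57470 (iv D56284) (iv D54920) (iv F246380)
theorem F257818 : act 9 n57470 = n57025 := d29_2 (iv F252684) D57470 (iv D57025)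
def n57471 : Q := act 2 n56284
theorem D57471 : act 2 n56284 = n57471 := rfl
theorem F257819 : act 3 n57471 = n56288 := d17_2 D56284 D57471 (iv D56288) (iv D54924) (iv F246385)
theorem F257820 : act 6 n57471 = n56945 := d20_2 (iv F252685) D57471 (iv D56945)
def n57472 : Q := act 4 n56284
theorem D57472 : act 4 n56284 = n57472 := rfl
theorem F257821 : act 3 n57472 = n56285 := d24_1 D57472 (iv D56285) (iv D54921) (iv F246386) D56284
theorem F257822 : act 6 n57472 = n56946 := d31_2 (iv F252685) D57472 (iv D56946)
def n57473 : Q := act 5 n56285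
theorem D57473 : act 5 n56285 = n57473 := rfl
theorem F257823 : act 0 n57473 = n56432 := d4_1 D57473 (iv F257660) F257657
theorem F257824 : act 1 n57473 = n56986 := d12_1 D57473 (iv F257809) F257807
theorem F257825 : act 2 n57473 = n56425 := d19_1 D57473 (iv D56425) (iv F252686)
theorem F257826 : act 4 n57473 = n56289 := d30_1 D57473 (iv D56289) (iv D54926) (iv F246389) D56285
theorem F257827 : act 7 n57473 = n56352 := d36_2 F257679 D57473 (iv F257677)
theorem F257828 : act 8 n57473 = n56298 := d37_2 (iv F252688) D57473 (iv D56298)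
def n57474 : Q := act 3 n56286
theorem D57474 : act 3 n56286 = n57474 := rfl
theorem F257829 : act 0 n57474 = n56980 := d2_1 D57474 (iv D56980) (iv F252689)
theorem F257830 : act 1 n57474 = n56343 := d10_1 D57474 (iv D56343) (iv F252690)
theorem F257831 : act 5 n57474 = n56307 := d25_2 (iv F252692) D57474 (iv D56307)
theorem F257832 : act 6 n57474 = n56287 := d26_2 (iv F252693) D57474 (iv D56287)
theorem F257833 : act 7 n57474 = n56985 := d27_2 (iv F252694) D57474 (iv D56985)
theorem F257834 : act 8 n57474 = n56494 := d28_2 D56286 D57474 (iv D56494) (iv D55172) (iv F246394)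
def n57475 : Q := act 2 n56287
theorem D57475 : act 2 n56287 = n57475 := rfl
theorem F257835 : act 5 n57475 = n56288 := d19_2 (iv F252695) D57475 (iv D56288)
theorem F257836 : act 8 n57475 = n56495 := d22_2 (iv F252696) D57475 (iv D56495)
def n57476 : Q := act 4 n56287
theorem D57476 : act 4 n56287 = n57476 := rfl
theorem F257837 : act 3 n57476 = n56292 := d24_1 D57476 (iv D56292) (iv D54928) (iv F246399) D56287
theorem F257838 : act 5 n57476 = n56429 := d30_2 (iv F252695) D57476 (iv D56429) F247218 (iv F246401)
theorem F257839 : act 8 n57476 = n56496 := d33_2 (iv F252696) D57476 (iv D56496)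
def n57477 : Q := act 1 n56288
theorem D57477 : act 1 n56288 = n57477 := rfl
theorem F257840 : act 4 n57477 = n56430 := d11_2 (iv F252697) D57477 (iv D56430)
theorem F257841 : act 6 n57477 = n56949 := d13_2 (iv F252698) D57477 (iv D56949)
theorem F257842 : act 8 n57477 = n56497 := d15_2 (iv F252699) D57477 (iv D56497)
def n57478 : Q := act 4 n56290
theorem D57478 : act 4 n56290 = n57478 := rfl
theorem F257843 : act 0 n57478 = n56981 := d3_1 D57478 (iv D56981) (iv F252706)
theorem F257844 : act 1 n57478 = n56352 := d11_1 D57478 (iv D56352) (iv F252707)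
theorem F257845 : act 2 n57478 = n56991 := d18_1 D57478 F255606 (iv F252708)
theorem F257846 : act 5 n57478 = n56977 := d30_2 (iv F252709) D57478 (iv D56977) F249867 (iv F246441)
theorem F257847 : act 6 n57478 = n56292 := d31_2 (iv F252710) D57478 (iv D56292)
theorem F257848 : act 7 n57478 = n56986 := d32_2 (iv F252711) D57478 (iv D56986)
theorem F257849 : act 8 n57478 = n56293 := d33_2 (iv F252712) D57478 (iv D56293)
def n57479 : Q := act 4 n56291
theorem D57479 : act 4 n56291 = n57479 := rfl
theorem F257850 : act 0 n57479 = n56406 := d3_1 D57479 (iv D56406) (iv F252713)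
theorem F257851 : act 1 n57479 = n57001 := d11_1 D57479 F255622 F252719
theorem F257852 : act 2 n57479 = n56292 := d18_1 D57479 (iv D56292) D56291
theorem F257853 : act 5 n57479 = n56442 := d30_2 (iv F252715) D57479 (iv D56442) F247271 (iv F246427)
theorem F257854 : act 6 n57479 = n56991 := d31_2 (iv F252716) D57479 F255606
theorem F257855 : act 7 n57479 = n56342 := d32_2 (iv F252717) D57479 (iv D56342)
theorem F257856 : act 8 n57479 = n56294 := d33_2 (iv F252718) D57479 (iv D56294)
def n57480 : Q := act 4 n56296
theorem D57480 : act 4 n56296 = n57480 := rfl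
theorem F257857 : act 0 n57480 = n56498 := d3_1 D57480 (iv D56498) (iv F252744)
theorem F257858 : act 2 n57480 = n57045 := d18_1 D57480 (iv D57045) (iv F252745)
theorem F257859 : act 5 n57480 = n56563 := d30_2 (iv F252746) D57480 (iv D56563) F247978 (iv F247453)
theorem F257860 : act 6 n57480 = n56954 := d31_2 (iv F252747) D57480 (iv D56954)
theorem F257861 : act 7 n57480 = n56468 := d32_2 (iv F252748) D57480 (iv D56468)
theorem F257862 : act 8 n57480 = n56297 := d33_2 (iv F252749) D57480 (iv D56297)
theorem F257863 : act 9 n57480 = n57042 := d34_2 (iv F252750) D57480 (iv D57042)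
def n57481 : Q := act 3 n56299
theorem D57481 : act 3 n56299 = n57481 := rfl
theorem F257864 : act 0 n57481 = n56755 := d2_1 D57481 (iv D56755) (iv F252765)
theorem F257865 : act 1 n57481 = n56326 := d10_1 D57481 (iv D56326) (iv F252766)
theorem F257866 : act 4 n57481 = n56961 := d24_2 (iv F252768) D57481 (iv D56961) F249828 (iv F246500)
theorem F257867 : act 6 n57481 = n56926 := d26_2 (iv F252769) D57481 (iv D56926)
theorem F257868 : act 8 n57481 = n57008 := d28_2 D56299 D57481 (iv D57008) (iv D55750) (iv F246494)
theorem F257869 : act 9 n57481 = n56307 := d29_2 (iv F252770) D57481 (iv D56307)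
def n57482 : Q := act 3 n56300
theorem D57482 : act 3 n56300 = n57482 := rfl
theorem F257870 : act 0 n57482 = n56988 := d2_1 D57482 (iv D56988) (iv F252771)
theorem F257871 : act 1 n57482 = n56336 := d10_1 D57482 (iv D56336) (iv F252772)
theorem F257872 : act 5 n57482 = n56985 := d25_2 (iv F252774) D57482 (iv D56985)
theorem F257873 : act 7 n57482 = n56307 := d27_2 (iv F252775) D57482 (iv D56307)
theorem F257874 : act 8 n57482 = n56510 := d28_2 D56300 D57482 (iv D56510) (iv D55193) (iv F246506)
def n57483 : Q := act 9 n56301
theorem D57483 : act 9 n56301 = n57483 := rfl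
theorem F257875 : act 0 n57483 = n56362 := d8_1 D57483 (iv D56362) (iv F252776)
theorem F257876 : act 1 n57483 = n56304 := d16_1 D57483 (iv D56304) (iv F252777)
theorem F257877 : act 2 n57483 = n56652 := d23_1 D57483 (iv D56652) (iv F252778)
theorem F257878 : act 3 n57483 = n56302 := d29_1 D57483 (iv D56302) D56301
theorem F257879 : act 4 n57483 = n57483 := d34_1 D57483 (iv D57483) F252779
theorem F257880 : act 5 n57483 = n56308 := d38_1 D57483 (iv D56308) (iv F252780)
theorem F257881 : act 6 n57483 = n56401 := d41_1 D57483 (iv D56401) (iv F252781)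
theorem F257882 : act 7 n57483 = n56314 := d43_1 D57483 (iv D56314) (iv F252782)
def n57484 : Q := act 8 n56302
theorem D57484 : act 8 n56302 = n57484 := rfl
theorem F257883 : act 0 n57484 = n56378 := d7_1 D57484 (iv D56378) (iv F252784)
theorem F257884 : act 1 n57484 = n56305 := d15_1 D57484 (iv D56305) (iv F252785)
theorem F257885 : act 2 n57484 = n56338 := d22_1 D57484 (iv D56338) (iv F252786)
theorem F257886 : act 4 n57484 = n56303 := d33_1 D57484 (iv D56303) (iv F252787)
theorem F257887 : act 5 n57484 = n56318 := d37_1 D57484 (iv D56318) (iv F252788)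
theorem F257888 : act 6 n57484 = n56404 := d40_1 D57484 (iv D56404) (iv F252789)
theorem F257889 : act 7 n57484 = n56325 := d42_1 D57484 (iv D56325) (iv F252790)
theorem F257890 : act 9 n57484 = n56335 := d44_2 D56302 D57484 (iv D56335) (iv D54986) (iv F246520)
def n57485 : Q := act 8 n56304
theorem D57485 : act 8 n56304 = n57485 := rfl
theorem F257891 : act 0 n57485 = n56484 := d7_1 D57485 (iv D56484) (iv F252798)
theorem F257892 : act 2 n57485 = n56511 := d22_1 D57485 (iv D56511) (iv F252799)
theorem F257893 : act 4 n57485 = n57485 := d33_1 D57485 (iv D57485) F252801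
theorem F257894 : act 5 n57485 = n56464 := d37_1 D57485 (iv D56464) (iv F252802)
theorem F257895 : act 6 n57485 = n56941 := d40_1 D57485 (iv D56941) (iv F252803)
theorem F257896 : act 7 n57485 = n57007 := d42_1 D57485 (iv D57007) (iv F252804)
theorem F257897 : act 9 n57485 = n57016 := d44_2 D56304 D57485 (iv D57016) (iv D55758) (iv F246534)
def n57486 : Q := act 3 n56305
theorem D57486 : act 3 n56305 = n57486 := rfl
theorem F257898 : act 0 n57486 = n56967 := d2_1 D57486 (iv D56967) (iv F252805)
theorem F257899 : act 6 n57486 = n56944 := d26_2 (iv F252808) D57486 (iv D56944)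
theorem F257900 : act 9 n57486 = n56985 := d29_2 (iv F252809) D57486 (iv D56985)
def n57487 : Q := act 4 n56306
theorem D57487 : act 4 n56306 = n57487 := rfl
theorem F257901 : act 0 n57487 = n56968 := d3_1 D57487 (iv D56968) (iv F252810)
theorem F257902 : act 6 n57487 = n56950 := d31_2 (iv F252812) D57487 (iv D56950)
theorem F257903 : act 8 n57487 = n57487 := d33_2 F252813 D57487 (iv D57487)
theorem F257904 : act 9 n57487 = n56986 := d34_2 (iv F252814) D57487 (iv D56986)
def n57488 : Q := act 2 n56307
theorem D57488 : act 2 n56307 = n57488 := rfl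
theorem F257905 : act 6 n57488 = n56948 := d20_2 (iv F252816) D57488 (iv D56948)
theorem F257906 : act 8 n57488 = n56514 := d22_2 (iv F252817) D57488 (iv D56514)
def n57489 : Q := act 8 n56308
theorem D57489 : act 8 n56308 = n57489 := rfl
theorem F257907 : act 0 n57489 = n56363 := d7_1 D57489 (iv D56363) (iv F252818)
theorem F257908 : act 1 n57489 = n56464 := d15_1 D57489 (iv D56464) (iv F252819)
theorem F257909 : act 2 n57489 = n56884 := d22_1 D57489 (iv D56884) (iv F252820)
theorem F257910 : act 4 n57489 = n56309 := d33_1 D57489 (iv D56309) (iv F252822)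
theorem F257911 : act 6 n57489 = n56459 := d40_1 D57489 (iv D56459) (iv F252823)
theorem F257912 : act 7 n57489 = n56315 := d42_1 D57489 (iv D56315) (iv F252824)
theorem F257913 : act 9 n57489 = n56516 := d44_2 D56308 D57489 (iv D56516) (iv D55200) (iv F246564)
def n57490 : Q := act 9 n56310
theorem D57490 : act 9 n56310 = n57490 := rfl
theorem F257914 : act 0 n57490 = n56367 := d8_1 D57490 (iv D56367) (iv F252833)
theorem F257915 : act 1 n57490 = n56845 := d16_1 D57490 (iv D56845) (iv F252834)
theorem F257916 : act 2 n57490 = n56321 := d23_1 D57490 (iv D56321) (iv F252835)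
theorem F257917 : act 3 n57490 = n56312 := d29_1 D57490 (iv D56312) D56310
theorem F257918 : act 4 n57490 = n57490 := d34_1 D57490 (iv D57490) F252836
theorem F257919 : act 5 n57490 = n56657 := d38_1 D57490 (iv D56657) (iv F252840)
theorem F257920 : act 6 n57490 = n56794 := d41_1 D57490 (iv D56794) (iv F252837)
theorem F257921 : act 7 n57490 = n56641 := d43_1 D57490 (iv D56641) (iv F252838)
def n57491 : Q := act 9 n56311
theorem D57491 : act 9 n56311 = n57491 := rfl
theorem F257922 : act 0 n57491 = n56368 := d8_1 D57491 (iv D56368) (iv F252841)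
theorem F257923 : act 1 n57491 = n56871 := d16_1 D57491 (iv D56871) (iv F252842)
theorem F257924 : act 2 n57491 = n56314 := d23_1 D57491 (iv D56314) (iv F252843)
theorem F257925 : act 3 n57491 = n56657 := d29_1 D57491 (iv D56657) (iv F252844)
theorem F257926 : act 4 n57491 = n57491 := d34_1 D57491 (iv D57491) F252845
theorem F257927 : act 5 n57491 = n56312 := d38_1 D57491 (iv D56312) D56311
theorem F257928 : act 6 n57491 = n56675 := d41_1 D57491 (iv D56675) (iv F252846)
theorem F257929 : act 7 n57491 = n56652 := d43_1 D57491 (iv D56652) (iv F252847)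
def n57492 : Q := act 8 n56312
theorem D57492 : act 8 n56312 = n57492 := rfl
theorem F257930 : act 0 n57492 = n56369 := d7_1 D57492 (iv D56369) (iv F252849)
theorem F257931 : act 1 n57492 = n56873 := d15_1 D57492 (iv D56873) (iv F252850)
theorem F257932 : act 2 n57492 = n56315 := d22_1 D57492 (iv D56315) (iv F252851)
theorem F257933 : act 4 n57492 = n56313 := d33_1 D57492 (iv D56313) (iv F252852)
theorem F257934 : act 6 n57492 = n56796 := d40_1 D57492 (iv D56796) (iv F252853)
theorem F257935 : act 7 n57492 = n56884 := d42_1 D57492 (iv D56884) (iv F252854)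
theorem F257936 : act 9 n57492 = n56518 := d44_2 D56312 D57492 (iv D56518) (iv D55203) (iv F246577)
def n57493 : Q := act 3 n56313
theorem D57493 : act 3 n56313 = n57493 := rfl
theorem F257937 : act 0 n57493 = n56370 := d2_1 D57493 (iv D56370) (iv F252855)
theorem F257938 : act 1 n57493 = n56917 := d10_1 D57493 (iv D56917) (iv F252856)
theorem F257939 : act 2 n57493 = n56953 := d17_1 D57493 (iv D56953) F249797 (iv F246598) (iv F252857)
theorem F257940 : act 5 n57493 = n57493 := d25_2 F252858 D57493 (iv D57493)
theorem F257941 : act 6 n57493 = n56813 := d26_2 (iv F252859) D57493 (iv D56813)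
theorem F257942 : act 7 n57493 = n56921 := d27_2 (iv F252860) D57493 (iv D56921)
theorem F257943 : act 8 n57493 = n57493 := d28_2 D56313 D57493 (iv D57493) (iv D56313) F246581
theorem F257944 : act 9 n57493 = n56519 := d29_2 (iv F252861) D57493 (iv D56519)
def n57494 : Q := act 8 n56314
theorem D57494 : act 8 n56314 = n57494 := rfl
theorem F257945 : act 0 n57494 = n56371 := d7_1 D57494 (iv D56371) (iv F252862)
theorem F257946 : act 1 n57494 = n57007 := d15_1 D57494 (iv D57007) (iv F252863)
theorem F257947 : act 4 n57494 = n57494 := d33_1 D57494 (iv D57494) F252865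
theorem F257948 : act 5 n57494 = n56315 := d37_1 D57494 (iv D56315) (iv F252866)
theorem F257949 : act 6 n57494 = n56790 := d40_1 D57494 (iv D56790) (iv F252867)
theorem F257950 : act 9 n57494 = n56520 := d44_2 D56314 D57494 (iv D56520) (iv D55205) (iv F246590)
def n57495 : Q := act 3 n56315
theorem D57495 : act 3 n56315 = n57495 := rfl
theorem F257951 : act 0 n57495 = n56372 := d2_1 D57495 (iv D56372) (iv F252868)
theorem F257952 : act 1 n57495 = n57008 := d10_1 D57495 (iv D57008) (iv F252869)
theorem F257953 : act 4 n57495 = n57027 := d24_2 (iv F252870) D57495 (iv D57027) F250002 (iv F246598)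
theorem F257954 : act 6 n57495 = n56799 := d26_2 (iv F252871) D57495 (iv D56799)
theorem F257955 : act 8 n57495 = n56326 := d28_2 D56315 D57495 (iv D56326) (iv D54970) (iv F246593)
theorem F257956 : act 9 n57495 = n56521 := d29_2 (iv F252872) D57495 (iv D56521)
def n57496 : Q := act 8 n56316
theorem D57496 : act 8 n56316 = n57496 := rfl
theorem F257957 : act 0 n57496 = n56376 := d7_1 D57496 (iv D56376) (iv F252873)
theorem F257958 : act 1 n57496 = n56340 := d15_1 D57496 (iv D56340) (iv F252874)
theorem F257959 : act 2 n57496 = n56318 := d22_1 D57496 (iv D56318) (iv F252875)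
theorem F257960 : act 4 n57496 = n56317 := d33_1 D57496 (iv D56317) (iv F252877)
theorem F257961 : act 5 n57496 = n56338 := d37_1 D57496 (iv D56338) (iv F252878)
theorem F257962 : act 6 n57496 = n56398 := d40_1 D57496 (iv D56398) (iv F252879)
theorem F257963 : act 7 n57496 = n56323 := d42_1 D57496 (iv D56323) (iv F252880)
theorem F257964 : act 9 n57496 = n56333 := d44_2 D56316 D57496 (iv D56333) (iv D54983) (iv F246608)
def n57497 : Q := act 3 n56318
theorem D57497 : act 3 n56318 = n57497 := rfl
theorem F257965 : act 0 n57497 = n56379 := d2_1 D57497 (iv D56379) (iv F252887)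
theorem F257966 : act 7 n57497 = n56326 := d27_2 (iv F252889) D57497 (iv D56326)
theorem F257967 : act 9 n57497 = n56336 := d29_2 (iv F252890) D57497 (iv D56336)
def n57498 : Q := act 8 n56319
theorem D57498 : act 8 n56319 = n57498 := rfl
theorem F257968 : act 0 n57498 = n56404 := d7_1 D57498 (iv D56404) (iv F252891)
theorem F257969 : act 1 n57498 = n56323 := d15_1 D57498 (iv D56323) (iv F252892)
theorem F257970 : act 2 n57498 = n56335 := d22_1 D57498 (iv D56335) (iv F252893)
theorem F257971 : act 4 n57498 = n56320 := d33_1 D57498 (iv D56320) (iv F252894)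
theorem F257972 : act 5 n57498 = n56333 := d37_1 D57498 (iv D56333) (iv F252895)
theorem F257973 : act 6 n57498 = n56378 := d40_1 D57498 (iv D56378) (iv F252896)
theorem F257974 : act 7 n57498 = n56340 := d42_1 D57498 (iv D56340) (iv F252897)
theorem F257975 : act 9 n57498 = n56338 := d44_2 D56319 D57498 (iv D56338) (iv D54989) (iv F246629)
def n57499 : Q := act 3 n56320
theorem D57499 : act 3 n56320 = n57499 := rfl
theorem F257976 : act 0 n57499 = n56431 := d2_1 D57499 (iv D56431) (iv F252898)
theorem F257977 : act 1 n57499 = n56324 := d10_1 D57499 (iv D56324) (iv F252899)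
theorem F257978 : act 2 n57499 = n56439 := d17_1 D57499 F253462 (iv F252702) F252703 (iv F252900)
theorem F257979 : act 5 n57499 = n56327 := d25_2 (iv F252901) D57499 (iv D56327)
theorem F257980 : act 6 n57499 = n56391 := d26_2 (iv F252902) D57499 (iv D56391)
theorem F257981 : act 7 n57499 = n56347 := d27_2 (iv F252903) D57499 (iv D56347)
theorem F257982 : act 8 n57499 = n57499 := d28_2 D56320 D57499 (iv D57499) (iv D56320) F246633
theorem F257983 : act 9 n57499 = n56339 := d29_2 (iv F252904) D57499 (iv D56339)
def n57500 : Q := act 8 n56321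
theorem D57500 : act 8 n56321 = n57500 := rfl
theorem F257984 : act 0 n57500 = n56384 := d7_1 D57500 (iv D56384) (iv F252905)
theorem F257985 : act 4 n57500 = n57500 := d33_1 D57500 (iv D57500) F252907
theorem F257986 : act 5 n57500 = n56662 := d37_1 D57500 (iv D56662) (iv F252908)
theorem F257987 : act 6 n57500 = n56957 := d40_1 D57500 (iv D56957) (iv F252909)
theorem F257988 : act 7 n57500 = n56645 := d42_1 D57500 (iv D56645) (iv F252910)
def n57501 : Q := act 8 n56322
theorem D57501 : act 8 n56322 = n57501 := rfl
theorem F257989 : act 0 n57501 = n56385 := d7_1 D57501 (iv D56385) (iv F252911)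
theorem F257990 : act 1 n57501 = n56333 := d15_1 D57501 (iv D56333) (iv F252912)
theorem F257991 : act 2 n57501 = n56325 := d22_1 D57501 (iv D56325) (iv F252913)
theorem F257992 : act 4 n57501 = n56328 := d33_1 D57501 (iv D56328) (iv F252915)
theorem F257993 : act 5 n57501 = n56323 := d37_1 D57501 (iv D56323) (iv F252916)
theorem F257994 : act 6 n57501 = n56426 := d40_1 D57501 (iv D56426) (iv F252917)
theorem F257995 : act 7 n57501 = n56338 := d42_1 D57501 (iv D56338) (iv F252918)
theorem F257996 : act 9 n57501 = n56340 := d44_2 D56322 D57501 (iv D56340) (iv D54991) (iv F246649)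
def n57502 : Q := act 3 n56323
theorem D57502 : act 3 n56323 = n57502 := rfl
theorem F257997 : act 0 n57502 = n56386 := d2_1 D57502 (iv D56386) (iv F252919)
theorem F257998 : act 6 n57502 = n56958 := d26_2 (iv F252922) D57502 (iv D56958)
theorem F257999 : act 9 n57502 = n56341 := d29_2 (iv F252923) D57502 (iv D56341)
def n57503 : Q := act 4 n56324
theorem D57503 : act 4 n56324 = n57503 := rfl
theorem F258000 : act 0 n57503 = n56387 := d3_1 D57503 (iv D56387) (iv F252924)
theorem F258001 : act 6 n57503 = n56959 := d31_2 (iv F252926) D57503 (iv D56959)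
theorem F258002 : act 8 n57503 = n57503 := d33_2 F252927 D57503 (iv D57503)
theorem F258003 : act 9 n57503 = n56342 := d34_2 (iv F252928) D57503 (iv D56342)
def n57504 : Q := act 3 n56325
theorem D57504 : act 3 n56325 = n57504 := rfl
theorem F258004 : act 0 n57504 = n56389 := d2_1 D57504 (iv D56389) (iv F252929)
theorem F258005 : act 5 n57504 = n56326 := d25_2 (iv F252931) D57504 (iv D56326)
theorem F258006 : act 9 n57504 = n56343 := d29_2 (iv F252932) D57504 (iv D56343)
def n57505 : Q := act 2 n56326
theorem D57505 : act 2 n56326 = n57505 := rfl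
theorem F258007 : act 0 n57505 = n56390 := d1_1 D57505 (iv D56390) (iv F252933)
theorem F258008 : act 6 n57505 = n56960 := d20_2 (iv F252934) D57505 (iv D56960)
theorem F258009 : act 9 n57505 = n56344 := d23_2 (iv F252935) D57505 (iv D56344)
def n57506 : Q := act 5 n56329
theorem D57506 : act 5 n56329 = n57506 := rfl
theorem F258010 : act 0 n57506 = n56394 := d4_1 D57506 (iv D56394) (iv F252952)
theorem F258011 : act 1 n57506 = n56437 := d12_1 D57506 F253459 (iv F252953)
theorem F258012 : act 2 n57506 = n56391 := d19_1 D57506 F253269 (iv F252954)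
theorem F258013 : act 3 n57506 = n56440 := d25_1 D57506 F253465 (iv F252955)
theorem F258014 : act 6 n57506 = n56439 := d35_2 (iv F252956) D57506 (iv D56439) F247261 (iv F246717)
theorem F258015 : act 7 n57506 = n56396 := d36_2 (iv F252957) D57506 F253294
theorem F258016 : act 8 n57506 = n57506 := d37_2 F252958 D57506 (iv D57506)
theorem F258017 : act 9 n57506 = n56350 := d38_2 (iv F252959) D57506 (iv D56350)
def n57507 : Q := act 2 n56330
theorem D57507 : act 2 n56330 = n57507 := rfl
theorem F258018 : act 0 n57507 = n56396 := d1_1 D57507 (iv D56396) (iv F252960)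
theorem F258019 : act 1 n57507 = n56938 := d9_1 D57507 F255488 (iv F255574) (iv F257776) F257775
theorem F258020 : act 3 n57507 = n56952 := d17_2 D56330 D57507 F255519 (iv F252947) F252946
theorem F258021 : act 5 n57507 = n56331 := d19_2 (iv F252961) D57507 (iv D56331)
theorem F258022 : act 6 n57507 = n56951 := d20_2 F256023 D57507 (iv F256021)
theorem F258023 : act 7 n57507 = n56394 := d21_2 F257771 D57507 (iv F257768)
theorem F258024 : act 8 n57507 = n57507 := d22_2 F252962 D57507 (iv D57507)
theorem F258025 : act 9 n57507 = n56351 := d23_2 (iv F252963) D57507 (iv D56351)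
def n57508 : Q := act 4 n56330
theorem D57508 : act 4 n56330 = n57508 := rfl
theorem F258026 : act 0 n57508 = n56397 := d3_1 D57508 (iv D56397) (iv F252960)
theorem F258027 : act 8 n57508 = n57508 := d33_2 F252962 D57508 (iv D57508)
theorem F258028 : act 9 n57508 = n56352 := d34_2 (iv F252963) D57508 (iv D56352)
def n57509 : Q := act 3 n56332
theorem D57509 : act 3 n56332 = n57509 := rfl
theorem F258029 : act 0 n57509 = n56399 := d2_1 D57509 (iv D56399) (iv F252972)
theorem F258030 : act 6 n57509 = n56336 := d26_2 (iv F252974) D57509 (iv D56336)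
theorem F258031 : act 7 n57509 = n56961 := d27_2 (iv F252975) D57509 (iv D56961)
theorem F258032 : act 8 n57509 = n56537 := d28_2 D56332 D57509 (iv D56537) (iv D55224) (iv F246728)
def n57510 : Q := act 3 n56333
theorem D57510 : act 3 n56333 = n57510 := rfl
theorem F258033 : act 0 n57510 = n56405 := d2_1 D57510 (iv D56405) (iv F252976)
theorem F258034 : act 7 n57510 = n56341 := d27_2 (iv F252979) D57510 (iv D56341)
def n57511 : Q := act 8 n56334
theorem D57511 : act 8 n56334 = n57511 := rfl
theorem F258035 : act 0 n57511 = n56338 := d7_1 D57511 (iv D56338) (iv F252980)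
theorem F258036 : act 1 n57511 = n56410 := d15_1 D57511 (iv D56410) (iv F252981)
theorem F258037 : act 2 n57511 = n56378 := d22_1 D57511 (iv D56378) (iv F252982)
theorem F258038 : act 4 n57511 = n56337 := d33_1 D57511 (iv D56337) (iv F252984)
theorem F258039 : act 5 n57511 = n56376 := d37_1 D57511 (iv D56376) (iv F252985)
theorem F258040 : act 6 n57511 = n56335 := d40_1 D57511 (iv D56335) (iv F252986)
theorem F258041 : act 7 n57511 = n56385 := d42_1 D57511 (iv D56385) (iv F252987)
theorem F258042 : act 9 n57511 = n56404 := d44_2 D56334 D57511 (iv D56404) (iv D55064) (iv F246750)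
def n57512 : Q := act 3 n56335
theorem D57512 : act 3 n56335 = n57512 := rfl
theorem F258043 : act 0 n57512 = n56407 := d2_1 D57512 (iv D56407) (iv F252988)
theorem F258044 : act 1 n57512 = n56985 := d10_1 D57512 (iv D56985) (iv F252989)
theorem F258045 : act 5 n57512 = n56336 := d25_2 (iv F252991) D57512 (iv D56336)
theorem F258046 : act 7 n57512 = n56343 := d27_2 (iv F252992) D57512 (iv D56343)
theorem F258047 : act 8 n57512 = n56544 := d28_2 D56335 D57512 (iv D56544) (iv D55231) (iv F246753)
def n57513 : Q := act 2 n56336
theorem D57513 : act 2 n56336 = n57513 := rfl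
theorem F258048 : act 0 n57513 = n56408 := d1_1 D57513 (iv D56408) (iv F252993)
theorem F258049 : act 7 n57513 = n56344 := d21_2 (iv F252994) D57513 (iv D56344)
theorem F258050 : act 8 n57513 = n56545 := d22_2 (iv F252995) D57513 (iv D56545)
def n57514 : Q := act 3 n56338
theorem D57514 : act 3 n56338 = n57514 := rfl
theorem F258051 : act 1 n57514 = n56341 := d10_1 D57514 (iv D56341) (iv F253003)
theorem F258052 : act 6 n57514 = n56407 := d26_2 (iv F253005) D57514 (iv D56407)
theorem F258053 : act 8 n57514 = n56663 := d28_2 D56338 D57514 (iv D56663) (iv D55362) (iv F246768)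
def n57515 : Q := act 2 n56339
theorem D57515 : act 2 n56339 = n57515 := rfl
theorem F258054 : act 0 n57515 = n56440 := d1_1 D57515 (iv F256194) F256193
theorem F258055 : act 1 n57515 = n56930 := d9_1 D57515 F255468 (iv F252490) F252491 (iv F253006)
theorem F258056 : act 3 n57515 = n56394 := d17_2 D56339 D57515 (iv F257768) F257769 F252793
theorem F258057 : act 5 n57515 = n56345 := d19_2 (iv F253007) D57515 (iv D56345)
theorem F258058 : act 6 n57515 = n56350 := d20_2 (iv F253008) D57515 F253064
theorem F258059 : act 7 n57515 = n56952 := d21_2 (iv F253009) D57515 F255519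
theorem F258060 : act 8 n57515 = n56354 := d22_2 (iv F253010) D57515 (iv D56354)
theorem F258061 : act 9 n57515 = n56439 := d23_2 F257983 D57515 (iv F257978)
def n57516 : Q := act 4 n56339
theorem D57516 : act 4 n56339 = n57516 := rfl
theorem F258062 : act 1 n57516 = n56342 := d11_1 D57516 (iv D56342) (iv F253006)
theorem F258063 : act 6 n57516 = n56432 := d31_2 (iv F253008) D57516 (iv D56432)
theorem F258064 : act 7 n57516 = n57001 := d32_2 (iv F253009) D57516 F255622
theorem F258065 : act 8 n57516 = n56355 := d33_2 (iv F253010) D57516 (iv D56355)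
def n57517 : Q := act 3 n56340
theorem D57517 : act 3 n56340 = n57517 := rfl
theorem F258066 : act 0 n57517 = n56422 := d2_1 D57517 (iv D56422) (iv F253011)
theorem F258067 : act 5 n57517 = n56341 := d25_2 (iv F253014) D57517 (iv D56341)
def n57518 : Q := act 2 n56341
theorem D57518 : act 2 n56341 = n57518 := rfl
theorem F258068 : act 0 n57518 = n56423 := d1_1 D57518 (iv D56423) (iv F253015)
theorem F258069 : act 3 n57518 = n56344 := d17_2 D56341 D57518 (iv D56344) (iv D54995) (iv F246779)
theorem F258070 : act 6 n57518 = n56963 := d20_2 (iv F253016) D57518 (iv D56963)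
def n57519 : Q := act 4 n56341
theorem D57519 : act 4 n56341 = n57519 := rfl
theorem F258071 : act 0 n57519 = n56424 := d3_1 D57519 (iv D56424) (iv F253015)
theorem F258072 : act 3 n57519 = n56342 := d24_1 D57519 (iv D56342) (iv D54993) (iv F246780) D56341
theorem F258073 : act 6 n57519 = n56964 := d31_2 (iv F253016) D57519 (iv D56964)
def n57520 : Q := act 5 n56342
theorem D57520 : act 5 n56342 = n57520 := rfl
theorem F258074 : act 0 n57520 = n56425 := d4_1 D57520 (iv D56425) (iv F253017)
theorem F258075 : act 2 n57520 = n56432 := d19_1 D57520 (iv F257660) F257659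
theorem F258076 : act 4 n57520 = n56350 := d30_1 D57520 (iv D56350) (iv D55001) (iv F246783) D56342
theorem F258077 : act 7 n57520 = n56442 := d36_2 F257855 D57520 (iv F257853)
theorem F258078 : act 8 n57520 = n56356 := d37_2 (iv F253019) D57520 (iv D56356)
def n57521 : Q := act 2 n56343
theorem D57521 : act 2 n56343 = n57521 := rfl
theorem F258079 : act 0 n57521 = n56428 := d1_1 D57521 (iv D56428) (iv F253020)
theorem F258080 : act 5 n57521 = n56344 := d19_2 (iv F253021) D57521 (iv D56344)
theorem F258081 : act 8 n57521 = n56555 := d22_2 (iv F253022) D57521 (iv D56555)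
def n57522 : Q := act 4 n56343
theorem D57522 : act 4 n56343 = n57522 := rfl
theorem F258082 : act 0 n57522 = n56429 := d3_1 D57522 (iv D56429) (iv F253020)
theorem F258083 : act 3 n57522 = n56352 := d24_1 D57522 (iv D56352) (iv D55002) (iv F246787) D56343
theorem F258084 : act 8 n57522 = n56556 := d33_2 (iv F253022) D57522 (iv D56556)
def n57523 : Q := act 1 n56344
theorem D57523 : act 1 n56344 = n57523 := rfl
theorem F258085 : act 6 n57523 = n56966 := d13_2 (iv F253024) D57523 (iv D56966)
theorem F258086 : act 8 n57523 = n56557 := d15_2 (iv F253025) D57523 (iv D56557)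
def n57524 : Q := act 5 n56346
theorem D57524 : act 5 n56346 = n57524 := rfl
theorem F258087 : act 0 n57524 = n56952 := d4_1 D57524 F255520 (iv F253034)
theorem F258088 : act 1 n57524 = n56350 := d12_1 D57524 (iv D56350) (iv F253035)
theorem F258089 : act 2 n57524 = n56393 := d19_1 D57524 F253283 (iv F253036)
theorem F258090 : act 3 n57524 = n56396 := d25_1 D57524 F253294 (iv F253037)
theorem F258091 : act 6 n57524 = n56930 := d35_2 (iv F253038) D57524 (iv D56930) F249730 (iv F246839)
theorem F258092 : act 7 n57524 = n56440 := d36_2 (iv F253039) D57524 F253465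
theorem F258093 : act 8 n57524 = n56357 := d37_2 (iv F253040) D57524 (iv D56357)
theorem F258094 : act 9 n57524 = n56437 := d38_2 (iv F253041) D57524 F253459
def n57525 : Q := act 2 n56347
theorem D57525 : act 2 n56347 = n57525 := rfl
theorem F258095 : act 0 n57525 = n56437 := d1_1 D57525 (iv D56437) (iv F253042)
theorem F258096 : act 1 n57525 = n56951 := d9_1 D57525 (iv F256021) F256020 D57464 F257789
theorem F258097 : act 3 n57525 = n56351 := d17_2 D56347 D57525 (iv D56351) (iv D55002) (iv F246808)
theorem F258098 : act 5 n57525 = n56348 := d19_2 (iv F253043) D57525 (iv D56348)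
theorem F258099 : act 6 n57525 = n56938 := d20_2 (iv F253044) D57525 F255488
theorem F258100 : act 7 n57525 = n56439 := d21_2 F257981 D57525 (iv F257978)
theorem F258101 : act 8 n57525 = n57525 := d22_2 F253045 D57525 (iv D57525)
theorem F258102 : act 9 n57525 = n56952 := d23_2 (iv F253046) D57525 F255519
def n57526 : Q := act 4 n56347
theorem D57526 : act 4 n56347 = n57526 := rfl
theorem F258103 : act 0 n57526 = n56438 := d3_1 D57526 (iv D56438) (iv F253042)
theorem F258104 : act 6 n57526 = n56973 := d31_2 (iv F253044) D57526 F255570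
theorem F258105 : act 8 n57526 = n57526 := d33_2 F253045 D57526 (iv D57526)
theorem F258106 : act 9 n57526 = n57001 := d34_2 (iv F253046) D57526 F255622
def n57527 : Q := act 5 n56349
theorem D57527 : act 5 n56349 = n57527 := rfl
theorem F258107 : act 0 n57527 = n56439 := d4_1 D57527 (iv D56439) (iv F253055)
theorem F258108 : act 1 n57527 = n56396 := d12_1 D57527 F253294 (iv F253056)
theorem F258109 : act 2 n57527 = n56431 := d19_1 D57527 F253427 (iv F253057)
theorem F258110 : act 3 n57527 = n56350 := d25_1 D57527 (iv D56350) (iv F253058)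
theorem F258111 : act 6 n57527 = n56394 := d35_2 (iv F253059) D57527 (iv D56394) F247070 (iv F246853)
theorem F258112 : act 7 n57527 = n56437 := d36_2 (iv F253060) D57527 F253459
theorem F258113 : act 8 n57527 = n57527 := d37_2 F253061 D57527 (iv D57527)
theorem F258114 : act 9 n57527 = n56440 := d38_2 (iv F253062) D57527 F253465
def n57528 : Q := act 4 n56351
theorem D57528 : act 4 n56351 = n57528 := rfl
theorem F258115 : act 0 n57528 = n56442 := d3_1 D57528 (iv D56442) (iv F253067)
theorem F258116 : act 1 n57528 = n56947 := d11_1 D57528 F255510 (iv F253068)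
theorem F258117 : act 2 n57528 = n56352 := d18_1 D57528 (iv D56352) D56351
theorem F258118 : act 5 n57528 = n56406 := d30_2 (iv F253069) D57528 (iv D56406) F247126 (iv F246824)
theorem F258119 : act 7 n57528 = n56425 := d32_2 (iv F253070) D57528 F253412
theorem F258120 : act 8 n57528 = n56353 := d33_2 (iv F253071) D57528 (iv D56353)
def n57529 : Q := act 3 n56353
theorem D57529 : act 3 n56353 = n57529 := rfl
theorem F258121 : act 0 n57529 = n56445 := d2_1 D57529 (iv D56445) (iv F253074)
theorem F258122 : act 1 n57529 = n56955 := d10_1 D57529 F255527 (iv F253075)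
theorem F258123 : act 2 n57529 = n56570 := d17_1 D57529 (iv D56570) F248014 (iv F246871) (iv F253076)
theorem F258124 : act 4 n57529 = n57529 := d24_2 D56353 D57529 (iv D57529) (iv D56353) F246866
theorem F258125 : act 5 n57529 = n56448 := d25_2 (iv F253077) D57529 F253498
theorem F258126 : act 7 n57529 = n56458 := d27_2 (iv F253078) D57529 F253550
theorem F258127 : act 9 n57529 = n57529 := d29_2 F253079 D57529 (iv D57529)
def n57530 : Q := act 4 n56354
theorem D57530 : act 4 n56354 = n57530 := rfl
theorem F258128 : act 0 n57530 = n56444 := d3_1 D57530 (iv D56444) (iv F253080)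
theorem F258129 : act 1 n57530 = n56932 := d11_1 D57530 F255476 (iv F253081)
theorem F258130 : act 2 n57530 = n56355 := d18_1 D57530 (iv D56355) D56354
theorem F258131 : act 5 n57530 = n56931 := d30_2 (iv F253083) D57530 (iv D56931) F249734 F246887
theorem F258132 : act 6 n57530 = n56356 := d31_2 (iv F253084) D57530 F253094
theorem F258133 : act 7 n57530 = n56956 := d32_2 (iv F253085) D57530 F255531
theorem F258134 : act 9 n57530 = n57530 := d34_2 F253086 D57530 (iv D57530)
def n57531 : Q := act 5 n56355
theorem D57531 : act 5 n56355 = n57531 := rfl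
theorem F258135 : act 0 n57531 = n56956 := d4_1 D57531 (iv F256211) F256207
theorem F258136 : act 1 n57531 = n56356 := d12_1 D57531 (iv D56356) (iv F253087)
theorem F258137 : act 2 n57531 = n56931 := d19_1 D57531 (iv F258131) F258130
theorem F258138 : act 3 n57531 = n56725 := d25_1 D57531 (iv D56725) (iv F253088)
theorem F258139 : act 4 n57531 = n56357 := d30_1 D57531 (iv D56357) (iv D55014) (iv F246874) D56355
theorem F258140 : act 6 n57531 = n56932 := d35_2 (iv F253089) D57531 (iv D56932) (iv F252527) F252526
theorem F258141 : act 7 n57531 = n56444 := d36_2 (iv F253090) D57531 F253480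
theorem F258142 : act 9 n57531 = n57531 := d38_2 F253091 D57531 (iv D57531)
def n57532 : Q := act 9 n56358
theorem D57532 : act 9 n56358 = n57532 := rfl
theorem F258143 : act 0 n57532 = n56641 := d8_1 D57532 (iv D56641) (iv F253104)
theorem F258144 : act 1 n57532 = n56676 := d16_1 D57532 (iv D56676) (iv F253105)
theorem F258145 : act 2 n57532 = n56375 := d23_1 D57532 (iv D56375) (iv F253106)
theorem F258146 : act 3 n57532 = n56360 := d29_1 D57532 (iv D56360) D56358
theorem F258147 : act 4 n57532 = n57532 := d34_1 D57532 (iv D57532) F253107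
theorem F258148 : act 5 n57532 = n56540 := d38_1 D57532 (iv D56540) F253111
theorem F258149 : act 6 n57532 = n56534 := d41_1 D57532 (iv D56534) (iv F253108)
theorem F258150 : act 7 n57532 = n56367 := d43_1 D57532 (iv D56367) (iv F253109)
def n57533 : Q := act 9 n56359
theorem D57533 : act 9 n56359 = n57533 := rfl
theorem F258151 : act 0 n57533 = n56652 := d8_1 D57533 (iv D56652) (iv F253112)
theorem F258152 : act 1 n57533 = n57087 := d16_1 D57533 (iv D57087) (iv F253113)
theorem F258153 : act 2 n57533 = n56362 := d23_1 D57533 (iv D56362) (iv F253114)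
theorem F258154 : act 3 n57533 = n56540 := d29_1 D57533 (iv D56540) (iv F253115)
theorem F258155 : act 4 n57533 = n57533 := d34_1 D57533 (iv D57533) F253116
theorem F258156 : act 5 n57533 = n56360 := d38_1 D57533 (iv D56360) D56359
theorem F258157 : act 6 n57533 = n56538 := d41_1 D57533 (iv D56538) (iv F253117)
theorem F258158 : act 7 n57533 = n56368 := d43_1 D57533 (iv D56368) (iv F253118)
def n57534 : Q := act 8 n56360
theorem D57534 : act 8 n56360 = n57534 := rfl
theorem F258159 : act 0 n57534 = n56884 := d7_1 D57534 (iv D56884) (iv F253120)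
theorem F258160 : act 2 n57534 = n56363 := d22_1 D57534 (iv D56363) (iv F253121)
theorem F258161 : act 4 n57534 = n56361 := d33_1 D57534 (iv D56361) (iv F253122)
theorem F258162 : act 6 n57534 = n56896 := d40_1 D57534 (iv D56896) (iv F253123)
theorem F258163 : act 7 n57534 = n56369 := d42_1 D57534 (iv D56369) (iv F253124)
theorem F258164 : act 9 n57534 = n56577 := d44_2 D56360 D57534 (iv D56577) (iv D55268) (iv F246904)
def n57535 : Q := act 3 n56361
theorem D57535 : act 3 n56361 = n57535 := rfl
theorem F258165 : act 0 n57535 = n56921 := d2_1 D57535 (iv D56921) (iv F253125)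
theorem F258166 : act 5 n57535 = n57535 := d25_2 F253127 D57535 (iv D57535)
theorem F258167 : act 6 n57535 = n56914 := d26_2 (iv F253128) D57535 (iv D56914)
theorem F258168 : act 7 n57535 = n56370 := d27_2 (iv F253129) D57535 (iv D56370)
theorem F258169 : act 8 n57535 = n57535 := d28_2 D56361 D57535 (iv D57535) (iv D56361) F246907
theorem F258170 : act 9 n57535 = n56578 := d29_2 (iv F253130) D57535 (iv D56578)
def n57536 : Q := act 8 n56362
theorem D57536 : act 8 n56362 = n57536 := rfl
theorem F258171 : act 1 n57536 = n56957 := d15_1 D57536 (iv D56957) (iv F253131)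
theorem F258172 : act 4 n57536 = n57536 := d33_1 D57536 (iv D57536) F253133
theorem F258173 : act 5 n57536 = n56363 := d37_1 D57536 (iv D56363) (iv F253134)
theorem F258174 : act 7 n57536 = n56371 := d42_1 D57536 (iv D56371) (iv F253135)
theorem F258175 : act 9 n57536 = n56580 := d44_2 D56362 D57536 (iv D56580) (iv D55271) (iv F246915)
def n57537 : Q := act 3 n56363
theorem D57537 : act 3 n56363 = n57537 := rfl
theorem F258176 : act 1 n57537 = n57122 := d10_1 D57537 (iv D57122) (iv F253136)
theorem F258177 : act 6 n57537 = n56903 := d26_2 (iv F253138) D57537 (iv D56903)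
theorem F258178 : act 7 n57537 = n56372 := d27_2 (iv F253139) D57537 (iv D56372)
theorem F258179 : act 8 n57537 = n56379 := d28_2 D56363 D57537 (iv D56379) (iv D55035) (iv F246917)
theorem F258180 : act 9 n57537 = n56581 := d29_2 (iv F253140) D57537 (iv D56581)
def n57538 : Q := act 8 n56364
theorem D57538 : act 8 n56364 = n57538 := rfl
theorem F258181 : act 1 n57538 = n56369 := d15_1 D57538 (iv D56369) (iv F253141)
theorem F258182 : act 2 n57538 = n56801 := d22_1 D57538 (iv D56801) (iv F253142)
theorem F258183 : act 4 n57538 = n56365 := d33_1 D57538 (iv D56365) (iv F253143)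
theorem F258184 : act 6 n57538 = n56868 := d40_1 D57538 (iv D56868) (iv F253144)
theorem F258185 : act 9 n57538 = n56586 := d44_2 D56364 D57538 (iv D56586) (iv D55277) (iv F246929)
def n57539 : Q := act 3 n56365
theorem D57539 : act 3 n56365 = n57539 := rfl
theorem F258186 : act 1 n57539 = n56370 := d10_1 D57539 (iv D56370) (iv F253145)
theorem F258187 : act 5 n57539 = n57539 := d25_2 F253147 D57539 (iv D57539)
theorem F258188 : act 6 n57539 = n56909 := d26_2 (iv F253148) D57539 (iv D56909)
theorem F258189 : act 8 n57539 = n57539 := d28_2 D56365 D57539 (iv D57539) (iv D56365) F246932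
theorem F258190 : act 9 n57539 = n56587 := d29_2 (iv F253149) D57539 (iv D56587)
def n57540 : Q := act 9 n56366
theorem D57540 : act 9 n56366 = n57540 := rfl
theorem F258191 : act 0 n57540 = n56842 := d8_1 D57540 (iv D56842) (iv F253150)
theorem F258192 : act 1 n57540 = n56675 := d16_1 D57540 (iv D56675) (iv F253151)
theorem F258193 : act 2 n57540 = n56383 := d23_1 D57540 (iv D56383) (iv F253152)
theorem F258194 : act 3 n57540 = n56589 := d29_1 D57540 (iv D56589) (iv F253153)
theorem F258195 : act 4 n57540 = n57540 := d34_1 D57540 (iv D57540) F253154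
theorem F258196 : act 5 n57540 = n56786 := d38_1 D57540 (iv D56786) (iv F253155)
theorem F258197 : act 6 n57540 = n56871 := d41_1 D57540 (iv D56871) (iv F253156)
theorem F258198 : act 7 n57540 = n56668 := d43_1 D57540 (iv D56668) (iv F253157)
def n57541 : Q := act 8 n56367
theorem D57541 : act 8 n56367 = n57541 := rfl
theorem F258199 : act 2 n57541 = n56384 := d22_1 D57541 (iv D56384) (iv F253158)
theorem F258200 : act 4 n57541 = n57541 := d33_1 D57541 (iv D57541) F253160
theorem F258201 : act 6 n57541 = n56872 := d40_1 D57541 (iv D56872) (iv F253161)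
def n57542 : Q := act 8 n56368
theorem D57542 : act 8 n56368 = n57542 := rfl
theorem F258202 : act 2 n57542 = n56371 := d22_1 D57542 (iv D56371) (iv F253162)
theorem F258203 : act 4 n57542 = n57542 := d33_1 D57542 (iv D57542) F253163
theorem F258204 : act 5 n57542 = n56369 := d37_1 D57542 (iv D56369) (iv F253164)
theorem F258205 : act 6 n57542 = n56863 := d40_1 D57542 (iv D56863) (iv F253165)
theorem F258206 : act 9 n57542 = n56592 := d44_2 D56368 D57542 (iv D56592) (iv D55283) (iv F246941)
def n57543 : Q := act 3 n56369
theorem D57543 : act 3 n56369 = n57543 := rfl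
theorem F258207 : act 6 n57543 = n56875 := d26_2 (iv F253168) D57543 (iv D56875)
theorem F258208 : act 9 n57543 = n56593 := d29_2 (iv F253169) D57543 (iv D56593)
def n57544 : Q := act 4 n56370
theorem D57544 : act 4 n56370 = n57544 := rfl
theorem F258209 : act 6 n57544 = n56910 := d31_2 (iv F253171) D57544 (iv D56910)
theorem F258210 : act 8 n57544 = n57544 := d33_2 F253172 D57544 (iv D57544)
theorem F258211 : act 9 n57544 = n56594 := d34_2 (iv F253173) D57544 (iv D56594)
def n57545 : Q := act 3 n56371
theorem D57545 : act 3 n56371 = n57545 := rfl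
theorem F258212 : act 1 n57545 = n57109 := d10_1 D57545 (iv D57109) (iv F253174)
theorem F258213 : act 5 n57545 = n56372 := d25_2 (iv F253176) D57545 (iv D56372)
theorem F258214 : act 6 n57545 = n56866 := d26_2 (iv F253177) D57545 (iv D56866)
theorem F258215 : act 8 n57545 = n56389 := d28_2 D56371 D57545 (iv D56389) (iv D55045) (iv F246950)
theorem F258216 : act 9 n57545 = n56596 := d29_2 (iv F253178) D57545 (iv D56596)
def n57546 : Q := act 2 n56372
theorem D57546 : act 2 n56372 = n57546 := rfl
theorem F258217 : act 6 n57546 = n56879 := d20_2 (iv F253180) D57546 (iv D56879)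
theorem F258218 : act 8 n57546 = n56390 := d22_2 (iv F253181) D57546 (iv D56390)
theorem F258219 : act 9 n57546 = n56597 := d23_2 (iv F253182) D57546 (iv D56597)
def n57547 : Q := act 3 n56373
theorem D57547 : act 3 n56373 = n57547 := rfl
theorem F258220 : act 1 n57547 = n56997 := d10_1 D57547 F255616 (iv F253183)
theorem F258221 : act 4 n57547 = n56988 := d24_2 (iv F253184) D57547 (iv D56988) F249893 (iv F246964)
theorem F258222 : act 6 n57547 = n56379 := d26_2 (iv F253185) D57547 (iv D56379)
theorem F258223 : act 7 n57547 = n56761 := d27_2 (iv F253186) D57547 (iv D56761)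
theorem F258224 : act 8 n57547 = n56903 := d28_2 D56373 D57547 (iv D56903) (iv D55622) (iv F246959)
theorem F258225 : act 9 n57547 = n56399 := d29_2 (iv F253187) D57547 (iv D56399)
def n57548 : Q := act 9 n56374
theorem D57548 : act 9 n56374 = n57548 := rfl
theorem F258226 : act 0 n57548 = n56599 := d8_1 D57548 (iv D56599) (iv F253188)
theorem F258227 : act 1 n57548 = n56933 := d16_1 D57548 (iv D56933) (iv F253189)
theorem F258228 : act 2 n57548 = n56668 := d23_1 D57548 (iv D56668) (iv F253190)
theorem F258229 : act 3 n57548 = n56402 := d29_1 D57548 (iv D56402) (iv F253191)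
theorem F258230 : act 4 n57548 = n57548 := d34_1 D57548 (iv D57548) F253192
theorem F258231 : act 5 n57548 = n56524 := d38_1 D57548 (iv D56524) (iv F253193)
theorem F258232 : act 6 n57548 = n56522 := d41_1 D57548 (iv D56522) (iv F253194)
theorem F258233 : act 7 n57548 = n56383 := d43_1 D57548 (iv D56383) (iv F253195)
def n57549 : Q := act 8 n56375
theorem D57549 : act 8 n56375 = n57549 := rfl
theorem F258234 : act 0 n57549 = n56645 := d7_1 D57549 (iv D56645) (iv F253196)
theorem F258235 : act 1 n57549 = n56934 := d15_1 D57549 (iv D56934) (iv F253197)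
theorem F258236 : act 4 n57549 = n57549 := d33_1 D57549 (iv D57549) F253199
theorem F258237 : act 5 n57549 = n56543 := d37_1 D57549 (iv D56543) (iv F253200)
theorem F258238 : act 6 n57549 = n56536 := d40_1 D57549 (iv D56536) (iv F253201)
theorem F258239 : act 7 n57549 = n56384 := d42_1 D57549 (iv D56384) (iv F253202)
def n57550 : Q := act 3 n56376
theorem D57550 : act 3 n56376 = n57550 := rfl
theorem F258240 : act 1 n57550 = n56935 := d10_1 D57550 (iv D56935) (iv F253203)
theorem F258241 : act 7 n57550 = n56386 := d27_2 (iv F253206) D57550 (iv D56386)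
theorem F258242 : act 9 n57550 = n56405 := d29_2 (iv F253207) D57550 (iv D56405)
def n57551 : Q := act 4 n56377
theorem D57551 : act 4 n56377 = n57551 := rfl
theorem F258243 : act 1 n57551 = n56936 := d11_1 D57551 (iv D56936) (iv F253208)
theorem F258244 : act 7 n57551 = n56387 := d32_2 (iv F253210) D57551 (iv D56387)
theorem F258245 : act 8 n57551 = n57551 := d33_2 F253211 D57551 (iv D57551)
theorem F258246 : act 9 n57551 = n56406 := d34_2 (iv F253212) D57551 (iv D56406)
def n57552 : Q := act 3 n56378
theorem D57552 : act 3 n56378 = n57552 := rfl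
theorem F258247 : act 1 n57552 = n56958 := d10_1 D57552 (iv D56958) (iv F253213)
theorem F258248 : act 5 n57552 = n56379 := d25_2 (iv F253215) D57552 (iv D56379)
theorem F258249 : act 7 n57552 = n56389 := d27_2 (iv F253216) D57552 (iv D56389)
theorem F258250 : act 9 n57552 = n56407 := d29_2 (iv F253217) D57552 (iv D56407)
def n57553 : Q := act 2 n56379
theorem D57553 : act 2 n56379 = n57553 := rfl
theorem F258251 : act 7 n57553 = n56390 := d21_2 (iv F253218) D57553 (iv D56390)
theorem F258252 : act 9 n57553 = n56408 := d23_2 (iv F253219) D57553 (iv D56408)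
def n57554 : Q := act 8 n56380
theorem D57554 : act 8 n56380 = n57554 := rfl
theorem F258253 : act 0 n57554 = n56941 := d7_1 D57554 (iv D56941) (iv F253220)
theorem F258254 : act 1 n57554 = n56384 := d15_1 D57554 (iv D56384) (iv F253221)
theorem F258255 : act 2 n57554 = n56473 := d22_1 D57554 (iv D56473) (iv F253222)
theorem F258256 : act 4 n57554 = n57554 := d33_1 D57554 (iv D57554) F253224
theorem F258257 : act 5 n57554 = n56471 := d37_1 D57554 (iv D56471) (iv F253225)
theorem F258258 : act 6 n57554 = n56484 := d40_1 D57554 (iv D56484) (iv F253226)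
theorem F258259 : act 7 n57554 = n56934 := d42_1 D57554 (iv D56934) (iv F253227)
def n57555 : Q := act 3 n56381
theorem D57555 : act 3 n56381 = n57555 := rfl
theorem F258260 : act 0 n57555 = n56944 := d2_1 D57555 (iv D56944) (iv F253228)
theorem F258261 : act 1 n57555 = n56386 := d10_1 D57555 (iv D56386) (iv F253229)
theorem F258262 : act 5 n57555 = n56927 := d25_2 (iv F253232) D57555 (iv D56927)
theorem F258263 : act 6 n57555 = n56967 := d26_2 (iv F253233) D57555 (iv D56967)
theorem F258264 : act 7 n57555 = n56935 := d27_2 (iv F253234) D57555 (iv D56935)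
theorem F258265 : act 9 n57555 = n56415 := d29_2 (iv F253235) D57555 (iv D56415)
def n57556 : Q := act 4 n56382
theorem D57556 : act 4 n56382 = n57556 := rfl
theorem F258266 : act 0 n57556 = n56950 := d3_1 D57556 (iv D56950) (iv F253236)
theorem F258267 : act 1 n57556 = n56387 := d11_1 D57556 (iv D56387) (iv F253237)
theorem F258268 : act 2 n57556 = n56766 := d18_1 D57556 (iv D56766) (iv F253238)
theorem F258269 : act 6 n57556 = n56968 := d31_2 (iv F253240) D57556 (iv D56968)
theorem F258270 : act 7 n57556 = n56936 := d32_2 (iv F253241) D57556 (iv D56936)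
theorem F258271 : act 8 n57556 = n57556 := d33_2 F253242 D57556 (iv D57556)
theorem F258272 : act 9 n57556 = n56416 := d34_2 (iv F253243) D57556 (iv D56416)
def n57557 : Q := act 8 n56383
theorem D57557 : act 8 n56383 = n57557 := rfl
theorem F258273 : act 4 n57557 = n57557 := d33_1 D57557 (iv D57557) F253245
theorem F258274 : act 6 n57557 = n56969 := d40_1 D57557 (iv D56969) (iv F253246)
theorem F258275 : act 9 n57557 = n56384 := d44_2 D56383 D57557 (iv D56384) (iv D55040) D55039
def n57558 : Q := act 3 n56384
theorem D57558 : act 3 n56384 = n57558 := rfl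
theorem F258276 : act 6 n57558 = n56970 := d26_2 (iv F253248) D57558 (iv D56970)
theorem F258277 : act 8 n57558 = n56386 := d28_2 D56384 D57558 (iv D56386) (iv D55042) (iv F247015)
def n57559 : Q := act 3 n56385
theorem D57559 : act 3 n56385 = n57559 := rfl
theorem F258278 : act 1 n57559 = n56927 := d10_1 D57559 (iv D56927) (iv F253249)
theorem F258279 : act 5 n57559 = n56386 := d25_2 (iv F253252) D57559 (iv D56386)
theorem F258280 : act 9 n57559 = n56422 := d29_2 (iv F253253) D57559 (iv D56422)
def n57560 : Q := act 2 n56386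
theorem D57560 : act 2 n56386 = n57560 := rfl
theorem F258281 : act 3 n57560 = n56390 := d17_2 D56386 D57560 (iv D56390) (iv D55046) (iv F247022)
theorem F258282 : act 6 n57560 = n56971 := d20_2 (iv F253254) D57560 (iv D56971)
theorem F258283 : act 9 n57560 = n56423 := d23_2 (iv F253255) D57560 (iv D56423)
def n57561 : Q := act 4 n56386
theorem D57561 : act 4 n56386 = n57561 := rfl
theorem F258284 : act 3 n57561 = n56387 := d24_1 D57561 (iv D56387) (iv D55043) (iv F247023) D56386
theorem F258285 : act 6 n57561 = n56972 := d31_2 (iv F253254) D57561 (iv D56972)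
theorem F258286 : act 9 n57561 = n56424 := d34_2 (iv F253255) D57561 (iv D56424)
def n57562 : Q := act 5 n56387
theorem D57562 : act 5 n56387 = n57562 := rfl
theorem F258287 : act 4 n57562 = n56394 := d30_1 D57562 (iv D56394) (iv D55053) (iv F247026) D56387
theorem F258288 : act 8 n57562 = n57562 := d37_2 F253257 D57562 (iv D57562)
theorem F258289 : act 9 n57562 = n56425 := d38_2 (iv F253258) D57562 (iv D56425)
def n57563 : Q := act 3 n56388
theorem D57563 : act 3 n56388 = n57563 := rfl
theorem F258290 : act 1 n57563 = n56978 := d10_1 D57563 (iv D56978) (iv F253259)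
theorem F258291 : act 5 n57563 = n56751 := d25_2 (iv F253261) D57563 (iv D56751)
theorem F258292 : act 6 n57563 = n56389 := d26_2 (iv F253262) D57563 (iv D56389)
theorem F258293 : act 8 n57563 = n56866 := d28_2 D56388 D57563 (iv D56866) (iv D55588) (iv F247031)
theorem F258294 : act 9 n57563 = n56427 := d29_2 (iv F253263) D57563 (iv D56427)
def n57564 : Q := act 2 n56389
theorem D57564 : act 2 n56389 = n57564 := rfl
theorem F258295 : act 5 n57564 = n56390 := d19_2 (iv F253264) D57564 (iv D56390)
theorem F258296 : act 9 n57564 = n56428 := d23_2 (iv F253265) D57564 (iv D56428)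
def n57565 : Q := act 4 n56389
theorem D57565 : act 4 n56389 = n57565 := rfl
theorem F258297 : act 3 n57565 = n56397 := d24_1 D57565 (iv D56397) (iv D55055) (iv F247035) D56389
theorem F258298 : act 9 n57565 = n56429 := d34_2 (iv F253265) D57565 (iv D56429)
def n57566 : Q := act 1 n56390
theorem D57566 : act 1 n56390 = n57566 := rfl
theorem F258299 : act 6 n57566 = n56974 := d13_2 (iv F253266) D57566 (iv D56974)
theorem F258300 : act 9 n57566 = n56430 := d16_2 (iv F253267) D57566 (iv D56430)
def n57567 : Q := act 4 n56391
theorem D57567 : act 4 n56391 = n57567 := rfl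
theorem F258301 : act 1 n57567 = n56959 := d11_1 D57567 (iv D56959) (iv F253268)
theorem F258302 : act 7 n57567 = n56397 := d32_2 (iv F253270) D57567 (iv D56397)
theorem F258303 : act 8 n57567 = n57567 := d33_2 F253271 D57567 (iv D57567)
theorem F258304 : act 9 n57567 = n56432 := d34_2 (iv F253272) D57567 (iv D56432)
def n57568 : Q := act 5 n56392
theorem D57568 : act 5 n56392 = n57568 := rfl
theorem F258305 : act 0 n57568 = n56951 := d4_1 D57568 (iv D56951) (iv F253273)
theorem F258306 : act 1 n57568 = n56394 := d12_1 D57568 (iv D56394) (iv F253274)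
theorem F258307 : act 2 n57568 = n56395 := d19_1 D57568 F253289 (iv F253275)
theorem F258308 : act 3 n57568 = n56930 := d25_1 D57568 (iv D56930) (iv F253276)
theorem F258309 : act 6 n57568 = n56396 := d35_2 (iv F253277) D57568 F253294 F247079 (iv F247086)
theorem F258310 : act 7 n57568 = n56938 := d36_2 (iv F253278) D57568 (iv D56938)
theorem F258311 : act 8 n57568 = n57568 := d37_2 F253279 D57568 (iv D57568)
theorem F258312 : act 9 n57568 = n56435 := d38_2 (iv F253280) D57568 (iv D56435)
def n57569 : Q := act 4 n56393
theorem D57569 : act 4 n56393 = n57569 := rfl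
theorem F258313 : act 0 n57569 = n57001 := d3_1 D57569 F255622 (iv F253281)
theorem F258314 : act 1 n57569 = n56928 := d11_1 D57569 (iv D56928) (iv F253282)
theorem F258315 : act 6 n57569 = n56965 := d31_2 (iv F253284) D57569 F255555
theorem F258316 : act 8 n57569 = n56931 := d33_2 (iv F253285) D57569 (iv D56931)
theorem F258317 : act 9 n57569 = n56438 := d34_2 (iv F253286) D57569 (iv D56438)
def n57570 : Q := act 4 n56395
theorem D57570 : act 4 n56395 = n57570 := rfl
theorem F258318 : act 5 n57570 = n56766 := d30_2 (iv F253289) D57570 (iv D56766) F248998 (iv F247089)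
theorem F258319 : act 6 n57570 = n56397 := d31_2 (iv F253290) D57570 (iv D56397)
theorem F258320 : act 7 n57570 = n56973 := d32_2 (iv F253291) D57570 F255570
theorem F258321 : act 8 n57570 = n57570 := d33_2 F253292 D57570 (iv D57570)
theorem F258322 : act 9 n57570 = n56441 := d34_2 (iv F253293) D57570 (iv D56441)
def n57571 : Q := act 4 n56396
theorem D57571 : act 4 n56396 = n57571 := rfl
theorem F258323 : act 2 n57571 = n56397 := d18_1 D57571 (iv D56397) D56396
theorem F258324 : act 8 n57571 = n57571 := d33_2 F253295 D57571 (iv D57571)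
theorem F258325 : act 9 n57571 = n56442 := d34_2 (iv F253296) D57571 (iv D56442)
def n57572 : Q := act 3 n56398
theorem D57572 : act 3 n56398 = n57572 := rfl
theorem F258326 : act 5 n57572 = n56399 := d25_2 (iv F253299) D57572 (iv D56399)
theorem F258327 : act 7 n57572 = n56978 := d27_2 (iv F253300) D57572 (iv D56978)
theorem F258328 : act 8 n57572 = n56646 := d28_2 D56398 D57572 (iv D56646) (iv D55342) (iv F247094)
def n57573 : Q := act 2 n56399
theorem D57573 : act 2 n56399 = n57573 := rfl
theorem F258329 : act 6 n57573 = n56408 := d20_2 (iv F253301) D57573 (iv D56408)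
theorem F258330 : act 7 n57573 = n56979 := d21_2 (iv F253302) D57573 (iv D56979)
theorem F258331 : act 8 n57573 = n56647 := d22_2 (iv F253303) D57573 (iv D56647)
def n57574 : Q := act 9 n56400
theorem D57574 : act 9 n56400 = n57574 := rfl
theorem F258332 : act 0 n57574 = n56579 := d8_1 D57574 (iv D56579) (iv F253304)
theorem F258333 : act 1 n57574 = n56940 := d16_1 D57574 (iv D56940) (iv F253305)
theorem F258334 : act 2 n57574 = n56653 := d23_1 D57574 (iv D56653) (iv F253306)
theorem F258335 : act 3 n57574 = n56524 := d29_1 D57574 (iv D56524) (iv F253307)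
theorem F258336 : act 4 n57574 = n57574 := d34_1 D57574 (iv D57574) F253308
theorem F258337 : act 5 n57574 = n56402 := d38_1 D57574 (iv D56402) (iv F253309)
theorem F258338 : act 6 n57574 = n56515 := d41_1 D57574 (iv D56515) (iv F253310)
theorem F258339 : act 7 n57574 = n56417 := d43_1 D57574 (iv D56417) (iv F253311)
def n57575 : Q := act 8 n56401
theorem D57575 : act 8 n56401 = n57575 := rfl
theorem F258340 : act 1 n57575 = n56941 := d15_1 D57575 (iv D56941) (iv F253312)
theorem F258341 : act 2 n57575 = n56654 := d22_1 D57575 (iv D56654) (iv F253313)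
theorem F258342 : act 4 n57575 = n57575 := d33_1 D57575 (iv D57575) F253315
theorem F258343 : act 5 n57575 = n56403 := d37_1 D57575 (iv D56403) (iv F253316)
theorem F258344 : act 7 n57575 = n56418 := d42_1 D57575 (iv D56418) (iv F253317)
def n57576 : Q := act 8 n56402
theorem D57576 : act 8 n56402 = n57576 := rfl
theorem F258345 : act 0 n57576 = n57082 := d7_1 D57576 (iv D57082) (iv F253318)
theorem F258346 : act 1 n57576 = n56942 := d15_1 D57576 (iv D56942) (iv F253319)
theorem F258347 : act 2 n57576 = n56655 := d22_1 D57576 (iv D56655) (iv F253320)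
theorem F258348 : act 4 n57576 = n56446 := d33_1 D57576 (iv D56446) (iv F253321)
theorem F258349 : act 6 n57576 = n57021 := d40_1 D57576 (iv D57021) (iv F253322)
theorem F258350 : act 7 n57576 = n56419 := d42_1 D57576 (iv D56419) (iv F253323)
theorem F258351 : act 9 n57576 = n56403 := d44_2 D56402 D57576 (iv D56403) (iv D55063) D55062
def n57577 : Q := act 3 n56403
theorem D57577 : act 3 n56403 = n57577 := rfl
theorem F258352 : act 1 n57577 = n56943 := d10_1 D57577 (iv D56943) (iv F253324)
theorem F258353 : act 7 n57577 = n56420 := d27_2 (iv F253327) D57577 (iv D56420)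
theorem F258354 : act 8 n57577 = n56405 := d28_2 D56403 D57577 (iv D56405) (iv D55065) (iv F247113)
def n57578 : Q := act 3 n56404
theorem D57578 : act 3 n56404 = n57578 := rfl
theorem F258355 : act 1 n57578 = n56944 := d10_1 D57578 (iv D56944) (iv F253328)
theorem F258356 : act 5 n57578 = n56405 := d25_2 (iv F253331) D57578 (iv D56405)
theorem F258357 : act 7 n57578 = n56422 := d27_2 (iv F253332) D57578 (iv D56422)
def n57579 : Q := act 2 n56405
theorem D57579 : act 2 n56405 = n57579 := rfl
theorem F258358 : act 3 n57579 = n56408 := d17_2 D56405 D57579 (iv D56408) (iv D55068) (iv F247122)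
theorem F258359 : act 7 n57579 = n56423 := d21_2 (iv F253334) D57579 (iv D56423)
def n57580 : Q := act 4 n56405
theorem D57580 : act 4 n56405 = n57580 := rfl
theorem F258360 : act 1 n57580 = n56946 := d11_1 D57580 (iv D56946) (iv F253333)
theorem F258361 : act 3 n57580 = n56406 := d24_1 D57580 (iv D56406) (iv D55066) (iv F247123) D56405
theorem F258362 : act 7 n57580 = n56424 := d32_2 (iv F253334) D57580 (iv D56424)
def n57581 : Q := act 2 n56407
theorem D57581 : act 2 n56407 = n57581 := rfl
theorem F258363 : act 5 n57581 = n56408 := d19_2 (iv F253339) D57581 (iv D56408)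
theorem F258364 : act 7 n57581 = n56428 := d21_2 (iv F253340) D57581 (iv D56428)
theorem F258365 : act 8 n57581 = n56664 := d22_2 (iv F253341) D57581 (iv D56664)
def n57582 : Q := act 4 n56407
theorem D57582 : act 4 n56407 = n57582 := rfl
theorem F258366 : act 1 n57582 = n56964 := d11_1 D57582 (iv D56964) (iv F253338)
theorem F258367 : act 3 n57582 = n56432 := d24_1 D57582 (iv D56432) (iv D55092) (iv F247130) D56407
theorem F258368 : act 7 n57582 = n56429 := d32_2 (iv F253340) D57582 (iv D56429)
theorem F258369 : act 8 n57582 = n56665 := d33_2 (iv F253341) D57582 (iv D56665)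
def n57583 : Q := act 1 n56408
theorem D57583 : act 1 n56408 = n57583 := rfl
theorem F258370 : act 7 n57583 = n56430 := d14_2 (iv F253342) D57583 (iv D56430)
theorem F258371 : act 8 n57583 = n56666 := d15_2 (iv F253343) D57583 (iv D56666)
def n57584 : Q := act 8 n56409
theorem D57584 : act 8 n56409 = n57584 := rfl
theorem F258372 : act 0 n57584 = n56413 := d7_1 D57584 (iv D56413) (iv F253344)
theorem F258373 : act 1 n57584 = n56543 := d15_1 D57584 (iv D56543) (iv F253345)
theorem F258374 : act 2 n57584 = n56470 := d22_1 D57584 (iv D56470) (iv F253346)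
theorem F258375 : act 4 n57584 = n56449 := d33_1 D57584 (iv D56449) (iv F253348)
theorem F258376 : act 5 n57584 = n56934 := d37_1 D57584 (iv D56934) (iv F253349)
theorem F258377 : act 6 n57584 = n56493 := d40_1 D57584 (iv D56493) (iv F253350)
theorem F258378 : act 7 n57584 = n56471 := d42_1 D57584 (iv D56471) (iv F253351)
def n57585 : Q := act 3 n56410
theorem D57585 : act 3 n56410 = n57585 := rfl
theorem F258379 : act 0 n57585 = n56415 := d2_1 D57585 (iv D56415) (iv F253352)
theorem F258380 : act 5 n57585 = n56935 := d25_2 (iv F253355) D57585 (iv D56935)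
theorem F258381 : act 6 n57585 = n56985 := d26_2 (iv F253356) D57585 (iv D56985)
theorem F258382 : act 7 n57585 = n56927 := d27_2 (iv F253357) D57585 (iv D56927)
theorem F258383 : act 9 n57585 = n56944 := d29_2 (iv F253358) D57585 (iv D56944)
def n57586 : Q := act 8 n56411
theorem D57586 : act 8 n56411 = n57586 := rfl
theorem F258384 : act 0 n57586 = n56934 := d7_1 D57586 (iv D56934) (iv F253359)
theorem F258385 : act 1 n57586 = n56418 := d15_1 D57586 (iv D56418) (iv F253360)
theorem F258386 : act 2 n57586 = n57023 := d22_1 D57586 (iv D57023) (iv F253361)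
theorem F258387 : act 4 n57586 = n57586 := d33_1 D57586 (iv D57586) F253363
theorem F258388 : act 5 n57586 = n56413 := d37_1 D57586 (iv D56413) (iv F253364)
theorem F258389 : act 7 n57586 = n56941 := d42_1 D57586 (iv D56941) (iv F253365)
def n57587 : Q := act 8 n56412
theorem D57587 : act 8 n56412 = n57587 := rfl
theorem F258390 : act 1 n57587 = n56419 := d15_1 D57587 (iv D56419) (iv F253366)
theorem F258391 : act 2 n57587 = n56507 := d22_1 D57587 (iv D56507) (iv F253367)
theorem F258392 : act 4 n57587 = n56451 := d33_1 D57587 (iv D56451) (iv F253368)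
theorem F258393 : act 6 n57587 = n56508 := d40_1 D57587 (iv D56508) (iv F253369)
theorem F258394 : act 7 n57587 = n56942 := d42_1 D57587 (iv D56942) (iv F253370)
theorem F258395 : act 9 n57587 = n56413 := d44_2 D56412 D57587 (iv D56413) (iv D55074) D55073
def n57588 : Q := act 3 n56413
theorem D57588 : act 3 n56413 = n57588 := rfl
theorem F258396 : act 1 n57588 = n56420 := d10_1 D57588 (iv D56420) (iv F253371)
theorem F258397 : act 6 n57588 = n56987 := d26_2 (iv F253374) D57588 (iv D56987)
theorem F258398 : act 7 n57588 = n56943 := d27_2 (iv F253375) D57588 (iv D56943)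
theorem F258399 : act 8 n57588 = n56415 := d28_2 D56413 D57588 (iv D56415) (iv D55076) (iv F247167)
def n57589 : Q := act 3 n56414
theorem D57589 : act 3 n56414 = n57589 := rfl
theorem F258400 : act 0 n57589 = n56935 := d2_1 D57589 (iv D56935) (iv F253376)
theorem F258401 : act 1 n57589 = n56422 := d10_1 D57589 (iv D56422) (iv F253377)
theorem F258402 : act 5 n57589 = n56415 := d25_2 (iv F253380) D57589 (iv D56415)
theorem F258403 : act 7 n57589 = n56944 := d27_2 (iv F253381) D57589 (iv D56944)
theorem F258404 : act 9 n57589 = n56927 := d29_2 (iv F253382) D57589 (iv D56927)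
def n57590 : Q := act 2 n56415
theorem D57590 : act 2 n56415 = n57590 := rfl
theorem F258405 : act 3 n57590 = n56939 := d17_2 D56415 D57590 (iv D56939) (iv D55673) (iv F247178)
theorem F258406 : act 6 n57590 = n56989 := d20_2 (iv F253384) D57590 (iv D56989)
theorem F258407 : act 7 n57590 = n56945 := d21_2 (iv F253385) D57590 (iv D56945)
def n57591 : Q := act 4 n56415
theorem D57591 : act 4 n56415 = n57591 := rfl
theorem F258408 : act 1 n57591 = n56424 := d11_1 D57591 (iv D56424) (iv F253383)
theorem F258409 : act 3 n57591 = n56416 := d24_1 D57591 (iv D56416) (iv D55077) (iv F247179) D56415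
theorem F258410 : act 6 n57591 = n56990 := d31_2 (iv F253384) D57591 (iv D56990)
theorem F258411 : act 7 n57591 = n56946 := d32_2 (iv F253385) D57591 (iv D56946)
def n57592 : Q := act 5 n56416
theorem D57592 : act 5 n56416 = n57592 := rfl
theorem F258412 : act 1 n57592 = n56425 := d12_1 D57592 (iv D56425) (iv F253386)
theorem F258413 : act 2 n57592 = n56441 := d19_1 D57592 F253467 (iv F253387)
theorem F258414 : act 4 n57592 = n56435 := d30_1 D57592 (iv D56435) (iv D55095) (iv F247184) D56416
theorem F258415 : act 6 n57592 = n56442 := d35_2 (iv F253388) D57592 (iv F257853) F257854 (iv D56991)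
theorem F258416 : act 7 n57592 = n56947 := d36_2 (iv F253389) D57592 (iv D56947)
theorem F258417 : act 8 n57592 = n56443 := d37_2 (iv F253390) D57592 F253475
def n57593 : Q := act 8 n56417
theorem D57593 : act 8 n56417 = n57593 := rfl
theorem F258418 : act 2 n57593 = n56678 := d22_1 D57593 (iv D56678) (iv F253391)
theorem F258419 : act 4 n57593 = n57593 := d33_1 D57593 (iv D57593) F253392
theorem F258420 : act 5 n57593 = n56419 := d37_1 D57593 (iv D56419) (iv F253393)
theorem F258421 : act 9 n57593 = n56418 := d44_2 D56417 D57593 (iv D56418) (iv D55079) D55078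
def n57594 : Q := act 3 n56418
theorem D57594 : act 3 n56418 = n57594 := rfl
theorem F258422 : act 5 n57594 = n56420 := d25_2 (iv F253396) D57594 (iv D56420)
theorem F258423 : act 8 n57594 = n56422 := d28_2 D56418 D57594 (iv D56422) (iv D55083) (iv F247192)
def n57595 : Q := act 3 n56419
theorem D57595 : act 3 n56419 = n57595 := rfl
theorem F258424 : act 6 n57595 = n56992 := d26_2 (iv F253399) D57595 (iv D56992)
theorem F258425 : act 9 n57595 = n56420 := d29_2 (iv F253400) D57595 (iv D56420)
def n57596 : Q := act 2 n56420
theorem D57596 : act 2 n56420 = n57596 := rfl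
theorem F258426 : act 3 n57596 = n56681 := d17_2 D56420 D57596 (iv D56681) (iv D55379) (iv F247198)
theorem F258427 : act 6 n57596 = n56993 := d20_2 (iv F253401) D57596 (iv D56993)
theorem F258428 : act 8 n57596 = n56423 := d22_2 (iv F253402) D57596 (iv D56423)
def n57597 : Q := act 4 n56420
theorem D57597 : act 4 n56420 = n57597 := rfl
theorem F258429 : act 3 n57597 = n56456 := d24_1 D57597 (iv D56456) (iv D55124) (iv F247199) D56420
theorem F258430 : act 6 n57597 = n56994 := d31_2 (iv F253401) D57597 (iv D56994)
theorem F258431 : act 8 n57597 = n56424 := d33_2 (iv F253402) D57597 (iv D56424)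
def n57598 : Q := act 3 n56421
theorem D57598 : act 3 n56421 = n57598 := rfl
theorem F258432 : act 5 n57598 = n56995 := d25_2 (iv F253405) D57598 (iv D56995)
theorem F258433 : act 6 n57598 = n56422 := d26_2 (iv F253406) D57598 (iv D56422)
def n57599 : Q := act 2 n56422
theorem D57599 : act 2 n56422 = n57599 := rfl
theorem F258434 : act 3 n57599 = n56428 := d17_2 D56422 D57599 (iv D56428) (iv D55088) (iv F247205)
theorem F258435 : act 5 n57599 = n56423 := d19_2 (iv F253407) D57599 (iv D56423)
def n57600 : Q := act 4 n56422
theorem D57600 : act 4 n56422 = n57600 := rfl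
theorem F258436 : act 3 n57600 = n56438 := d24_1 D57600 (iv D56438) (iv D55097) (iv F247206) D56422
def n57601 : Q := act 1 n56423
theorem D57601 : act 1 n56423 = n57601 := rfl
theorem F258437 : act 3 n57601 = n56430 := d10_2 (iv F253408) D57601 (iv D56430)
theorem F258438 : act 6 n57601 = n56998 := d13_2 (iv F253409) D57601 (iv D56998)
def n57602 : Q := act 4 n56423
theorem D57602 : act 4 n56423 = n57602 := rfl
theorem F258439 : act 2 n57602 = n56424 := d18_1 D57602 (iv D56424) D56423
theorem F258440 : act 6 n57602 = n56999 := d31_2 (iv F253409) D57602 (iv D56999)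
def n57603 : Q := act 5 n56424
theorem D57603 : act 5 n56424 = n57603 := rfl
theorem F258441 : act 3 n57603 = n56425 := d25_1 D57603 (iv D56425) (iv F253410)
def n57604 : Q := act 6 n56425
theorem D57604 : act 6 n56425 = n57604 := rfl
theorem F258442 : act 1 n57604 = n56442 := d13_1 D57604 (iv F258415) F258412
theorem F258443 : act 4 n57604 = n56440 := d31_1 D57604 (iv D56440) (iv F253412)
theorem F258444 : act 5 n57604 = n57001 := d35_1 D57604 (iv D57001) (iv D55733) (iv F247209) D56425
theorem F258445 : act 8 n57604 = n56444 := d40_2 (iv F253413) D57604 F253481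
def n57605 : Q := act 3 n56426
theorem D57605 : act 3 n56426 = n57605 := rfl
theorem F258446 : act 4 n57605 = n57000 := d24_2 (iv F253414) D57605 F255621 F249908 (iv F247264)
theorem F258447 : act 5 n57605 = n56997 := d25_2 (iv F253415) D57605 F255616
theorem F258448 : act 7 n57605 = n56427 := d27_2 (iv F253416) D57605 (iv D56427)
theorem F258449 : act 8 n57605 = n56690 := d28_2 D56426 D57605 (iv D56690) (iv D55386) (iv F247211)
def n57606 : Q := act 2 n56427
theorem D57606 : act 2 n56427 = n57606 := rfl
theorem F258450 : act 5 n57606 = n57002 := d19_2 (iv F253417) D57606 (iv D57002)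
theorem F258451 : act 6 n57606 = n56428 := d20_2 (iv F253418) D57606 (iv D56428)
theorem F258452 : act 8 n57606 = n56691 := d22_2 (iv F253419) D57606 (iv D56691)
def n57607 : Q := act 4 n56427
theorem D57607 : act 4 n56427 = n57607 := rfl
theorem F258453 : act 3 n57607 = n56441 := d24_1 D57607 (iv D56441) (iv D55102) (iv F247215) D56427
theorem F258454 : act 5 n57607 = n56983 := d30_2 (iv F253417) D57607 (iv D56983) (iv F250587) F250586
theorem F258455 : act 6 n57607 = n56429 := d31_2 (iv F253418) D57607 (iv D56429)
theorem F258456 : act 7 n57607 = n57000 := d32_2 F258448 D57607 (iv F258446)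
theorem F258457 : act 8 n57607 = n56692 := d33_2 (iv F253419) D57607 (iv D56692)
def n57608 : Q := act 1 n56428
theorem D57608 : act 1 n56428 = n57608 := rfl
theorem F258458 : act 5 n57608 = n56430 := d12_2 (iv F253420) D57608 (iv D56430)
theorem F258459 : act 8 n57608 = n56693 := d15_2 (iv F253421) D57608 (iv D56693)
def n57609 : Q := act 4 n56428
theorem D57609 : act 4 n56428 = n57609 := rfl
theorem F258460 : act 2 n57609 = n56429 := d18_1 D57609 (iv D56429) D56428
theorem F258461 : act 8 n57609 = n56694 := d33_2 (iv F253421) D57609 (iv D56694)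
def n57610 : Q := act 0 n56430
theorem D57610 : act 0 n56430 = n57610 := rfl
theorem F258462 : act 6 n57610 = n57004 := d5_2 (iv F253424) D57610 (iv D57004)
theorem F258463 : act 8 n57610 = n56695 := d7_2 (iv F253425) D57610 (iv D56695)
def n57611 : Q := act 4 n56431
theorem D57611 : act 4 n56431 = n57611 := rfl
theorem F258464 : act 1 n57611 = n56950 := d11_1 D57611 (iv D56950) (iv F253426)
theorem F258465 : act 7 n57611 = n56438 := d32_2 (iv F253428) D57611 (iv D56438)
theorem F258466 : act 8 n57611 = n57611 := d33_2 F253429 D57611 (iv D57611)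
def n57612 : Q := act 4 n56433
theorem D57612 : act 4 n56433 = n57612 := rfl
theorem F258467 : act 0 n57612 = n56936 := d3_1 D57612 (iv D56936) (iv F253433)
theorem F258468 : act 1 n57612 = n56438 := d11_1 D57612 (iv D56438) (iv F253434)
theorem F258469 : act 2 n57612 = n56959 := d18_1 D57612 (iv D56959) (iv F253435)
theorem F258470 : act 7 n57612 = n56950 := d32_2 (iv F253437) D57612 (iv D56950)
theorem F258471 : act 8 n57612 = n57612 := d33_2 F253438 D57612 (iv D57612)
theorem F258472 : act 9 n57612 = n56928 := d34_2 (iv F253439) D57612 (iv D56928)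
def n57613 : Q := act 5 n56434
theorem D57613 : act 5 n56434 = n57613 := rfl
theorem F258473 : act 0 n57613 = n56938 := d4_1 D57613 (iv D56938) (iv F253440)
theorem F258474 : act 1 n57613 = n56439 := d12_1 D57613 (iv D56439) (iv F253441)
theorem F258475 : act 2 n57613 = n56436 := d19_1 D57613 F253454 (iv F253442)
theorem F258476 : act 3 n57613 = n56435 := d25_1 D57613 (iv D56435) (iv F253443)
theorem F258477 : act 6 n57613 = n56437 := d35_2 (iv F253444) D57613 F253459 F247258 (iv F247281)
theorem F258478 : act 7 n57613 = n56951 := d36_2 (iv F253445) D57613 (iv D56951)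
theorem F258479 : act 8 n57613 = n57613 := d37_2 F253446 D57613 (iv D57613)
theorem F258480 : act 9 n57613 = n56930 := d38_2 (iv F253447) D57613 (iv D56930)
def n57614 : Q := act 4 n56436
theorem D57614 : act 4 n56436 = n57614 := rfl
theorem F258481 : act 0 n57614 = n56973 := d3_1 D57614 F255570 (iv F253453)
theorem F258482 : act 5 n57614 = n56959 := d30_2 (iv F253454) D57614 (iv D56959) F249822 (iv F247285)
theorem F258483 : act 6 n57614 = n56438 := d31_2 (iv F253455) D57614 (iv D56438)
theorem F258484 : act 8 n57614 = n57614 := d33_2 F253456 D57614 (iv D57614)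
theorem F258485 : act 9 n57614 = n56965 := d34_2 (iv F253457) D57614 F255555
def n57615 : Q := act 4 n56437
theorem D57615 : act 4 n56437 = n57615 := rfl
theorem F258486 : act 2 n57615 = n56438 := d18_1 D57615 (iv D56438) D56437
theorem F258487 : act 8 n57615 = n57615 := d33_2 F253460 D57615 (iv D57615)
def n57616 : Q := act 5 n56438
theorem D57616 : act 5 n56438 = n57616 := rfl
theorem F258488 : act 4 n57616 = n56439 := d30_1 D57616 (iv D56439) (iv D55099) (iv F247255) D56438
theorem F258489 : act 8 n57616 = n57616 := d37_2 F253461 D57616 (iv D57616)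
def n57617 : Q := act 3 n56442
theorem D57617 : act 3 n56442 = n57617 := rfl
def n57618 : Q := act 3 n56443
theorem D57618 : act 3 n56443 = n57618 := rfl
theorem F258490 : act 1 n57618 = n56458 := d10_1 D57618 F253550 (iv F253473)
theorem F258491 : act 2 n57618 = n56730 := d17_1 D57618 (iv D56730) F248756 (iv F247299) (iv F253474)
theorem F258492 : act 4 n57618 = n57618 := d24_2 D56443 D57618 (iv D57618) (iv D56443) F247294
theorem F258493 : act 5 n57618 = n56453 := d25_2 (iv F253475) D57618 F253528
theorem F258494 : act 6 n57618 = n56445 := d26_2 (iv F253476) D57618 (iv D56445)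
theorem F258495 : act 7 n57618 = n56955 := d27_2 (iv F253477) D57618 F255527
theorem F258496 : act 9 n57618 = n57618 := d29_2 F253478 D57618 (iv D57618)
def n57619 : Q := act 3 n56444
theorem D57619 : act 3 n56444 = n57619 := rfl
theorem F258497 : act 1 n57619 = n56445 := d10_1 D57619 (iv D56445) (iv F253479)
theorem F258498 : act 4 n57619 = n57619 := d24_2 D56444 D57619 (iv D57619) (iv D56444) F247304
theorem F258499 : act 5 n57619 = n56722 := d25_2 (iv F253480) D57619 F254680
theorem F258500 : act 6 n57619 = n56458 := d26_2 (iv F253481) D57619 F253550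
theorem F258501 : act 7 n57619 = n56725 := d27_2 F258141 D57619 (iv F258138)
theorem F258502 : act 9 n57619 = n57619 := d29_2 F253482 D57619 (iv D57619)
def n57620 : Q := act 8 n56445
theorem D57620 : act 8 n56445 = n57620 := rfl
theorem F258503 : act 2 n57620 = n56733 := d22_1 D57620 (iv D56733) (iv F253483)
theorem F258504 : act 4 n57620 = n57620 := d33_1 D57620 (iv D57620) F253484
def n57621 : Q := act 3 n56446
theorem D57621 : act 3 n56446 = n57621 := rfl
theorem F258505 : act 0 n57621 = n57165 := d2_1 D57621 (iv D57165) (iv F253486)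
theorem F258506 : act 1 n57621 = n56953 := d10_1 D57621 (iv D56953) (iv F253487)
theorem F258507 : act 5 n57621 = n57621 := d25_2 F253489 D57621 (iv D57621)
theorem F258508 : act 6 n57621 = n57041 := d26_2 (iv F253490) D57621 (iv D57041)
theorem F258509 : act 7 n57621 = n56454 := d27_2 (iv F253491) D57621 (iv D56454)
theorem F258510 : act 8 n57621 = n57621 := d28_2 D56446 D57621 (iv D57621) (iv D56446) F247313
theorem F258511 : act 9 n57621 = n56447 := d29_2 (iv F253492) D57621 (iv D56447)
def n57622 : Q := act 4 n56447
theorem D57622 : act 4 n56447 = n57622 := rfl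
theorem F258512 : act 1 n57622 = n56954 := d11_1 D57622 (iv D56954) (iv F253493)
theorem F258513 : act 7 n57622 = n56456 := d32_2 (iv F253495) D57622 (iv D56456)
theorem F258514 : act 8 n57622 = n56448 := d33_2 (iv F253496) D57622 (iv D56448)
def n57623 : Q := act 3 n56449
theorem D57623 : act 3 n56449 = n57623 := rfl
theorem F258515 : act 0 n57623 = n56452 := d2_1 D57623 (iv D56452) (iv F253501)
theorem F258516 : act 1 n57623 = n56561 := d10_1 D57623 (iv D56561) (iv F253502)
theorem F258517 : act 2 n57623 = n56578 := d17_1 D57623 (iv D56578) F248084 (iv F247475) (iv F253503)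
theorem F258518 : act 5 n57623 = n57623 := d25_2 F253504 D57623 (iv D57623)
theorem F258519 : act 6 n57623 = n56499 := d26_2 (iv F253505) D57623 (iv D56499)
theorem F258520 : act 7 n57623 = n56472 := d27_2 (iv F253506) D57623 (iv D56472)
theorem F258521 : act 8 n57623 = n56450 := d28_2 D56449 D57623 (iv D56450) (iv D55118) (iv F247331)
def n57624 : Q := act 3 n56451
theorem D57624 : act 3 n56451 = n57624 := rfl
theorem F258522 : act 1 n57624 = n56454 := d10_1 D57624 (iv D56454) (iv F253514)
theorem F258523 : act 2 n57624 = n56921 := d17_1 D57624 (iv D56921) (iv F252827) F252828 (iv F253515)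
theorem F258524 : act 5 n57624 = n57624 := d25_2 F253516 D57624 (iv D57624)
theorem F258525 : act 6 n57624 = n56509 := d26_2 (iv F253517) D57624 (iv D56509)
theorem F258526 : act 7 n57624 = n56953 := d27_2 (iv F253518) D57624 (iv D56953)
theorem F258527 : act 8 n57624 = n57624 := d28_2 D56451 D57624 (iv D57624) (iv D56451) F247345
theorem F258528 : act 9 n57624 = n56452 := d29_2 (iv F253519) D57624 (iv D56452)
def n57625 : Q := act 4 n56452
theorem D57625 : act 4 n56452 = n57625 := rfl
theorem F258529 : act 1 n57625 = n56456 := d11_1 D57625 (iv D56456) (iv F253520)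
theorem F258530 : act 2 n57625 = n56922 := d18_1 D57625 (iv D56922) (iv F253521)
theorem F258531 : act 6 n57625 = n57005 := d31_2 (iv F253523) D57625 (iv D57005)
theorem F258532 : act 7 n57625 = n56954 := d32_2 (iv F253524) D57625 (iv D56954)
theorem F258533 : act 8 n57625 = n56453 := d33_2 (iv F253525) D57625 (iv D56453)
def n57626 : Q := act 2 n56454
theorem D57626 : act 2 n56454 = n57626 := rfl
theorem F258534 : act 0 n57626 = n57163 := d1_1 D57626 (iv F257209) F257207
theorem F258535 : act 1 n57626 = n56840 := d9_1 D57626 F255191 (iv F255436) (iv F258523) F258522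
theorem F258536 : act 3 n57626 = n56734 := d17_2 D56454 D57626 (iv D56734) (iv D55434) (iv F247365)
theorem F258537 : act 5 n57626 = n57626 := d19_2 F253532 D57626 (iv D57626)
theorem F258538 : act 6 n57626 = n56844 := d20_2 (iv F253533) D57626 F255212
theorem F258539 : act 8 n57626 = n57626 := d22_2 F253534 D57626 (iv D57626)
theorem F258540 : act 9 n57626 = n56455 := d23_2 (iv F253535) D57626 (iv D56455)
def n57627 : Q := act 4 n56454
theorem D57627 : act 4 n56454 = n57627 := rfl
theorem F258541 : act 6 n57627 = n57006 := d31_2 (iv F253533) D57627 (iv D57006)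
theorem F258542 : act 8 n57627 = n57627 := d33_2 F253534 D57627 (iv D57627)
theorem F258543 : act 9 n57627 = n56456 := d34_2 (iv F253535) D57627 (iv D56456)
def n57628 : Q := act 4 n56455
theorem D57628 : act 4 n56455 = n57628 := rfl
theorem F258544 : act 0 n57628 = n57164 := d3_1 D57628 (iv D57164) (iv F253536)
theorem F258545 : act 1 n57628 = n56865 := d11_1 D57628 (iv D56865) (iv F253537)
theorem F258546 : act 2 n57628 = n56456 := d18_1 D57628 (iv D56456) D56455
theorem F258547 : act 6 n57628 = n56870 := d31_2 (iv F253540) D57628 (iv D56870)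
theorem F258548 : act 8 n57628 = n56457 := d33_2 (iv F253541) D57628 (iv D56457)
def n57629 : Q := act 5 n56456
theorem D57629 : act 5 n56456 = n57629 := rfl
theorem F258549 : act 4 n57629 = n57629 := d30_1 D57629 (iv D57629) (iv D56456) F247369 D56456
theorem F258550 : act 8 n57629 = n56458 := d37_2 (iv F253543) D57629 (iv D56458)
def n57630 : Q := act 5 n56457
theorem D57630 : act 5 n56457 = n57630 := rfl
theorem F258551 : act 0 n57630 = n56728 := d4_1 D57630 F254706 (iv F253544)
theorem F258552 : act 1 n57630 = n56916 := d12_1 D57630 (iv D56916) (iv F253545)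
theorem F258553 : act 2 n57630 = n56458 := d19_1 D57630 (iv D56458) (iv F253546)
theorem F258554 : act 3 n57630 = n56569 := d25_1 D57630 F254066 (iv F253547)
theorem F258555 : act 4 n57630 = n57630 := d30_1 D57630 (iv D57630) (iv D56457) F247375 D56457
theorem F258556 : act 7 n57630 = n56570 := d36_2 F256680 D57630 F256682
theorem F258557 : act 9 n57630 = n57630 := d38_2 F253549 D57630 (iv D57630)
def n57631 : Q := act 3 n56459
theorem D57631 : act 3 n56459 = n57631 := rfl
theorem F258558 : act 0 n57631 = n56903 := d2_1 D57631 (iv D56903) (iv F253553)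
theorem F258559 : act 1 n57631 = n56465 := d10_1 D57631 (iv D56465) (iv F253554)
theorem F258560 : act 4 n57631 = n56510 := d24_2 (iv F253555) D57631 (iv D56510) F247704 (iv F247389)
theorem F258561 : act 7 n57631 = n56462 := d27_2 (iv F253556) D57631 (iv D56462)
theorem F258562 : act 9 n57631 = n57022 := d29_2 (iv F253557) D57631 (iv D57022)
def n57632 : Q := act 3 n56460
theorem D57632 : act 3 n56460 = n57632 := rfl
theorem F258563 : act 0 n57632 = n56897 := d2_1 D57632 (iv D56897) (iv F253558)
theorem F258564 : act 1 n57632 = n56689 := d10_1 D57632 F254569 (iv F253559)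
theorem F258565 : act 5 n57632 = n56674 := d25_2 (iv F253562) D57632 F254522
theorem F258566 : act 6 n57632 = n56806 := d26_2 (iv F253563) D57632 (iv D56806)
theorem F258567 : act 8 n57632 = n57107 := d28_2 D56460 D57632 (iv D57107) (iv D55850) (iv F247396)
theorem F258568 : act 9 n57632 = n56774 := d29_2 (iv F253564) D57632 (iv D56774)
def n57633 : Q := act 4 n56461
theorem D57633 : act 4 n56461 = n57633 := rfl
theorem F258569 : act 0 n57633 = n56915 := d3_1 D57633 (iv D56915) (iv F253565)
theorem F258570 : act 1 n57633 = n56712 := d11_1 D57633 F254642 (iv F253566)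
theorem F258571 : act 2 n57633 = n56513 := d18_1 D57633 (iv D56513) (iv F253567)
theorem F258572 : act 5 n57633 = n56708 := d30_2 (iv F253568) D57633 (iv D56708) F248665 (iv F247421)
theorem F258573 : act 6 n57633 = n56816 := d31_2 (iv F253569) D57633 (iv D56816)
theorem F258574 : act 8 n57633 = n57633 := d33_2 F253570 D57633 (iv D57633)
theorem F258575 : act 9 n57633 = n56775 := d34_2 (iv F253571) D57633 (iv D56775)
def n57634 : Q := act 2 n56462
theorem D57634 : act 2 n56462 = n57634 := rfl
theorem F258576 : act 0 n57634 = n56904 := d1_1 D57634 (iv D56904) (iv F253572)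
theorem F258577 : act 4 n57634 = n56514 := d18_2 (iv F253574) D57634 (iv D56514)
theorem F258578 : act 6 n57634 = n56810 := d20_2 (iv F253575) D57634 (iv D56810)
theorem F258579 : act 9 n57634 = n57033 := d23_2 (iv F253576) D57634 (iv D57033)
def n57635 : Q := act 3 n56464
theorem D57635 : act 3 n56464 = n57635 := rfl
theorem F258580 : act 0 n57635 = n56485 := d2_1 D57635 (iv D56485) (iv F253585)
theorem F258581 : act 4 n57635 = n56537 := d24_2 (iv F253587) D57635 (iv D56537) F247866 (iv F247432)
theorem F258582 : act 6 n57635 = n56465 := d26_2 (iv F253588) D57635 (iv D56465)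
theorem F258583 : act 7 n57635 = n57008 := d27_2 (iv F253589) D57635 (iv D57008)
theorem F258584 : act 9 n57635 = n57017 := d29_2 (iv F253590) D57635 (iv D57017)
def n57636 : Q := act 2 n56465
theorem D57636 : act 2 n56465 = n57636 := rfl
theorem F258585 : act 0 n57636 = n56488 := d1_1 D57636 (iv D56488) (iv F253591)
theorem F258586 : act 3 n57636 = n57013 := d17_2 D56465 D57636 (iv D57013) (iv D55755) (iv F247438)
theorem F258587 : act 4 n57636 = n56545 := d18_2 (iv F253592) D57636 (iv D56545)
theorem F258588 : act 7 n57636 = n56467 := d21_2 (iv F253593) D57636 (iv D56467)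
theorem F258589 : act 9 n57636 = n57026 := d23_2 (iv F253594) D57636 (iv D57026)
def n57637 : Q := act 2 n56466
theorem D57637 : act 2 n56466 = n57637 := rfl
theorem F258590 : act 0 n57637 = n56495 := d1_1 D57637 (iv D56495) (iv F253595)
theorem F258591 : act 3 n57637 = n57014 := d17_2 D56466 D57637 (iv D57014) (iv D55756) (iv F247443)
theorem F258592 : act 5 n57637 = n56467 := d19_2 (iv F253596) D57637 (iv D56467)
theorem F258593 : act 9 n57637 = n57036 := d23_2 (iv F253597) D57637 (iv D57036)
def n57638 : Q := act 4 n56466
theorem D57638 : act 4 n56466 = n57638 := rfl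
theorem F258594 : act 0 n57638 = n56496 := d3_1 D57638 (iv D56496) (iv F253595)
theorem F258595 : act 3 n57638 = n56468 := d24_1 D57638 (iv D56468) (iv D55141) (iv F247444) D56466
theorem F258596 : act 5 n57638 = n56556 := d30_2 (iv F253596) D57638 (iv D56556) F247952 (iv F247448)
theorem F258597 : act 9 n57638 = n57037 := d34_2 (iv F253597) D57638 (iv D57037)
def n57639 : Q := act 1 n56467
theorem D57639 : act 1 n56467 = n57639 := rfl
theorem F258598 : act 3 n57639 = n57015 := d10_2 (iv F253599) D57639 (iv D57015)
theorem F258599 : act 4 n57639 = n56557 := d11_2 (iv F253600) D57639 (iv D56557)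
theorem F258600 : act 6 n57639 = n57010 := d13_2 (iv F253601) D57639 (iv D57010)
theorem F258601 : act 9 n57639 = n57038 := d16_2 (iv F253602) D57639 (iv D57038)
def n57640 : Q := act 8 n56469
theorem D57640 : act 8 n56469 = n57640 := rfl
theorem F258602 : act 0 n57640 = n57023 := d7_1 D57640 (iv D57023) (iv F253607)
theorem F258603 : act 2 n57640 = n56934 := d22_1 D57640 (iv D56934) (iv F253608)
theorem F258604 : act 4 n57640 = n57640 := d33_1 D57640 (iv D57640) F253610
theorem F258605 : act 5 n57640 = n56470 := d37_1 D57640 (iv D56470) (iv F253611)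
theorem F258606 : act 7 n57640 = n56473 := d42_1 D57640 (iv D56473) (iv F253612)
def n57641 : Q := act 3 n56470
theorem D57641 : act 3 n56470 = n57641 := rfl
theorem F258607 : act 0 n57641 = n57024 := d2_1 D57641 (iv D57024) (iv F253613)
theorem F258608 : act 4 n57641 = n56581 := d24_2 (iv F253614) D57641 (iv D56581) F248095 (iv F247475)
theorem F258609 : act 7 n57641 = n56474 := d27_2 (iv F253615) D57641 (iv D56474)
theorem F258610 : act 8 n57641 = n56478 := d28_2 D56470 D57641 (iv D56478) (iv D55154) (iv F247471)
def n57642 : Q := act 3 n56471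
theorem D57642 : act 3 n56471 = n57642 := rfl
theorem F258611 : act 0 n57642 = n56943 := d2_1 D57642 (iv D56943) (iv F253616)
theorem F258612 : act 6 n57642 = n56487 := d26_2 (iv F253619) D57642 (iv D56487)
theorem F258613 : act 8 n57642 = n56927 := d28_2 D56471 D57642 (iv D56927) (iv D55660) (iv F247480)
def n57643 : Q := act 4 n56472
theorem D57643 : act 4 n56472 = n57643 := rfl
theorem F258614 : act 0 n57643 = n56954 := d3_1 D57643 (iv D56954) (iv F253620)
theorem F258615 : act 2 n57643 = n56594 := d18_1 D57643 (iv D56594) (iv F253621)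
theorem F258616 : act 6 n57643 = n56498 := d31_2 (iv F253623) D57643 (iv D56498)
theorem F258617 : act 8 n57643 = n56502 := d33_2 (iv F253624) D57643 (iv D56502)
def n57644 : Q := act 3 n56473
theorem D57644 : act 3 n56473 = n57644 := rfl
theorem F258618 : act 0 n57644 = n57034 := d2_1 D57644 (iv D57034) (iv F253625)
theorem F258619 : act 5 n57644 = n56474 := d25_2 (iv F253627) D57644 (iv D56474)
theorem F258620 : act 8 n57644 = n56479 := d28_2 D56473 D57644 (iv D56479) (iv D55155) (iv F247488)
def n57645 : Q := act 2 n56474
theorem D57645 : act 2 n56474 = n57645 := rfl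
theorem F258621 : act 0 n57645 = n57035 := d1_1 D57645 (iv D57035) (iv F253628)
theorem F258622 : act 4 n57645 = n56597 := d18_2 (iv F253629) D57645 (iv D56597)
theorem F258623 : act 6 n57645 = n57011 := d20_2 (iv F253630) D57645 (iv D57011)
theorem F258624 : act 8 n57645 = n56480 := d22_2 (iv F253631) D57645 (iv D56480)
def n57646 : Q := act 8 n56475
theorem D57646 : act 8 n56475 = n57646 := rfl
theorem F258625 : act 0 n57646 = n57016 := d7_1 D57646 (iv D57016) (iv F253632)
theorem F258626 : act 1 n57646 = n56969 := d15_1 D57646 (iv D56969) (iv F253633)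
theorem F258627 : act 2 n57646 = n57007 := d22_1 D57646 (iv D57007) (iv F253634)
theorem F258628 : act 4 n57646 = n57646 := d33_1 D57646 (iv D57646) F253636
theorem F258629 : act 5 n57646 = n56476 := d37_1 D57646 (iv D56476) (iv F253637)
theorem F258630 : act 7 n57646 = n56511 := d42_1 D57646 (iv D56511) (iv F253638)
theorem F258631 : act 9 n57646 = n56484 := d44_2 D56475 D57646 (iv D56484) (iv D55162) (iv F247500)
def n57647 : Q := act 3 n56476
theorem D57647 : act 3 n56476 = n57647 := rfl
theorem F258632 : act 0 n57647 = n57017 := d2_1 D57647 (iv D57017) (iv F253639)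
theorem F258633 : act 4 n57647 = n56601 := d24_2 (iv F253641) D57647 (iv D56601) F248189 (iv F247508)
theorem F258634 : act 6 n57647 = n56478 := d26_2 (iv F253642) D57647 (iv D56478)
theorem F258635 : act 7 n57647 = n57012 := d27_2 (iv F253643) D57647 (iv D57012)
theorem F258636 : act 9 n57647 = n56485 := d29_2 (iv F253644) D57647 (iv D56485)
def n57648 : Q := act 3 n56477
theorem D57648 : act 3 n56477 = n57648 := rfl
theorem F258637 : act 0 n57648 = n57025 := d2_1 D57648 (iv D57025) (iv F253645)
theorem F258638 : act 5 n57648 = n56478 := d25_2 (iv F253648) D57648 (iv D56478)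
theorem F258639 : act 7 n57648 = n56479 := d27_2 (iv F253649) D57648 (iv D56479)
theorem F258640 : act 9 n57648 = n56487 := d29_2 (iv F253650) D57648 (iv D56487)
def n57649 : Q := act 2 n56478
theorem D57649 : act 2 n56478 = n57649 := rfl
theorem F258641 : act 0 n57649 = n57026 := d1_1 D57649 (iv D57026) (iv F253651)
theorem F258642 : act 3 n57649 = n57009 := d17_2 D56478 D57649 (iv D57009) (iv D55751) (iv F247519)
theorem F258643 : act 4 n57649 = n56609 := d18_2 (iv F253652) D57649 (iv D56609)
theorem F258644 : act 7 n57649 = n56480 := d21_2 (iv F253653) D57649 (iv D56480)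
theorem F258645 : act 9 n57649 = n56488 := d23_2 (iv F253654) D57649 (iv D56488)
def n57650 : Q := act 2 n56479
theorem D57650 : act 2 n56479 = n57650 := rfl
theorem F258646 : act 0 n57650 = n57036 := d1_1 D57650 (iv D57036) (iv F253655)
theorem F258647 : act 3 n57650 = n56781 := d17_2 D56479 D57650 (iv D56781) (iv D55498) (iv F247524)
theorem F258648 : act 5 n57650 = n56480 := d19_2 (iv F253656) D57650 (iv D56480)
theorem F258649 : act 9 n57650 = n56495 := d23_2 (iv F253657) D57650 (iv D56495)
def n57651 : Q := act 4 n56479
theorem D57651 : act 4 n56479 = n57651 := rfl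
theorem F258650 : act 0 n57651 = n57037 := d3_1 D57651 (iv D57037) (iv F253655)
theorem F258651 : act 3 n57651 = n56482 := d24_1 D57651 (iv D56482) (iv D55159) (iv F247525) D56479
theorem F258652 : act 5 n57651 = n56622 := d30_2 (iv F253656) D57651 (iv D56622) F248289 (iv F247529)
theorem F258653 : act 9 n57651 = n56496 := d34_2 (iv F253657) D57651 (iv D56496)
def n57652 : Q := act 1 n56480
theorem D57652 : act 1 n56480 = n57652 := rfl
theorem F258654 : act 3 n57652 = n57010 := d10_2 (iv F253659) D57652 (iv D57010)
theorem F258655 : act 4 n57652 = n56623 := d11_2 (iv F253660) D57652 (iv D56623)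
theorem F258656 : act 6 n57652 = n57015 := d13_2 (iv F253661) D57652 (iv D57015)
theorem F258657 : act 9 n57652 = n56497 := d16_2 (iv F253662) D57652 (iv D56497)
def n57653 : Q := act 4 n56481
theorem D57653 : act 4 n56481 = n57653 := rfl
theorem F258658 : act 0 n57653 = n57042 := d3_1 D57653 (iv D57042) (iv F253663)
theorem F258659 : act 2 n57653 = n56910 := d18_1 D57653 (iv D56910) (iv F253664)
theorem F258660 : act 5 n57653 = n56629 := d30_2 (iv F253665) D57653 (iv D56629) F248321 (iv F247539)
theorem F258661 : act 7 n57653 = n56482 := d32_2 (iv F253666) D57653 (iv D56482)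
theorem F258662 : act 8 n57653 = n57653 := d33_2 F253667 D57653 (iv D57653)
theorem F258663 : act 9 n57653 = n56498 := d34_2 (iv F253668) D57653 (iv D56498)
def n57654 : Q := act 3 n56483
theorem D57654 : act 3 n56483 = n57654 := rfl
theorem F258664 : act 0 n57654 = n57012 := d2_1 D57654 (iv D57012) (iv F253674)
theorem F258665 : act 1 n57654 = n56521 := d10_1 D57654 (iv D56521) (iv F253675)
theorem F258666 : act 4 n57654 = n57031 := d24_2 (iv F253677) D57654 (iv D57031) F250017 (iv F247559)
theorem F258667 : act 6 n57654 = n56486 := d26_2 (iv F253678) D57654 (iv D56486)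
theorem F258668 : act 7 n57654 = n57017 := d27_2 (iv F253679) D57654 (iv D57017)
theorem F258669 : act 8 n57654 = n56506 := d28_2 D56483 D57654 (iv D56506) (iv D55188) (iv F247552)
theorem F258670 : act 9 n57654 = n57008 := d29_2 (iv F253680) D57654 (iv D57008)
def n57655 : Q := act 3 n56484
theorem D57655 : act 3 n56484 = n57655 := rfl
theorem F258671 : act 1 n57655 = n56970 := d10_1 D57655 (iv D56970) (iv F253681)
theorem F258672 : act 5 n57655 = n56485 := d25_2 (iv F253683) D57655 (iv D56485)
theorem F258673 : act 7 n57655 = n57019 := d27_2 (iv F253684) D57655 (iv D57019)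
theorem F258674 : act 8 n57655 = n56967 := d28_2 D56484 D57655 (iv D56967) (iv D55703) (iv F247565)
def n57656 : Q := act 2 n56485
theorem D57656 : act 2 n56485 = n57656 := rfl
theorem F258675 : act 4 n57656 = n56647 := d18_2 (iv F253685) D57656 (iv D56647)
theorem F258676 : act 6 n57656 = n56488 := d20_2 (iv F253686) D57656 (iv D56488)
theorem F258677 : act 7 n57656 = n57020 := d21_2 (iv F253687) D57656 (iv D57020)
def n57657 : Q := act 2 n56486
theorem D57657 : act 2 n56486 = n57657 := rfl
theorem F258678 : act 0 n57657 = n57013 := d1_1 D57657 (iv D57013) (iv F253688)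
theorem F258679 : act 3 n57657 = n56488 := d17_2 D56486 D57657 (iv D56488) (iv D55166) (iv F247574)
theorem F258680 : act 4 n57657 = n57047 := d18_2 (iv F253690) D57657 (iv D57047)
theorem F258681 : act 5 n57657 = n57011 := d19_2 (iv F253691) D57657 (iv D57011)
theorem F258682 : act 7 n57657 = n56492 := d21_2 (iv F253692) D57657 (iv D56492)
theorem F258683 : act 8 n57657 = n57014 := d22_2 (iv F253693) D57657 (iv D57014)
theorem F258684 : act 9 n57657 = n57009 := d23_2 (iv F253694) D57657 (iv D57009)
def n57658 : Q := act 2 n56487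
theorem D57658 : act 2 n56487 = n57658 := rfl
theorem F258685 : act 3 n57658 = n57011 := d17_2 D56487 D57658 (iv D57011) (iv D55753) (iv F247579)
theorem F258686 : act 5 n57658 = n56488 := d19_2 (iv F253695) D57658 (iv D56488)
theorem F258687 : act 7 n57658 = n56495 := d21_2 (iv F253696) D57658 (iv D56495)
def n57659 : Q := act 4 n56487
theorem D57659 : act 4 n56487 = n57659 := rfl
theorem F258688 : act 3 n57659 = n56498 := d24_1 D57659 (iv D56498) (iv D55175) (iv F247580) D56487
theorem F258689 : act 5 n57659 = n56665 := d30_2 (iv F253695) D57659 (iv D56665) F248521 (iv F247583)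
theorem F258690 : act 7 n57659 = n56496 := d32_2 (iv F253696) D57659 (iv D56496)
def n57660 : Q := act 1 n56488
theorem D57660 : act 1 n56488 = n57660 := rfl
theorem F258691 : act 4 n57660 = n56666 := d11_2 (iv F253697) D57660 (iv D56666)
theorem F258692 : act 7 n57660 = n56497 := d14_2 (iv F253698) D57660 (iv D56497)
def n57661 : Q := act 2 n56489
theorem D57661 : act 2 n56489 = n57661 := rfl
theorem F258693 : act 0 n57661 = n56861 := d1_1 D57661 (iv D56861) (iv F253699)
theorem F258694 : act 4 n57661 = n57014 := d18_2 (iv F253701) D57661 (iv D57014)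
theorem F258695 : act 5 n57661 = n56785 := d19_2 (iv F253702) D57661 (iv D56785)
theorem F258696 : act 6 n57661 = n57033 := d20_2 (iv F253703) D57661 (iv D57033)
theorem F258697 : act 7 n57661 = n57046 := d21_2 (iv F253704) D57661 (iv D57046)
theorem F258698 : act 8 n57661 = n57047 := d22_2 (iv F253705) D57661 (iv D57047)
theorem F258699 : act 9 n57661 = n56810 := d23_2 (iv F253706) D57661 (iv D56810)
def n57662 : Q := act 2 n56490
theorem D57662 : act 2 n56490 = n57662 := rfl
theorem F258700 : act 0 n57662 = n57011 := d1_1 D57662 (iv D57011) (iv F253707)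
theorem F258701 : act 4 n57662 = n57046 := d18_2 (iv F253709) D57662 (iv D57046)
theorem F258702 : act 5 n57662 = n57013 := d19_2 (iv F253710) D57662 (iv D57013)
theorem F258703 : act 6 n57662 = n57035 := d20_2 (iv F253711) D57662 (iv D57035)
theorem F258704 : act 7 n57662 = n57014 := d21_2 (iv F253712) D57662 (iv D57014)
theorem F258705 : act 8 n57662 = n56492 := d22_2 (iv F253713) D57662 (iv D56492)
theorem F258706 : act 9 n57662 = n57028 := d23_2 (iv F253714) D57662 (iv D57028)
def n57663 : Q := act 2 n56491
theorem D57663 : act 2 n56491 = n57663 := rfl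
theorem F258707 : act 0 n57663 = n57014 := d1_1 D57663 (iv D57014) (iv F253715)
theorem F258708 : act 3 n57663 = n56495 := d17_2 D56491 D57663 (iv D56495) (iv D55173) (iv F247601)
theorem F258709 : act 4 n57663 = n56861 := d18_2 (iv F253717) D57663 (iv D56861)
theorem F258710 : act 5 n57663 = n56492 := d19_2 (iv F253718) D57663 (iv D56492)
theorem F258711 : act 7 n57663 = n57011 := d21_2 (iv F253719) D57663 (iv D57011)
theorem F258712 : act 8 n57663 = n57013 := d22_2 (iv F253720) D57663 (iv D57013)
theorem F258713 : act 9 n57663 = n56781 := d23_2 (iv F253721) D57663 (iv D56781)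
def n57664 : Q := act 1 n56492
theorem D57664 : act 1 n56492 = n57664 := rfl
theorem F258714 : act 3 n57664 = n56497 := d10_2 (iv F253723) D57664 (iv D56497)
theorem F258715 : act 4 n57664 = n57048 := d11_2 (iv F253724) D57664 (iv D57048)
theorem F258716 : act 6 n57664 = n57038 := d13_2 (iv F253725) D57664 (iv D57038)
theorem F258717 : act 9 n57664 = n57010 := d16_2 (iv F253726) D57664 (iv D57010)
def n57665 : Q := act 3 n56493
theorem D57665 : act 3 n56493 = n57665 := rfl
theorem F258718 : act 0 n57665 = n56987 := d2_1 D57665 (iv D56987) (iv F253727)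
theorem F258719 : act 1 n57665 = n56544 := d10_1 D57665 (iv D56544) (iv F253728)
theorem F258720 : act 5 n57665 = n56510 := d25_2 (iv F253730) D57665 (iv D56510)
theorem F258721 : act 7 n57665 = n56494 := d27_2 (iv F253731) D57665 (iv D56494)
theorem F258722 : act 8 n57665 = n56985 := d28_2 D56493 D57665 (iv D56985) (iv D55721) (iv F247612)
def n57666 : Q := act 2 n56494
theorem D57666 : act 2 n56494 = n57666 := rfl
theorem F258723 : act 5 n57666 = n56514 := d19_2 (iv F253733) D57666 (iv D56514)
theorem F258724 : act 6 n57666 = n56495 := d20_2 (iv F253734) D57666 (iv D56495)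
def n57667 : Q := act 4 n56494
theorem D57667 : act 4 n56494 = n57667 := rfl
theorem F258725 : act 1 n57667 = n56556 := d11_1 D57667 (iv D56556) (iv F253732)
theorem F258726 : act 3 n57667 = n56500 := d24_1 D57667 (iv D56500) (iv D55177) (iv F247617) D56494
theorem F258727 : act 6 n57667 = n56496 := d31_2 (iv F253734) D57667 (iv D56496)
def n57668 : Q := act 1 n56495
theorem D57668 : act 1 n56495 = n57668 := rfl
theorem F258728 : act 5 n57668 = n56497 := d12_2 (iv F253735) D57668 (iv D56497)
def n57669 : Q := act 4 n56495
theorem D57669 : act 4 n56495 = n57669 := rfl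
theorem F258729 : act 2 n57669 = n56496 := d18_1 D57669 (iv D56496) D56495
theorem F258730 : act 5 n57669 = n56694 := d30_2 (iv F253735) D57669 (iv D56694) F248600 (iv F247621)
def n57670 : Q := act 0 n56497
theorem D57670 : act 0 n56497 = n57670 := rfl
theorem F258731 : act 4 n57670 = n56695 := d3_2 (iv F253738) D57670 (iv D56695)
theorem F258732 : act 6 n57670 = n57040 := d5_2 (iv F253739) D57670 (iv D57040)
def n57671 : Q := act 4 n56499
theorem D57671 : act 4 n56499 = n57671 := rfl
theorem F258733 : act 0 n57671 = n57005 := d3_1 D57671 (iv D57005) (iv F253744)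
theorem F258734 : act 1 n57671 = n56563 := d11_1 D57671 (iv D56563) (iv F253745)
theorem F258735 : act 7 n57671 = n56500 := d32_2 (iv F253747) D57671 (iv D56500)
theorem F258736 : act 8 n57671 = n56503 := d33_2 (iv F253748) D57671 (iv D56503)
def n57672 : Q := act 3 n56501
theorem D57672 : act 3 n56501 = n57672 := rfl
theorem F258737 : act 4 n57672 = n56857 := d24_2 D56501 D57672 (iv D56857) F249439 (iv F247635)
theorem F258738 : act 5 n57672 = n56718 := d25_2 (iv F253753) D57672 (iv D56718)
theorem F258739 : act 7 n57672 = n57071 := d27_2 (iv F253754) D57672 F255772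
theorem F258740 : act 9 n57672 = n56899 := d29_2 (iv F253756) D57672 F255376
def n57673 : Q := act 5 n56502
theorem D57673 : act 5 n56502 = n57673 := rfl
theorem F258741 : act 0 n57673 = n56955 := d4_1 D57673 (iv D56955) (iv F253757)
theorem F258742 : act 2 n57673 = n56743 := d19_1 D57673 (iv D56743) (iv F253758)
theorem F258743 : act 3 n57673 = n56932 := d25_1 D57673 (iv D56932) (iv F253759)
theorem F258744 : act 4 n57673 = n57673 := d30_1 D57673 (iv D57673) (iv D56502) F247649 D56502
theorem F258745 : act 6 n57673 = n56725 := d35_2 (iv F253760) D57673 (iv D56725) F248729 (iv F247653)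
theorem F258746 : act 9 n57673 = n57673 := d38_2 F253761 D57673 (iv D57673)
def n57674 : Q := act 8 n56504
theorem D57674 : act 8 n56504 = n57674 := rfl
theorem F258747 : act 4 n57674 = n57158 := d33_1 D57674 F255966 (iv F253767)
theorem F258748 : act 5 n57674 = n56733 := d37_1 D57674 (iv D56733) (iv F253768)
theorem F258749 : act 7 n57674 = n57164 := d42_1 D57674 F255982 (iv F253769)
def n57675 : Q := act 3 n56505
theorem D57675 : act 3 n56505 = n57675 := rfl
theorem F258750 : act 1 n57675 = n56526 := d10_1 D57675 (iv D56526) (iv F253771)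
theorem F258751 : act 4 n57675 = n57022 := d24_2 (iv F253773) D57675 (iv D57022) F249988 (iv F247676)
theorem F258752 : act 6 n57675 = n57024 := d26_2 (iv F253774) D57675 (iv D57024)
theorem F258753 : act 7 n57675 = n56506 := d27_2 (iv F253775) D57675 (iv D56506)
theorem F258754 : act 8 n57675 = n57017 := d28_2 D56505 D57675 (iv D57017) (iv D55759) (iv F247670)
theorem F258755 : act 9 n57675 = n56510 := d29_2 (iv F253776) D57675 (iv D56510)
def n57676 : Q := act 2 n56506
theorem D57676 : act 2 n56506 = n57676 := rfl
theorem F258756 : act 4 n57676 = n57033 := d18_2 (iv F253778) D57676 (iv D57033)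
theorem F258757 : act 6 n57676 = n57014 := d20_2 (iv F253779) D57676 (iv D57014)
theorem F258758 : act 9 n57676 = n56514 := d23_2 (iv F253780) D57676 (iv D56514)
def n57677 : Q := act 3 n56507
theorem D57677 : act 3 n56507 = n57677 := rfl
theorem F258759 : act 1 n57677 = n56537 := d10_1 D57677 (iv D56537) (iv F253781)
theorem F258760 : act 6 n57677 = n56510 := d26_2 (iv F253783) D57677 (iv D56510)
theorem F258761 : act 7 n57677 = n57027 := d27_2 (iv F253784) D57677 (iv D57027)
theorem F258762 : act 9 n57677 = n57024 := d29_2 (iv F253785) D57677 (iv D57024)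
def n57678 : Q := act 3 n56508
theorem D57678 : act 3 n56508 = n57678 := rfl
theorem F258763 : act 1 n57678 = n56992 := d10_1 D57678 (iv D56992) (iv F253786)
theorem F258764 : act 7 n57678 = n56512 := d27_2 (iv F253789) D57678 (iv D56512)
theorem F258765 : act 9 n57678 = n56987 := d29_2 (iv F253790) D57678 (iv D56987)
def n57679 : Q := act 4 n56509
theorem D57679 : act 4 n56509 = n57679 := rfl
theorem F258766 : act 1 n57679 = n57006 := d11_1 D57679 (iv D57006) (iv F253791)
theorem F258767 : act 7 n57679 = n56513 := d32_2 (iv F253793) D57679 (iv D56513)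
theorem F258768 : act 8 n57679 = n57679 := d33_2 F253794 D57679 (iv D57679)
theorem F258769 : act 9 n57679 = n57005 := d34_2 (iv F253795) D57679 (iv D57005)
def n57680 : Q := act 2 n56510
theorem D57680 : act 2 n56510 = n57680 := rfl
theorem F258770 : act 7 n57680 = n56514 := d21_2 (iv F253797) D57680 (iv D56514)
def n57681 : Q := act 3 n56511
theorem D57681 : act 3 n56511 = n57681 := rfl
theorem F258771 : act 5 n57681 = n57012 := d25_2 (iv F253799) D57681 (iv D57012)
theorem F258772 : act 6 n57681 = n57034 := d26_2 (iv F253800) D57681 (iv D57034)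
theorem F258773 : act 8 n57681 = n56512 := d28_2 D56511 D57681 (iv D56512) (iv D55195) (iv F247706)
theorem F258774 : act 9 n57681 = n57019 := d29_2 (iv F253801) D57681 (iv D57019)
def n57682 : Q := act 2 n56512
theorem D57682 : act 2 n56512 = n57682 := rfl
theorem F258775 : act 3 n57682 = n56514 := d17_2 D56512 D57682 (iv D56514) (iv D55197) (iv F247710)
theorem F258776 : act 6 n57682 = n57036 := d20_2 (iv F253802) D57682 (iv D57036)
def n57683 : Q := act 4 n56512
theorem D57683 : act 4 n56512 = n57683 := rfl
theorem F258777 : act 3 n57683 = n56513 := d24_1 D57683 (iv D56513) (iv D55196) (iv F247711) D56512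
theorem F258778 : act 6 n57683 = n57037 := d31_2 (iv F253802) D57683 (iv D57037)
def n57684 : Q := act 1 n56514
theorem D57684 : act 1 n56514 = n57684 := rfl
theorem F258779 : act 2 n57684 = n56557 := d9_2 D56514 D57684 (iv D56557) (iv D55243) (iv F247716)
theorem F258780 : act 6 n57684 = n57039 := d13_2 (iv F253805) D57684 (iv D57039)
def n57685 : Q := act 8 n56515
theorem D57685 : act 8 n56515 = n57685 := rfl
theorem F258781 : act 0 n57685 = n56580 := d7_1 D57685 (iv D56580) (iv F253806)
theorem F258782 : act 1 n57685 = n57016 := d15_1 D57685 (iv D57016) (iv F253807)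
theorem F258783 : act 2 n57685 = n56883 := d22_1 D57685 (iv D56883) (iv F253808)
theorem F258784 : act 4 n57685 = n57685 := d33_1 D57685 (iv D57685) F253810
theorem F258785 : act 5 n57685 = n56516 := d37_1 D57685 (iv D56516) (iv F253811)
theorem F258786 : act 7 n57685 = n56520 := d42_1 D57685 (iv D56520) (iv F253812)
def n57686 : Q := act 3 n56516
theorem D57686 : act 3 n56516 = n57686 := rfl
theorem F258787 : act 0 n57686 = n56581 := d2_1 D57686 (iv D56581) (iv F253813)
theorem F258788 : act 1 n57686 = n57017 := d10_1 D57686 (iv D57017) (iv F253814)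
theorem F258789 : act 4 n57686 = n57024 := d24_2 (iv F253816) D57686 (iv D57024) F249994 (iv F247739)
theorem F258790 : act 6 n57686 = n57022 := d26_2 (iv F253817) D57686 (iv D57022)
theorem F258791 : act 7 n57686 = n56521 := d27_2 (iv F253818) D57686 (iv D56521)
theorem F258792 : act 8 n57686 = n56526 := d28_2 D56516 D57686 (iv D56526) (iv D55212) (iv F247732)
def n57687 : Q := act 8 n56517
theorem D57687 : act 8 n56517 = n57687 := rfl
theorem F258793 : act 0 n57687 = n56592 := d7_1 D57687 (iv D56592) (iv F253819)
theorem F258794 : act 1 n57687 = n56872 := d15_1 D57687 (iv D56872) (iv F253820)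
theorem F258795 : act 2 n57687 = n56520 := d22_1 D57687 (iv D56520) (iv F253821)
theorem F258796 : act 4 n57687 = n57687 := d33_1 D57687 (iv D57687) F253823
theorem F258797 : act 5 n57687 = n56518 := d37_1 D57687 (iv D56518) (iv F253824)
theorem F258798 : act 7 n57687 = n56883 := d42_1 D57687 (iv D56883) (iv F253825)
def n57688 : Q := act 3 n56518
theorem D57688 : act 3 n56518 = n57688 := rfl
theorem F258799 : act 0 n57688 = n56593 := d2_1 D57688 (iv D56593) (iv F253826)
theorem F258800 : act 1 n57688 = n56874 := d10_1 D57688 (iv D56874) (iv F253827)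
theorem F258801 : act 6 n57688 = n57044 := d26_2 (iv F253830) D57688 (iv D57044)
theorem F258802 : act 7 n57688 = n56885 := d27_2 (iv F253831) D57688 (iv D56885)
theorem F258803 : act 8 n57688 = n56869 := d28_2 D56518 D57688 (iv D56869) (iv D55591) (iv F247752)
def n57689 : Q := act 4 n56519
theorem D57689 : act 4 n56519 = n57689 := rfl
theorem F258804 : act 0 n57689 = n56594 := d3_1 D57689 (iv D56594) (iv F253832)
theorem F258805 : act 1 n57689 = n56918 := d11_1 D57689 (iv D56918) (iv F253833)
theorem F258806 : act 2 n57689 = n56954 := d18_1 D57689 (iv D56954) (iv F253834)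
theorem F258807 : act 6 n57689 = n57045 := d31_2 (iv F253836) D57689 (iv D57045)
theorem F258808 : act 7 n57689 = n56922 := d32_2 (iv F253837) D57689 (iv D56922)
theorem F258809 : act 8 n57689 = n56739 := d33_2 (iv F253838) D57689 (iv D56739)
def n57690 : Q := act 3 n56520
theorem D57690 : act 3 n56520 = n57690 := rfl
theorem F258810 : act 0 n57690 = n56596 := d2_1 D57690 (iv D56596) (iv F253839)
theorem F258811 : act 5 n57690 = n56521 := d25_2 (iv F253841) D57690 (iv D56521)
theorem F258812 : act 8 n57690 = n56527 := d28_2 D56520 D57690 (iv D56527) (iv D55213) (iv F247763)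
def n57691 : Q := act 2 n56521
theorem D57691 : act 2 n56521 = n57691 := rfl
theorem F258813 : act 0 n57691 = n56597 := d1_1 D57691 (iv D56597) (iv F253842)
theorem F258814 : act 4 n57691 = n57035 := d18_2 (iv F253843) D57691 (iv D57035)
theorem F258815 : act 6 n57691 = n57046 := d20_2 (iv F253844) D57691 (iv D57046)
theorem F258816 : act 8 n57691 = n56528 := d22_2 (iv F253845) D57691 (iv D56528)
def n57692 : Q := act 8 n56522
theorem D57692 : act 8 n56522 = n57692 := rfl
theorem F258817 : act 0 n57692 = n56600 := d7_1 D57692 (iv D56600) (iv F253846)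
theorem F258818 : act 1 n57692 = n57023 := d15_1 D57692 (iv D57023) (iv F253847)
theorem F258819 : act 2 n57692 = n56669 := d22_1 D57692 (iv D56669) (iv F253848)
theorem F258820 : act 4 n57692 = n57692 := d33_1 D57692 (iv D57692) F253850
theorem F258821 : act 5 n57692 = n56523 := d37_1 D57692 (iv D56523) (iv F253851)
theorem F258822 : act 7 n57692 = n57030 := d42_1 D57692 (iv D57030) (iv F253852)
theorem F258823 : act 9 n57692 = n56536 := d44_2 D56522 D57692 (iv D56536) (iv D55223) (iv F247775)
def n57693 : Q := act 3 n56523
theorem D57693 : act 3 n56523 = n57693 := rfl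
theorem F258824 : act 0 n57693 = n56601 := d2_1 D57693 (iv D56601) (iv F253853)
theorem F258825 : act 1 n57693 = n57024 := d10_1 D57693 (iv D57024) (iv F253854)
theorem F258826 : act 4 n57693 = n57017 := d24_2 (iv F253856) D57693 (iv D57017) F249972 (iv F247786)
theorem F258827 : act 6 n57693 = n56526 := d26_2 (iv F253857) D57693 (iv D56526)
theorem F258828 : act 7 n57693 = n57031 := d27_2 (iv F253858) D57693 (iv D57031)
theorem F258829 : act 8 n57693 = n57022 := d28_2 D56523 D57693 (iv D57022) (iv D55764) (iv F247779)
theorem F258830 : act 9 n57693 = n56537 := d29_2 (iv F253859) D57693 (iv D56537)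
def n57694 : Q := act 8 n56524
theorem D57694 : act 8 n56524 = n57694 := rfl
theorem F258831 : act 0 n57694 = n56607 := d7_1 D57694 (iv D56607) (iv F253860)
theorem F258832 : act 2 n57694 = n57121 := d22_1 D57694 F255895 (iv F253861)
theorem F258833 : act 4 n57694 = n56529 := d33_1 D57694 (iv D56529) (iv F253862)
theorem F258834 : act 6 n57694 = n56525 := d40_1 D57694 (iv D56525) (iv F253863)
theorem F258835 : act 9 n57694 = n56543 := d44_2 D56524 D57694 (iv D56543) (iv D55230) (iv F247794)
def n57695 : Q := act 3 n56525
theorem D57695 : act 3 n56525 = n57695 := rfl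
theorem F258836 : act 0 n57695 = n56608 := d2_1 D57695 (iv D56608) (iv F253864)
theorem F258837 : act 5 n57695 = n56526 := d25_2 (iv F253867) D57695 (iv D56526)
theorem F258838 : act 7 n57695 = n56527 := d27_2 (iv F253868) D57695 (iv D56527)
theorem F258839 : act 9 n57695 = n56544 := d29_2 (iv F253869) D57695 (iv D56544)
def n57696 : Q := act 2 n56526
theorem D57696 : act 2 n56526 = n57696 := rfl
theorem F258840 : act 0 n57696 = n56609 := d1_1 D57696 (iv D56609) (iv F253870)
theorem F258841 : act 3 n57696 = n57119 := d17_2 D56526 D57696 F255886 F250238 (iv F247801)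
theorem F258842 : act 4 n57696 = n57026 := d18_2 (iv F253871) D57696 (iv D57026)
theorem F258843 : act 7 n57696 = n56528 := d21_2 (iv F253872) D57696 (iv D56528)
theorem F258844 : act 9 n57696 = n56545 := d23_2 (iv F253873) D57696 (iv D56545)
def n57697 : Q := act 2 n56527
theorem D57697 : act 2 n56527 = n57697 := rfl
theorem F258845 : act 0 n57697 = n56621 := d1_1 D57697 (iv D56621) (iv F253874)
theorem F258846 : act 3 n57697 = n57147 := d17_2 D56527 D57697 F255936 F250285 (iv F247806)
theorem F258847 : act 5 n57697 = n56528 := d19_2 (iv F253875) D57697 (iv D56528)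
theorem F258848 : act 9 n57697 = n56555 := d23_2 (iv F253876) D57697 (iv D56555)
def n57698 : Q := act 4 n56527
theorem D57698 : act 4 n56527 = n57698 := rfl
theorem F258849 : act 0 n57698 = n56622 := d3_1 D57698 (iv D56622) (iv F253874)
theorem F258850 : act 3 n57698 = n56533 := d24_1 D57698 (iv D56533) (iv D55218) (iv F247807) D56527
theorem F258851 : act 5 n57698 = n57037 := d30_2 (iv F253875) D57698 (iv D57037) F250028 (iv F247811)
theorem F258852 : act 9 n57698 = n56556 := d34_2 (iv F253876) D57698 (iv D56556)
def n57699 : Q := act 1 n56528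
theorem D57699 : act 1 n56528 = n57699 := rfl
theorem F258853 : act 3 n57699 = n57146 := d10_2 (iv F253878) D57699 F255935
theorem F258854 : act 4 n57699 = n57038 := d11_2 (iv F253879) D57699 (iv D57038)
theorem F258855 : act 6 n57699 = n57048 := d13_2 (iv F253880) D57699 (iv D57048)
theorem F258856 : act 9 n57699 = n56557 := d16_2 (iv F253881) D57699 (iv D56557)
def n57700 : Q := act 3 n56529
theorem D57700 : act 3 n56529 = n57700 := rfl
theorem F258857 : act 0 n57700 = n56627 := d2_1 D57700 (iv D56627) (iv F253882)
theorem F258858 : act 5 n57700 = n57700 := d25_2 F253884 D57700 (iv D57700)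
theorem F258859 : act 6 n57700 = n56530 := d26_2 (iv F253885) D57700 (iv D56530)
theorem F258860 : act 8 n57700 = n57700 := d28_2 D56529 D57700 (iv D57700) (iv D56529) F247816
theorem F258861 : act 9 n57700 = n56561 := d29_2 (iv F253886) D57700 (iv D56561)
def n57701 : Q := act 2 n56530
theorem D57701 : act 2 n56530 = n57701 := rfl
theorem F258862 : act 0 n57701 = n56628 := d1_1 D57701 (iv D56628) (iv F253887)
theorem F258863 : act 3 n57701 = n56814 := d17_2 D56530 D57701 F255075 F250303 (iv F247820)
theorem F258864 : act 5 n57701 = n56531 := d19_2 (iv F253888) D57701 (iv D56531)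
theorem F258865 : act 7 n57701 = n56532 := d21_2 (iv F253889) D57701 (iv D56532)
theorem F258866 : act 8 n57701 = n57701 := d22_2 F253890 D57701 (iv D57701)
theorem F258867 : act 9 n57701 = n56562 := d23_2 (iv F253891) D57701 (iv D56562)
def n57702 : Q := act 4 n56530
theorem D57702 : act 4 n56530 = n57702 := rfl
theorem F258868 : act 0 n57702 = n56629 := d3_1 D57702 (iv D56629) (iv F253887)
theorem F258869 : act 5 n57702 = n57042 := d30_2 (iv F253888) D57702 (iv D57042) F250040 (iv F247825)
theorem F258870 : act 7 n57702 = n56533 := d32_2 (iv F253889) D57702 (iv D56533)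
theorem F258871 : act 8 n57702 = n57702 := d33_2 F253890 D57702 (iv D57702)
theorem F258872 : act 9 n57702 = n56563 := d34_2 (iv F253891) D57702 (iv D56563)
def n57703 : Q := act 4 n56532
theorem D57703 : act 4 n56532 = n57703 := rfl
theorem F258873 : act 0 n57703 = n56637 := d3_1 D57703 (iv D56637) (iv F253899)
theorem F258874 : act 2 n57703 = n56533 := d18_1 D57703 (iv D56533) D56532
theorem F258875 : act 5 n57703 = n56816 := d30_2 (iv F253901) D57703 (iv D56816) F249248 (iv F247836)
theorem F258876 : act 8 n57703 = n57703 := d33_2 F253902 D57703 (iv D57703)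
theorem F258877 : act 9 n57703 = n56566 := d34_2 (iv F253903) D57703 (iv D56566)
def n57704 : Q := act 8 n56534
theorem D57704 : act 8 n56534 = n57704 := rfl
theorem F258878 : act 0 n57704 = n56642 := d7_1 D57704 (iv D56642) (iv F253908)
theorem F258879 : act 1 n57704 = n56678 := d15_1 D57704 (iv D56678) (iv F253909)
theorem F258880 : act 2 n57704 = n56536 := d22_1 D57704 (iv D56536) (iv F253910)
theorem F258881 : act 4 n57704 = n57704 := d33_1 D57704 (iv D57704) F253912
theorem F258882 : act 5 n57704 = n56535 := d37_1 D57704 (iv D56535) (iv F253913)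
theorem F258883 : act 7 n57704 = n56890 := d42_1 D57704 (iv D56890) (iv F253914)
theorem F258884 : act 9 n57704 = n56669 := d44_2 D56534 D57704 (iv D56669) (iv D55367) (iv F247846)
def n57705 : Q := act 3 n56535
theorem D57705 : act 3 n56535 = n57705 := rfl
theorem F258885 : act 0 n57705 = n56643 := d2_1 D57705 (iv D56643) (iv F253915)
theorem F258886 : act 1 n57705 = n56680 := d10_1 D57705 (iv D56680) (iv F253916)
theorem F258887 : act 4 n57705 = n57074 := d24_2 (iv F253918) D57705 (iv D57074) F250115 (iv F247856)
theorem F258888 : act 6 n57705 = n56542 := d26_2 (iv F253919) D57705 (iv D56542)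
theorem F258889 : act 7 n57705 = n57049 := d27_2 (iv F253920) D57705 (iv D57049)
theorem F258890 : act 9 n57705 = n56670 := d29_2 (iv F253921) D57705 (iv D56670)
def n57706 : Q := act 3 n56536
theorem D57706 : act 3 n56536 = n57706 := rfl
theorem F258891 : act 0 n57706 = n56646 := d2_1 D57706 (iv D56646) (iv F253922)
theorem F258892 : act 5 n57706 = n56537 := d25_2 (iv F253924) D57706 (iv D56537)
theorem F258893 : act 7 n57706 = n57050 := d27_2 (iv F253925) D57706 (iv D57050)
def n57707 : Q := act 2 n56537
theorem D57707 : act 2 n56537 = n57707 := rfl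
theorem F258894 : act 0 n57707 = n56647 := d1_1 D57707 (iv D56647) (iv F253926)
theorem F258895 : act 6 n57707 = n56545 := d20_2 (iv F253927) D57707 (iv D56545)
theorem F258896 : act 7 n57707 = n57051 := d21_2 (iv F253928) D57707 (iv D57051)
def n57708 : Q := act 8 n56538
theorem D57708 : act 8 n56538 = n57708 := rfl
theorem F258897 : act 0 n57708 = n56654 := d7_1 D57708 (iv D56654) (iv F253929)
theorem F258898 : act 1 n57708 = n57089 := d15_1 D57708 (iv D57089) (iv F253930)
theorem F258899 : act 4 n57708 = n57708 := d33_1 D57708 (iv D57708) F253932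
theorem F258900 : act 5 n57708 = n56539 := d37_1 D57708 (iv D56539) (iv F253933)
theorem F258901 : act 7 n57708 = n56550 := d42_1 D57708 (iv D56550) (iv F253934)
theorem F258902 : act 9 n57708 = n57083 := d44_2 D56538 D57708 (iv D57083) (iv D55825) (iv F247874)
def n57709 : Q := act 3 n56539
theorem D57709 : act 3 n56539 = n57709 := rfl
theorem F258903 : act 0 n57709 = n56656 := d2_1 D57709 (iv D56656) (iv F253935)
theorem F258904 : act 1 n57709 = n57091 := d10_1 D57709 (iv D57091) (iv F253936)
theorem F258905 : act 4 n57709 = n57078 := d24_2 (iv F253937) D57709 (iv D57078) F250127 (iv F248018)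
theorem F258906 : act 7 n57709 = n56552 := d27_2 (iv F253938) D57709 (iv D56552)
theorem F258907 : act 8 n57709 = n56542 := d28_2 D56539 D57709 (iv D56542) (iv D55229) (iv F247877)
theorem F258908 : act 9 n57709 = n57084 := d29_2 (iv F253939) D57709 (iv D57084)
def n57710 : Q := act 8 n56540
theorem D57710 : act 8 n56540 = n57710 := rfl
theorem F258909 : act 0 n57710 = n56658 := d7_1 D57710 (iv D56658) (iv F253940)
theorem F258910 : act 1 n57710 = n57132 := d15_1 D57710 (iv D57132) (iv F253941)
theorem F258911 : act 2 n57710 = n56543 := d22_1 D57710 (iv D56543) (iv F253942)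
theorem F258912 : act 4 n57710 = n56558 := d33_1 D57710 (iv D56558) (iv F253943)
theorem F258913 : act 6 n57710 = n56541 := d40_1 D57710 (iv D56541) (iv F253944)
theorem F258914 : act 9 n57710 = n57121 := d44_2 D56540 D57710 F255895 (iv D55868) (iv F247884)
def n57711 : Q := act 3 n56541
theorem D57711 : act 3 n56541 = n57711 := rfl
theorem F258915 : act 0 n57711 = n56659 := d2_1 D57711 (iv D56659) (iv F253945)
theorem F258916 : act 1 n57711 = n57134 := d10_1 D57711 (iv D57134) (iv F253946)
theorem F258917 : act 5 n57711 = n56542 := d25_2 (iv F253949) D57711 (iv D56542)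
theorem F258918 : act 7 n57711 = n56553 := d27_2 (iv F253950) D57711 (iv D56553)
theorem F258919 : act 9 n57711 = n57120 := d29_2 (iv F253951) D57711 F255890
def n57712 : Q := act 2 n56542
theorem D57712 : act 2 n56542 = n57712 := rfl
theorem F258920 : act 0 n57712 = n56660 := d1_1 D57712 (iv D56660) (iv F253952)
theorem F258921 : act 3 n57712 = n56545 := d17_2 D56542 D57712 (iv D56545) (iv D55232) (iv F247893)
theorem F258922 : act 4 n57712 = n57079 := d18_2 (iv F253954) D57712 (iv D57079)
theorem F258923 : act 7 n57712 = n56554 := d21_2 (iv F253955) D57712 (iv D56554)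
theorem F258924 : act 9 n57712 = n57119 := d23_2 (iv F253956) D57712 F255886
def n57713 : Q := act 3 n56543
theorem D57713 : act 3 n56543 = n57713 := rfl
theorem F258925 : act 0 n57713 = n56663 := d2_1 D57713 (iv D56663) (iv F253957)
theorem F258926 : act 6 n57713 = n56544 := d26_2 (iv F253959) D57713 (iv D56544)
def n57714 : Q := act 2 n56544
theorem D57714 : act 2 n56544 = n57714 := rfl
theorem F258927 : act 0 n57714 = n56664 := d1_1 D57714 (iv D56664) (iv F253960)
theorem F258928 : act 5 n57714 = n56545 := d19_2 (iv F253961) D57714 (iv D56545)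
theorem F258929 : act 7 n57714 = n56555 := d21_2 (iv F253962) D57714 (iv D56555)
def n57715 : Q := act 4 n56544
theorem D57715 : act 4 n56544 = n57715 := rfl
theorem F258930 : act 0 n57715 = n56665 := d3_1 D57715 (iv D56665) (iv F253960)
theorem F258931 : act 3 n57715 = n56563 := d24_1 D57715 (iv D56563) (iv D55248) (iv F247901) D56544
theorem F258932 : act 7 n57715 = n56556 := d32_2 (iv F253962) D57715 (iv D56556)
def n57716 : Q := act 1 n56545
theorem D57716 : act 1 n56545 = n57716 := rfl
theorem F258933 : act 7 n57716 = n56557 := d14_2 (iv F253964) D57716 (iv D56557)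
def n57717 : Q := act 8 n56546
theorem D57717 : act 8 n56546 = n57717 := rfl
theorem F258934 : act 1 n57717 = n56658 := d15_1 D57717 (iv D56658) (iv F253965)
theorem F258935 : act 2 n57717 = n56547 := d22_1 D57717 (iv D56547) (iv F253966)
theorem F258936 : act 4 n57717 = n56572 := d33_1 D57717 (iv D56572) (iv F253968)
theorem F258937 : act 5 n57717 = n56855 := d37_1 D57717 (iv D56855) (iv F253969)
theorem F258938 : act 6 n57717 = n56650 := d40_1 D57717 (iv D56650) (iv F253970)
theorem F258939 : act 7 n57717 = n57068 := d42_1 D57717 (iv D57068) (iv F253971)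
theorem F258940 : act 9 n57717 = n56854 := d44_2 D56546 D57717 (iv D56854) (iv D55574) (iv F247912)
def n57718 : Q := act 3 n56547
theorem D57718 : act 3 n56547 = n57718 := rfl
theorem F258941 : act 1 n57718 = n56552 := d10_1 D57718 (iv D56552) (iv F253972)
theorem F258942 : act 4 n57718 = n57084 := d24_2 (iv F253973) D57718 (iv D57084) F250143 (iv F248035)
theorem F258943 : act 6 n57718 = n57056 := d26_2 (iv F253974) D57718 (iv D57056)
theorem F258944 : act 7 n57718 = n57091 := d27_2 (iv F253975) D57718 (iv D57091)
theorem F258945 : act 8 n57718 = n56548 := d28_2 D56547 D57718 (iv D56548) (iv D55235) (iv F247914)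
theorem F258946 : act 9 n57718 = n57078 := d29_2 (iv F253976) D57718 (iv D57078)
def n57719 : Q := act 2 n56548
theorem D57719 : act 2 n56548 = n57719 := rfl
theorem F258947 : act 4 n57719 = n57086 := d18_2 (iv F253978) D57719 (iv D57086)
theorem F258948 : act 6 n57719 = n57057 := d20_2 (iv F253979) D57719 (iv D57057)
theorem F258949 : act 7 n57719 = n57137 := d21_2 (iv F253980) D57719 (iv D57137)
theorem F258950 : act 9 n57719 = n57115 := d23_2 (iv F253981) D57719 (iv D57115)
def n57720 : Q := act 8 n56549
theorem D57720 : act 8 n56549 = n57720 := rfl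
theorem F258951 : act 0 n57720 = n56678 := d7_1 D57720 (iv D56678) (iv F253982)
theorem F258952 : act 1 n57720 = n56834 := d15_1 D57720 (iv D56834) (iv F253983)
theorem F258953 : act 4 n57720 = n57720 := d33_1 D57720 (iv D57720) F253985
theorem F258954 : act 5 n57720 = n56551 := d37_1 D57720 (iv D56551) (iv F253986)
theorem F258955 : act 7 n57720 = n57083 := d42_1 D57720 (iv D57083) (iv F253987)
theorem F258956 : act 9 n57720 = n56550 := d44_2 D56549 D57720 (iv D56550) (iv D55237) D55236
def n57721 : Q := act 3 n56550
theorem D57721 : act 3 n56550 = n57721 := rfl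
theorem F258957 : act 0 n57721 = n56679 := d2_1 D57721 (iv D56679) (iv F253988)
theorem F258958 : act 5 n57721 = n56552 := d25_2 (iv F253990) D57721 (iv D56552)
theorem F258959 : act 8 n57721 = n56553 := d28_2 D56550 D57721 (iv D56553) (iv D55240) (iv F247930)
def n57722 : Q := act 3 n56551
theorem D57722 : act 3 n56551 = n57722 := rfl
theorem F258960 : act 0 n57722 = n56680 := d2_1 D57722 (iv D56680) (iv F253991)
theorem F258961 : act 1 n57722 = n57078 := d10_1 D57722 (iv D57078) (iv F253992)
theorem F258962 : act 4 n57722 = n57091 := d24_2 (iv F253993) D57722 (iv D57091) F250161 (iv F248042)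
theorem F258963 : act 6 n57722 = n57058 := d26_2 (iv F253994) D57722 (iv D57058)
theorem F258964 : act 7 n57722 = n57084 := d27_2 (iv F253995) D57722 (iv D57084)
theorem F258965 : act 8 n57722 = n57077 := d28_2 D56551 D57722 (iv D57077) (iv D55819) (iv F247935)
theorem F258966 : act 9 n57722 = n56552 := d29_2 (iv F253996) D57722 (iv D56552)
def n57723 : Q := act 2 n56552
theorem D57723 : act 2 n56552 = n57723 := rfl
theorem F258967 : act 0 n57723 = n56681 := d1_1 D57723 (iv D56681) (iv F253997)
theorem F258968 : act 4 n57723 = n57092 := d18_2 (iv F253998) D57723 (iv D57092)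
theorem F258969 : act 6 n57723 = n57059 := d20_2 (iv F253999) D57723 (iv D57059)
theorem F258970 : act 8 n57723 = n56554 := d22_2 (iv F254000) D57723 (iv D56554)
def n57724 : Q := act 2 n56553
theorem D57724 : act 2 n56553 = n57724 := rfl
theorem F258971 : act 0 n57724 = n56685 := d1_1 D57724 (iv D56685) (iv F254001)
theorem F258972 : act 3 n57724 = n56555 := d17_2 D56553 D57724 (iv D56555) (iv D55242) (iv F247943)
theorem F258973 : act 5 n57724 = n56554 := d19_2 (iv F254002) D57724 (iv D56554)
theorem F258974 : act 9 n57724 = n57147 := d23_2 (iv F254003) D57724 F255936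
def n57725 : Q := act 4 n56553
theorem D57725 : act 4 n56553 = n57725 := rfl
theorem F258975 : act 0 n57725 = n56686 := d3_1 D57725 (iv D56686) (iv F254001)
theorem F258976 : act 3 n57725 = n56565 := d24_1 D57725 (iv D56565) (iv D55250) (iv F247944) D56553
theorem F258977 : act 5 n57725 = n57096 := d30_2 (iv F254002) D57725 (iv D57096) F250171 (iv F247948)
theorem F258978 : act 9 n57725 = n57144 := d34_2 (iv F254003) D57725 F255933
def n57726 : Q := act 1 n56554
theorem D57726 : act 1 n56554 = n57726 := rfl
theorem F258979 : act 3 n57726 = n56557 := d10_2 (iv F254005) D57726 (iv D56557)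
theorem F258980 : act 4 n57726 = n57097 := d11_2 (iv F254006) D57726 (iv D57097)
theorem F258981 : act 6 n57726 = n57060 := d13_2 (iv F254007) D57726 (iv D57060)
theorem F258982 : act 9 n57726 = n57146 := d16_2 (iv F254008) D57726 F255935
def n57727 : Q := act 1 n56555
theorem D57727 : act 1 n56555 = n57727 := rfl
theorem F258983 : act 5 n57727 = n56557 := d12_2 (iv F254010) D57727 (iv D56557)
def n57728 : Q := act 4 n56555
theorem D57728 : act 4 n56555 = n57728 := rfl
theorem F258984 : act 0 n57728 = n56694 := d3_1 D57728 (iv D56694) (iv F254009)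
theorem F258985 : act 2 n57728 = n56556 := d18_1 D57728 (iv D56556) D56555
def n57729 : Q := act 0 n56557
theorem D57729 : act 0 n56557 = n57729 := rfl
theorem F258986 : act 1 n57729 = n56695 := d0_2 D56557 D57729 (iv D56695) (iv D55390) (iv F247953)
theorem F258987 : act 6 n57729 = n57061 := d5_2 (iv F254013) D57729 (iv D57061)
def n57730 : Q := act 3 n56558
theorem D57730 : act 3 n56558 = n57730 := rfl
theorem F258988 : act 0 n57730 = n56698 := d2_1 D57730 (iv D56698) (iv F254014)
theorem F258989 : act 1 n57730 = n57167 := d10_1 D57730 (iv D57167) (iv F254015)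
theorem F258990 : act 5 n57730 = n57730 := d25_2 F254017 D57730 (iv D57730)
theorem F258991 : act 6 n57730 = n56559 := d26_2 (iv F254018) D57730 (iv D56559)
theorem F258992 : act 8 n57730 = n57730 := d28_2 D56558 D57730 (iv D57730) (iv D56558) F247958
theorem F258993 : act 9 n57730 = n57154 := d29_2 (iv F254019) D57730 F255952
def n57731 : Q := act 2 n56559
theorem D57731 : act 2 n56559 = n57731 := rfl
theorem F258994 : act 0 n57731 = n56699 := d1_1 D57731 (iv D56699) (iv F254020)
theorem F258995 : act 3 n57731 = n56562 := d17_2 D56559 D57731 (iv D56562) (iv D55248) (iv F247963)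
theorem F258996 : act 5 n57731 = n56560 := d19_2 (iv F254022) D57731 (iv D56560)
theorem F258997 : act 7 n57731 = n56564 := d21_2 (iv F254023) D57731 (iv D56564)
theorem F258998 : act 8 n57731 = n57731 := d22_2 F254024 D57731 (iv D57731)
theorem F258999 : act 9 n57731 = n56814 := d23_2 (iv F254025) D57731 F255075
def n57732 : Q := act 4 n56559
theorem D57732 : act 4 n56559 = n57732 := rfl
theorem F259000 : act 0 n57732 = n56700 := d3_1 D57732 (iv D56700) (iv F254020)
theorem F259001 : act 1 n57732 = n57169 := d11_1 D57732 (iv D57169) (iv F254021)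
theorem F259002 : act 5 n57732 = n56836 := d30_2 (iv F254022) D57732 (iv D56836) F249351 (iv F247969)
theorem F259003 : act 7 n57732 = n56565 := d32_2 (iv F254023) D57732 (iv D56565)
theorem F259004 : act 8 n57732 = n57732 := d33_2 F254024 D57732 (iv D57732)
theorem F259005 : act 9 n57732 = n57153 := d34_2 (iv F254025) D57732 F255948
def n57733 : Q := act 2 n56561
theorem D57733 : act 2 n56561 = n57733 := rfl
theorem F259006 : act 0 n57733 = n56702 := d1_1 D57733 (iv D56702) (iv F254033)
theorem F259007 : act 5 n57733 = n57733 := d19_2 F254034 D57733 (iv D57733)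
theorem F259008 : act 6 n57733 = n56562 := d20_2 (iv F254035) D57733 (iv D56562)
theorem F259009 : act 8 n57733 = n56567 := d22_2 (iv F254036) D57733 (iv D56567)
def n57734 : Q := act 4 n56561
theorem D57734 : act 4 n56561 = n57734 := rfl
theorem F259010 : act 0 n57734 = n56703 := d3_1 D57734 (iv D56703) (iv F254033)
theorem F259011 : act 6 n57734 = n56563 := d31_2 (iv F254035) D57734 (iv D56563)
theorem F259012 : act 8 n57734 = n56568 := d33_2 (iv F254036) D57734 (iv D56568)
def n57735 : Q := act 4 n56562
theorem D57735 : act 4 n56562 = n57735 := rfl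
theorem F259013 : act 0 n57735 = n56705 := d3_1 D57735 (iv D56705) (iv F254037)
theorem F259014 : act 2 n57735 = n56563 := d18_1 D57735 (iv D56563) D56562
theorem F259015 : act 5 n57735 = n57045 := d30_2 (iv F254038) D57735 (iv D57045) F250051 (iv F247982)
theorem F259016 : act 7 n57735 = n56566 := d32_2 (iv F254039) D57735 (iv D56566)
theorem F259017 : act 8 n57735 = n56569 := d33_2 (iv F254040) D57735 (iv D56569)
def n57736 : Q := act 4 n56564
theorem D57736 : act 4 n56564 = n57736 := rfl
theorem F259018 : act 0 n57736 = n56711 := d3_1 D57736 (iv D56711) (iv F254044)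
theorem F259019 : act 2 n57736 = n56565 := d18_1 D57736 (iv D56565) D56564
theorem F259020 : act 5 n57736 = n56784 := d30_2 (iv F254046) D57736 (iv D56784) F249107 (iv F247992)
theorem F259021 : act 8 n57736 = n57736 := d33_2 F254047 D57736 (iv D57736)
theorem F259022 : act 9 n57736 = n56809 := d34_2 (iv F254048) D57736 F255056
def n57737 : Q := act 3 n56566
theorem D57737 : act 3 n56566 = n57737 := rfl
theorem F259023 : act 0 n57737 = n56718 := d2_1 D57737 (iv D56718) (iv F254053)
def n57738 : Q := act 4 n56567
theorem D57738 : act 4 n56567 = n57738 := rfl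
theorem F259024 : act 0 n57738 = n56724 := d3_1 D57738 (iv D56724) (iv F254056)
theorem F259025 : act 2 n57738 = n56568 := d18_1 D57738 (iv D56568) D56567
theorem F259026 : act 6 n57738 = n56569 := d31_2 (iv F254059) D57738 (iv D56569)
theorem F259027 : act 9 n57738 = n57738 := d34_2 F254060 D57738 (iv D57738)
def n57739 : Q := act 5 n56568
theorem D57739 : act 5 n56568 = n57739 := rfl
theorem F259028 : act 0 n57739 = n56725 := d4_1 D57739 (iv D56725) (iv F254061)
theorem F259029 : act 3 n57739 = n56956 := d25_1 D57739 (iv F256211) F256210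
theorem F259030 : act 4 n57739 = n57739 := d30_1 D57739 (iv D57739) (iv D56568) F248002 D56568
theorem F259031 : act 6 n57739 = n56955 := d35_2 (iv F254062) D57739 (iv D56955) (iv F252755) F252754
theorem F259032 : act 9 n57739 = n57739 := d38_2 F254063 D57739 (iv D57739)
def n57740 : Q := act 8 n56570
theorem D57740 : act 8 n56570 = n57740 := rfl
theorem F259033 : act 0 n57740 = n56733 := d7_1 D57740 (iv D56733) (iv F254069)
theorem F259034 : act 4 n57740 = n57740 := d33_1 D57740 (iv D57740) F254070
def n57741 : Q := act 3 n56572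
theorem D57741 : act 3 n56572 = n57741 := rfl
theorem F259035 : act 1 n57741 = n56698 := d10_1 D57741 (iv D56698) (iv F254079)
theorem F259036 : act 2 n57741 = n57165 := d17_1 D57741 (iv D57165) F250368 (iv F248035) (iv F254080)
theorem F259037 : act 5 n57741 = n57741 := d25_2 F254081 D57741 (iv D57741)
theorem F259038 : act 6 n57741 = n56696 := d26_2 (iv F254082) D57741 (iv D56696)
theorem F259039 : act 7 n57741 = n57163 := d27_2 (iv F254083) D57741 (iv D57163)
theorem F259040 : act 8 n57741 = n57741 := d28_2 D56572 D57741 (iv D57741) (iv D56572) F248030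
theorem F259041 : act 9 n57741 = n57158 := d29_2 (iv F254084) D57741 (iv D57158)
def n57742 : Q := act 3 n56573
theorem D57742 : act 3 n56573 = n57742 := rfl
theorem F259042 : act 0 n57742 = n57022 := d2_1 D57742 (iv D57022) (iv F254085)
theorem F259043 : act 1 n57742 = n57098 := d10_1 D57742 (iv D57098) (iv F254086)
theorem F259044 : act 6 n57742 = n56581 := d26_2 (iv F254088) D57742 (iv D56581)
theorem F259045 : act 7 n57742 = n56860 := d27_2 (iv F254089) D57742 (iv D56860)
theorem F259046 : act 8 n57742 = n56601 := d28_2 D56573 D57742 (iv D56601) (iv D55293) (iv F248049)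
theorem F259047 : act 9 n57742 = n56903 := d29_2 (iv F254090) D57742 (iv D56903)
def n57743 : Q := act 8 n56574
theorem D57743 : act 8 n56574 = n57743 := rfl
theorem F259048 : act 0 n57743 = n56801 := d7_1 D57743 (iv D56801) (iv F254091)
theorem F259049 : act 1 n57743 = n56577 := d15_1 D57743 (iv D56577) (iv F254092)
theorem F259050 : act 4 n57743 = n56575 := d33_1 D57743 (iv D56575) (iv F254094)
theorem F259051 : act 5 n57743 = n57088 := d37_1 D57743 (iv D57088) (iv F254095)
theorem F259052 : act 6 n57743 = n56613 := d40_1 D57743 (iv D56613) (iv F254096)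
theorem F259053 : act 7 n57743 = n56586 := d42_1 D57743 (iv D56586) (iv F254097)
def n57744 : Q := act 8 n56576
theorem D57744 : act 8 n56576 = n57744 := rfl
theorem F259054 : act 0 n57744 = n56883 := d7_1 D57744 (iv D56883) (iv F254103)
theorem F259055 : act 1 n57744 = n57088 := d15_1 D57744 (iv D57088) (iv F254104)
theorem F259056 : act 2 n57744 = n56580 := d22_1 D57744 (iv D56580) (iv F254105)
theorem F259057 : act 4 n57744 = n57744 := d33_1 D57744 (iv D57744) F254107
theorem F259058 : act 5 n57744 = n56577 := d37_1 D57744 (iv D56577) (iv F254108)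
theorem F259059 : act 6 n57744 = n57083 := d40_1 D57744 (iv D57083) (iv F254109)
theorem F259060 : act 7 n57744 = n56592 := d42_1 D57744 (iv D56592) (iv F254110)
def n57745 : Q := act 3 n56577
theorem D57745 : act 3 n56577 = n57745 := rfl
theorem F259061 : act 0 n57745 = n56885 := d2_1 D57745 (iv D56885) (iv F254111)
theorem F259062 : act 7 n57745 = n56593 := d27_2 (iv F254114) D57745 (iv D56593)
theorem F259063 : act 8 n57745 = n56882 := d28_2 D56577 D57745 (iv D56882) (iv D55603) (iv F248080)
def n57746 : Q := act 8 n56579
theorem D57746 : act 8 n56579 = n57746 := rfl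
theorem F259064 : act 2 n57746 = n57083 := d22_1 D57746 (iv D57083) (iv F254119)
theorem F259065 : act 4 n57746 = n57746 := d33_1 D57746 (iv D57746) F254121
theorem F259066 : act 5 n57746 = n57082 := d37_1 D57746 (iv D57082) (iv F254122)
theorem F259067 : act 6 n57746 = n56580 := d40_1 D57746 (iv D56580) (iv F254123)
def n57747 : Q := act 3 n56580
theorem D57747 : act 3 n56580 = n57747 := rfl
theorem F259068 : act 5 n57747 = n56581 := d25_2 (iv F254125) D57747 (iv D56581)
theorem F259069 : act 7 n57747 = n56596 := d27_2 (iv F254126) D57747 (iv D56596)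
theorem F259070 : act 8 n57747 = n56608 := d28_2 D56580 D57747 (iv D56608) (iv D55301) (iv F248091)
def n57748 : Q := act 2 n56581
theorem D57748 : act 2 n56581 = n57748 := rfl
theorem F259071 : act 7 n57748 = n56597 := d21_2 (iv F254127) D57748 (iv D56597)
theorem F259072 : act 8 n57748 = n56609 := d22_2 (iv F254128) D57748 (iv D56609)
def n57749 : Q := act 8 n56582
theorem D57749 : act 8 n56582 = n57749 := rfl
theorem F259073 : act 0 n57749 = n56586 := d7_1 D57749 (iv D56586) (iv F254129)
theorem F259074 : act 1 n57749 = n56795 := d15_1 D57749 (iv D56795) (iv F254130)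
theorem F259075 : act 4 n57749 = n56583 := d33_1 D57749 (iv D56583) (iv F254132)
theorem F259076 : act 6 n57749 = n57062 := d40_1 D57749 (iv D57062) (iv F254133)
theorem F259077 : act 7 n57749 = n56801 := d42_1 D57749 (iv D56801) (iv F254134)
def n57750 : Q := act 3 n56583
theorem D57750 : act 3 n56583 = n57750 := rfl
theorem F259078 : act 0 n57750 = n56587 := d2_1 D57750 (iv D56587) (iv F254135)
theorem F259079 : act 1 n57750 = n56820 := d10_1 D57750 (iv D56820) (iv F254136)
theorem F259080 : act 5 n57750 = n57750 := d25_2 F254137 D57750 (iv D57750)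
theorem F259081 : act 6 n57750 = n57063 := d26_2 (iv F254138) D57750 (iv D57063)
theorem F259082 : act 7 n57750 = n56823 := d27_2 (iv F254139) D57750 (iv D56823)
theorem F259083 : act 8 n57750 = n56740 := d28_2 D56583 D57750 (iv D56740) (iv D55442) (iv F248104)
def n57751 : Q := act 8 n56584
theorem D57751 : act 8 n56584 = n57751 := rfl
theorem F259084 : act 0 n57751 = n56792 := d7_1 D57751 (iv D56792) (iv F254140)
theorem F259085 : act 1 n57751 = n56590 := d15_1 D57751 (iv D56590) (iv F254141)
theorem F259086 : act 2 n57751 = n56619 := d22_1 D57751 (iv D56619) (iv F254142)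
theorem F259087 : act 4 n57751 = n56631 := d33_1 D57751 (iv D56631) (iv F254144)
theorem F259088 : act 5 n57751 = n57093 := d37_1 D57751 (iv D57093) (iv F254145)
theorem F259089 : act 6 n57751 = n57064 := d40_1 D57751 (iv D57064) (iv F254146)
theorem F259090 : act 7 n57751 = n56616 := d42_1 D57751 (iv D56616) (iv F254147)
theorem F259091 : act 9 n57751 = n56683 := d44_2 D56584 D57751 (iv D56683) (iv D55380) F248115
def n57752 : Q := act 8 n56585
theorem D57752 : act 8 n56585 = n57752 := rfl
theorem F259092 : act 1 n57752 = n56592 := d15_1 D57752 (iv D56592) (iv F254148)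
theorem F259093 : act 4 n57752 = n57752 := d33_1 D57752 (iv D57752) F254150
theorem F259094 : act 5 n57752 = n56586 := d37_1 D57752 (iv D56586) (iv F254151)
theorem F259095 : act 7 n57752 = n57088 := d42_1 D57752 (iv D57088) (iv F254152)
def n57753 : Q := act 3 n56586
theorem D57753 : act 3 n56586 = n57753 := rfl
theorem F259096 : act 1 n57753 = n56593 := d10_1 D57753 (iv D56593) (iv F254153)
theorem F259097 : act 6 n57753 = n57065 := d26_2 (iv F254155) D57753 (iv D57065)
def n57754 : Q := act 2 n56587
theorem D57754 : act 2 n56587 = n57754 := rfl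
theorem F259098 : act 5 n57754 = n57754 := d19_2 F254157 D57754 (iv D57754)
theorem F259099 : act 6 n57754 = n57066 := d20_2 (iv F254158) D57754 (iv D57066)
theorem F259100 : act 8 n57754 = n56741 := d22_2 (iv F254159) D57754 (iv D56741)
def n57755 : Q := act 4 n56587
theorem D57755 : act 4 n56587 = n57755 := rfl
theorem F259101 : act 1 n57755 = n56594 := d11_1 D57755 (iv D56594) (iv F254156)
theorem F259102 : act 6 n57755 = n57067 := d31_2 (iv F254158) D57755 (iv D57067)
theorem F259103 : act 8 n57755 = n56742 := d33_2 (iv F254159) D57755 (iv D56742)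
def n57756 : Q := act 8 n56588
theorem D57756 : act 8 n56588 = n57756 := rfl
theorem F259104 : act 0 n57756 = n56868 := d7_1 D57756 (iv D56868) (iv F254160)
theorem F259105 : act 1 n57756 = n57093 := d15_1 D57756 (iv D57093) (iv F254161)
theorem F259106 : act 2 n57756 = n56613 := d22_1 D57756 (iv D56613) (iv F254162)
theorem F259107 : act 4 n57756 = n56907 := d33_1 D57756 (iv D56907) (iv F254164)
theorem F259108 : act 5 n57756 = n56590 := d37_1 D57756 (iv D56590) (iv F254165)
theorem F259109 : act 7 n57756 = n56881 := d42_1 D57756 (iv D56881) (iv F254166)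
theorem F259110 : act 9 n57756 = n57062 := d44_2 D56588 D57756 (iv D57062) (iv D55805) F248132
def n57757 : Q := act 8 n56589
theorem D57757 : act 8 n56589 = n57757 := rfl
theorem F259111 : act 0 n57757 = n56843 := d7_1 D57757 (iv D56843) (iv F254167)
theorem F259112 : act 1 n57757 = n56683 := d15_1 D57757 (iv D56683) (iv F254168)
theorem F259113 : act 2 n57757 = n56614 := d22_1 D57757 (iv D56614) (iv F254169)
theorem F259114 : act 4 n57757 = n56707 := d33_1 D57757 (iv D56707) (iv F254170)
theorem F259115 : act 5 n57757 = n57062 := d37_1 D57757 (iv D57062) (iv F254171)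
theorem F259116 : act 6 n57757 = n57068 := d40_1 D57757 (iv D57068) (iv F254172)
theorem F259117 : act 7 n57757 = n56671 := d42_1 D57757 (iv D56671) (iv F254173)
theorem F259118 : act 9 n57757 = n56590 := d44_2 D56589 D57757 (iv D56590) (iv D55281) D55280
def n57758 : Q := act 3 n56590
theorem D57758 : act 3 n56590 = n57758 := rfl
theorem F259119 : act 0 n57758 = n56869 := d2_1 D57758 (iv D56869) (iv F254174)
theorem F259120 : act 6 n57758 = n57069 := d26_2 (iv F254177) D57758 (iv D57069)
theorem F259121 : act 7 n57758 = n56882 := d27_2 (iv F254178) D57758 (iv D56882)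
theorem F259122 : act 8 n57758 = n56593 := d28_2 D56590 D57758 (iv D56593) (iv D55284) (iv F248142)
def n57759 : Q := act 8 n56591
theorem D57759 : act 8 n56591 = n57759 := rfl
theorem F259123 : act 2 n57759 = n56595 := d22_1 D57759 (iv D56595) (iv F254179)
theorem F259124 : act 4 n57759 = n57759 := d33_1 D57759 (iv D57759) F254180
theorem F259125 : act 5 n57759 = n56839 := d37_1 D57759 (iv D56839) (iv F254181)
theorem F259126 : act 6 n57759 = n56592 := d40_1 D57759 (iv D56592) (iv F254182)
theorem F259127 : act 9 n57759 = n56863 := d44_2 D56591 D57759 (iv D56863) (iv D55585) (iv F248149)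
def n57760 : Q := act 3 n56592
theorem D57760 : act 3 n56592 = n57760 := rfl
theorem F259128 : act 5 n57760 = n56593 := d25_2 (iv F254185) D57760 (iv D56593)
def n57761 : Q := act 2 n56593
theorem D57761 : act 2 n56593 = n57761 := rfl
theorem F259129 : act 3 n57761 = n56597 := d17_2 D56593 D57761 (iv D56597) (iv D55288) (iv F248153)
theorem F259130 : act 6 n57761 = n57070 := d20_2 (iv F254186) D57761 (iv D57070)
def n57762 : Q := act 4 n56593
theorem D57762 : act 4 n56593 = n57762 := rfl
theorem F259131 : act 3 n57762 = n56594 := d24_1 D57762 (iv D56594) (iv D55285) (iv F248154) D56593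
theorem F259132 : act 6 n57762 = n57071 := d31_2 (iv F254186) D57762 (iv D57071)
def n57763 : Q := act 5 n56594
theorem D57763 : act 5 n56594 = n57763 := rfl
theorem F259133 : act 4 n57763 = n57763 := d30_1 D57763 (iv D57763) (iv D56594) F248156 D56594
theorem F259134 : act 8 n57763 = n56743 := d37_2 (iv F254188) D57763 (iv D56743)
def n57764 : Q := act 3 n56595
theorem D57764 : act 3 n56595 = n57764 := rfl
theorem F259135 : act 1 n57764 = n57075 := d10_1 D57764 (iv D57075) (iv F254189)
theorem F259136 : act 5 n57764 = n56841 := d25_2 (iv F254191) D57764 (iv D56841)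
theorem F259137 : act 6 n57764 = n56596 := d26_2 (iv F254192) D57764 (iv D56596)
theorem F259138 : act 8 n57764 = n56620 := d28_2 D56595 D57764 (iv D56620) (iv D55313) (iv F248160)
theorem F259139 : act 9 n57764 = n56866 := d29_2 (iv F254193) D57764 (iv D56866)
def n57765 : Q := act 2 n56596
theorem D57765 : act 2 n56596 = n57765 := rfl
theorem F259140 : act 5 n57765 = n56597 := d19_2 (iv F254194) D57765 (iv D56597)
theorem F259141 : act 8 n57765 = n56621 := d22_2 (iv F254195) D57765 (iv D56621)
def n57766 : Q := act 4 n56596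
theorem D57766 : act 4 n56596 = n57766 := rfl
theorem F259142 : act 3 n57766 = n57766 := d24_1 D57766 (iv D57766) (iv D56596) F248164 D56596
theorem F259143 : act 8 n57766 = n56622 := d33_2 (iv F254195) D57766 (iv D56622)
def n57767 : Q := act 1 n56597
theorem D57767 : act 1 n56597 = n57767 := rfl
theorem F259144 : act 6 n57767 = n57072 := d13_2 (iv F254196) D57767 (iv D57072)
theorem F259145 : act 8 n57767 = n56623 := d15_2 (iv F254197) D57767 (iv D56623)
def n57768 : Q := act 3 n56598
theorem D57768 : act 3 n56598 = n57768 := rfl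
theorem F259146 : act 0 n57768 = n56670 := d2_1 D57768 (iv D56670) (iv F254198)
theorem F259147 : act 4 n57768 = n57049 := d24_2 (iv F254200) D57768 (iv D57049) F250062 (iv F248176)
theorem F259148 : act 6 n57768 = n56605 := d26_2 (iv F254201) D57768 (iv D56605)
theorem F259149 : act 7 n57768 = n57074 := d27_2 (iv F254202) D57768 (iv D57074)
theorem F259150 : act 8 n57768 = n56667 := d28_2 D56598 D57768 (iv D56667) (iv D55365) (iv F248170)
theorem F259151 : act 9 n57768 = n56643 := d29_2 (iv F254203) D57768 (iv D56643)
def n57769 : Q := act 8 n56599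
theorem D57769 : act 8 n56599 = n57769 := rfl
theorem F259152 : act 2 n57769 = n56850 := d22_1 D57769 (iv D56850) (iv F254204)
theorem F259153 : act 4 n57769 = n57769 := d33_1 D57769 (iv D57769) F254206
theorem F259154 : act 5 n57769 = n56607 := d37_1 D57769 (iv D56607) (iv F254207)
theorem F259155 : act 6 n57769 = n56600 := d40_1 D57769 (iv D56600) (iv F254208)
theorem F259156 : act 9 n57769 = n56645 := d44_2 D56599 D57769 (iv D56645) (iv D55341) (iv F248185)
def n57770 : Q := act 3 n56600
theorem D57770 : act 3 n56600 = n57770 := rfl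
theorem F259157 : act 5 n57770 = n56601 := d25_2 (iv F254210) D57770 (iv D56601)
theorem F259158 : act 7 n57770 = n57075 := d27_2 (iv F254211) D57770 (iv D57075)
theorem F259159 : act 9 n57770 = n56646 := d29_2 (iv F254212) D57770 (iv D56646)
def n57771 : Q := act 2 n56601
theorem D57771 : act 2 n56601 = n57771 := rfl
theorem F259160 : act 6 n57771 = n56609 := d20_2 (iv F254213) D57771 (iv D56609)
theorem F259161 : act 7 n57771 = n57076 := d21_2 (iv F254214) D57771 (iv D57076)
theorem F259162 : act 9 n57771 = n56647 := d23_2 (iv F254215) D57771 (iv D56647)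
def n57772 : Q := act 3 n56602
theorem D57772 : act 3 n56602 = n57772 := rfl
theorem F259163 : act 0 n57772 = n57056 := d2_1 D57772 (iv D57056) (iv F254216)
theorem F259164 : act 1 n57772 = n56605 := d10_1 D57772 (iv D56605) (iv F254217)
theorem F259165 : act 4 n57772 = n57052 := d24_2 (iv F254218) D57772 (iv D57052) F250070 (iv F248200)
theorem F259166 : act 7 n57772 = n56611 := d27_2 (iv F254219) D57772 (iv D56611)
theorem F259167 : act 8 n57772 = n57055 := d28_2 D56602 D57772 (iv D57055) (iv D55798) (iv F248195)
theorem F259168 : act 9 n57772 = n56651 := d29_2 (iv F254220) D57772 (iv D56651)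
def n57773 : Q := act 8 n56603
theorem D57773 : act 8 n56603 = n57773 := rfl
theorem F259169 : act 0 n57773 = n57121 := d7_1 D57773 F255895 (iv F254221)
theorem F259170 : act 1 n57773 = n56854 := d15_1 D57773 (iv D56854) (iv F254222)
theorem F259171 : act 2 n57773 = n56607 := d22_1 D57773 (iv D56607) (iv F254223)
theorem F259172 : act 4 n57773 = n56624 := d33_1 D57773 (iv D56624) (iv F254225)
theorem F259173 : act 5 n57773 = n56850 := d37_1 D57773 (iv D56850) (iv F254226)
theorem F259174 : act 6 n57773 = n56604 := d40_1 D57773 (iv D56604) (iv F254227)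
theorem F259175 : act 7 n57773 = n57064 := d42_1 D57773 (iv D57064) (iv F254228)
theorem F259176 : act 9 n57773 = n56658 := d44_2 D56603 D57773 (iv D56658) (iv D55357) (iv F248211)
def n57774 : Q := act 3 n56604
theorem D57774 : act 3 n56604 = n57774 := rfl
theorem F259177 : act 0 n57774 = n57120 := d2_1 D57774 F255890 (iv F254229)
theorem F259178 : act 5 n57774 = n56605 := d25_2 (iv F254232) D57774 (iv D56605)
theorem F259179 : act 7 n57774 = n56617 := d27_2 (iv F254233) D57774 (iv D56617)
theorem F259180 : act 8 n57774 = n57126 := d28_2 D56604 D57774 (iv D57126) (iv D55866) (iv F248214)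
theorem F259181 : act 9 n57774 = n56659 := d29_2 (iv F254234) D57774 (iv D56659)
def n57775 : Q := act 2 n56605
theorem D57775 : act 2 n56605 = n57775 := rfl
theorem F259182 : act 0 n57775 = n57119 := d1_1 D57775 F255886 (iv F254235)
theorem F259183 : act 3 n57775 = n56609 := d17_2 D56605 D57775 (iv D56609) (iv D55302) (iv F248219)
theorem F259184 : act 4 n57775 = n57053 := d18_2 (iv F254236) D57775 (iv D57053)
theorem F259185 : act 7 n57775 = n56618 := d21_2 (iv F254237) D57775 (iv D56618)
theorem F259186 : act 8 n57775 = n57127 := d22_2 (iv F254238) D57775 (iv D57127)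
theorem F259187 : act 9 n57775 = n56660 := d23_2 (iv F254239) D57775 (iv D56660)
def n57776 : Q := act 8 n56606
theorem D57776 : act 8 n56606 = n57776 := rfl
theorem F259188 : act 1 n57776 = n57082 := d15_1 D57776 (iv D57082) (iv F254240)
theorem F259189 : act 2 n57776 = n57064 := d22_1 D57776 (iv D57064) (iv F254241)
theorem F259190 : act 4 n57776 = n56626 := d33_1 D57776 (iv D56626) (iv F254242)
theorem F259191 : act 6 n57776 = n56619 := d40_1 D57776 (iv D56619) (iv F254243)
theorem F259192 : act 7 n57776 = n56607 := d42_1 D57776 (iv D56607) (iv F254244)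
theorem F259193 : act 9 n57776 = n56662 := d44_2 D56606 D57776 (iv D56662) (iv D55361) (iv F248227)
def n57777 : Q := act 3 n56607
theorem D57777 : act 3 n56607 = n57777 := rfl
theorem F259194 : act 6 n57777 = n56608 := d26_2 (iv F254246) D57777 (iv D56608)
theorem F259195 : act 9 n57777 = n56663 := d29_2 (iv F254247) D57777 (iv D56663)
def n57778 : Q := act 2 n56608
theorem D57778 : act 2 n56608 = n57778 := rfl
theorem F259196 : act 5 n57778 = n56609 := d19_2 (iv F254248) D57778 (iv D56609)
theorem F259197 : act 7 n57778 = n56621 := d21_2 (iv F254249) D57778 (iv D56621)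
theorem F259198 : act 9 n57778 = n56664 := d23_2 (iv F254250) D57778 (iv D56664)
def n57779 : Q := act 4 n56608
theorem D57779 : act 4 n56608 = n57779 := rfl
theorem F259199 : act 3 n57779 = n56629 := d24_1 D57779 (iv D56629) (iv D55321) (iv F248230) D56608
theorem F259200 : act 7 n57779 = n56622 := d32_2 (iv F254249) D57779 (iv D56622)
theorem F259201 : act 9 n57779 = n56665 := d34_2 (iv F254250) D57779 (iv D56665)
def n57780 : Q := act 1 n56609
theorem D57780 : act 1 n56609 = n57780 := rfl
theorem F259202 : act 7 n57780 = n56623 := d14_2 (iv F254251) D57780 (iv D56623)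
theorem F259203 : act 9 n57780 = n56666 := d16_2 (iv F254252) D57780 (iv D56666)
def n57781 : Q := act 3 n56610
theorem D57781 : act 3 n56610 = n57781 := rfl
theorem F259204 : act 0 n57781 = n57052 := d2_1 D57781 (iv D57052) (iv F254253)
theorem F259205 : act 1 n57781 = n56615 := d10_1 D57781 (iv D56615) (iv F254254)
theorem F259206 : act 4 n57781 = n57056 := d24_2 (iv F254255) D57781 (iv D57056) F250080 (iv F248851)
theorem F259207 : act 6 n57781 = n57084 := d26_2 (iv F254256) D57781 (iv D57084)
theorem F259208 : act 7 n57781 = n57055 := d27_2 (iv F254257) D57781 (iv D57055)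
theorem F259209 : act 8 n57781 = n56611 := d28_2 D56610 D57781 (iv D56611) (iv D55304) (iv F248238)
def n57782 : Q := act 2 n56611
theorem D57782 : act 2 n56611 = n57782 := rfl
theorem F259210 : act 4 n57782 = n57057 := d18_2 (iv F254259) D57782 (iv D57057)
theorem F259211 : act 6 n57782 = n57086 := d20_2 (iv F254260) D57782 (iv D57086)
theorem F259212 : act 9 n57782 = n56673 := d23_2 (iv F254261) D57782 (iv D56673)
def n57783 : Q := act 8 n56612
theorem D57783 : act 8 n56612 = n57783 := rfl
theorem F259213 : act 0 n57783 = n56832 := d7_1 D57783 (iv D56832) (iv F254262)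
theorem F259214 : act 1 n57783 = n56896 := d15_1 D57783 (iv D56896) (iv F254263)
theorem F259215 : act 2 n57783 = n57062 := d22_1 D57783 (iv D57062) (iv F254264)
theorem F259216 : act 4 n57783 = n56831 := d33_1 D57783 (iv D56831) (iv F254266)
theorem F259217 : act 5 n57783 = n56614 := d37_1 D57783 (iv D56614) (iv F254267)
theorem F259218 : act 7 n57783 = n56886 := d42_1 D57783 (iv D56886) (iv F254268)
theorem F259219 : act 9 n57783 = n56613 := d44_2 D56612 D57783 (iv D56613) (iv D55306) D55305
def n57784 : Q := act 3 n56613
theorem D57784 : act 3 n56613 = n57784 := rfl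
theorem F259220 : act 0 n57784 = n57113 := d2_1 D57784 (iv D57113) (iv F254269)
theorem F259221 : act 5 n57784 = n56615 := d25_2 (iv F254271) D57784 (iv D56615)
theorem F259222 : act 7 n57784 = n57126 := d27_2 (iv F254272) D57784 (iv D57126)
theorem F259223 : act 8 n57784 = n56617 := d28_2 D56613 D57784 (iv D56617) (iv D55310) (iv F248254)
def n57785 : Q := act 3 n56614
theorem D57785 : act 3 n56614 = n57785 := rfl
theorem F259224 : act 0 n57785 = n57077 := d2_1 D57785 (iv D57077) (iv F254273)
theorem F259225 : act 4 n57785 = n57058 := d24_2 (iv F254274) D57785 (iv D57058) F250083 (iv F248856)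
theorem F259226 : act 6 n57785 = n57091 := d26_2 (iv F254275) D57785 (iv D57091)
theorem F259227 : act 7 n57785 = n57081 := d27_2 (iv F254276) D57785 (iv D57081)
theorem F259228 : act 8 n57785 = n56680 := d28_2 D56614 D57785 (iv D56680) (iv D55378) (iv F248259)
theorem F259229 : act 9 n57785 = n56615 := d29_2 (iv F254277) D57785 (iv D56615)
def n57786 : Q := act 2 n56615
theorem D57786 : act 2 n56615 = n57786 := rfl
theorem F259230 : act 0 n57786 = n57114 := d1_1 D57786 (iv D57114) (iv F254278)
theorem F259231 : act 4 n57786 = n57059 := d18_2 (iv F254279) D57786 (iv D57059)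
theorem F259232 : act 6 n57786 = n57092 := d20_2 (iv F254280) D57786 (iv D57092)
theorem F259233 : act 7 n57786 = n57127 := d21_2 (iv F254281) D57786 (iv D57127)
theorem F259234 : act 8 n57786 = n56618 := d22_2 (iv F254282) D57786 (iv D56618)
def n57787 : Q := act 3 n56616
theorem D57787 : act 3 n56616 = n57787 := rfl
theorem F259235 : act 0 n57787 = n56802 := d2_1 D57787 (iv D56802) (iv F254283)
theorem F259236 : act 1 n57787 = n56882 := d10_1 D57787 (iv D56882) (iv F254284)
theorem F259237 : act 5 n57787 = n57094 := d25_2 (iv F254287) D57787 (iv D57094)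
theorem F259238 : act 6 n57787 = n56617 := d26_2 (iv F254288) D57787 (iv D56617)
theorem F259239 : act 9 n57787 = n56684 := d29_2 (iv F254289) D57787 (iv D56684)
def n57788 : Q := act 2 n56617
theorem D57788 : act 2 n56617 = n57788 := rfl
theorem F259240 : act 0 n57788 = n57147 := d1_1 D57788 F255936 (iv F254290)
theorem F259241 : act 3 n57788 = n56621 := d17_2 D56617 D57788 (iv D56621) (iv D55314) (iv F248274)
theorem F259242 : act 5 n57788 = n56618 := d19_2 (iv F254291) D57788 (iv D56618)
theorem F259243 : act 9 n57788 = n56685 := d23_2 (iv F254292) D57788 (iv D56685)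
def n57789 : Q := act 4 n56617
theorem D57789 : act 4 n56617 = n57789 := rfl
theorem F259244 : act 0 n57789 = n57144 := d3_1 D57789 F255933 (iv F254290)
theorem F259245 : act 3 n57789 = n56632 := d24_1 D57789 (iv D56632) (iv D55325) (iv F248275) D56617
theorem F259246 : act 5 n57789 = n56777 := d30_2 (iv F254291) D57789 (iv D56777) F249058 (iv F248279)
theorem F259247 : act 9 n57789 = n56686 := d34_2 (iv F254292) D57789 (iv D56686)
def n57790 : Q := act 1 n56618
theorem D57790 : act 1 n56618 = n57790 := rfl
theorem F259248 : act 3 n57790 = n56623 := d10_2 (iv F254294) D57790 (iv D56623)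
theorem F259249 : act 4 n57790 = n57060 := d11_2 (iv F254295) D57790 (iv D57060)
theorem F259250 : act 6 n57790 = n57097 := d13_2 (iv F254296) D57790 (iv D57097)
theorem F259251 : act 9 n57790 = n56687 := d16_2 (iv F254297) D57790 (iv D56687)
def n57791 : Q := act 3 n56619
theorem D57791 : act 3 n56619 = n57791 := rfl
theorem F259252 : act 5 n57791 = n57098 := d25_2 (iv F254299) D57791 (iv D57098)
theorem F259253 : act 7 n57791 = n56620 := d27_2 (iv F254300) D57791 (iv D56620)
theorem F259254 : act 9 n57791 = n56690 := d29_2 (iv F254301) D57791 (iv D56690)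
def n57792 : Q := act 2 n56620
theorem D57792 : act 2 n56620 = n57792 := rfl
theorem F259255 : act 5 n57792 = n57099 := d19_2 (iv F254302) D57792 (iv D57099)
theorem F259256 : act 6 n57792 = n56621 := d20_2 (iv F254303) D57792 (iv D56621)
theorem F259257 : act 9 n57792 = n56691 := d23_2 (iv F254304) D57792 (iv D56691)
def n57793 : Q := act 4 n56620
theorem D57793 : act 4 n56620 = n57793 := rfl
theorem F259258 : act 3 n57793 = n56635 := d24_1 D57793 (iv D56635) (iv D55327) (iv F248285) D56620
theorem F259259 : act 6 n57793 = n56622 := d31_2 (iv F254303) D57793 (iv D56622)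
theorem F259260 : act 9 n57793 = n56692 := d34_2 (iv F254304) D57793 (iv D56692)
def n57794 : Q := act 1 n56621
theorem D57794 : act 1 n56621 = n57794 := rfl
theorem F259261 : act 5 n57794 = n56623 := d12_2 (iv F254305) D57794 (iv D56623)
theorem F259262 : act 9 n57794 = n56693 := d16_2 (iv F254306) D57794 (iv D56693)
def n57795 : Q := act 4 n56621
theorem D57795 : act 4 n56621 = n57795 := rfl
theorem F259263 : act 2 n57795 = n56622 := d18_1 D57795 (iv D56622) D56621
theorem F259264 : act 9 n57795 = n56694 := d34_2 (iv F254306) D57795 (iv D56694)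
def n57796 : Q := act 0 n56623
theorem D57796 : act 0 n56623 = n57796 := rfl
theorem F259265 : act 6 n57796 = n57101 := d5_2 (iv F254309) D57796 (iv D57101)
theorem F259266 : act 9 n57796 = n56695 := d8_2 (iv F254310) D57796 (iv D56695)
def n57797 : Q := act 3 n56624
theorem D57797 : act 3 n56624 = n57797 := rfl
theorem F259267 : act 0 n57797 = n57154 := d2_1 D57797 F255952 (iv F254311)
theorem F259268 : act 1 n57797 = n57158 := d10_1 D57797 (iv D57158) (iv F254312)
theorem F259269 : act 5 n57797 = n57797 := d25_2 F254314 D57797 (iv D57797)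
theorem F259270 : act 6 n57797 = n56625 := d26_2 (iv F254315) D57797 (iv D56625)
theorem F259271 : act 7 n57797 = n57160 := d27_2 (iv F254316) D57797 (iv D57160)
theorem F259272 : act 8 n57797 = n56779 := d28_2 D56624 D57797 F254939 (iv D55903) (iv F248296)
theorem F259273 : act 9 n57797 = n56698 := d29_2 (iv F254317) D57797 (iv D56698)
theorem F259274 : act 2 n56911 = n57797 := d22_3 F259272 F254938 (iv F255407)
def n57798 : Q := act 3 n56626
theorem D57798 : act 3 n56626 = n57798 := rfl
theorem F259275 : act 1 n57798 = n57165 := d10_1 D57798 (iv D57165) (iv F254324)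
theorem F259276 : act 5 n57798 = n57798 := d25_2 F254326 D57798 (iv D57798)
theorem F259277 : act 6 n57798 = n56633 := d26_2 (iv F254327) D57798 (iv D56633)
theorem F259278 : act 7 n57798 = n56627 := d27_2 (iv F254328) D57798 (iv D56627)
theorem F259279 : act 8 n57798 = n57798 := d28_2 D56626 D57798 (iv D57798) (iv D56626) F248314
theorem F259280 : act 9 n57798 = n56701 := d29_2 (iv F254329) D57798 (iv D56701)
def n57799 : Q := act 2 n56627
theorem D57799 : act 2 n56627 = n57799 := rfl
theorem F259281 : act 3 n57799 = n56911 := d17_2 D56627 D57799 F259274 (iv D57797) F254313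
theorem F259282 : act 5 n57799 = n57799 := d19_2 F254330 D57799 (iv D57799)
theorem F259283 : act 6 n57799 = n56628 := d20_2 (iv F254331) D57799 (iv D56628)
theorem F259284 : act 8 n57799 = n57799 := d22_2 F254332 D57799 (iv D57799)
theorem F259285 : act 9 n57799 = n56702 := d23_2 (iv F254333) D57799 (iv D56702)
def n57800 : Q := act 4 n56627
theorem D57800 : act 4 n56627 = n57800 := rfl
theorem F259286 : act 6 n57800 = n56629 := d31_2 (iv F254331) D57800 (iv D56629)
theorem F259287 : act 8 n57800 = n57800 := d33_2 F254332 D57800 (iv D57800)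
theorem F259288 : act 9 n57800 = n56703 := d34_2 (iv F254333) D57800 (iv D56703)
def n57801 : Q := act 1 n56628
theorem D57801 : act 1 n56628 = n57801 := rfl
theorem F259289 : act 2 n57801 = n56709 := d9_2 D56628 D57801 (iv F257222) (iv D57365) F251797
theorem F259290 : act 3 n57801 = n56713 := d10_2 (iv F254334) D57801 (iv F254648)
theorem F259291 : act 5 n57801 = n56630 := d12_2 (iv F254335) D57801 (iv D56630)
theorem F259292 : act 7 n57801 = n56636 := d14_2 (iv F254336) D57801 (iv D56636)
theorem F259293 : act 8 n57801 = n57801 := d15_2 F254337 D57801 (iv D57801)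
theorem F259294 : act 9 n57801 = n56704 := d16_2 (iv F254338) D57801 (iv D56704)
def n57802 : Q := act 4 n56628
theorem D57802 : act 4 n56628 = n57802 := rfl
theorem F259295 : act 2 n57802 = n56629 := d18_1 D57802 (iv D56629) D56628
theorem F259296 : act 5 n57802 = n56910 := d30_2 (iv F254335) D57802 (iv D56910) F249611 (iv F248326)
theorem F259297 : act 7 n57802 = n56637 := d32_2 (iv F254336) D57802 (iv D56637)
theorem F259298 : act 8 n57802 = n57802 := d33_2 F254337 D57802 (iv D57802)
theorem F259299 : act 9 n57802 = n56705 := d34_2 (iv F254338) D57802 (iv D56705)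
def n57803 : Q := act 2 n56633
theorem D57803 : act 2 n56633 = n57803 := rfl
theorem F259300 : act 1 n57803 = n56699 := d9_1 D57803 (iv D56699) (iv F254580) (iv F257230) F257229
theorem F259301 : act 3 n57803 = n56704 := d17_2 D56633 D57803 (iv F257472) F257473 F254351
theorem F259302 : act 5 n57803 = n56638 := d19_2 (iv F254361) D57803 (iv D56638)
theorem F259303 : act 7 n57803 = n56634 := d21_2 (iv F254362) D57803 (iv D56634)
theorem F259304 : act 8 n57803 = n57803 := d22_2 F254363 D57803 (iv D57803)
theorem F259305 : act 9 n57803 = n56713 := d23_2 (iv F254364) D57803 (iv D56713)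
def n57804 : Q := act 4 n56633
theorem D57804 : act 4 n56633 = n57804 := rfl
theorem F259306 : act 5 n57804 = n57006 := d30_2 (iv F254361) D57804 (iv D57006) F249938 (iv F248375)
theorem F259307 : act 7 n57804 = n56635 := d32_2 (iv F254362) D57804 (iv D56635)
theorem F259308 : act 8 n57804 = n57804 := d33_2 F254363 D57804 (iv D57804)
theorem F259309 : act 9 n57804 = n56714 := d34_2 (iv F254364) D57804 (iv D56714)
def n57805 : Q := act 4 n56634
theorem D57805 : act 4 n56634 = n57805 := rfl
theorem F259310 : act 1 n57805 = n56711 := d11_1 D57805 (iv D56711) (iv F254365)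
theorem F259311 : act 2 n57805 = n56635 := d18_1 D57805 (iv D56635) D56634
theorem F259312 : act 5 n57805 = n56853 := d30_2 (iv F254367) D57805 (iv D56853) F249427 (iv F248382)
theorem F259313 : act 6 n57805 = n56637 := d31_2 (iv F254368) D57805 (iv D56637)
theorem F259314 : act 8 n57805 = n57805 := d33_2 F254369 D57805 (iv D57805)
theorem F259315 : act 9 n57805 = n56715 := d34_2 (iv F254370) D57805 (iv D56715)
def n57806 : Q := act 4 n56636
theorem D57806 : act 4 n56636 = n57806 := rfl
theorem F259316 : act 1 n57806 = n56637 := d11_1 D57806 (iv D56637) D56636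
theorem F259317 : act 2 n57806 = n56710 := d18_1 D57806 (iv D56710) (iv F254374)
theorem F259318 : act 5 n57806 = n56913 := d30_2 (iv F254376) D57806 (iv D56913) F249635 (iv F248364)
theorem F259319 : act 6 n57806 = n56711 := d31_2 (iv F254377) D57806 (iv D56711)
theorem F259320 : act 8 n57806 = n57806 := d33_2 F254378 D57806 (iv D57806)
theorem F259321 : act 9 n57806 = n56717 := d34_2 (iv F254379) D57806 (iv D56717)
def n57807 : Q := act 3 n56637
theorem D57807 : act 3 n56637 = n57807 := rfl
theorem F259322 : act 4 n57807 = n56902 := d24_2 D56637 D57807 F255379 F249579 (iv F248356)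
theorem F259323 : act 5 n57807 = n56899 := d25_2 (iv F254381) D57807 F255376
theorem F259324 : act 9 n57807 = n56718 := d29_2 (iv F254383) D57807 (iv D56718)
def n57808 : Q := act 3 n56639
theorem D57808 : act 3 n56639 = n57808 := rfl
theorem F259325 : act 0 n57808 = n57078 := d2_1 D57808 (iv D57078) (iv F254391)
theorem F259326 : act 1 n57808 = n56643 := d10_1 D57808 (iv D56643) (iv F254392)
theorem F259327 : act 4 n57808 = n56656 := d24_2 (iv F254393) D57808 (iv D56656) F248496 (iv F248394)
theorem F259328 : act 6 n57808 = n56651 := d26_2 (iv F254394) D57808 (iv D56651)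
theorem F259329 : act 7 n57808 = n56682 := d27_2 (iv F254395) D57808 F254549
theorem F259330 : act 8 n57808 = n56661 := d28_2 D56639 D57808 F254484 F248514 (iv F248388)
def n57809 : Q := act 3 n56640
theorem D57809 : act 3 n56640 = n57809 := rfl
theorem F259331 : act 1 n57809 = n56661 := d10_1 D57809 F254484 (iv F254396)
theorem F259332 : act 4 n57809 = n56651 := d24_2 (iv F254397) D57809 (iv D56651) F248466 D55350
theorem F259333 : act 6 n57809 = n56656 := d26_2 (iv F254398) D57809 (iv D56656)
theorem F259334 : act 7 n57809 = n56674 := d27_2 (iv F254399) D57809 F254522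
theorem F259335 : act 8 n57809 = n56643 := d28_2 D56640 D57809 (iv D56643) (iv D55339) (iv F248399)
theorem F259336 : act 9 n57809 = n57052 := d29_2 (iv F254400) D57809 (iv D57052)
def n57810 : Q := act 8 n56641
theorem D57810 : act 8 n56641 = n57810 := rfl
theorem F259337 : act 1 n57810 = n56855 := d15_1 D57810 (iv D56855) (iv F254401)
theorem F259338 : act 2 n57810 = n56645 := d22_1 D57810 (iv D56645) (iv F254402)
theorem F259339 : act 4 n57810 = n57810 := d33_1 D57810 (iv D57810) F254404
theorem F259340 : act 5 n57810 = n56658 := d37_1 D57810 (iv D56658) (iv F254405)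
theorem F259341 : act 6 n57810 = n56642 := d40_1 D57810 (iv D56642) (iv F254406)
theorem F259342 : act 9 n57810 = n56850 := d44_2 D56641 D57810 (iv D56850) (iv D55570) (iv F248408)
def n57811 : Q := act 3 n56642
theorem D57811 : act 3 n56642 = n57811 := rfl
theorem F259343 : act 5 n57811 = n56643 := d25_2 (iv F254409) D57811 (iv D56643)
theorem F259344 : act 7 n57811 = n57107 := d27_2 (iv F254410) D57811 (iv D57107)
def n57812 : Q := act 2 n56643
theorem D57812 : act 2 n56643 = n57812 := rfl
theorem F259345 : act 3 n57812 = n56647 := d17_2 D56643 D57812 (iv D56647) (iv D55343) (iv F248413)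
theorem F259346 : act 6 n57812 = n56660 := d20_2 (iv F254411) D57812 (iv D56660)
theorem F259347 : act 7 n57812 = n57108 := d21_2 (iv F254412) D57812 (iv D57108)
def n57813 : Q := act 4 n56643
theorem D57813 : act 4 n56643 = n57813 := rfl
theorem F259348 : act 0 n57813 = n57074 := d3_1 D57813 (iv F258887) F258885
theorem F259349 : act 1 n57813 = n56656 := d11_1 D57813 (iv F259327) F259326
theorem F259350 : act 3 n57813 = n56644 := d24_1 D57813 (iv D56644) (iv D55340) (iv F248414) D56643
theorem F259351 : act 6 n57813 = n56661 := d31_2 (iv F254411) D57813 (iv D56661)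
theorem F259352 : act 7 n57813 = n56670 := d32_2 (iv F254412) D57813 F254508
theorem F259353 : act 8 n57813 = n56651 := d33_2 F259335 D57813 (iv F259332)
theorem F259354 : act 9 n57813 = n57049 := d34_2 F259151 D57813 (iv F259147)
def n57814 : Q := act 5 n56644
theorem D57814 : act 5 n56644 = n57814 := rfl
theorem F259355 : act 0 n57814 = n57073 := d4_1 D57814 F255776 (iv F254413)
theorem F259356 : act 1 n57814 = n56654 := d12_1 D57814 F254461 (iv F254414)
theorem F259357 : act 2 n57814 = n57030 := d19_1 D57814 F255693 (iv F254415)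
theorem F259358 : act 4 n57814 = n57814 := d30_1 D57814 (iv D57814) (iv D56644) F248420 D56644
theorem F259359 : act 6 n57814 = n56891 := d35_2 (iv F254416) D57814 F255362 (iv F251971) F251970
theorem F259360 : act 7 n57814 = n56669 := d36_2 (iv F254417) D57814 F254506
theorem F259361 : act 8 n57814 = n56649 := d37_2 (iv F254418) D57814 F254438
theorem F259362 : act 9 n57814 = n56890 := d38_2 (iv F254419) D57814 F255359
def n57815 : Q := act 3 n56645
theorem D57815 : act 3 n56645 = n57815 := rfl
theorem F259363 : act 5 n57815 = n56663 := d25_2 (iv F254421) D57815 (iv D56663)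
theorem F259364 : act 6 n57815 = n56646 := d26_2 (iv F254422) D57815 (iv D56646)
def n57816 : Q := act 2 n56646
theorem D57816 : act 2 n56646 = n57816 := rfl
theorem F259365 : act 5 n57816 = n56647 := d19_2 (iv F254423) D57816 (iv D56647)
theorem F259366 : act 7 n57816 = n57110 := d21_2 (iv F254424) D57816 (iv D57110)
def n57817 : Q := act 4 n56646
theorem D57817 : act 4 n56646 = n57817 := rfl
theorem F259367 : act 3 n57817 = n57817 := d24_1 D57817 (iv D57817) (iv D56646) F248428 D56646
theorem F259368 : act 7 n57817 = n57111 := d32_2 (iv F254424) D57817 (iv D57111)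
def n57818 : Q := act 1 n56647
theorem D57818 : act 1 n56647 = n57818 := rfl
theorem F259369 : act 6 n57818 = n56666 := d13_2 (iv F254425) D57818 (iv D56666)
theorem F259370 : act 7 n57818 = n57112 := d14_2 (iv F254426) D57818 (iv D57112)
def n57819 : Q := act 3 n56648
theorem D57819 : act 3 n56648 = n57819 := rfl
theorem F259371 : act 0 n57819 = n56651 := d2_1 D57819 (iv D56651) (iv F254427)
theorem F259372 : act 1 n57819 = n57058 := d10_1 D57819 (iv D57058) (iv F254428)
theorem F259373 : act 6 n57819 = n57078 := d26_2 (iv F254430) D57819 (iv D57078)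
theorem F259374 : act 7 n57819 = n56667 := d27_2 (iv F254431) D57819 (iv D56667)
theorem F259375 : act 8 n57819 = n57074 := d28_2 D56648 D57819 (iv D57074) (iv D55816) (iv F248435)
theorem F259376 : act 9 n57819 = n57056 := d29_2 (iv F254432) D57819 (iv D57056)
def n57820 : Q := act 3 n56650
theorem D57820 : act 3 n56650 = n57820 := rfl
theorem F259377 : act 1 n57820 = n56659 := d10_1 D57820 (iv D56659) (iv F254441)
theorem F259378 : act 5 n57820 = n56651 := d25_2 (iv F254444) D57820 (iv D56651)
theorem F259379 : act 7 n57820 = n56672 := d27_2 (iv F254445) D57820 (iv D56672)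
def n57821 : Q := act 2 n56651
theorem D57821 : act 2 n56651 = n57821 := rfl
theorem F259380 : act 7 n57821 = n56673 := d21_2 (iv F254447) D57821 (iv D56673)
def n57822 : Q := act 8 n56652
theorem D57822 : act 8 n56652 = n57822 := rfl
theorem F259381 : act 1 n57822 = n56891 := d15_1 D57822 (iv D56891) (iv F254448)
theorem F259382 : act 4 n57822 = n57822 := d33_1 D57822 (iv D57822) F254450
theorem F259383 : act 5 n57822 = n56884 := d37_1 D57822 (iv D56884) (iv F254451)
theorem F259384 : act 6 n57822 = n56654 := d40_1 D57822 (iv D56654) (iv F254452)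
theorem F259385 : act 9 n57822 = n56883 := d44_2 D56652 D57822 (iv D56883) (iv D55604) F248478
def n57823 : Q := act 8 n56653
theorem D57823 : act 8 n56653 = n57823 := rfl
theorem F259386 : act 0 n57823 = n57083 := d7_1 D57823 (iv D57083) (iv F254453)
theorem F259387 : act 1 n57823 = n56890 := d15_1 D57823 (iv D56890) (iv F254454)
theorem F259388 : act 4 n57823 = n57823 := d33_1 D57823 (iv D57823) F254456
theorem F259389 : act 5 n57823 = n56655 := d37_1 D57823 (iv D56655) (iv F254457)
theorem F259390 : act 6 n57823 = n56883 := d40_1 D57823 (iv D56883) (iv F254458)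
theorem F259391 : act 7 n57823 = n56678 := d42_1 D57823 (iv D56678) (iv F254459)
theorem F259392 : act 9 n57823 = n56654 := d44_2 D56653 D57823 (iv D56654) (iv D55353) D55352
def n57824 : Q := act 3 n56654
theorem D57824 : act 3 n56654 = n57824 := rfl
theorem F259393 : act 5 n57824 = n56656 := d25_2 (iv F254461) D57824 (iv D56656)
theorem F259394 : act 7 n57824 = n56679 := d27_2 (iv F254462) D57824 (iv D56679)
theorem F259395 : act 8 n57824 = n56659 := d28_2 D56654 D57824 (iv D56659) (iv D55358) (iv F248486)
def n57825 : Q := act 3 n56655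
theorem D57825 : act 3 n56655 = n57825 := rfl
theorem F259396 : act 0 n57825 = n57084 := d2_1 D57825 (iv D57084) (iv F254463)
theorem F259397 : act 1 n57825 = n57049 := d10_1 D57825 (iv D57049) (iv F254464)
theorem F259398 : act 6 n57825 = n57052 := d26_2 (iv F254466) D57825 (iv D57052)
theorem F259399 : act 7 n57825 = n56680 := d27_2 (iv F254467) D57825 (iv D56680)
theorem F259400 : act 8 n57825 = n57081 := d28_2 D56655 D57825 (iv D57081) (iv D55823) (iv F248492)
theorem F259401 : act 9 n57825 = n56656 := d29_2 (iv F254468) D57825 (iv D56656)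
def n57826 : Q := act 2 n56656
theorem D57826 : act 2 n56656 = n57826 := rfl
theorem F259402 : act 7 n57826 = n56681 := d21_2 (iv F254469) D57826 (iv D56681)
theorem F259403 : act 8 n57826 = n56660 := d22_2 (iv F254470) D57826 (iv D56660)
def n57827 : Q := act 8 n56657
theorem D57827 : act 8 n56657 = n57827 := rfl
theorem F259404 : act 1 n57827 = n57068 := d15_1 D57827 (iv D57068) (iv F254471)
theorem F259405 : act 2 n57827 = n56662 := d22_1 D57827 (iv D56662) (iv F254472)
theorem F259406 : act 4 n57827 = n56697 := d33_1 D57827 (iv D56697) (iv F254473)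
theorem F259407 : act 6 n57827 = n56683 := d40_1 D57827 (iv D56683) (iv F254474)
theorem F259408 : act 7 n57827 = n56658 := d42_1 D57827 (iv D56658) (iv F254475)
theorem F259409 : act 9 n57827 = n57064 := d44_2 D56657 D57827 (iv D57064) (iv D55807) (iv F248502)
def n57828 : Q := act 3 n56658
theorem D57828 : act 3 n56658 = n57828 := rfl
theorem F259410 : act 6 n57828 = n56659 := d26_2 (iv F254478) D57828 (iv D56659)
def n57829 : Q := act 2 n56659
theorem D57829 : act 2 n56659 = n57829 := rfl
theorem F259411 : act 3 n57829 = n56664 := d17_2 D56659 D57829 (iv D56664) (iv D55363) (iv F248506)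
theorem F259412 : act 5 n57829 = n56660 := d19_2 (iv F254479) D57829 (iv D56660)
theorem F259413 : act 7 n57829 = n56685 := d21_2 (iv F254480) D57829 (iv D56685)
def n57830 : Q := act 4 n56659
theorem D57830 : act 4 n56659 = n57830 := rfl
theorem F259414 : act 3 n57830 = n56700 := d24_1 D57830 (iv D56700) (iv D55395) (iv F248507) D56659
theorem F259415 : act 7 n57830 = n56686 := d32_2 (iv F254480) D57830 (iv D56686)
def n57831 : Q := act 1 n56660
theorem D57831 : act 1 n56660 = n57831 := rfl
theorem F259416 : act 3 n57831 = n56666 := d10_2 (iv F254481) D57831 (iv D56666)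
theorem F259417 : act 7 n57831 = n56687 := d14_2 (iv F254482) D57831 (iv D56687)
def n57832 : Q := act 4 n56660
theorem D57832 : act 4 n56660 = n57832 := rfl
theorem F259418 : act 0 n57832 = n57079 := d3_1 D57832 (iv F258922) F258920
theorem F259419 : act 2 n57832 = n56661 := d18_1 D57832 (iv D56661) D56660
theorem F259420 : act 3 n57832 = n57047 := d24_1 D57832 (iv F258680) F258679 F253697 (iv F254481)
theorem F259421 : act 7 n57832 = n56688 := d32_2 (iv F254482) D57832 (iv D56688)
theorem F259422 : act 9 n57832 = n57053 := d34_2 F259187 D57832 (iv F259184)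
def n57833 : Q := act 3 n56662
theorem D57833 : act 3 n56662 = n57833 := rfl
theorem F259423 : act 6 n57833 = n56690 := d26_2 (iv F254488) D57833 (iv D56690)
theorem F259424 : act 7 n57833 = n56663 := d27_2 (iv F254489) D57833 (iv D56663)
def n57834 : Q := act 2 n56663
theorem D57834 : act 2 n56663 = n57834 := rfl
theorem F259425 : act 6 n57834 = n56664 := d20_2 (iv F254490) D57834 (iv D56664)
def n57835 : Q := act 4 n56663
theorem D57835 : act 4 n56663 = n57835 := rfl
theorem F259426 : act 3 n57835 = n56703 := d24_1 D57835 (iv D56703) (iv D55399) (iv F248519) D56663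
theorem F259427 : act 6 n57835 = n56665 := d31_2 (iv F254490) D57835 (iv D56665)
def n57836 : Q := act 1 n56664
theorem D57836 : act 1 n56664 = n57836 := rfl
theorem F259428 : act 5 n57836 = n56666 := d12_2 (iv F254491) D57836 (iv D56666)
theorem F259429 : act 7 n57836 = n56693 := d14_2 (iv F254492) D57836 (iv D56693)
def n57837 : Q := act 4 n56664
theorem D57837 : act 4 n56664 = n57837 := rfl
theorem F259430 : act 2 n57837 = n56665 := d18_1 D57837 (iv D56665) D56664
theorem F259431 : act 7 n57837 = n56694 := d32_2 (iv F254492) D57837 (iv D56694)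
def n57838 : Q := act 0 n56666
theorem D57838 : act 0 n56666 = n57838 := rfl
theorem F259432 : act 7 n57838 = n56695 := d6_2 (iv F254495) D57838 (iv D56695)
def n57839 : Q := act 2 n56667
theorem D57839 : act 2 n56667 = n57839 := rfl
theorem F259433 : act 0 n57839 = n56673 := d1_1 D57839 (iv D56673) (iv F254496)
theorem F259434 : act 6 n57839 = n57127 := d20_2 (iv F254497) D57839 (iv D57127)
def n57840 : Q := act 8 n56668
theorem D57840 : act 8 n56668 = n57840 := rfl
theorem F259435 : act 0 n57840 = n56850 := d7_1 D57840 (iv D56850) (iv F254498)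
theorem F259436 : act 1 n57840 = n56677 := d15_1 D57840 (iv D56677) (iv F254499)
theorem F259437 : act 4 n57840 = n57840 := d33_1 D57840 (iv D57840) F254501
theorem F259438 : act 5 n57840 = n57121 := d37_1 D57840 F255895 (iv F254502)
theorem F259439 : act 6 n57840 = n56669 := d40_1 D57840 (iv D56669) (iv F254503)
def n57841 : Q := act 3 n56669
theorem D57841 : act 3 n56669 = n57841 := rfl
theorem F259440 : act 1 n57841 = n56679 := d10_1 D57841 (iv D56679) (iv F254504)
theorem F259441 : act 5 n57841 = n56670 := d25_2 (iv F254506) D57841 (iv D56670)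
theorem F259442 : act 8 n57841 = n56672 := d28_2 D56669 D57841 (iv D56672) (iv D55370) (iv F248533)
def n57842 : Q := act 2 n56670
theorem D57842 : act 2 n56670 = n57842 := rfl
theorem F259443 : act 4 n57842 = n57108 := d18_2 (iv F254508) D57842 (iv D57108)
theorem F259444 : act 6 n57842 = n57119 := d20_2 (iv F254509) D57842 F255886
theorem F259445 : act 8 n57842 = n56673 := d22_2 (iv F254510) D57842 (iv D56673)
def n57843 : Q := act 3 n56671
theorem D57843 : act 3 n56671 = n57843 := rfl
theorem F259446 : act 0 n57843 = n56852 := d2_1 D57843 (iv D56852) (iv F254511)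
theorem F259447 : act 1 n57843 = n56684 := d10_1 D57843 (iv D56684) (iv F254512)
theorem F259448 : act 5 n57843 = n57128 := d25_2 (iv F254515) D57843 (iv D57128)
theorem F259449 : act 6 n57843 = n56672 := d26_2 (iv F254516) D57843 (iv D56672)
theorem F259450 : act 9 n57843 = n56882 := d29_2 (iv F254517) D57843 (iv D56882)
def n57844 : Q := act 2 n56672
theorem D57844 : act 2 n56672 = n57844 := rfl
theorem F259451 : act 5 n57844 = n56673 := d19_2 (iv F254519) D57844 (iv D56673)
def n57845 : Q := act 4 n56672
theorem D57845 : act 4 n56672 = n57845 := rfl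
theorem F259452 : act 1 n57845 = n56686 := d11_1 D57845 (iv D56686) (iv F254518)
theorem F259453 : act 3 n57845 = n56708 := d24_1 D57845 (iv D56708) (iv D55405) (iv F248546) D56672
def n57846 : Q := act 1 n56673
theorem D57846 : act 1 n56673 = n57846 := rfl
theorem F259454 : act 2 n57846 = n56687 := d9_2 D56673 D57846 (iv D56687) (iv D55383) (iv F248548)
theorem F259455 : act 6 n57846 = n57131 := d13_2 (iv F254520) D57846 (iv D57131)
def n57847 : Q := act 4 n56673
theorem D57847 : act 4 n56673 = n57847 := rfl
theorem F259456 : act 2 n57847 = n56674 := d18_1 D57847 (iv D56674) D56673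
theorem F259457 : act 6 n57847 = n57115 := d31_2 (iv F254520) D57847 F255876
theorem F259458 : act 8 n57847 = n57108 := d33_2 F259445 D57847 (iv F259443)
theorem F259459 : act 9 n57847 = n57057 := d34_2 F259212 D57847 (iv F259210)
def n57848 : Q := act 8 n56675
theorem D57848 : act 8 n56675 = n57848 := rfl
theorem F259460 : act 0 n57848 = n56863 := d7_1 D57848 (iv D56863) (iv F254526)
theorem F259461 : act 2 n57848 = n56790 := d22_1 D57848 (iv D56790) (iv F254527)
theorem F259462 : act 4 n57848 = n57848 := d33_1 D57848 (iv D57848) F254529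
theorem F259463 : act 5 n57848 = n56788 := d37_1 D57848 (iv D56788) (iv F254530)
theorem F259464 : act 7 n57848 = n56677 := d42_1 D57848 (iv D56677) (iv F254531)
def n57849 : Q := act 8 n56676
theorem D57849 : act 8 n56676 = n57849 := rfl
theorem F259465 : act 4 n57849 = n57849 := d33_1 D57849 (iv D57849) F254532
theorem F259466 : act 5 n57849 = n57132 := d37_1 D57849 (iv D57132) (iv F254533)
theorem F259467 : act 6 n57849 = n56678 := d40_1 D57849 (iv D56678) (iv F254534)
theorem F259468 : act 9 n57849 = n56677 := d44_2 D56676 D57849 (iv D56677) (iv D55375) D55374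
def n57850 : Q := act 3 n56677
theorem D57850 : act 3 n56677 = n57850 := rfl
theorem F259469 : act 5 n57850 = n57133 := d25_2 (iv F254536) D57850 (iv D57133)
theorem F259470 : act 6 n57850 = n56679 := d26_2 (iv F254537) D57850 (iv D56679)
theorem F259471 : act 8 n57850 = n56684 := d28_2 D56677 D57850 (iv D56684) (iv D55381) (iv F248562)
def n57851 : Q := act 3 n56678
theorem D57851 : act 3 n56678 = n57851 := rfl
theorem F259472 : act 5 n57851 = n56680 := d25_2 (iv F254539) D57851 (iv D56680)
theorem F259473 : act 9 n57851 = n56679 := d29_2 (iv F254540) D57851 (iv D56679)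
def n57852 : Q := act 2 n56679
theorem D57852 : act 2 n56679 = n57852 := rfl
theorem F259474 : act 5 n57852 = n56681 := d19_2 (iv F254541) D57852 (iv D56681)
theorem F259475 : act 8 n57852 = n56685 := d22_2 (iv F254542) D57852 (iv D56685)
def n57853 : Q := act 4 n56679
theorem D57853 : act 4 n56679 = n57853 := rfl
theorem F259476 : act 3 n57853 = n57853 := d24_1 D57853 (iv D57853) (iv D56679) F248568 D56679
theorem F259477 : act 8 n57853 = n56686 := d33_2 (iv F254542) D57853 (iv D56686)
def n57854 : Q := act 2 n56680
theorem D57854 : act 2 n56680 = n57854 := rfl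
theorem F259478 : act 6 n57854 = n57137 := d20_2 (iv F254543) D57854 (iv D57137)
theorem F259479 : act 9 n57854 = n56681 := d23_2 (iv F254544) D57854 (iv D56681)
def n57855 : Q := act 4 n56680
theorem D57855 : act 4 n56680 = n57855 := rfl
theorem F259480 : act 0 n57855 = n57091 := d3_1 D57855 (iv F258962) F258960
theorem F259481 : act 1 n57855 = n57074 := d11_1 D57855 (iv F258887) F258886
theorem F259482 : act 3 n57855 = n56735 := d24_1 D57855 (iv D56735) (iv D55434) (iv F248570) D56680
theorem F259483 : act 6 n57855 = n57077 := d31_2 (iv F254543) D57855 F255785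
theorem F259484 : act 8 n57855 = n57058 := d33_2 F259228 D57855 (iv F259225)
theorem F259485 : act 9 n57855 = n56682 := d34_2 (iv F254544) D57855 (iv D56682)
def n57856 : Q := act 1 n56681
theorem D57856 : act 1 n56681 = n57856 := rfl
theorem F259486 : act 6 n57856 = n57138 := d13_2 (iv F254545) D57856 (iv D57138)
theorem F259487 : act 8 n57856 = n56687 := d15_2 (iv F254546) D57856 (iv D56687)
def n57857 : Q := act 4 n56681
theorem D57857 : act 4 n56681 = n57857 := rfl
theorem F259488 : act 0 n57857 = n57092 := d3_1 D57857 (iv F258968) F258967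
theorem F259489 : act 2 n57857 = n56682 := d18_1 D57857 (iv D56682) D56681
theorem F259490 : act 6 n57857 = n57114 := d31_2 (iv F254545) D57857 F255873
theorem F259491 : act 8 n57857 = n56688 := d33_2 (iv F254546) D57857 (iv D56688)
def n57858 : Q := act 5 n56682
theorem D57858 : act 5 n56682 = n57858 := rfl
theorem F259492 : act 0 n57858 = n57090 := d4_1 D57858 F255816 (iv F254547)
theorem F259493 : act 1 n57858 = n57107 := d12_1 D57858 F255861 (iv F254548)
theorem F259494 : act 3 n57858 = n56737 := d25_1 D57858 (iv D56737) (iv F254549)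
theorem F259495 : act 8 n57858 = n56689 := d37_2 (iv F254551) D57858 (iv D56689)
def n57859 : Q := act 3 n56683
theorem D57859 : act 3 n56683 = n57859 := rfl
theorem F259496 : act 5 n57859 = n57139 := d25_2 (iv F254554) D57859 (iv D57139)
theorem F259497 : act 7 n57859 = n56684 := d27_2 (iv F254555) D57859 (iv D56684)
def n57860 : Q := act 2 n56684
theorem D57860 : act 2 n56684 = n57860 := rfl
theorem F259498 : act 3 n57860 = n56691 := d17_2 D56684 D57860 (iv D56691) (iv D55387) (iv F248579)
theorem F259499 : act 5 n57860 = n57140 := d19_2 (iv F254556) D57860 (iv D57140)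
theorem F259500 : act 6 n57860 = n56685 := d20_2 (iv F254557) D57860 (iv D56685)
def n57861 : Q := act 4 n56684
theorem D57861 : act 4 n56684 = n57861 := rfl
theorem F259501 : act 3 n57861 = n56710 := d24_1 D57861 (iv D56710) (iv D55407) (iv F248580) D56684
theorem F259502 : act 6 n57861 = n56686 := d31_2 (iv F254557) D57861 (iv D56686)
def n57862 : Q := act 1 n56685
theorem D57862 : act 1 n56685 = n57862 := rfl
theorem F259503 : act 3 n57862 = n56693 := d10_2 (iv F254558) D57862 (iv D56693)
theorem F259504 : act 5 n57862 = n56687 := d12_2 (iv F254559) D57862 (iv D56687)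
def n57863 : Q := act 4 n56685
theorem D57863 : act 4 n56685 = n57863 := rfl
theorem F259505 : act 2 n57863 = n56686 := d18_1 D57863 (iv D56686) D56685
def n57864 : Q := act 5 n56686
theorem D57864 : act 5 n56686 = n57864 := rfl
theorem F259506 : act 0 n57864 = n57096 := d4_1 D57864 (iv F258977) F258975
theorem F259507 : act 3 n57864 = n56712 := d25_1 D57864 (iv D56712) (iv F254560)
theorem F259508 : act 4 n57864 = n56689 := d30_1 D57864 (iv D56689) (iv D55384) (iv F248583) D56686
theorem F259509 : act 9 n57864 = n56777 := d38_2 F259247 D57864 (iv F259246)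
def n57865 : Q := act 0 n56687
theorem D57865 : act 0 n56687 = n57865 := rfl
theorem F259510 : act 3 n57865 = n56695 := d2_2 (iv F254561) D57865 (iv D56695)
theorem F259511 : act 6 n57865 = n57145 := d5_2 (iv F254562) D57865 (iv D57145)
def n57866 : Q := act 4 n56687
theorem D57866 : act 4 n56687 = n57866 := rfl
theorem F259512 : act 1 n57866 = n56688 := d11_1 D57866 (iv D56688) D56687
theorem F259513 : act 3 n57866 = n57048 := d24_1 D57866 (iv F258715) F258714 F253738 (iv F254561)
theorem F259514 : act 6 n57866 = n57146 := d31_2 (iv F254562) D57866 (iv D57146)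
theorem F259515 : act 9 n57866 = n57060 := d34_2 F259251 D57866 (iv F259249)
def n57867 : Q := act 5 n56688
theorem D57867 : act 5 n56688 = n57867 := rfl
theorem F259516 : act 0 n57867 = n57095 := d4_1 D57867 F255828 (iv F254563)
theorem F259517 : act 2 n57867 = n56689 := d19_1 D57867 (iv D56689) (iv F254564)
theorem F259518 : act 3 n57867 = n56771 := d25_1 D57867 F254911 (iv F254565)
theorem F259519 : act 9 n57867 = n56776 := d38_2 (iv F254567) D57867 F254930
def n57868 : Q := act 2 n56690
theorem D57868 : act 2 n56690 = n57868 := rfl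
theorem F259520 : act 5 n57868 = n57148 := d19_2 (iv F254571) D57868 (iv D57148)
theorem F259521 : act 7 n57868 = n56691 := d21_2 (iv F254572) D57868 (iv D56691)
def n57869 : Q := act 4 n56690
theorem D57869 : act 4 n56690 = n57869 := rfl
theorem F259522 : act 3 n57869 = n56714 := d24_1 D57869 (iv D56714) (iv D55411) (iv F248595) D56690
theorem F259523 : act 5 n57869 = n56994 := d30_2 (iv F254571) D57869 (iv D56994) (iv F251445) F251444
theorem F259524 : act 7 n57869 = n56692 := d32_2 (iv F254572) D57869 (iv D56692)
theorem F259525 : act 8 n57869 = n57000 := d33_2 F258449 D57869 (iv F258446)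
def n57870 : Q := act 1 n56691
theorem D57870 : act 1 n56691 = n57870 := rfl
theorem F259526 : act 5 n57870 = n57149 := d12_2 (iv F254573) D57870 (iv D57149)
theorem F259527 : act 6 n57870 = n56693 := d13_2 (iv F254574) D57870 (iv D56693)
def n57871 : Q := act 4 n56691
theorem D57871 : act 4 n56691 = n57871 := rfl
theorem F259528 : act 2 n57871 = n56692 := d18_1 D57871 (iv D56692) D56691
theorem F259529 : act 6 n57871 = n56694 := d31_2 (iv F254574) D57871 (iv D56694)
def n57872 : Q := act 0 n56693
theorem D57872 : act 0 n56693 = n57872 := rfl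
theorem F259530 : act 5 n57872 = n56695 := d4_2 (iv F254577) D57872 (iv D56695)
def n57873 : Q := act 4 n56693
theorem D57873 : act 4 n56693 = n57873 := rfl
theorem F259531 : act 1 n57873 = n56694 := d11_1 D57873 (iv D56694) D56693
def n57874 : Q := act 3 n56694
theorem D57874 : act 3 n56694 = n57874 := rfl
theorem F259532 : act 2 n57874 = n56718 := d17_1 D57874 (iv D56718) F248695 (iv F248601) (iv F254578)
def n57875 : Q := act 4 n56696
theorem D57875 : act 4 n56696 = n57875 := rfl
theorem F259533 : act 1 n57875 = n56700 := d11_1 D57875 (iv D56700) (iv F254580)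
theorem F259534 : act 7 n57875 = n56708 := d32_2 (iv F254582) D57875 (iv D56708)
theorem F259535 : act 8 n57875 = n57875 := d33_2 F254583 D57875 (iv D57875)
def n57876 : Q := act 3 n56697
theorem D57876 : act 3 n56697 = n57876 := rfl
theorem F259536 : act 1 n57876 = n57163 := d10_1 D57876 (iv D57163) (iv F254584)
theorem F259537 : act 5 n57876 = n57876 := d25_2 F254586 D57876 (iv D57876)
theorem F259538 : act 6 n57876 = n56709 := d26_2 (iv F254587) D57876 (iv D56709)
theorem F259539 : act 7 n57876 = n56698 := d27_2 (iv F254588) D57876 (iv D56698)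
theorem F259540 : act 8 n57876 = n57876 := d28_2 D56697 D57876 (iv D57876) (iv D56697) F248613
theorem F259541 : act 9 n57876 = n57160 := d29_2 (iv F254589) D57876 (iv D57160)
def n57877 : Q := act 2 n56698
theorem D57877 : act 2 n56698 = n57877 := rfl
theorem F259542 : act 3 n57877 = n56702 := d17_2 D56698 D57877 (iv D56702) (iv D55399) (iv F248617)
theorem F259543 : act 5 n57877 = n57877 := d19_2 F254590 D57877 (iv D57877)
theorem F259544 : act 6 n57877 = n56699 := d20_2 (iv F254591) D57877 (iv D56699)
theorem F259545 : act 8 n57877 = n57877 := d22_2 F254592 D57877 (iv D57877)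
theorem F259546 : act 9 n57877 = n56911 := d23_2 F259273 D57877 F259274
def n57878 : Q := act 4 n56698
theorem D57878 : act 4 n56698 = n57878 := rfl
theorem F259547 : act 6 n57878 = n56700 := d31_2 (iv F254591) D57878 (iv D56700)
theorem F259548 : act 8 n57878 = n57878 := d33_2 F254592 D57878 (iv D57878)
def n57879 : Q := act 4 n56699
theorem D57879 : act 4 n56699 = n57879 := rfl
theorem F259549 : act 2 n57879 = n56700 := d18_1 D57879 (iv D56700) D56699
theorem F259550 : act 5 n57879 = n56848 := d30_2 (iv F254594) D57879 (iv D56848) F249403 F248628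
theorem F259551 : act 7 n57879 = n56711 := d32_2 (iv F254595) D57879 (iv D56711)
theorem F259552 : act 8 n57879 = n57879 := d33_2 F254596 D57879 (iv D57879)
theorem F259553 : act 9 n57879 = n56878 := d34_2 (iv F254597) D57879 F255319
def n57880 : Q := act 2 n56701
theorem D57880 : act 2 n56701 = n57880 := rfl
theorem F259554 : act 1 n57880 = n56911 := d9_1 D57880 F259274 F259268 (iv F257460) F257459
theorem F259555 : act 5 n57880 = n57880 := d19_2 F254600 D57880 (iv D57880)
theorem F259556 : act 6 n57880 = n56713 := d20_2 (iv F254601) D57880 (iv D56713)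
theorem F259557 : act 7 n57880 = n56702 := d21_2 (iv F254602) D57880 (iv D56702)
theorem F259558 : act 8 n57880 = n56721 := d22_2 (iv F254603) D57880 (iv D56721)
def n57881 : Q := act 4 n56701
theorem D57881 : act 4 n56701 = n57881 := rfl
theorem F259559 : act 6 n57881 = n56714 := d31_2 (iv F254601) D57881 (iv D56714)
theorem F259560 : act 7 n57881 = n56703 := d32_2 (iv F254602) D57881 (iv D56703)
theorem F259561 : act 8 n57881 = n56722 := d33_2 (iv F254603) D57881 (iv D56722)
def n57882 : Q := act 1 n56702
theorem D57882 : act 1 n56702 = n57882 := rfl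
theorem F259562 : act 2 n57882 = n57160 := d9_2 D56702 D57882 F255971 (iv F252047) F252046
theorem F259563 : act 5 n57882 = n57882 := d12_2 F254604 D57882 (iv D57882)
theorem F259564 : act 6 n57882 = n56704 := d13_2 (iv F254605) D57882 (iv D56704)
theorem F259565 : act 7 n57882 = n56911 := d14_2 F259557 D57882 (iv F259554)
theorem F259566 : act 8 n57882 = n56723 := d15_2 (iv F254606) D57882 (iv D56723)
def n57883 : Q := act 4 n56702
theorem D57883 : act 4 n56702 = n57883 := rfl
theorem F259567 : act 2 n57883 = n56703 := d18_1 D57883 (iv D56703) D56702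
theorem F259568 : act 6 n57883 = n56705 := d31_2 (iv F254605) D57883 (iv D56705)
theorem F259569 : act 8 n57883 = n56724 := d33_2 (iv F254606) D57883 (iv D56724)
def n57884 : Q := act 5 n56703
theorem D57884 : act 5 n56703 = n57884 := rfl
theorem F259570 : act 4 n57884 = n57884 := d30_1 D57884 (iv D57884) (iv D56703) F248639 D56703
theorem F259571 : act 8 n57884 = n56725 := d37_2 (iv F254608) D57884 (iv D56725)
def n57885 : Q := act 0 n56704
theorem D57885 : act 0 n56704 = n57885 := rfl
theorem F259572 : act 1 n57885 = n57151 := d0_2 D56704 D57885 (iv F256568) F256569 F254037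
theorem F259573 : act 2 n57885 = n56793 := d1_2 F257472 D57885 (iv F257471)
theorem F259574 : act 5 n57885 = n56706 := d4_2 (iv F254609) D57885 (iv D56706)
theorem F259575 : act 7 n57885 = n56716 := d6_2 (iv F254610) D57885 (iv D56716)
theorem F259576 : act 8 n57885 = n56726 := d7_2 (iv F254611) D57885 (iv D56726)
def n57886 : Q := act 4 n56704
theorem D57886 : act 4 n56704 = n57886 := rfl
theorem F259577 : act 1 n57886 = n56705 := d11_1 D57886 (iv D56705) D56704
theorem F259578 : act 5 n57886 = n57067 := d30_2 (iv F254609) D57886 (iv D57067) F250103 (iv F248647)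
theorem F259579 : act 7 n57886 = n56717 := d32_2 (iv F254610) D57886 (iv D56717)
theorem F259580 : act 8 n57886 = n56727 := d33_2 (iv F254611) D57886 (iv D56727)
def n57887 : Q := act 3 n56705
theorem D57887 : act 3 n56705 = n57887 := rfl
theorem F259581 : act 5 n57887 = n57071 := d25_2 (iv F254613) D57887 F255772
theorem F259582 : act 7 n57887 = n56718 := d27_2 (iv F254614) D57887 (iv D56718)
def n57888 : Q := act 4 n56709
theorem D57888 : act 4 n56709 = n57888 := rfl
theorem F259583 : act 7 n57888 = n56710 := d32_2 (iv F254632) D57888 (iv D56710)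
theorem F259584 : act 8 n57888 = n57888 := d33_2 F254633 D57888 (iv D57888)
def n57889 : Q := act 5 n56710
theorem D57889 : act 5 n56710 = n57889 := rfl
theorem F259585 : act 2 n57889 = n56913 := d19_1 D57889 (iv F259318) F259317
theorem F259586 : act 4 n57889 = n56720 := d30_1 D57889 (iv D56720) (iv D55419) (iv F248670) D56710
theorem F259587 : act 8 n57889 = n57889 := d37_2 F254635 D57889 (iv D57889)
def n57890 : Q := act 3 n56711
theorem D57890 : act 3 n56711 = n57890 := rfl
theorem F259588 : act 4 n57890 = n56718 := d24_2 D56711 D57890 (iv D56718) (iv D55415) (iv F248673)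
theorem F259589 : act 5 n57890 = n56859 := d25_2 (iv F254637) D57890 F255263
theorem F259590 : act 9 n57890 = n56902 := d29_2 (iv F254639) D57890 F255379
def n57891 : Q := act 4 n56713
theorem D57891 : act 4 n56713 = n57891 := rfl
theorem F259591 : act 1 n57891 = n56878 := d11_1 D57891 F255319 F254648
theorem F259592 : act 2 n57891 = n56714 := d18_1 D57891 (iv D56714) D56713
theorem F259593 : act 5 n57891 = n56870 := d30_2 (iv F254645) D57891 (iv D56870) F249496 (iv F248716)
theorem F259594 : act 7 n57891 = n56715 := d32_2 (iv F254646) D57891 (iv D56715)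
theorem F259595 : act 8 n57891 = n56729 := d33_2 (iv F254647) D57891 (iv D56729)
def n57892 : Q := act 3 n56715
theorem D57892 : act 3 n56715 = n57892 := rfl
theorem F259596 : act 1 n57892 = n56902 := d10_1 D57892 F255379 (iv F254652)
theorem F259597 : act 5 n57892 = n56889 := d25_2 (iv F254654) D57892 F255355
theorem F259598 : act 6 n57892 = n56718 := d26_2 (iv F254655) D57892 (iv D56718)
def n57893 : Q := act 4 n56716
theorem D57893 : act 4 n56716 = n57893 := rfl
theorem F259599 : act 0 n57893 = n56717 := d3_1 D57893 (iv D56717) D56716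
theorem F259600 : act 1 n57893 = n57156 := d11_1 D57893 (iv D57156) (iv F254657)
theorem F259601 : act 2 n57893 = n56803 := d18_1 D57893 (iv D56803) (iv F254658)
theorem F259602 : act 5 n57893 = n57155 := d30_2 (iv F254659) D57893 (iv D57155) F250310 (iv F248699)
theorem F259603 : act 6 n57893 = n56809 := d31_2 (iv F254660) D57893 F255056
theorem F259604 : act 8 n57893 = n56731 := d33_2 (iv F254661) D57893 (iv D56731)
def n57894 : Q := act 3 n56717
theorem D57894 : act 3 n56717 = n57894 := rfl
theorem F259605 : act 1 n57894 = n56718 := d10_1 D57894 (iv D56718) (iv F254662)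
theorem F259606 : act 6 n57894 = n56902 := d26_2 (iv F254663) D57894 F255379
def n57895 : Q := act 8 n56718
theorem D57895 : act 8 n56718 = n57895 := rfl
theorem F259607 : act 3 n57895 = n56733 := d28_1 D57895 (iv D56733) (iv D55432) (iv F248696) D56718
def n57896 : Q := act 5 n56719
theorem D57896 : act 5 n56719 = n57896 := rfl
theorem F259608 : act 2 n57896 = n56909 := d19_1 D57896 F255399 (iv F254665)
theorem F259609 : act 3 n57896 = n57151 := d25_1 D57896 F255940 (iv F254666)
theorem F259610 : act 7 n57896 = n56720 := d36_2 (iv F254668) D57896 (iv D56720)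
theorem F259611 : act 8 n57896 = n57896 := d37_2 F254669 D57896 (iv D57896)
theorem F259612 : act 9 n57896 = n57066 := d38_2 (iv F254670) D57896 F255763
def n57897 : Q := act 4 n56721
theorem D57897 : act 4 n56721 = n57897 := rfl
theorem F259613 : act 1 n57897 = n56920 := d11_1 D57897 F255434 F254679
theorem F259614 : act 2 n57897 = n56722 := d18_1 D57897 (iv D56722) D56721
theorem F259615 : act 6 n57897 = n56729 := d31_2 (iv F254676) D57897 (iv D56729)
theorem F259616 : act 7 n57897 = n56724 := d32_2 (iv F254677) D57897 (iv D56724)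
theorem F259617 : act 9 n57897 = n57897 := d34_2 F254678 D57897 (iv D57897)
def n57898 : Q := act 0 n56723
theorem D57898 : act 0 n56723 = n57898 := rfl
theorem F259618 : act 1 n57898 = n56824 := d0_2 D56723 D57898 (iv F256702) F256703 F254056
theorem F259619 : act 2 n57898 = n56817 := d1_2 (iv F254684) D57898 F255085
theorem F259620 : act 3 n57898 = n57898 := d2_2 F254685 D57898 (iv D57898)
theorem F259621 : act 5 n57898 = n57898 := d4_2 F254686 D57898 (iv D57898)
theorem F259622 : act 6 n57898 = n56726 := d5_2 (iv F254687) D57898 (iv D56726)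
theorem F259623 : act 7 n57898 = n56830 := d6_2 (iv F254688) D57898 F255147
theorem F259624 : act 9 n57898 = n57898 := d8_2 F254689 D57898 (iv D57898)
def n57899 : Q := act 4 n56723
theorem D57899 : act 4 n56723 = n57899 := rfl
theorem F259625 : act 1 n57899 = n56724 := d11_1 D57899 (iv D56724) D56723
theorem F259626 : act 2 n57899 = n57161 := d18_1 D57899 (iv D57161) (iv F254684)
theorem F259627 : act 6 n57899 = n56727 := d31_2 (iv F254687) D57899 (iv D56727)
theorem F259628 : act 7 n57899 = n56920 := d32_2 (iv F254688) D57899 F255434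
theorem F259629 : act 9 n57899 = n57899 := d34_2 F254689 D57899 (iv D57899)
def n57900 : Q := act 3 n56724
theorem D57900 : act 3 n56724 = n57900 := rfl
theorem F259630 : act 4 n57900 = n57900 := d24_2 D56724 D57900 (iv D57900) (iv D56724) F248725
theorem F259631 : act 6 n57900 = n56728 := d26_2 (iv F254691) D57900 (iv D56728)
theorem F259632 : act 9 n57900 = n57900 := d29_2 F254692 D57900 (iv D57900)
def n57901 : Q := act 5 n56724
theorem D57901 : act 5 n56724 = n57901 := rfl
theorem F259633 : act 2 n57901 = n56725 := d19_1 D57901 (iv D56725) (iv F254690)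
theorem F259634 : act 4 n57901 = n57901 := d30_1 D57901 (iv D57901) (iv D56724) F248726 D56724
theorem F259635 : act 6 n57901 = n56743 := d35_2 (iv F254691) D57901 (iv D56743) F248847 (iv F248736)
theorem F259636 : act 9 n57901 = n57901 := d38_2 F254692 D57901 (iv D57901)
def n57902 : Q := act 4 n56726
theorem D57902 : act 4 n56726 = n57902 := rfl
theorem F259637 : act 0 n57902 = n56727 := d3_1 D57902 (iv D56727) D56726
theorem F259638 : act 1 n57902 = n57171 := d11_1 D57902 F256001 (iv F254695)
theorem F259639 : act 2 n57902 = n56819 := d18_1 D57902 (iv D56819) (iv F254696)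
theorem F259640 : act 5 n57902 = n57159 := d30_2 (iv F254698) D57902 (iv D57159) F250348 (iv F248742)
theorem F259641 : act 7 n57902 = n56731 := d32_2 (iv F254699) D57902 (iv D56731)
theorem F259642 : act 9 n57902 = n57902 := d34_2 F254700 D57902 (iv D57902)
def n57903 : Q := act 3 n56727
theorem D57903 : act 3 n56727 = n57903 := rfl
theorem F259643 : act 1 n57903 = n56728 := d10_1 D57903 (iv D56728) (iv F254701)
theorem F259644 : act 4 n57903 = n57903 := d24_2 D56727 D57903 (iv D57903) (iv D56727) F248731
theorem F259645 : act 5 n57903 = n57161 := d25_2 (iv F254702) D57903 F255975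
theorem F259646 : act 7 n57903 = n56732 := d27_2 (iv F254703) D57903 (iv D56732)
theorem F259647 : act 9 n57903 = n57903 := d29_2 F254704 D57903 (iv D57903)
def n57904 : Q := act 8 n56728
theorem D57904 : act 8 n56728 = n57904 := rfl
theorem F259648 : act 4 n57904 = n57904 := d33_1 D57904 (iv D57904) F254705
theorem F259649 : act 5 n57904 = n57164 := d37_1 D57904 F255982 (iv F254706)
theorem F259650 : act 7 n57904 = n56733 := d42_1 D57904 (iv D56733) (iv F254707)
def n57905 : Q := act 3 n56729
theorem D57905 : act 3 n56729 = n57905 := rfl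
theorem F259651 : act 0 n57905 = n56743 := d2_1 D57905 F256640 F256634
theorem F259652 : act 1 n57905 = n56919 := d10_1 D57905 F255430 (iv F254709)
theorem F259653 : act 2 n57905 = n56955 := d17_1 D57905 F255527 F249805 (iv F248751) (iv F254710)
theorem F259654 : act 4 n57905 = n57905 := d24_2 D56729 D57905 (iv D57905) (iv D56729) F248746
theorem F259655 : act 5 n57905 = n56739 := d25_2 (iv F254711) D57905 F254760
theorem F259656 : act 7 n57905 = n56730 := d27_2 (iv F254712) D57905 (iv D56730)
theorem F259657 : act 9 n57905 = n57905 := d29_2 F254713 D57905 (iv D57905)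
def n57906 : Q := act 8 n56730
theorem D57906 : act 8 n56730 = n57906 := rfl
theorem F259658 : act 1 n57906 = n56924 := d15_1 D57906 F255445 (iv F254714)
theorem F259659 : act 4 n57906 = n57906 := d33_1 D57906 (iv D57906) F254715
theorem F259660 : act 5 n57906 = n56922 := d37_1 D57906 F255441 (iv F254716)
theorem F259661 : act 6 n57906 = n56733 := d40_1 D57906 (iv D56733) (iv F254717)
def n57907 : Q := act 3 n56731
theorem D57907 : act 3 n56731 = n57907 := rfl
theorem F259662 : act 0 n57907 = n56732 := d2_1 D57907 (iv D56732) (iv F254719)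
theorem F259663 : act 1 n57907 = n57170 := d10_1 D57907 F255997 (iv F254720)
theorem F259664 : act 4 n57907 = n57907 := d24_2 D56731 D57907 (iv D57907) (iv D56731) F248762
theorem F259665 : act 5 n57907 = n57166 := d25_2 (iv F254722) D57907 F255986
theorem F259666 : act 6 n57907 = n56828 := d26_2 (iv F254723) D57907 F255138
theorem F259667 : act 9 n57907 = n57907 := d29_2 F254724 D57907 (iv D57907)
def n57908 : Q := act 2 n56732
theorem D57908 : act 2 n56732 = n57908 := rfl
theorem F259668 : act 4 n57908 = n57908 := d18_2 F254726 D57908 (iv D57908)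
theorem F259669 : act 5 n57908 = n56920 := d19_2 F257575 D57908 (iv F257572)
theorem F259670 : act 6 n57908 = n56916 := d20_2 (iv F254727) D57908 F255421
theorem F259671 : act 9 n57908 = n57908 := d23_2 F254728 D57908 (iv D57908)
def n57909 : Q := act 8 n56732
theorem D57909 : act 8 n56732 = n57909 := rfl
theorem F259672 : act 1 n57909 = n56733 := d15_1 D57909 (iv D56733) (iv F254725)
theorem F259673 : act 4 n57909 = n57909 := d33_1 D57909 (iv D57909) F254726
theorem F259674 : act 6 n57909 = n56924 := d40_1 D57909 F255445 (iv F254727)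
def n57910 : Q := act 9 n56733
theorem D57910 : act 9 n56733 = n57910 := rfl
theorem F259675 : act 4 n57910 = n57910 := d34_1 D57910 (iv D57910) F254729
theorem F259676 : act 8 n57910 = n57910 := d44_1 D57910 (iv D57910) (iv D56733) F248770 D56733
def n57911 : Q := act 4 n56734
theorem D57911 : act 4 n56734 = n57911 := rfl
theorem F259677 : act 0 n57911 = n57068 := d3_1 D57911 F255768 (iv F254730)
theorem F259678 : act 1 n57911 = n56839 := d11_1 D57911 F255188 (iv F254731)
theorem F259679 : act 2 n57911 = n56735 := d18_1 D57911 (iv D56735) D56734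
theorem F259680 : act 6 n57911 = n56843 := d31_2 (iv F254733) D57911 F255207
theorem F259681 : act 8 n57911 = n56744 := d33_2 (iv F254734) D57911 (iv D56744)
theorem F259682 : act 9 n57911 = n56736 := d34_2 (iv F254735) D57911 (iv D56736)
def n57912 : Q := act 3 n56736
theorem D57912 : act 3 n56736 = n57912 := rfl
theorem F259683 : act 0 n57912 = n57069 := d2_1 D57912 (iv D57069) (iv F254741)
theorem F259684 : act 1 n57912 = n56864 := d10_1 D57912 (iv D56864) (iv F254742)
theorem F259685 : act 6 n57912 = n56869 := d26_2 (iv F254744) D57912 (iv D56869)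
theorem F259686 : act 8 n57912 = n57044 := d28_2 (iv F254745) D57912 (iv D57044) (iv D55787) (iv F248795)
def n57913 : Q := act 5 n56736
theorem D57913 : act 5 n56736 = n57913 := rfl
theorem F259687 : act 0 n57913 = n56846 := d4_1 D57913 F255224 (iv F254741)
theorem F259688 : act 1 n57913 = n56863 := d12_1 D57913 F255278 (iv F254742)
theorem F259689 : act 2 n57913 = n56737 := d19_1 D57913 (iv D56737) (iv F254743)
theorem F259690 : act 4 n57913 = n57913 := d30_1 D57913 (iv D57913) (iv D56736) F248785 D56736
theorem F259691 : act 7 n57913 = n56782 := d36_2 F256479 D57913 (iv F256477)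
theorem F259692 : act 8 n57913 = n56738 := d37_2 (iv F254745) D57913 (iv D56738)
def n57914 : Q := act 2 n56740
theorem D57914 : act 2 n56740 = n57914 := rfl
theorem F259693 : act 0 n57914 = n56741 := d1_1 D57914 (iv D56741) (iv F254764)
theorem F259694 : act 1 n57914 = n56830 := d9_1 D57914 F255148 F250370 (iv F249277) (iv F254765)
theorem F259695 : act 3 n57914 = n57914 := d17_2 D56740 D57914 (iv D57914) (iv D56740) F248824
theorem F259696 : act 5 n57914 = n57914 := d19_2 F254766 D57914 (iv D57914)
theorem F259697 : act 6 n57914 = n56829 := d20_2 (iv F254767) D57914 F255143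
theorem F259698 : act 7 n57914 = n56824 := d21_2 (iv F254768) D57914 (iv D56824)
theorem F259699 : act 9 n57914 = n57914 := d23_2 F254769 D57914 (iv D57914)
def n57915 : Q := act 4 n56740
theorem D57915 : act 4 n56740 = n57915 := rfl
theorem F259700 : act 0 n57915 = n56742 := d3_1 D57915 (iv D56742) (iv F254764)
theorem F259701 : act 1 n57915 = n56821 := d11_1 D57915 (iv D56821) (iv F254765)
theorem F259702 : act 3 n57915 = n56819 := d24_1 D57915 (iv D56819) (iv D55538) (iv F248825) D56740
theorem F259703 : act 6 n57915 = n57159 := d31_2 (iv F254767) D57915 (iv D57159)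
theorem F259704 : act 7 n57915 = n56825 := d32_2 (iv F254768) D57915 (iv D56825)
theorem F259705 : act 9 n57915 = n57915 := d34_2 F254769 D57915 (iv D57915)
def n57916 : Q := act 4 n56741
theorem D57916 : act 4 n56741 = n57916 := rfl
theorem F259706 : act 2 n57916 = n56742 := d18_1 D57916 (iv D56742) D56741
theorem F259707 : act 6 n57916 = n57162 := d31_2 (iv F254772) D57916 (iv D57162)
theorem F259708 : act 9 n57916 = n57916 := d34_2 F254773 D57916 (iv D57916)
def n57917 : Q := act 5 n56742
theorem D57917 : act 5 n56742 = n57917 := rfl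
theorem F259709 : act 1 n57917 = n56743 := d12_1 D57917 (iv D56743) (iv F254774)
theorem F259710 : act 3 n57917 = n57162 := d25_1 D57917 (iv F257515) F257514
theorem F259711 : act 4 n57917 = n57917 := d30_1 D57917 (iv D57917) (iv D56742) F248839 D56742
theorem F259712 : act 9 n57917 = n57917 := d38_2 F254776 D57917 (iv D57917)
def n57918 : Q := act 2 n56745
theorem D57918 : act 2 n56745 = n57918 := rfl
theorem F259713 : act 0 n57918 = n56753 := d1_1 D57918 (iv D56753) (iv F254784)
theorem F259714 : act 4 n57918 = n56750 := d18_2 (iv F254786) D57918 (iv D56750)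
theorem F259715 : act 5 n57918 = n56960 := d19_2 (iv F254787) D57918 (iv D56960)
theorem F259716 : act 7 n57918 = n56749 := d21_2 (iv F254788) D57918 (iv D56749)
theorem F259717 : act 8 n57918 = n56800 := d22_2 (iv F254789) D57918 (iv D56800)
theorem F259718 : act 9 n57918 = n56746 := d23_2 (iv F254790) D57918 (iv D56746)
def n57919 : Q := act 1 n56746
theorem D57919 : act 1 n56746 = n57919 := rfl
theorem F259719 : act 2 n57919 = n56949 := d9_2 D56746 D57919 (iv D56949) (iv D55682) (iv F248902)
theorem F259720 : act 4 n57919 = n56763 := d11_2 (iv F254792) D57919 (iv D56763)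
theorem F259721 : act 5 n57919 = n56966 := d12_2 (iv F254793) D57919 (iv D56966)
theorem F259722 : act 8 n57919 = n56778 := d15_2 (iv F254794) D57919 (iv D56778)
def n57920 : Q := act 2 n56747
theorem D57920 : act 2 n56747 = n57920 := rfl
theorem F259723 : act 0 n57920 = n56948 := d1_1 D57920 (iv D56948) (iv F254795)
theorem F259724 : act 4 n57920 = n56762 := d18_2 (iv F254797) D57920 (iv D56762)
theorem F259725 : act 5 n57920 = n56929 := d19_2 (iv F254798) D57920 (iv D56929)
theorem F259726 : act 7 n57920 = n56937 := d21_2 (iv F254799) D57920 (iv D56937)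
theorem F259727 : act 8 n57920 = n56781 := d22_2 (iv F254800) D57920 (iv D56781)
theorem F259728 : act 9 n57920 = n56939 := d23_2 (iv F254801) D57920 (iv D56939)
def n57921 : Q := act 2 n56748
theorem D57921 : act 2 n56748 = n57921 := rfl
theorem F259729 : act 0 n57921 = n56762 := d1_1 D57921 (iv D56762) (iv F254802)
theorem F259730 : act 4 n57921 = n56948 := d18_2 (iv F254804) D57921 (iv D56948)
theorem F259731 : act 5 n57921 = n56749 := d19_2 (iv F254805) D57921 (iv D56749)
theorem F259732 : act 7 n57921 = n56960 := d21_2 (iv F254806) D57921 (iv D56960)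
theorem F259733 : act 8 n57921 = n56810 := d22_2 (iv F254807) D57921 (iv D56810)
theorem F259734 : act 9 n57921 = n56962 := d23_2 (iv F254808) D57921 (iv D56962)
def n57922 : Q := act 1 n56749
theorem D57922 : act 1 n56749 = n57922 := rfl
theorem F259735 : act 4 n57922 = n57003 := d11_2 (iv F254810) D57922 (iv D57003)
theorem F259736 : act 8 n57922 = n56811 := d15_2 (iv F254811) D57922 (iv D56811)
def n57923 : Q := act 1 n56750
theorem D57923 : act 1 n56750 = n57923 := rfl
theorem F259737 : act 2 n57923 = n56974 := d9_2 D56750 D57923 (iv D56974) (iv D55709) (iv F248921)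
theorem F259738 : act 5 n57923 = n56984 := d12_2 (iv F254812) D57923 (iv D56984)
theorem F259739 : act 7 n57923 = n57003 := d14_2 (iv F254813) D57923 (iv D57003)
theorem F259740 : act 8 n57923 = n57124 := d15_2 (iv F254814) D57923 (iv D57124)
theorem F259741 : act 9 n57923 = n56763 := d16_2 (iv F254815) D57923 (iv D56763)
def n57924 : Q := act 2 n56751
theorem D57924 : act 2 n56751 = n57924 := rfl
theorem F259742 : act 4 n57924 = n56760 := d18_2 (iv F254817) D57924 (iv D56760)
theorem F259743 : act 6 n57924 = n56753 := d20_2 (iv F254818) D57924 (iv D56753)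
theorem F259744 : act 8 n57924 = n56867 := d22_2 (iv F254819) D57924 (iv D56867)
theorem F259745 : act 9 n57924 = n57002 := d23_2 (iv F254820) D57924 (iv D57002)
def n57925 : Q := act 2 n56752
theorem D57925 : act 2 n56752 = n57925 := rfl
theorem F259746 : act 3 n57925 = n56753 := d17_2 D56752 D57925 (iv D56753) (iv D55463) (iv F248930)
theorem F259747 : act 5 n57925 = n56971 := d19_2 (iv F254821) D57925 (iv D56971)
theorem F259748 : act 7 n57925 = n56760 := d21_2 (iv F254822) D57925 (iv D56760)
theorem F259749 : act 9 n57925 = n56996 := d23_2 (iv F254823) D57925 (iv D56996)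
def n57926 : Q := act 1 n56753
theorem D57926 : act 1 n56753 = n57926 := rfl
theorem F259750 : act 2 n57926 = n56984 := d9_2 D56753 D57926 (iv D56984) (iv D55720) (iv F248935)
theorem F259751 : act 5 n57926 = n56974 := d12_2 (iv F254824) D57926 (iv D56974)
theorem F259752 : act 7 n57926 = n56763 := d14_2 (iv F254825) D57926 (iv D56763)
theorem F259753 : act 8 n57926 = n56880 := d15_2 (iv F254826) D57926 (iv D56880)
theorem F259754 : act 9 n57926 = n57003 := d16_2 (iv F254827) D57926 (iv D57003)
def n57927 : Q := act 3 n56754
theorem D57927 : act 3 n56754 = n57927 := rfl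
theorem F259755 : act 1 n57927 = n56759 := d10_1 D57927 (iv D56759) (iv F254828)
theorem F259756 : act 5 n57927 = n56755 := d25_2 (iv F254831) D57927 (iv D56755)
theorem F259757 : act 7 n57927 = n56967 := d27_2 (iv F254832) D57927 (iv D56967)
theorem F259758 : act 8 n57927 = n57019 := d28_2 D56754 D57927 (iv D57019) (iv D55761) (iv F248942)
theorem F259759 : act 9 n57927 = n56980 := d29_2 (iv F254833) D57927 (iv D56980)
def n57928 : Q := act 2 n56755
theorem D57928 : act 2 n56755 = n57928 := rfl
theorem F259760 : act 3 n57928 = n56989 := d17_2 D56755 D57928 (iv D56989) (iv D55725) (iv F248947)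
theorem F259761 : act 4 n57928 = n56979 := d18_2 (iv F254835) D57928 (iv D56979)
theorem F259762 : act 6 n57928 = n56939 := d20_2 (iv F254836) D57928 (iv D56939)
theorem F259763 : act 8 n57928 = n57020 := d22_2 (iv F254837) D57928 (iv D57020)
def n57929 : Q := act 3 n56756
theorem D57929 : act 3 n56756 = n57929 := rfl
theorem F259764 : act 0 n57929 = n57109 := d2_1 D57929 (iv D57109) (iv F254838)
theorem F259765 : act 1 n57929 = n57019 := d10_1 D57929 (iv D57019) (iv F254839)
theorem F259766 : act 5 n57929 = n56757 := d25_2 (iv F254842) D57929 (iv D56757)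
theorem F259767 : act 6 n57929 = n57050 := d26_2 (iv F254843) D57929 (iv D57050)
theorem F259768 : act 7 n57929 = n56970 := d27_2 (iv F254844) D57929 (iv D56970)
theorem F259769 : act 8 n57929 = n56759 := d28_2 D56756 D57929 (iv D56759) (iv D55469) (iv F248953)
def n57930 : Q := act 2 n56757
theorem D57930 : act 2 n56757 = n57930 := rfl
theorem F259770 : act 0 n57930 = n57123 := d1_1 D57930 (iv D57123) (iv F254845)
theorem F259771 : act 3 n57930 = n56894 := d17_2 D56757 D57930 (iv D56894) (iv D55615) (iv F248960)
theorem F259772 : act 4 n57930 = n56867 := d18_2 (iv F254847) D57930 (iv D56867)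
theorem F259773 : act 6 n57930 = n56772 := d20_2 (iv F254848) D57930 (iv D56772)
theorem F259774 : act 8 n57930 = n56760 := d22_2 (iv F254849) D57930 (iv D56760)
def n57931 : Q := act 3 n56758
theorem D57931 : act 3 n56758 = n57931 := rfl
theorem F259775 : act 0 n57931 = n56978 := d2_1 D57931 (iv D56978) (iv F254850)
theorem F259776 : act 5 n57931 = n56961 := d25_2 (iv F254853) D57931 (iv D56961)
theorem F259777 : act 6 n57931 = n56759 := d26_2 (iv F254854) D57931 (iv D56759)
theorem F259778 : act 8 n57931 = n57050 := d28_2 D56758 D57931 (iv D57050) (iv D55793) (iv F248965)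
theorem F259779 : act 9 n57931 = n56976 := d29_2 (iv F254855) D57931 (iv D56976)
def n57932 : Q := act 2 n56759
theorem D57932 : act 2 n56759 = n57932 := rfl
theorem F259780 : act 3 n57932 = n56762 := d17_2 D56759 D57932 (iv D56762) (iv D55472) (iv F248969)
theorem F259781 : act 5 n57932 = n56760 := d19_2 (iv F254856) D57932 (iv D56760)
theorem F259782 : act 7 n57932 = n56971 := d21_2 (iv F254857) D57932 (iv D56971)
theorem F259783 : act 9 n57932 = n56982 := d23_2 (iv F254858) D57932 (iv D56982)
def n57933 : Q := act 4 n56759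
theorem D57933 : act 4 n56759 = n57933 := rfl
theorem F259784 : act 3 n57933 = n56766 := d24_1 D57933 (iv D56766) (iv D55477) (iv F248970) D56759
theorem F259785 : act 7 n57933 = n56972 := d32_2 (iv F254857) D57933 (iv D56972)
theorem F259786 : act 9 n57933 = n56983 := d34_2 (iv F254858) D57933 (iv D56983)
def n57934 : Q := act 1 n56760
theorem D57934 : act 1 n56760 = n57934 := rfl
theorem F259787 : act 3 n57934 = n56763 := d10_2 (iv F254859) D57934 (iv D56763)
def n57935 : Q := act 2 n56761
theorem D57935 : act 2 n56761 = n57935 := rfl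
theorem F259788 : act 6 n57935 = n56762 := d20_2 (iv F254861) D57935 (iv D56762)
theorem F259789 : act 8 n57935 = n56904 := d22_2 (iv F254862) D57935 (iv D56904)
theorem F259790 : act 9 n57935 = n56979 := d23_2 (iv F254863) D57935 (iv D56979)
def n57936 : Q := act 1 n56762
theorem D57936 : act 1 n56762 = n57936 := rfl
theorem F259791 : act 2 n57936 = n57003 := d9_2 D56762 D57936 (iv D57003) (iv D55736) (iv F248978)
theorem F259792 : act 5 n57936 = n56763 := d12_2 (iv F254864) D57936 (iv D56763)
theorem F259793 : act 7 n57936 = n56974 := d14_2 (iv F254865) D57936 (iv D56974)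
theorem F259794 : act 8 n57936 = n56905 := d15_2 (iv F254866) D57936 (iv D56905)
theorem F259795 : act 9 n57936 = n56984 := d16_2 (iv F254867) D57936 (iv D56984)
def n57937 : Q := act 0 n56763
theorem D57937 : act 0 n56763 = n57937 := rfl
theorem F259796 : act 2 n57937 = n57004 := d1_2 (iv F254868) D57937 (iv D57004)
theorem F259797 : act 8 n57937 = n56906 := d7_2 (iv F254869) D57937 (iv D56906)
def n57938 : Q := act 4 n56764
theorem D57938 : act 4 n56764 = n57938 := rfl
theorem F259798 : act 1 n57938 = n56766 := d11_1 D57938 (iv D56766) (iv F254870)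
theorem F259799 : act 7 n57938 = n56968 := d32_2 (iv F254872) D57938 (iv D56968)
theorem F259800 : act 8 n57938 = n57938 := d33_2 F254873 D57938 (iv D57938)
theorem F259801 : act 9 n57938 = n56981 := d34_2 (iv F254874) D57938 (iv D56981)
def n57939 : Q := act 4 n56765
theorem D57939 : act 4 n56765 = n57939 := rfl
theorem F259802 : act 2 n57939 = n56968 := d18_1 D57939 (iv D56968) (iv F254875)
theorem F259803 : act 6 n57939 = n56766 := d31_2 (iv F254877) D57939 (iv D56766)
theorem F259804 : act 8 n57939 = n57939 := d33_2 F254878 D57939 (iv D57939)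
theorem F259805 : act 9 n57939 = n56977 := d34_2 (iv F254879) D57939 (iv D56977)
def n57940 : Q := act 3 n56767
theorem D57940 : act 3 n56767 = n57940 := rfl
theorem F259806 : act 0 n57940 = n56847 := d2_1 D57940 (iv D56847) (iv F254883)
theorem F259807 : act 5 n57940 = n57044 := d25_2 (iv F254886) D57940 (iv D57044)
theorem F259808 : act 7 n57940 = n56783 := d27_2 (iv F254887) D57940 (iv D56783)
theorem F259809 : act 9 n57940 = n56797 := d29_2 (iv F254888) D57940 (iv D56797)
def n57941 : Q := act 4 n56768
theorem D57941 : act 4 n56768 = n57941 := rfl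
theorem F259810 : act 0 n57941 = n56848 := d3_1 D57941 (iv D56848) (iv F254889)
theorem F259811 : act 2 n57941 = n56836 := d18_1 D57941 (iv D56836) (iv F254890)
theorem F259812 : act 7 n57941 = n56784 := d32_2 (iv F254892) D57941 (iv D56784)
theorem F259813 : act 8 n57941 = n57941 := d33_2 F254893 D57941 (iv D57941)
theorem F259814 : act 9 n57941 = n56798 := d34_2 (iv F254894) D57941 (iv D56798)
def n57942 : Q := act 2 n56769
theorem D57942 : act 2 n56769 = n57942 := rfl
theorem F259815 : act 0 n57942 = n56849 := d1_1 D57942 (iv D56849) (iv F254895)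
theorem F259816 : act 4 n57942 = n56837 := d18_2 (iv F254897) D57942 (iv D56837)
theorem F259817 : act 5 n57942 = n57046 := d19_2 (iv F254898) D57942 (iv D57046)
theorem F259818 : act 7 n57942 = n56785 := d21_2 (iv F254899) D57942 (iv D56785)
theorem F259819 : act 8 n57942 = n56771 := d22_2 (iv F254900) D57942 (iv D56771)
theorem F259820 : act 9 n57942 = n56800 := d23_2 (iv F254901) D57942 (iv D56800)
def n57943 : Q := act 2 n56770
theorem D57943 : act 2 n56770 = n57943 := rfl
theorem F259821 : act 0 n57943 = n56837 := d1_1 D57943 (iv D56837) (iv F254902)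
theorem F259822 : act 4 n57943 = n56849 := d18_2 (iv F254904) D57943 (iv D56849)
theorem F259823 : act 5 n57943 = n57047 := d19_2 (iv F254905) D57943 (iv D57047)
theorem F259824 : act 7 n57943 = n56771 := d21_2 (iv F254906) D57943 (iv D56771)
theorem F259825 : act 8 n57943 = n56785 := d22_2 (iv F254907) D57943 (iv D56785)
theorem F259826 : act 9 n57943 = n56772 := d23_2 (iv F254908) D57943 (iv D56772)
def n57944 : Q := act 1 n56771
theorem D57944 : act 1 n56771 = n57944 := rfl
theorem F259827 : act 2 n57944 = n57015 := d9_2 D56771 D57944 (iv D57015) (iv D55757) (iv F249029)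
theorem F259828 : act 4 n57944 = n56862 := d11_2 (iv F254910) D57944 (iv D56862)
theorem F259829 : act 5 n57944 = n57048 := d12_2 (iv F254911) D57944 (iv D57048)
theorem F259830 : act 9 n57944 = n56778 := d16_2 (iv F254912) D57944 (iv D56778)
def n57945 : Q := act 1 n56772
theorem D57945 : act 1 n56772 = n57945 := rfl
theorem F259831 : act 2 n57945 = n57029 := d9_2 D56772 D57945 (iv D57029) (iv D55771) (iv F249034)
theorem F259832 : act 4 n57945 = n56880 := d11_2 (iv F254914) D57945 (iv D56880)
theorem F259833 : act 5 n57945 = n57054 := d12_2 (iv F254915) D57945 (iv D57054)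
theorem F259834 : act 7 n57945 = n56778 := d14_2 (iv F254916) D57945 (iv D56778)
def n57946 : Q := act 3 n56773
theorem D57946 : act 3 n56773 = n57946 := rfl
theorem F259835 : act 0 n57946 = n56774 := d2_1 D57946 (iv D56774) (iv F254917)
theorem F259836 : act 1 n57946 = n57126 := d10_1 D57946 (iv D57126) (iv F254918)
theorem F259837 : act 5 n57946 = n57055 := d25_2 (iv F254921) D57946 (iv D57055)
theorem F259838 : act 6 n57946 = n56857 := d26_2 (iv F254922) D57946 (iv D56857)
theorem F259839 : act 9 n57946 = n56897 := d29_2 (iv F254923) D57946 (iv D56897)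
def n57947 : Q := act 2 n56774
theorem D57947 : act 2 n56774 = n57947 := rfl
theorem F259840 : act 3 n57947 = n57033 := d17_2 D56774 D57947 (iv D57033) (iv D55775) (iv F249051)
theorem F259841 : act 5 n57947 = n57057 := d19_2 (iv F254925) D57947 (iv D57057)
def n57948 : Q := act 4 n56774
theorem D57948 : act 4 n56774 = n57948 := rfl
theorem F259842 : act 1 n57948 = n56777 := d11_1 D57948 (iv D56777) (iv F254924)
theorem F259843 : act 3 n57948 = n56775 := d24_1 D57948 (iv D56775) (iv D55488) (iv F249052) D56774
def n57949 : Q := act 1 n56776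
theorem D57949 : act 1 n56776 = n57949 := rfl
theorem F259844 : act 3 n57949 = n56778 := d10_2 (iv F254929) D57949 (iv D56778)
theorem F259845 : act 5 n57949 = n57060 := d12_2 (iv F254930) D57949 (iv D57060)
def n57950 : Q := act 4 n56776
theorem D57950 : act 4 n56776 = n57950 := rfl
theorem F259846 : act 0 n57950 = n57143 := d3_1 D57950 (iv D57143) (iv F254928)
theorem F259847 : act 2 n57950 = n56777 := d18_1 D57950 (iv D56777) D56776
theorem F259848 : act 3 n57950 = n56901 := d24_1 D57950 (iv D56901) F249577 (iv F249063) (iv F254929)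
def n57951 : Q := act 0 n56778
theorem D57951 : act 0 n56778 = n57951 := rfl
theorem F259849 : act 1 n57951 = n57150 := d0_2 D56778 D57951 (iv D57150) (iv D55887) (iv F249062)
theorem F259850 : act 2 n57951 = n57040 := d1_2 (iv F254933) D57951 (iv D57040)
theorem F259851 : act 4 n57951 = n56906 := d3_2 (iv F254934) D57951 (iv D56906)
theorem F259852 : act 5 n57951 = n57061 := d4_2 (iv F254935) D57951 (iv D57061)
def n57952 : Q := act 2 n56780
theorem D57952 : act 2 n56780 = n57952 := rfl
theorem F259853 : act 0 n57952 = n57028 := d1_1 D57952 (iv D57028) (iv F254943)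
theorem F259854 : act 4 n57952 = n56879 := d18_2 (iv F254945) D57952 (iv D56879)
theorem F259855 : act 5 n57952 = n57009 := d19_2 (iv F254946) D57952 (iv D57009)
theorem F259856 : act 7 n57952 = n56781 := d21_2 (iv F254947) D57952 (iv D56781)
theorem F259857 : act 8 n57952 = n56937 := d22_2 (iv F254948) D57952 (iv D56937)
theorem F259858 : act 9 n57952 = n57011 := d23_2 (iv F254949) D57952 (iv D57011)
def n57953 : Q := act 1 n56781
theorem D57953 : act 1 n56781 = n57953 := rfl
theorem F259859 : act 2 n57953 = n56811 := d9_2 D56781 D57953 (iv D56811) (iv D55528) (iv F249095)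
theorem F259860 : act 4 n57953 = n56905 := d11_2 (iv F254951) D57953 (iv D56905)
theorem F259861 : act 5 n57953 = n57010 := d12_2 (iv F254952) D57953 (iv D57010)
def n57954 : Q := act 3 n56782
theorem D57954 : act 3 n56782 = n57954 := rfl
theorem F259862 : act 0 n57954 = n56856 := d2_1 D57954 (iv D56856) (iv F254953)
theorem F259863 : act 8 n57954 = n56783 := d28_2 D56782 D57954 (iv D56783) (iv D55500) (iv F249099)
def n57955 : Q := act 2 n56783
theorem D57955 : act 2 n56783 = n57955 := rfl
theorem F259864 : act 0 n57955 = n56858 := d1_1 D57955 (iv D56858) (iv F254955)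
theorem F259865 : act 3 n57955 = n56785 := d17_2 D56783 D57955 (iv D56785) (iv D55502) (iv F249102)
theorem F259866 : act 9 n57955 = n56807 := d23_2 (iv F254956) D57955 (iv D56807)
def n57956 : Q := act 4 n56783
theorem D57956 : act 4 n56783 = n57956 := rfl
theorem F259867 : act 0 n57956 = n56859 := d3_1 D57956 (iv D56859) (iv F254955)
theorem F259868 : act 3 n57956 = n56784 := d24_1 D57956 (iv D56784) (iv D55501) (iv F249103) D56783
theorem F259869 : act 9 n57956 = n56808 := d34_2 (iv F254956) D57956 (iv D56808)
def n57957 : Q := act 1 n56785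
theorem D57957 : act 1 n56785 = n57957 := rfl
theorem F259870 : act 4 n57957 = n57100 := d11_2 (iv F254962) D57957 (iv D57100)
theorem F259871 : act 9 n57957 = n56811 := d16_2 (iv F254963) D57957 (iv D56811)
def n57958 : Q := act 8 n56786
theorem D57958 : act 8 n56786 = n57958 := rfl
theorem F259872 : act 0 n57958 = n57064 := d7_1 D57958 (iv D57064) (iv F254964)
theorem F259873 : act 1 n57958 = n56788 := d15_1 D57958 (iv D56788) (iv F254965)
theorem F259874 : act 4 n57958 = n56787 := d33_1 D57958 (iv D56787) (iv F254967)
theorem F259875 : act 6 n57958 = n56792 := d40_1 D57958 (iv D56792) (iv F254968)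
theorem F259876 : act 7 n57958 = n57121 := d42_1 D57958 F255895 (iv F254969)
def n57959 : Q := act 3 n56787
theorem D57959 : act 3 n56787 = n57959 := rfl
theorem F259877 : act 0 n57959 = n57160 := d2_1 D57959 (iv D57160) (iv F254970)
theorem F259878 : act 1 n57959 = n56789 := d10_1 D57959 (iv D56789) (iv F254971)
theorem F259879 : act 5 n57959 = n57959 := d25_2 F254972 D57959 (iv D57959)
theorem F259880 : act 6 n57959 = n56793 := d26_2 (iv F254973) D57959 (iv D56793)
theorem F259881 : act 7 n57959 = n57154 := d27_2 (iv F254974) D57959 F255952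
theorem F259882 : act 8 n57959 = n56817 := d28_2 D56787 D57959 (iv D56817) (iv D55536) (iv F249126)
def n57960 : Q := act 3 n56788
theorem D57960 : act 3 n56788 = n57960 := rfl
theorem F259883 : act 0 n57960 = n56864 := d2_1 D57960 (iv D56864) (iv F254975)
theorem F259884 : act 6 n57960 = n56797 := d26_2 (iv F254978) D57960 (iv D56797)
theorem F259885 : act 7 n57960 = n57133 := d27_2 (iv F254979) D57960 (iv D57133)
theorem F259886 : act 8 n57960 = n57139 := d28_2 D56788 D57960 (iv D57139) (iv D55878) (iv F249132)
def n57961 : Q := act 4 n56789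
theorem D57961 : act 4 n56789 = n57961 := rfl
theorem F259887 : act 0 n57961 = n56865 := d3_1 D57961 (iv D56865) (iv F254980)
theorem F259888 : act 2 n57961 = n56827 := d18_1 D57961 (iv D56827) (iv F254981)
theorem F259889 : act 6 n57961 = n56798 := d31_2 (iv F254983) D57961 (iv D56798)
theorem F259890 : act 7 n57961 = n57168 := d32_2 (iv F254984) D57961 (iv D57168)
theorem F259891 : act 8 n57961 = n56818 := d33_2 (iv F254985) D57961 (iv D56818)
def n57962 : Q := act 3 n56790
theorem D57962 : act 3 n56790 = n57962 := rfl
theorem F259892 : act 0 n57962 = n56866 := d2_1 D57962 (iv D56866) (iv F254986)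
theorem F259893 : act 5 n57962 = n56791 := d25_2 (iv F254988) D57962 (iv D56791)
def n57963 : Q := act 2 n56791
theorem D57963 : act 2 n56791 = n57963 := rfl
theorem F259894 : act 0 n57963 = n56867 := d1_1 D57963 (iv D56867) (iv F254989)
theorem F259895 : act 4 n57963 = n57123 := d18_2 (iv F254990) D57963 (iv D57123)
theorem F259896 : act 6 n57963 = n56800 := d20_2 (iv F254991) D57963 (iv D56800)
def n57964 : Q := act 3 n56792
theorem D57964 : act 3 n56792 = n57964 := rfl
theorem F259897 : act 1 n57964 = n56797 := d10_1 D57964 (iv D56797) (iv F254992)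
theorem F259898 : act 7 n57964 = n56802 := d27_2 (iv F254994) D57964 (iv D56802)
def n57965 : Q := act 4 n56793
theorem D57965 : act 4 n56793 = n57965 := rfl
theorem F259899 : act 1 n57965 = n56798 := d11_1 D57965 (iv D56798) (iv F254995)
theorem F259900 : act 7 n57965 = n56803 := d32_2 (iv F254997) D57965 (iv D56803)
theorem F259901 : act 8 n57965 = n56819 := d33_2 (iv F254998) D57965 (iv D56819)
def n57966 : Q := act 8 n56794
theorem D57966 : act 8 n56794 = n57966 := rfl
theorem F259902 : act 0 n57966 = n56872 := d7_1 D57966 (iv D56872) (iv F254999)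
theorem F259903 : act 2 n57966 = n56957 := d22_1 D57966 (iv D56957) (iv F255000)
theorem F259904 : act 4 n57966 = n57966 := d33_1 D57966 (iv D57966) F255002
theorem F259905 : act 5 n57966 = n56795 := d37_1 D57966 (iv D56795) (iv F255003)
theorem F259906 : act 7 n57966 = n56804 := d42_1 D57966 (iv D56804) (iv F255004)
def n57967 : Q := act 3 n56795
theorem D57967 : act 3 n56795 = n57967 := rfl
theorem F259907 : act 0 n57967 = n56874 := d2_1 D57967 (iv D56874) (iv F255005)
theorem F259908 : act 6 n57967 = n57139 := d26_2 (iv F255008) D57967 (iv D57139)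
theorem F259909 : act 7 n57967 = n56805 := d27_2 (iv F255009) D57967 (iv D56805)
theorem F259910 : act 8 n57967 = n56797 := d28_2 D56795 D57967 (iv D56797) (iv D55515) (iv F249160)
def n57968 : Q := act 3 n56796
theorem D57968 : act 3 n56796 = n57968 := rfl
theorem F259911 : act 0 n57968 = n56875 := d2_1 D57968 (iv D56875) (iv F255010)
theorem F259912 : act 5 n57968 = n56797 := d25_2 (iv F255013) D57968 (iv D56797)
theorem F259913 : act 7 n57968 = n56806 := d27_2 (iv F255014) D57968 (iv D56806)
theorem F259914 : act 9 n57968 = n57044 := d29_2 (iv F255015) D57968 (iv D57044)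
def n57969 : Q := act 2 n56797
theorem D57969 : act 2 n56797 = n57969 := rfl
theorem F259915 : act 0 n57969 = n56876 := d1_1 D57969 (iv D56876) (iv F255016)
theorem F259916 : act 3 n57969 = n56800 := d17_2 D56797 D57969 (iv D56800) (iv D55518) (iv F249170)
theorem F259917 : act 7 n57969 = n56807 := d21_2 (iv F255017) D57969 (iv D56807)
def n57970 : Q := act 4 n56797
theorem D57970 : act 4 n56797 = n57970 := rfl
theorem F259918 : act 0 n57970 = n56877 := d3_1 D57970 (iv D56877) (iv F255016)
theorem F259919 : act 3 n57970 = n56798 := d24_1 D57970 (iv D56798) (iv D55516) (iv F249171) D56797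
theorem F259920 : act 7 n57970 = n56808 := d32_2 (iv F255017) D57970 (iv D56808)
def n57971 : Q := act 5 n56798
theorem D57971 : act 5 n56798 = n57971 := rfl
theorem F259921 : act 0 n57971 = n56878 := d4_1 D57971 (iv D56878) (iv F255018)
theorem F259922 : act 2 n57971 = n57153 := d19_1 D57971 (iv D57153) (iv F255019)
theorem F259923 : act 4 n57971 = n56814 := d30_1 D57971 (iv D56814) (iv D55532) (iv F249175) D56798
theorem F259924 : act 7 n57971 = n56809 := d36_2 (iv F255020) D57971 (iv D56809)
theorem F259925 : act 8 n57971 = n56822 := d37_2 (iv F255021) D57971 (iv D56822)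
def n57972 : Q := act 2 n56799
theorem D57972 : act 2 n56799 = n57972 := rfl
theorem F259926 : act 0 n57972 = n56879 := d1_1 D57972 (iv D56879) (iv F255022)
theorem F259927 : act 4 n57972 = n57028 := d18_2 (iv F255024) D57972 (iv D57028)
theorem F259928 : act 5 n57972 = n56800 := d19_2 (iv F255025) D57972 (iv D56800)
theorem F259929 : act 7 n57972 = n56810 := d21_2 (iv F255026) D57972 (iv D56810)
theorem F259930 : act 8 n57972 = n56960 := d22_2 (iv F255027) D57972 (iv D56960)
theorem F259931 : act 9 n57972 = n57046 := d23_2 (iv F255028) D57972 (iv D57046)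
def n57973 : Q := act 1 n56800
theorem D57973 : act 1 n56800 = n57973 := rfl
theorem F259932 : act 4 n57973 = n57124 := d11_2 (iv F255030) D57973 (iv D57124)
theorem F259933 : act 7 n57973 = n56811 := d14_2 (iv F255031) D57973 (iv D56811)
def n57974 : Q := act 3 n56801
theorem D57974 : act 3 n56801 = n57974 := rfl
theorem F259934 : act 1 n57974 = n56805 := d10_1 D57974 (iv D56805) (iv F255032)
theorem F259935 : act 6 n57974 = n57113 := d26_2 (iv F255034) D57974 (iv D57113)
theorem F259936 : act 8 n57974 = n56802 := d28_2 D56801 D57974 (iv D56802) (iv D55520) (iv F249188)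
def n57975 : Q := act 2 n56802
theorem D57975 : act 2 n56802 = n57975 := rfl
theorem F259937 : act 6 n57975 = n57147 := d20_2 (iv F255036) D57975 F255936
def n57976 : Q := act 4 n56802
theorem D57976 : act 4 n56802 = n57976 := rfl
theorem F259938 : act 1 n57976 = n56808 := d11_1 D57976 (iv D56808) (iv F255035)
theorem F259939 : act 3 n57976 = n56803 := d24_1 D57976 (iv D56803) (iv D55521) (iv F249192) D56802
theorem F259940 : act 6 n57976 = n57144 := d31_2 (iv F255036) D57976 F255933
def n57977 : Q := act 5 n56803
theorem D57977 : act 5 n56803 = n57977 := rfl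
theorem F259941 : act 1 n57977 = n56809 := d12_1 D57977 (iv D56809) (iv F255037)
theorem F259942 : act 2 n57977 = n57155 := d19_1 D57977 (iv F259602) F259601
theorem F259943 : act 4 n57977 = n56815 := d30_1 D57977 (iv D56815) (iv D55533) (iv F249195) D56803
theorem F259944 : act 6 n57977 = n57156 := d35_2 (iv F255038) D57977 F255959 F250321 D55900
theorem F259945 : act 8 n57977 = n56826 := d37_2 (iv F255039) D57977 (iv D56826)
def n57978 : Q := act 3 n56804
theorem D57978 : act 3 n56804 = n57978 := rfl
theorem F259946 : act 0 n57978 = n56892 := d2_1 D57978 (iv D56892) (iv F255040)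
theorem F259947 : act 5 n57978 = n56805 := d25_2 (iv F255043) D57978 (iv D56805)
theorem F259948 : act 6 n57978 = n57107 := d26_2 (iv F255044) D57978 (iv D57107)
theorem F259949 : act 8 n57978 = n56806 := d28_2 D56804 D57978 (iv D56806) (iv D55524) (iv F249200)
def n57979 : Q := act 2 n56805
theorem D57979 : act 2 n56805 = n57979 := rfl
theorem F259950 : act 0 n57979 = n56894 := d1_1 D57979 (iv D56894) (iv F255045)
theorem F259951 : act 3 n57979 = n57123 := d17_2 D56805 D57979 (iv D57123) (iv D55863) (iv F249205)
theorem F259952 : act 6 n57979 = n57116 := d20_2 (iv F255046) D57979 (iv D57116)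
theorem F259953 : act 8 n57979 = n56807 := d22_2 (iv F255047) D57979 (iv D56807)
def n57980 : Q := act 4 n56805
theorem D57980 : act 4 n56805 = n57980 := rfl
theorem F259954 : act 0 n57980 = n56895 := d3_1 D57980 (iv D56895) (iv F255045)
theorem F259955 : act 3 n57980 = n56827 := d24_1 D57980 (iv D56827) (iv D55545) (iv F249206) D56805
theorem F259956 : act 6 n57980 = n57117 := d31_2 (iv F255046) D57980 (iv D57117)
theorem F259957 : act 8 n57980 = n56808 := d33_2 (iv F255047) D57980 (iv D56808)
def n57981 : Q := act 2 n56806
theorem D57981 : act 2 n56806 = n57981 := rfl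
theorem F259958 : act 0 n57981 = n56898 := d1_1 D57981 (iv D56898) (iv F255048)
theorem F259959 : act 3 n57981 = n56810 := d17_2 D56806 D57981 (iv D56810) (iv D55527) (iv F249209)
theorem F259960 : act 5 n57981 = n56807 := d19_2 (iv F255049) D57981 (iv D56807)
def n57982 : Q := act 4 n56806
theorem D57982 : act 4 n56806 = n57982 := rfl
theorem F259961 : act 0 n57982 = n56899 := d3_1 D57982 (iv D56899) (iv F255048)
theorem F259962 : act 3 n57982 = n56816 := d24_1 D57982 (iv D56816) (iv D55534) (iv F249210) D56806
def n57983 : Q := act 1 n56807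
theorem D57983 : act 1 n56807 = n57983 := rfl
theorem F259963 : act 3 n57983 = n56811 := d10_2 (iv F255051) D57983 (iv D56811)
def n57984 : Q := act 4 n56807
theorem D57984 : act 4 n56807 = n57984 := rfl
theorem F259964 : act 0 n57984 = n56901 := d3_1 D57984 (iv D56901) (iv F255050)
theorem F259965 : act 2 n57984 = n56808 := d18_1 D57984 (iv D56808) D56807
theorem F259966 : act 3 n57984 = n57143 := d24_1 D57984 (iv D57143) F250280 (iv F249221) (iv F255051)
def n57985 : Q := act 5 n56808
theorem D57985 : act 5 n56808 = n57985 := rfl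
theorem F259967 : act 0 n57985 = n56902 := d4_1 D57985 (iv D56902) (iv F255052)
theorem F259968 : act 3 n57985 = n56809 := d25_1 D57985 (iv D56809) (iv F255053)
def n57986 : Q := act 1 n56810
theorem D57986 : act 1 n56810 = n57986 := rfl
theorem F259969 : act 2 n57986 = n57010 := d9_2 D56810 D57986 (iv D57010) (iv D55752) (iv F249217)
theorem F259970 : act 4 n57986 = n57039 := d11_2 (iv F255059) D57986 (iv D57039)
theorem F259971 : act 5 n57986 = n56811 := d12_2 (iv F255060) D57986 (iv D56811)
def n57987 : Q := act 0 n56811
theorem D57987 : act 0 n56811 = n57987 := rfl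
theorem F259972 : act 1 n57987 = n56906 := d0_2 D56811 D57987 (iv D56906) (iv D55625) (iv F249220)
theorem F259973 : act 4 n57987 = n57150 := d3_2 (iv F255061) D57987 (iv D57150)
def n57988 : Q := act 5 n56812
theorem D57988 : act 5 n56812 = n57988 := rfl
theorem F259974 : act 0 n57988 = n57066 := d4_1 D57988 F255763 (iv F255062)
theorem F259975 : act 1 n57988 = n56814 := d12_1 D57988 (iv D56814) (iv F255063)
theorem F259976 : act 2 n57988 = n57063 := d19_1 D57988 F255757 (iv F255064)
theorem F259977 : act 7 n57988 = n56815 := d36_2 (iv F255066) D57988 (iv D56815)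
theorem F259978 : act 8 n57988 = n56829 := d37_2 (iv F255067) D57988 (iv D56829)
def n57989 : Q := act 4 n56813
theorem D57989 : act 4 n56813 = n57989 := rfl
theorem F259979 : act 0 n57989 = n56910 := d3_1 D57989 (iv D56910) (iv F255068)
theorem F259980 : act 2 n57989 = n57042 := d18_1 D57989 (iv D57042) (iv F255069)
theorem F259981 : act 7 n57989 = n56816 := d32_2 (iv F255071) D57989 (iv D56816)
theorem F259982 : act 8 n57989 = n57989 := d33_2 F255072 D57989 (iv D57989)
theorem F259983 : act 9 n57989 = n57045 := d34_2 (iv F255073) D57989 (iv D57045)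
def n57990 : Q := act 6 n56814
theorem D57990 : act 6 n56814 = n57990 := rfl
theorem F259984 : act 0 n57990 = n56911 := d5_1 D57990 (iv D56911) (iv F255074)
theorem F259985 : act 2 n57990 = n57154 := d20_1 D57990 (iv D57154) (iv F255075)
theorem F259986 : act 5 n57990 = n57990 := d35_1 D57990 (iv D57990) (iv D56814) F249239 D56814
theorem F259987 : act 8 n57990 = n56830 := d40_2 (iv F255077) D57990 (iv D56830)
def n57991 : Q := act 4 n56817
theorem D57991 : act 4 n56817 = n57991 := rfl
theorem F259988 : act 0 n57991 = n57161 := d3_1 D57991 (iv D57161) (iv F255085)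
theorem F259989 : act 1 n57991 = n56818 := d11_1 D57991 (iv D56818) (iv F255086)
theorem F259990 : act 3 n57991 = n57159 := d24_1 D57991 (iv D57159) (iv D55906) (iv F249256) D56817
theorem F259991 : act 6 n57991 = n56819 := d31_2 (iv F255088) D57991 (iv D56819)
theorem F259992 : act 7 n57991 = n57166 := d32_2 (iv F255089) D57991 (iv D57166)
theorem F259993 : act 9 n57991 = n57991 := d34_2 F255090 D57991 (iv D57991)
def n57992 : Q := act 5 n56818
theorem D57992 : act 5 n56818 = n57992 := rfl
theorem F259994 : act 0 n57992 = n56916 := d4_1 D57992 (iv D56916) (iv F255091)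
theorem F259995 : act 2 n57992 = n56828 := d19_1 D57992 (iv D56828) (iv F255092)
theorem F259996 : act 3 n57992 = n57171 := d25_1 D57992 (iv D57171) (iv F255093)
theorem F259997 : act 4 n57992 = n57992 := d30_1 D57992 (iv D57992) (iv D56818) F249263 D56818
theorem F259998 : act 7 n57992 = n57170 := d36_2 (iv F255095) D57992 (iv D57170)
theorem F259999 : act 9 n57992 = n57992 := d38_2 F255096 D57992 (iv D57992)
def n57993 : Q := act 5 n56819
theorem D57993 : act 5 n56819 = n57993 := rfl
theorem F260000 : act 0 n57993 = n57162 := d4_1 D57993 (iv F257515) F257511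
theorem F260001 : act 1 n57993 = n56822 := d12_1 D57993 (iv D56822) (iv F255097)
theorem F260002 : act 2 n57993 = n57159 := d19_1 D57993 (iv F259640) F259639
theorem F260003 : act 4 n57993 = n56829 := d30_1 D57993 (iv D56829) (iv D55548) (iv F249268) D56819
theorem F260004 : act 7 n57993 = n56826 := d36_2 (iv F255098) D57993 (iv D56826)
theorem F260005 : act 9 n57993 = n57993 := d38_2 F255099 D57993 (iv D57993)
def n57994 : Q := act 4 n56820
theorem D57994 : act 4 n56820 = n57994 := rfl
theorem F260006 : act 0 n57994 = n56918 := d3_1 D57994 (iv D56918) (iv F255100)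
theorem F260007 : act 2 n57994 = n57168 := d18_1 D57994 (iv D57168) (iv F255101)
theorem F260008 : act 6 n57994 = n57157 := d31_2 (iv F255103) D57994 (iv D57157)
theorem F260009 : act 7 n57994 = n56827 := d32_2 (iv F255104) D57994 (iv D56827)
theorem F260010 : act 8 n57994 = n56821 := d33_2 (iv F255105) D57994 (iv D56821)
def n57995 : Q := act 5 n56821
theorem D57995 : act 5 n56821 = n57995 := rfl
theorem F260011 : act 0 n57995 = n56919 := d4_1 D57995 (iv D56919) (iv F255106)
theorem F260012 : act 2 n57995 = n57170 := d19_1 D57995 (iv D57170) (iv F255107)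
theorem F260013 : act 3 n57995 = n56822 := d25_1 D57995 (iv D56822) (iv F255108)
theorem F260014 : act 4 n57995 = n57995 := d30_1 D57995 (iv D57995) (iv D56821) F249278 D56821
theorem F260015 : act 7 n57995 = n56828 := d36_2 (iv F255110) D57995 (iv D56828)
theorem F260016 : act 9 n57995 = n57995 := d38_2 F255111 D57995 (iv D57995)
def n57996 : Q := act 6 n56822
theorem D57996 : act 6 n56822 = n57996 := rfl
theorem F260017 : act 0 n57996 = n56920 := d5_1 D57996 (iv D56920) (iv F255112)
theorem F260018 : act 2 n57996 = n57166 := d20_1 D57996 F255987 (iv F255113)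
theorem F260019 : act 4 n57996 = n56830 := d31_1 D57996 (iv D56830) (iv F255114)
theorem F260020 : act 9 n57996 = n57996 := d41_2 F255116 D57996 (iv D57996)
def n57997 : Q := act 2 n56823
theorem D57997 : act 2 n56823 = n57997 := rfl
theorem F260021 : act 5 n57997 = n57997 := d19_2 F255118 D57997 (iv D57997)
theorem F260022 : act 6 n57997 = n57151 := d20_2 (iv F255119) D57997 (iv D57151)
theorem F260023 : act 8 n57997 = n56824 := d22_2 (iv F255120) D57997 (iv D56824)
def n57998 : Q := act 4 n56823
theorem D57998 : act 4 n56823 = n57998 := rfl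
theorem F260024 : act 1 n57998 = n56827 := d11_1 D57998 (iv D56827) (iv F255117)
theorem F260025 : act 6 n57998 = n57152 := d31_2 (iv F255119) D57998 (iv D57152)
theorem F260026 : act 8 n57998 = n56825 := d33_2 (iv F255120) D57998 (iv D56825)
def n57999 : Q := act 4 n56824
theorem D57999 : act 4 n56824 = n57999 := rfl
theorem F260027 : act 2 n57999 = n56825 := d18_1 D57999 (iv D56825) D56824
theorem F260028 : act 6 n57999 = n57171 := d31_2 (iv F255123) D57999 F256001
theorem F260029 : act 9 n57999 = n57999 := d34_2 F255124 D57999 (iv D57999)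
def n58000 : Q := act 5 n56825
theorem D58000 : act 5 n56825 = n58000 := rfl
theorem F260030 : act 1 n58000 = n56828 := d12_1 D58000 (iv D56828) (iv F255125)
theorem F260031 : act 3 n58000 = n56826 := d25_1 D58000 (iv D56826) (iv F255126)
theorem F260032 : act 4 n58000 = n58000 := d30_1 D58000 (iv D58000) (iv D56825) F249290 D56825
theorem F260033 : act 6 n58000 = n57170 := d35_2 (iv F255127) D58000 (iv D57170) F250390 D55923
theorem F260034 : act 9 n58000 = n58000 := d38_2 F255128 D58000 (iv D58000)
def n58001 : Q := act 5 n56827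
theorem D58001 : act 5 n56827 = n58001 := rfl
theorem F260035 : act 0 n58001 = n56924 := d4_1 D58001 (iv D56924) (iv F255134)
theorem F260036 : act 4 n58001 = n58001 := d30_1 D58001 (iv D58001) (iv D56827) F249297 D56827
theorem F260037 : act 8 n58001 = n56828 := d37_2 (iv F255136) D58001 (iv D56828)
def n58002 : Q := act 3 n56832
theorem D58002 : act 3 n56832 = n58002 := rfl
theorem F260038 : act 1 n58002 = n56835 := d10_1 D58002 (iv D56835) (iv F255158)
theorem F260039 : act 5 n58002 = n57077 := d25_2 (iv F255161) D58002 (iv D57077)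
theorem F260040 : act 7 n58002 = n57085 := d27_2 (iv F255162) D58002 (iv D57085)
theorem F260041 : act 9 n58002 = n57113 := d29_2 (iv F255163) D58002 (iv D57113)
def n58003 : Q := act 2 n56833
theorem D58003 : act 2 n56833 = n58003 := rfl
theorem F260042 : act 3 n58003 = n57066 := d17_2 D56833 D58003 (iv D57066) (iv D55809) (iv F249337)
theorem F260043 : act 5 n58003 = n57102 := d19_2 (iv F255165) D58003 (iv D57102)
theorem F260044 : act 7 n58003 = n57103 := d21_2 (iv F255166) D58003 (iv D57103)
theorem F260045 : act 8 n58003 = n58003 := d22_2 F255167 D58003 (iv D58003)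
theorem F260046 : act 9 n58003 = n57151 := d23_2 (iv F255168) D58003 (iv D57151)
def n58004 : Q := act 4 n56833
theorem D58004 : act 4 n56833 = n58004 := rfl
theorem F260047 : act 1 n58004 = n56836 := d11_1 D58004 (iv D56836) (iv F255164)
theorem F260048 : act 5 n58004 = n57169 := d30_2 (iv F255165) D58004 (iv D57169) F250385 (iv F250184)
theorem F260049 : act 7 n58004 = n57104 := d32_2 (iv F255166) D58004 (iv D57104)
theorem F260050 : act 8 n58004 = n58004 := d33_2 F255167 D58004 (iv D58004)
theorem F260051 : act 9 n58004 = n57152 := d34_2 (iv F255168) D58004 (iv D57152)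
def n58005 : Q := act 3 n56834
theorem D58005 : act 3 n56834 = n58005 := rfl
theorem F260052 : act 5 n58005 = n57078 := d25_2 (iv F255171) D58005 (iv D57078)
theorem F260053 : act 7 n58005 = n57090 := d27_2 (iv F255172) D58005 (iv D57090)
theorem F260054 : act 8 n58005 = n56835 := d28_2 D56834 D58005 (iv D56835) (iv D55555) (iv F249342)
def n58006 : Q := act 2 n56835
theorem D58006 : act 2 n56835 = n58006 := rfl
theorem F260055 : act 3 n58006 = n56837 := d17_2 D56835 D58006 (iv D56837) (iv D55557) (iv F249346)
theorem F260056 : act 5 n58006 = n57079 := d19_2 (iv F255173) D58006 (iv D57079)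
theorem F260057 : act 7 n58006 = n57095 := d21_2 (iv F255174) D58006 (iv D57095)
theorem F260058 : act 9 n58006 = n57116 := d23_2 (iv F255175) D58006 (iv D57116)
def n58007 : Q := act 4 n56835
theorem D58007 : act 4 n56835 = n58007 := rfl
theorem F260059 : act 3 n58007 = n56836 := d24_1 D58007 (iv D56836) (iv D55556) (iv F249347) D56835
theorem F260060 : act 7 n58007 = n57096 := d32_2 (iv F255174) D58007 (iv D57096)
theorem F260061 : act 9 n58007 = n57117 := d34_2 (iv F255175) D58007 (iv D57117)
def n58008 : Q := act 1 n56837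
theorem D58008 : act 1 n56837 = n58008 := rfl
theorem F260062 : act 2 n58008 = n57072 := d9_2 D56837 D58008 (iv D57072) (iv D55814) (iv F249355)
theorem F260063 : act 5 n58008 = n57080 := d12_2 (iv F255179) D58008 (iv D57080)
theorem F260064 : act 7 n58008 = n57100 := d14_2 (iv F255180) D58008 (iv D57100)
theorem F260065 : act 8 n58008 = n56862 := d15_2 (iv F255181) D58008 (iv D56862)
theorem F260066 : act 9 n58008 = n57124 := d16_2 (iv F255182) D58008 (iv D57124)
def n58009 : Q := act 8 n56838
theorem D58009 : act 8 n56838 = n58009 := rfl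
theorem F260067 : act 2 n58009 = n57088 := d22_1 D58009 (iv D57088) (iv F255183)
theorem F260068 : act 4 n58009 = n58009 := d33_1 D58009 (iv D58009) F255185
theorem F260069 : act 6 n58009 = n56846 := d40_1 D58009 (iv D56846) (iv F255186)
def n58010 : Q := act 3 n56839
theorem D58010 : act 3 n56839 = n58010 := rfl
theorem F260070 : act 6 n58010 = n56847 := d26_2 (iv F255189) D58010 (iv D56847)
theorem F260071 : act 9 n58010 = n56864 := d29_2 (iv F255190) D58010 (iv D56864)
def n58011 : Q := act 4 n56840
theorem D58011 : act 4 n56840 = n58011 := rfl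
theorem F260072 : act 2 n58011 = n56923 := d18_1 D58011 (iv D56923) (iv F255191)
theorem F260073 : act 6 n58011 = n56848 := d31_2 (iv F255193) D58011 (iv D56848)
theorem F260074 : act 8 n58011 = n58011 := d33_2 F255194 D58011 (iv D58011)
theorem F260075 : act 9 n58011 = n56865 := d34_2 (iv F255195) D58011 (iv D56865)
def n58012 : Q := act 2 n56841
theorem D58012 : act 2 n56841 = n58012 := rfl
theorem F260076 : act 6 n58012 = n56849 := d20_2 (iv F255197) D58012 (iv D56849)
theorem F260077 : act 8 n58012 = n57099 := d22_2 (iv F255198) D58012 (iv D57099)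
theorem F260078 : act 9 n58012 = n56867 := d23_2 (iv F255199) D58012 (iv D56867)
def n58013 : Q := act 8 n56842
theorem D58013 : act 8 n56842 = n58013 := rfl
theorem F260079 : act 1 n58013 = n56846 := d15_1 D58013 (iv D56846) (iv F255200)
theorem F260080 : act 4 n58013 = n58013 := d33_1 D58013 (iv D58013) F255202
theorem F260081 : act 5 n58013 = n57064 := d37_1 D58013 (iv D57064) (iv F255203)
theorem F260082 : act 7 n58013 = n56850 := d42_1 D58013 (iv D56850) (iv F255204)
def n58014 : Q := act 3 n56843
theorem D58014 : act 3 n56843 = n58014 := rfl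
theorem F260083 : act 1 n58014 = n56847 := d10_1 D58014 (iv D56847) (iv F255205)
theorem F260084 : act 5 n58014 = n57065 := d25_2 (iv F255208) D58014 (iv D57065)
theorem F260085 : act 7 n58014 = n56852 := d27_2 (iv F255209) D58014 (iv D56852)
theorem F260086 : act 9 n58014 = n56869 := d29_2 (iv F255210) D58014 (iv D56869)
def n58015 : Q := act 4 n56844
theorem D58015 : act 4 n56844 = n58015 := rfl
theorem F260087 : act 1 n58015 = n56848 := d11_1 D58015 (iv D56848) (iv F255211)
theorem F260088 : act 2 n58015 = n57006 := d18_1 D58015 (iv D57006) (iv F255212)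
theorem F260089 : act 7 n58015 = n56853 := d32_2 (iv F255214) D58015 (iv D56853)
theorem F260090 : act 8 n58015 = n58015 := d33_2 F255215 D58015 (iv D58015)
theorem F260091 : act 9 n58015 = n56870 := d34_2 (iv F255216) D58015 (iv D56870)
def n58016 : Q := act 8 n56845
theorem D58016 : act 8 n56845 = n58016 := rfl
theorem F260092 : act 2 n58016 = n57089 := d22_1 D58016 (iv D57089) (iv F255217)
theorem F260093 : act 4 n58016 = n58016 := d33_1 D58016 (iv D58016) F255219
theorem F260094 : act 5 n58016 = n57068 := d37_1 D58016 (iv D57068) (iv F255220)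
theorem F260095 : act 7 n58016 = n56855 := d42_1 D58016 (iv D56855) (iv F255221)
theorem F260096 : act 9 n58016 = n56846 := d44_2 D56845 D58016 (iv D56846) (iv D55566) D55565
def n58017 : Q := act 3 n56846
theorem D58017 : act 3 n56846 = n58017 := rfl
theorem F260097 : act 5 n58017 = n57069 := d25_2 (iv F255224) D58017 (iv D57069)
theorem F260098 : act 7 n58017 = n56856 := d27_2 (iv F255225) D58017 (iv D56856)
theorem F260099 : act 8 n58017 = n56847 := d28_2 D56846 D58017 (iv D56847) (iv D55567) (iv F249394)
def n58018 : Q := act 2 n56847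
theorem D58018 : act 2 n56847 = n58018 := rfl
theorem F260100 : act 3 n58018 = n56849 := d17_2 D56847 D58018 (iv D56849) (iv D55569) (iv F249398)
theorem F260101 : act 5 n58018 = n57070 := d19_2 (iv F255226) D58018 (iv D57070)
theorem F260102 : act 7 n58018 = n56858 := d21_2 (iv F255227) D58018 (iv D56858)
theorem F260103 : act 9 n58018 = n56876 := d23_2 (iv F255228) D58018 (iv D56876)
def n58019 : Q := act 4 n56847
theorem D58019 : act 4 n56847 = n58019 := rfl
theorem F260104 : act 3 n58019 = n56848 := d24_1 D58019 (iv D56848) (iv D55568) (iv F249399) D56847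
theorem F260105 : act 7 n58019 = n56859 := d32_2 (iv F255227) D58019 (iv D56859)
theorem F260106 : act 9 n58019 = n56877 := d34_2 (iv F255228) D58019 (iv D56877)
def n58020 : Q := act 1 n56849
theorem D58020 : act 1 n56849 = n58020 := rfl
theorem F260107 : act 2 n58020 = n57080 := d9_2 D56849 D58020 (iv D57080) (iv D55822) (iv F249407)
theorem F260108 : act 5 n58020 = n57072 := d12_2 (iv F255232) D58020 (iv D57072)
theorem F260109 : act 7 n58020 = n56862 := d14_2 (iv F255233) D58020 (iv D56862)
theorem F260110 : act 8 n58020 = n57100 := d15_2 (iv F255234) D58020 (iv D57100)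
theorem F260111 : act 9 n58020 = n56880 := d16_2 (iv F255235) D58020 (iv D56880)
def n58021 : Q := act 3 n56850
theorem D58021 : act 3 n56850 = n58021 := rfl
theorem F260112 : act 1 n58021 = n56856 := d10_1 D58021 (iv D56856) (iv F255236)
theorem F260113 : act 8 n58021 = n56852 := d28_2 D56850 D58021 (iv D56852) (iv D55572) (iv F249413)
def n58022 : Q := act 3 n56851
theorem D58022 : act 3 n56851 = n58022 := rfl
theorem F260114 : act 0 n58022 = n57128 := d2_1 D58022 (iv D57128) (iv F255238)
theorem F260115 : act 1 n58022 = n56857 := d10_1 D58022 (iv D56857) (iv F255239)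
theorem F260116 : act 5 n58022 = n56852 := d25_2 (iv F255242) D58022 (iv D56852)
theorem F260117 : act 6 n58022 = n57126 := d26_2 (iv F255243) D58022 (iv D57126)
theorem F260118 : act 7 n58022 = n57065 := d27_2 (iv F255244) D58022 (iv D57065)
theorem F260119 : act 9 n58022 = n56887 := d29_2 (iv F255245) D58022 (iv D56887)
def n58023 : Q := act 2 n56852
theorem D58023 : act 2 n56852 = n58023 := rfl
theorem F260120 : act 3 n58023 = n57086 := d17_2 D56852 D58023 (iv D57086) (iv D55828) (iv F249423)
theorem F260121 : act 9 n58023 = n56888 := d23_2 (iv F255247) D58023 (iv D56888)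
def n58024 : Q := act 4 n56852
theorem D58024 : act 4 n56852 = n58024 := rfl
theorem F260122 : act 1 n58024 = n56859 := d11_1 D58024 (iv D56859) (iv F255246)
theorem F260123 : act 3 n58024 = n56853 := d24_1 D58024 (iv D56853) (iv D55573) (iv F249424) D56852
theorem F260124 : act 9 n58024 = n56889 := d34_2 (iv F255247) D58024 (iv D56889)
def n58025 : Q := act 3 n56854
theorem D58025 : act 3 n56854 = n58025 := rfl
theorem F260125 : act 5 n58025 = n56856 := d25_2 (iv F255253) D58025 (iv D56856)
theorem F260126 : act 7 n58025 = n57069 := d27_2 (iv F255254) D58025 (iv D57069)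
theorem F260127 : act 8 n58025 = n56857 := d28_2 D56854 D58025 (iv D56857) (iv D55577) (iv F249431)
def n58026 : Q := act 3 n56855
theorem D58026 : act 3 n56855 = n58026 := rfl
theorem F260128 : act 8 n58026 = n56893 := d28_2 D56855 D58026 (iv D56893) (iv D55614) (iv F249435)
theorem F260129 : act 9 n58026 = n56856 := d29_2 (iv F255256) D58026 (iv D56856)
def n58027 : Q := act 2 n56856
theorem D58027 : act 2 n56856 = n58027 := rfl
theorem F260130 : act 8 n58027 = n56858 := d22_2 (iv F255257) D58027 (iv D56858)
def n58028 : Q := act 4 n56856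
theorem D58028 : act 4 n56856 = n58028 := rfl
theorem F260131 : act 3 n58028 = n58028 := d24_1 D58028 (iv D58028) (iv D56856) F249437 D56856
theorem F260132 : act 8 n58028 = n56859 := d33_2 (iv F255257) D58028 (iv D56859)
def n58029 : Q := act 2 n56857
theorem D58029 : act 2 n56857 = n58029 := rfl
theorem F260133 : act 3 n58029 = n56861 := d17_2 D56857 D58029 (iv D56861) (iv D55581) (iv F249438)
theorem F260134 : act 5 n58029 = n56858 := d19_2 (iv F255258) D58029 (iv D56858)
theorem F260135 : act 7 n58029 = n57070 := d21_2 (iv F255259) D58029 (iv D57070)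
theorem F260136 : act 9 n58029 = n56898 := d23_2 (iv F255260) D58029 (iv D56898)
def n58030 : Q := act 1 n56858
theorem D58030 : act 1 n56858 = n58030 := rfl
theorem F260137 : act 3 n58030 = n56862 := d10_2 (iv F255261) D58030 (iv D56862)
theorem F260138 : act 9 n58030 = n56900 := d16_2 (iv F255262) D58030 (iv D56900)
def n58031 : Q := act 4 n56858
theorem D58031 : act 4 n56858 = n58031 := rfl
theorem F260139 : act 2 n58031 = n56859 := d18_1 D58031 (iv D56859) D56858
theorem F260140 : act 9 n58031 = n56901 := d34_2 (iv F255262) D58031 (iv D56901)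
def n58032 : Q := act 2 n56860
theorem D58032 : act 2 n56860 = n58032 := rfl
theorem F260141 : act 0 n58032 = n57033 := d1_1 D58032 (iv D57033) (iv F255265)
theorem F260142 : act 6 n58032 = n56861 := d20_2 (iv F255267) D58032 (iv D56861)
theorem F260143 : act 8 n58032 = n57076 := d22_2 (iv F255268) D58032 (iv D57076)
theorem F260144 : act 9 n58032 = n56904 := d23_2 (iv F255269) D58032 (iv D56904)
def n58033 : Q := act 1 n56861
theorem D58033 : act 1 n56861 = n58033 := rfl
theorem F260145 : act 2 n58033 = n57100 := d9_2 D56861 D58033 (iv D57100) (iv D55841) (iv F249451)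
theorem F260146 : act 5 n58033 = n56862 := d12_2 (iv F255270) D58033 (iv D56862)
theorem F260147 : act 7 n58033 = n57072 := d14_2 (iv F255271) D58033 (iv D57072)
theorem F260148 : act 8 n58033 = n57080 := d15_2 (iv F255272) D58033 (iv D57080)
theorem F260149 : act 9 n58033 = n56905 := d16_2 (iv F255273) D58033 (iv D56905)
def n58034 : Q := act 0 n56862
theorem D58034 : act 0 n56862 = n58034 := rfl
theorem F260150 : act 2 n58034 = n57101 := d1_2 (iv F255274) D58034 (iv D57101)
theorem F260151 : act 9 n58034 = n56906 := d8_2 (iv F255275) D58034 (iv D56906)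
def n58035 : Q := act 3 n56863
theorem D58035 : act 3 n56863 = n58035 := rfl
theorem F260152 : act 5 n58035 = n56864 := d25_2 (iv F255278) D58035 (iv D56864)
def n58036 : Q := act 2 n56864
theorem D58036 : act 2 n56864 = n58036 := rfl
theorem F260153 : act 3 n58036 = n56867 := d17_2 D56864 D58036 (iv D56867) (iv D55589) (iv F249473)
theorem F260154 : act 6 n58036 = n56876 := d20_2 (iv F255279) D58036 (iv D56876)
def n58037 : Q := act 4 n56864
theorem D58037 : act 4 n56864 = n58037 := rfl
theorem F260155 : act 3 n58037 = n56865 := d24_1 D58037 (iv D56865) (iv D55587) (iv F249474) D56864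
theorem F260156 : act 6 n58037 = n56877 := d31_2 (iv F255279) D58037 (iv D56877)
def n58038 : Q := act 5 n56865
theorem D58038 : act 5 n56865 = n58038 := rfl
theorem F260157 : act 2 n58038 = n56924 := d19_1 D58038 (iv D56924) (iv F255280)
theorem F260158 : act 4 n58038 = n58038 := d30_1 D58038 (iv D58038) (iv D56865) F249477 D56865
theorem F260159 : act 8 n58038 = n56916 := d37_2 (iv F255282) D58038 (iv D56916)
def n58039 : Q := act 2 n56866
theorem D58039 : act 2 n56866 = n58039 := rfl
theorem F260160 : act 5 n58039 = n56867 := d19_2 (iv F255284) D58039 (iv D56867)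
def n58040 : Q := act 4 n56866
theorem D58040 : act 4 n56866 = n58040 := rfl
theorem F260161 : act 1 n58040 = n57111 := d11_1 D58040 (iv D57111) (iv F255283)
theorem F260162 : act 3 n58040 = n58040 := d24_1 D58040 (iv D58040) (iv D56866) F249481 D56866
def n58041 : Q := act 1 n56867
theorem D58041 : act 1 n56867 = n58041 := rfl
theorem F260163 : act 2 n58041 = n57112 := d9_2 D56867 D58041 (iv D57112) (iv D55854) (iv F249483)
theorem F260164 : act 6 n58041 = n56880 := d13_2 (iv F255285) D58041 (iv D56880)
def n58042 : Q := act 3 n56868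
theorem D58042 : act 3 n56868 = n58042 := rfl
theorem F260165 : act 1 n58042 = n56875 := d10_1 D58042 (iv D56875) (iv F255286)
theorem F260166 : act 5 n58042 = n56869 := d25_2 (iv F255289) D58042 (iv D56869)
theorem F260167 : act 7 n58042 = n56887 := d27_2 (iv F255290) D58042 (iv D56887)
theorem F260168 : act 9 n58042 = n57065 := d29_2 (iv F255291) D58042 (iv D57065)
def n58043 : Q := act 2 n56869
theorem D58043 : act 2 n56869 = n58043 := rfl
theorem F260169 : act 3 n58043 = n57114 := d17_2 D56869 D58043 (iv D57114) (iv D55856) (iv F249491)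
theorem F260170 : act 7 n58043 = n56888 := d21_2 (iv F255293) D58043 (iv D56888)
def n58044 : Q := act 4 n56869
theorem D58044 : act 4 n56869 = n58044 := rfl
theorem F260171 : act 1 n58044 = n56877 := d11_1 D58044 (iv D56877) (iv F255292)
theorem F260172 : act 3 n58044 = n56870 := d24_1 D58044 (iv D56870) (iv D55592) (iv F249492) D56869
theorem F260173 : act 7 n58044 = n56889 := d32_2 (iv F255293) D58044 (iv D56889)
def n58045 : Q := act 8 n56871
theorem D58045 : act 8 n56871 = n58045 := rfl
theorem F260174 : act 2 n58045 = n56969 := d22_1 D58045 (iv D56969) (iv F255298)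
theorem F260175 : act 4 n58045 = n58045 := d33_1 D58045 (iv D58045) F255300
theorem F260176 : act 5 n58045 = n56873 := d37_1 D58045 (iv D56873) (iv F255301)
theorem F260177 : act 7 n58045 = n56891 := d42_1 D58045 (iv D56891) (iv F255302)
theorem F260178 : act 9 n58045 = n56872 := d44_2 D56871 D58045 (iv D56872) (iv D55594) D55593
def n58046 : Q := act 3 n56872
theorem D58046 : act 3 n56872 = n58046 := rfl
theorem F260179 : act 5 n58046 = n56874 := d25_2 (iv F255305) D58046 (iv D56874)
theorem F260180 : act 7 n58046 = n56892 := d27_2 (iv F255306) D58046 (iv D56892)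
theorem F260181 : act 8 n58046 = n56875 := d28_2 D56872 D58046 (iv D56875) (iv D55597) (iv F249505)
def n58047 : Q := act 3 n56873
theorem D58047 : act 3 n56873 = n58047 := rfl
theorem F260182 : act 7 n58047 = n56893 := d27_2 (iv F255308) D58047 (iv D56893)
theorem F260183 : act 9 n58047 = n56874 := d29_2 (iv F255309) D58047 (iv D56874)
def n58048 : Q := act 2 n56874
theorem D58048 : act 2 n56874 = n58048 := rfl
theorem F260184 : act 7 n58048 = n56894 := d21_2 (iv F255310) D58048 (iv D56894)
theorem F260185 : act 8 n58048 = n56876 := d22_2 (iv F255311) D58048 (iv D56876)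
def n58049 : Q := act 4 n56874
theorem D58049 : act 4 n56874 = n58049 := rfl
theorem F260186 : act 3 n58049 = n56918 := d24_1 D58049 (iv D56918) (iv D55644) (iv F249511) D56874
theorem F260187 : act 7 n58049 = n56895 := d32_2 (iv F255310) D58049 (iv D56895)
theorem F260188 : act 8 n58049 = n56877 := d33_2 (iv F255311) D58049 (iv D56877)
def n58050 : Q := act 2 n56875
theorem D58050 : act 2 n56875 = n58050 := rfl
theorem F260189 : act 3 n58050 = n56879 := d17_2 D56875 D58050 (iv D56879) (iv D55600) (iv F249513)
theorem F260190 : act 5 n58050 = n56876 := d19_2 (iv F255312) D58050 (iv D56876)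
theorem F260191 : act 7 n58050 = n56898 := d21_2 (iv F255313) D58050 (iv D56898)
theorem F260192 : act 9 n58050 = n57070 := d23_2 (iv F255314) D58050 (iv D57070)
def n58051 : Q := act 4 n56875
theorem D58051 : act 4 n56875 = n58051 := rfl
theorem F260193 : act 3 n58051 = n56910 := d24_1 D58051 (iv D56910) (iv D55630) (iv F249514) D56875
theorem F260194 : act 7 n58051 = n56899 := d32_2 (iv F255313) D58051 (iv D56899)
theorem F260195 : act 9 n58051 = n57071 := d34_2 (iv F255314) D58051 (iv D57071)
def n58052 : Q := act 1 n56876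
theorem D58052 : act 1 n56876 = n58052 := rfl
theorem F260196 : act 3 n58052 = n56880 := d10_2 (iv F255315) D58052 (iv D56880)
theorem F260197 : act 7 n58052 = n56900 := d14_2 (iv F255316) D58052 (iv D56900)
def n58053 : Q := act 4 n56876
theorem D58053 : act 4 n56876 = n58053 := rfl
theorem F260198 : act 2 n58053 = n56877 := d18_1 D58053 (iv D56877) D56876
theorem F260199 : act 7 n58053 = n56901 := d32_2 (iv F255316) D58053 (iv D56901)
def n58054 : Q := act 5 n56877
theorem D58054 : act 5 n56877 = n58054 := rfl
theorem F260200 : act 3 n58054 = n56878 := d25_1 D58054 (iv D56878) (iv F255317)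
theorem F260201 : act 7 n58054 = n56902 := d36_2 (iv F255318) D58054 (iv D56902)
def n58055 : Q := act 6 n56878
theorem D58055 : act 6 n56878 = n58055 := rfl
theorem F260202 : act 4 n58055 = n56911 := d31_1 D58055 (iv D56911) (iv F255319)
theorem F260203 : act 8 n58055 = n56920 := d40_2 (iv F255321) D58055 (iv D56920)
def n58056 : Q := act 1 n56879
theorem D58056 : act 1 n56879 = n58056 := rfl
theorem F260204 : act 2 n58056 = n57124 := d9_2 D56879 D58056 (iv D57124) (iv D55864) (iv F249521)
theorem F260205 : act 5 n58056 = n56880 := d12_2 (iv F255322) D58056 (iv D56880)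
theorem F260206 : act 7 n58056 = n56905 := d14_2 (iv F255323) D58056 (iv D56905)
theorem F260207 : act 8 n58056 = n56974 := d15_2 (iv F255324) D58056 (iv D56974)
theorem F260208 : act 9 n58056 = n57072 := d16_2 (iv F255325) D58056 (iv D57072)
def n58057 : Q := act 0 n56880
theorem D58057 : act 0 n56880 = n58057 := rfl
theorem F260209 : act 2 n58057 = n57125 := d1_2 (iv F255326) D58057 (iv D57125)
theorem F260210 : act 7 n58057 = n56906 := d6_2 (iv F255327) D58057 (iv D56906)
def n58058 : Q := act 3 n56881
theorem D58058 : act 3 n56881 = n58058 := rfl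
theorem F260211 : act 0 n58058 = n56887 := d2_1 D58058 (iv D56887) (iv F255328)
theorem F260212 : act 1 n58058 = n57094 := d10_1 D58058 (iv D57094) (iv F255329)
theorem F260213 : act 5 n58058 = n56882 := d25_2 (iv F255332) D58058 (iv D56882)
theorem F260214 : act 6 n58058 = n57085 := d26_2 (iv F255333) D58058 (iv D57085)
theorem F260215 : act 9 n58058 = n57128 := d29_2 (iv F255334) D58058 (iv D57128)
def n58059 : Q := act 2 n56882
theorem D58059 : act 2 n56882 = n58059 := rfl
theorem F260216 : act 0 n58059 = n56888 := d1_1 D58059 (iv D56888) (iv F255335)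
theorem F260217 : act 3 n58059 = n57127 := d17_2 D56882 D58059 (iv D57127) (iv D55867) (iv F249534)
def n58060 : Q := act 3 n56883
theorem D58060 : act 3 n56883 = n58060 := rfl
theorem F260218 : act 1 n58060 = n56892 := d10_1 D58060 (iv D56892) (iv F255336)
theorem F260219 : act 5 n58060 = n56885 := d25_2 (iv F255338) D58060 (iv D56885)
theorem F260220 : act 8 n58060 = n56887 := d28_2 D56883 D58060 (iv D56887) (iv D55608) (iv F249537)
def n58061 : Q := act 3 n56884
theorem D58061 : act 3 n56884 = n58061 := rfl
theorem F260221 : act 1 n58061 = n56893 := d10_1 D58061 (iv D56893) (iv F255339)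
theorem F260222 : act 9 n58061 = n56885 := d29_2 (iv F255341) D58061 (iv D56885)
def n58062 : Q := act 2 n56885
theorem D58062 : act 2 n56885 = n58062 := rfl
theorem F260223 : act 8 n58062 = n56888 := d22_2 (iv F255343) D58062 (iv D56888)
def n58063 : Q := act 4 n56885
theorem D58063 : act 4 n56885 = n58063 := rfl
theorem F260224 : act 1 n58063 = n56895 := d11_1 D58063 (iv D56895) (iv F255342)
theorem F260225 : act 3 n58063 = n56922 := d24_1 D58063 (iv D56922) (iv D55648) (iv F249543) D56885
theorem F260226 : act 8 n58063 = n56889 := d33_2 (iv F255343) D58063 (iv D56889)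
def n58064 : Q := act 3 n56886
theorem D58064 : act 3 n56886 = n58064 := rfl
theorem F260227 : act 0 n58064 = n57085 := d2_1 D58064 (iv D57085) (iv F255344)
theorem F260228 : act 1 n58064 = n56897 := d10_1 D58064 (iv D56897) (iv F255345)
theorem F260229 : act 5 n58064 = n57081 := d25_2 (iv F255348) D58064 (iv D57081)
theorem F260230 : act 6 n58064 = n56887 := d26_2 (iv F255349) D58064 (iv D56887)
theorem F260231 : act 9 n58064 = n57126 := d29_2 (iv F255350) D58064 (iv D57126)
def n58065 : Q := act 2 n56887
theorem D58065 : act 2 n56887 = n58065 := rfl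
theorem F260232 : act 3 n58065 = n57129 := d17_2 D56887 D58065 (iv D57129) (iv D55870) (iv F249551)
theorem F260233 : act 5 n58065 = n56888 := d19_2 (iv F255352) D58065 (iv D56888)
def n58066 : Q := act 4 n56887
theorem D58066 : act 4 n56887 = n58066 := rfl
theorem F260234 : act 1 n58066 = n56899 := d11_1 D58066 (iv D56899) (iv F255351)
theorem F260235 : act 3 n58066 = n56913 := d24_1 D58066 (iv D56913) (iv D55635) (iv F249552) D56887
def n58067 : Q := act 1 n56888
theorem D58067 : act 1 n56888 = n58067 := rfl
theorem F260236 : act 2 n58067 = n56900 := d9_2 D56888 D58067 (iv D56900) (iv D55619) (iv F249554)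
theorem F260237 : act 3 n58067 = n57131 := d10_2 (iv F255353) D58067 (iv D57131)
def n58068 : Q := act 4 n56888
theorem D58068 : act 4 n56888 = n58068 := rfl
theorem F260238 : act 2 n58068 = n56889 := d18_1 D58068 (iv D56889) D56888
def n58069 : Q := act 3 n56890
theorem D58069 : act 3 n56890 = n58069 := rfl
theorem F260239 : act 0 n58069 = n57107 := d2_1 D58069 (iv D57107) (iv F255356)
theorem F260240 : act 5 n58069 = n57049 := d25_2 (iv F255359) D58069 (iv D57049)
theorem F260241 : act 6 n58069 = n56892 := d26_2 (iv F255360) D58069 (iv D56892)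
theorem F260242 : act 8 n58069 = n56897 := d28_2 D56890 D58069 (iv D56897) (iv D55617) (iv F249559)
def n58070 : Q := act 3 n56891
theorem D58070 : act 3 n56891 = n58070 := rfl
theorem F260243 : act 5 n58070 = n56893 := d25_2 (iv F255362) D58070 (iv D56893)
theorem F260244 : act 9 n58070 = n56892 := d29_2 (iv F255363) D58070 (iv D56892)
def n58071 : Q := act 2 n56892
theorem D58071 : act 2 n56892 = n58071 := rfl
theorem F260245 : act 5 n58071 = n56894 := d19_2 (iv F255364) D58071 (iv D56894)
theorem F260246 : act 8 n58071 = n56898 := d22_2 (iv F255365) D58071 (iv D56898)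
def n58072 : Q := act 4 n56892
theorem D58072 : act 4 n56892 = n58072 := rfl
theorem F260247 : act 3 n58072 = n58072 := d24_1 D58072 (iv D58072) (iv D56892) F249565 D56892
theorem F260248 : act 8 n58072 = n56899 := d33_2 (iv F255365) D58072 (iv D56899)
def n58073 : Q := act 2 n56893
theorem D58073 : act 2 n56893 = n58073 := rfl
theorem F260249 : act 9 n58073 = n56894 := d23_2 (iv F255366) D58073 (iv D56894)
def n58074 : Q := act 4 n56893
theorem D58074 : act 4 n56893 = n58074 := rfl
theorem F260250 : act 3 n58074 = n56923 := d24_1 D58074 (iv D56923) (iv D55650) (iv F249567) D56893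
theorem F260251 : act 9 n58074 = n56895 := d34_2 (iv F255366) D58074 (iv D56895)
def n58075 : Q := act 1 n56894
theorem D58075 : act 1 n56894 = n58075 := rfl
theorem F260252 : act 8 n58075 = n56900 := d15_2 (iv F255367) D58075 (iv D56900)
def n58076 : Q := act 4 n56894
theorem D58076 : act 4 n56894 = n58076 := rfl
theorem F260253 : act 2 n58076 = n56895 := d18_1 D58076 (iv D56895) D56894
theorem F260254 : act 8 n58076 = n56901 := d33_2 (iv F255367) D58076 (iv D56901)
def n58077 : Q := act 5 n56895
theorem D58077 : act 5 n56895 = n58077 := rfl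
theorem F260255 : act 3 n58077 = n56924 := d25_1 D58077 (iv D56924) (iv F255368)
theorem F260256 : act 8 n58077 = n56902 := d37_2 (iv F255369) D58077 (iv D56902)
def n58078 : Q := act 3 n56896
theorem D58078 : act 3 n56896 = n58078 := rfl
theorem F260257 : act 7 n58078 = n56897 := d27_2 (iv F255372) D58078 (iv D56897)
def n58079 : Q := act 2 n56897
theorem D58079 : act 2 n56897 = n58079 := rfl
theorem F260258 : act 3 n58079 = n56904 := d17_2 D56897 D58079 (iv D56904) (iv D55623) (iv F249573)
theorem F260259 : act 6 n58079 = n56898 := d20_2 (iv F255373) D58079 (iv D56898)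
def n58080 : Q := act 4 n56897
theorem D58080 : act 4 n56897 = n58080 := rfl
theorem F260260 : act 3 n58080 = n56915 := d24_1 D58080 (iv D56915) (iv D55637) (iv F249574) D56897
theorem F260261 : act 6 n58080 = n56899 := d31_2 (iv F255373) D58080 (iv D56899)
def n58081 : Q := act 1 n56898
theorem D58081 : act 1 n56898 = n58081 := rfl
theorem F260262 : act 3 n58081 = n56905 := d10_2 (iv F255374) D58081 (iv D56905)
theorem F260263 : act 5 n58081 = n56900 := d12_2 (iv F255375) D58081 (iv D56900)
def n58082 : Q := act 4 n56898
theorem D58082 : act 4 n56898 = n58082 := rfl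
theorem F260264 : act 2 n58082 = n56899 := d18_1 D58082 (iv D56899) D56898
def n58083 : Q := act 0 n56900
theorem D58083 : act 0 n56900 = n58083 := rfl
theorem F260265 : act 3 n58083 = n56906 := d2_2 (iv F255377) D58083 (iv D56906)
def n58084 : Q := act 4 n56900
theorem D58084 : act 4 n56900 = n58084 := rfl
theorem F260266 : act 1 n58084 = n56901 := d11_1 D58084 (iv D56901) D56900
def n58085 : Q := act 5 n56901
theorem D58085 : act 5 n56901 = n58085 := rfl
theorem F260267 : act 2 n58085 = n56902 := d19_1 D58085 (iv D56902) (iv F255378)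
def n58086 : Q := act 2 n56903
theorem D58086 : act 2 n56903 = n58086 := rfl
theorem F260268 : act 7 n58086 = n56904 := d21_2 (iv F255381) D58086 (iv D56904)
def n58087 : Q := act 1 n56904
theorem D58087 : act 1 n56904 = n58087 := rfl
theorem F260269 : act 2 n58087 = n57149 := d9_2 D56904 D58087 (iv D57149) (iv D55886) (iv F249584)
theorem F260270 : act 6 n58087 = n56905 := d13_2 (iv F255382) D58087 (iv D56905)
def n58088 : Q := act 0 n56905
theorem D58088 : act 0 n56905 = n58088 := rfl
theorem F260271 : act 2 n58088 = n57150 := d1_2 (iv F255383) D58088 (iv D57150)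
theorem F260272 : act 5 n58088 = n56906 := d4_2 (iv F255384) D58088 (iv D56906)
def n58089 : Q := act 3 n56907
theorem D58089 : act 3 n56907 = n58089 := rfl
theorem F260273 : act 0 n58089 = n56909 := d2_1 D58089 (iv D56909) (iv F255386)
theorem F260274 : act 1 n58089 = n57105 := d10_1 D58089 (iv D57105) (iv F255387)
theorem F260275 : act 5 n58089 = n56908 := d25_2 (iv F255389) D58089 (iv D56908)
theorem F260276 : act 7 n58089 = n56912 := d27_2 (iv F255390) D58089 (iv D56912)
theorem F260277 : act 8 n58089 = n58089 := d28_2 D56907 D58089 (iv D58089) (iv D56907) F249591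
theorem F260278 : act 9 n58089 = n57063 := d29_2 (iv F255391) D58089 (iv D57063)
def n58090 : Q := act 4 n56909
theorem D58090 : act 4 n56909 = n58090 := rfl
theorem F260279 : act 1 n58090 = n56910 := d11_1 D58090 (iv D56910) (iv F255398)
theorem F260280 : act 7 n58090 = n56913 := d32_2 (iv F255400) D58090 (iv D56913)
theorem F260281 : act 8 n58090 = n58090 := d33_2 F255401 D58090 (iv D58090)
theorem F260282 : act 9 n58090 = n57067 := d34_2 (iv F255402) D58090 (iv D57067)
def n58091 : Q := act 4 n56912
theorem D58091 : act 4 n56912 = n58091 := rfl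
theorem F260283 : act 0 n58091 = n56913 := d3_1 D58091 (iv D56913) (iv F255408)
theorem F260284 : act 1 n58091 = n57106 := d11_1 D58091 (iv D57106) (iv F255409)
theorem F260285 : act 6 n58091 = n57104 := d31_2 (iv F255411) D58091 (iv D57104)
theorem F260286 : act 8 n58091 = n58091 := d33_2 F255412 D58091 (iv D58091)
theorem F260287 : act 9 n58091 = n57155 := d34_2 (iv F255413) D58091 (iv D57155)
def n58092 : Q := act 4 n56914
theorem D58092 : act 4 n56914 = n58092 := rfl
theorem F260288 : act 7 n58092 = n56915 := d32_2 (iv F255417) D58092 (iv D56915)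
theorem F260289 : act 8 n58092 = n58092 := d33_2 F255418 D58092 (iv D58092)
def n58093 : Q := act 4 n56917
theorem D58093 : act 4 n56917 = n58093 := rfl
theorem F260290 : act 7 n58093 = n56923 := d32_2 (iv F255425) D58093 (iv D56923)
theorem F260291 : act 8 n58093 = n58093 := d33_2 F255426 D58093 (iv D58093)
theorem F260292 : act 9 n58093 = n56918 := d34_2 (iv F255427) D58093 (iv D56918)
def n58094 : Q := act 5 n56918
theorem D58094 : act 5 n56918 = n58094 := rfl
theorem F260293 : act 4 n58094 = n58094 := d30_1 D58094 (iv D58094) (iv D56918) F249664 D56918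
theorem F260294 : act 7 n58094 = n56924 := d36_2 (iv F255428) D58094 (iv D56924)
theorem F260295 : act 8 n58094 = n56919 := d37_2 (iv F255429) D58094 (iv D56919)
def n58095 : Q := act 6 n56919
theorem D58095 : act 6 n56919 = n58095 := rfl
theorem F260296 : act 3 n58095 = n56920 := d26_1 D58095 (iv D56920) (iv F255430)
theorem F260297 : act 4 n58095 = n58095 := d31_1 D58095 (iv D58095) F255431
theorem F260298 : act 9 n58095 = n58095 := d41_2 F255433 D58095 (iv D58095)
def n58096 : Q := act 4 n56921
theorem D58096 : act 4 n56921 = n58096 := rfl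
theorem F260299 : act 1 n58096 = n56923 := d11_1 D58096 (iv D56923) (iv F255436)
theorem F260300 : act 8 n58096 = n58096 := d33_2 F255438 D58096 (iv D58096)
theorem F260301 : act 9 n58096 = n56922 := d34_2 (iv F255439) D58096 (iv D56922)
def n58097 : Q := act 5 n56923
theorem D58097 : act 5 n56923 = n58097 := rfl
theorem F260302 : act 4 n58097 = n58097 := d30_1 D58097 (iv D58097) (iv D56923) F249682 D56923
theorem F260303 : act 8 n58097 = n58097 := d37_2 F255442 D58097 (iv D58097)
theorem F260304 : act 9 n58097 = n56924 := d38_2 (iv F255443) D58097 (iv D56924)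
def n58098 : Q := act 2 n56925
theorem D58098 : act 2 n56925 = n58098 := rfl
theorem F260305 : act 0 n58098 = n56937 := d1_1 D58098 (iv D56937) (iv F255446)
theorem F260306 : act 4 n58098 = n56960 := d18_2 (iv F255448) D58098 (iv D56960)
theorem F260307 : act 5 n58098 = n56939 := d19_2 (iv F255449) D58098 (iv D56939)
theorem F260308 : act 7 n58098 = n56948 := d21_2 (iv F255450) D58098 (iv D56948)
theorem F260309 : act 8 n58098 = n57028 := d22_2 (iv F255451) D58098 (iv D57028)
theorem F260310 : act 9 n58098 = n56929 := d23_2 (iv F255452) D58098 (iv D56929)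
def n58099 : Q := act 2 n56926
theorem D58099 : act 2 n56926 = n58099 := rfl
theorem F260311 : act 0 n58099 = n56939 := d1_1 D58099 (iv D56939) (iv F255453)
theorem F260312 : act 4 n58099 = n56962 := d18_2 (iv F255455) D58099 (iv D56962)
theorem F260313 : act 5 n58099 = n56937 := d19_2 (iv F255456) D58099 (iv D56937)
theorem F260314 : act 7 n58099 = n56929 := d21_2 (iv F255457) D58099 (iv D56929)
theorem F260315 : act 8 n58099 = n57009 := d22_2 (iv F255458) D58099 (iv D57009)
theorem F260316 : act 9 n58099 = n56948 := d23_2 (iv F255459) D58099 (iv D56948)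
def n58100 : Q := act 2 n56927
theorem D58100 : act 2 n56927 = n58100 := rfl
theorem F260317 : act 0 n58100 = n56945 := d1_1 D58100 (iv D56945) (iv F255460)
theorem F260318 : act 3 n58100 = n56929 := d17_2 D56927 D58100 (iv D56929) (iv D55662) (iv F249719)
def n58101 : Q := act 4 n56927
theorem D58101 : act 4 n56927 = n58101 := rfl
theorem F260319 : act 0 n58101 = n56946 := d3_1 D58101 (iv D56946) (iv F255460)
theorem F260320 : act 3 n58101 = n56928 := d24_1 D58101 (iv D56928) (iv D55661) (iv F249720) D56927
def n58102 : Q := act 5 n56928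
theorem D58102 : act 5 n56928 = n58102 := rfl
theorem F260321 : act 0 n58102 = n56947 := d4_1 D58102 (iv D56947) (iv F255461)
theorem F260322 : act 2 n58102 = n56965 := d19_1 D58102 (iv D56965) (iv F255462)
theorem F260323 : act 4 n58102 = n56930 := d30_1 D58102 (iv D56930) (iv D55663) (iv F249723) D56928
theorem F260324 : act 8 n58102 = n56932 := d37_2 (iv F255463) D58102 (iv D56932)
def n58103 : Q := act 1 n56929
theorem D58103 : act 1 n56929 = n58103 := rfl
theorem F260325 : act 4 n58103 = n56966 := d11_2 (iv F255465) D58103 (iv D56966)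
theorem F260326 : act 8 n58103 = n57010 := d15_2 (iv F255466) D58103 (iv D57010)
def n58104 : Q := act 8 n56933
theorem D58104 : act 8 n56933 = n58104 := rfl
theorem F260327 : act 4 n58104 = n58104 := d33_1 D58104 (iv D58104) F255479
theorem F260328 : act 6 n58104 = n57023 := d40_1 D58104 (iv D57023) (iv F255480)
theorem F260329 : act 9 n58104 = n56934 := d44_2 D56933 D58104 (iv D56934) (iv D55668) D55667
def n58105 : Q := act 3 n56934
theorem D58105 : act 3 n56934 = n58105 := rfl
theorem F260330 : act 8 n58105 = n56935 := d28_2 D56934 D58105 (iv D56935) (iv D55669) (iv F249747)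
def n58106 : Q := act 2 n56935
theorem D58106 : act 2 n56935 = n58106 := rfl
theorem F260331 : act 3 n58106 = n56937 := d17_2 D56935 D58106 (iv D56937) (iv D55671) (iv F249749)
theorem F260332 : act 9 n58106 = n56945 := d23_2 (iv F255482) D58106 (iv D56945)
def n58107 : Q := act 4 n56935
theorem D58107 : act 4 n56935 = n58107 := rfl
theorem F260333 : act 3 n58107 = n56936 := d24_1 D58107 (iv D56936) (iv D55670) (iv F249750) D56935
theorem F260334 : act 9 n58107 = n56946 := d34_2 (iv F255482) D58107 (iv D56946)
def n58108 : Q := act 5 n56936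
theorem D58108 : act 5 n56936 = n58108 := rfl
theorem F260335 : act 2 n58108 = n56973 := d19_1 D58108 (iv D56973) (iv F255483)
theorem F260336 : act 4 n58108 = n56938 := d30_1 D58108 (iv D56938) (iv D55672) (iv F249753) D56936
theorem F260337 : act 8 n58108 = n58108 := d37_2 F255484 D58108 (iv D58108)
theorem F260338 : act 9 n58108 = n56947 := d38_2 (iv F255485) D58108 (iv D56947)
def n58109 : Q := act 1 n56937
theorem D58109 : act 1 n56937 = n58109 := rfl
theorem F260339 : act 4 n58109 = n56974 := d11_2 (iv F255486) D58109 (iv D56974)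
theorem F260340 : act 9 n58109 = n56949 := d16_2 (iv F255487) D58109 (iv D56949)
def n58110 : Q := act 1 n56939
theorem D58110 : act 1 n56939 = n58110 := rfl
theorem F260341 : act 4 n58110 = n56984 := d11_2 (iv F255491) D58110 (iv D56984)
theorem F260342 : act 7 n58110 = n56949 := d14_2 (iv F255492) D58110 (iv D56949)
theorem F260343 : act 8 n58110 = n57029 := d15_2 (iv F255493) D58110 (iv D57029)
def n58111 : Q := act 8 n56940
theorem D58111 : act 8 n56940 = n58111 := rfl
theorem F260344 : act 2 n58111 = n57018 := d22_1 D58111 (iv D57018) (iv F255494)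
theorem F260345 : act 4 n58111 = n58111 := d33_1 D58111 (iv D58111) F255495
theorem F260346 : act 5 n58111 = n56942 := d37_1 D58111 (iv D56942) (iv F255496)
theorem F260347 : act 6 n58111 = n57016 := d40_1 D58111 (iv D57016) (iv F255497)
theorem F260348 : act 9 n58111 = n56941 := d44_2 D56940 D58111 (iv D56941) (iv D55675) D55674
def n58112 : Q := act 3 n56941
theorem D58112 : act 3 n56941 = n58112 := rfl
theorem F260349 : act 5 n58112 = n56943 := d25_2 (iv F255500) D58112 (iv D56943)
theorem F260350 : act 8 n58112 = n56944 := d28_2 D56941 D58112 (iv D56944) (iv D55678) (iv F249770)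
def n58113 : Q := act 3 n56942
theorem D58113 : act 3 n56942 = n58113 := rfl
theorem F260351 : act 6 n58113 = n57025 := d26_2 (iv F255503) D58113 (iv D57025)
theorem F260352 : act 9 n58113 = n56943 := d29_2 (iv F255504) D58113 (iv D56943)
def n58114 : Q := act 2 n56943
theorem D58114 : act 2 n56943 = n58114 := rfl
theorem F260353 : act 3 n58114 = n57035 := d17_2 D56943 D58114 (iv D57035) (iv D55777) (iv F249776)
theorem F260354 : act 8 n58114 = n56945 := d22_2 (iv F255505) D58114 (iv D56945)
def n58115 : Q := act 4 n56943
theorem D58115 : act 4 n56943 = n58115 := rfl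
theorem F260355 : act 3 n58115 = n56954 := d24_1 D58115 (iv D56954) (iv D55688) (iv F249777) D56943
theorem F260356 : act 8 n58115 = n56946 := d33_2 (iv F255505) D58115 (iv D56946)
def n58116 : Q := act 2 n56944
theorem D58116 : act 2 n56944 = n58116 := rfl
theorem F260357 : act 3 n58116 = n56948 := d17_2 D56944 D58116 (iv D56948) (iv D55681) (iv F249778)
theorem F260358 : act 5 n58116 = n56945 := d19_2 (iv F255506) D58116 (iv D56945)
def n58117 : Q := act 4 n56944
theorem D58117 : act 4 n56944 = n58117 := rfl
theorem F260359 : act 3 n58117 = n56950 := d24_1 D58117 (iv D56950) (iv D55683) (iv F249779) D56944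
def n58118 : Q := act 1 n56945
theorem D58118 : act 1 n56945 = n58118 := rfl
theorem F260360 : act 3 n58118 = n56949 := d10_2 (iv F255507) D58118 (iv D56949)
def n58119 : Q := act 4 n56945
theorem D58119 : act 4 n56945 = n58119 := rfl
theorem F260361 : act 2 n58119 = n56946 := d18_1 D58119 (iv D56946) D56945
theorem F260362 : act 3 n58119 = n56999 := d24_1 D58119 (iv D56999) F249906 (iv F249786) (iv F255507)
def n58120 : Q := act 5 n56946
theorem D58120 : act 5 n56946 = n58120 := rfl
theorem F260363 : act 3 n58120 = n56947 := d25_1 D58120 (iv D56947) (iv F255508)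
def n58121 : Q := act 6 n56947
theorem D58121 : act 6 n56947 = n58121 := rfl
theorem F260364 : act 2 n58121 = n57001 := d20_1 D58121 (iv D57001) (iv F255509)
theorem F260365 : act 4 n58121 = n56952 := d31_1 D58121 (iv D56952) (iv F255510)
theorem F260366 : act 8 n58121 = n56956 := d40_2 (iv F255511) D58121 (iv D56956)
def n58122 : Q := act 1 n56948
theorem D58122 : act 1 n56948 = n58122 := rfl
theorem F260367 : act 2 n58122 = n56966 := d9_2 D56948 D58122 (iv D56966) (iv D55700) (iv F249783)
theorem F260368 : act 5 n58122 = n56949 := d12_2 (iv F255512) D58122 (iv D56949)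
theorem F260369 : act 8 n58122 = n57039 := d15_2 (iv F255513) D58122 (iv D57039)
def n58123 : Q := act 0 n56949
theorem D58123 : act 0 n56949 = n58123 := rfl
theorem F260370 : act 4 n58123 = n57004 := d3_2 (iv F255514) D58123 (iv D57004)
theorem F260371 : act 8 n58123 = n57040 := d7_2 (iv F255515) D58123 (iv D57040)
def n58124 : Q := act 5 n56950
theorem D58124 : act 5 n56950 = n58124 := rfl
theorem F260372 : act 4 n58124 = n56951 := d30_1 D58124 (iv D56951) (iv D55684) (iv F249788) D56950
theorem F260373 : act 8 n58124 = n58124 := d37_2 F255516 D58124 (iv D58124)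
def n58125 : Q := act 4 n56953
theorem D58125 : act 4 n56953 = n58125 := rfl
theorem F260374 : act 6 n58125 = n57042 := d31_2 (iv F255523) D58125 (iv D57042)
theorem F260375 : act 8 n58125 = n58125 := d33_2 F255524 D58125 (iv D58125)
theorem F260376 : act 9 n58125 = n56954 := d34_2 (iv F255525) D58125 (iv D56954)
def n58126 : Q := act 5 n56954
theorem D58126 : act 5 n56954 = n58126 := rfl
theorem F260377 : act 4 n58126 = n58126 := d30_1 D58126 (iv D58126) (iv D56954) F249801 D56954
theorem F260378 : act 8 n58126 = n56955 := d37_2 (iv F255526) D58126 (iv D56955)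
def n58127 : Q := act 3 n56957
theorem D58127 : act 3 n56957 = n58127 := rfl
theorem F260379 : act 0 n58127 = n56970 := d2_1 D58127 (iv D56970) (iv F255533)
theorem F260380 : act 5 n58127 = n57122 := d25_2 (iv F255535) D58127 (iv D57122)
theorem F260381 : act 7 n58127 = n57109 := d27_2 (iv F255536) D58127 (iv D57109)
theorem F260382 : act 8 n58127 = n56958 := d28_2 D56957 D58127 (iv D56958) (iv D55693) (iv F249813)
def n58128 : Q := act 2 n56958
theorem D58128 : act 2 n56958 = n58128 := rfl
theorem F260383 : act 0 n58128 = n56971 := d1_1 D58128 (iv D56971) (iv F255537)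
theorem F260384 : act 3 n58128 = n56960 := d17_2 D56958 D58128 (iv D56960) (iv D55695) (iv F249818)
theorem F260385 : act 9 n58128 = n56963 := d23_2 (iv F255538) D58128 (iv D56963)
def n58129 : Q := act 4 n56958
theorem D58129 : act 4 n56958 = n58129 := rfl
theorem F260386 : act 0 n58129 = n56972 := d3_1 D58129 (iv D56972) (iv F255537)
theorem F260387 : act 3 n58129 = n56959 := d24_1 D58129 (iv D56959) (iv D55694) (iv F249819) D56958
theorem F260388 : act 9 n58129 = n56964 := d34_2 (iv F255538) D58129 (iv D56964)
def n58130 : Q := act 1 n56960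
theorem D58130 : act 1 n56960 = n58130 := rfl
theorem F260389 : act 9 n58130 = n56966 := d16_2 (iv F255543) D58130 (iv D56966)
def n58131 : Q := act 2 n56961
theorem D58131 : act 2 n56961 = n58131 := rfl
theorem F260390 : act 0 n58131 = n56979 := d1_1 D58131 (iv D56979) (iv F255544)
theorem F260391 : act 6 n58131 = n56962 := d20_2 (iv F255545) D58131 (iv D56962)
theorem F260392 : act 8 n58131 = n57051 := d22_2 (iv F255546) D58131 (iv D57051)
def n58132 : Q := act 1 n56962
theorem D58132 : act 1 n56962 = n58132 := rfl
theorem F260393 : act 7 n58132 = n56966 := d14_2 (iv F255548) D58132 (iv D56966)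
theorem F260394 : act 8 n58132 = n57054 := d15_2 (iv F255549) D58132 (iv D57054)
def n58133 : Q := act 1 n56963
theorem D58133 : act 1 n56963 = n58133 := rfl
theorem F260395 : act 3 n58133 = n56966 := d10_2 (iv F255551) D58133 (iv D56966)
def n58134 : Q := act 4 n56963
theorem D58134 : act 4 n56963 = n58134 := rfl
theorem F260396 : act 0 n58134 = n56999 := d3_1 D58134 (iv D56999) (iv F255550)
theorem F260397 : act 2 n58134 = n56964 := d18_1 D58134 (iv D56964) D56963
def n58135 : Q := act 5 n56964
theorem D58135 : act 5 n56964 = n58135 := rfl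
theorem F260398 : act 0 n58135 = n57000 := d4_1 D58135 (iv D57000) (iv F255552)
theorem F260399 : act 3 n58135 = n56965 := d25_1 D58135 (iv D56965) (iv F255553)
def n58136 : Q := act 0 n56966
theorem D58136 : act 0 n56966 = n58136 := rfl
theorem F260400 : act 1 n58136 = n57004 := d0_2 D56966 D58136 (iv D57004) (iv D55737) (iv F249836)
theorem F260401 : act 8 n58136 = n57061 := d7_2 (iv F255557) D58136 (iv D57061)
def n58137 : Q := act 2 n56967
theorem D58137 : act 2 n56967 = n58137 := rfl
theorem F260402 : act 9 n58137 = n56989 := d23_2 (iv F255559) D58137 (iv D56989)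
def n58138 : Q := act 4 n56967
theorem D58138 : act 4 n56967 = n58138 := rfl
theorem F260403 : act 1 n58138 = n56972 := d11_1 D58138 (iv D56972) (iv F255558)
theorem F260404 : act 3 n58138 = n56968 := d24_1 D58138 (iv D56968) (iv D55704) (iv F249844) D56967
theorem F260405 : act 9 n58138 = n56990 := d34_2 (iv F255559) D58138 (iv D56990)
def n58139 : Q := act 5 n56968
theorem D58139 : act 5 n56968 = n58139 := rfl
theorem F260406 : act 1 n58139 = n56973 := d12_1 D58139 (iv D56973) (iv F255560)
theorem F260407 : act 4 n58139 = n56975 := d30_1 D58139 (iv D56975) (iv D55710) (iv F249847) D56968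
theorem F260408 : act 8 n58139 = n58139 := d37_2 F255561 D58139 (iv D58139)
theorem F260409 : act 9 n58139 = n56991 := d38_2 (iv F255562) D58139 (iv D56991)
def n58140 : Q := act 3 n56969
theorem D58140 : act 3 n56969 = n58140 := rfl
theorem F260410 : act 8 n58140 = n56992 := d28_2 D56969 D58140 (iv D56992) (iv D55727) (iv F249850)
theorem F260411 : act 9 n58140 = n56970 := d29_2 (iv F255564) D58140 (iv D56970)
def n58141 : Q := act 2 n56970
theorem D58141 : act 2 n56970 = n58141 := rfl
theorem F260412 : act 8 n58141 = n56971 := d22_2 (iv F255565) D58141 (iv D56971)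
def n58142 : Q := act 4 n56970
theorem D58142 : act 4 n56970 = n58142 := rfl
theorem F260413 : act 3 n58142 = n58142 := d24_1 D58142 (iv D58142) (iv D56970) F249852 D56970
theorem F260414 : act 8 n58142 = n56972 := d33_2 (iv F255565) D58142 (iv D56972)
def n58143 : Q := act 1 n56971
theorem D58143 : act 1 n56971 = n58143 := rfl
theorem F260415 : act 3 n58143 = n56974 := d10_2 (iv F255566) D58143 (iv D56974)
theorem F260416 : act 9 n58143 = n56998 := d16_2 (iv F255567) D58143 (iv D56998)
def n58144 : Q := act 4 n56971
theorem D58144 : act 4 n56971 = n58144 := rfl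
theorem F260417 : act 2 n58144 = n56972 := d18_1 D58144 (iv D56972) D56971
theorem F260418 : act 9 n58144 = n56999 := d34_2 (iv F255567) D58144 (iv D56999)
def n58145 : Q := act 5 n56972
theorem D58145 : act 5 n56972 = n58145 := rfl
theorem F260419 : act 3 n58145 = n56973 := d25_1 D58145 (iv D56973) (iv F255568)
theorem F260420 : act 9 n58145 = n57000 := d38_2 (iv F255569) D58145 (iv D57000)
def n58146 : Q := act 0 n56974
theorem D58146 : act 0 n56974 = n58146 := rfl
theorem F260421 : act 9 n58146 = n57004 := d8_2 (iv F255573) D58146 (iv D57004)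
def n58147 : Q := act 2 n56976
theorem D58147 : act 2 n56976 = n58147 := rfl
theorem F260422 : act 3 n58147 = n56979 := d17_2 D56976 D58147 (iv D56979) (iv D55715) (iv F249863)
theorem F260423 : act 6 n58147 = n56982 := d20_2 (iv F255577) D58147 (iv D56982)
def n58148 : Q := act 4 n56976
theorem D58148 : act 4 n56976 = n58148 := rfl
theorem F260424 : act 3 n58148 = n56977 := d24_1 D58148 (iv D56977) (iv D55713) (iv F249864) D56976
theorem F260425 : act 6 n58148 = n56983 := d31_2 (iv F255577) D58148 (iv D56983)
def n58149 : Q := act 2 n56978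
theorem D58149 : act 2 n56978 = n58149 := rfl
theorem F260426 : act 5 n58149 = n56979 := d19_2 (iv F255581) D58149 (iv D56979)
theorem F260427 : act 8 n58149 = n57110 := d22_2 (iv F255582) D58149 (iv D57110)
def n58150 : Q := act 4 n56978
theorem D58150 : act 4 n56978 = n58150 := rfl
theorem F260428 : act 8 n58150 = n57111 := d33_2 (iv F255582) D58150 (iv D57111)
def n58151 : Q := act 1 n56979
theorem D58151 : act 1 n56979 = n58151 := rfl
theorem F260429 : act 6 n58151 = n56984 := d13_2 (iv F255583) D58151 (iv D56984)
theorem F260430 : act 8 n58151 = n57112 := d15_2 (iv F255584) D58151 (iv D57112)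
def n58152 : Q := act 2 n56980
theorem D58152 : act 2 n56980 = n58152 := rfl
theorem F260431 : act 7 n58152 = n56989 := d21_2 (iv F255586) D58152 (iv D56989)
def n58153 : Q := act 4 n56980
theorem D58153 : act 4 n56980 = n58153 := rfl
theorem F260432 : act 1 n58153 = n56983 := d11_1 D58153 (iv D56983) (iv F255585)
theorem F260433 : act 3 n58153 = n56981 := d24_1 D58153 (iv D56981) (iv D55717) (iv F249874) D56980
theorem F260434 : act 7 n58153 = n56990 := d32_2 (iv F255586) D58153 (iv D56990)
def n58154 : Q := act 1 n56982
theorem D58154 : act 1 n56982 = n58154 := rfl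
theorem F260435 : act 3 n58154 = n56984 := d10_2 (iv F255590) D58154 (iv D56984)
theorem F260436 : act 7 n58154 = n56998 := d14_2 (iv F255591) D58154 (iv D56998)
def n58155 : Q := act 4 n56982
theorem D58155 : act 4 n56982 = n58155 := rfl
theorem F260437 : act 2 n58155 = n56983 := d18_1 D58155 (iv D56983) D56982
theorem F260438 : act 7 n58155 = n56999 := d32_2 (iv F255591) D58155 (iv D56999)
def n58156 : Q := act 0 n56984
theorem D58156 : act 0 n56984 = n58156 := rfl
theorem F260439 : act 7 n58156 = n57004 := d6_2 (iv F255594) D58156 (iv D57004)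
theorem F260440 : act 8 n58156 = n57125 := d7_2 (iv F255595) D58156 (iv D57125)
def n58157 : Q := act 2 n56985
theorem D58157 : act 2 n56985 = n58157 := rfl
theorem F260441 : act 0 n58157 = n56989 := d1_1 D58157 (iv D56989) (iv F255596)
def n58158 : Q := act 4 n56985
theorem D58158 : act 4 n56985 = n58158 := rfl
theorem F260442 : act 0 n58158 = n56990 := d3_1 D58158 (iv D56990) (iv F255596)
theorem F260443 : act 3 n58158 = n56986 := d24_1 D58158 (iv D56986) (iv D55722) (iv F249886) D56985
def n58159 : Q := act 2 n56987
theorem D58159 : act 2 n56987 = n58159 := rfl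
theorem F260444 : act 8 n58159 = n56989 := d22_2 (iv F255600) D58159 (iv D56989)
def n58160 : Q := act 4 n56987
theorem D58160 : act 4 n56987 = n58160 := rfl
theorem F260445 : act 1 n58160 = n56994 := d11_1 D58160 (iv D56994) (iv F255599)
theorem F260446 : act 3 n58160 = n57005 := d24_1 D58160 (iv D57005) (iv D55743) (iv F249891) D56987
theorem F260447 : act 8 n58160 = n56990 := d33_2 (iv F255600) D58160 (iv D56990)
def n58161 : Q := act 2 n56988
theorem D58161 : act 2 n56988 = n58161 := rfl
theorem F260448 : act 5 n58161 = n56989 := d19_2 (iv F255602) D58161 (iv D56989)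
def n58162 : Q := act 1 n56989
theorem D58162 : act 1 n56989 = n58162 := rfl
theorem F260449 : act 2 n58162 = n56998 := d9_2 D56989 D58162 (iv D56998) (iv D55731) (iv F249895)
def n58163 : Q := act 4 n56989
theorem D58163 : act 4 n56989 = n58163 := rfl
theorem F260450 : act 2 n58163 = n56990 := d18_1 D58163 (iv D56990) D56989
def n58164 : Q := act 5 n56990
theorem D58164 : act 5 n56990 = n58164 := rfl
theorem F260451 : act 1 n58164 = n57000 := d12_1 D58164 (iv D57000) (iv F255603)
theorem F260452 : act 3 n58164 = n56991 := d25_1 D58164 (iv D56991) (iv F255604)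
def n58165 : Q := act 2 n56992
theorem D58165 : act 2 n56992 = n58165 := rfl
theorem F260453 : act 3 n58165 = n57137 := d17_2 D56992 D58165 (iv D57137) (iv D55876) (iv F249898)
theorem F260454 : act 9 n58165 = n56993 := d23_2 (iv F255608) D58165 (iv D56993)
def n58166 : Q := act 4 n56992
theorem D58166 : act 4 n56992 = n58166 := rfl
theorem F260455 : act 3 n58166 = n57006 := d24_1 D58166 (iv D57006) (iv D55746) (iv F249899) D56992
theorem F260456 : act 9 n58166 = n56994 := d34_2 (iv F255608) D58166 (iv D56994)
def n58167 : Q := act 1 n56993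
theorem D58167 : act 1 n56993 = n58167 := rfl
theorem F260457 : act 3 n58167 = n57138 := d10_2 (iv F255609) D58167 (iv D57138)
theorem F260458 : act 8 n58167 = n56998 := d15_2 (iv F255610) D58167 (iv D56998)
def n58168 : Q := act 4 n56993
theorem D58168 : act 4 n56993 = n58168 := rfl
theorem F260459 : act 2 n58168 = n56994 := d18_1 D58168 (iv D56994) D56993
theorem F260460 : act 8 n58168 = n56999 := d33_2 (iv F255610) D58168 (iv D56999)
def n58169 : Q := act 2 n56995
theorem D58169 : act 2 n56995 = n58169 := rfl
theorem F260461 : act 3 n58169 = n57002 := d17_2 D56995 D58169 (iv D57002) (iv D55735) (iv F249902)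
theorem F260462 : act 6 n58169 = n56996 := d20_2 (iv F255613) D58169 (iv D56996)
def n58170 : Q := act 1 n56996
theorem D58170 : act 1 n56996 = n58170 := rfl
theorem F260463 : act 3 n58170 = n57003 := d10_2 (iv F255614) D58170 (iv D57003)
theorem F260464 : act 5 n58170 = n56998 := d12_2 (iv F255615) D58170 (iv D56998)
def n58171 : Q := act 4 n56996
theorem D58171 : act 4 n56996 = n58171 := rfl
theorem F260465 : act 2 n58171 = n56997 := d18_1 D58171 (iv D56997) D56996
theorem F260466 : act 7 n58171 = n57002 := d32_2 F256109 D58171 (iv F256106)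
theorem F260467 : act 8 n58171 = n57148 := d33_2 F256886 D58171 (iv F256883)
def n58172 : Q := act 0 n56998
theorem D58172 : act 0 n56998 = n58172 := rfl
theorem F260468 : act 3 n58172 = n57004 := d2_2 (iv F255619) D58172 (iv D57004)
def n58173 : Q := act 4 n56998
theorem D58173 : act 4 n56998 = n58173 := rfl
theorem F260469 : act 1 n58173 = n56999 := d11_1 D58173 (iv D56999) D56998
def n58174 : Q := act 5 n56999
theorem D58174 : act 5 n56999 = n58174 := rfl
theorem F260470 : act 2 n58174 = n57000 := d19_1 D58174 (iv D57000) (iv F255620)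
def n58175 : Q := act 6 n57000
theorem D58175 : act 6 n57000 = n58175 := rfl
theorem F260471 : act 3 n58175 = n57001 := d26_1 D58175 (iv D57001) (iv F255621)
def n58176 : Q := act 1 n57002
theorem D58176 : act 1 n57002 = n58176 := rfl
theorem F260472 : act 6 n58176 = n57003 := d13_2 (iv F255624) D58176 (iv D57003)
theorem F260473 : act 8 n58176 = n57149 := d15_2 (iv F255625) D58176 (iv D57149)
def n58177 : Q := act 0 n57003
theorem D58177 : act 0 n57003 = n58177 := rfl
theorem F260474 : act 5 n58177 = n57004 := d4_2 (iv F255626) D58177 (iv D57004)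
theorem F260475 : act 8 n58177 = n57150 := d7_2 (iv F255627) D58177 (iv D57150)
def n58178 : Q := act 3 n57007
theorem D58178 : act 3 n57007 = n58178 := rfl
theorem F260476 : act 0 n58178 = n57019 := d2_1 D58178 (iv D57019) (iv F255633)
theorem F260477 : act 5 n58178 = n57008 := d25_2 (iv F255635) D58178 (iv D57008)
def n58179 : Q := act 2 n57008
theorem D58179 : act 2 n57008 = n58179 := rfl
theorem F260478 : act 0 n58179 = n57020 := d1_1 D58179 (iv D57020) (iv F255636)
theorem F260479 : act 4 n58179 = n57051 := d18_2 (iv F255637) D58179 (iv D57051)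
theorem F260480 : act 6 n58179 = n57009 := d20_2 (iv F255638) D58179 (iv D57009)
def n58180 : Q := act 1 n57009
theorem D58180 : act 1 n57009 = n58180 := rfl
theorem F260481 : act 4 n58180 = n57054 := d11_2 (iv F255640) D58180 (iv D57054)
theorem F260482 : act 7 n58180 = n57010 := d14_2 (iv F255641) D58180 (iv D57010)
def n58181 : Q := act 0 n57010
theorem D58181 : act 0 n57010 = n58181 := rfl
theorem F260483 : act 1 n58181 = n57040 := d0_2 D57010 D58181 (iv D57040) (iv D55781) (iv F249953)
theorem F260484 : act 4 n58181 = n57061 := d3_2 (iv F255642) D58181 (iv D57061)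
def n58182 : Q := act 1 n57011
theorem D58182 : act 1 n57011 = n58182 := rfl
theorem F260485 : act 4 n58182 = n57072 := d11_2 (iv F255643) D58182 (iv D57072)
theorem F260486 : act 8 n58182 = n57015 := d15_2 (iv F255644) D58182 (iv D57015)
def n58183 : Q := act 2 n57012
theorem D58183 : act 2 n57012 = n58183 := rfl
theorem F260487 : act 4 n58183 = n57076 := d18_2 (iv F255645) D58183 (iv D57076)
theorem F260488 : act 6 n58183 = n57013 := d20_2 (iv F255646) D58183 (iv D57013)
theorem F260489 : act 9 n58183 = n57020 := d23_2 (iv F255647) D58183 (iv D57020)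
def n58184 : Q := act 1 n57013
theorem D58184 : act 1 n57013 = n58184 := rfl
theorem F260490 : act 4 n58184 = n57080 := d11_2 (iv F255648) D58184 (iv D57080)
theorem F260491 : act 7 n58184 = n57015 := d14_2 (iv F255649) D58184 (iv D57015)
theorem F260492 : act 9 n58184 = n57029 := d16_2 (iv F255650) D58184 (iv D57029)
def n58185 : Q := act 1 n57014
theorem D58185 : act 1 n57014 = n58185 := rfl
theorem F260493 : act 2 n58185 = n57048 := d9_2 D57014 D58185 (iv D57048) (iv D55791) (iv F249963)
theorem F260494 : act 5 n58185 = n57015 := d12_2 (iv F255651) D58185 (iv D57015)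
theorem F260495 : act 9 n58185 = n57039 := d16_2 (iv F255652) D58185 (iv D57039)
def n58186 : Q := act 0 n57015
theorem D58186 : act 0 n57015 = n58186 := rfl
theorem F260496 : act 4 n58186 = n57101 := d3_2 (iv F255653) D58186 (iv D57101)
theorem F260497 : act 9 n58186 = n57040 := d8_2 (iv F255654) D58186 (iv D57040)
def n58187 : Q := act 3 n57016
theorem D58187 : act 3 n57016 = n58187 := rfl
theorem F260498 : act 5 n58187 = n57017 := d25_2 (iv F255657) D58187 (iv D57017)
def n58188 : Q := act 2 n57017
theorem D58188 : act 2 n57017 = n58188 := rfl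
theorem F260499 : act 3 n58188 = n57020 := d17_2 D57017 D58188 (iv D57020) (iv D55762) (iv F249971)
theorem F260500 : act 6 n58188 = n57026 := d20_2 (iv F255658) D58188 (iv D57026)
def n58189 : Q := act 3 n57018
theorem D58189 : act 3 n57018 = n58189 := rfl
theorem F260501 : act 1 n58189 = n57050 := d10_1 D58189 (iv D57050) (iv F255659)
theorem F260502 : act 5 n58189 = n57027 := d25_2 (iv F255661) D58189 (iv D57027)
theorem F260503 : act 6 n58189 = n57019 := d26_2 (iv F255662) D58189 (iv D57019)
theorem F260504 : act 9 n58189 = n57034 := d29_2 (iv F255663) D58189 (iv D57034)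
def n58190 : Q := act 2 n57019
theorem D58190 : act 2 n57019 = n58190 := rfl
theorem F260505 : act 5 n58190 = n57020 := d19_2 (iv F255664) D58190 (iv D57020)
def n58191 : Q := act 4 n57019
theorem D58191 : act 4 n57019 = n58191 := rfl
theorem F260506 : act 3 n58191 = n58191 := d24_1 D58191 (iv D58191) (iv D57019) F249978 D57019
theorem F260507 : act 5 n58191 = n57111 := d30_2 (iv F255664) D58191 (iv D57111) F250219 (iv F249980)
def n58192 : Q := act 1 n57020
theorem D58192 : act 1 n57020 = n58192 := rfl
theorem F260508 : act 4 n58192 = n57112 := d11_2 (iv F255665) D58192 (iv D57112)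
theorem F260509 : act 6 n58192 = n57029 := d13_2 (iv F255666) D58192 (iv D57029)
def n58193 : Q := act 3 n57021
theorem D58193 : act 3 n57021 = n58193 := rfl
theorem F260510 : act 1 n58193 = n57025 := d10_1 D58193 (iv D57025) (iv F255667)
theorem F260511 : act 5 n58193 = n57022 := d25_2 (iv F255670) D58193 (iv D57022)
theorem F260512 : act 7 n58193 = n57032 := d27_2 (iv F255671) D58193 (iv D57032)
def n58194 : Q := act 2 n57022
theorem D58194 : act 2 n57022 = n58194 := rfl
theorem F260513 : act 7 n58194 = n57033 := d21_2 (iv F255673) D58194 (iv D57033)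
def n58195 : Q := act 3 n57023
theorem D58195 : act 3 n57023 = n58195 := rfl
theorem F260514 : act 5 n58195 = n57024 := d25_2 (iv F255675) D58195 (iv D57024)
theorem F260515 : act 7 n58195 = n57034 := d27_2 (iv F255676) D58195 (iv D57034)
theorem F260516 : act 8 n58195 = n57025 := d28_2 D57023 D58195 (iv D57025) (iv D55767) (iv F249990)
def n58196 : Q := act 2 n57024
theorem D58196 : act 2 n57024 = n58196 := rfl
theorem F260517 : act 7 n58196 = n57035 := d21_2 (iv F255677) D58196 (iv D57035)
theorem F260518 : act 8 n58196 = n57026 := d22_2 (iv F255678) D58196 (iv D57026)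
def n58197 : Q := act 2 n57025
theorem D58197 : act 2 n57025 = n58197 := rfl
theorem F260519 : act 3 n58197 = n57028 := d17_2 D57025 D58197 (iv D57028) (iv D55770) (iv F249996)
theorem F260520 : act 5 n58197 = n57026 := d19_2 (iv F255679) D58197 (iv D57026)
theorem F260521 : act 7 n58197 = n57036 := d21_2 (iv F255680) D58197 (iv D57036)
def n58198 : Q := act 4 n57025
theorem D58198 : act 4 n57025 = n58198 := rfl
theorem F260522 : act 3 n58198 = n57042 := d24_1 D58198 (iv D57042) (iv D55784) (iv F249997) D57025
theorem F260523 : act 7 n58198 = n57037 := d32_2 (iv F255680) D58198 (iv D57037)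
def n58199 : Q := act 1 n57026
theorem D58199 : act 1 n57026 = n58199 := rfl
theorem F260524 : act 3 n58199 = n57029 := d10_2 (iv F255681) D58199 (iv D57029)
theorem F260525 : act 7 n58199 = n57038 := d14_2 (iv F255682) D58199 (iv D57038)
def n58200 : Q := act 2 n57027
theorem D58200 : act 2 n57027 = n58200 := rfl
theorem F260526 : act 6 n58200 = n57028 := d20_2 (iv F255684) D58200 (iv D57028)
theorem F260527 : act 9 n58200 = n57035 := d23_2 (iv F255685) D58200 (iv D57035)
def n58201 : Q := act 1 n57028
theorem D58201 : act 1 n57028 = n58201 := rfl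
theorem F260528 : act 2 n58201 = n57054 := d9_2 D57028 D58201 (iv D57054) (iv D55797) (iv F250005)
theorem F260529 : act 5 n58201 = n57029 := d12_2 (iv F255686) D58201 (iv D57029)
theorem F260530 : act 7 n58201 = n57039 := d14_2 (iv F255687) D58201 (iv D57039)
def n58202 : Q := act 0 n57029
theorem D58202 : act 0 n57029 = n58202 := rfl
theorem F260531 : act 4 n58202 = n57125 := d3_2 (iv F255688) D58202 (iv D57125)
theorem F260532 : act 7 n58202 = n57040 := d6_2 (iv F255689) D58202 (iv D57040)
def n58203 : Q := act 3 n57030
theorem D58203 : act 3 n57030 = n58203 := rfl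
theorem F260533 : act 0 n58203 = n57075 := d2_1 D58203 (iv D57075) (iv F255690)
theorem F260534 : act 1 n58203 = n57034 := d10_1 D58203 (iv D57034) (iv F255691)
theorem F260535 : act 5 n58203 = n57031 := d25_2 (iv F255693) D58203 (iv D57031)
theorem F260536 : act 8 n58203 = n57032 := d28_2 D57030 D58203 (iv D57032) (iv D55774) (iv F250012)
theorem F260537 : act 9 n58203 = n57050 := d29_2 (iv F255694) D58203 (iv D57050)
def n58204 : Q := act 2 n57031
theorem D58204 : act 2 n57031 = n58204 := rfl
theorem F260538 : act 0 n58204 = n57076 := d1_1 D58204 (iv D57076) (iv F255695)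
theorem F260539 : act 6 n58204 = n57047 := d20_2 (iv F255697) D58204 (iv D57047)
theorem F260540 : act 8 n58204 = n57033 := d22_2 (iv F255698) D58204 (iv D57033)
theorem F260541 : act 9 n58204 = n57051 := d23_2 (iv F255699) D58204 (iv D57051)
def n58205 : Q := act 2 n57032
theorem D58205 : act 2 n57032 = n58205 := rfl
theorem F260542 : act 3 n58205 = n57057 := d17_2 D57032 D58205 (iv D57057) (iv D55800) (iv F250021)
theorem F260543 : act 5 n58205 = n57033 := d19_2 (iv F255701) D58205 (iv D57033)
def n58206 : Q := act 4 n57032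
theorem D58206 : act 4 n57032 = n58206 := rfl
theorem F260544 : act 1 n58206 = n57037 := d11_1 D58206 (iv D57037) (iv F255700)
theorem F260545 : act 3 n58206 = n57043 := d24_1 D58206 (iv D57043) (iv D55785) (iv F250022) D57032
def n58207 : Q := act 1 n57033
theorem D58207 : act 1 n57033 = n58207 := rfl
theorem F260546 : act 2 n58207 = n57038 := d9_2 D57033 D58207 (iv D57038) (iv D55779) (iv F250024)
def n58208 : Q := act 2 n57034
theorem D58208 : act 2 n57034 = n58208 := rfl
theorem F260547 : act 5 n58208 = n57035 := d19_2 (iv F255702) D58208 (iv D57035)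
theorem F260548 : act 8 n58208 = n57036 := d22_2 (iv F255703) D58208 (iv D57036)
def n58209 : Q := act 4 n57034
theorem D58209 : act 4 n57034 = n58209 := rfl
theorem F260549 : act 3 n58209 = n58209 := d24_1 D58209 (iv D58209) (iv D57034) F250025 D57034
theorem F260550 : act 8 n58209 = n57037 := d33_2 (iv F255703) D58209 (iv D57037)
def n58210 : Q := act 1 n57035
theorem D58210 : act 1 n57035 = n58210 := rfl
theorem F260551 : act 8 n58210 = n57038 := d15_2 (iv F255704) D58210 (iv D57038)
def n58211 : Q := act 1 n57036
theorem D58211 : act 1 n57036 = n58211 := rfl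
theorem F260552 : act 3 n58211 = n57039 := d10_2 (iv F255705) D58211 (iv D57039)
theorem F260553 : act 5 n58211 = n57038 := d12_2 (iv F255706) D58211 (iv D57038)
def n58212 : Q := act 4 n57036
theorem D58212 : act 4 n57036 = n58212 := rfl
theorem F260554 : act 2 n58212 = n57037 := d18_1 D58212 (iv D57037) D57036
def n58213 : Q := act 0 n57038
theorem D58213 : act 0 n57038 = n58213 := rfl
theorem F260555 : act 3 n58213 = n57040 := d2_2 (iv F255708) D58213 (iv D57040)
def n58214 : Q := act 0 n57039
theorem D58214 : act 0 n57039 = n58214 := rfl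
theorem F260556 : act 2 n58214 = n57061 := d1_2 (iv F255709) D58214 (iv D57061)
theorem F260557 : act 5 n58214 = n57040 := d4_2 (iv F255710) D58214 (iv D57040)
def n58215 : Q := act 4 n57041
theorem D58215 : act 4 n57041 = n58215 := rfl
theorem F260558 : act 1 n58215 = n57042 := d11_1 D58215 (iv D57042) (iv F255712)
theorem F260559 : act 7 n58215 = n57043 := d32_2 (iv F255714) D58215 (iv D57043)
theorem F260560 : act 8 n58215 = n58215 := d33_2 F255715 D58215 (iv D58215)
def n58216 : Q := act 2 n57044
theorem D58216 : act 2 n57044 = n58216 := rfl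
theorem F260561 : act 0 n58216 = n57070 := d1_1 D58216 (iv D57070) (iv F255720)
theorem F260562 : act 3 n58216 = n57046 := d17_2 D57044 D58216 (iv D57046) (iv D55789) (iv F250048)
def n58217 : Q := act 4 n57044
theorem D58217 : act 4 n57044 = n58217 := rfl
theorem F260563 : act 0 n58217 = n57071 := d3_1 D58217 (iv D57071) (iv F255720)
theorem F260564 : act 3 n58217 = n57045 := d24_1 D58217 (iv D57045) (iv D55788) (iv F250049) D57044
def n58218 : Q := act 1 n57046
theorem D58218 : act 1 n57046 = n58218 := rfl
theorem F260565 : act 8 n58218 = n57048 := d15_2 (iv F255724) D58218 (iv D57048)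
def n58219 : Q := act 1 n57047
theorem D58219 : act 1 n57047 = n58219 := rfl
theorem F260566 : act 7 n58219 = n57048 := d14_2 (iv F255726) D58219 (iv D57048)
theorem F260567 : act 9 n58219 = n57054 := d16_2 (iv F255727) D58219 (iv D57054)
def n58220 : Q := act 0 n57048
theorem D58220 : act 0 n57048 = n58220 := rfl
theorem F260568 : act 1 n58220 = n57101 := d0_2 D57048 D58220 (iv D57101) (iv D55842) (iv F250058)
theorem F260569 : act 9 n58220 = n57061 := d8_2 (iv F255728) D58220 (iv D57061)
def n58221 : Q := act 2 n57049
theorem D58221 : act 2 n57049 = n58221 := rfl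
theorem F260570 : act 0 n58221 = n57108 := d1_1 D58221 (iv D57108) (iv F255729)
theorem F260571 : act 3 n58221 = n57051 := d17_2 D57049 D58221 (iv D57051) (iv D55794) (iv F250061)
theorem F260572 : act 6 n58221 = n57053 := d20_2 (iv F255730) D58221 (iv D57053)
def n58222 : Q := act 2 n57050
theorem D58222 : act 2 n57050 = n58222 := rfl
theorem F260573 : act 0 n58222 = n57110 := d1_1 D58222 (iv D57110) (iv F255731)
theorem F260574 : act 5 n58222 = n57051 := d19_2 (iv F255732) D58222 (iv D57051)
def n58223 : Q := act 4 n57050
theorem D58223 : act 4 n57050 = n58223 := rfl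
theorem F260575 : act 0 n58223 = n57111 := d3_1 D58223 (iv D57111) (iv F255731)
theorem F260576 : act 3 n58223 = n58223 := d24_1 D58223 (iv D58223) (iv D57050) F250065 D57050
def n58224 : Q := act 1 n57051
theorem D58224 : act 1 n57051 = n58224 := rfl
theorem F260577 : act 6 n58224 = n57054 := d13_2 (iv F255734) D58224 (iv D57054)
def n58225 : Q := act 2 n57052
theorem D58225 : act 2 n57052 = n58225 := rfl
theorem F260578 : act 7 n58225 = n57057 := d21_2 (iv F255736) D58225 (iv D57057)
def n58226 : Q := act 1 n57053
theorem D58226 : act 1 n57053 = n58226 := rfl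
theorem F260579 : act 3 n58226 = n57054 := d10_2 (iv F255738) D58226 (iv D57054)
theorem F260580 : act 7 n58226 = n57060 := d14_2 (iv F255739) D58226 (iv D57060)
def n58227 : Q := act 0 n57054
theorem D58227 : act 0 n57054 = n58227 := rfl
theorem F260581 : act 1 n58227 = n57125 := d0_2 D57054 D58227 (iv D57125) (iv D55865) (iv F250074)
theorem F260582 : act 7 n58227 = n57061 := d6_2 (iv F255740) D58227 (iv D57061)
def n58228 : Q := act 2 n57055
theorem D58228 : act 2 n57055 = n58228 := rfl
theorem F260583 : act 0 n58228 = n57057 := d1_1 D58228 (iv D57057) (iv F255741)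
def n58229 : Q := act 2 n57056
theorem D58229 : act 2 n57056 = n58229 := rfl
theorem F260584 : act 8 n58229 = n57057 := d22_2 (iv F255744) D58229 (iv D57057)
def n58230 : Q := act 1 n57057
theorem D58230 : act 1 n57057 = n58230 := rfl
theorem F260585 : act 2 n58230 = n57060 := d9_2 D57057 D58230 (iv D57060) (iv D55803) (iv F250081)
def n58231 : Q := act 2 n57058
theorem D58231 : act 2 n57058 = n58231 := rfl
theorem F260586 : act 0 n58231 = n57137 := d1_1 D58231 (iv D57137) (iv F255745)
theorem F260587 : act 9 n58231 = n57059 := d23_2 (iv F255746) D58231 (iv D57059)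
def n58232 : Q := act 1 n57059
theorem D58232 : act 1 n57059 = n58232 := rfl
theorem F260588 : act 8 n58232 = n57060 := d15_2 (iv F255748) D58232 (iv D57060)
def n58233 : Q := act 0 n57060
theorem D58233 : act 0 n57060 = n58233 := rfl
theorem F260589 : act 1 n58233 = n57145 := d0_2 D57060 D58233 (iv D57145) (iv D55882) (iv F250087)
theorem F260590 : act 3 n58233 = n57061 := d2_2 (iv F255749) D58233 (iv D57061)
def n58234 : Q := act 3 n57062
theorem D58234 : act 3 n57062 = n58234 := rfl
theorem F260591 : act 0 n58234 = n57065 := d2_1 D58234 (iv D57065) (iv F255751)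
theorem F260592 : act 1 n58234 = n57139 := d10_1 D58234 (iv D57139) (iv F255752)
theorem F260593 : act 7 n58234 = n57128 := d27_2 (iv F255754) D58234 (iv D57128)
def n58235 : Q := act 4 n57063
theorem D58235 : act 4 n57063 = n58235 := rfl
theorem F260594 : act 0 n58235 = n57067 := d3_1 D58235 (iv D57067) (iv F255755)
theorem F260595 : act 1 n58235 = n57157 := d11_1 D58235 (iv D57157) (iv F255756)
theorem F260596 : act 7 n58235 = n57155 := d32_2 (iv F255758) D58235 (iv D57155)
theorem F260597 : act 8 n58235 = n57159 := d33_2 (iv F255759) D58235 (iv D57159)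
def n58236 : Q := act 3 n57064
theorem D58236 : act 3 n57064 = n58236 := rfl
theorem F260598 : act 1 n58236 = n57069 := d10_1 D58236 (iv D57069) (iv F255760)
theorem F260599 : act 8 n58236 = n57065 := d28_2 D57064 D58236 (iv D57065) (iv D55808) (iv F250098)
def n58237 : Q := act 2 n57065
theorem D58237 : act 2 n57065 = n58237 := rfl
def n58238 : Q := act 4 n57065
theorem D58238 : act 4 n57065 = n58238 := rfl
theorem F260600 : act 1 n58238 = n57071 := d11_1 D58238 (iv D57071) (iv F255762)
theorem F260601 : act 3 n58238 = n57067 := d24_1 D58238 (iv D57067) (iv D55809) (iv F250101) D57065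
def n58239 : Q := act 4 n57066
theorem D58239 : act 4 n57066 = n58239 := rfl
theorem F260602 : act 2 n58239 = n57067 := d18_1 D58239 (iv D57067) D57066
theorem F260603 : act 8 n58239 = n57162 := d33_2 (iv F255764) D58239 (iv D57162)
def n58240 : Q := act 3 n57068
theorem D58240 : act 3 n57068 = n58240 := rfl
theorem F260604 : act 9 n58240 = n57069 := d29_2 (iv F255769) D58240 (iv D57069)
def n58241 : Q := act 2 n57069
theorem D58241 : act 2 n57069 = n58241 := rfl
theorem F260605 : act 3 n58241 = n57092 := d17_2 D57069 D58241 (iv D57092) (iv D55834) (iv F250107)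
theorem F260606 : act 8 n58241 = n57070 := d22_2 (iv F255770) D58241 (iv D57070)
def n58242 : Q := act 4 n57069
theorem D58242 : act 4 n57069 = n58242 := rfl
theorem F260607 : act 3 n58242 = n57164 := d24_1 D58242 (iv D57164) (iv D55912) (iv F250108) D57069
theorem F260608 : act 8 n58242 = n57071 := d33_2 (iv F255770) D58242 (iv D57071)
def n58243 : Q := act 1 n57070
theorem D58243 : act 1 n57070 = n58243 := rfl
theorem F260609 : act 3 n58243 = n57072 := d10_2 (iv F255771) D58243 (iv D57072)
def n58244 : Q := act 4 n57070
theorem D58244 : act 4 n57070 = n58244 := rfl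
theorem F260610 : act 2 n58244 = n57071 := d18_1 D58244 (iv D57071) D57070
def n58245 : Q := act 0 n57072
theorem D58245 : act 0 n57072 = n58245 := rfl
theorem F260611 : act 8 n58245 = n57101 := d7_2 (iv F255773) D58245 (iv D57101)
def n58246 : Q := act 3 n57073
theorem D58246 : act 3 n57073 = n58246 := rfl
theorem F260612 : act 5 n58246 = n57074 := d25_2 (iv F255776) D58246 (iv D57074)
theorem F260613 : act 9 n58246 = n57107 := d29_2 (iv F255777) D58246 (iv D57107)
def n58247 : Q := act 2 n57074
theorem D58247 : act 2 n57074 = n58247 := rfl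
theorem F260614 : act 3 n58247 = n57076 := d17_2 D57074 D58247 (iv D57076) (iv D55818) (iv F250114)
theorem F260615 : act 6 n58247 = n57079 := d20_2 (iv F255778) D58247 (iv D57079)
theorem F260616 : act 9 n58247 = n57108 := d23_2 (iv F255779) D58247 (iv D57108)
def n58248 : Q := act 2 n57075
theorem D58248 : act 2 n57075 = n58248 := rfl
theorem F260617 : act 5 n58248 = n57076 := d19_2 (iv F255780) D58248 (iv D57076)
theorem F260618 : act 9 n58248 = n57110 := d23_2 (iv F255781) D58248 (iv D57110)
def n58249 : Q := act 4 n57075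
theorem D58249 : act 4 n57075 = n58249 := rfl
theorem F260619 : act 3 n58249 = n58249 := d24_1 D58249 (iv D58249) (iv D57075) F250118 D57075
theorem F260620 : act 9 n58249 = n57111 := d34_2 (iv F255781) D58249 (iv D57111)
def n58250 : Q := act 1 n57076
theorem D58250 : act 1 n57076 = n58250 := rfl
theorem F260621 : act 6 n58250 = n57080 := d13_2 (iv F255782) D58250 (iv D57080)
theorem F260622 : act 9 n58250 = n57112 := d16_2 (iv F255783) D58250 (iv D57112)
def n58251 : Q := act 2 n57077
theorem D58251 : act 2 n57077 = n58251 := rfl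
theorem F260623 : act 4 n58251 = n57137 := d18_2 (iv F255785) D58251 (iv D57137)
theorem F260624 : act 7 n58251 = n57086 := d21_2 (iv F255786) D58251 (iv D57086)
theorem F260625 : act 9 n58251 = n57114 := d23_2 (iv F255787) D58251 (iv D57114)
def n58252 : Q := act 2 n57078
theorem D58252 : act 2 n57078 = n58252 := rfl
theorem F260626 : act 7 n58252 = n57092 := d21_2 (iv F255788) D58252 (iv D57092)
theorem F260627 : act 8 n58252 = n57079 := d22_2 (iv F255789) D58252 (iv D57079)
def n58253 : Q := act 1 n57079
theorem D58253 : act 1 n57079 = n58253 := rfl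
theorem F260628 : act 3 n58253 = n57080 := d10_2 (iv F255790) D58253 (iv D57080)
theorem F260629 : act 7 n58253 = n57097 := d14_2 (iv F255791) D58253 (iv D57097)
theorem F260630 : act 9 n58253 = n57118 := d16_2 (iv F255792) D58253 (iv D57118)
def n58254 : Q := act 0 n57080
theorem D58254 : act 0 n57080 = n58254 := rfl
theorem F260631 : act 7 n58254 = n57101 := d6_2 (iv F255793) D58254 (iv D57101)
theorem F260632 : act 9 n58254 = n57125 := d8_2 (iv F255794) D58254 (iv D57125)
def n58255 : Q := act 2 n57081
theorem D58255 : act 2 n57081 = n58255 := rfl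
theorem F260633 : act 0 n58255 = n57086 := d1_1 D58255 (iv D57086) (iv F255795)
theorem F260634 : act 9 n58255 = n57127 := d23_2 (iv F255796) D58255 (iv D57127)
def n58256 : Q := act 3 n57082
theorem D58256 : act 3 n57082 = n58256 := rfl
def n58257 : Q := act 3 n57083
theorem D58257 : act 3 n57083 = n58257 := rfl
theorem F260635 : act 1 n58257 = n57090 := d10_1 D58257 (iv D57090) (iv F255799)
theorem F260636 : act 5 n58257 = n57084 := d25_2 (iv F255801) D58257 (iv D57084)
theorem F260637 : act 8 n58257 = n57085 := d28_2 D57083 D58257 (iv D57085) (iv D55827) (iv F250139)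
def n58258 : Q := act 2 n57084
theorem D58258 : act 2 n57084 = n58258 := rfl
theorem F260638 : act 8 n58258 = n57086 := d22_2 (iv F255803) D58258 (iv D57086)
def n58259 : Q := act 2 n57085
theorem D58259 : act 2 n57085 = n58259 := rfl
theorem F260639 : act 5 n58259 = n57086 := d19_2 (iv F255805) D58259 (iv D57086)
theorem F260640 : act 9 n58259 = n57129 := d23_2 (iv F255806) D58259 (iv D57129)
def n58260 : Q := act 4 n57085
theorem D58260 : act 4 n57085 = n58260 := rfl
theorem F260641 : act 1 n58260 = n57096 := d11_1 D58260 (iv D57096) (iv F255804)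
theorem F260642 : act 3 n58260 = n57104 := d24_1 D58260 (iv D57104) (iv D55844) (iv F250145) D57085
theorem F260643 : act 9 n58260 = n57130 := d34_2 (iv F255806) D58260 (iv D57130)
def n58261 : Q := act 1 n57086
theorem D58261 : act 1 n57086 = n58261 := rfl
theorem F260644 : act 2 n58261 = n57097 := d9_2 D57086 D58261 (iv D57097) (iv D55838) (iv F250148)
theorem F260645 : act 9 n58261 = n57131 := d16_2 (iv F255807) D58261 (iv D57131)
def n58262 : Q := act 8 n57087
theorem D58262 : act 8 n57087 = n58262 := rfl
theorem F260646 : act 4 n58262 = n58262 := d33_1 D58262 (iv D58262) F255809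
theorem F260647 : act 6 n58262 = n57089 := d40_1 D58262 (iv D57089) (iv F255810)
theorem F260648 : act 9 n58262 = n57088 := d44_2 D57087 D58262 (iv D57088) (iv D55830) D55829
def n58263 : Q := act 3 n57088
theorem D58263 : act 3 n57088 = n58263 := rfl
theorem F260649 : act 6 n58263 = n57090 := d26_2 (iv F255812) D58263 (iv D57090)
theorem F260650 : act 8 n58263 = n57094 := d28_2 D57088 D58263 (iv D57094) (iv D55836) (iv F250153)
def n58264 : Q := act 3 n57089
theorem D58264 : act 3 n57089 = n58264 := rfl
theorem F260651 : act 5 n58264 = n57091 := d25_2 (iv F255814) D58264 (iv D57091)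
theorem F260652 : act 8 n58264 = n57134 := d28_2 D57089 D58264 (iv D57134) (iv D55874) (iv F250156)
theorem F260653 : act 9 n58264 = n57090 := d29_2 (iv F255815) D58264 (iv D57090)
def n58265 : Q := act 2 n57090
theorem D58265 : act 2 n57090 = n58265 := rfl
theorem F260654 : act 5 n58265 = n57092 := d19_2 (iv F255816) D58265 (iv D57092)
theorem F260655 : act 8 n58265 = n57095 := d22_2 (iv F255817) D58265 (iv D57095)
def n58266 : Q := act 4 n57090
theorem D58266 : act 4 n57090 = n58266 := rfl
theorem F260656 : act 3 n58266 = n58266 := d24_1 D58266 (iv D58266) (iv D57090) F250159 D57090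
theorem F260657 : act 8 n58266 = n57096 := d33_2 (iv F255817) D58266 (iv D57096)
def n58267 : Q := act 2 n57091
theorem D58267 : act 2 n57091 = n58267 := rfl
theorem F260658 : act 8 n58267 = n57137 := d22_2 (iv F255818) D58267 (iv D57137)
theorem F260659 : act 9 n58267 = n57092 := d23_2 (iv F255819) D58267 (iv D57092)
def n58268 : Q := act 1 n57092
theorem D58268 : act 1 n57092 = n58268 := rfl
theorem F260660 : act 8 n58268 = n57097 := d15_2 (iv F255820) D58268 (iv D57097)
def n58269 : Q := act 3 n57093
theorem D58269 : act 3 n57093 = n58269 := rfl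
theorem F260661 : act 7 n58269 = n57094 := d27_2 (iv F255823) D58269 (iv D57094)
theorem F260662 : act 9 n58269 = n57139 := d29_2 (iv F255824) D58269 (iv D57139)
def n58270 : Q := act 2 n57094
theorem D58270 : act 2 n57094 = n58270 := rfl
theorem F260663 : act 3 n58270 = n57099 := d17_2 D57094 D58270 (iv D57099) (iv D55840) (iv F250167)
theorem F260664 : act 6 n58270 = n57095 := d20_2 (iv F255825) D58270 (iv D57095)
theorem F260665 : act 9 n58270 = n57140 := d23_2 (iv F255826) D58270 (iv D57140)
def n58271 : Q := act 4 n57094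
theorem D58271 : act 4 n57094 = n58271 := rfl
theorem F260666 : act 3 n58271 = n57106 := d24_1 D58271 (iv D57106) (iv D55847) (iv F250168) D57094
theorem F260667 : act 6 n58271 = n57096 := d31_2 (iv F255825) D58271 (iv D57096)
theorem F260668 : act 9 n58271 = n57141 := d34_2 (iv F255826) D58271 (iv D57141)
def n58272 : Q := act 1 n57095
theorem D58272 : act 1 n57095 = n58272 := rfl
theorem F260669 : act 3 n58272 = n57100 := d10_2 (iv F255827) D58272 (iv D57100)
theorem F260670 : act 5 n58272 = n57097 := d12_2 (iv F255828) D58272 (iv D57097)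
theorem F260671 : act 9 n58272 = n57142 := d16_2 (iv F255829) D58272 (iv D57142)
def n58273 : Q := act 4 n57095
theorem D58273 : act 4 n57095 = n58273 := rfl
theorem F260672 : act 2 n58273 = n57096 := d18_1 D58273 (iv D57096) D57095
theorem F260673 : act 9 n58273 = n57143 := d34_2 (iv F255829) D58273 (iv D57143)
def n58274 : Q := act 0 n57097
theorem D58274 : act 0 n57097 = n58274 := rfl
theorem F260674 : act 3 n58274 = n57101 := d2_2 (iv F255832) D58274 (iv D57101)
theorem F260675 : act 9 n58274 = n57145 := d8_2 (iv F255833) D58274 (iv D57145)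
def n58275 : Q := act 2 n57098
theorem D58275 : act 2 n57098 = n58275 := rfl
theorem F260676 : act 7 n58275 = n57099 := d21_2 (iv F255834) D58275 (iv D57099)
theorem F260677 : act 9 n58275 = n57148 := d23_2 (iv F255835) D58275 (iv D57148)
def n58276 : Q := act 1 n57099
theorem D58276 : act 1 n57099 = n58276 := rfl
theorem F260678 : act 6 n58276 = n57100 := d13_2 (iv F255836) D58276 (iv D57100)
theorem F260679 : act 9 n58276 = n57149 := d16_2 (iv F255837) D58276 (iv D57149)
def n58277 : Q := act 0 n57100
theorem D58277 : act 0 n57100 = n58277 := rfl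
theorem F260680 : act 5 n58277 = n57101 := d4_2 (iv F255838) D58277 (iv D57101)
theorem F260681 : act 9 n58277 = n57150 := d8_2 (iv F255839) D58277 (iv D57150)
def n58278 : Q := act 4 n57103
theorem D58278 : act 4 n57103 = n58278 := rfl
theorem F260682 : act 2 n58278 = n57104 := d18_1 D58278 (iv D57104) D57103
theorem F260683 : act 5 n58278 = n57106 := d30_2 (iv F255847) D58278 (iv D57106) F250201 (iv F250193)
theorem F260684 : act 8 n58278 = n58278 := d33_2 F255848 D58278 (iv D58278)
theorem F260685 : act 9 n58278 = n57156 := d34_2 (iv F255849) D58278 (iv D57156)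
def n58279 : Q := act 4 n57105
theorem D58279 : act 4 n57105 = n58279 := rfl
theorem F260686 : act 2 n58279 = n57169 := d18_1 D58279 (iv D57169) (iv F255853)
theorem F260687 : act 7 n58279 = n57106 := d32_2 (iv F255855) D58279 (iv D57106)
theorem F260688 : act 8 n58279 = n58279 := d33_2 F255856 D58279 (iv D58279)
theorem F260689 : act 9 n58279 = n57157 := d34_2 (iv F255857) D58279 (iv D57157)
def n58280 : Q := act 2 n57107
theorem D58280 : act 2 n57107 = n58280 := rfl
theorem F260690 : act 3 n58280 = n57110 := d17_2 D57107 D58280 (iv D57110) (iv D55853) (iv F250212)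
theorem F260691 : act 5 n58280 = n57108 := d19_2 (iv F255861) D58280 (iv D57108)
def n58281 : Q := act 4 n57107
theorem D58281 : act 4 n57107 = n58281 := rfl
theorem F260692 : act 3 n58281 = n58281 := d24_1 D58281 (iv D58281) (iv D57107) F250213 D57107
def n58282 : Q := act 1 n57108
theorem D58282 : act 1 n57108 = n58282 := rfl
theorem F260693 : act 3 n58282 = n57112 := d10_2 (iv F255862) D58282 (iv D57112)
theorem F260694 : act 6 n58282 = n57118 := d13_2 (iv F255863) D58282 (iv D57118)
def n58283 : Q := act 2 n57109
theorem D58283 : act 2 n57109 = n58283 := rfl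
theorem F260695 : act 5 n58283 = n57123 := d19_2 (iv F255864) D58283 (iv D57123)
theorem F260696 : act 6 n58283 = n57110 := d20_2 (iv F255865) D58283 (iv D57110)
def n58284 : Q := act 4 n57109
theorem D58284 : act 4 n57109 = n58284 := rfl
theorem F260697 : act 3 n58284 = n58284 := d24_1 D58284 (iv D58284) (iv D57109) F250216 D57109
theorem F260698 : act 6 n58284 = n57111 := d31_2 (iv F255865) D58284 (iv D57111)
def n58285 : Q := act 1 n57110
theorem D58285 : act 1 n57110 = n58285 := rfl
theorem F260699 : act 5 n58285 = n57112 := d12_2 (iv F255866) D58285 (iv D57112)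
def n58286 : Q := act 4 n57110
theorem D58286 : act 4 n57110 = n58286 := rfl
theorem F260700 : act 2 n58286 = n57111 := d18_1 D58286 (iv D57111) D57110
def n58287 : Q := act 0 n57112
theorem D58287 : act 0 n57112 = n58287 := rfl
theorem F260701 : act 6 n58287 = n57125 := d5_2 (iv F255868) D58287 (iv D57125)
def n58288 : Q := act 2 n57113
theorem D58288 : act 2 n57113 = n58288 := rfl
theorem F260702 : act 5 n58288 = n57114 := d19_2 (iv F255870) D58288 (iv D57114)
theorem F260703 : act 7 n58288 = n57129 := d21_2 (iv F255871) D58288 (iv D57129)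
theorem F260704 : act 8 n58288 = n57147 := d22_2 (iv F255872) D58288 F255936
def n58289 : Q := act 4 n57113
theorem D58289 : act 4 n57113 = n58289 := rfl
theorem F260705 : act 1 n58289 = n57117 := d11_1 D58289 (iv D57117) (iv F255869)
theorem F260706 : act 3 n58289 = n57152 := d24_1 D58289 (iv D57152) (iv D55890) (iv F250222) D57113
theorem F260707 : act 5 n58289 = n57136 := d30_2 (iv F255870) D58289 (iv D57136) F250272 (iv F250226)
theorem F260708 : act 7 n58289 = n57130 := d32_2 (iv F255871) D58289 (iv D57130)
theorem F260709 : act 8 n58289 = n57144 := d33_2 (iv F255872) D58289 F255933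
def n58290 : Q := act 1 n57114
theorem D58290 : act 1 n57114 = n58290 := rfl
theorem F260710 : act 2 n58290 = n57118 := d9_2 D57114 D58290 (iv D57118) (iv D55859) (iv F250225)
theorem F260711 : act 4 n58290 = n57138 := d11_2 (iv F255873) D58290 (iv D57138)
theorem F260712 : act 7 n58290 = n57131 := d14_2 (iv F255874) D58290 (iv D57131)
theorem F260713 : act 8 n58290 = n57146 := d15_2 (iv F255875) D58290 F255935
def n58291 : Q := act 1 n57115
theorem D58291 : act 1 n57115 = n58291 := rfl
theorem F260714 : act 2 n58291 = n57146 := d9_2 D57115 D58291 F255935 F250284 (iv F250229)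
theorem F260715 : act 4 n58291 = n57131 := d11_2 (iv F255876) D58291 (iv D57131)
theorem F260716 : act 7 n58291 = n57138 := d14_2 (iv F255877) D58291 (iv D57138)
theorem F260717 : act 8 n58291 = n57118 := d15_2 (iv F255878) D58291 (iv D57118)
def n58292 : Q := act 1 n57116
theorem D58292 : act 1 n57116 = n58292 := rfl
theorem F260718 : act 3 n58292 = n57124 := d10_2 (iv F255879) D58292 (iv D57124)
theorem F260719 : act 5 n58292 = n57118 := d12_2 (iv F255880) D58292 (iv D57118)
theorem F260720 : act 7 n58292 = n57142 := d14_2 (iv F255881) D58292 (iv D57142)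
def n58293 : Q := act 4 n57116
theorem D58293 : act 4 n57116 = n58293 := rfl
theorem F260721 : act 2 n58293 = n57117 := d18_1 D58293 (iv D57117) D57116
theorem F260722 : act 7 n58293 = n57143 := d32_2 (iv F255881) D58293 (iv D57143)
def n58294 : Q := act 5 n57117
theorem D58294 : act 5 n57117 = n58294 := rfl
theorem F260723 : act 1 n58294 = n57136 := d12_1 D58294 (iv F260707) F260705
theorem F260724 : act 3 n58294 = n57153 := d25_1 D58294 (iv D57153) (iv F255882)
theorem F260725 : act 4 n58294 = n57120 := d30_1 D58294 (iv D57120) (iv D55860) (iv F250233) D57117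
theorem F260726 : act 7 n58294 = n57144 := d36_2 (iv F255883) D58294 (iv D57144)
theorem F260727 : act 8 n58294 = n57130 := d37_2 F256899 D58294 (iv F256896)
def n58295 : Q := act 0 n57118
theorem D58295 : act 0 n57118 = n58295 := rfl
theorem F260728 : act 3 n58295 = n57125 := d2_2 (iv F255884) D58295 (iv D57125)
theorem F260729 : act 7 n58295 = n57145 := d6_2 (iv F255885) D58295 (iv D57145)
def n58296 : Q := act 4 n57118
theorem D58296 : act 4 n57118 = n58296 := rfl
theorem F260730 : act 1 n58296 = n57119 := d11_1 D58296 (iv D57119) D57118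
theorem F260731 : act 2 n58296 = n57138 := d18_1 D58296 (iv F260711) F260710
theorem F260732 : act 7 n58296 = n57146 := d32_2 (iv F255885) D58296 (iv D57146)
theorem F260733 : act 8 n58296 = n57131 := d33_2 F260717 D58296 (iv F260715)
def n58297 : Q := act 5 n57119
theorem D58297 : act 5 n57119 = n58297 := rfl
theorem F260734 : act 2 n58297 = n57120 := d19_1 D58297 (iv D57120) (iv F255886)
theorem F260735 : act 7 n58297 = n57147 := d36_2 (iv F255887) D58297 (iv D57147)
theorem F260736 : act 8 n58297 = n57129 := d37_2 (iv F255888) D58297 F255907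
def n58298 : Q := act 6 n57120
theorem D58298 : act 6 n57120 = n58298 := rfl
theorem F260737 : act 1 n58298 = n57133 := d13_1 D58298 F255914 (iv F255889)
theorem F260738 : act 3 n58298 = n57121 := d26_1 D58298 (iv D57121) (iv F255890)
theorem F260739 : act 8 n58298 = n57128 := d40_2 (iv F255892) D58298 F255906
def n58299 : Q := act 2 n57122
theorem D58299 : act 2 n57122 = n58299 := rfl
theorem F260740 : act 6 n58299 = n57148 := d20_2 (iv F255896) D58299 (iv D57148)
theorem F260741 : act 7 n58299 = n57123 := d21_2 (iv F255897) D58299 (iv D57123)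
def n58300 : Q := act 1 n57123
theorem D58300 : act 1 n57123 = n58300 := rfl
theorem F260742 : act 6 n58300 = n57124 := d13_2 (iv F255898) D58300 (iv D57124)
def n58301 : Q := act 0 n57124
theorem D58301 : act 0 n57124 = n58301 := rfl
theorem F260743 : act 5 n58301 = n57125 := d4_2 (iv F255899) D58301 (iv D57125)
theorem F260744 : act 7 n58301 = n57150 := d6_2 (iv F255900) D58301 (iv D57150)
def n58302 : Q := act 2 n57126
theorem D58302 : act 2 n57126 = n58302 := rfl
theorem F260745 : act 0 n58302 = n57129 := d1_1 D58302 (iv D57129) (iv F255902)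
theorem F260746 : act 5 n58302 = n57127 := d19_2 (iv F255903) D58302 (iv D57127)
def n58303 : Q := act 1 n57127
theorem D58303 : act 1 n57127 = n58303 := rfl
def n58304 : Q := act 2 n57128
theorem D58304 : act 2 n57128 = n58304 := rfl
theorem F260747 : act 6 n58304 = n57129 := d20_2 (iv F255906) D58304 (iv D57129)
def n58305 : Q := act 4 n57128
theorem D58305 : act 4 n57128 = n58305 := rfl
theorem F260748 : act 1 n58305 = n57141 := d11_1 D58305 (iv D57141) (iv F255905)
theorem F260749 : act 3 n58305 = n57155 := d24_1 D58305 (iv D57155) (iv D55895) (iv F250261) D57128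
theorem F260750 : act 6 n58305 = n57130 := d31_2 (iv F255906) D58305 (iv D57130)
def n58306 : Q := act 1 n57129
theorem D58306 : act 1 n57129 = n58306 := rfl
theorem F260751 : act 2 n58306 = n57142 := d9_2 D57129 D58306 (iv D57142) (iv D55880) (iv F250263)
theorem F260752 : act 5 n58306 = n57131 := d12_2 (iv F255907) D58306 (iv D57131)
def n58307 : Q := act 4 n57129
theorem D58307 : act 4 n57129 = n58307 := rfl
theorem F260753 : act 2 n58307 = n57130 := d18_1 D58307 (iv D57130) D57129
def n58308 : Q := act 0 n57131
theorem D58308 : act 0 n57131 = n58308 := rfl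
theorem F260754 : act 2 n58308 = n57145 := d1_2 (iv F255910) D58308 (iv D57145)
def n58309 : Q := act 3 n57132
theorem D58309 : act 3 n57132 = n58309 := rfl
theorem F260755 : act 6 n58309 = n57134 := d26_2 (iv F255912) D58309 (iv D57134)
theorem F260756 : act 9 n58309 = n57133 := d29_2 (iv F255913) D58309 (iv D57133)
def n58310 : Q := act 2 n57133
theorem D58310 : act 2 n57133 = n58310 := rfl
theorem F260757 : act 6 n58310 = n57135 := d20_2 (iv F255914) D58310 (iv D57135)
theorem F260758 : act 8 n58310 = n57140 := d22_2 (iv F255915) D58310 (iv D57140)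
def n58311 : Q := act 4 n57133
theorem D58311 : act 4 n57133 = n58311 := rfl
theorem F260759 : act 3 n58311 = n57168 := d24_1 D58311 (iv D57168) (iv D55918) (iv F250267) D57133
theorem F260760 : act 6 n58311 = n57136 := d31_2 (iv F255914) D58311 (iv D57136)
theorem F260761 : act 8 n58311 = n57141 := d33_2 (iv F255915) D58311 (iv D57141)
def n58312 : Q := act 2 n57134
theorem D58312 : act 2 n57134 = n58312 := rfl
theorem F260762 : act 5 n58312 = n57137 := d19_2 (iv F255916) D58312 (iv D57137)
theorem F260763 : act 9 n58312 = n57135 := d23_2 (iv F255917) D58312 (iv D57135)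
def n58313 : Q := act 4 n57134
theorem D58313 : act 4 n57134 = n58313 := rfl
theorem F260764 : act 3 n58313 = n57169 := d24_1 D58313 (iv D57169) (iv D55919) (iv F250269) D57134
theorem F260765 : act 9 n58313 = n57136 := d34_2 (iv F255917) D58313 (iv D57136)
def n58314 : Q := act 1 n57135
theorem D58314 : act 1 n57135 = n58314 := rfl
theorem F260766 : act 5 n58314 = n57138 := d12_2 (iv F255918) D58314 (iv D57138)
theorem F260767 : act 8 n58314 = n57142 := d15_2 (iv F255919) D58314 (iv D57142)
def n58315 : Q := act 4 n57135
theorem D58315 : act 4 n57135 = n58315 := rfl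
theorem F260768 : act 2 n58315 = n57136 := d18_1 D58315 (iv D57136) D57135
theorem F260769 : act 8 n58315 = n57143 := d33_2 (iv F255919) D58315 (iv D57143)
def n58316 : Q := act 1 n57137
theorem D58316 : act 1 n57137 = n58316 := rfl
theorem F260770 : act 9 n58316 = n57138 := d16_2 (iv F255922) D58316 (iv D57138)
def n58317 : Q := act 0 n57138
theorem D58317 : act 0 n57138 = n58317 := rfl
theorem F260771 : act 8 n58317 = n57145 := d7_2 (iv F255923) D58317 (iv D57145)
def n58318 : Q := act 2 n57139
theorem D58318 : act 2 n57139 = n58318 := rfl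
theorem F260772 : act 3 n58318 = n57148 := d17_2 D57139 D58318 (iv D57148) (iv D55885) (iv F250276)
theorem F260773 : act 7 n58318 = n57140 := d21_2 (iv F255924) D58318 (iv D57140)
def n58319 : Q := act 4 n57139
theorem D58319 : act 4 n57139 = n58319 := rfl
theorem F260774 : act 3 n58319 = n57157 := d24_1 D58319 (iv D57157) (iv D55898) (iv F250277) D57139
theorem F260775 : act 7 n58319 = n57141 := d32_2 (iv F255924) D58319 (iv D57141)
def n58320 : Q := act 1 n57140
theorem D58320 : act 1 n57140 = n58320 := rfl
theorem F260776 : act 3 n58320 = n57149 := d10_2 (iv F255925) D58320 (iv D57149)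
theorem F260777 : act 6 n58320 = n57142 := d13_2 (iv F255926) D58320 (iv D57142)
def n58321 : Q := act 4 n57140
theorem D58321 : act 4 n57140 = n58321 := rfl
theorem F260778 : act 2 n58321 = n57141 := d18_1 D58321 (iv D57141) D57140
theorem F260779 : act 6 n58321 = n57143 := d31_2 (iv F255926) D58321 (iv D57143)
def n58322 : Q := act 5 n57141
theorem D58322 : act 5 n57141 = n58322 := rfl
theorem F260780 : act 3 n58322 = n57156 := d25_1 D58322 F255959 (iv F255927)
def n58323 : Q := act 0 n57142
theorem D58323 : act 0 n57142 = n58323 := rfl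
theorem F260781 : act 3 n58323 = n57150 := d2_2 (iv F255929) D58323 (iv D57150)
theorem F260782 : act 5 n58323 = n57145 := d4_2 (iv F255930) D58323 (iv D57145)
def n58324 : Q := act 4 n57142
theorem D58324 : act 4 n57142 = n58324 := rfl
theorem F260783 : act 1 n58324 = n57143 := d11_1 D58324 (iv D57143) D57142
def n58325 : Q := act 5 n57143
theorem D58325 : act 5 n57143 = n58325 := rfl
theorem F260784 : act 2 n58325 = n57144 := d19_1 D58325 (iv D57144) (iv F255931)
theorem F260785 : act 4 n58325 = n57147 := d30_1 D58325 (iv D57147) (iv D55883) (iv F250281) D57143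
def n58326 : Q := act 4 n57145
theorem D58326 : act 4 n57145 = n58326 := rfl
theorem F260786 : act 0 n58326 = n57146 := d3_1 D58326 (iv D57146) D57145
def n58327 : Q := act 5 n57146
theorem D58327 : act 5 n57146 = n58327 := rfl
theorem F260787 : act 1 n58327 = n57147 := d12_1 D58327 (iv D57147) (iv F255935)
def n58328 : Q := act 1 n57148
theorem D58328 : act 1 n57148 = n58328 := rfl
theorem F260788 : act 7 n58328 = n57149 := d14_2 (iv F255937) D58328 (iv D57149)
def n58329 : Q := act 0 n57149
theorem D58329 : act 0 n57149 = n58329 := rfl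
theorem F260789 : act 6 n58329 = n57150 := d5_2 (iv F255938) D58329 (iv D57150)
def n58330 : Q := act 4 n57151
theorem D58330 : act 4 n57151 = n58330 := rfl
theorem F260790 : act 2 n58330 = n57152 := d18_1 D58330 (iv D57152) D57151
theorem F260791 : act 5 n58330 = n57157 := d30_2 (iv F255940) D58330 (iv D57157) F250318 (iv F250296)
theorem F260792 : act 7 n58330 = n57156 := d32_2 (iv F255941) D58330 (iv D57156)
theorem F260793 : act 8 n58330 = n57171 := d33_2 (iv F255942) D58330 F256001
def n58331 : Q := act 6 n57153
theorem D58331 : act 6 n57153 = n58331 := rfl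
theorem F260794 : act 1 n58331 = n57168 := d13_1 D58331 F255993 (iv F255947)
theorem F260795 : act 4 n58331 = n57154 := d31_1 D58331 (iv D57154) (iv F255948)
theorem F260796 : act 8 n58331 = n57166 := d40_2 (iv F255950) D58331 F255987
def n58332 : Q := act 4 n57160
theorem D58332 : act 4 n57160 = n58332 := rfl
theorem F260797 : act 1 n58332 = n57164 := d11_1 D58332 (iv D57164) (iv F255971)
theorem F260798 : act 8 n58332 = n57161 := d33_2 (iv F255973) D58332 (iv D57161)
def n58333 : Q := act 4 n57163
theorem D58333 : act 4 n57163 = n58333 := rfl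
theorem F260799 : act 8 n58333 = n58333 := d33_2 F255980 D58333 (iv D58333)
theorem F260800 : act 9 n58333 = n57164 := d34_2 (iv F255981) D58333 (iv D57164)
def n58334 : Q := act 4 n57165
theorem D58334 : act 4 n57165 = n58334 := rfl
theorem F260801 : act 8 n58334 = n58334 := d33_2 F255984 D58334 (iv D58334)
def n58335 : Q := act 4 n57167
theorem D58335 : act 4 n57167 = n58335 := rfl
theorem F260802 : act 6 n58335 = n57169 := d31_2 (iv F255990) D58335 (iv D57169)
theorem F260803 : act 8 n58335 = n58335 := d33_2 F255991 D58335 (iv D58335)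
theorem F260804 : act 9 n58335 = n57168 := d34_2 (iv F255992) D58335 (iv D57168)
def n58336 : Q := act 5 n57168
theorem D58336 : act 5 n57168 = n58336 := rfl
theorem F260805 : act 4 n58336 = n58336 := d30_1 D58336 (iv D58336) (iv D57168) F250382 D57168
theorem F260806 : act 8 n58336 = n57170 := d37_2 (iv F255994) D58336 (iv D57170)
def n58337 : Q := act 3 n57172
theorem D58337 : act 3 n57172 = n58337 := rfl
theorem F260807 : act 0 n58337 = n57563 := d2_1 D58337 (iv D57563) (iv F256004)
theorem F260808 : act 1 n58337 = n57460 := d10_1 D58337 (iv D57460) (iv F256005)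
theorem F260809 : act 5 n58337 = n57173 := d25_2 (iv F256008) D58337 (iv D57173)
theorem F260810 : act 6 n58337 = n57504 := d26_2 (iv F256009) D58337 (iv D57504)
theorem F260811 : act 7 n58337 = n57598 := d27_2 (iv F256010) D58337 (iv D57598)
theorem F260812 : act 8 n58337 = n57962 := d28_2 D57172 D58337 (iv D57962) (iv D56790) (iv F250442)
theorem F260813 : act 9 n58337 = n57179 := d29_2 (iv F256011) D58337 (iv D57179)
def n58338 : Q := act 2 n57173
theorem D58338 : act 2 n57173 = n58338 := rfl
theorem F260814 : act 0 n58338 = n57924 := d1_1 D58338 (iv D57924) (iv F256012)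
theorem F260815 : act 3 n58338 = n58171 := d17_2 D57173 D58338 F260465 F255616 (iv F250449)
theorem F260816 : act 4 n58338 = n57189 := d18_2 (iv F256014) D58338 (iv D57189)
theorem F260817 : act 6 n58338 = n57918 := d20_2 (iv F256015) D58338 (iv D57918)
theorem F260818 : act 7 n58338 = n58169 := d21_2 (iv F256016) D58338 (iv D58169)
theorem F260819 : act 8 n58338 = n57963 := d22_2 (iv F256017) D58338 (iv D57963)
theorem F260820 : act 9 n58338 = n57180 := d23_2 (iv F256018) D58338 (iv D57180)
def n58339 : Q := act 4 n57174
theorem D58339 : act 4 n57174 = n58339 := rfl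
theorem F260821 : act 0 n58339 = n57570 := d3_1 D58339 (iv D57570) (iv F256019)
theorem F260822 : act 1 n58339 = n57465 := d11_1 D58339 (iv D57465) (iv F256020)
theorem F260823 : act 2 n58339 = n58124 := d18_1 D58339 F260372 (iv F256021)
theorem F260824 : act 5 n58339 = n57191 := d30_2 (iv F256022) D58339 (iv D57191) F250623 (iv F250464)
theorem F260825 : act 6 n58339 = n57508 := d31_2 (iv F256023) D58339 (iv D57508)
theorem F260826 : act 7 n58339 = n57614 := d32_2 (iv F256024) D58339 (iv D57614)
theorem F260827 : act 8 n58339 = n58339 := d33_2 F256025 D58339 (iv D58339)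
theorem F260828 : act 9 n58339 = n57183 := d34_2 (iv F256026) D58339 (iv D57183)
def n58340 : Q := act 3 n57175
theorem D58340 : act 3 n57175 = n58340 := rfl
theorem F260829 : act 0 n58340 = n57605 := d2_1 D58340 (iv D57605) (iv F256027)
theorem F260830 : act 1 n58340 = n57442 := d10_1 D58340 (iv D57442) (iv F256028)
theorem F260831 : act 4 n58340 = n58135 := d24_2 (iv F256030) D58340 F260399 F255555 (iv F250512)
theorem F260832 : act 5 n58340 = n57176 := d25_2 (iv F256031) D58340 (iv D57176)
theorem F260833 : act 6 n58340 = n57559 := d26_2 (iv F256032) D58340 (iv D57559)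
theorem F260834 : act 7 n58340 = n57179 := d27_2 (iv F256033) D58340 (iv D57179)
theorem F260835 : act 8 n58340 = n57239 := d28_2 D57175 D58340 (iv D57239) (iv D56009) (iv F250472)
theorem F260836 : act 9 n58340 = n57598 := d29_2 (iv F256034) D58340 (iv D57598)
def n58341 : Q := act 2 n57176
theorem D58341 : act 2 n57176 = n58341 := rfl
theorem F260837 : act 0 n58341 = n58171 := d1_1 D58341 F260465 (iv F256035)
theorem F260838 : act 3 n58341 = n57924 := d17_2 D57176 D58341 (iv D57924) (iv D56751) (iv F250479)
theorem F260839 : act 4 n58341 = n57192 := d18_2 (iv F256037) D58341 (iv D57192)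
theorem F260840 : act 6 n58341 = n57925 := d20_2 (iv F256038) D58341 (iv D57925)
theorem F260841 : act 7 n58341 = n57180 := d21_2 (iv F256039) D58341 (iv D57180)
theorem F260842 : act 8 n58341 = n57240 := d22_2 (iv F256040) D58341 (iv D57240)
theorem F260843 : act 9 n58341 = n58169 := d23_2 (iv F256041) D58341 (iv D58169)
def n58342 : Q := act 3 n57177
theorem D58342 : act 3 n57177 = n58342 := rfl
theorem F260844 : act 0 n58342 = n57598 := d2_1 D58342 (iv D57598) (iv F256042)
theorem F260845 : act 1 n58342 = n57572 := d10_1 D58342 (iv D57572) (iv F256043)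
theorem F260846 : act 4 n58342 = n58145 := d24_2 (iv F256045) D58342 F260419 F255570 F250548
theorem F260847 : act 5 n58342 = n57178 := d25_2 (iv F256046) D58342 (iv D57178)
theorem F260848 : act 6 n58342 = n57517 := d26_2 (iv F256047) D58342 (iv D57517)
theorem F260849 : act 7 n58342 = n57563 := d27_2 (iv F256048) D58342 (iv D57563)
theorem F260850 : act 8 n58342 = n57372 := d28_2 D57177 D58342 (iv D57372) (iv D56151) (iv F250487)
theorem F260851 : act 9 n58342 = n57605 := d29_2 (iv F256049) D58342 (iv D57605)
def n58343 : Q := act 2 n57178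
theorem D58343 : act 2 n57178 = n58343 := rfl
theorem F260852 : act 0 n58343 = n58169 := d1_1 D58343 (iv D58169) (iv F256050)
theorem F260853 : act 3 n58343 = n57180 := d17_2 D57178 D58343 (iv D57180) (iv D55940) (iv F250494)
theorem F260854 : act 4 n58343 = n57925 := d18_2 (iv F256052) D58343 (iv D57925)
theorem F260855 : act 6 n58343 = n57192 := d20_2 (iv F256053) D58343 (iv D57192)
theorem F260856 : act 7 n58343 = n57924 := d21_2 (iv F256054) D58343 (iv D57924)
theorem F260857 : act 8 n58343 = n57373 := d22_2 (iv F256055) D58343 (iv D57373)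
theorem F260858 : act 9 n58343 = n58171 := d23_2 (iv F256056) D58343 F260465
def n58344 : Q := act 2 n57179
theorem D58344 : act 2 n57179 = n58344 := rfl
theorem F260859 : act 0 n58344 = n57606 := d1_1 D58344 (iv D57606) (iv F256057)
theorem F260860 : act 5 n58344 = n57180 := d19_2 (iv F256059) D58344 (iv D57180)
theorem F260861 : act 6 n58344 = n57521 := d20_2 (iv F256060) D58344 (iv D57521)
theorem F260862 : act 8 n58344 = n57253 := d22_2 (iv F256061) D58344 (iv D57253)
def n58345 : Q := act 4 n57179
theorem D58345 : act 4 n57179 = n58345 := rfl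
theorem F260863 : act 0 n58345 = n57607 := d3_1 D58345 (iv D57607) (iv F256057)
theorem F260864 : act 1 n58345 = n57476 := d11_1 D58345 (iv D57476) (iv F256058)
theorem F260865 : act 3 n58345 = n57183 := d24_1 D58345 (iv D57183) (iv D55946) (iv F250501) D57179
theorem F260866 : act 5 n58345 = n57197 := d30_2 (iv F256059) D58345 (iv D57197) F250665 (iv F250506)
theorem F260867 : act 6 n58345 = n57522 := d31_2 (iv F256060) D58345 (iv D57522)
theorem F260868 : act 7 n58345 = n58135 := d32_2 F260834 D58345 (iv F260831)
theorem F260869 : act 8 n58345 = n57254 := d33_2 (iv F256061) D58345 (iv D57254)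
def n58346 : Q := act 1 n57180
theorem D58346 : act 1 n57180 = n58346 := rfl
theorem F260870 : act 2 n58346 = n57477 := d9_2 D57180 D58346 (iv D57477) (iv D56288) (iv F250505)
theorem F260871 : act 4 n58346 = n57198 := d11_2 (iv F256063) D58346 (iv D57198)
theorem F260872 : act 6 n58346 = n57919 := d13_2 (iv F256064) D58346 (iv D57919)
theorem F260873 : act 8 n58346 = n57255 := d15_2 (iv F256065) D58346 (iv D57255)
def n58347 : Q := act 4 n57182
theorem D58347 : act 4 n57182 = n58347 := rfl
theorem F260874 : act 0 n58347 = n57592 := d3_1 D58347 F258414 (iv F256075)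
theorem F260875 : act 1 n58347 = n58121 := d11_1 D58347 F260365 (iv F256076)
theorem F260876 : act 2 n58347 = n57183 := d18_1 D58347 (iv D57183) D57182
theorem F260877 : act 5 n58347 = n57201 := d30_2 (iv F256078) D58347 (iv D57201) F250686 (iv F250558)
theorem F260878 : act 6 n58347 = n57528 := d31_2 (iv F256079) D58347 (iv D57528)
theorem F260879 : act 7 n58347 = n58102 := d32_2 (iv F256080) D58347 F260323
theorem F260880 : act 8 n58347 = n57184 := d33_2 (iv F256081) D58347 (iv D57184)
theorem F260881 : act 9 n58347 = n58124 := d34_2 (iv F256082) D58347 F260372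
def n58348 : Q := act 3 n57184
theorem D58348 : act 3 n57184 = n58348 := rfl
theorem F260882 : act 0 n58348 = n57618 := d2_1 D58348 (iv D57618) (iv F256089)
theorem F260883 : act 1 n58348 = n57739 := d10_1 D58348 F259029 (iv F256090)
theorem F260884 : act 2 n58348 = n57272 := d17_1 D58348 (iv D57272) F251165 (iv F250572) (iv F256091)
theorem F260885 : act 4 n58348 = n58348 := d24_2 D57184 D58348 (iv D58348) (iv D57184) F250565
theorem F260886 : act 5 n58348 = n57203 := d25_2 (iv F256092) D58348 (iv D57203)
theorem F260887 : act 6 n58348 = n57529 := d26_2 (iv F256093) D58348 (iv D57529)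
theorem F260888 : act 7 n58348 = n57673 := d27_2 (iv F256094) D58348 F258743
theorem F260889 : act 9 n58348 = n58348 := d29_2 F256095 D58348 (iv D58348)
def n58349 : Q := act 2 n57185
theorem D58349 : act 2 n57185 = n58349 := rfl
theorem F260890 : act 0 n58349 = n57488 := d1_1 D58349 (iv D57488) (iv F256096)
theorem F260891 : act 3 n58349 = n58137 := d17_2 D57185 D58349 (iv D58137) (iv D56967) (iv F250579)
theorem F260892 : act 4 n58349 = n57935 := d18_2 (iv F256098) D58349 (iv D57935)
theorem F260893 : act 5 n58349 = n58152 := d19_2 (iv F256099) D58349 (iv D58152)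
theorem F260894 : act 6 n58349 = n57920 := d20_2 (iv F256100) D58349 (iv D57920)
theorem F260895 : act 7 n58349 = n58161 := d21_2 (iv F256101) D58349 (iv D58161)
theorem F260896 : act 8 n58349 = n57294 := d22_2 (iv F256102) D58349 (iv D57294)
theorem F260897 : act 9 n58349 = n57928 := d23_2 (iv F256103) D58349 (iv D57928)
def n58350 : Q := act 1 n57186
theorem D58350 : act 1 n57186 = n58350 := rfl
theorem F260898 : act 3 n58350 = n57923 := d10_2 (iv F256105) D58350 (iv D57923)
theorem F260899 : act 4 n58350 = n58176 := d11_2 (iv F256106) D58350 (iv D58176)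
theorem F260900 : act 5 n58350 = n58154 := d12_2 (iv F256107) D58350 (iv D58154)
theorem F260901 : act 6 n58350 = n57922 := d13_2 (iv F256108) D58350 (iv D57922)
theorem F260902 : act 7 n58350 = n58170 := d14_2 (iv F256109) D58350 (iv D58170)
theorem F260903 : act 8 n58350 = n57314 := d15_2 (iv F256110) D58350 (iv D57314)
theorem F260904 : act 9 n58350 = n57934 := d16_2 (iv F256111) D58350 (iv D57934)
def n58351 : Q := act 2 n57187
theorem D58351 : act 2 n57187 = n58351 := rfl
theorem F260905 : act 0 n58351 = n57925 := d1_1 D58351 (iv D57925) (iv F256112)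
theorem F260906 : act 3 n58351 = n57918 := d17_2 D57187 D58351 (iv D57918) (iv D56745) (iv F250594)
theorem F260907 : act 4 n58351 = n58169 := d18_2 (iv F256114) D58351 (iv D58169)
theorem F260908 : act 5 n58351 = n58128 := d19_2 (iv F256115) D58351 (iv D58128)
theorem F260909 : act 6 n58351 = n58171 := d20_2 (iv F256116) D58351 F260465
theorem F260910 : act 7 n58351 = n57189 := d21_2 (iv F256117) D58351 (iv D57189)
theorem F260911 : act 8 n58351 = n58299 := d22_2 (iv F256118) D58351 (iv D58299)
theorem F260912 : act 9 n58351 = n57192 := d23_2 (iv F256119) D58351 (iv D57192)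
def n58352 : Q := act 2 n57188
theorem D58352 : act 2 n57188 = n58352 := rfl
theorem F260913 : act 0 n58352 = n57932 := d1_1 D58352 (iv D57932) (iv F256120)
theorem F260914 : act 3 n58352 = n57921 := d17_2 D57188 D58352 (iv D57921) (iv D56748) (iv F250602)
theorem F260915 : act 5 n58352 = n57189 := d19_2 (iv F256122) D58352 (iv D57189)
theorem F260916 : act 6 n58352 = n58149 := d20_2 (iv F256123) D58352 (iv D58149)
theorem F260917 : act 7 n58352 = n58128 := d21_2 (iv F256124) D58352 (iv D58128)
theorem F260918 : act 8 n58352 = n58283 := d22_2 (iv F256125) D58352 (iv D58283)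
theorem F260919 : act 9 n58352 = n57196 := d23_2 (iv F256126) D58352 (iv D57196)
def n58353 : Q := act 4 n57188
theorem D58353 : act 4 n57188 = n58353 := rfl
theorem F260920 : act 0 n58353 = n57933 := d3_1 D58353 (iv D57933) (iv F256120)
theorem F260921 : act 1 n58353 = n57565 := d11_1 D58353 (iv D57565) (iv F256121)
theorem F260922 : act 3 n58353 = n57191 := d24_1 D58353 (iv D57191) (iv D55956) (iv F250603) D57188
theorem F260923 : act 6 n58353 = n58150 := d31_2 (iv F256123) D58353 (iv D58150)
theorem F260924 : act 7 n58353 = n58129 := d32_2 (iv F256124) D58353 (iv D58129)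
theorem F260925 : act 8 n58353 = n58284 := d33_2 (iv F256125) D58353 (iv D58284)
theorem F260926 : act 9 n58353 = n57197 := d34_2 (iv F256126) D58353 (iv D57197)
def n58354 : Q := act 1 n57189
theorem D58354 : act 1 n57189 = n58354 := rfl
theorem F260927 : act 2 n58354 = n57566 := d9_2 D57189 D58354 (iv D57566) (iv D56390) (iv F250609)
theorem F260928 : act 3 n58354 = n57922 := d10_2 (iv F256128) D58354 (iv D57922)
theorem F260929 : act 6 n58354 = n57923 := d13_2 (iv F256129) D58354 (iv D57923)
theorem F260930 : act 8 n58354 = n58300 := d15_2 (iv F256130) D58354 (iv D58300)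
theorem F260931 : act 9 n58354 = n57198 := d16_2 (iv F256131) D58354 (iv D57198)
def n58355 : Q := act 4 n57190
theorem D58355 : act 4 n57190 = n58355 := rfl
theorem F260932 : act 0 n58355 = n57939 := d3_1 D58355 (iv D57939) (iv F256132)
theorem F260933 : act 1 n58355 = n57570 := d11_1 D58355 (iv D57570) (iv F256133)
theorem F260934 : act 2 n58355 = n57487 := d18_1 D58355 (iv D57487) (iv F256134)
theorem F260935 : act 3 n58355 = n58150 := d24_1 D58355 (iv D58150) (iv D56978) (iv F250616) D57190
theorem F260936 : act 5 n58355 = n57938 := d30_2 (iv F256135) D58355 (iv D57938) F254871 (iv F250630)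
theorem F260937 : act 6 n58355 = n57191 := d31_2 (iv F256136) D58355 (iv D57191)
theorem F260938 : act 7 n58355 = n58139 := d32_2 (iv F256137) D58355 F260407
theorem F260939 : act 8 n58355 = n58355 := d33_2 F256138 D58355 (iv D58355)
theorem F260940 : act 9 n58355 = n57199 := d34_2 (iv F256139) D58355 (iv D57199)
def n58356 : Q := act 1 n57192
theorem D58356 : act 1 n57192 = n58356 := rfl
theorem F260941 : act 2 n58356 = n57583 := d9_2 D57192 D58356 (iv D57583) (iv D56408) (iv F250636)
theorem F260942 : act 3 n58356 = n57919 := d10_2 (iv F256147) D58356 (iv D57919)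
theorem F260943 : act 5 n58356 = n58133 := d12_2 (iv F256148) D58356 (iv D58133)
theorem F260944 : act 7 n58356 = n57198 := d14_2 (iv F256149) D58356 (iv D57198)
theorem F260945 : act 8 n58356 = n57385 := d15_2 (iv F256150) D58356 (iv D57385)
def n58357 : Q := act 1 n57193
theorem D58357 : act 1 n57193 = n58357 := rfl
theorem F260946 : act 2 n58357 = n58110 := d9_2 D57193 D58357 (iv D58110) (iv D56939) (iv F250641)
theorem F260947 : act 3 n58357 = n57198 := d10_2 (iv F256152) D58357 (iv D57198)
theorem F260948 : act 4 n58357 = n57926 := d11_2 (iv F256153) D58357 (iv D57926)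
theorem F260949 : act 5 n58357 = n58132 := d12_2 (iv F256154) D58357 (iv D58132)
theorem F260950 : act 6 n58357 = n57934 := d13_2 (iv F256155) D58357 (iv D57934)
theorem F260951 : act 7 n58357 = n57919 := d14_2 (iv F256156) D58357 (iv D57919)
theorem F260952 : act 8 n58357 = n57945 := d15_2 (iv F256157) D58357 (iv D57945)
theorem F260953 : act 9 n58357 = n57922 := d16_2 (iv F256158) D58357 (iv D57922)
def n58358 : Q := act 3 n57194
theorem D58358 : act 3 n57194 = n58358 := rfl
theorem F260954 : act 0 n58358 = n57468 := d2_1 D58358 (iv D57468) (iv F256159)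
theorem F260955 : act 1 n58358 = n57605 := d10_1 D58358 (iv D57605) (iv F256160)
theorem F260956 : act 4 n58358 = n58164 := d24_2 (iv F256162) D58358 F260452 F255606 (iv F250673)
theorem F260957 : act 5 n58358 = n57547 := d25_2 (iv F256163) D58358 (iv D57547)
theorem F260958 : act 6 n58358 = n57510 := d26_2 (iv F256164) D58358 (iv D57510)
theorem F260959 : act 7 n58358 = n57195 := d27_2 (iv F256165) D58358 (iv D57195)
theorem F260960 : act 8 n58358 = n57405 := d28_2 D57194 D58358 (iv D57405) (iv D56179) (iv F250651)
theorem F260961 : act 9 n58358 = n57572 := d29_2 (iv F256166) D58358 (iv D57572)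
def n58359 : Q := act 2 n57195
theorem D58359 : act 2 n57195 = n58359 := rfl
theorem F260962 : act 0 n58359 = n58147 := d1_1 D58359 (iv D58147) (iv F256167)
theorem F260963 : act 3 n58359 = n58131 := d17_2 D57195 D58359 (iv D58131) (iv D56961) (iv F250658)
theorem F260964 : act 5 n58359 = n57935 := d19_2 (iv F256169) D58359 (iv D57935)
theorem F260965 : act 6 n58359 = n57196 := d20_2 (iv F256170) D58359 (iv D57196)
theorem F260966 : act 8 n58359 = n57406 := d22_2 (iv F256171) D58359 (iv D57406)
theorem F260967 : act 9 n58359 = n58149 := d23_2 (iv F256172) D58359 (iv D58149)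
def n58360 : Q := act 4 n57195
theorem D58360 : act 4 n57195 = n58360 := rfl
theorem F260968 : act 0 n58360 = n58148 := d3_1 D58360 (iv D58148) (iv F256167)
theorem F260969 : act 1 n58360 = n57607 := d11_1 D58360 (iv D57607) (iv F256168)
theorem F260970 : act 3 n58360 = n57199 := d24_1 D58360 (iv D57199) (iv D55965) (iv F250659) D57195
theorem F260971 : act 5 n58360 = n58153 := d30_2 (iv F256169) D58360 (iv D58153) (iv F256099) F256098
theorem F260972 : act 6 n58360 = n57197 := d31_2 (iv F256170) D58360 (iv D57197)
theorem F260973 : act 7 n58360 = n58164 := d32_2 F260959 D58360 (iv F260956)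
theorem F260974 : act 8 n58360 = n57407 := d33_2 (iv F256171) D58360 (iv D57407)
theorem F260975 : act 9 n58360 = n58150 := d34_2 (iv F256172) D58360 (iv D58150)
def n58361 : Q := act 1 n57196
theorem D58361 : act 1 n57196 = n58361 := rfl
theorem F260976 : act 2 n58361 = n57608 := d9_2 D57196 D58361 (iv D57608) (iv D56428) (iv F250664)
theorem F260977 : act 3 n58361 = n58132 := d10_2 (iv F256174) D58361 (iv D58132)
theorem F260978 : act 5 n58361 = n57198 := d12_2 (iv F256175) D58361 (iv D57198)
theorem F260979 : act 7 n58361 = n58133 := d14_2 (iv F256176) D58361 (iv D58133)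
theorem F260980 : act 8 n58361 = n57408 := d15_2 (iv F256177) D58361 (iv D57408)
def n58362 : Q := act 4 n57196
theorem D58362 : act 4 n57196 = n58362 := rfl
theorem F260981 : act 0 n58362 = n58155 := d3_1 D58362 (iv D58155) (iv F256173)
theorem F260982 : act 2 n58362 = n57197 := d18_1 D58362 (iv D57197) D57196
theorem F260983 : act 7 n58362 = n58134 := d32_2 (iv F256176) D58362 (iv D58134)
theorem F260984 : act 8 n58362 = n57409 := d33_2 (iv F256177) D58362 (iv D57409)
def n58363 : Q := act 0 n57198
theorem D58363 : act 0 n57198 = n58363 := rfl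
theorem F260985 : act 2 n58363 = n57610 := d1_2 (iv F256183) D58363 (iv D57610)
theorem F260986 : act 6 n58363 = n57937 := d5_2 (iv F256184) D58363 (iv D57937)
theorem F260987 : act 8 n58363 = n57410 := d7_2 (iv F256185) D58363 (iv D57410)
def n58364 : Q := act 4 n57200
theorem D58364 : act 4 n57200 = n58364 := rfl
theorem F260988 : act 0 n58364 = n57516 := d3_1 D58364 (iv D57516) (iv F256193)
theorem F260989 : act 1 n58364 = n57201 := d11_1 D58364 (iv D57201) D57200
theorem F260990 : act 2 n58364 = n57604 := d18_1 D58364 F258443 (iv F256194)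
theorem F260991 : act 5 n58364 = n58121 := d30_2 (iv F256196) D58364 F260365 F255520 (iv F250698)
theorem F260992 : act 6 n58364 = n57473 := d31_2 (iv F256197) D58364 F257826
theorem F260993 : act 7 n58364 = n57569 := d32_2 (iv F256198) D58364 (iv D57569)
theorem F260994 : act 8 n58364 = n57202 := d33_2 (iv F256199) D58364 (iv D57202)
theorem F260995 : act 9 n58364 = n57611 := d34_2 (iv F256200) D58364 (iv D57611)
def n58365 : Q := act 3 n57201
theorem D58365 : act 3 n57201 = n58365 := rfl
theorem F260996 : act 0 n58365 = n57591 := d2_1 D58365 F258409 (iv F256201)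
theorem F260997 : act 4 n58365 = n57585 := d24_2 D57201 D58365 (iv D57585) F253354 (iv F250685)
theorem F260998 : act 6 n58365 = n58158 := d26_2 (iv F256203) D58365 F260443
theorem F260999 : act 7 n58365 = n58101 := d27_2 (iv F256204) D58365 F260320
theorem F261000 : act 9 n58365 = n58117 := d29_2 (iv F256206) D58365 F260359
def n58366 : Q := act 8 n57203
theorem D58366 : act 8 n57203 = n58366 := rfl
theorem F261001 : act 0 n58366 = n57625 := d7_1 D58366 F258533 (iv F256215)
theorem F261002 : act 1 n58366 = n57734 := d15_1 D58366 F259012 (iv F256216)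
theorem F261003 : act 2 n58366 = n57426 := d22_1 D58366 (iv D57426) (iv F256217)
theorem F261004 : act 4 n58366 = n57623 := d33_1 D58366 F258521 (iv F256218)
theorem F261005 : act 6 n58366 = n57671 := d40_1 D58366 F258736 (iv F256219)
theorem F261006 : act 7 n58366 = n57643 := d42_1 D58366 F258617 (iv F256220)
def n58367 : Q := act 8 n57204
theorem D58367 : act 8 n57204 = n58367 := rfl
theorem F261007 : act 0 n58367 = n57338 := d7_1 D58367 (iv D57338) (iv F256222)
theorem F261008 : act 1 n58367 = n57640 := d15_1 D58367 (iv D57640) (iv F256223)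
theorem F261009 : act 2 n58367 = n57849 := d22_1 D58367 (iv D57849) (iv F256224)
theorem F261010 : act 4 n58367 = n58367 := d33_1 D58367 (iv D58367) F256226
theorem F261011 : act 5 n58367 = n57205 := d37_1 D58367 (iv D57205) (iv F256227)
theorem F261012 : act 6 n58367 = n57593 := d40_1 D58367 (iv D57593) (iv F256228)
theorem F261013 : act 7 n58367 = n57212 := d42_1 D58367 (iv D57212) (iv F256229)
theorem F261014 : act 9 n58367 = n57305 := d44_2 D57204 D58367 (iv D57305) (iv D56080) (iv F250730)
def n58368 : Q := act 3 n57205
theorem D58368 : act 3 n57205 = n58368 := rfl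
theorem F261015 : act 0 n58368 = n57339 := d2_1 D58368 (iv D57339) (iv F256230)
theorem F261016 : act 1 n58368 = n57641 := d10_1 D58368 (iv D57641) (iv F256231)
theorem F261017 : act 4 n58368 = n57326 := d24_2 (iv F256233) D58368 (iv D57326) F251581 (iv F250741)
theorem F261018 : act 6 n58368 = n57298 := d26_2 (iv F256234) D58368 (iv D57298)
theorem F261019 : act 7 n58368 = n57213 := d27_2 (iv F256235) D58368 (iv D57213)
theorem F261020 : act 8 n58368 = n57220 := d28_2 D57205 D58368 (iv D57220) (iv D55990) (iv F250734)
theorem F261021 : act 9 n58368 = n57306 := d29_2 (iv F256236) D58368 (iv D57306)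
def n58369 : Q := act 8 n57206
theorem D58369 : act 8 n57206 = n58369 := rfl
theorem F261022 : act 0 n58369 = n57827 := d7_1 D58369 (iv D57827) (iv F256237)
theorem F261023 : act 1 n58369 = n57210 := d15_1 D58369 (iv D57210) (iv F256238)
theorem F261024 : act 2 n58369 = n57238 := d22_1 D58369 (iv D57238) (iv F256239)
theorem F261025 : act 4 n58369 = n57207 := d33_1 D58369 (iv D57207) (iv F256241)
theorem F261026 : act 5 n58369 = n57541 := d37_1 D58369 (iv D57541) (iv F256242)
theorem F261027 : act 6 n58369 = n57235 := d40_1 D58369 (iv D57235) (iv F256243)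
theorem F261028 : act 7 n58369 = n57710 := d42_1 D58369 (iv D57710) (iv F256244)
theorem F261029 : act 9 n58369 = n57958 := d44_2 D57206 D58369 (iv D57958) (iv D56786) (iv F250751)
def n58370 : Q := act 3 n57207
theorem D58370 : act 3 n57207 = n58370 := rfl
theorem F261030 : act 0 n58370 = n57876 := d2_1 D58370 (iv D57876) (iv F256245)
theorem F261031 : act 1 n58370 = n57211 := d10_1 D58370 (iv D57211) (iv F256246)
theorem F261032 : act 5 n58370 = n58370 := d25_2 F256248 D58370 (iv D58370)
theorem F261033 : act 6 n58370 = n57256 := d26_2 (iv F256249) D58370 (iv D57256)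
theorem F261034 : act 7 n58370 = n57730 := d27_2 (iv F256250) D58370 (iv D57730)
theorem F261035 : act 8 n58370 = n58370 := d28_2 D57207 D58370 (iv D58370) (iv D57207) F250757
theorem F261036 : act 9 n58370 = n57959 := d29_2 (iv F256251) D58370 (iv D57959)
def n58371 : Q := act 8 n57208
theorem D58371 : act 8 n57208 = n58371 := rfl
theorem F261037 : act 0 n58371 = n58009 := d7_1 D58371 (iv D58009) (iv F256252)
theorem F261038 : act 1 n58371 = n57542 := d15_1 D58371 (iv D57542) (iv F256253)
theorem F261039 : act 2 n58371 = n57222 := d22_1 D58371 (iv D57222) (iv F256254)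
theorem F261040 : act 4 n58371 = n58371 := d33_1 D58371 (iv D58371) F256256
theorem F261041 : act 5 n58371 = n57538 := d37_1 D58371 (iv D57538) (iv F256257)
theorem F261042 : act 6 n58371 = n57913 := d40_1 D58371 F259692 (iv F256258)
theorem F261043 : act 7 n58371 = n58262 := d42_1 D58371 (iv D58262) (iv F256259)
theorem F261044 : act 9 n58371 = n57752 := d44_2 D57208 D58371 (iv D57752) (iv D56585) (iv F250767)
def n58372 : Q := act 8 n57209
theorem D58372 : act 8 n57209 = n58372 := rfl
theorem F261045 : act 0 n58372 = n57759 := d7_1 D58372 (iv D57759) (iv F256260)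
theorem F261046 : act 1 n58372 = n57541 := d15_1 D58372 (iv D57541) (iv F256261)
theorem F261047 : act 2 n58372 = n57212 := d22_1 D58372 (iv D57212) (iv F256262)
theorem F261048 : act 4 n58372 = n58372 := d33_1 D58372 (iv D58372) F256264
theorem F261049 : act 5 n58372 = n57210 := d37_1 D58372 (iv D57210) (iv F256265)
theorem F261050 : act 6 n58372 = n57687 := d40_1 D58372 (iv D57687) (iv F256266)
theorem F261051 : act 7 n58372 = n57849 := d42_1 D58372 (iv D57849) (iv F256267)
theorem F261052 : act 9 n58372 = n57848 := d44_2 D57209 D58372 (iv D57848) (iv D56675) (iv F250776)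
def n58373 : Q := act 3 n57210
theorem D58373 : act 3 n57210 = n58373 := rfl
theorem F261053 : act 0 n58373 = n58010 := d2_1 D58373 (iv D58010) (iv F256268)
theorem F261054 : act 6 n58373 = n57940 := d26_2 (iv F256271) D58373 (iv D57940)
theorem F261055 : act 7 n58373 = n58309 := d27_2 (iv F256272) D58373 (iv D58309)
theorem F261056 : act 9 n58373 = n57960 := d29_2 (iv F256273) D58373 (iv D57960)
def n58374 : Q := act 4 n57211
theorem D58374 : act 4 n57211 = n58374 := rfl
theorem F261057 : act 0 n58374 = n58011 := d3_1 D58374 (iv D58011) (iv F256274)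
theorem F261058 : act 2 n58374 = n57334 := d18_1 D58374 (iv D57334) (iv F256275)
theorem F261059 : act 6 n58374 = n57941 := d31_2 (iv F256277) D58374 (iv D57941)
theorem F261060 : act 7 n58374 = n58335 := d32_2 (iv F256278) D58374 (iv D58335)
theorem F261061 : act 8 n58374 = n58374 := d33_2 F256279 D58374 (iv D58374)
theorem F261062 : act 9 n58374 = n57961 := d34_2 (iv F256280) D58374 (iv D57961)
def n58375 : Q := act 3 n57212
theorem D58375 : act 3 n57212 = n58375 := rfl
theorem F261063 : act 0 n58375 = n57764 := d2_1 D58375 (iv D57764) (iv F256281)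
theorem F261064 : act 1 n58375 = n57644 := d10_1 D58375 (iv D57644) (iv F256282)
theorem F261065 : act 5 n58375 = n57213 := d25_2 (iv F256284) D58375 (iv D57213)
theorem F261066 : act 6 n58375 = n57690 := d26_2 (iv F256285) D58375 (iv D57690)
theorem F261067 : act 8 n58375 = n57225 := d28_2 D57212 D58375 (iv D57225) (iv D55995) (iv F250790)
theorem F261068 : act 9 n58375 = n57962 := d29_2 (iv F256286) D58375 (iv D57962)
def n58376 : Q := act 2 n57213
theorem D58376 : act 2 n57213 = n58376 := rfl
theorem F261069 : act 0 n58376 = n58012 := d1_1 D58376 (iv D58012) (iv F256287)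
theorem F261070 : act 4 n58376 = n57336 := d18_2 (iv F256289) D58376 (iv D57336)
theorem F261071 : act 6 n58376 = n57942 := d20_2 (iv F256290) D58376 (iv D57942)
theorem F261072 : act 8 n58376 = n57226 := d22_2 (iv F256291) D58376 (iv D57226)
theorem F261073 : act 9 n58376 = n57963 := d23_2 (iv F256292) D58376 (iv D57963)
def n58377 : Q := act 3 n57214
theorem D58377 : act 3 n57214 = n58377 := rfl
theorem F261074 : act 0 n58377 = n57326 := d2_1 D58377 (iv D57326) (iv F256293)
theorem F261075 : act 1 n58377 = n57647 := d10_1 D58377 (iv D57647) (iv F256294)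
theorem F261076 : act 4 n58377 = n57339 := d24_2 (iv F256296) D58377 (iv D57339) F251652 (iv F250810)
theorem F261077 : act 5 n58377 = n58140 := d25_2 (iv F256297) D58377 (iv D58140)
theorem F261078 : act 6 n58377 = n57220 := d26_2 (iv F256298) D58377 (iv D57220)
theorem F261079 : act 7 n58377 = n57297 := d27_2 (iv F256299) D58377 (iv D57297)
theorem F261080 : act 8 n58377 = n57298 := d28_2 D57214 D58377 (iv D57298) (iv D56073) (iv F250802)
theorem F261081 : act 9 n58377 = n57234 := d29_2 (iv F256300) D58377 (iv D57234)
def n58378 : Q := act 8 n57215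
theorem D58378 : act 8 n57215 = n58378 := rfl
theorem F261082 : act 0 n58378 = n57752 := d7_1 D58378 (iv D57752) (iv F256301)
theorem F261083 : act 1 n58378 = n57966 := d15_1 D58378 (iv D57966) (iv F256302)
theorem F261084 : act 2 n58378 = n58262 := d22_1 D58378 (iv D58262) (iv F256303)
theorem F261085 : act 4 n58378 = n58378 := d33_1 D58378 (iv D58378) F256305
theorem F261086 : act 5 n58378 = n57749 := d37_1 D58378 (iv D57749) (iv F256306)
theorem F261087 : act 6 n58378 = n58016 := d40_1 D58378 (iv D58016) (iv F256307)
theorem F261088 : act 7 n58378 = n57222 := d42_1 D58378 (iv D57222) (iv F256308)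
theorem F261089 : act 9 n58378 = n58009 := d44_2 D57215 D58378 (iv D58009) (iv D56838) (iv F250822)
def n58379 : Q := act 3 n57216
theorem D58379 : act 3 n57216 = n58379 := rfl
theorem F261090 : act 0 n58379 = n58269 := d2_1 D58379 (iv D58269) (iv F256309)
theorem F261091 : act 1 n58379 = n57968 := d10_1 D58379 (iv D57968) (iv F256310)
theorem F261092 : act 5 n58379 = n57964 := d25_2 (iv F256313) D58379 (iv D57964)
theorem F261093 : act 6 n58379 = n58047 := d26_2 (iv F256314) D58379 (iv D58047)
theorem F261094 : act 7 n58379 = n57223 := d27_2 (iv F256315) D58379 (iv D57223)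
theorem F261095 : act 9 n58379 = n57236 := d29_2 (iv F256316) D58379 (iv D57236)
def n58380 : Q := act 4 n57217
theorem D58380 : act 4 n57217 = n58380 := rfl
theorem F261096 : act 0 n58380 = n58279 := d3_1 D58380 (iv D58279) (iv F256317)
theorem F261097 : act 1 n58380 = n57989 := d11_1 D58380 (iv D57989) (iv F256318)
theorem F261098 : act 2 n58380 = n57344 := d18_1 D58380 (iv D57344) (iv F256319)
theorem F261099 : act 6 n58380 = n58093 := d31_2 (iv F256321) D58380 (iv D58093)
theorem F261100 : act 7 n58380 = n57224 := d32_2 (iv F256322) D58380 (iv D57224)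
theorem F261101 : act 8 n58380 = n58380 := d33_2 F256323 D58380 (iv D58380)
theorem F261102 : act 9 n58380 = n57237 := d34_2 (iv F256324) D58380 (iv D57237)
def n58381 : Q := act 8 n57218
theorem D58381 : act 8 n57218 = n58381 := rfl
theorem F261103 : act 0 n58381 = n57776 := d7_1 D58381 (iv D57776) (iv F256325)
theorem F261104 : act 1 n58381 = n57449 := d15_1 D58381 (iv D57449) (iv F256326)
theorem F261105 : act 2 n58381 = n57958 := d22_1 D58381 (iv D57958) (iv F256327)
theorem F261106 : act 4 n58381 = n57228 := d33_1 D58381 (iv D57228) (iv F256329)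
theorem F261107 : act 5 n58381 = n57557 := d37_1 D58381 (iv D57557) (iv F256330)
theorem F261108 : act 6 n58381 = n57219 := d40_1 D58381 (iv D57219) (iv F256331)
theorem F261109 : act 7 n58381 = n57694 := d42_1 D58381 (iv D57694) (iv F256332)
theorem F261110 : act 9 n58381 = n57238 := d44_2 D57218 D58381 (iv D57238) (iv D56008) (iv F250844)
def n58382 : Q := act 3 n57219
theorem D58382 : act 3 n57219 = n58382 := rfl
theorem F261111 : act 0 n58382 = n57791 := d2_1 D58382 (iv D57791) (iv F256333)
theorem F261112 : act 1 n58382 = n57648 := d10_1 D58382 (iv D57648) (iv F256334)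
theorem F261113 : act 5 n58382 = n57220 := d25_2 (iv F256337) D58382 (iv D57220)
theorem F261114 : act 7 n58382 = n57225 := d27_2 (iv F256338) D58382 (iv D57225)
theorem F261115 : act 9 n58382 = n57239 := d29_2 (iv F256339) D58382 (iv D57239)
def n58383 : Q := act 2 n57220
theorem D58383 : act 2 n57220 = n58383 := rfl
theorem F261116 : act 0 n58383 = n58275 := d1_1 D58383 (iv D58275) (iv F256340)
theorem F261117 : act 4 n58383 = n57347 := d18_2 (iv F256342) D58383 (iv D57347)
theorem F261118 : act 7 n58383 = n57226 := d21_2 (iv F256343) D58383 (iv D57226)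
theorem F261119 : act 9 n58383 = n57240 := d23_2 (iv F256344) D58383 (iv D57240)
def n58384 : Q := act 8 n57221
theorem D58384 : act 8 n57221 = n58384 := rfl
theorem F261120 : act 0 n58384 = n58262 := d7_1 D58384 (iv D58262) (iv F256345)
theorem F261121 : act 1 n58384 = n57332 := d15_1 D58384 (iv D57332) (iv F256346)
theorem F261122 : act 2 n58384 = n57752 := d22_1 D58384 (iv D57752) (iv F256347)
theorem F261123 : act 4 n58384 = n58384 := d33_1 D58384 (iv D58384) F256349
theorem F261124 : act 5 n58384 = n57329 := d37_1 D58384 (iv D57329) (iv F256350)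
theorem F261125 : act 6 n58384 = n57342 := d40_1 D58384 (iv D57342) (iv F256351)
theorem F261126 : act 7 n58384 = n58009 := d42_1 D58384 (iv D58009) (iv F256352)
theorem F261127 : act 9 n58384 = n57222 := d44_2 D57221 D58384 (iv D57222) (iv D55992) D55991
def n58385 : Q := act 3 n57222
theorem D58385 : act 3 n57222 = n58385 := rfl
theorem F261128 : act 0 n58385 = n58263 := d2_1 D58385 (iv D58263) (iv F256353)
theorem F261129 : act 1 n58385 = n57978 := d10_1 D58385 (iv D57978) (iv F256354)
theorem F261130 : act 5 n58385 = n57974 := d25_2 (iv F256356) D58385 (iv D57974)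
theorem F261131 : act 6 n58385 = n57858 := d26_2 (iv F256357) D58385 F259494
theorem F261132 : act 8 n58385 = n57223 := d28_2 D57222 D58385 (iv D57223) (iv D55993) (iv F250866)
def n58386 : Q := act 2 n57223
theorem D58386 : act 2 n57223 = n58386 := rfl
theorem F261133 : act 0 n58386 = n58270 := d1_1 D58386 (iv D58270) (iv F256358)
theorem F261134 : act 3 n58386 = n57226 := d17_2 D57223 D58386 (iv D57226) (iv D55996) (iv F250872)
theorem F261135 : act 5 n58386 = n57975 := d19_2 (iv F256360) D58386 (iv D57975)
theorem F261136 : act 6 n58386 = n57867 := d20_2 (iv F256361) D58386 F259517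
theorem F261137 : act 9 n58386 = n57250 := d23_2 (iv F256362) D58386 (iv D57250)
def n58387 : Q := act 4 n57223
theorem D58387 : act 4 n57223 = n58387 := rfl
theorem F261138 : act 0 n58387 = n58271 := d3_1 D58387 (iv D58271) (iv F256358)
theorem F261139 : act 1 n58387 = n57982 := d11_1 D58387 (iv D57982) (iv F256359)
theorem F261140 : act 3 n58387 = n57224 := d24_1 D58387 (iv D57224) (iv D55994) (iv F250873) D57223
theorem F261141 : act 6 n58387 = n57864 := d31_2 (iv F256361) D58387 F259508
theorem F261142 : act 9 n58387 = n57251 := d34_2 (iv F256362) D58387 (iv D57251)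
def n58388 : Q := act 5 n57224
theorem D58388 : act 5 n57224 = n58388 := rfl
theorem F261143 : act 0 n58388 = n58278 := d4_1 D58388 F260683 (iv F256363)
theorem F261144 : act 1 n58388 = n57703 := d12_1 D58388 F258875 (iv F256364)
theorem F261145 : act 2 n58388 = n57357 := d19_1 D58388 (iv D57357) (iv F256365)
theorem F261146 : act 4 n58388 = n57231 := d30_1 D58388 (iv D57231) (iv D56001) (iv F250880) D57224
theorem F261147 : act 6 n58388 = n57889 := d35_2 (iv F256366) D58388 (iv D57889) F254634 D56712
theorem F261148 : act 8 n58388 = n58388 := d37_2 F256367 D58388 (iv D58388)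
theorem F261149 : act 9 n58388 = n57252 := d38_2 (iv F256368) D58388 (iv D57252)
def n58389 : Q := act 2 n57225
theorem D58389 : act 2 n57225 = n58389 := rfl
theorem F261150 : act 0 n58389 = n57792 := d1_1 D58389 (iv D57792) (iv F256369)
theorem F261151 : act 3 n58389 = n57975 := d17_2 D57225 D58389 (iv D57975) (iv D56802) (iv F250886)
theorem F261152 : act 5 n58389 = n57226 := d19_2 (iv F256371) D58389 (iv D57226)
theorem F261153 : act 6 n58389 = n57697 := d20_2 (iv F256372) D58389 (iv D57697)
theorem F261154 : act 9 n58389 = n57253 := d23_2 (iv F256373) D58389 (iv D57253)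
def n58390 : Q := act 4 n57225
theorem D58390 : act 4 n57225 = n58390 := rfl
theorem F261155 : act 0 n58390 = n57793 := d3_1 D58390 (iv D57793) (iv F256369)
theorem F261156 : act 1 n58390 = n57651 := d11_1 D58390 (iv D57651) (iv F256370)
theorem F261157 : act 3 n58390 = n57233 := d24_1 D58390 (iv D57233) (iv D56002) (iv F250887) D57225
theorem F261158 : act 5 n58390 = n57361 := d30_2 (iv F256371) D58390 (iv D57361) F251770 (iv F250893)
theorem F261159 : act 6 n58390 = n57698 := d31_2 (iv F256372) D58390 (iv D57698)
theorem F261160 : act 9 n58390 = n57254 := d34_2 (iv F256373) D58390 (iv D57254)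
def n58391 : Q := act 1 n57226
theorem D58391 : act 1 n57226 = n58391 := rfl
theorem F261161 : act 2 n58391 = n57652 := d9_2 D57226 D58391 (iv D57652) (iv D56480) (iv F250892)
theorem F261162 : act 4 n58391 = n57362 := d11_2 (iv F256375) D58391 (iv D57362)
theorem F261163 : act 6 n58391 = n57944 := d13_2 (iv F256376) D58391 (iv D57944)
theorem F261164 : act 9 n58391 = n57255 := d16_2 (iv F256377) D58391 (iv D57255)
def n58392 : Q := act 5 n57227
theorem D58392 : act 5 n57227 = n58392 := rfl
theorem F261165 : act 0 n58392 = n58003 := d4_1 D58392 F260043 (iv F256378)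
theorem F261166 : act 1 n58392 = n57701 := d12_1 D58392 F258864 (iv F256379)
theorem F261167 : act 2 n58392 = n57363 := d19_1 D58392 (iv D57363) (iv F256380)
theorem F261168 : act 3 n58392 = n57988 := d25_1 D58392 (iv D57988) (iv F256381)
theorem F261169 : act 7 n58392 = n57231 := d36_2 (iv F256383) D58392 (iv D57231)
theorem F261170 : act 8 n58392 = n58392 := d37_2 F256384 D58392 (iv D58392)
theorem F261171 : act 9 n58392 = n57259 := d38_2 (iv F256385) D58392 (iv D57259)
def n58393 : Q := act 3 n57228
theorem D58393 : act 3 n57228 = n58393 := rfl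
theorem F261172 : act 0 n58393 = n57798 := d2_1 D58393 (iv D57798) (iv F256386)
theorem F261173 : act 1 n58393 = n57450 := d10_1 D58393 (iv D57450) (iv F256387)
theorem F261174 : act 5 n58393 = n58393 := d25_2 F256389 D58393 (iv D58393)
theorem F261175 : act 6 n58393 = n57229 := d26_2 (iv F256390) D58393 (iv D57229)
theorem F261176 : act 7 n58393 = n57700 := d27_2 (iv F256391) D58393 (iv D57700)
theorem F261177 : act 8 n58393 = n58393 := d28_2 D57228 D58393 (iv D58393) (iv D57228) F250906
theorem F261178 : act 9 n58393 = n57260 := d29_2 (iv F256392) D58393 (iv D57260)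
def n58394 : Q := act 2 n57229
theorem D58394 : act 2 n57229 = n58394 := rfl
theorem F261179 : act 0 n58394 = n57803 := d1_1 D58394 (iv D57803) (iv F256393)
theorem F261180 : act 1 n58394 = n57896 := d9_1 D58394 F259608 F255398 (iv F253664) (iv F256394)
theorem F261181 : act 3 n58394 = n57885 := d17_2 D57229 D58394 F259573 (iv D56793) (iv F250912)
theorem F261182 : act 5 n58394 = n57230 := d19_2 (iv F256395) D58394 (iv D57230)
theorem F261183 : act 7 n58394 = n57232 := d21_2 (iv F256396) D58394 (iv D57232)
theorem F261184 : act 8 n58394 = n58394 := d22_2 F256397 D58394 (iv D58394)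
theorem F261185 : act 9 n58394 = n57261 := d23_2 (iv F256398) D58394 (iv D57261)
def n58395 : Q := act 4 n57229
theorem D58395 : act 4 n57229 = n58395 := rfl
theorem F261186 : act 0 n58395 = n57804 := d3_1 D58395 (iv D57804) (iv F256393)
theorem F261187 : act 1 n58395 = n57653 := d11_1 D58395 (iv D57653) (iv F256394)
theorem F261188 : act 5 n58395 = n57366 := d30_2 (iv F256395) D58395 (iv D57366) F251798 (iv F250918)
theorem F261189 : act 7 n58395 = n57233 := d32_2 (iv F256396) D58395 (iv D57233)
theorem F261190 : act 8 n58395 = n58395 := d33_2 F256397 D58395 (iv D58395)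
theorem F261191 : act 9 n58395 = n57262 := d34_2 (iv F256398) D58395 (iv D57262)
def n58396 : Q := act 4 n57232
theorem D58396 : act 4 n57232 = n58396 := rfl
theorem F261192 : act 0 n58396 = n57805 := d3_1 D58396 (iv D57805) (iv F256414)
theorem F261193 : act 1 n58396 = n57889 := d11_1 D58396 F259586 (iv F256415)
theorem F261194 : act 2 n58396 = n57233 := d18_1 D58396 (iv D57233) D57232
theorem F261195 : act 5 n58396 = n57369 := d30_2 (iv F256417) D58396 (iv D57369) F251831 (iv F250939)
theorem F261196 : act 6 n58396 = n57703 := d31_2 (iv F256418) D58396 (iv D57703)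
theorem F261197 : act 8 n58396 = n58396 := d33_2 F256419 D58396 (iv D58396)
theorem F261198 : act 9 n58396 = n57267 := d34_2 (iv F256420) D58396 (iv D57267)
def n58397 : Q := act 2 n57234
theorem D58397 : act 2 n57234 = n58397 := rfl
theorem F261199 : act 0 n58397 = n58299 := d1_1 D58397 (iv D58299) (iv F256427)
theorem F261200 : act 3 n58397 = n58048 := d17_2 D57234 D58397 (iv D58048) (iv D56874) (iv F250945)
theorem F261201 : act 4 n58397 = n57373 := d18_2 (iv F256429) D58397 (iv D57373)
theorem F261202 : act 5 n58397 = n58141 := d19_2 (iv F256430) D58397 (iv D58141)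
theorem F261203 : act 6 n58397 = n57240 := d20_2 (iv F256431) D58397 (iv D57240)
theorem F261204 : act 7 n58397 = n57930 := d21_2 (iv F256432) D58397 (iv D57930)
theorem F261205 : act 8 n58397 = n57925 := d22_2 (iv F256433) D58397 (iv D57925)
def n58398 : Q := act 3 n57235
theorem D58398 : act 3 n57235 = n58398 := rfl
theorem F261206 : act 0 n58398 = n57859 := d2_1 D58398 (iv D57859) (iv F256434)
theorem F261207 : act 1 n58398 = n57940 := d10_1 D58398 (iv D57940) (iv F256435)
theorem F261208 : act 5 n58398 = n57236 := d25_2 (iv F256438) D58398 (iv D57236)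
theorem F261209 : act 7 n58398 = n57249 := d27_2 (iv F256439) D58398 (iv D57249)
theorem F261210 : act 8 n58398 = n58035 := d28_2 D57235 D58398 (iv D58035) (iv D56863) (iv F250953)
theorem F261211 : act 9 n58398 = n57964 := d29_2 (iv F256440) D58398 (iv D57964)
def n58399 : Q := act 2 n57236
theorem D58399 : act 2 n57236 = n58399 := rfl
theorem F261212 : act 0 n58399 = n58318 := d1_1 D58399 (iv D58318) (iv F256441)
theorem F261213 : act 3 n58399 = n57240 := d17_2 D57236 D58399 (iv D57240) (iv D56010) (iv F250959)
theorem F261214 : act 6 n58399 = n58048 := d20_2 (iv F256443) D58399 (iv D58048)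
theorem F261215 : act 7 n58399 = n57250 := d21_2 (iv F256444) D58399 (iv D57250)
theorem F261216 : act 8 n58399 = n58036 := d22_2 (iv F256445) D58399 (iv D58036)
def n58400 : Q := act 4 n57236
theorem D58400 : act 4 n57236 = n58400 := rfl
theorem F261217 : act 0 n58400 = n58319 := d3_1 D58400 (iv D58319) (iv F256441)
theorem F261218 : act 1 n58400 = n58217 := d11_1 D58400 (iv D58217) (iv F256442)
theorem F261219 : act 3 n58400 = n57237 := d24_1 D58400 (iv D57237) (iv D56007) (iv F250960) D57236
theorem F261220 : act 6 n58400 = n58049 := d31_2 (iv F256443) D58400 (iv D58049)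
theorem F261221 : act 7 n58400 = n57251 := d32_2 (iv F256444) D58400 (iv D57251)
theorem F261222 : act 8 n58400 = n58037 := d33_2 (iv F256445) D58400 (iv D58037)
def n58401 : Q := act 5 n57237
theorem D58401 : act 5 n57237 = n58401 := rfl
theorem F261223 : act 0 n58401 = n58330 := d4_1 D58401 F260791 (iv F256446)
theorem F261224 : act 1 n58401 = n57735 := d12_1 D58401 F259015 (iv F256447)
theorem F261225 : act 2 n58401 = n57380 := d19_1 D58401 (iv D57380) (iv F256448)
theorem F261226 : act 4 n58401 = n57259 := d30_1 D58401 (iv D57259) (iv D56026) (iv F250966) D57237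
theorem F261227 : act 7 n58401 = n57252 := d36_2 (iv F256450) D58401 (iv D57252)
theorem F261228 : act 8 n58401 = n57273 := d37_2 (iv F256451) D58401 (iv D57273)
def n58402 : Q := act 3 n57238
theorem D58402 : act 3 n57238 = n58402 := rfl
theorem F261229 : act 0 n58402 = n57833 := d2_1 D58402 (iv D57833) (iv F256452)
theorem F261230 : act 1 n58402 = n57642 := d10_1 D58402 (iv D57642) (iv F256453)
theorem F261231 : act 5 n58402 = n57558 := d25_2 (iv F256455) D58402 (iv D57558)
theorem F261232 : act 6 n58402 = n57239 := d26_2 (iv F256456) D58402 (iv D57239)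
theorem F261233 : act 7 n58402 = n57713 := d27_2 (iv F256457) D58402 (iv D57713)
theorem F261234 : act 8 n58402 = n57559 := d28_2 D57238 D58402 (iv D57559) (iv D56385) (iv F250972)
def n58403 : Q := act 2 n57239
theorem D58403 : act 2 n57239 = n58403 := rfl
theorem F261235 : act 0 n58403 = n57868 := d1_1 D58403 (iv D57868) (iv F256458)
theorem F261236 : act 5 n58403 = n57240 := d19_2 (iv F256460) D58403 (iv D57240)
theorem F261237 : act 7 n58403 = n57253 := d21_2 (iv F256461) D58403 (iv D57253)
def n58404 : Q := act 4 n57239
theorem D58404 : act 4 n57239 = n58404 := rfl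
theorem F261238 : act 0 n58404 = n57869 := d3_1 D58404 (iv D57869) (iv F256458)
theorem F261239 : act 1 n58404 = n57659 := d11_1 D58404 (iv D57659) (iv F256459)
theorem F261240 : act 3 n58404 = n57262 := d24_1 D58404 (iv D57262) (iv D56028) (iv F250979) D57239
theorem F261241 : act 5 n58404 = n57384 := d30_2 (iv F256460) D58404 (iv D57384) F251914 (iv F250984)
theorem F261242 : act 7 n58404 = n57254 := d32_2 (iv F256461) D58404 (iv D57254)
theorem F261243 : act 8 n58404 = n58135 := d33_2 F260835 D58404 (iv F260831)
def n58405 : Q := act 1 n57240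
theorem D58405 : act 1 n57240 = n58405 := rfl
theorem F261244 : act 2 n58405 = n57660 := d9_2 D57240 D58405 (iv D57660) (iv D56488) (iv F250983)
theorem F261245 : act 4 n58405 = n57385 := d11_2 (iv F256463) D58405 (iv D57385)
theorem F261246 : act 7 n58405 = n57255 := d14_2 (iv F256464) D58405 (iv D57255)
def n58406 : Q := act 8 n57241
theorem D58406 : act 8 n57241 = n58406 := rfl
theorem F261247 : act 0 n58406 = n57717 := d7_1 D58406 (iv D57717) (iv F256465)
theorem F261248 : act 1 n58406 = n57247 := d15_1 D58406 (iv D57247) (iv F256466)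
theorem F261249 : act 2 n58406 = n57351 := d22_1 D58406 (iv D57351) (iv F256467)
theorem F261250 : act 4 n58406 = n57274 := d33_1 D58406 (iv D57274) (iv F256469)
theorem F261251 : act 5 n58406 = n57331 := d37_1 D58406 (iv D57331) (iv F256470)
theorem F261252 : act 6 n58406 = n57340 := d40_1 D58406 (iv D57340) (iv F256471)
theorem F261253 : act 7 n58406 = n57911 := d42_1 D58406 F259681 (iv F256472)
theorem F261254 : act 9 n58406 = n57242 := d44_2 D57241 D58406 (iv D57242) (iv D56012) D56011
def n58407 : Q := act 3 n57242
theorem D58407 : act 3 n57242 = n58407 := rfl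
theorem F261255 : act 0 n58407 = n58025 := d2_1 D58407 (iv D58025) (iv F256473)
theorem F261256 : act 1 n58407 = n57248 := d10_1 D58407 (iv D57248) (iv F256474)
theorem F261257 : act 5 n58407 = n57954 := d25_2 (iv F256477) D58407 (iv D57954)
theorem F261258 : act 6 n58407 = n57376 := d26_2 (iv F256478) D58407 (iv D57376)
theorem F261259 : act 7 n58407 = n57912 := d27_2 (iv F256479) D58407 (iv D57912)
theorem F261260 : act 8 n58407 = n57243 := d28_2 D57242 D58407 (iv D57243) (iv D56013) (iv F250997)
def n58408 : Q := act 2 n57243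
theorem D58408 : act 2 n57243 = n58408 := rfl
theorem F261261 : act 0 n58408 = n58029 := d1_1 D58408 (iv D58029) (iv F256480)
theorem F261262 : act 3 n58408 = n57661 := d17_2 D57243 D58408 (iv D57661) (iv D56489) (iv F251004)
theorem F261263 : act 5 n58408 = n57955 := d19_2 (iv F256482) D58408 (iv D57955)
theorem F261264 : act 6 n58408 = n57947 := d20_2 (iv F256483) D58408 (iv D57947)
theorem F261265 : act 7 n58408 = n58216 := d21_2 (iv F256484) D58408 (iv D58216)
theorem F261266 : act 9 n58408 = n57981 := d23_2 (iv F256485) D58408 (iv D57981)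
def n58409 : Q := act 4 n57243
theorem D58409 : act 4 n57243 = n58409 := rfl
theorem F261267 : act 0 n58409 = n57672 := d3_1 D58409 F258737 (iv F256480)
theorem F261268 : act 1 n58409 = n57251 := d11_1 D58409 (iv D57251) (iv F256481)
theorem F261269 : act 3 n58409 = n57244 := d24_1 D58409 (iv D57244) (iv D56014) (iv F251005) D57243
theorem F261270 : act 6 n58409 = n57948 := d31_2 (iv F256483) D58409 (iv D57948)
theorem F261271 : act 7 n58409 = n58217 := d32_2 (iv F256484) D58409 (iv D58217)
theorem F261272 : act 9 n58409 = n57982 := d34_2 (iv F256485) D58409 (iv D57982)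
theorem F261273 : act 5 n57737 = n58409 := d25_0 F261269 F256489 D57737
def n58410 : Q := act 8 n57245
theorem D58410 : act 8 n57245 = n58410 := rfl
theorem F261274 : act 0 n58410 = n57849 := d7_1 D58410 (iv D57849) (iv F256494)
theorem F261275 : act 1 n58410 = n57331 := d15_1 D58410 (iv D57331) (iv F256495)
theorem F261276 : act 2 n58410 = n57338 := d22_1 D58410 (iv D57338) (iv F256496)
theorem F261277 : act 4 n58410 = n58410 := d33_1 D58410 (iv D58410) F256498
theorem F261278 : act 5 n58410 = n57247 := d37_1 D58410 (iv D57247) (iv F256499)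
theorem F261279 : act 6 n58410 = n57720 := d40_1 D58410 (iv D57720) (iv F256500)
theorem F261280 : act 7 n58410 = n57759 := d42_1 D58410 (iv D57759) (iv F256501)
theorem F261281 : act 9 n58410 = n57246 := d44_2 D57245 D58410 (iv D57246) (iv D56016) D56015
def n58411 : Q := act 3 n57246
theorem D58411 : act 3 n57246 = n58411 := rfl
theorem F261282 : act 0 n58411 = n57850 := d2_1 D58411 (iv D57850) (iv F256502)
theorem F261283 : act 1 n58411 = n57954 := d10_1 D58411 (iv D57954) (iv F256503)
theorem F261284 : act 5 n58411 = n57248 := d25_2 (iv F256506) D58411 (iv D57248)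
theorem F261285 : act 6 n58411 = n57721 := d26_2 (iv F256507) D58411 (iv D57721)
theorem F261286 : act 7 n58411 = n58035 := d27_2 (iv F256508) D58411 (iv D58035)
theorem F261287 : act 8 n58411 = n57249 := d28_2 D57246 D58411 (iv D57249) (iv D56019) (iv F251029)
def n58412 : Q := act 3 n57247
theorem D58412 : act 3 n57247 = n58412 := rfl
theorem F261288 : act 0 n58412 = n58309 := d2_1 D58412 (iv D58309) (iv F256509)
theorem F261289 : act 6 n58412 = n57343 := d26_2 (iv F256512) D58412 (iv D57343)
theorem F261290 : act 7 n58412 = n58010 := d27_2 (iv F256513) D58412 (iv D58010)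
theorem F261291 : act 9 n58412 = n57248 := d29_2 (iv F256514) D58412 (iv D57248)
def n58413 : Q := act 2 n57248
theorem D58413 : act 2 n57248 = n58413 := rfl
theorem F261292 : act 0 n58413 = n58310 := d1_1 D58413 (iv D58310) (iv F256515)
theorem F261293 : act 3 n58413 = n57373 := d17_2 D57248 D58413 (iv D57373) (iv D56152) (iv F251040)
theorem F261294 : act 6 n58413 = n57378 := d20_2 (iv F256516) D58413 (iv D57378)
theorem F261295 : act 7 n58413 = n58036 := d21_2 (iv F256517) D58413 (iv D58036)
theorem F261296 : act 8 n58413 = n57250 := d22_2 (iv F256518) D58413 (iv D57250)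
def n58414 : Q := act 4 n57248
theorem D58414 : act 4 n57248 = n58414 := rfl
theorem F261297 : act 0 n58414 = n58311 := d3_1 D58414 (iv D58311) (iv F256515)
theorem F261298 : act 3 n58414 = n57278 := d24_1 D58414 (iv D57278) (iv D56048) (iv F251041) D57248
theorem F261299 : act 6 n58414 = n57379 := d31_2 (iv F256516) D58414 (iv D57379)
theorem F261300 : act 7 n58414 = n58037 := d32_2 (iv F256517) D58414 (iv D58037)
theorem F261301 : act 8 n58414 = n57251 := d33_2 (iv F256518) D58414 (iv D57251)
def n58415 : Q := act 2 n57249
theorem D58415 : act 2 n57249 = n58415 := rfl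
theorem F261302 : act 0 n58415 = n57860 := d1_1 D58415 (iv D57860) (iv F256519)
theorem F261303 : act 3 n58415 = n57253 := d17_2 D57249 D58415 (iv D57253) (iv D56022) (iv F251046)
theorem F261304 : act 5 n58415 = n57250 := d19_2 (iv F256521) D58415 (iv D57250)
theorem F261305 : act 6 n58415 = n57724 := d20_2 (iv F256522) D58415 (iv D57724)
theorem F261306 : act 9 n58415 = n57975 := d23_2 (iv F256523) D58415 (iv D57975)
def n58416 : Q := act 4 n57249
theorem D58416 : act 4 n57249 = n58416 := rfl
theorem F261307 : act 0 n58416 = n57861 := d3_1 D58416 (iv D57861) (iv F256519)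
theorem F261308 : act 1 n58416 = n57956 := d11_1 D58416 (iv D57956) (iv F256520)
theorem F261309 : act 3 n58416 = n57264 := d24_1 D58416 (iv D57264) (iv D56030) (iv F251047) D57249
theorem F261310 : act 6 n58416 = n57725 := d31_2 (iv F256522) D58416 (iv D57725)
theorem F261311 : act 9 n58416 = n57976 := d34_2 (iv F256523) D58416 (iv D57976)
def n58417 : Q := act 1 n57250
theorem D58417 : act 1 n57250 = n58417 := rfl
theorem F261312 : act 3 n58417 = n57255 := d10_2 (iv F256525) D58417 (iv D57255)
theorem F261313 : act 6 n58417 = n57949 := d13_2 (iv F256526) D58417 (iv D57949)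
def n58418 : Q := act 4 n57250
theorem D58418 : act 4 n57250 = n58418 := rfl
theorem F261314 : act 0 n58418 = n58321 := d3_1 D58418 (iv D58321) (iv F256524)
theorem F261315 : act 2 n58418 = n57251 := d18_1 D58418 (iv D57251) D57250
theorem F261316 : act 3 n58418 = n57402 := d24_1 D58418 (iv D57402) F251999 (iv F251062) (iv F256525)
theorem F261317 : act 6 n58418 = n57950 := d31_2 (iv F256526) D58418 (iv D57950)
def n58419 : Q := act 5 n57251
theorem D58419 : act 5 n57251 = n58419 := rfl
theorem F261318 : act 0 n58419 = n58322 := d4_1 D58419 (iv D58322) (iv F256527)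
theorem F261319 : act 1 n58419 = n57737 := d12_1 D58419 F261273 F261268
theorem F261320 : act 3 n58419 = n57252 := d25_1 D58419 (iv D57252) (iv F256528)
def n58420 : Q := act 6 n57252
theorem D58420 : act 6 n57252 = n58420 := rfl
theorem F261321 : act 0 n58420 = n57977 := d5_1 D58420 F259944 (iv F256530)
theorem F261322 : act 1 n58420 = n57267 := d13_1 D58420 F256619 (iv F256531)
theorem F261323 : act 2 n58420 = n57404 := d20_1 D58420 (iv D57404) (iv F256532)
theorem F261324 : act 4 n58420 = n57266 := d31_1 D58420 (iv D57266) (iv F256533)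
theorem F261325 : act 5 n58420 = n57418 := d35_1 D58420 F257491 F254358 (iv F251055) D57252
theorem F261326 : act 8 n58420 = n57271 := d40_2 (iv F256534) D58420 F256645
theorem F261327 : act 9 n58420 = n57889 := d41_2 F261149 D58420 (iv F261147)
theorem F261328 : act 7 n58239 = n58420 := d42_3 F261326 F256646 (iv F260603)
def n58421 : Q := act 1 n57253
theorem D58421 : act 1 n57253 = n58421 := rfl
theorem F261329 : act 2 n58421 = n57668 := d9_2 D57253 D58421 (iv D57668) (iv D56495) (iv F251058)
theorem F261330 : act 5 n58421 = n57255 := d12_2 (iv F256536) D58421 (iv D57255)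
theorem F261331 : act 6 n58421 = n57727 := d13_2 (iv F256537) D58421 (iv D57727)
def n58422 : Q := act 4 n57253
theorem D58422 : act 4 n57253 = n58422 := rfl
theorem F261332 : act 0 n58422 = n57871 := d3_1 D58422 (iv D57871) (iv F256535)
theorem F261333 : act 2 n58422 = n57254 := d18_1 D58422 (iv D57254) D57253
theorem F261334 : act 5 n58422 = n57409 := d30_2 (iv F256536) D58422 (iv D57409) F252013 (iv F251062)
theorem F261335 : act 6 n58422 = n57728 := d31_2 (iv F256537) D58422 (iv D57728)
def n58423 : Q := act 0 n57255
theorem D58423 : act 0 n57255 = n58423 := rfl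
theorem F261336 : act 1 n58423 = n58329 := d0_2 D57255 D58423 (iv D58329) (iv D57149) (iv F251061)
theorem F261337 : act 2 n58423 = n57670 := d1_2 (iv F256543) D58423 (iv D57670)
theorem F261338 : act 4 n58423 = n57410 := d3_2 (iv F256544) D58423 (iv D57410)
theorem F261339 : act 6 n58423 = n57951 := d5_2 (iv F256545) D58423 (iv D57951)
def n58424 : Q := act 2 n57256
theorem D58424 : act 2 n57256 = n58424 := rfl
theorem F261340 : act 0 n58424 = n57801 := d1_1 D58424 F259289 (iv F256546)
theorem F261341 : act 1 n58424 = n58003 := d9_1 D58424 (iv D58003) F255164 (iv F254890) (iv F256547)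
theorem F261342 : act 3 n58424 = n57261 := d17_2 D57256 D58424 (iv D57261) (iv D56028) (iv F251066)
theorem F261343 : act 5 n58424 = n57257 := d19_2 (iv F256548) D58424 (iv D57257)
theorem F261344 : act 7 n58424 = n57263 := d21_2 (iv F256549) D58424 (iv D57263)
theorem F261345 : act 8 n58424 = n58424 := d22_2 F256550 D58424 (iv D58424)
theorem F261346 : act 9 n58424 = n57885 := d23_2 (iv F256551) D58424 F259573
def n58425 : Q := act 4 n57256
theorem D58425 : act 4 n57256 = n58425 := rfl
theorem F261347 : act 0 n58425 = n57888 := d3_1 D58425 (iv D57888) (iv F256546)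
theorem F261348 : act 1 n58425 = n57941 := d11_1 D58425 (iv D57941) (iv F256547)
theorem F261349 : act 7 n58425 = n57264 := d32_2 (iv F256549) D58425 (iv D57264)
theorem F261350 : act 8 n58425 = n58425 := d33_2 F256550 D58425 (iv D58425)
theorem F261351 : act 9 n58425 = n57965 := d34_2 (iv F256551) D58425 (iv D57965)
def n58426 : Q := act 5 n57258
theorem D58426 : act 5 n57258 = n58426 := rfl
theorem F261352 : act 0 n58426 = n57896 := d4_1 D58426 (iv D57896) (iv F256560)
theorem F261353 : act 1 n58426 = n57731 := d12_1 D58426 F258996 (iv F256561)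
theorem F261354 : act 2 n58426 = n58089 := d19_1 D58426 F260275 (iv F256562)
theorem F261355 : act 3 n58426 = n57259 := d25_1 D58426 (iv D57259) (iv F256563)
theorem F261356 : act 7 n58426 = n57265 := d36_2 (iv F256565) D58426 (iv D57265)
theorem F261357 : act 8 n58426 = n58426 := d37_2 F256566 D58426 (iv D58426)
theorem F261358 : act 9 n58426 = n57988 := d38_2 (iv F256567) D58426 (iv D57988)
def n58427 : Q := act 6 n57259
theorem D58427 : act 6 n57259 = n58427 := rfl
theorem F261359 : act 0 n58427 = n57997 := d5_1 D58427 F260022 (iv F256568)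
theorem F261360 : act 1 n58427 = n57733 := d13_1 D58427 F259008 (iv F256569)
theorem F261361 : act 2 n58427 = n57412 := d20_1 D58427 (iv D57412) (iv F256570)
theorem F261362 : act 5 n58427 = n58427 := d35_1 D58427 (iv D58427) (iv D57259) F251079 D57259
theorem F261363 : act 7 n58427 = n57754 := d39_2 (iv F256571) D58427 F259099 F256615 (iv D57266)
theorem F261364 : act 8 n58427 = n57280 := d40_2 (iv F256572) D58427 (iv D57280)
def n58428 : Q := act 2 n57260
theorem D58428 : act 2 n57260 = n58428 := rfl
theorem F261365 : act 0 n58428 = n57880 := d1_1 D58428 (iv D57880) (iv F256573)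
theorem F261366 : act 1 n58428 = n57754 := d9_1 D58428 (iv D57754) F254156 (iv F253621) (iv F256574)
theorem F261367 : act 5 n58428 = n58428 := d19_2 F256575 D58428 (iv D58428)
theorem F261368 : act 6 n58428 = n57261 := d20_2 (iv F256576) D58428 (iv D57261)
theorem F261369 : act 7 n58428 = n57733 := d21_2 (iv F256577) D58428 (iv D57733)
theorem F261370 : act 8 n58428 = n57268 := d22_2 (iv F256578) D58428 (iv D57268)
def n58429 : Q := act 4 n57260
theorem D58429 : act 4 n57260 = n58429 := rfl
theorem F261371 : act 0 n58429 = n57881 := d3_1 D58429 (iv D57881) (iv F256573)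
theorem F261372 : act 1 n58429 = n57643 := d11_1 D58429 (iv D57643) (iv F256574)
theorem F261373 : act 6 n58429 = n57262 := d31_2 (iv F256576) D58429 (iv D57262)
theorem F261374 : act 7 n58429 = n57734 := d32_2 (iv F256577) D58429 (iv D57734)
theorem F261375 : act 8 n58429 = n57269 := d33_2 (iv F256578) D58429 (iv D57269)
def n58430 : Q := act 4 n57261
theorem D58430 : act 4 n57261 = n58430 := rfl
theorem F261376 : act 0 n58430 = n57891 := d3_1 D58430 (iv D57891) (iv F256579)
theorem F261377 : act 1 n58430 = n58239 := d11_1 D58430 (iv D58239) (iv F256580)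
theorem F261378 : act 2 n58430 = n57262 := d18_1 D58430 (iv D57262) D57261
theorem F261379 : act 5 n58430 = n57416 := d30_2 (iv F256581) D58430 (iv D57416) F252053 (iv F251094)
theorem F261380 : act 7 n58430 = n57267 := d32_2 (iv F256582) D58430 (iv D57267)
theorem F261381 : act 8 n58430 = n57270 := d33_2 (iv F256583) D58430 (iv D57270)
def n58431 : Q := act 4 n57263
theorem D58431 : act 4 n57263 = n58431 := rfl
theorem F261382 : act 0 n58431 = n57806 := d3_1 D58431 (iv D57806) (iv F256589)
theorem F261383 : act 1 n58431 = n58278 := d11_1 D58431 (iv D58278) (iv F256590)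
theorem F261384 : act 2 n58431 = n57264 := d18_1 D58431 (iv D57264) D57263
theorem F261385 : act 5 n58431 = n58091 := d30_2 (iv F256592) D58431 (iv D58091) F255410 F251110
theorem F261386 : act 6 n58431 = n57736 := d31_2 (iv F256593) D58431 (iv D57736)
theorem F261387 : act 8 n58431 = n58431 := d33_2 F256594 D58431 (iv D58431)
theorem F261388 : act 9 n58431 = n57893 := d34_2 (iv F256595) D58431 (iv D57893)
def n58432 : Q := act 5 n57264
theorem D58432 : act 5 n57264 = n58432 := rfl
theorem F261389 : act 0 n58432 = n57889 := d4_1 D58432 (iv D57889) (iv F256596)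
theorem F261390 : act 1 n58432 = n57736 := d12_1 D58432 F259020 (iv F256597)
theorem F261391 : act 2 n58432 = n58091 := d19_1 D58432 (iv F261385) F261384
theorem F261392 : act 4 n58432 = n57265 := d30_1 D58432 (iv D57265) (iv D56032) (iv F251100) D57264
theorem F261393 : act 6 n58432 = n58278 := d35_2 (iv F256598) D58432 F260683 F255858 (iv F254050)
theorem F261394 : act 8 n58432 = n58432 := d37_2 F256599 D58432 (iv D58432)
theorem F261395 : act 9 n58432 = n57977 := d38_2 (iv F256600) D58432 (iv D57977)
def n58433 : Q := act 3 n57267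
theorem D58433 : act 3 n57267 = n58433 := rfl
theorem F261396 : act 0 n58433 = n57892 := d2_1 D58433 (iv D57892) (iv F256616)
theorem F261397 : act 5 n58433 = n57419 := d25_2 (iv F256618) D58433 (iv D57419)
theorem F261398 : act 6 n58433 = n57737 := d26_2 (iv F256619) D58433 (iv D57737)
def n58434 : Q := act 4 n57268
theorem D58434 : act 4 n57268 = n58434 := rfl
theorem F261399 : act 0 n58434 = n57897 := d3_1 D58434 (iv D57897) (iv F256621)
theorem F261400 : act 1 n58434 = n57916 := d11_1 D58434 (iv D57916) (iv F256622)
theorem F261401 : act 2 n58434 = n57269 := d18_1 D58434 (iv D57269) D57268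
theorem F261402 : act 6 n58434 = n57270 := d31_2 (iv F256625) D58434 (iv D57270)
theorem F261403 : act 7 n58434 = n57738 := d32_2 (iv F256626) D58434 (iv D57738)
theorem F261404 : act 9 n58434 = n58434 := d34_2 F256627 D58434 (iv D58434)
theorem F261405 : act 3 n58434 = n57901 := d46_3 F261370 F256624 D58434 F259633 (iv F257505) F257504 (iv F258550) (iv D57629) (iv D56456) (iv D55124) F239966 (iv F241429) (iv F248174) (iv D55290) F240836 (iv F248171) F248170 (iv F245360) F245359 F240917 (iv F243391) (iv D54404) (iv D52665) (iv D50668) F216598 (iv F214966) (iv F224601) (iv D50128) F214675 (iv F214706) F214705 F187123 F203011 F131973 F92187 (iv F92557) (iv F131695) (iv F189123) (iv F215816) (iv F225684) (iv F234843) D54211 F242866 (iv F239146) (iv F246042) (iv F250536) F250535 F243850 (iv D53492) (iv F239824) (iv F247202) (iv F251433) F251432 (iv F254499) F254498 D56850 (iv F259173) F259172 D57797 (iv F259274) (iv F259554) (iv F261365)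
theorem F261406 : act 5 n57900 = n58434 := d25_0 F261405 (iv D57901) D57900
def n58435 : Q := act 5 n57269
theorem D58435 : act 5 n57269 = n58435 := rfl
theorem F261407 : act 0 n58435 = n57619 := d4_1 D58435 F258499 (iv F256628)
theorem F261408 : act 1 n58435 = n57673 := d12_1 D58435 (iv D57673) (iv F256629)
theorem F261409 : act 2 n58435 = n57900 := d19_1 D58435 F261406 F261401
theorem F261410 : act 3 n58435 = n57530 := d25_1 D58435 F258131 (iv F256630)
theorem F261411 : act 4 n58435 = n58435 := d30_1 D58435 (iv D58435) (iv D57269) F251141 D57269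
theorem F261412 : act 6 n58435 = n57421 := d35_2 (iv F256631) D58435 (iv D57421) F252119 (iv F251154)
theorem F261413 : act 7 n58435 = n57739 := d36_2 (iv F256632) D58435 (iv D57739)
theorem F261414 : act 9 n58435 = n58435 := d38_2 F256633 D58435 (iv D58435)
def n58436 : Q := act 3 n57271
theorem D58436 : act 3 n57271 = n58436 := rfl
theorem F261415 : act 0 n58436 = n58000 := d2_1 D58436 F260031 (iv F256641)
theorem F261416 : act 1 n58436 = n57272 := d10_1 D58436 (iv D57272) (iv F256642)
theorem F261417 : act 2 n58436 = n58095 := d17_1 D58436 F260296 (iv F257572) F257573 (iv F256643)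
theorem F261418 : act 4 n58436 = n58436 := d24_2 D57271 D58436 (iv D58436) (iv D57271) F251159
theorem F261419 : act 5 n58436 = n57425 := d25_2 (iv F256644) D58436 (iv D57425)
theorem F261420 : act 6 n58436 = n57279 := d26_2 (iv F256645) D58436 F256698
theorem F261421 : act 7 n58436 = n57917 := d27_2 (iv F256646) D58436 F259710
theorem F261422 : act 9 n58436 = n58436 := d29_2 F256647 D58436 (iv D58436)
def n58437 : Q := act 8 n57272
theorem D58437 : act 8 n57272 = n58437 := rfl
theorem F261423 : act 0 n58437 = n57906 := d7_1 D58437 (iv D57906) (iv F256648)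
theorem F261424 : act 4 n58437 = n58437 := d33_1 D58437 (iv D58437) F256649
theorem F261425 : act 5 n58437 = n57426 := d37_1 D58437 (iv D57426) (iv F256650)
theorem F261426 : act 6 n58437 = n57740 := d40_1 D58437 (iv D57740) (iv F256651)
theorem F261427 : act 7 n58437 = n57763 := d42_1 D58437 F259134 (iv F256652)
def n58438 : Q := act 6 n57273
theorem D58438 : act 6 n57273 = n58438 := rfl
theorem F261428 : act 0 n58438 = n57999 := d5_1 D58438 F260028 (iv F256654)
theorem F261429 : act 1 n58438 = n57738 := d13_1 D58438 F259026 (iv F256655)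
theorem F261430 : act 2 n58438 = n57425 := d20_1 D58438 F257538 (iv F256656)
theorem F261431 : act 3 n58438 = n57908 := d26_1 D58438 F259670 (iv F256657)
theorem F261432 : act 4 n58438 = n57280 := d31_1 D58438 (iv D57280) (iv F256658)
theorem F261433 : act 5 n58438 = n58095 := d35_1 D58438 (iv D58095) (iv D56919) (iv F251173) D57273
theorem F261434 : act 7 n58438 = n57916 := d39_2 (iv F256659) D58438 F259707 (iv F256646) F256645
theorem F261435 : act 9 n58438 = n58438 := d41_2 F256660 D58438 (iv D58438)
def n58439 : Q := act 3 n57274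
theorem D58439 : act 3 n57274 = n58439 := rfl
theorem F261436 : act 0 n58439 = n57741 := d2_1 D58439 (iv D57741) (iv F256661)
theorem F261437 : act 1 n58439 = n57277 := d10_1 D58439 (iv D57277) (iv F256662)
theorem F261438 : act 2 n58439 = n57621 := d17_1 D58439 (iv D57621) F253488 (iv F254074) (iv F256663)
theorem F261439 : act 5 n58439 = n58439 := d25_2 F256664 D58439 (iv D58439)
theorem F261440 : act 6 n58439 = n57341 := d26_2 (iv F256665) D58439 (iv D57341)
theorem F261441 : act 7 n58439 = n57626 := d27_2 (iv F256666) D58439 F258536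
theorem F261442 : act 8 n58439 = n58439 := d28_2 D57274 D58439 (iv D58439) (iv D57274) F251179
theorem F261443 : act 9 n58439 = n57275 := d29_2 (iv F256667) D58439 (iv D57275)
def n58440 : Q := act 4 n57275
theorem D58440 : act 4 n57275 = n58440 := rfl
theorem F261444 : act 0 n58440 = n57674 := d3_1 D58440 F258747 (iv F256668)
theorem F261445 : act 1 n58440 = n57278 := d11_1 D58440 (iv D57278) (iv F256669)
theorem F261446 : act 2 n58440 = n57622 := d18_1 D58440 (iv D57622) (iv F256670)
theorem F261447 : act 6 n58440 = n57377 := d31_2 (iv F256672) D58440 (iv D57377)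
theorem F261448 : act 7 n58440 = n57628 := d32_2 (iv F256673) D58440 (iv D57628)
theorem F261449 : act 8 n58440 = n57276 := d33_2 (iv F256674) D58440 (iv D57276)
theorem F261450 : act 5 n57740 = n58440 := d37_3 F261449 (iv F256682) D57740
def n58441 : Q := act 4 n57277
theorem D58441 : act 4 n57277 = n58441 := rfl
theorem F261451 : act 0 n58441 = n58335 := d3_1 D58441 (iv D58335) (iv F256683)
theorem F261452 : act 2 n58441 = n58093 := d18_1 D58441 (iv D58093) (iv F256684)
theorem F261453 : act 6 n58441 = n57344 := d31_2 (iv F256686) D58441 (iv D57344)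
theorem F261454 : act 7 n58441 = n58011 := d32_2 (iv F256687) D58441 (iv D58011)
theorem F261455 : act 8 n58441 = n58441 := d33_2 F256688 D58441 (iv D58441)
theorem F261456 : act 9 n58441 = n57278 := d34_2 (iv F256689) D58441 (iv D57278)
def n58442 : Q := act 5 n57278
theorem D58442 : act 5 n57278 = n58442 := rfl
theorem F261457 : act 0 n58442 = n58336 := d4_1 D58442 (iv D58336) (iv F256690)
theorem F261458 : act 1 n58442 = n57740 := d12_1 D58442 F261450 F261445
theorem F261459 : act 2 n58442 = n58094 := d19_1 D58442 (iv D58094) (iv F256691)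
theorem F261460 : act 4 n58442 = n58442 := d30_1 D58442 (iv D58442) (iv D57278) F251211 D57278
theorem F261461 : act 7 n58442 = n58038 := d36_2 (iv F256693) D58442 (iv D58038)
theorem F261462 : act 8 n58442 = n57279 := d37_2 (iv F256694) D58442 (iv D57279)
def n58443 : Q := act 3 n57281
theorem D58443 : act 3 n57281 = n58443 := rfl
theorem F261463 : act 0 n58443 = n57675 := d2_1 D58443 (iv D57675) (iv F256709)
theorem F261464 : act 1 n58443 = n57298 := d10_1 D58443 (iv D57298) (iv F256710)
theorem F261465 : act 4 n58443 = n57742 := d24_2 (iv F256712) D58443 (iv D57742) F254087 (iv F251243)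
theorem F261466 : act 5 n58443 = n57678 := d25_2 (iv F256713) D58443 (iv D57678)
theorem F261467 : act 6 n58443 = n57641 := d26_2 (iv F256714) D58443 (iv D57641)
theorem F261468 : act 7 n58443 = n57282 := d27_2 (iv F256715) D58443 (iv D57282)
theorem F261469 : act 8 n58443 = n57647 := d28_2 D57281 D58443 (iv D57647) (iv D56476) (iv F251235)
theorem F261470 : act 9 n58443 = n57289 := d29_2 (iv F256716) D58443 (iv D57289)
def n58444 : Q := act 2 n57282
theorem D58444 : act 2 n57282 = n58444 := rfl
theorem F261471 : act 0 n58444 = n57676 := d1_1 D58444 (iv D57676) (iv F256717)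
theorem F261472 : act 3 n58444 = n57666 := d17_2 D57282 D58444 (iv D57666) (iv D56494) (iv F251250)
theorem F261473 : act 4 n58444 = n58032 := d18_2 (iv F256719) D58444 (iv D58032)
theorem F261474 : act 5 n58444 = n57682 := d19_2 (iv F256720) D58444 (iv D57682)
theorem F261475 : act 6 n58444 = n57663 := d20_2 (iv F256721) D58444 (iv D57663)
theorem F261476 : act 8 n58444 = n58183 := d22_2 (iv F256722) D58444 (iv D58183)
theorem F261477 : act 9 n58444 = n57294 := d23_2 (iv F256723) D58444 (iv D57294)
def n58445 : Q := act 8 n57283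
theorem D58445 : act 8 n57283 = n58445 := rfl
theorem F261478 : act 0 n58445 = n57587 := d7_1 D58445 (iv D57587) (iv F256724)
theorem F261479 : act 1 n58445 = n57694 := d15_1 D58445 (iv D57694) (iv F256725)
theorem F261480 : act 2 n58445 = n57286 := d22_1 D58445 (iv D57286) (iv F256726)
theorem F261481 : act 4 n58445 = n57284 := d33_1 D58445 (iv D57284) (iv F256728)
theorem F261482 : act 5 n58445 = n58104 := d37_1 D58445 (iv D58104) (iv F256729)
theorem F261483 : act 6 n58445 = n57287 := d40_1 D58445 (iv D57287) (iv F256730)
theorem F261484 : act 7 n58445 = n57449 := d42_1 D58445 (iv D57449) (iv F256731)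
theorem F261485 : act 9 n58445 = n57584 := d44_2 D57283 D58445 (iv D57584) (iv D56409) (iv F251260)
def n58446 : Q := act 3 n57284
theorem D58446 : act 3 n57284 = n58446 := rfl
theorem F261486 : act 0 n58446 = n57624 := d2_1 D58446 (iv D57624) (iv F256732)
theorem F261487 : act 1 n58446 = n57700 := d10_1 D58446 (iv D57700) (iv F256733)
theorem F261488 : act 2 n58446 = n57535 := d17_1 D58446 (iv D57535) F253126 (iv F251286) (iv F256734)
theorem F261489 : act 5 n58446 = n58446 := d25_2 F256735 D58446 (iv D58446)
theorem F261490 : act 6 n58446 = n57288 := d26_2 (iv F256736) D58446 (iv D57288)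
theorem F261491 : act 7 n58446 = n57450 := d27_2 (iv F256737) D58446 (iv D57450)
theorem F261492 : act 8 n58446 = n58446 := d28_2 D57284 D58446 (iv D58446) (iv D57284) F251266
theorem F261493 : act 9 n58446 = n57623 := d29_2 (iv F256738) D58446 (iv D57623)
def n58447 : Q := act 8 n57285
theorem D58447 : act 8 n57285 = n58447 := rfl
theorem F261494 : act 0 n58447 = n57456 := d7_1 D58447 (iv D57456) (iv F256739)
theorem F261495 : act 1 n58447 = n57305 := d15_1 D58447 (iv D57305) (iv F256740)
theorem F261496 : act 2 n58447 = n58104 := d22_1 D58447 (iv D58104) (iv F256741)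
theorem F261497 : act 4 n58447 = n58447 := d33_1 D58447 (iv D58447) F256743
theorem F261498 : act 5 n58447 = n57286 := d37_1 D58447 (iv D57286) (iv F256744)
theorem F261499 : act 6 n58447 = n57586 := d40_1 D58447 (iv D57586) (iv F256745)
theorem F261500 : act 7 n58447 = n57451 := d42_1 D58447 (iv D57451) (iv F256746)
theorem F261501 : act 9 n58447 = n57640 := d44_2 D57285 D58447 (iv D57640) (iv D56469) (iv F251277)
def n58448 : Q := act 3 n57286
theorem D58448 : act 3 n57286 = n58448 := rfl
theorem F261502 : act 0 n58448 = n57677 := d2_1 D58448 (iv D57677) (iv F256747)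
theorem F261503 : act 1 n58448 = n57306 := d10_1 D58448 (iv D57306) (iv F256748)
theorem F261504 : act 4 n58448 = n57537 := d24_2 (iv F256749) D58448 (iv D57537) F253137 (iv F251286)
theorem F261505 : act 6 n58448 = n57289 := d26_2 (iv F256750) D58448 (iv D57289)
theorem F261506 : act 7 n58448 = n57452 := d27_2 (iv F256751) D58448 (iv D57452)
theorem F261507 : act 8 n58448 = n57453 := d28_2 D57286 D58448 (iv D57453) (iv D56264) (iv F251280)
theorem F261508 : act 9 n58448 = n57641 := d29_2 (iv F256752) D58448 (iv D57641)
def n58449 : Q := act 3 n57287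
theorem D58449 : act 3 n57287 = n58449 := rfl
theorem F261509 : act 0 n58449 = n57678 := d2_1 D58449 (iv D57678) (iv F256753)
theorem F261510 : act 1 n58449 = n57695 := d10_1 D58449 (iv D57695) (iv F256754)
theorem F261511 : act 5 n58449 = n57675 := d25_2 (iv F256757) D58449 (iv D57675)
theorem F261512 : act 7 n58449 = n57291 := d27_2 (iv F256758) D58449 (iv D57291)
theorem F261513 : act 8 n58449 = n58187 := d28_2 D57287 D58449 (iv D58187) (iv D57016) (iv F251294)
theorem F261514 : act 9 n58449 = n57665 := d29_2 (iv F256759) D58449 (iv D57665)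
def n58450 : Q := act 4 n57288
theorem D58450 : act 4 n57288 = n58450 := rfl
theorem F261515 : act 0 n58450 = n57679 := d3_1 D58450 (iv D57679) (iv F256760)
theorem F261516 : act 1 n58450 = n57702 := d11_1 D58450 (iv D57702) (iv F256761)
theorem F261517 : act 2 n58450 = n58092 := d18_1 D58450 (iv D58092) (iv F256762)
theorem F261518 : act 5 n58450 = n58215 := d30_2 (iv F256763) D58450 (iv D58215) F255713 (iv F251346)
theorem F261519 : act 7 n58450 = n57292 := d32_2 (iv F256764) D58450 (iv D57292)
theorem F261520 : act 8 n58450 = n58450 := d33_2 F256765 D58450 (iv D58450)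
theorem F261521 : act 9 n58450 = n57671 := d34_2 (iv F256766) D58450 (iv D57671)
def n58451 : Q := act 2 n57289
theorem D58451 : act 2 n57289 = n58451 := rfl
theorem F261522 : act 0 n58451 = n57680 := d1_1 D58451 (iv D57680) (iv F256767)
theorem F261523 : act 4 n58451 = n58086 := d18_2 (iv F256769) D58451 (iv D58086)
theorem F261524 : act 5 n58451 = n58159 := d19_2 (iv F256770) D58451 (iv D58159)
theorem F261525 : act 7 n58451 = n57294 := d21_2 (iv F256771) D58451 (iv D57294)
theorem F261526 : act 8 n58451 = n58161 := d22_2 (iv F256772) D58451 (iv D58161)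
def n58452 : Q := act 3 n57290
theorem D58452 : act 3 n57290 = n58452 := rfl
theorem F261527 : act 0 n58452 = n57681 := d2_1 D58452 (iv D57681) (iv F256773)
theorem F261528 : act 1 n58452 = n57690 := d10_1 D58452 (iv D57690) (iv F256774)
theorem F261529 : act 5 n58452 = n57654 := d25_2 (iv F256777) D58452 (iv D57654)
theorem F261530 : act 6 n58452 = n57644 := d26_2 (iv F256778) D58452 (iv D57644)
theorem F261531 : act 7 n58452 = n58187 := d27_2 (iv F256779) D58452 (iv D58187)
theorem F261532 : act 8 n58452 = n57291 := d28_2 D57290 D58452 (iv D57291) (iv D56064) (iv F251312)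
theorem F261533 : act 9 n58452 = n58178 := d29_2 (iv F256780) D58452 (iv D58178)
def n58453 : Q := act 2 n57291
theorem D58453 : act 2 n57291 = n58453 := rfl
theorem F261534 : act 0 n58453 = n57682 := d1_1 D58453 (iv D57682) (iv F256781)
theorem F261535 : act 3 n58453 = n57294 := d17_2 D57291 D58453 (iv D57294) (iv D56067) (iv F251319)
theorem F261536 : act 5 n58453 = n57676 := d19_2 (iv F256783) D58453 (iv D57676)
theorem F261537 : act 6 n58453 = n57650 := d20_2 (iv F256784) D58453 (iv D57650)
theorem F261538 : act 9 n58453 = n57666 := d23_2 (iv F256785) D58453 (iv D57666)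
def n58454 : Q := act 4 n57291
theorem D58454 : act 4 n57291 = n58454 := rfl
theorem F261539 : act 0 n58454 = n57683 := d3_1 D58454 (iv D57683) (iv F256781)
theorem F261540 : act 1 n58454 = n57698 := d11_1 D58454 (iv D57698) (iv F256782)
theorem F261541 : act 3 n58454 = n57292 := d24_1 D58454 (iv D57292) (iv D56065) (iv F251320) D57291
theorem F261542 : act 5 n58454 = n58206 := d30_2 (iv F256783) D58454 (iv D58206) F255701 (iv F253778)
theorem F261543 : act 6 n58454 = n57651 := d31_2 (iv F256784) D58454 (iv D57651)
theorem F261544 : act 9 n58454 = n57667 := d34_2 (iv F256785) D58454 (iv D57667)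
def n58455 : Q := act 2 n57293
theorem D58455 : act 2 n57293 = n58455 := rfl
theorem F261545 : act 0 n58455 = n57666 := d1_1 D58455 (iv D57666) (iv F256793)
theorem F261546 : act 3 n58455 = n57676 := d17_2 D57293 D58455 (iv D57676) (iv D56506) (iv F251333)
theorem F261547 : act 5 n58455 = n57294 := d19_2 (iv F256795) D58455 (iv D57294)
theorem F261548 : act 6 n58455 = n57637 := d20_2 (iv F256796) D58455 (iv D57637)
theorem F261549 : act 7 n58455 = n58159 := d21_2 (iv F256797) D58455 (iv D58159)
theorem F261550 : act 8 n58455 = n58152 := d22_2 (iv F256798) D58455 (iv D58152)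
theorem F261551 : act 9 n58455 = n57682 := d23_2 (iv F256799) D58455 (iv D57682)
def n58456 : Q := act 4 n57293
theorem D58456 : act 4 n57293 = n58456 := rfl
theorem F261552 : act 0 n58456 = n57667 := d3_1 D58456 (iv D57667) (iv F256793)
theorem F261553 : act 1 n58456 = n57313 := d11_1 D58456 (iv D57313) (iv F256794)
theorem F261554 : act 3 n58456 = n57295 := d24_1 D58456 (iv D57295) (iv D56069) (iv F251334) D57293
theorem F261555 : act 5 n58456 = n57407 := d30_2 (iv F256795) D58456 (iv D57407) F252011 (iv F251341)
theorem F261556 : act 6 n58456 = n57638 := d31_2 (iv F256796) D58456 (iv D57638)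
theorem F261557 : act 7 n58456 = n58160 := d32_2 (iv F256797) D58456 (iv D58160)
theorem F261558 : act 8 n58456 = n58153 := d33_2 (iv F256798) D58456 (iv D58153)
theorem F261559 : act 9 n58456 = n57683 := d34_2 (iv F256799) D58456 (iv D57683)
def n58457 : Q := act 1 n57294
theorem D58457 : act 1 n57294 = n58457 := rfl
theorem F261560 : act 2 n58457 = n57314 := d9_2 D57294 D58457 (iv D57314) (iv D56088) (iv F251340)
theorem F261561 : act 4 n58457 = n58087 := d11_2 (iv F256801) D58457 (iv D58087)
theorem F261562 : act 6 n58457 = n57953 := d13_2 (iv F256802) D58457 (iv D57953)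
def n58458 : Q := act 3 n57296
theorem D58458 : act 3 n57296 = n58458 := rfl
theorem F261563 : act 0 n58458 = n57335 := d2_1 D58458 (iv D57335) (iv F256811)
theorem F261564 : act 1 n58458 = n57681 := d10_1 D58458 (iv D57681) (iv F256812)
theorem F261565 : act 5 n58458 = n57297 := d25_2 (iv F256815) D58458 (iv D57297)
theorem F261566 : act 6 n58458 = n58203 := d26_2 (iv F256816) D58458 (iv D58203)
theorem F261567 : act 7 n58458 = n58140 := d27_2 (iv F256817) D58458 (iv D58140)
theorem F261568 : act 8 n58458 = n57302 := d28_2 D57296 D58458 (iv D57302) (iv D56077) (iv F251370)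
theorem F261569 : act 9 n58458 = n57929 := d29_2 (iv F256818) D58458 (iv D57929)
def n58459 : Q := act 2 n57297
theorem D58459 : act 2 n57297 = n58459 := rfl
theorem F261570 : act 0 n58459 = n57336 := d1_1 D58459 (iv D57336) (iv F256819)
theorem F261571 : act 3 n58459 = n58073 := d17_2 D57297 D58459 (iv D58073) (iv D56893) (iv F251377)
theorem F261572 : act 4 n58459 = n58012 := d18_2 (iv F256821) D58459 (iv D58012)
theorem F261573 : act 6 n58459 = n57943 := d20_2 (iv F256822) D58459 (iv D57943)
theorem F261574 : act 8 n58459 = n57303 := d22_2 (iv F256823) D58459 (iv D57303)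
theorem F261575 : act 9 n58459 = n57930 := d23_2 (iv F256824) D58459 (iv D57930)
def n58460 : Q := act 2 n57298
theorem D58460 : act 2 n57298 = n58460 := rfl
theorem F261576 : act 0 n58460 = n57347 := d1_1 D58460 (iv D57347) (iv F256825)
theorem F261577 : act 3 n58460 = n58312 := d17_2 D57298 D58460 (iv D58312) (iv D57134) (iv F251382)
theorem F261578 : act 4 n58460 = n58275 := d18_2 (iv F256826) D58460 (iv D58275)
theorem F261579 : act 5 n58460 = n58165 := d19_2 (iv F256827) D58460 (iv D58165)
theorem F261580 : act 7 n58460 = n57303 := d21_2 (iv F256828) D58460 (iv D57303)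
theorem F261581 : act 9 n58460 = n57307 := d23_2 (iv F256829) D58460 (iv D57307)
def n58461 : Q := act 3 n57299
theorem D58461 : act 3 n57299 = n58461 := rfl
theorem F261582 : act 0 n58461 = n57353 := d2_1 D58461 (iv D57353) (iv F256830)
theorem F261583 : act 1 n58461 = n57721 := d10_1 D58461 (iv D57721) (iv F256831)
theorem F261584 : act 5 n58461 = n57718 := d25_2 (iv F256834) D58461 (iv D57718)
theorem F261585 : act 6 n58461 = n57954 := d26_2 (iv F256835) D58461 (iv D57954)
theorem F261586 : act 7 n58461 = n58264 := d27_2 (iv F256836) D58461 (iv D58264)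
theorem F261587 : act 8 n58461 = n57300 := d28_2 D57299 D58461 (iv D57300) (iv D56075) (iv F251390)
theorem F261588 : act 9 n58461 = n58005 := d29_2 (iv F256837) D58461 (iv D58005)
def n58462 : Q := act 2 n57300
theorem D58462 : act 2 n57300 = n58462 := rfl
theorem F261589 : act 0 n58462 = n57355 := d1_1 D58462 (iv D57355) (iv F256838)
theorem F261590 : act 3 n58462 = n57303 := d17_2 D57300 D58462 (iv D57303) (iv D56078) (iv F251397)
theorem F261591 : act 5 n58462 = n57719 := d19_2 (iv F256840) D58462 (iv D57719)
theorem F261592 : act 6 n58462 = n57955 := d20_2 (iv F256841) D58462 (iv D57955)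
theorem F261593 : act 7 n58462 = n58312 := d21_2 (iv F256842) D58462 (iv D58312)
theorem F261594 : act 9 n58462 = n57308 := d23_2 (iv F256843) D58462 (iv D57308)
def n58463 : Q := act 4 n57300
theorem D58463 : act 4 n57300 = n58463 := rfl
theorem F261595 : act 0 n58463 = n57356 := d3_1 D58463 (iv D57356) (iv F256838)
theorem F261596 : act 1 n58463 = n57725 := d11_1 D58463 (iv D57725) (iv F256839)
theorem F261597 : act 3 n58463 = n57301 := d24_1 D58463 (iv D57301) (iv D56076) (iv F251398) D57300
theorem F261598 : act 5 n58463 = n58260 := d30_2 (iv F256840) D58463 (iv D58260) F255805 (iv F253978)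
theorem F261599 : act 6 n58463 = n57956 := d31_2 (iv F256841) D58463 (iv D57956)
theorem F261600 : act 7 n58463 = n58313 := d32_2 (iv F256842) D58463 (iv D58313)
theorem F261601 : act 9 n58463 = n57309 := d34_2 (iv F256843) D58463 (iv D57309)
def n58464 : Q := act 2 n57302
theorem D58464 : act 2 n57302 = n58464 := rfl
theorem F261602 : act 0 n58464 = n57360 := d1_1 D58464 (iv D57360) (iv F256852)
theorem F261603 : act 3 n58464 = n57719 := d17_2 D57302 D58464 (iv D57719) (iv D56548) (iv F251413)
theorem F261604 : act 5 n58464 = n57303 := d19_2 (iv F256854) D58464 (iv D57303)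
theorem F261605 : act 6 n58464 = n58205 := d20_2 (iv F256855) D58464 (iv D58205)
theorem F261606 : act 7 n58464 = n58165 := d21_2 (iv F256856) D58464 (iv D58165)
theorem F261607 : act 9 n58464 = n57312 := d23_2 (iv F256857) D58464 (iv D57312)
def n58465 : Q := act 4 n57302
theorem D58465 : act 4 n57302 = n58465 := rfl
theorem F261608 : act 0 n58465 = n57361 := d3_1 D58465 (iv D57361) (iv F256852)
theorem F261609 : act 1 n58465 = n57683 := d11_1 D58465 (iv D57683) (iv F256853)
theorem F261610 : act 3 n58465 = n57304 := d24_1 D58465 (iv D57304) (iv D56079) (iv F251414) D57302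
theorem F261611 : act 5 n58465 = n57793 := d30_2 (iv F256854) D58465 (iv D57793) F254302 (iv F251420)
theorem F261612 : act 6 n58465 = n58206 := d31_2 (iv F256855) D58465 (iv D58206)
theorem F261613 : act 7 n58465 = n58166 := d32_2 (iv F256856) D58465 (iv D58166)
theorem F261614 : act 9 n58465 = n57313 := d34_2 (iv F256857) D58465 (iv D57313)
def n58466 : Q := act 1 n57303
theorem D58466 : act 1 n57303 = n58466 := rfl
theorem F261615 : act 4 n58466 = n58276 := d11_2 (iv F256859) D58466 (iv D58276)
theorem F261616 : act 6 n58466 = n57957 := d13_2 (iv F256860) D58466 (iv D57957)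
theorem F261617 : act 9 n58466 = n57314 := d16_2 (iv F256861) D58466 (iv D57314)
def n58467 : Q := act 3 n57305
theorem D58467 : act 3 n57305 = n58467 := rfl
theorem F261618 : act 0 n58467 = n57372 := d2_1 D58467 (iv D57372) (iv F256870)
theorem F261619 : act 5 n58467 = n57306 := d25_2 (iv F256873) D58467 (iv D57306)
theorem F261620 : act 6 n58467 = n57594 := d26_2 (iv F256874) D58467 (iv D57594)
theorem F261621 : act 7 n58467 = n57962 := d27_2 (iv F256875) D58467 (iv D57962)
theorem F261622 : act 8 n58467 = n57598 := d28_2 D57305 D58467 (iv D57598) (iv D56421) (iv F251433)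
def n58468 : Q := act 2 n57306
theorem D58468 : act 2 n57306 = n58468 := rfl
theorem F261623 : act 0 n58468 = n57373 := d1_1 D58468 (iv D57373) (iv F256876)
theorem F261624 : act 3 n58468 = n58310 := d17_2 D57306 D58468 (iv D58310) (iv D57133) (iv F251439)
theorem F261625 : act 4 n58468 = n58299 := d18_2 (iv F256877) D58468 (iv D58299)
theorem F261626 : act 6 n58468 = n57307 := d20_2 (iv F256878) D58468 (iv D57307)
theorem F261627 : act 7 n58468 = n57963 := d21_2 (iv F256879) D58468 (iv D57963)
theorem F261628 : act 8 n58468 = n58169 := d22_2 (iv F256880) D58468 (iv D58169)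
def n58469 : Q := act 1 n57307
theorem D58469 : act 1 n57307 = n58469 := rfl
theorem F261629 : act 3 n58469 = n58314 := d10_2 (iv F256882) D58469 (iv D58314)
theorem F261630 : act 4 n58469 = n58328 := d11_2 (iv F256883) D58469 (iv D58328)
theorem F261631 : act 5 n58469 = n58167 := d12_2 (iv F256884) D58469 (iv D58167)
theorem F261632 : act 7 n58469 = n57314 := d14_2 (iv F256885) D58469 (iv D57314)
theorem F261633 : act 8 n58469 = n58170 := d15_2 (iv F256886) D58469 (iv D58170)
def n58470 : Q := act 1 n57308
theorem D58470 : act 1 n57308 = n58470 := rfl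
theorem F261634 : act 2 n58470 = n58327 := d9_2 D57308 D58470 F260787 F255936 (iv F251449)
theorem F261635 : act 3 n58470 = n57314 := d10_2 (iv F256888) D58470 (iv D57314)
theorem F261636 : act 5 n58470 = n58291 := d12_2 (iv F256889) D58470 (iv D58291)
theorem F261637 : act 6 n58470 = n57983 := d13_2 (iv F256890) D58470 (iv D57983)
theorem F261638 : act 7 n58470 = n58314 := d14_2 (iv F256891) D58470 (iv D58314)
theorem F261639 : act 8 n58470 = n58292 := d15_2 (iv F256892) D58470 (iv D58292)
def n58471 : Q := act 4 n57308
theorem D58471 : act 4 n57308 = n58471 := rfl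
theorem F261640 : act 0 n58471 = n57402 := d3_1 D58471 (iv D57402) (iv F256887)
theorem F261641 : act 2 n58471 = n57309 := d18_1 D58471 (iv D57309) D57308
theorem F261642 : act 3 n58471 = n58321 := d24_1 D58471 (iv D58321) F255925 (iv F251481) (iv F256888)
theorem F261643 : act 5 n58471 = n58307 := d30_2 (iv F256889) D58471 (iv D58307) F255907 (iv F255876)
theorem F261644 : act 6 n58471 = n57984 := d31_2 (iv F256890) D58471 (iv D57984)
theorem F261645 : act 7 n58471 = n58315 := d32_2 (iv F256891) D58471 (iv D58315)
theorem F261646 : act 8 n58471 = n58293 := d33_2 (iv F256892) D58471 (iv D58293)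
def n58472 : Q := act 3 n57310
theorem D58472 : act 3 n57310 = n58472 := rfl
theorem F261647 : act 0 n58472 = n57405 := d2_1 D58472 (iv D57405) (iv F256900)
theorem F261648 : act 1 n58472 = n57470 := d10_1 D58472 (iv D57470) (iv F256901)
theorem F261649 : act 5 n58472 = n57631 := d25_2 (iv F256904) D58472 (iv D57631)
theorem F261650 : act 6 n58472 = n57577 := d26_2 (iv F256905) D58472 (iv D57577)
theorem F261651 : act 7 n58472 = n57311 := d27_2 (iv F256906) D58472 (iv D57311)
theorem F261652 : act 8 n58472 = n57468 := d28_2 D57310 D58472 (iv D57468) (iv D56281) (iv F251464)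
theorem F261653 : act 9 n58472 = n58193 := d29_2 (iv F256907) D58472 (iv D58193)
def n58473 : Q := act 2 n57311
theorem D58473 : act 2 n57311 = n58473 := rfl
theorem F261654 : act 0 n58473 = n57406 := d1_1 D58473 (iv D57406) (iv F256908)
theorem F261655 : act 3 n58473 = n57847 := d17_2 D57311 D58473 F259456 F254522 (iv F251471)
theorem F261656 : act 5 n58473 = n57634 := d19_2 (iv F256910) D58473 (iv D57634)
theorem F261657 : act 6 n58473 = n57312 := d20_2 (iv F256911) D58473 (iv D57312)
theorem F261658 : act 8 n58473 = n58147 := d22_2 (iv F256912) D58473 (iv D58147)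
theorem F261659 : act 9 n58473 = n58205 := d23_2 (iv F256913) D58473 (iv D58205)
def n58474 : Q := act 4 n57311
theorem D58474 : act 4 n57311 = n58474 := rfl
theorem F261660 : act 0 n58474 = n57407 := d3_1 D58474 (iv D57407) (iv F256908)
theorem F261661 : act 1 n58474 = n57638 := d11_1 D58474 (iv D57638) (iv F256909)
theorem F261662 : act 3 n58474 = n57316 := d24_1 D58474 (iv D57316) (iv D56090) (iv F251472) D57311
theorem F261663 : act 5 n58474 = n57667 := d30_2 (iv F256910) D58474 (iv D57667) F253733 (iv F253574)
theorem F261664 : act 6 n58474 = n57313 := d31_2 (iv F256911) D58474 (iv D57313)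
theorem F261665 : act 8 n58474 = n58148 := d33_2 (iv F256912) D58474 (iv D58148)
theorem F261666 : act 9 n58474 = n58206 := d34_2 (iv F256913) D58474 (iv D58206)
def n58475 : Q := act 1 n57312
theorem D58475 : act 1 n57312 = n58475 := rfl
theorem F261667 : act 3 n58475 = n58291 := d10_2 (iv F256915) D58475 (iv D58291)
theorem F261668 : act 5 n58475 = n57314 := d12_2 (iv F256916) D58475 (iv D57314)
theorem F261669 : act 7 n58475 = n58167 := d14_2 (iv F256917) D58475 (iv D58167)
theorem F261670 : act 8 n58475 = n58154 := d15_2 (iv F256918) D58475 (iv D58154)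
def n58476 : Q := act 4 n57312
theorem D58476 : act 4 n57312 = n58476 := rfl
theorem F261671 : act 0 n58476 = n57409 := d3_1 D58476 (iv D57409) (iv F256914)
theorem F261672 : act 2 n58476 = n57313 := d18_1 D58476 (iv D57313) D57312
theorem F261673 : act 3 n58476 = n58068 := d24_1 D58476 (iv D58068) F255353 (iv F255876) (iv F256915)
theorem F261674 : act 5 n58476 = n57871 := d30_2 (iv F256916) D58476 (iv D57871) F254573 (iv F251481)
theorem F261675 : act 7 n58476 = n58168 := d32_2 (iv F256917) D58476 (iv D58168)
theorem F261676 : act 8 n58476 = n58155 := d33_2 (iv F256918) D58476 (iv D58155)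
def n58477 : Q := act 0 n57314
theorem D58477 : act 0 n57314 = n58477 := rfl
theorem F261677 : act 1 n58477 = n57410 := d0_2 D57314 D58477 (iv D57410) (iv D56183) (iv F251480)
theorem F261678 : act 4 n58477 = n58329 := d3_2 (iv F256924) D58477 (iv D58329)
theorem F261679 : act 6 n58477 = n57987 := d5_2 (iv F256925) D58477 (iv D57987)
def n58478 : Q := act 4 n57315
theorem D58478 : act 4 n57315 = n58478 := rfl
theorem F261680 : act 0 n58478 = n57417 := d3_1 D58478 (iv D57417) (iv F256926)
theorem F261681 : act 1 n58478 = n57480 := d11_1 D58478 (iv D57480) (iv F256927)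
theorem F261682 : act 2 n58478 = n57377 := d18_1 D58478 (iv D57377) (iv F256928)
theorem F261683 : act 5 n58478 = n57671 := d30_2 (iv F256929) D58478 (iv D57671) F253746 (iv F251505)
theorem F261684 : act 6 n58478 = n57622 := d31_2 (iv F256930) D58478 (iv D57622)
theorem F261685 : act 7 n58478 = n57316 := d32_2 (iv F256931) D58478 (iv D57316)
theorem F261686 : act 8 n58478 = n57317 := d33_2 (iv F256932) D58478 (iv D57317)
theorem F261687 : act 9 n58478 = n58215 := d34_2 (iv F256933) D58478 (iv D58215)
def n58479 : Q := act 8 n57318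
theorem D58479 : act 8 n57318 = n58479 := rfl
theorem F261688 : act 0 n58479 = n57538 := d7_1 D58479 (iv D57538) (iv F256949)
theorem F261689 : act 1 n58479 = n57322 := d15_1 D58479 (iv D57322) (iv F256950)
theorem F261690 : act 2 n58479 = n57743 := d22_1 D58479 (iv D57743) (iv F256951)
theorem F261691 : act 4 n58479 = n57319 := d33_1 D58479 (iv D57319) (iv F256953)
theorem F261692 : act 5 n58479 = n58009 := d37_1 D58479 (iv D58009) (iv F256954)
theorem F261693 : act 6 n58479 = n57756 := d40_1 D58479 (iv D57756) (iv F256955)
theorem F261694 : act 7 n58479 = n57329 := d42_1 D58479 (iv D57329) (iv F256956)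
theorem F261695 : act 9 n58479 = n57749 := d44_2 D57318 D58479 (iv D57749) (iv D56582) (iv F251529)
def n58480 : Q := act 3 n57319
theorem D58480 : act 3 n57319 = n58480 := rfl
theorem F261696 : act 0 n58480 = n57539 := d2_1 D58480 (iv D57539) (iv F256957)
theorem F261697 : act 1 n58480 = n57323 := d10_1 D58480 (iv D57323) (iv F256958)
theorem F261698 : act 5 n58480 = n58480 := d25_2 F256960 D58480 (iv D58480)
theorem F261699 : act 6 n58480 = n58089 := d26_2 (iv F256961) D58480 (iv D58089)
theorem F261700 : act 7 n58480 = n57330 := d27_2 (iv F256962) D58480 (iv D57330)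
theorem F261701 : act 8 n58480 = n58480 := d28_2 D57319 D58480 (iv D58480) (iv D57319) F251535
theorem F261702 : act 9 n58480 = n57750 := d29_2 (iv F256963) D58480 (iv D57750)
def n58481 : Q := act 8 n57320
theorem D58481 : act 8 n57320 = n58481 := rfl
theorem F261703 : act 0 n58481 = n58016 := d7_1 D58481 (iv D58016) (iv F256964)
theorem F261704 : act 1 n58481 = n57759 := d15_1 D58481 (iv D57759) (iv F256965)
theorem F261705 : act 2 n58481 = n57342 := d22_1 D58481 (iv D57342) (iv F256966)
theorem F261706 : act 4 n58481 = n58481 := d33_1 D58481 (iv D58481) F256968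
theorem F261707 : act 5 n58481 = n57911 := d37_1 D58481 F259681 (iv F256969)
theorem F261708 : act 6 n58481 = n57752 := d40_1 D58481 (iv D57752) (iv F256970)
theorem F261709 : act 7 n58481 = n57331 := d42_1 D58481 (iv D57331) (iv F256971)
theorem F261710 : act 9 n58481 = n57913 := d44_2 D57320 D58481 F259692 F254756 (iv F251545)
def n58482 : Q := act 8 n57321
theorem D58482 : act 8 n57321 = n58482 := rfl
theorem F261711 : act 0 n58482 = n58045 := d7_1 D58482 (iv D58045) (iv F256972)
theorem F261712 : act 1 n58482 = n58009 := d15_1 D58482 (iv D58009) (iv F256973)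
theorem F261713 : act 2 n58482 = n57325 := d22_1 D58482 (iv D57325) (iv F256974)
theorem F261714 : act 4 n58482 = n58482 := d33_1 D58482 (iv D58482) F256976
theorem F261715 : act 5 n58482 = n57322 := d37_1 D58482 (iv D57322) (iv F256977)
theorem F261716 : act 6 n58482 = n58013 := d40_1 D58482 (iv D58013) (iv F256978)
theorem F261717 : act 7 n58482 = n57332 := d42_1 D58482 (iv D57332) (iv F256979)
theorem F261718 : act 9 n58482 = n57966 := d44_2 D57321 D58482 (iv D57966) (iv D56794) (iv F251554)
def n58483 : Q := act 3 n57322
theorem D58483 : act 3 n57322 = n58483 := rfl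
theorem F261719 : act 0 n58483 = n58047 := d2_1 D58483 (iv D58047) (iv F256980)
theorem F261720 : act 6 n58483 = n58269 := d26_2 (iv F256983) D58483 (iv D58269)
theorem F261721 : act 7 n58483 = n57333 := d27_2 (iv F256984) D58483 (iv D57333)
theorem F261722 : act 9 n58483 = n57967 := d29_2 (iv F256985) D58483 (iv D57967)
def n58484 : Q := act 4 n57323
theorem D58484 : act 4 n57323 = n58484 := rfl
theorem F261723 : act 0 n58484 = n58093 := d3_1 D58484 (iv D58093) (iv F256986)
theorem F261724 : act 2 n58484 = n58335 := d18_1 D58484 (iv D58335) (iv F256987)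
theorem F261725 : act 6 n58484 = n58279 := d31_2 (iv F256989) D58484 (iv D58279)
theorem F261726 : act 7 n58484 = n57334 := d32_2 (iv F256990) D58484 (iv D57334)
theorem F261727 : act 8 n58484 = n58484 := d33_2 F256991 D58484 (iv D58484)
theorem F261728 : act 9 n58484 = n57994 := d34_2 (iv F256992) D58484 (iv D57994)
def n58485 : Q := act 8 n57324
theorem D58485 : act 8 n57324 = n58485 := rfl
theorem F261729 : act 0 n58485 = n57557 := d7_1 D58485 (iv D57557) (iv F256993)
theorem F261730 : act 1 n58485 = n57746 := d15_1 D58485 (iv D57746) (iv F256994)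
theorem F261731 : act 2 n58485 = n58013 := d22_1 D58485 (iv D58013) (iv F256995)
theorem F261732 : act 4 n58485 = n58485 := d33_1 D58485 (iv D58485) F256997
theorem F261733 : act 5 n58485 = n57776 := d37_1 D58485 (iv D57776) (iv F256998)
theorem F261734 : act 6 n58485 = n57325 := d40_1 D58485 (iv D57325) (iv F256999)
theorem F261735 : act 7 n58485 = n57769 := d42_1 D58485 (iv D57769) (iv F257000)
theorem F261736 : act 9 n58485 = n57500 := d44_2 D57324 D58485 (iv D57500) (iv D56321) (iv F251573)
def n58486 : Q := act 3 n57325
theorem D58486 : act 3 n57325 = n58486 := rfl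
theorem F261737 : act 0 n58486 = n58140 := d2_1 D58486 (iv D58140) (iv F257001)
theorem F261738 : act 1 n58486 = n57747 := d10_1 D58486 (iv D57747) (iv F257002)
theorem F261739 : act 5 n58486 = n57326 := d25_2 (iv F257004) D58486 (iv D57326)
theorem F261740 : act 7 n58486 = n57335 := d27_2 (iv F257005) D58486 (iv D57335)
theorem F261741 : act 8 n58486 = n57346 := d28_2 D57325 D58486 (iv D57346) (iv D56123) (iv F251576)
theorem F261742 : act 9 n58486 = n58127 := d29_2 (iv F257006) D58486 (iv D58127)
def n58487 : Q := act 2 n57326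
theorem D58487 : act 2 n57326 = n58487 := rfl
theorem F261743 : act 6 n58487 = n58275 := d20_2 (iv F257008) D58487 (iv D58275)
theorem F261744 : act 7 n58487 = n57336 := d21_2 (iv F257009) D58487 (iv D57336)
theorem F261745 : act 8 n58487 = n57347 := d22_2 (iv F257010) D58487 (iv D57347)
theorem F261746 : act 9 n58487 = n58299 := d23_2 (iv F257011) D58487 (iv D58299)
def n58488 : Q := act 8 n57327
theorem D58488 : act 8 n57327 = n58488 := rfl
theorem F261747 : act 0 n58488 = n57329 := d7_1 D58488 (iv D57329) (iv F257012)
theorem F261748 : act 1 n58488 = n57534 := d15_1 D58488 (iv D57534) (iv F257013)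
theorem F261749 : act 2 n58488 = n57749 := d22_1 D58488 (iv D57749) (iv F257014)
theorem F261750 : act 4 n58488 = n57328 := d33_1 D58488 (iv D57328) (iv F257016)
theorem F261751 : act 5 n58488 = n58262 := d37_1 D58488 (iv D58262) (iv F257017)
theorem F261752 : act 6 n58488 = n57783 := d40_1 D58488 (iv D57783) (iv F257018)
theorem F261753 : act 7 n58488 = n57538 := d42_1 D58488 (iv D57538) (iv F257019)
theorem F261754 : act 9 n58488 = n57743 := d44_2 D57327 D58488 (iv D57743) (iv D56574) (iv F251590)
def n58489 : Q := act 3 n57328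
theorem D58489 : act 3 n57328 = n58489 := rfl
theorem F261755 : act 0 n58489 = n57330 := d2_1 D58489 (iv D57330) (iv F257020)
theorem F261756 : act 1 n58489 = n57535 := d10_1 D58489 (iv D57535) (iv F257021)
theorem F261757 : act 5 n58489 = n58489 := d25_2 F257023 D58489 (iv D58489)
theorem F261758 : act 6 n58489 = n57363 := d26_2 (iv F257024) D58489 F257203
theorem F261759 : act 7 n58489 = n57539 := d27_2 (iv F257025) D58489 (iv D57539)
theorem F261760 : act 8 n58489 = n58489 := d28_2 D57328 D58489 (iv D58489) (iv D57328) F251596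
theorem F261761 : act 9 n58489 = n57412 := d29_2 (iv F257026) D58489 F257454
def n58490 : Q := act 3 n57329
theorem D58490 : act 3 n57329 = n58490 := rfl
theorem F261762 : act 1 n58490 = n57333 := d10_1 D58490 (iv D57333) (iv F257027)
theorem F261763 : act 6 n58490 = n58002 := d26_2 (iv F257030) D58490 (iv D58002)
theorem F261764 : act 9 n58490 = n57974 := d29_2 (iv F257031) D58490 (iv D57974)
def n58491 : Q := act 2 n57330
theorem D58491 : act 2 n57330 = n58491 := rfl
theorem F261765 : act 3 n58491 = n57754 := d17_2 D57330 D58491 (iv D57754) (iv D56587) (iv F251605)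
theorem F261766 : act 5 n58491 = n58491 := d19_2 F257033 D58491 (iv D58491)
theorem F261767 : act 6 n58491 = n58003 := d20_2 (iv F257034) D58491 (iv D58003)
theorem F261768 : act 8 n58491 = n58491 := d22_2 F257035 D58491 (iv D58491)
theorem F261769 : act 9 n58491 = n57997 := d23_2 (iv F257036) D58491 (iv D57997)
def n58492 : Q := act 4 n57330
theorem D58492 : act 4 n57330 = n58492 := rfl
theorem F261770 : act 1 n58492 = n57334 := d11_1 D58492 (iv D57334) (iv F257032)
theorem F261771 : act 6 n58492 = n58004 := d31_2 (iv F257034) D58492 (iv D58004)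
theorem F261772 : act 8 n58492 = n58492 := d33_2 F257035 D58492 (iv D58492)
theorem F261773 : act 9 n58492 = n57998 := d34_2 (iv F257036) D58492 (iv D57998)
def n58493 : Q := act 3 n57331
theorem D58493 : act 3 n57331 = n58493 := rfl
theorem F261774 : act 0 n58493 = n58026 := d2_1 D58493 (iv D58026) (iv F257037)
theorem F261775 : act 6 n58493 = n58005 := d26_2 (iv F257040) D58493 (iv D58005)
theorem F261776 : act 8 n58493 = n57333 := d28_2 D57331 D58493 (iv D57333) (iv D56110) (iv F251611)
theorem F261777 : act 9 n58493 = n57954 := d29_2 (iv F257041) D58493 (iv D57954)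
def n58494 : Q := act 3 n57332
theorem D58494 : act 3 n57332 = n58494 := rfl
theorem F261778 : act 0 n58494 = n58070 := d2_1 D58494 (iv D58070) (iv F257042)
theorem F261779 : act 5 n58494 = n57333 := d25_2 (iv F257045) D58494 (iv D57333)
theorem F261780 : act 6 n58494 = n58246 := d26_2 (iv F257046) D58494 (iv D58246)
theorem F261781 : act 9 n58494 = n57978 := d29_2 (iv F257047) D58494 (iv D57978)
def n58495 : Q := act 2 n57333
theorem D58495 : act 2 n57333 = n58495 := rfl
theorem F261782 : act 0 n58495 = n58073 := d1_1 D58495 (iv D58073) (iv F257048)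
theorem F261783 : act 3 n58495 = n57336 := d17_2 D57333 D58495 (iv D57336) (iv D56113) (iv F251620)
theorem F261784 : act 6 n58495 = n58006 := d20_2 (iv F257049) D58495 (iv D58006)
theorem F261785 : act 9 n58495 = n57979 := d23_2 (iv F257050) D58495 (iv D57979)
def n58496 : Q := act 4 n57333
theorem D58496 : act 4 n57333 = n58496 := rfl
theorem F261786 : act 0 n58496 = n58074 := d3_1 D58496 (iv D58074) (iv F257048)
theorem F261787 : act 3 n58496 = n57334 := d24_1 D58496 (iv D57334) (iv D56111) (iv F251621) D57333
theorem F261788 : act 6 n58496 = n58007 := d31_2 (iv F257049) D58496 (iv D58007)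
theorem F261789 : act 9 n58496 = n57980 := d34_2 (iv F257050) D58496 (iv D57980)
def n58497 : Q := act 5 n57334
theorem D58497 : act 5 n57334 = n58497 := rfl
theorem F261790 : act 0 n58497 = n58097 := d4_1 D58497 (iv D58097) (iv F257051)
theorem F261791 : act 4 n58497 = n58497 := d30_1 D58497 (iv D58497) (iv D57334) F251625 D57334
theorem F261792 : act 8 n58497 = n58497 := d37_2 F257053 D58497 (iv D58497)
theorem F261793 : act 9 n58497 = n58001 := d38_2 (iv F257054) D58497 (iv D58001)
def n58498 : Q := act 2 n57335
theorem D58498 : act 2 n57335 = n58498 := rfl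
theorem F261794 : act 5 n58498 = n57336 := d19_2 (iv F257056) D58498 (iv D57336)
theorem F261795 : act 6 n58498 = n58248 := d20_2 (iv F257057) D58498 (iv D58248)
theorem F261796 : act 8 n58498 = n57360 := d22_2 (iv F257058) D58498 (iv D57360)
theorem F261797 : act 9 n58498 = n58283 := d23_2 (iv F257059) D58498 (iv D58283)
def n58499 : Q := act 4 n57335
theorem D58499 : act 4 n57335 = n58499 := rfl
theorem F261798 : act 1 n58499 = n57766 := d11_1 D58499 (iv D57766) (iv F257055)
theorem F261799 : act 3 n58499 = n58499 := d24_1 D58499 (iv D58499) (iv D57335) F251630 D57335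
theorem F261800 : act 6 n58499 = n58249 := d31_2 (iv F257057) D58499 (iv D58249)
theorem F261801 : act 8 n58499 = n57361 := d33_2 (iv F257058) D58499 (iv D57361)
theorem F261802 : act 9 n58499 = n58284 := d34_2 (iv F257059) D58499 (iv D58284)
def n58500 : Q := act 1 n57336
theorem D58500 : act 1 n57336 = n58500 := rfl
theorem F261803 : act 2 n58500 = n57767 := d9_2 D57336 D58500 (iv D57767) (iv D56597) (iv F251634)
theorem F261804 : act 6 n58500 = n58008 := d13_2 (iv F257060) D58500 (iv D58008)
theorem F261805 : act 8 n58500 = n57362 := d15_2 (iv F257061) D58500 (iv D57362)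
theorem F261806 : act 9 n58500 = n58300 := d16_2 (iv F257062) D58500 (iv D58300)
def n58501 : Q := act 8 n57337
theorem D58501 : act 8 n57337 = n58501 := rfl
theorem F261807 : act 0 n58501 = n57593 := d7_1 D58501 (iv D57593) (iv F257063)
theorem F261808 : act 1 n58501 = n57769 := d15_1 D58501 (iv D57769) (iv F257064)
theorem F261809 : act 2 n58501 = n57720 := d22_1 D58501 (iv D57720) (iv F257065)
theorem F261810 : act 4 n58501 = n58501 := d33_1 D58501 (iv D58501) F257067
theorem F261811 : act 5 n58501 = n57345 := d37_1 D58501 (iv D57345) (iv F257068)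
theorem F261812 : act 6 n58501 = n57338 := d40_1 D58501 (iv D57338) (iv F257069)
theorem F261813 : act 7 n58501 = n57746 := d42_1 D58501 (iv D57746) (iv F257070)
theorem F261814 : act 9 n58501 = n57371 := d44_2 D57337 D58501 (iv D57371) (iv D56150) (iv F251645)
def n58502 : Q := act 3 n57338
theorem D58502 : act 3 n57338 = n58502 := rfl
theorem F261815 : act 1 n58502 = n57770 := d10_1 D58502 (iv D57770) (iv F257071)
theorem F261816 : act 5 n58502 = n57339 := d25_2 (iv F257073) D58502 (iv D57339)
theorem F261817 : act 7 n58502 = n57764 := d27_2 (iv F257074) D58502 (iv D57764)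
theorem F261818 : act 8 n58502 = n57791 := d28_2 D57338 D58502 (iv D57791) (iv D56619) (iv F251647)
theorem F261819 : act 9 n58502 = n57372 := d29_2 (iv F257075) D58502 (iv D57372)
def n58503 : Q := act 2 n57339
theorem D58503 : act 2 n57339 = n58503 := rfl
theorem F261820 : act 6 n58503 = n57347 := d20_2 (iv F257077) D58503 (iv D57347)
theorem F261821 : act 7 n58503 = n58012 := d21_2 (iv F257078) D58503 (iv D58012)
theorem F261822 : act 8 n58503 = n58275 := d22_2 (iv F257079) D58503 (iv D58275)
theorem F261823 : act 9 n58503 = n57373 := d23_2 (iv F257080) D58503 (iv D57373)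
def n58504 : Q := act 3 n57340
theorem D58504 : act 3 n57340 = n58504 := rfl
theorem F261824 : act 0 n58504 = n57820 := d2_1 D58504 (iv D57820) (iv F257081)
theorem F261825 : act 1 n58504 = n57343 := d10_1 D58504 (iv D57343) (iv F257082)
theorem F261826 : act 5 n58504 = n57819 := d25_2 (iv F257085) D58504 (iv D57819)
theorem F261827 : act 7 n58504 = n57349 := d27_2 (iv F257086) D58504 (iv D57349)
theorem F261828 : act 8 n58504 = n58246 := d28_2 D57340 D58504 (iv D58246) (iv D57073) (iv F251659)
theorem F261829 : act 9 n58504 = n57376 := d29_2 (iv F257087) D58504 (iv D57376)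
def n58505 : Q := act 4 n57341
theorem D58505 : act 4 n57341 = n58505 := rfl
theorem F261830 : act 0 n58505 = n57875 := d3_1 D58505 (iv D57875) (iv F257088)
theorem F261831 : act 1 n58505 = n57344 := d11_1 D58505 (iv D57344) (iv F257089)
theorem F261832 : act 2 n58505 = n58215 := d18_1 D58505 (iv D58215) (iv F257090)
theorem F261833 : act 5 n58505 = n58092 := d30_2 (iv F257091) D58505 (iv D58092) F255416 (iv F251777)
theorem F261834 : act 7 n58505 = n57350 := d32_2 (iv F257092) D58505 (iv D57350)
theorem F261835 : act 8 n58505 = n58505 := d33_2 F257093 D58505 (iv D58505)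
theorem F261836 : act 9 n58505 = n57377 := d34_2 (iv F257094) D58505 (iv D57377)
def n58506 : Q := act 3 n57342
theorem D58506 : act 3 n57342 = n58506 := rfl
theorem F261837 : act 0 n58506 = n58264 := d2_1 D58506 (iv D58264) (iv F257095)
theorem F261838 : act 1 n58506 = n58246 := d10_1 D58506 (iv D58246) (iv F257096)
theorem F261839 : act 5 n58506 = n57855 := d25_2 (iv F257098) D58506 F259482
theorem F261840 : act 7 n58506 = n57353 := d27_2 (iv F257099) D58506 (iv D57353)
theorem F261841 : act 8 n58506 = n57343 := d28_2 D57342 D58506 (iv D57343) (iv D56120) (iv F251671)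
theorem F261842 : act 9 n58506 = n57858 := d29_2 (iv F257100) D58506 F259494
def n58507 : Q := act 2 n57343
theorem D58507 : act 2 n57343 = n58507 := rfl
theorem F261843 : act 0 n58507 = n58312 := d1_1 D58507 (iv D58312) (iv F257101)
theorem F261844 : act 3 n58507 = n57347 := d17_2 D57343 D58507 (iv D57347) (iv D56124) (iv F251676)
theorem F261845 : act 5 n58507 = n58231 := d19_2 (iv F257102) D58507 (iv D58231)
theorem F261846 : act 7 n58507 = n57355 := d21_2 (iv F257103) D58507 (iv D57355)
theorem F261847 : act 9 n58507 = n57378 := d23_2 (iv F257104) D58507 (iv D57378)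
def n58508 : Q := act 4 n57343
theorem D58508 : act 4 n57343 = n58508 := rfl
theorem F261848 : act 0 n58508 = n58313 := d3_1 D58508 (iv D58313) (iv F257101)
theorem F261849 : act 3 n58508 = n57344 := d24_1 D58508 (iv D57344) (iv D56121) (iv F251677) D57343
theorem F261850 : act 7 n58508 = n57356 := d32_2 (iv F257103) D58508 (iv D57356)
theorem F261851 : act 9 n58508 = n57379 := d34_2 (iv F257104) D58508 (iv D57379)
def n58509 : Q := act 5 n57344
theorem D58509 : act 5 n57344 = n58509 := rfl
theorem F261852 : act 0 n58509 = n58004 := d4_1 D58509 F260048 (iv F257105)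
theorem F261853 : act 1 n58509 = n58092 := d12_1 D58509 (iv F261833) F261831
theorem F261854 : act 4 n58509 = n57363 := d30_1 D58509 (iv D57363) (iv D56139) (iv F251682) D57344
theorem F261855 : act 7 n58509 = n57357 := d36_2 (iv F257106) D58509 (iv D57357)
theorem F261856 : act 8 n58509 = n58509 := d37_2 F257107 D58509 (iv D58509)
theorem F261857 : act 9 n58509 = n57380 := d38_2 (iv F257108) D58509 (iv D57380)
def n58510 : Q := act 3 n57345
theorem D58510 : act 3 n57345 = n58510 := rfl
theorem F261858 : act 0 n58510 = n57595 := d2_1 D58510 (iv D57595) (iv F257109)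
theorem F261859 : act 1 n58510 = n57777 := d10_1 D58510 (iv D57777) (iv F257110)
theorem F261860 : act 6 n58510 = n57346 := d26_2 (iv F257113) D58510 (iv D57346)
theorem F261861 : act 7 n58510 = n58256 := d27_2 (iv F257114) D58510 (iv D58256)
theorem F261862 : act 9 n58510 = n57382 := d29_2 (iv F257115) D58510 (iv D57382)
def n58511 : Q := act 2 n57346
theorem D58511 : act 2 n57346 = n58511 := rfl
theorem F261863 : act 0 n58511 = n58165 := d1_1 D58511 (iv D58165) (iv F257116)
theorem F261864 : act 3 n58511 = n58231 := d17_2 D57346 D58511 (iv D58231) (iv D57058) (iv F251694)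
theorem F261865 : act 5 n58511 = n57347 := d19_2 (iv F257118) D58511 (iv D57347)
theorem F261866 : act 7 n58511 = n57360 := d21_2 (iv F257119) D58511 (iv D57360)
theorem F261867 : act 9 n58511 = n57383 := d23_2 (iv F257120) D58511 (iv D57383)
def n58512 : Q := act 4 n57346
theorem D58512 : act 4 n57346 = n58512 := rfl
theorem F261868 : act 0 n58512 = n58166 := d3_1 D58512 (iv D58166) (iv F257116)
theorem F261869 : act 1 n58512 = n57779 := d11_1 D58512 (iv D57779) (iv F257117)
theorem F261870 : act 3 n58512 = n57366 := d24_1 D58512 (iv D57366) (iv D56141) (iv F251695) D57346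
theorem F261871 : act 7 n58512 = n57361 := d32_2 (iv F257119) D58512 (iv D57361)
theorem F261872 : act 9 n58512 = n57384 := d34_2 (iv F257120) D58512 (iv D57384)
def n58513 : Q := act 1 n57347
theorem D58513 : act 1 n57347 = n58513 := rfl
theorem F261873 : act 2 n58513 = n57780 := d9_2 D57347 D58513 (iv D57780) (iv D56609) (iv F251699)
theorem F261874 : act 7 n58513 = n57362 := d14_2 (iv F257121) D58513 (iv D57362)
theorem F261875 : act 9 n58513 = n57385 := d16_2 (iv F257122) D58513 (iv D57385)
def n58514 : Q := act 3 n57348
theorem D58514 : act 3 n57348 = n58514 := rfl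
theorem F261876 : act 0 n58514 = n57841 := d2_1 D58514 (iv D57841) (iv F257123)
theorem F261877 : act 1 n58514 = n57353 := d10_1 D58514 (iv D57353) (iv F257124)
theorem F261878 : act 5 n58514 = n57768 := d25_2 (iv F257127) D58514 (iv D57768)
theorem F261879 : act 6 n58514 = n58021 := d26_2 (iv F257128) D58514 (iv D58021)
theorem F261880 : act 7 n58514 = n58246 := d27_2 (iv F257129) D58514 (iv D58246)
theorem F261881 : act 8 n58514 = n57349 := d28_2 D57348 D58514 (iv D57349) (iv D56126) (iv F251705)
theorem F261882 : act 9 n58514 = n57811 := d29_2 (iv F257130) D58514 (iv D57811)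
def n58515 : Q := act 2 n57349
theorem D58515 : act 2 n57349 = n58515 := rfl
theorem F261883 : act 0 n58515 = n57844 := d1_1 D58515 (iv D57844) (iv F257131)
theorem F261884 : act 3 n58515 = n57782 := d17_2 D57349 D58515 (iv D57782) (iv D56611) (iv F251712)
theorem F261885 : act 5 n58515 = n57839 := d19_2 (iv F257133) D58515 (iv D57839)
theorem F261886 : act 6 n58515 = n58023 := d20_2 (iv F257134) D58515 (iv D58023)
theorem F261887 : act 9 n58515 = n57392 := d23_2 (iv F257135) D58515 (iv D57392)
def n58516 : Q := act 4 n57349
theorem D58516 : act 4 n57349 = n58516 := rfl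
theorem F261888 : act 0 n58516 = n57845 := d3_1 D58516 (iv D57845) (iv F257131)
theorem F261889 : act 1 n58516 = n57356 := d11_1 D58516 (iv D57356) (iv F257132)
theorem F261890 : act 3 n58516 = n57350 := d24_1 D58516 (iv D57350) (iv D56127) (iv F251713) D57349
theorem F261891 : act 5 n58516 = n58080 := d30_2 (iv F257133) D58516 (iv D58080) (iv F257407) F257406
theorem F261892 : act 6 n58516 = n58024 := d31_2 (iv F257134) D58516 (iv D58024)
theorem F261893 : act 9 n58516 = n57393 := d34_2 (iv F257135) D58516 (iv D57393)
def n58517 : Q := act 3 n57351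
theorem D58517 : act 3 n57351 = n58517 := rfl
theorem F261894 : act 0 n58517 = n57718 := d2_1 D58517 (iv D57718) (iv F257143)
theorem F261895 : act 1 n58517 = n57768 := d10_1 D58517 (iv D57768) (iv F257144)
theorem F261896 : act 4 n58517 = n57825 := d24_2 (iv F257145) D58517 (iv D57825) F254465 (iv F254074)
theorem F261897 : act 5 n58517 = n57353 := d25_2 (iv F257146) D58517 (iv D57353)
theorem F261898 : act 6 n58517 = n57772 := d26_2 (iv F257147) D58517 (iv D57772)
theorem F261899 : act 7 n58517 = n57855 := d27_2 (iv F257148) D58517 F259482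
theorem F261900 : act 8 n58517 = n57354 := d28_2 D57351 D58517 (iv D57354) (iv D56131) (iv F251726)
theorem F261901 : act 9 n58517 = n57808 := d29_2 (iv F257149) D58517 (iv D57808)
def n58518 : Q := act 3 n57352
theorem D58518 : act 3 n57352 = n58518 := rfl
theorem F261902 : act 0 n58518 = n58005 := d2_1 D58518 (iv D58005) (iv F257150)
theorem F261903 : act 1 n58518 = n57811 := d10_1 D58518 (iv D57811) (iv F257151)
theorem F261904 : act 5 n58518 = n57808 := d25_2 (iv F257154) D58518 (iv D57808)
theorem F261905 : act 6 n58518 = n58026 := d26_2 (iv F257155) D58518 (iv D58026)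
theorem F261906 : act 7 n58518 = n57858 := d27_2 (iv F257156) D58518 F259494
theorem F261907 : act 8 n58518 = n57395 := d28_2 D57352 D58518 (iv D57395) (iv D56171) (iv F251734)
theorem F261908 : act 9 n58518 = n57353 := d29_2 (iv F257157) D58518 (iv D57353)
def n58519 : Q := act 2 n57353
theorem D58519 : act 2 n57353 = n58519 := rfl
theorem F261909 : act 6 n58519 = n58027 := d20_2 (iv F257158) D58519 (iv D58027)
theorem F261910 : act 8 n58519 = n57355 := d22_2 (iv F257159) D58519 (iv D57355)
def n58520 : Q := act 4 n57353
theorem D58520 : act 4 n57353 = n58520 := rfl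
theorem F261911 : act 3 n58520 = n58520 := d24_1 D58520 (iv D58520) (iv D57353) F251739 D57353
theorem F261912 : act 6 n58520 = n58028 := d31_2 (iv F257158) D58520 (iv D58028)
theorem F261913 : act 8 n58520 = n57356 := d33_2 (iv F257159) D58520 (iv D57356)
def n58521 : Q := act 2 n57354
theorem D58521 : act 2 n57354 = n58521 := rfl
theorem F261914 : act 0 n58521 = n57719 := d1_1 D58521 (iv D57719) (iv F257160)
theorem F261915 : act 3 n58521 = n57360 := d17_2 D57354 D58521 (iv D57360) (iv D56136) (iv F251743)
theorem F261916 : act 4 n58521 = n58255 := d18_2 (iv F257162) D58521 (iv D58255)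
theorem F261917 : act 5 n58521 = n57355 := d19_2 (iv F257163) D58521 (iv D57355)
theorem F261918 : act 6 n58521 = n58228 := d20_2 (iv F257164) D58521 (iv D58228)
theorem F261919 : act 7 n58521 = n58231 := d21_2 (iv F257165) D58521 (iv D58231)
theorem F261920 : act 9 n58521 = n57400 := d23_2 (iv F257166) D58521 (iv D57400)
def n58522 : Q := act 1 n57355
theorem D58522 : act 1 n57355 = n58522 := rfl
theorem F261921 : act 3 n58522 = n57362 := d10_2 (iv F257167) D58522 (iv D57362)
theorem F261922 : act 6 n58522 = n58030 := d13_2 (iv F257168) D58522 (iv D58030)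
theorem F261923 : act 9 n58522 = n57401 := d16_2 (iv F257169) D58522 (iv D57401)
def n58523 : Q := act 4 n57355
theorem D58523 : act 4 n57355 = n58523 := rfl
theorem F261924 : act 2 n58523 = n57356 := d18_1 D58523 (iv D57356) D57355
theorem F261925 : act 6 n58523 = n58031 := d31_2 (iv F257168) D58523 (iv D58031)
theorem F261926 : act 9 n58523 = n57402 := d34_2 (iv F257169) D58523 (iv D57402)
def n58524 : Q := act 5 n57356
theorem D58524 : act 5 n57356 = n58524 := rfl
theorem F261927 : act 0 n58524 = n58260 := d4_1 D58524 (iv F261598) F261595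
theorem F261928 : act 1 n58524 = n58080 := d12_1 D58524 (iv F261891) F261889
theorem F261929 : act 3 n58524 = n57357 := d25_1 D58524 (iv D57357) (iv F257170)
theorem F261930 : act 4 n58524 = n58064 := d30_1 D58524 F260229 (iv F257162) F257163 D57356
theorem F261931 : act 9 n58524 = n57403 := d38_2 (iv F257172) D58524 (iv D57403)
theorem F261932 : act 6 n58066 = n58524 := d31_0 F261930 F260230 D58066
def n58525 : Q := act 3 n57358
theorem D58525 : act 3 n57358 = n58525 := rfl
theorem F261933 : act 0 n58525 = n58193 := d2_1 D58525 (iv D58193) (iv F257179)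
theorem F261934 : act 1 n58525 = n57791 := d10_1 D58525 (iv D57791) (iv F257180)
theorem F261935 : act 5 n58525 = n57742 := d25_2 (iv F257183) D58525 (iv D57742)
theorem F261936 : act 6 n58525 = n58256 := d26_2 (iv F257184) D58525 (iv D58256)
theorem F261937 : act 7 n58525 = n57359 := d27_2 (iv F257185) D58525 (iv D57359)
theorem F261938 : act 8 n58525 = n57770 := d28_2 D57358 D58525 (iv D57770) (iv D56600) (iv F251757)
theorem F261939 : act 9 n58525 = n57405 := d29_2 (iv F257186) D58525 (iv D57405)
def n58526 : Q := act 2 n57359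
theorem D58526 : act 2 n57359 = n58526 := rfl
theorem F261940 : act 0 n58526 = n58205 := d1_1 D58526 (iv D58205) (iv F257187)
theorem F261941 : act 3 n58526 = n58228 := d17_2 D57359 D58526 (iv D58228) (iv D57055) (iv F251764)
theorem F261942 : act 5 n58526 = n58032 := d19_2 (iv F257189) D58526 (iv D58032)
theorem F261943 : act 6 n58526 = n57360 := d20_2 (iv F257190) D58526 (iv D57360)
theorem F261944 : act 8 n58526 = n58248 := d22_2 (iv F257191) D58526 (iv D58248)
theorem F261945 : act 9 n58526 = n57406 := d23_2 (iv F257192) D58526 (iv D57406)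
def n58527 : Q := act 4 n57359
theorem D58527 : act 4 n57359 = n58527 := rfl
theorem F261946 : act 0 n58527 = n58206 := d3_1 D58527 (iv D58206) (iv F257187)
theorem F261947 : act 1 n58527 = n57793 := d11_1 D58527 (iv D57793) (iv F257188)
theorem F261948 : act 3 n58527 = n57368 := d24_1 D58527 (iv D57368) (iv D56145) (iv F251765) D57359
theorem F261949 : act 5 n58527 = n57683 := d30_2 (iv F257189) D58527 (iv D57683) (iv F256720) F256719
theorem F261950 : act 6 n58527 = n57361 := d31_2 (iv F257190) D58527 (iv D57361)
theorem F261951 : act 8 n58527 = n58249 := d33_2 (iv F257191) D58527 (iv D58249)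
theorem F261952 : act 9 n58527 = n57407 := d34_2 (iv F257192) D58527 (iv D57407)
def n58528 : Q := act 1 n57360
theorem D58528 : act 1 n57360 = n58528 := rfl
theorem F261953 : act 2 n58528 = n57794 := d9_2 D57360 D58528 (iv D57794) (iv D56621) (iv F251769)
theorem F261954 : act 5 n58528 = n57362 := d12_2 (iv F257193) D58528 (iv D57362)
theorem F261955 : act 9 n58528 = n57408 := d16_2 (iv F257194) D58528 (iv D57408)
def n58529 : Q := act 4 n57360
theorem D58529 : act 4 n57360 = n58529 := rfl
theorem F261956 : act 2 n58529 = n57361 := d18_1 D58529 (iv D57361) D57360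
theorem F261957 : act 9 n58529 = n57409 := d34_2 (iv F257194) D58529 (iv D57409)
def n58530 : Q := act 0 n57362
theorem D58530 : act 0 n57362 = n58530 := rfl
theorem F261958 : act 2 n58530 = n57796 := d1_2 (iv F257198) D58530 (iv D57796)
theorem F261959 : act 6 n58530 = n58034 := d5_2 (iv F257199) D58530 (iv D58034)
theorem F261960 : act 9 n58530 = n57410 := d8_2 (iv F257200) D58530 (iv D57410)
def n58531 : Q := act 4 n57364
theorem D58531 : act 4 n57364 = n58531 := rfl
theorem F261961 : act 0 n58531 = n57627 := d3_1 D58531 (iv D57627) (iv F257207)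
theorem F261962 : act 1 n58531 = n57800 := d11_1 D58531 (iv D57800) (iv F257208)
theorem F261963 : act 2 n58531 = n58333 := d18_1 D58531 (iv D58333) (iv F257209)
theorem F261964 : act 6 n58531 = n57366 := d31_2 (iv F257211) D58531 (iv D57366)
theorem F261965 : act 7 n58531 = n58334 := d32_2 (iv F257212) D58531 (iv D58334)
theorem F261966 : act 8 n58531 = n58531 := d33_2 F257213 D58531 (iv D58531)
theorem F261967 : act 9 n58531 = n57414 := d34_2 (iv F257214) D58531 (iv D57414)
def n58532 : Q := act 4 n57365
theorem D58532 : act 4 n57365 = n58532 := rfl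
theorem F261968 : act 0 n58532 = n58015 := d3_1 D58532 (iv D58015) (iv F257215)
theorem F261969 : act 1 n58532 = n57888 := d11_1 D58532 (iv D57888) (iv F257222)
theorem F261970 : act 2 n58532 = n57366 := d18_1 D58532 (iv D57366) D57365
theorem F261971 : act 6 n58532 = n58333 := d31_2 (iv F257218) D58532 (iv D58333)
theorem F261972 : act 7 n58532 = n57369 := d32_2 (iv F257219) D58532 (iv D57369)
theorem F261973 : act 8 n58532 = n58532 := d33_2 F257220 D58532 (iv D58532)
theorem F261974 : act 9 n58532 = n57416 := d34_2 (iv F257221) D58532 (iv D57416)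
def n58533 : Q := act 4 n57367
theorem D58533 : act 4 n57367 = n58533 := rfl
theorem F261975 : act 0 n58533 = n58215 := d3_1 D58533 (iv D58215) (iv F257228)
theorem F261976 : act 1 n58533 = n57804 := d11_1 D58533 (iv D57804) (iv F257229)
theorem F261977 : act 2 n58533 = n57875 := d18_1 D58533 (iv D57875) (iv F257230)
theorem F261978 : act 5 n58533 = n57679 := d30_2 (iv F257231) D58533 (iv D57679) F253792 (iv F251842)
theorem F261979 : act 6 n58533 = n58334 := d31_2 (iv F257232) D58533 (iv D58334)
theorem F261980 : act 7 n58533 = n57368 := d32_2 (iv F257233) D58533 (iv D57368)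
theorem F261981 : act 8 n58533 = n58533 := d33_2 F257234 D58533 (iv D58533)
theorem F261982 : act 9 n58533 = n57417 := d34_2 (iv F257235) D58533 (iv D57417)
def n58534 : Q := act 3 n57369
theorem D58534 : act 3 n57369 = n58534 := rfl
theorem F261983 : act 0 n58534 = n58024 := d2_1 D58534 F260123 (iv F257243)
theorem F261984 : act 1 n58534 = n57861 := d10_1 D58534 F259501 (iv F257244)
theorem F261985 : act 4 n58534 = n57843 := d24_2 D57369 D58534 (iv D57843) F254514 (iv F251830)
theorem F261986 : act 6 n58534 = n57845 := d26_2 (iv F257246) D58534 F259453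
theorem F261987 : act 9 n58534 = n57419 := d29_2 (iv F257248) D58534 (iv D57419)
def n58535 : Q := act 8 n57370
theorem D58535 : act 8 n57370 = n58535 := rfl
theorem F261988 : act 0 n58535 = n57575 := d7_1 D58535 (iv D57575) (iv F257249)
theorem F261989 : act 1 n58535 = n57500 := d15_1 D58535 (iv D57500) (iv F257250)
theorem F261990 : act 2 n58535 = n57708 := d22_1 D58535 (iv D57708) (iv F257251)
theorem F261991 : act 4 n58535 = n58535 := d33_1 D58535 (iv D58535) F257253
theorem F261992 : act 5 n58535 = n57381 := d37_1 D58535 (iv D57381) (iv F257254)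
theorem F261993 : act 6 n58535 = n57536 := d40_1 D58535 (iv D57536) (iv F257255)
theorem F261994 : act 7 n58535 = n57371 := d42_1 D58535 (iv D57371) (iv F257256)
theorem F261995 : act 9 n58535 = n57746 := d44_2 D57370 D58535 (iv D57746) (iv D56579) (iv F251854)
def n58536 : Q := act 3 n57371
theorem D58536 : act 3 n57371 = n58536 := rfl
theorem F261996 : act 0 n58536 = n57594 := d2_1 D58536 (iv D57594) (iv F257257)
theorem F261997 : act 1 n58536 = n57815 := d10_1 D58536 (iv D57815) (iv F257258)
theorem F261998 : act 5 n58536 = n57382 := d25_2 (iv F257261) D58536 (iv D57382)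
theorem F261999 : act 6 n58536 = n57372 := d26_2 (iv F257262) D58536 (iv D57372)
theorem F262000 : act 8 n58536 = n57517 := d28_2 D57371 D58536 (iv D57517) (iv D56340) (iv F251858)
def n58537 : Q := act 2 n57372
theorem D58537 : act 2 n57372 = n58537 := rfl
theorem F262001 : act 5 n58537 = n57373 := d19_2 (iv F257264) D58537 (iv D57373)
theorem F262002 : act 7 n58537 = n58039 := d21_2 (iv F257265) D58537 (iv D58039)
def n58538 : Q := act 4 n57372
theorem D58538 : act 4 n57372 = n58538 := rfl
theorem F262003 : act 1 n58538 = n57817 := d11_1 D58538 (iv D57817) (iv F257263)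
theorem F262004 : act 3 n58538 = n58538 := d24_1 D58538 (iv D58538) (iv D57372) F251863 D57372
theorem F262005 : act 5 n58538 = n58142 := d30_2 (iv F257264) D58538 (iv D58142) (iv F256430) F256429
theorem F262006 : act 7 n58538 = n58040 := d32_2 (iv F257265) D58538 (iv D58040)
theorem F262007 : act 8 n58538 = n58145 := d33_2 F260850 D58538 (iv F260846)
def n58539 : Q := act 1 n57373
theorem D58539 : act 1 n57373 = n58539 := rfl
theorem F262008 : act 2 n58539 = n57818 := d9_2 D57373 D58539 (iv D57818) (iv D56647) (iv F251866)
theorem F262009 : act 6 n58539 = n57385 := d13_2 (iv F257266) D58539 (iv D57385)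
theorem F262010 : act 7 n58539 = n58041 := d14_2 (iv F257267) D58539 (iv D58041)
def n58540 : Q := act 3 n57374
theorem D58540 : act 3 n57374 = n58540 := rfl
theorem F262011 : act 0 n58540 = n57376 := d2_1 D58540 (iv D57376) (iv F257268)
theorem F262012 : act 1 n58540 = n57774 := d10_1 D58540 (iv D57774) (iv F257269)
theorem F262013 : act 5 n58540 = n57772 := d25_2 (iv F257272) D58540 (iv D57772)
theorem F262014 : act 6 n58540 = n58025 := d26_2 (iv F257273) D58540 (iv D58025)
theorem F262015 : act 7 n58540 = n57387 := d27_2 (iv F257274) D58540 (iv D57387)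
theorem F262016 : act 8 n58540 = n57946 := d28_2 D57374 D58540 (iv D57946) (iv D56773) (iv F251872)
theorem F262017 : act 9 n58540 = n57820 := d29_2 (iv F257275) D58540 (iv D57820)
def n58541 : Q := act 4 n57375
theorem D58541 : act 4 n57375 = n58541 := rfl
theorem F262018 : act 0 n58541 = n57377 := d3_1 D58541 (iv D57377) (iv F257276)
theorem F262019 : act 1 n58541 = n57430 := d11_1 D58541 F257566 (iv F257277)
theorem F262020 : act 2 n58541 = n57417 := d18_1 D58541 (iv D57417) (iv F257278)
theorem F262021 : act 5 n58541 = n57428 := d30_2 (iv F257279) D58541 (iv D57428) F252193 (iv F252021)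
theorem F262022 : act 6 n58541 = n57674 := d31_2 (iv F257280) D58541 F258747
theorem F262023 : act 7 n58541 = n57388 := d32_2 (iv F257281) D58541 (iv D57388)
theorem F262024 : act 8 n58541 = n57423 := d33_2 (iv F257282) D58541 (iv D57423)
theorem F262025 : act 9 n58541 = n57875 := d34_2 (iv F257283) D58541 (iv D57875)
def n58542 : Q := act 2 n57376
theorem D58542 : act 2 n57376 = n58542 := rfl
theorem F262026 : act 3 n58542 = n57821 := d17_2 D57376 D58542 (iv D57821) (iv D56651) (iv F251885)
theorem F262027 : act 5 n58542 = n58229 := d19_2 (iv F257285) D58542 (iv D58229)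
theorem F262028 : act 7 n58542 = n57392 := d21_2 (iv F257286) D58542 (iv D57392)
theorem F262029 : act 8 n58542 = n57947 := d22_2 (iv F257287) D58542 (iv D57947)
def n58543 : Q := act 4 n57376
theorem D58543 : act 4 n57376 = n58543 := rfl
theorem F262030 : act 1 n58543 = n57379 := d11_1 D58543 (iv D57379) (iv F257284)
theorem F262031 : act 3 n58543 = n57377 := d24_1 D58543 (iv D57377) (iv D56156) (iv F251886) D57376
theorem F262032 : act 7 n58543 = n57393 := d32_2 (iv F257286) D58543 (iv D57393)
theorem F262033 : act 8 n58543 = n57948 := d33_2 (iv F257287) D58543 (iv D57948)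
def n58544 : Q := act 5 n57377
theorem D58544 : act 5 n57377 = n58544 := rfl
theorem F262034 : act 0 n58544 = n57428 := d4_1 D58544 (iv F262021) F262018
theorem F262035 : act 1 n58544 = n57380 := d12_1 D58544 (iv D57380) (iv F257288)
theorem F262036 : act 2 n58544 = n57671 := d19_1 D58544 (iv F261683) F261682
theorem F262037 : act 4 n58544 = n57411 := d30_1 D58544 (iv D57411) (iv D56185) (iv F251890) D57377
theorem F262038 : act 6 n58544 = n57426 := d35_2 F261447 D58544 (iv F261425) F261426 F261450
theorem F262039 : act 7 n58544 = n57394 := d36_2 (iv F257289) D58544 (iv D57394)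
theorem F262040 : act 8 n58544 = n57424 := d37_2 (iv F257290) D58544 F257531
theorem F262041 : act 9 n58544 = n58092 := d38_2 F261836 D58544 (iv F261833)
def n58545 : Q := act 1 n57378
theorem D58545 : act 1 n57378 = n58545 := rfl
theorem F262042 : act 3 n58545 = n57385 := d10_2 (iv F257292) D58545 (iv D57385)
theorem F262043 : act 5 n58545 = n58232 := d12_2 (iv F257293) D58545 (iv D58232)
theorem F262044 : act 7 n58545 = n57401 := d14_2 (iv F257294) D58545 (iv D57401)
theorem F262045 : act 8 n58545 = n57949 := d15_2 (iv F257295) D58545 (iv D57949)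
def n58546 : Q := act 4 n57378
theorem D58546 : act 4 n57378 = n58546 := rfl
theorem F262046 : act 0 n58546 = n58315 := d3_1 D58546 (iv D58315) (iv F257291)
theorem F262047 : act 2 n58546 = n57379 := d18_1 D58546 (iv D57379) D57378
theorem F262048 : act 7 n58546 = n57402 := d32_2 (iv F257294) D58546 (iv D57402)
theorem F262049 : act 8 n58546 = n57950 := d33_2 (iv F257295) D58546 (iv D57950)
def n58547 : Q := act 5 n57379
theorem D58547 : act 5 n57379 = n58547 := rfl
theorem F262050 : act 0 n58547 = n58289 := d4_1 D58547 F260707 (iv F257296)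
theorem F262051 : act 3 n58547 = n57380 := d25_1 D58547 (iv D57380) (iv F257297)
theorem F262052 : act 4 n58547 = n57784 := d30_1 D58547 F259221 F254279 (iv F251894) D57379
theorem F262053 : act 7 n58547 = n57403 := d36_2 (iv F257298) D58547 (iv D57403)
theorem F262054 : act 8 n58547 = n57789 := d37_2 (iv F257299) D58547 F259246
def n58548 : Q := act 6 n57380
theorem D58548 : act 6 n57380 = n58548 := rfl
theorem F262055 : act 0 n58548 = n57998 := d5_1 D58548 F260025 (iv F257300)
theorem F262056 : act 1 n58548 = n57426 := d13_1 D58548 (iv F262038) F262035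
theorem F262057 : act 4 n58548 = n57412 := d31_1 D58548 (iv D57412) (iv F257301)
theorem F262058 : act 7 n58548 = n57755 := d39_2 (iv F257302) D58548 F259102 F257430 (iv D57404)
theorem F262059 : act 8 n58548 = n57425 := d40_2 (iv F257303) D58548 F257538
def n58549 : Q := act 3 n57381
theorem D58549 : act 3 n57381 = n58549 := rfl
theorem F262060 : act 0 n58549 = n57577 := d2_1 D58549 (iv D57577) (iv F257304)
theorem F262061 : act 1 n58549 = n57833 := d10_1 D58549 (iv D57833) (iv F257305)
theorem F262062 : act 6 n58549 = n57405 := d26_2 (iv F257308) D58549 (iv D57405)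
theorem F262063 : act 7 n58549 = n57382 := d27_2 (iv F257309) D58549 (iv D57382)
theorem F262064 : act 8 n58549 = n57510 := d28_2 D57381 D58549 (iv D57510) (iv D56333) (iv F251903)
theorem F262065 : act 9 n58549 = n58256 := d29_2 (iv F257310) D58549 (iv D58256)
def n58550 : Q := act 2 n57382
theorem D58550 : act 2 n57382 = n58550 := rfl
theorem F262066 : act 0 n58550 = n57596 := d1_1 D58550 (iv D57596) (iv F257311)
theorem F262067 : act 3 n58550 = n57723 := d17_2 D57382 D58550 (iv D57723) (iv D56552) (iv F251909)
theorem F262068 : act 6 n58550 = n57383 := d20_2 (iv F257313) D58550 (iv D57383)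
theorem F262069 : act 8 n58550 = n57518 := d22_2 (iv F257314) D58550 (iv D57518)
def n58551 : Q := act 4 n57382
theorem D58551 : act 4 n57382 = n58551 := rfl
theorem F262070 : act 0 n58551 = n57597 := d3_1 D58551 (iv D57597) (iv F257311)
theorem F262071 : act 1 n58551 = n57835 := d11_1 D58551 (iv D57835) (iv F257312)
theorem F262072 : act 3 n58551 = n57414 := d24_1 D58551 (iv D57414) (iv D56188) (iv F251910) D57382
theorem F262073 : act 6 n58551 = n57384 := d31_2 (iv F257313) D58551 (iv D57384)
theorem F262074 : act 8 n58551 = n57519 := d33_2 (iv F257314) D58551 (iv D57519)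
def n58552 : Q := act 1 n57383
theorem D58552 : act 1 n57383 = n58552 := rfl
theorem F262075 : act 2 n58552 = n57836 := d9_2 D57383 D58552 (iv D57836) (iv D56664) (iv F251913)
theorem F262076 : act 3 n58552 = n58232 := d10_2 (iv F257316) D58552 (iv D58232)
theorem F262077 : act 5 n58552 = n57385 := d12_2 (iv F257317) D58552 (iv D57385)
theorem F262078 : act 7 n58552 = n57408 := d14_2 (iv F257318) D58552 (iv D57408)
theorem F262079 : act 8 n58552 = n58133 := d15_2 (iv F257319) D58552 (iv D58133)
def n58553 : Q := act 4 n57383
theorem D58553 : act 4 n57383 = n58553 := rfl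
theorem F262080 : act 0 n58553 = n58168 := d3_1 D58553 (iv D58168) (iv F257315)
theorem F262081 : act 2 n58553 = n57384 := d18_1 D58553 (iv D57384) D57383
theorem F262082 : act 7 n58553 = n57409 := d32_2 (iv F257318) D58553 (iv D57409)
theorem F262083 : act 8 n58553 = n58134 := d33_2 (iv F257319) D58553 (iv D58134)
def n58554 : Q := act 0 n57385
theorem D58554 : act 0 n57385 = n58554 := rfl
theorem F262084 : act 2 n58554 = n57838 := d1_2 (iv F257325) D58554 (iv D57838)
theorem F262085 : act 7 n58554 = n57410 := d6_2 (iv F257326) D58554 (iv D57410)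
def n58555 : Q := act 3 n57386
theorem D58555 : act 3 n57386 = n58555 := rfl
theorem F262086 : act 0 n58555 = n57390 := d2_1 D58555 (iv D57390) (iv F257327)
theorem F262087 : act 1 n58555 = n57784 := d10_1 D58555 (iv D57784) (iv F257328)
theorem F262088 : act 5 n58555 = n57781 := d25_2 (iv F257331) D58555 (iv D57781)
theorem F262089 : act 6 n58555 = n57745 := d26_2 (iv F257332) D58555 (iv D57745)
theorem F262090 : act 7 n58555 = n57946 := d27_2 (iv F257333) D58555 (iv D57946)
theorem F262091 : act 8 n58555 = n57387 := d28_2 D57386 D58555 (iv D57387) (iv D56164) (iv F251921)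
theorem F262092 : act 9 n58555 = n58078 := d29_2 (iv F257334) D58555 (iv D58078)
def n58556 : Q := act 2 n57387
theorem D58556 : act 2 n57387 = n58556 := rfl
theorem F262093 : act 0 n58556 = n57392 := d1_1 D58556 (iv D57392) (iv F257335)
theorem F262094 : act 3 n58556 = n57839 := d17_2 D57387 D58556 (iv D57839) (iv D56667) (iv F251928)
theorem F262095 : act 5 n58556 = n57782 := d19_2 (iv F257337) D58556 (iv D57782)
theorem F262096 : act 6 n58556 = n58059 := d20_2 (iv F257338) D58556 (iv D58059)
theorem F262097 : act 9 n58556 = n57844 := d23_2 (iv F257339) D58556 (iv D57844)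
def n58557 : Q := act 4 n57387
theorem D58557 : act 4 n57387 = n58557 := rfl
theorem F262098 : act 0 n58557 = n57393 := d3_1 D58557 (iv D57393) (iv F257335)
theorem F262099 : act 1 n58557 = n57789 := d11_1 D58557 (iv D57789) (iv F257336)
theorem F262100 : act 3 n58557 = n57388 := d24_1 D58557 (iv D57388) (iv D56165) (iv F251929) D57387
theorem F262101 : act 5 n58557 = n57948 := d30_2 (iv F257337) D58557 (iv D57948) F254925 (iv F254259)
theorem F262102 : act 6 n58557 = n57419 := d31_2 (iv F257338) D58557 F257495
theorem F262103 : act 9 n58557 = n57845 := d34_2 (iv F257339) D58557 (iv D57845)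
def n58558 : Q := act 3 n57389
theorem D58558 : act 3 n57389 = n58558 := rfl
theorem F262104 : act 0 n58558 = n58078 := d2_1 D58558 (iv D58078) (iv F257347)
theorem F262105 : act 1 n58558 = n57395 := d10_1 D58558 (iv D57395) (iv F257348)
theorem F262106 : act 5 n58558 = n57809 := d25_2 (iv F257351) D58558 (iv D57809)
theorem F262107 : act 6 n58558 = n58061 := d26_2 (iv F257352) D58558 (iv D58061)
theorem F262108 : act 7 n58558 = n57632 := d27_2 (iv F257353) D58558 (iv D57632)
theorem F262109 : act 8 n58558 = n57811 := d28_2 D57389 D58558 (iv D57811) (iv D56642) (iv F251943)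
theorem F262110 : act 9 n58558 = n57390 := d29_2 (iv F257354) D58558 (iv D57390)
def n58559 : Q := act 2 n57390
theorem D58559 : act 2 n57390 = n58559 := rfl
theorem F262111 : act 3 n58559 = n58194 := d17_2 D57390 D58559 (iv D58194) (iv D57022) (iv F251949)
theorem F262112 : act 5 n58559 = n58225 := d19_2 (iv F257356) D58559 (iv D58225)
theorem F262113 : act 6 n58559 = n58062 := d20_2 (iv F257357) D58559 (iv D58062)
theorem F262114 : act 7 n58559 = n57947 := d21_2 (iv F257358) D58559 (iv D57947)
theorem F262115 : act 8 n58559 = n57392 := d22_2 (iv F257359) D58559 (iv D57392)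
def n58560 : Q := act 4 n57390
theorem D58560 : act 4 n57390 = n58560 := rfl
theorem F262116 : act 1 n58560 = n57397 := d11_1 D58560 (iv D57397) (iv F257355)
theorem F262117 : act 3 n58560 = n57428 := d24_1 D58560 (iv D57428) (iv D56213) (iv F251950) D57390
theorem F262118 : act 6 n58560 = n58063 := d31_2 (iv F257357) D58560 (iv D58063)
theorem F262119 : act 7 n58560 = n57948 := d32_2 (iv F257358) D58560 (iv D57948)
theorem F262120 : act 8 n58560 = n57393 := d33_2 (iv F257359) D58560 (iv D57393)
def n58561 : Q := act 2 n57391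
theorem D58561 : act 2 n57391 = n58561 := rfl
theorem F262121 : act 0 n58561 = n57782 := d1_1 D58561 (iv D57782) (iv F257360)
theorem F262122 : act 3 n58561 = n57844 := d17_2 D57391 D58561 (iv D57844) (iv D56672) (iv F251956)
theorem F262123 : act 4 n58561 = n58228 := d18_2 (iv F257362) D58561 (iv D58228)
theorem F262124 : act 5 n58561 = n57392 := d19_2 (iv F257363) D58561 (iv D57392)
theorem F262125 : act 6 n58561 = n58255 := d20_2 (iv F257364) D58561 (iv D58255)
theorem F262126 : act 7 n58561 = n58229 := d21_2 (iv F257365) D58561 (iv D58229)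
theorem F262127 : act 8 n58561 = n58225 := d22_2 (iv F257366) D58561 (iv D58225)
theorem F262128 : act 9 n58561 = n57839 := d23_2 (iv F257367) D58561 (iv D57839)
def n58562 : Q := act 1 n57392
theorem D58562 : act 1 n57392 = n58562 := rfl
theorem F262129 : act 2 n58562 = n57401 := d9_2 D57392 D58562 (iv D57401) (iv D56176) (iv F251962)
theorem F262130 : act 3 n58562 = n57846 := d10_2 (iv F257368) D58562 (iv D57846)
theorem F262131 : act 6 n58562 = n58067 := d13_2 (iv F257369) D58562 (iv D58067)
def n58563 : Q := act 4 n57392
theorem D58563 : act 4 n57392 = n58563 := rfl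
theorem F262132 : act 2 n58563 = n57393 := d18_1 D58563 (iv D57393) D57392
theorem F262133 : act 6 n58563 = n58068 := d31_2 (iv F257369) D58563 (iv D58068)
def n58564 : Q := act 5 n57393
theorem D58564 : act 5 n57393 = n58564 := rfl
theorem F262134 : act 0 n58564 = n57948 := d4_1 D58564 (iv F262101) F262098
theorem F262135 : act 1 n58564 = n57403 := d12_1 D58564 (iv D57403) (iv F257370)
theorem F262136 : act 3 n58564 = n57394 := d25_1 D58564 (iv D57394) (iv F257371)
theorem F262137 : act 4 n58564 = n57946 := d30_1 D58564 F259837 (iv F257362) F257363 D57393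
theorem F262138 : act 6 n58564 = n57672 := d35_2 (iv F257372) D58564 F258738 (iv F259598) F259597
theorem F262139 : act 9 n58564 = n58080 := d38_2 F261893 D58564 (iv F261891)
def n58565 : Q := act 2 n57395
theorem D58565 : act 2 n57395 = n58565 := rfl
theorem F262140 : act 0 n58565 = n58006 := d1_1 D58565 (iv D58006) (iv F257380)
theorem F262141 : act 3 n58565 = n57943 := d17_2 D57395 D58565 (iv D57943) (iv D56770) (iv F251968)
theorem F262142 : act 5 n58565 = n57832 := d19_2 (iv F257381) D58565 F259419
theorem F262143 : act 6 n58565 = n58073 := d20_2 (iv F257382) D58565 (iv D58073)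
theorem F262144 : act 7 n58565 = n57867 := d21_2 (iv F257383) D58565 F259517
theorem F262145 : act 9 n58565 = n57396 := d23_2 (iv F257384) D58565 (iv D57396)
def n58566 : Q := act 4 n57395
theorem D58566 : act 4 n57395 = n58566 := rfl
theorem F262146 : act 0 n58566 = n58007 := d3_1 D58566 (iv D58007) (iv F257380)
theorem F262147 : act 3 n58566 = n57429 := d24_1 D58566 (iv D57429) (iv D56216) (iv F251969) D57395
theorem F262148 : act 5 n58566 = n57830 := d30_2 (iv F257381) D58566 (iv D57830) F254479 D56661
theorem F262149 : act 6 n58566 = n58074 := d31_2 (iv F257382) D58566 (iv D58074)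
theorem F262150 : act 7 n58566 = n57864 := d32_2 (iv F257383) D58566 F259508
theorem F262151 : act 9 n58566 = n57397 := d34_2 (iv F257384) D58566 (iv D57397)
def n58567 : Q := act 1 n57396
theorem D58567 : act 1 n57396 = n58567 := rfl
theorem F262152 : act 3 n58567 = n57945 := d10_2 (iv F257386) D58567 (iv D57945)
theorem F262153 : act 5 n58567 = n58226 := d12_2 (iv F257387) D58567 (iv D58226)
theorem F262154 : act 6 n58567 = n58075 := d13_2 (iv F257388) D58567 (iv D58075)
theorem F262155 : act 7 n58567 = n57949 := d14_2 (iv F257389) D58567 (iv D57949)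
theorem F262156 : act 8 n58567 = n57401 := d15_2 (iv F257390) D58567 (iv D57401)
def n58568 : Q := act 4 n57396
theorem D58568 : act 4 n57396 = n58568 := rfl
theorem F262157 : act 0 n58568 = n58293 := d3_1 D58568 (iv D58293) (iv F257385)
theorem F262158 : act 2 n58568 = n57397 := d18_1 D58568 (iv D57397) D57396
theorem F262159 : act 3 n58568 = n58053 := d24_1 D58568 (iv D58053) F255315 (iv F254914) (iv F257386)
theorem F262160 : act 6 n58568 = n58076 := d31_2 (iv F257388) D58568 (iv D58076)
theorem F262161 : act 7 n58568 = n57950 := d32_2 (iv F257389) D58568 (iv D57950)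
theorem F262162 : act 8 n58568 = n57402 := d33_2 (iv F257390) D58568 (iv D57402)
def n58569 : Q := act 5 n57397
theorem D58569 : act 5 n57397 = n58569 := rfl
theorem F262163 : act 0 n58569 = n58294 := d4_1 D58569 (iv D58294) (iv F257391)
theorem F262164 : act 3 n58569 = n57430 := d25_1 D58569 (iv D57430) (iv F257392)
theorem F262165 : act 4 n58569 = n57774 := d30_1 D58569 F259178 F254236 (iv F251975) D57397
theorem F262166 : act 7 n58569 = n57789 := d36_2 (iv F257394) D58569 F259246
theorem F262167 : act 8 n58569 = n57403 := d37_2 (iv F257395) D58569 (iv D57403)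
theorem F262168 : act 9 n58569 = n57830 := d38_2 F262151 D58569 (iv F262148)
def n58570 : Q := act 3 n57398
theorem D58570 : act 3 n57398 = n58570 := rfl
theorem F262169 : act 0 n58570 = n57809 := d2_1 D58570 (iv D57809) (iv F257396)
theorem F262170 : act 1 n58570 = n57785 := d10_1 D58570 (iv D57785) (iv F257397)
theorem F262171 : act 4 n58570 = n57819 := d24_2 (iv F257399) D58570 (iv D57819) F254429 (iv F252079)
theorem F262172 : act 5 n58570 = n58078 := d25_2 (iv F257400) D58570 (iv D58078)
theorem F262173 : act 6 n58570 = n57709 := d26_2 (iv F257401) D58570 (iv D57709)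
theorem F262174 : act 7 n58570 = n57399 := d27_2 (iv F257402) D58570 (iv D57399)
theorem F262175 : act 8 n58570 = n57705 := d28_2 D57398 D58570 (iv D57705) (iv D56535) (iv F251982)
theorem F262176 : act 9 n58570 = n57781 := d29_2 (iv F257403) D58570 (iv D57781)
def n58571 : Q := act 2 n57399
theorem D58571 : act 2 n57399 = n58571 := rfl
theorem F262177 : act 0 n58571 = n57847 := d1_1 D58571 F259456 (iv F257404)
theorem F262178 : act 3 n58571 = n57406 := d17_2 D57399 D58571 (iv D57406) (iv D56180) (iv F251989)
theorem F262179 : act 4 n58571 = n57839 := d18_2 (iv F257406) D58571 (iv D57839)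
theorem F262180 : act 5 n58571 = n58079 := d19_2 (iv F257407) D58571 (iv D58079)
theorem F262181 : act 6 n58571 = n57400 := d20_2 (iv F257408) D58571 (iv D57400)
theorem F262182 : act 8 n58571 = n58221 := d22_2 (iv F257409) D58571 (iv D58221)
theorem F262183 : act 9 n58571 = n58228 := d23_2 (iv F257410) D58571 (iv D58228)
def n58572 : Q := act 1 n57400
theorem D58572 : act 1 n57400 = n58572 := rfl
theorem F262184 : act 3 n58572 = n57408 := d10_2 (iv F257412) D58572 (iv D57408)
theorem F262185 : act 4 n58572 = n58303 := d11_2 (iv F257413) D58572 (iv D58303)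
theorem F262186 : act 5 n58572 = n57401 := d12_2 (iv F257414) D58572 (iv D57401)
theorem F262187 : act 7 n58572 = n58232 := d14_2 (iv F257415) D58572 (iv D58232)
theorem F262188 : act 8 n58572 = n58226 := d15_2 (iv F257416) D58572 (iv D58226)
def n58573 : Q := act 0 n57401
theorem D58573 : act 0 n57401 = n58573 := rfl
theorem F262189 : act 3 n58573 = n57410 := d2_2 (iv F257417) D58573 (iv D57410)
theorem F262190 : act 6 n58573 = n58083 := d5_2 (iv F257418) D58573 (iv D58083)
def n58574 : Q := act 4 n57401
theorem D58574 : act 4 n57401 = n58574 := rfl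
theorem F262191 : act 1 n58574 = n57402 := d11_1 D58574 (iv D57402) D57401
theorem F262192 : act 6 n58574 = n58084 := d31_2 (iv F257418) D58574 (iv D58084)
def n58575 : Q := act 5 n57402
theorem D58575 : act 5 n57402 = n58575 := rfl
theorem F262193 : act 0 n58575 = n58307 := d4_1 D58575 (iv F261643) F261640
theorem F262194 : act 2 n58575 = n57403 := d19_1 D58575 (iv D57403) (iv F257419)
theorem F262195 : act 4 n58575 = n58302 := d30_1 D58575 F260746 (iv F257413) F257414 D57402
def n58576 : Q := act 6 n57403
theorem D58576 : act 6 n57403 = n58576 := rfl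
theorem F262196 : act 0 n58576 = n58305 := d5_1 D58576 F260750 (iv F257421)
theorem F262197 : act 1 n58576 = n57672 := d13_1 D58576 (iv F262138) F262135
theorem F262198 : act 3 n58576 = n57404 := d26_1 D58576 (iv D57404) (iv F257422)
theorem F262199 : act 4 n58576 = n58022 := d31_1 D58576 F260117 (iv F257423)
theorem F262200 : act 5 n58576 = n57894 := d35_1 D58576 F259606 (iv D56902) (iv F252002) D57403
theorem F262201 : act 9 n58576 = n58066 := d41_2 F261931 D58576 F261932
theorem F262202 : act 7 n58238 = n58576 := d32_0 F262199 F260118 D58238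
def n58577 : Q := act 2 n57405
theorem D58577 : act 2 n57405 = n58577 := rfl
theorem F262203 : act 5 n58577 = n58086 := d19_2 (iv F257432) D58577 (iv D58086)
theorem F262204 : act 7 n58577 = n57406 := d21_2 (iv F257433) D58577 (iv D57406)
def n58578 : Q := act 4 n57405
theorem D58578 : act 4 n57405 = n58578 := rfl
theorem F262205 : act 1 n58578 = n57869 := d11_1 D58578 (iv D57869) (iv F257431)
theorem F262206 : act 3 n58578 = n57417 := d24_1 D58578 (iv D57417) (iv D56195) (iv F252007) D57405
theorem F262207 : act 5 n58578 = n58160 := d30_2 (iv F257432) D58578 (iv D58160) (iv F256770) F256769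
theorem F262208 : act 7 n58578 = n57407 := d32_2 (iv F257433) D58578 (iv D57407)
theorem F262209 : act 8 n58578 = n58164 := d33_2 F260960 D58578 (iv F260956)
def n58579 : Q := act 1 n57406
theorem D58579 : act 1 n57406 = n58579 := rfl
theorem F262210 : act 2 n58579 = n57870 := d9_2 D57406 D58579 (iv D57870) (iv D56691) (iv F252010)
theorem F262211 : act 5 n58579 = n58087 := d12_2 (iv F257434) D58579 (iv D58087)
theorem F262212 : act 6 n58579 = n57408 := d13_2 (iv F257435) D58579 (iv D57408)
def n58580 : Q := act 4 n57406
theorem D58580 : act 4 n57406 = n58580 := rfl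
theorem F262213 : act 2 n58580 = n57407 := d18_1 D58580 (iv D57407) D57406
theorem F262214 : act 6 n58580 = n57409 := d31_2 (iv F257435) D58580 (iv D57409)
def n58581 : Q := act 0 n57408
theorem D58581 : act 0 n57408 = n58581 := rfl
theorem F262215 : act 2 n58581 = n57872 := d1_2 (iv F257439) D58581 (iv D57872)
theorem F262216 : act 5 n58581 = n57410 := d4_2 (iv F257440) D58581 (iv D57410)
def n58582 : Q := act 4 n57408
theorem D58582 : act 4 n57408 = n58582 := rfl
theorem F262217 : act 1 n58582 = n57409 := d11_1 D58582 (iv D57409) D57408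
theorem F262218 : act 2 n58582 = n57873 := d18_1 D58582 (iv D57873) (iv F257439)
def n58583 : Q := act 3 n57409
theorem D58583 : act 3 n57409 = n58583 := rfl
theorem F262219 : act 0 n58583 = n58068 := d2_1 D58583 (iv F261673) F261671
theorem F262220 : act 2 n58583 = n57419 := d17_1 D58583 (iv D57419) F252106 (iv F252015) (iv F257441)
theorem F262221 : act 4 n58583 = n58059 := d24_2 D57409 D58583 F260217 (iv F257413) F257412
def n58584 : Q := act 4 n57413
theorem D58584 : act 4 n57413 = n58584 := rfl
theorem F262222 : act 0 n58584 = n57622 := d3_1 D58584 (iv D57622) (iv F257458)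
theorem F262223 : act 1 n58584 = n57881 := d11_1 D58584 (iv D57881) (iv F257459)
theorem F262224 : act 2 n58584 = n57674 := d18_1 D58584 F258747 (iv F257460)
theorem F262225 : act 6 n58584 = n57417 := d31_2 (iv F257462) D58584 (iv D57417)
theorem F262226 : act 7 n58584 = n57414 := d32_2 (iv F257463) D58584 (iv D57414)
theorem F262227 : act 8 n58584 = n57420 := d33_2 (iv F257464) D58584 (iv D57420)
theorem F262228 : act 9 n58584 = n58334 := d34_2 (iv F257465) D58584 (iv D58334)
theorem F262229 : act 5 n57620 = n58584 := d46_1 D57620 (iv D58584) (iv D57413) F252040 F248017 (iv F248777) F248781 F241534 D55450 F248869 (iv F245109) F245108 (iv F247795) D56525 F253867 F247802 F240497 F235056 (iv F233600) F233599 (iv D50683) F216629 F190594 F132686 F92560 F64777 F45488 (iv F64549) (iv F92279) (iv F131438) (iv F205874) F178511 (iv F178447) (iv F211714) D49508 F221811 F211740 (iv F221219) (iv F230497) F230496 F226726 F222094 (iv F231484) F231483 (iv F232841) (iv F241286) (iv F248652) F248651 D55564 F249385 F242279 D54470 D55927 (iv F251093) F251092 F248719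 (iv F248747) D56729 D57905 F259653 (iv F258122) F258121
def n58585 : Q := act 5 n57414
theorem D58585 : act 5 n57414 = n58585 := rfl
theorem F262230 : act 0 n58585 = n57629 := d4_1 D58585 (iv D57629) (iv F257466)
theorem F262231 : act 1 n58585 = n57884 := d12_1 D58585 (iv D57884) (iv F257467)
theorem F262232 : act 2 n58585 = n57904 := d19_1 D58585 F259649 (iv F257468)
theorem F262233 : act 4 n58585 = n58585 := d30_1 D58585 (iv D58585) (iv D57414) F252048 D57414
theorem F262234 : act 7 n58585 = n57620 := d36_2 F262226 D58585 F262229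
theorem F262235 : act 8 n58585 = n57421 := d37_2 (iv F257470) D58585 (iv D57421)
def n58586 : Q := act 4 n57415
theorem D58586 : act 4 n57415 = n58586 := rfl
theorem F262236 : act 0 n58586 = n57965 := d3_1 D58586 (iv D57965) (iv F257471)
theorem F262237 : act 1 n58586 = n57416 := d11_1 D58586 (iv D57416) D57415
theorem F262238 : act 2 n58586 = n57886 := d18_1 D58586 (iv D57886) (iv F257472)
theorem F262239 : act 5 n58586 = n58239 := d30_2 (iv F257474) D58586 (iv D58239) F255763 (iv F252064)
theorem F262240 : act 6 n58586 = n58332 := d31_2 (iv F257475) D58586 (iv D58332)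
theorem F262241 : act 7 n58586 = n57418 := d32_2 (iv F257476) D58586 (iv D57418)
theorem F262242 : act 8 n58586 = n57422 := d33_2 (iv F257477) D58586 (iv D57422)
theorem F262243 : act 9 n58586 = n57888 := d34_2 (iv F257478) D58586 (iv D57888)
def n58587 : Q := act 3 n57416
theorem D58587 : act 3 n57416 = n58587 := rfl
theorem F262244 : act 0 n58587 = n58044 := d2_1 D58587 F260172 (iv F257479)
theorem F262245 : act 4 n58587 = n57758 := d24_2 D57416 D58587 (iv D57758) F254176 (iv F252052)
theorem F262246 : act 6 n58587 = n58242 := d26_2 (iv F257481) D58587 F260607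
theorem F262247 : act 7 n58587 = n57419 := d27_2 (iv F257482) D58587 (iv D57419)
theorem F262248 : act 8 n58587 = n57762 := d28_2 (iv F257483) D58587 F259131 F254188 (iv F252130)
def n58588 : Q := act 3 n57418
theorem D58588 : act 3 n57418 = n58588 := rfl
theorem F262249 : act 0 n58588 = n57976 := d2_1 D58588 F259939 (iv F257488)
theorem F262250 : act 1 n58588 = n57419 := d10_1 D58588 (iv D57419) (iv F257489)
theorem F262251 : act 4 n58588 = n57787 := d24_2 D57418 D58588 (iv D57787) F254286 (iv F252100)
theorem F262252 : act 6 n58588 = n57789 := d26_2 (iv F257491) D58588 F259245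
theorem F262253 : act 9 n58588 = n57861 := d29_2 (iv F257493) D58588 F259501
def n58589 : Q := act 8 n57419
theorem D58589 : act 8 n57419 = n58589 := rfl
theorem F262254 : act 0 n58589 = n58063 := d7_1 D58589 F260226 (iv F257494)
theorem F262255 : act 3 n58589 = n57426 := d28_1 D58589 (iv D57426) (iv D56207) (iv F252107) D57419
theorem F262256 : act 4 n58589 = n57745 := d33_1 D58589 F259063 (iv F257495)
theorem F262257 : act 7 n58589 = n57762 := d42_1 D58589 (iv F262248) F262247
def n58590 : Q := act 9 n57426
theorem D58590 : act 9 n57426 = n58590 := rfl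
theorem F262258 : act 0 n58590 = n58096 := d8_1 D58590 F260301 (iv F257541)
theorem F262259 : act 4 n58590 = n57535 := d34_1 D58590 F258170 (iv F257542)
theorem F262260 : act 6 n58590 = n58092 := d41_1 D58590 (iv F262041) F262038
theorem F262261 : act 7 n58590 = n57544 := d43_1 D58590 F258211 (iv F257543)
theorem F262262 : act 8 n58590 = n58590 := d44_1 D58590 (iv D58590) (iv D57426) F252160 D57426
def n58591 : Q := act 4 n57427
theorem D58591 : act 4 n57427 = n58591 := rfl
theorem F262263 : act 0 n58591 = n58092 := d3_1 D58591 (iv D58092) (iv F257544)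
theorem F262264 : act 1 n58591 = n57429 := d11_1 D58591 (iv D57429) (iv F257545)
theorem F262265 : act 2 n58591 = n57679 := d18_1 D58591 (iv D57679) (iv F257546)
theorem F262266 : act 5 n58591 = n57875 := d30_2 (iv F257547) D58591 (iv D57875) F254581 (iv F253580)
theorem F262267 : act 6 n58591 = n58096 := d31_2 (iv F257548) D58591 (iv D58096)
theorem F262268 : act 7 n58591 = n57633 := d32_2 (iv F257549) D58591 (iv D57633)
theorem F262269 : act 8 n58591 = n58591 := d33_2 F257550 D58591 (iv D58591)
theorem F262270 : act 9 n58591 = n57428 := d34_2 (iv F257551) D58591 (iv D57428)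
def n58592 : Q := act 6 n57430
theorem D58592 : act 6 n57430 = n58592 := rfl
theorem F262271 : act 0 n58592 = n58331 := d5_1 D58592 (iv D58331) (iv F257564)
theorem F262272 : act 1 n58592 = n57674 := d13_1 D58592 (iv F262022) F262019
theorem F262273 : act 2 n58592 = n58055 := d20_1 D58592 (iv D58055) (iv F257565)
theorem F262274 : act 4 n58592 = n57797 := d31_1 D58592 F259270 (iv F257566)
theorem F262275 : act 5 n58592 = n57909 := d35_1 D58592 F259674 (iv D56924) (iv F252218) D57430
theorem F262276 : act 7 n58592 = n58332 := d39_2 (iv F257567) D58592 (iv F262240) F262241 F257491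
theorem F262277 : act 8 n58592 = n57431 := d40_2 (iv F257568) D58592 (iv D57431)
theorem F262278 : act 9 n58592 = n57878 := d41_2 (iv F257569) D58592 F259547
def n58593 : Q := act 3 n57432
theorem D58593 : act 3 n57432 = n58593 := rfl
theorem F262279 : act 0 n58593 = n57547 := d2_1 D58593 (iv D57547) (iv F257578)
theorem F262280 : act 1 n58593 = n57441 := d10_1 D58593 (iv D57441) (iv F257579)
theorem F262281 : act 4 n58593 = n57482 := d24_2 (iv F257581) D58593 (iv D57482) F252773 (iv F252384)
theorem F262282 : act 5 n58593 = n57468 := d25_2 (iv F257582) D58593 (iv D57468)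
theorem F262283 : act 6 n58593 = n57497 := d26_2 (iv F257583) D58593 (iv D57497)
theorem F262284 : act 7 n58593 = n57433 := d27_2 (iv F257584) D58593 (iv D57433)
theorem F262285 : act 8 n58593 = n57631 := d28_2 D57432 D58593 (iv D57631) (iv D56459) (iv F252377)
theorem F262286 : act 9 n58593 = n57509 := d29_2 (iv F257585) D58593 (iv D57509)
def n58594 : Q := act 2 n57433
theorem D58594 : act 2 n57433 = n58594 := rfl
theorem F262287 : act 0 n58594 = n57935 := d1_1 D58594 (iv D57935) (iv F257586)
theorem F262288 : act 3 n58594 = n58149 := d17_2 D57433 D58594 (iv D58149) (iv D56978) (iv F252391)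
theorem F262289 : act 4 n58594 = n57488 := d18_2 (iv F257588) D58594 (iv D57488)
theorem F262290 : act 5 n58594 = n58147 := d19_2 (iv F257589) D58594 (iv D58147)
theorem F262291 : act 6 n58594 = n57921 := d20_2 (iv F257590) D58594 (iv D57921)
theorem F262292 : act 8 n58594 = n57634 := d22_2 (iv F257591) D58594 (iv D57634)
theorem F262293 : act 9 n58594 = n58131 := d23_2 (iv F257592) D58594 (iv D58131)
def n58595 : Q := act 3 n57434
theorem D58595 : act 3 n57434 = n58595 := rfl
theorem F262294 : act 0 n58595 = n57453 := d2_1 D58595 (iv D57453) (iv F257593)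
theorem F262295 : act 1 n58595 = n57509 := d10_1 D58595 (iv D57509) (iv F257594)
theorem F262296 : act 4 n58595 = n57497 := d24_2 (iv F257596) D58595 (iv D57497) F252888 (iv F252407)
theorem F262297 : act 5 n58595 = n57457 := d25_2 (iv F257597) D58595 (iv D57457)
theorem F262298 : act 6 n58595 = n57482 := d26_2 (iv F257598) D58595 (iv D57482)
theorem F262299 : act 7 n58595 = n57438 := d27_2 (iv F257599) D58595 (iv D57438)
theorem F262300 : act 8 n58595 = n57677 := d28_2 D57434 D58595 (iv D57677) (iv D56507) (iv F252399)
theorem F262301 : act 9 n58595 = n57441 := d29_2 (iv F257600) D58595 (iv D57441)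
def n58596 : Q := act 3 n57435
theorem D58596 : act 3 n57435 = n58596 := rfl
theorem F262302 : act 0 n58596 = n57457 := d2_1 D58596 (iv D57457) (iv F257601)
theorem F262303 : act 1 n58596 = n57598 := d10_1 D58596 (iv D57598) (iv F257602)
theorem F262304 : act 5 n58596 = n57453 := d25_2 (iv F257605) D58596 (iv D57453)
theorem F262305 : act 6 n58596 = n57589 := d26_2 (iv F257606) D58596 (iv D57589)
theorem F262306 : act 7 n58596 = n57460 := d27_2 (iv F257607) D58596 (iv D57460)
theorem F262307 : act 9 n58596 = n57442 := d29_2 (iv F257608) D58596 (iv D57442)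
def n58597 : Q := act 4 n57436
theorem D58597 : act 4 n57436 = n58597 := rfl
theorem F262308 : act 0 n58597 = n57458 := d3_1 D58597 (iv D57458) (iv F257609)
theorem F262309 : act 1 n58597 = n57614 := d11_1 D58597 (iv D57614) (iv F257610)
theorem F262310 : act 2 n58597 = n57503 := d18_1 D58597 (iv D57503) (iv F257611)
theorem F262311 : act 5 n58597 = n57567 := d30_2 (iv F257612) D58597 (iv D57567) F253269 (iv F252442)
theorem F262312 : act 6 n58597 = n57612 := d31_2 (iv F257613) D58597 (iv D57612)
theorem F262313 : act 7 n58597 = n57465 := d32_2 (iv F257614) D58597 (iv D57465)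
theorem F262314 : act 8 n58597 = n58597 := d33_2 F257615 D58597 (iv D58597)
theorem F262315 : act 9 n58597 = n57443 := d34_2 (iv F257616) D58597 (iv D57443)
def n58598 : Q := act 3 n57437
theorem D58598 : act 3 n57437 = n58598 := rfl
theorem F262316 : act 0 n58598 = n57460 := d2_1 D58598 (iv D57460) (iv F257617)
theorem F262317 : act 1 n58598 = n57931 := d10_1 D58598 (iv D57931) (iv F257618)
theorem F262318 : act 5 n58598 = n57438 := d25_2 (iv F257621) D58598 (iv D57438)
theorem F262319 : act 6 n58598 = n57927 := d26_2 (iv F257622) D58598 (iv D57927)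
theorem F262320 : act 7 n58598 = n57457 := d27_2 (iv F257623) D58598 (iv D57457)
theorem F262321 : act 8 n58598 = n58189 := d28_2 D57437 D58598 (iv D58189) (iv D57018) (iv F252429)
theorem F262322 : act 9 n58598 = n57444 := d29_2 (iv F257624) D58598 (iv D57444)
def n58599 : Q := act 2 n57438
theorem D58599 : act 2 n57438 = n58599 := rfl
theorem F262323 : act 0 n58599 = n57461 := d1_1 D58599 (iv D57461) (iv F257625)
theorem F262324 : act 4 n58599 = n57505 := d18_2 (iv F257627) D58599 (iv D57505)
theorem F262325 : act 6 n58599 = n58098 := d20_2 (iv F257628) D58599 (iv D58098)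
theorem F262326 : act 8 n58599 = n58200 := d22_2 (iv F257629) D58599 (iv D58200)
theorem F262327 : act 9 n58599 = n57445 := d23_2 (iv F257630) D58599 (iv D57445)
def n58600 : Q := act 4 n57439
theorem D58600 : act 4 n57439 = n58600 := rfl
theorem F262328 : act 0 n58600 = n57465 := d3_1 D58600 (iv D57465) (iv F257631)
theorem F262329 : act 1 n58600 = n57939 := d11_1 D58600 (iv D57939) (iv F257632)
theorem F262330 : act 2 n58600 = n57551 := d18_1 D58600 (iv D57551) (iv F257633)
theorem F262331 : act 5 n58600 = n57508 := d30_2 (iv F257634) D58600 (iv D57508) F252961 (iv F252457)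
theorem F262332 : act 6 n58600 = n57938 := d31_2 (iv F257635) D58600 (iv D57938)
theorem F262333 : act 7 n58600 = n57458 := d32_2 (iv F257636) D58600 (iv D57458)
theorem F262334 : act 8 n58600 = n58600 := d33_2 F257637 D58600 (iv D58600)
theorem F262335 : act 9 n58600 = n57446 := d34_2 (iv F257638) D58600 (iv D57446)
def n58601 : Q := act 3 n57440
theorem D58601 : act 3 n57440 = n58601 := rfl
theorem F262336 : act 0 n58601 = n57466 := d2_1 D58601 (iv D57466) (iv F257639)
theorem F262337 : act 1 n58601 = n57497 := d10_1 D58601 (iv D57497) (iv F257640)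
theorem F262338 : act 4 n58601 = n57509 := d24_2 (iv F257642) D58601 (iv D57509) F252973 (iv F252473)
theorem F262339 : act 5 n58601 = n57486 := d25_2 (iv F257643) D58601 (iv D57486)
theorem F262340 : act 6 n58601 = n57441 := d26_2 (iv F257644) D58601 (iv D57441)
theorem F262341 : act 7 n58601 = n57481 := d27_2 (iv F257645) D58601 (iv D57481)
theorem F262342 : act 8 n58601 = n57635 := d28_2 D57440 D58601 (iv D57635) (iv D56464) (iv F252465)
theorem F262343 : act 9 n58601 = n57482 := d29_2 (iv F257646) D58601 (iv D57482)
def n58602 : Q := act 2 n57441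
theorem D58602 : act 2 n57441 = n58602 := rfl
theorem F262344 : act 0 n58602 = n57467 := d1_1 D58602 (iv D57467) (iv F257647)
theorem F262345 : act 3 n58602 = n57475 := d17_2 D57441 D58602 (iv D57475) (iv D56287) (iv F252479)
theorem F262346 : act 4 n58602 = n57513 := d18_2 (iv F257648) D58602 (iv D57513)
theorem F262347 : act 5 n58602 = n57471 := d19_2 (iv F257649) D58602 (iv D57471)
theorem F262348 : act 7 n58602 = n57445 := d21_2 (iv F257650) D58602 (iv D57445)
theorem F262349 : act 8 n58602 = n57636 := d22_2 (iv F257651) D58602 (iv D57636)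
def n58603 : Q := act 2 n57442
theorem D58603 : act 2 n57442 = n58603 := rfl
theorem F262350 : act 0 n58603 = n57471 := d1_1 D58603 (iv D57471) (iv F257652)
theorem F262351 : act 3 n58603 = n57445 := d17_2 D57442 D58603 (iv D57445) (iv D56254) (iv F252484)
theorem F262352 : act 5 n58603 = n57467 := d19_2 (iv F257653) D58603 (iv D57467)
theorem F262353 : act 6 n58603 = n58100 := d20_2 (iv F257654) D58603 (iv D58100)
theorem F262354 : act 7 n58603 = n57475 := d21_2 (iv F257655) D58603 (iv D57475)
theorem F262355 : act 8 n58603 = n57658 := d22_2 (iv F257656) D58603 (iv D57658)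
def n58604 : Q := act 4 n57442
theorem D58604 : act 4 n57442 = n58604 := rfl
theorem F262356 : act 0 n58604 = n57472 := d3_1 D58604 (iv D57472) (iv F257652)
theorem F262357 : act 1 n58604 = n58135 := d11_1 D58604 (iv F260831) F260830
theorem F262358 : act 3 n58604 = n57443 := d24_1 D58604 (iv D57443) (iv D56252) (iv F252485) D57442
theorem F262359 : act 5 n58604 = n57582 := d30_2 (iv F257653) D58604 (iv D57582) F253339 (iv F252663)
theorem F262360 : act 6 n58604 = n58101 := d31_2 (iv F257654) D58604 (iv D58101)
theorem F262361 : act 7 n58604 = n57476 := d32_2 (iv F257655) D58604 (iv D57476)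
theorem F262362 : act 8 n58604 = n57659 := d33_2 (iv F257656) D58604 (iv D57659)
def n58605 : Q := act 2 n57444
theorem D58605 : act 2 n57444 = n58605 := rfl
theorem F262363 : act 0 n58605 = n57475 := d1_1 D58605 (iv D57475) (iv F257664)
theorem F262364 : act 3 n58605 = n57467 := d17_2 D57444 D58605 (iv D57467) (iv D56280) (iv F252498)
theorem F262365 : act 5 n58605 = n57445 := d19_2 (iv F257666) D58605 (iv D57445)
theorem F262366 : act 6 n58605 = n58152 := d20_2 (iv F257667) D58605 (iv D58152)
theorem F262367 : act 7 n58605 = n57471 := d21_2 (iv F257668) D58605 (iv D57471)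
theorem F262368 : act 8 n58605 = n57637 := d22_2 (iv F257669) D58605 (iv D57637)
def n58606 : Q := act 4 n57444
theorem D58606 : act 4 n57444 = n58606 := rfl
theorem F262369 : act 0 n58606 = n57476 := d3_1 D58606 (iv D57476) (iv F257664)
theorem F262370 : act 1 n58606 = n58148 := d11_1 D58606 (iv D58148) (iv F257665)
theorem F262371 : act 3 n58606 = n57446 := d24_1 D58606 (iv D57446) (iv D56255) (iv F252499) D57444
theorem F262372 : act 5 n58606 = n57522 := d30_2 (iv F257666) D58606 (iv D57522) F253021 (iv F252504)
theorem F262373 : act 6 n58606 = n58153 := d31_2 (iv F257667) D58606 (iv D58153)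
theorem F262374 : act 7 n58606 = n57472 := d32_2 (iv F257668) D58606 (iv D57472)
theorem F262375 : act 8 n58606 = n57638 := d33_2 (iv F257669) D58606 (iv D57638)
def n58607 : Q := act 1 n57445
theorem D58607 : act 1 n57445 = n58607 := rfl
theorem F262376 : act 4 n58607 = n57523 := d11_2 (iv F257671) D58607 (iv D57523)
theorem F262377 : act 6 n58607 = n58103 := d13_2 (iv F257672) D58607 (iv D58103)
theorem F262378 : act 8 n58607 = n57639 := d15_2 (iv F257673) D58607 (iv D57639)
def n58608 : Q := act 8 n57447
theorem D58608 : act 8 n57447 = n58608 := rfl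
theorem F262379 : act 0 n58608 = n58104 := d7_1 D58608 (iv D58104) (iv F257681)
theorem F262380 : act 1 n58608 = n57593 := d15_1 D58608 (iv D57593) (iv F257682)
theorem F262381 : act 2 n58608 = n57456 := d22_1 D58608 (iv D57456) (iv F257683)
theorem F262382 : act 4 n58608 = n58608 := d33_1 D58608 (iv D58608) F257685
theorem F262383 : act 5 n58608 = n57587 := d37_1 D58608 (iv D57587) (iv F257686)
theorem F262384 : act 6 n58608 = n57640 := d40_1 D58608 (iv D57640) (iv F257687)
theorem F262385 : act 7 n58608 = n58111 := d42_1 D58608 (iv D58111) (iv F257688)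
theorem F262386 : act 9 n58608 = n57586 := d44_2 D57447 D58608 (iv D57586) (iv D56411) (iv F252536)
def n58609 : Q := act 8 n57448
theorem D58609 : act 8 n57448 = n58609 := rfl
theorem F262387 : act 0 n58609 = n58111 := d7_1 D58609 (iv D58111) (iv F257689)
theorem F262388 : act 1 n58609 = n57557 := d15_1 D58609 (iv D57557) (iv F257690)
theorem F262389 : act 2 n58609 = n57451 := d22_1 D58609 (iv D57451) (iv F257691)
theorem F262390 : act 4 n58609 = n58609 := d33_1 D58609 (iv D58609) F257693

end Cfsg.Agent.Helper17.Fi23TC
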