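import Cfsg.Agent.Helper17.Fi23TC.Facts15

set_option autoImplicit false
set_option linter.all false

noncomputable section

namespace Cfsg.Agent.Helper17.Fi23TC

theorem F262391 : act 5 n58609 = n57449 := d37_1 D58609 (iv D57449) (iv F257694)
theorem F262392 : act 6 n58609 = n57646 := d40_1 D58609 (iv D57646) (iv F257695)
theorem F262393 : act 7 n58609 = n58104 := d42_1 D58609 (iv D58104) (iv F257696)
theorem F262394 : act 9 n58609 = n57554 := d44_2 D57448 D58609 (iv D57554) (iv D56380) (iv F252545)
def n58610 : Q := act 3 n57449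
theorem D58610 : act 3 n57449 = n58610 := rfl
theorem F262395 : act 0 n58610 = n58113 := d2_1 D58610 (iv D58113) (iv F257697)
theorem F262396 : act 6 n58610 = n57648 := d26_2 (iv F257700) D58610 (iv D57648)
theorem F262397 : act 9 n58610 = n57642 := d29_2 (iv F257701) D58610 (iv D57642)
def n58611 : Q := act 4 n57450
theorem D58611 : act 4 n57450 = n58611 := rfl
theorem F262398 : act 0 n58611 = n58125 := d3_1 D58611 (iv D58125) (iv F257702)
theorem F262399 : act 2 n58611 = n57544 := d18_1 D58611 (iv D57544) (iv F257703)
theorem F262400 : act 6 n58611 = n57653 := d31_2 (iv F257705) D58611 (iv D57653)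
theorem F262401 : act 8 n58611 = n58611 := d33_2 F257706 D58611 (iv D58611)
theorem F262402 : act 9 n58611 = n57643 := d34_2 (iv F257707) D58611 (iv D57643)
def n58612 : Q := act 3 n57451
theorem D58612 : act 3 n57451 = n58612 := rfl
theorem F262403 : act 0 n58612 = n58189 := d2_1 D58612 (iv D58189) (iv F257708)
theorem F262404 : act 1 n58612 = n57962 := d10_1 D58612 (iv D57962) (iv F257709)
theorem F262405 : act 5 n58612 = n57452 := d25_2 (iv F257711) D58612 (iv D57452)
theorem F262406 : act 6 n58612 = n58178 := d26_2 (iv F257712) D58612 (iv D58178)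
theorem F262407 : act 8 n58612 = n57460 := d28_2 D57451 D58612 (iv D57460) (iv D56271) (iv F252557)
theorem F262408 : act 9 n58612 = n57644 := d29_2 (iv F257713) D58612 (iv D57644)
def n58613 : Q := act 2 n57452
theorem D58613 : act 2 n57452 = n58613 := rfl
theorem F262409 : act 0 n58613 = n58200 := d1_1 D58613 (iv D58200) (iv F257714)
theorem F262410 : act 4 n58613 = n57546 := d18_2 (iv F257716) D58613 (iv D57546)
theorem F262411 : act 6 n58613 = n57952 := d20_2 (iv F257717) D58613 (iv D57952)
theorem F262412 : act 8 n58613 = n57461 := d22_2 (iv F257718) D58613 (iv D57461)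
theorem F262413 : act 9 n58613 = n57645 := d23_2 (iv F257719) D58613 (iv D57645)
def n58614 : Q := act 2 n57453
theorem D58614 : act 2 n57453 = n58614 := rfl
theorem F262414 : act 4 n58614 = n57553 := d18_2 (iv F257721) D58614 (iv D57553)
theorem F262415 : act 6 n58614 = n58161 := d20_2 (iv F257722) D58614 (iv D58161)
theorem F262416 : act 7 n58614 = n57461 := d21_2 (iv F257723) D58614 (iv D57461)
theorem F262417 : act 9 n58614 = n57467 := d23_2 (iv F257724) D58614 (iv D57467)
def n58615 : Q := act 3 n57454
theorem D58615 : act 3 n57454 = n58615 := rfl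
theorem F262418 : act 0 n58615 = n57572 := d2_1 D58615 (iv D57572) (iv F257725)
theorem F262419 : act 1 n58615 = n57457 := d10_1 D58615 (iv D57457) (iv F257726)
theorem F262420 : act 5 n58615 = n57509 := d25_2 (iv F257729) D58615 (iv D57509)
theorem F262421 : act 6 n58615 = n57550 := d26_2 (iv F257730) D58615 (iv D57550)
theorem F262422 : act 7 n58615 = n57931 := d27_2 (iv F257731) D58615 (iv D57931)
theorem F262423 : act 8 n58615 = n57706 := d28_2 D57454 D58615 (iv D57706) (iv D56536) (iv F252574)
theorem F262424 : act 9 n58615 = n57468 := d29_2 (iv F257732) D58615 (iv D57468)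
def n58616 : Q := act 4 n57455
theorem D58616 : act 4 n57455 = n58616 := rfl
theorem F262425 : act 0 n58616 = n58139 := d3_1 D58616 F260407 (iv F257733)
theorem F262426 : act 1 n58616 = n57458 := d11_1 D58616 (iv D57458) (iv F257734)
theorem F262427 : act 2 n58616 = n57938 := d18_1 D58616 (iv D57938) (iv F257735)
theorem F262428 : act 5 n58616 = n57487 := d30_2 (iv F257736) D58616 (iv D57487) F252811 (iv F252617)
theorem F262429 : act 6 n58616 = n57551 := d31_2 (iv F257737) D58616 (iv D57551)
theorem F262430 : act 7 n58616 = n57939 := d32_2 (iv F257738) D58616 (iv D57939)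
theorem F262431 : act 8 n58616 = n58616 := d33_2 F257739 D58616 (iv D58616)
theorem F262432 : act 9 n58616 = n57469 := d34_2 (iv F257740) D58616 (iv D57469)
def n58617 : Q := act 3 n57456
theorem D58617 : act 3 n57456 = n58617 := rfl
theorem F262433 : act 1 n58617 = n57706 := d10_1 D58617 (iv D57706) (iv F257741)
theorem F262434 : act 5 n58617 = n57677 := d25_2 (iv F257743) D58617 (iv D57677)
theorem F262435 : act 6 n58617 = n58105 := d26_2 (iv F257744) D58617 (iv D58105)
theorem F262436 : act 7 n58617 = n58189 := d27_2 (iv F257745) D58617 (iv D58189)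
theorem F262437 : act 8 n58617 = n57457 := d28_2 D57456 D58617 (iv D57457) (iv D56268) (iv F252586)
theorem F262438 : act 9 n58617 = n58195 := d29_2 (iv F257746) D58617 (iv D58195)
def n58618 : Q := act 2 n57457
theorem D58618 : act 2 n57457 = n58618 := rfl
theorem F262439 : act 3 n58618 = n57461 := d17_2 D57457 D58618 (iv D57461) (iv D56272) (iv F252591)
theorem F262440 : act 6 n58618 = n58106 := d20_2 (iv F257747) D58618 (iv D58106)
theorem F262441 : act 9 n58618 = n57471 := d23_2 (iv F257748) D58618 (iv D57471)
def n58619 : Q := act 4 n57457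
theorem D58619 : act 4 n57457 = n58619 := rfl
theorem F262442 : act 3 n58619 = n57458 := d24_1 D58619 (iv D57458) (iv D56269) (iv F252592) D57457
theorem F262443 : act 6 n58619 = n58107 := d31_2 (iv F257747) D58619 (iv D58107)
theorem F262444 : act 9 n58619 = n57472 := d34_2 (iv F257748) D58619 (iv D57472)
def n58620 : Q := act 5 n57458
theorem D58620 : act 5 n57458 = n58620 := rfl
theorem F262445 : act 0 n58620 = n57567 := d4_1 D58620 (iv F262311) F262308
theorem F262446 : act 1 n58620 = n57487 := d12_1 D58620 (iv F262428) F262426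
theorem F262447 : act 2 n58620 = n57562 := d19_1 D58620 (iv D57562) (iv F257749)
theorem F262448 : act 4 n58620 = n57462 := d30_1 D58620 (iv D57462) (iv D56274) (iv F252596) D57458
theorem F262449 : act 7 n58620 = n57508 := d36_2 F262333 D58620 (iv F262331)
theorem F262450 : act 8 n58620 = n58620 := d37_2 F257751 D58620 (iv D58620)
theorem F262451 : act 9 n58620 = n57473 := d38_2 (iv F257752) D58620 (iv D57473)
theorem F262452 : act 6 n57611 = n58620 := d41_3 F262451 (iv F260992) F260995
def n58621 : Q := act 3 n57459
theorem D58621 : act 3 n57459 = n58621 := rfl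
theorem F262453 : act 0 n58621 = n57927 := d2_1 D58621 (iv D57927) (iv F257753)
theorem F262454 : act 1 n58621 = n57504 := d10_1 D58621 (iv D57504) (iv F257754)
theorem F262455 : act 5 n58621 = n57481 := d25_2 (iv F257757) D58621 (iv D57481)
theorem F262456 : act 6 n58621 = n57460 := d26_2 (iv F257758) D58621 (iv D57460)
theorem F262457 : act 7 n58621 = n57486 := d27_2 (iv F257759) D58621 (iv D57486)
theorem F262458 : act 8 n58621 = n58178 := d28_2 D57459 D58621 (iv D58178) (iv D57007) (iv F252603)
theorem F262459 : act 9 n58621 = n57474 := d29_2 (iv F257760) D58621 (iv D57474)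
def n58622 : Q := act 2 n57460
theorem D58622 : act 2 n57460 = n58622 := rfl
theorem F262460 : act 5 n58622 = n57461 := d19_2 (iv F257761) D58622 (iv D57461)
theorem F262461 : act 9 n58622 = n57475 := d23_2 (iv F257762) D58622 (iv D57475)
def n58623 : Q := act 4 n57460
theorem D58623 : act 4 n57460 = n58623 := rfl
theorem F262462 : act 3 n58623 = n57465 := d24_1 D58623 (iv D57465) (iv D56276) (iv F252608) D57460
theorem F262463 : act 5 n58623 = n57565 := d30_2 (iv F257761) D58623 (iv D57565) F253264 (iv F252611)
theorem F262464 : act 9 n58623 = n57476 := d34_2 (iv F257762) D58623 (iv D57476)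
def n58624 : Q := act 1 n57461
theorem D58624 : act 1 n57461 = n58624 := rfl
theorem F262465 : act 4 n58624 = n57566 := d11_2 (iv F257763) D58624 (iv D57566)
theorem F262466 : act 6 n58624 = n58109 := d13_2 (iv F257764) D58624 (iv D58109)
theorem F262467 : act 9 n58624 = n57477 := d16_2 (iv F257765) D58624 (iv D57477)
def n58625 : Q := act 4 n57463
theorem D58625 : act 4 n57463 = n58625 := rfl
theorem F262468 : act 0 n58625 = n57938 := d3_1 D58625 (iv D57938) (iv F257774)
theorem F262469 : act 1 n58625 = n57508 := d11_1 D58625 (iv D57508) (iv F257775)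
theorem F262470 : act 2 n58625 = n58139 := d18_1 D58625 F260407 (iv F257776)
theorem F262471 : act 5 n58625 = n57939 := d30_2 (iv F257777) D58625 (iv D57939) F254876 (iv F252651)
theorem F262472 : act 6 n58625 = n57465 := d31_2 (iv F257778) D58625 (iv D57465)
theorem F262473 : act 7 n58625 = n57487 := d32_2 (iv F257779) D58625 (iv D57487)
theorem F262474 : act 8 n58625 = n58625 := d33_2 F257780 D58625 (iv D58625)
theorem F262475 : act 9 n58625 = n57478 := d34_2 (iv F257781) D58625 (iv D57478)
def n58626 : Q := act 4 n57464
theorem D58626 : act 4 n57464 = n58626 := rfl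
theorem F262476 : act 0 n58626 = n57551 := d3_1 D58626 (iv D57551) (iv F257782)
theorem F262477 : act 1 n58626 = n57526 := d11_1 D58626 (iv D57526) (iv F257789)
theorem F262478 : act 2 n58626 = n57465 := d18_1 D58626 (iv D57465) D57464
theorem F262479 : act 5 n58626 = n57571 := d30_2 (iv F257784) D58626 (iv D57571) F253294 (iv F252642)
theorem F262480 : act 6 n58626 = n58139 := d31_2 (iv F257785) D58626 F260407
theorem F262481 : act 7 n58626 = n57503 := d32_2 (iv F257786) D58626 (iv D57503)
theorem F262482 : act 8 n58626 = n58626 := d33_2 F257787 D58626 (iv D58626)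
theorem F262483 : act 9 n58626 = n57479 := d34_2 (iv F257788) D58626 (iv D57479)
def n58627 : Q := act 2 n57466
theorem D58627 : act 2 n57466 = n58627 := rfl
theorem F262484 : act 3 n58627 = n58152 := d17_2 D57466 D58627 (iv D58152) (iv D56980) (iv F252657)
theorem F262485 : act 4 n58627 = n57573 := d18_2 (iv F257794) D58627 (iv D57573)
theorem F262486 : act 5 n58627 = n58137 := d19_2 (iv F257795) D58627 (iv D58137)
theorem F262487 : act 6 n58627 = n57467 := d20_2 (iv F257796) D58627 (iv D57467)
theorem F262488 : act 7 n58627 = n57928 := d21_2 (iv F257797) D58627 (iv D57928)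
theorem F262489 : act 8 n58627 = n57656 := d22_2 (iv F257798) D58627 (iv D57656)
theorem F262490 : act 9 n58627 = n58161 := d23_2 (iv F257799) D58627 (iv D58161)
def n58628 : Q := act 1 n57467
theorem D58628 : act 1 n57467 = n58628 := rfl
theorem F262491 : act 4 n58628 = n57583 := d11_2 (iv F257800) D58628 (iv D57583)
theorem F262492 : act 7 n58628 = n57477 := d14_2 (iv F257801) D58628 (iv D57477)
theorem F262493 : act 8 n58628 = n57660 := d15_2 (iv F257802) D58628 (iv D57660)
def n58629 : Q := act 2 n57468
theorem D58629 : act 2 n57468 = n58629 := rfl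
theorem F262494 : act 3 n58629 = n57573 := d17_2 D57468 D58629 (iv D57573) (iv D56399) (iv F252667)
theorem F262495 : act 6 n58629 = n57579 := d20_2 (iv F257804) D58629 (iv D57579)
theorem F262496 : act 7 n58629 = n58147 := d21_2 (iv F257805) D58629 (iv D58147)
def n58630 : Q := act 4 n57468
theorem D58630 : act 4 n57468 = n58630 := rfl
theorem F262497 : act 0 n58630 = n58164 := d3_1 D58630 (iv F260956) F260954
theorem F262498 : act 1 n58630 = n57472 := d11_1 D58630 (iv D57472) (iv F257803)
theorem F262499 : act 3 n58630 = n57469 := d24_1 D58630 (iv D57469) (iv D56282) (iv F252668) D57468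
theorem F262500 : act 5 n58630 = n58158 := d30_2 F262282 D58630 (iv D58158) (iv F257872) (iv F262281)
theorem F262501 : act 6 n58630 = n57580 := d31_2 (iv F257804) D58630 (iv D57580)
theorem F262502 : act 7 n58630 = n58148 := d32_2 (iv F257805) D58630 (iv D58148)
def n58631 : Q := act 2 n57470
theorem D58631 : act 2 n57470 = n58631 := rfl
theorem F262503 : act 0 n58631 = n57658 := d1_1 D58631 (iv D57658) (iv F257813)
theorem F262504 : act 3 n58631 = n57662 := d17_2 D57470 D58631 (iv D57662) (iv D56490) (iv F252679)
theorem F262505 : act 5 n58631 = n57636 := d19_2 (iv F257814) D58631 (iv D57636)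
theorem F262506 : act 6 n58631 = n58114 := d20_2 (iv F257815) D58631 (iv D58114)
theorem F262507 : act 7 n58631 = n57637 := d21_2 (iv F257816) D58631 (iv D57637)
theorem F262508 : act 8 n58631 = n57471 := d22_2 (iv F257817) D58631 (iv D57471)
theorem F262509 : act 9 n58631 = n58197 := d23_2 (iv F257818) D58631 (iv D58197)
def n58632 : Q := act 4 n57470
theorem D58632 : act 4 n57470 = n58632 := rfl
theorem F262510 : act 0 n58632 = n57659 := d3_1 D58632 (iv D57659) (iv F257813)
theorem F262511 : act 3 n58632 = n57480 := d24_1 D58632 (iv D57480) (iv D56296) (iv F252680) D57470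
theorem F262512 : act 5 n58632 = n57715 := d30_2 (iv F257814) D58632 (iv D57715) F253961 (iv F253592)
theorem F262513 : act 6 n58632 = n58115 := d31_2 (iv F257815) D58632 (iv D58115)
theorem F262514 : act 7 n58632 = n57638 := d32_2 (iv F257816) D58632 (iv D57638)
theorem F262515 : act 8 n58632 = n57472 := d33_2 (iv F257817) D58632 (iv D57472)
theorem F262516 : act 9 n58632 = n58198 := d34_2 (iv F257818) D58632 (iv D58198)
def n58633 : Q := act 1 n57471
theorem D58633 : act 1 n57471 = n58633 := rfl
theorem F262517 : act 3 n58633 = n57477 := d10_2 (iv F257819) D58633 (iv D57477)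
theorem F262518 : act 6 n58633 = n58118 := d13_2 (iv F257820) D58633 (iv D58118)
def n58634 : Q := act 4 n57471
theorem D58634 : act 4 n57471 = n58634 := rfl
theorem F262519 : act 2 n58634 = n57472 := d18_1 D58634 (iv D57472) D57471
theorem F262520 : act 3 n58634 = n57602 := d24_1 D58634 (iv D57602) F253408 (iv F252697) (iv F257819)
theorem F262521 : act 6 n58634 = n58119 := d31_2 (iv F257820) D58634 (iv D58119)
def n58635 : Q := act 5 n57472
theorem D58635 : act 5 n57472 = n58635 := rfl
theorem F262522 : act 0 n58635 = n57582 := d4_1 D58635 (iv F262359) F262356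
theorem F262523 : act 1 n58635 = n58158 := d12_1 D58635 (iv F262500) F262498
theorem F262524 : act 3 n58635 = n57473 := d25_1 D58635 (iv D57473) (iv F257821)
theorem F262525 : act 4 n58635 = n57512 := d30_1 D58635 F258045 (iv F257648) F257649 D57472
theorem F262526 : act 7 n58635 = n57522 := d36_2 F262374 D58635 (iv F262372)
theorem F262527 : act 8 n58635 = n57715 := d37_2 F262515 D58635 (iv F262512)
def n58636 : Q := act 2 n57474
theorem D58636 : act 2 n57474 = n58636 := rfl
theorem F262528 : act 0 n58636 = n58152 := d1_1 D58636 (iv D58152) (iv F257829)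
theorem F262529 : act 5 n58636 = n57488 := d19_2 (iv F257831) D58636 (iv D57488)
theorem F262530 : act 6 n58636 = n57475 := d20_2 (iv F257832) D58636 (iv D57475)
theorem F262531 : act 7 n58636 = n58157 := d21_2 (iv F257833) D58636 (iv D58157)
theorem F262532 : act 8 n58636 = n57666 := d22_2 (iv F257834) D58636 (iv D57666)
def n58637 : Q := act 4 n57474
theorem D58637 : act 4 n57474 = n58637 := rfl
theorem F262533 : act 0 n58637 = n58153 := d3_1 D58637 (iv D58153) (iv F257829)
theorem F262534 : act 1 n58637 = n57522 := d11_1 D58637 (iv D57522) (iv F257830)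
theorem F262535 : act 3 n58637 = n57478 := d24_1 D58637 (iv D57478) (iv D56290) (iv F252691) D57474
theorem F262536 : act 5 n58637 = n58148 := d30_2 (iv F257831) D58637 (iv D58148) (iv F257589) F257588
theorem F262537 : act 6 n58637 = n57476 := d31_2 (iv F257832) D58637 (iv D57476)
theorem F262538 : act 7 n58637 = n58158 := d32_2 (iv F257833) D58637 (iv D58158)
theorem F262539 : act 8 n58637 = n57667 := d33_2 (iv F257834) D58637 (iv D57667)
def n58638 : Q := act 1 n57475
theorem D58638 : act 1 n57475 = n58638 := rfl
theorem F262540 : act 5 n58638 = n57477 := d12_2 (iv F257835) D58638 (iv D57477)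
theorem F262541 : act 8 n58638 = n57668 := d15_2 (iv F257836) D58638 (iv D57668)
def n58639 : Q := act 4 n57475
theorem D58639 : act 4 n57475 = n58639 := rfl
theorem F262542 : act 2 n58639 = n57476 := d18_1 D58639 (iv D57476) D57475
theorem F262543 : act 5 n58639 = n57609 := d30_2 (iv F257835) D58639 (iv D57609) F253420 (iv F252697)
theorem F262544 : act 8 n58639 = n57669 := d33_2 (iv F257836) D58639 (iv D57669)
def n58640 : Q := act 0 n57477
theorem D58640 : act 0 n57477 = n58640 := rfl
theorem F262545 : act 4 n58640 = n57610 := d3_2 (iv F257840) D58640 (iv D57610)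
theorem F262546 : act 6 n58640 = n58123 := d5_2 (iv F257841) D58640 (iv D58123)
theorem F262547 : act 8 n58640 = n57670 := d7_2 (iv F257842) D58640 (iv D57670)
def n58641 : Q := act 3 n57479
theorem D58641 : act 3 n57479 = n58641 := rfl
theorem F262548 : act 0 n58641 = n57580 := d2_1 D58641 F258361 (iv F257850)
theorem F262549 : act 1 n58641 = n58175 := d10_1 D58641 F260471 (iv F257851)
theorem F262550 : act 4 n58641 = n57510 := d24_2 D57479 D58641 (iv D57510) F252978 (iv F252714)
theorem F262551 : act 5 n58641 = n57617 := d25_2 (iv F257853) D58641 (iv D57617)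
theorem F262552 : act 6 n58641 = n58164 := d26_2 (iv F257854) D58641 F260452
theorem F262553 : act 7 n58641 = n57519 := d27_2 (iv F257855) D58641 F258072
def n58642 : Q := act 2 n57481
theorem D58642 : act 2 n57481 = n58642 := rfl
theorem F262554 : act 0 n58642 = n57928 := d1_1 D58642 (iv D57928) (iv F257864)
theorem F262555 : act 3 n58642 = n58157 := d17_2 D57481 D58642 (iv D58157) (iv D56985) (iv F252767)
theorem F262556 : act 4 n58642 = n58131 := d18_2 (iv F257866) D58642 (iv D58131)
theorem F262557 : act 6 n58642 = n58099 := d20_2 (iv F257867) D58642 (iv D58099)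
theorem F262558 : act 8 n58642 = n58179 := d22_2 (iv F257868) D58642 (iv D58179)
theorem F262559 : act 9 n58642 = n57488 := d23_2 (iv F257869) D58642 (iv D57488)
def n58643 : Q := act 2 n57482
theorem D58643 : act 2 n57482 = n58643 := rfl
theorem F262560 : act 0 n58643 = n58161 := d1_1 D58643 (iv D58161) (iv F257870)
theorem F262561 : act 5 n58643 = n58157 := d19_2 (iv F257872) D58643 (iv D58157)
theorem F262562 : act 7 n58643 = n57488 := d21_2 (iv F257873) D58643 (iv D57488)
theorem F262563 : act 8 n58643 = n57680 := d22_2 (iv F257874) D58643 (iv D57680)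
def n58644 : Q := act 8 n57483
theorem D58644 : act 8 n57483 = n58644 := rfl
theorem F262564 : act 0 n58644 = n57536 := d7_1 D58644 (iv D57536) (iv F257875)
theorem F262565 : act 1 n58644 = n57485 := d15_1 D58644 (iv D57485) (iv F257876)
theorem F262566 : act 2 n58644 = n57822 := d22_1 D58644 (iv D57822) (iv F257877)
theorem F262567 : act 4 n58644 = n58644 := d33_1 D58644 (iv D58644) F257879
theorem F262568 : act 5 n58644 = n57489 := d37_1 D58644 (iv D57489) (iv F257880)
theorem F262569 : act 6 n58644 = n57575 := d40_1 D58644 (iv D57575) (iv F257881)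
theorem F262570 : act 7 n58644 = n57494 := d42_1 D58644 (iv D57494) (iv F257882)
theorem F262571 : act 9 n58644 = n57685 := d44_2 D57483 D58644 (iv D57685) (iv D56515) (iv F252783)
def n58645 : Q := act 3 n57484
theorem D58645 : act 3 n57484 = n58645 := rfl
theorem F262572 : act 0 n58645 = n57552 := d2_1 D58645 (iv D57552) (iv F257883)
theorem F262573 : act 1 n58645 = n57486 := d10_1 D58645 (iv D57486) (iv F257884)
theorem F262574 : act 5 n58645 = n57497 := d25_2 (iv F257887) D58645 (iv D57497)
theorem F262575 : act 6 n58645 = n57578 := d26_2 (iv F257888) D58645 (iv D57578)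
theorem F262576 : act 7 n58645 = n57504 := d27_2 (iv F257889) D58645 (iv D57504)
theorem F262577 : act 9 n58645 = n57512 := d29_2 (iv F257890) D58645 (iv D57512)
def n58646 : Q := act 3 n57485
theorem D58646 : act 3 n57485 = n58646 := rfl
theorem F262578 : act 0 n58646 = n57655 := d2_1 D58646 (iv D57655) (iv F257891)
theorem F262579 : act 5 n58646 = n57635 := d25_2 (iv F257894) D58646 (iv D57635)
theorem F262580 : act 6 n58646 = n58112 := d26_2 (iv F257895) D58646 (iv D58112)
theorem F262581 : act 7 n58646 = n58178 := d27_2 (iv F257896) D58646 (iv D58178)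
theorem F262582 : act 8 n58646 = n57486 := d28_2 D57485 D58646 (iv D57486) (iv D56305) (iv F252800)
theorem F262583 : act 9 n58646 = n58187 := d29_2 (iv F257897) D58646 (iv D58187)
def n58647 : Q := act 2 n57486
theorem D58647 : act 2 n57486 = n58647 := rfl
theorem F262584 : act 0 n58647 = n58137 := d1_1 D58647 (iv D58137) (iv F257898)
theorem F262585 : act 3 n58647 = n57488 := d17_2 D57486 D58647 (iv D57488) (iv D56307) (iv F252806)
theorem F262586 : act 6 n58647 = n58116 := d20_2 (iv F257899) D58647 (iv D58116)
theorem F262587 : act 9 n58647 = n58157 := d23_2 (iv F257900) D58647 (iv D58157)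
def n58648 : Q := act 4 n57486
theorem D58648 : act 4 n57486 = n58648 := rfl
theorem F262588 : act 0 n58648 = n58138 := d3_1 D58648 (iv D58138) (iv F257898)
theorem F262589 : act 3 n58648 = n57487 := d24_1 D58648 (iv D57487) (iv D56306) (iv F252807) D57486
theorem F262590 : act 6 n58648 = n58117 := d31_2 (iv F257899) D58648 (iv D58117)
theorem F262591 : act 9 n58648 = n58158 := d34_2 (iv F257900) D58648 (iv D58158)
def n58649 : Q := act 1 n57488
theorem D58649 : act 1 n57488 = n58649 := rfl
theorem F262592 : act 2 n58649 = n57523 := d9_2 D57488 D58649 (iv D57523) (iv D56344) (iv F252815)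
theorem F262593 : act 6 n58649 = n58122 := d13_2 (iv F257905) D58649 (iv D58122)
theorem F262594 : act 8 n58649 = n57684 := d15_2 (iv F257906) D58649 (iv D57684)
def n58650 : Q := act 3 n57489
theorem D58650 : act 3 n57489 = n58650 := rfl
theorem F262595 : act 0 n58650 = n57537 := d2_1 D58650 (iv D57537) (iv F257907)
theorem F262596 : act 1 n58650 = n57635 := d10_1 D58650 (iv D57635) (iv F257908)
theorem F262597 : act 4 n58650 = n57677 := d24_2 (iv F257910) D58650 (iv D57677) F253782 (iv F252828)
theorem F262598 : act 6 n58650 = n57631 := d26_2 (iv F257911) D58650 (iv D57631)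
theorem F262599 : act 7 n58650 = n57495 := d27_2 (iv F257912) D58650 (iv D57495)
theorem F262600 : act 8 n58650 = n57497 := d28_2 D57489 D58650 (iv D57497) (iv D56318) (iv F252821)
theorem F262601 : act 9 n58650 = n57686 := d29_2 (iv F257913) D58650 (iv D57686)
def n58651 : Q := act 8 n57490
theorem D58651 : act 8 n57490 = n58651 := rfl
theorem F262602 : act 0 n58651 = n57541 := d7_1 D58651 (iv D57541) (iv F257914)
theorem F262603 : act 1 n58651 = n58016 := d15_1 D58651 (iv D58016) (iv F257915)
theorem F262604 : act 2 n58651 = n57500 := d22_1 D58651 (iv D57500) (iv F257916)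
theorem F262605 : act 4 n58651 = n58651 := d33_1 D58651 (iv D58651) F257918
theorem F262606 : act 5 n58651 = n57827 := d37_1 D58651 (iv D57827) (iv F257919)
theorem F262607 : act 6 n58651 = n57966 := d40_1 D58651 (iv D57966) (iv F257920)
theorem F262608 : act 7 n58651 = n57810 := d42_1 D58651 (iv D57810) (iv F257921)
theorem F262609 : act 9 n58651 = n58013 := d44_2 D57490 D58651 (iv D58013) (iv D56842) (iv F252839)
def n58652 : Q := act 8 n57491
theorem D58652 : act 8 n57491 = n58652 := rfl
theorem F262610 : act 0 n58652 = n57542 := d7_1 D58652 (iv D57542) (iv F257922)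
theorem F262611 : act 1 n58652 = n58045 := d15_1 D58652 (iv D58045) (iv F257923)
theorem F262612 : act 2 n58652 = n57494 := d22_1 D58652 (iv D57494) (iv F257924)
theorem F262613 : act 4 n58652 = n58652 := d33_1 D58652 (iv D58652) F257926
theorem F262614 : act 5 n58652 = n57492 := d37_1 D58652 (iv D57492) (iv F257927)
theorem F262615 : act 6 n58652 = n57848 := d40_1 D58652 (iv D57848) (iv F257928)
theorem F262616 : act 7 n58652 = n57822 := d42_1 D58652 (iv D57822) (iv F257929)
theorem F262617 : act 9 n58652 = n57687 := d44_2 D57491 D58652 (iv D57687) (iv D56517) (iv F252848)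
def n58653 : Q := act 3 n57492
theorem D58653 : act 3 n57492 = n58653 := rfl
theorem F262618 : act 0 n58653 = n57543 := d2_1 D58653 (iv D57543) (iv F257930)
theorem F262619 : act 1 n58653 = n58047 := d10_1 D58653 (iv D58047) (iv F257931)
theorem F262620 : act 6 n58653 = n57968 := d26_2 (iv F257934) D58653 (iv D57968)
theorem F262621 : act 7 n58653 = n58061 := d27_2 (iv F257935) D58653 (iv D58061)
theorem F262622 : act 9 n58653 = n57688 := d29_2 (iv F257936) D58653 (iv D57688)
def n58654 : Q := act 4 n57493
theorem D58654 : act 4 n57493 = n58654 := rfl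
theorem F262623 : act 0 n58654 = n57544 := d3_1 D58654 (iv D57544) (iv F257937)
theorem F262624 : act 1 n58654 = n58093 := d11_1 D58654 (iv D58093) (iv F257938)
theorem F262625 : act 2 n58654 = n58125 := d18_1 D58654 (iv D58125) (iv F257939)
theorem F262626 : act 6 n58654 = n57989 := d31_2 (iv F257941) D58654 (iv D57989)
theorem F262627 : act 7 n58654 = n58096 := d32_2 (iv F257942) D58654 (iv D58096)
theorem F262628 : act 8 n58654 = n58654 := d33_2 F257943 D58654 (iv D58654)
theorem F262629 : act 9 n58654 = n57689 := d34_2 (iv F257944) D58654 (iv D57689)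
def n58655 : Q := act 3 n57494
theorem D58655 : act 3 n57494 = n58655 := rfl
theorem F262630 : act 0 n58655 = n57545 := d2_1 D58655 (iv D57545) (iv F257945)
theorem F262631 : act 1 n58655 = n58178 := d10_1 D58655 (iv D58178) (iv F257946)
theorem F262632 : act 5 n58655 = n57495 := d25_2 (iv F257948) D58655 (iv D57495)
theorem F262633 : act 6 n58655 = n57962 := d26_2 (iv F257949) D58655 (iv D57962)
theorem F262634 : act 8 n58655 = n57504 := d28_2 D57494 D58655 (iv D57504) (iv D56325) (iv F252864)
theorem F262635 : act 9 n58655 = n57690 := d29_2 (iv F257950) D58655 (iv D57690)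
def n58656 : Q := act 2 n57495
theorem D58656 : act 2 n57495 = n58656 := rfl
theorem F262636 : act 0 n58656 = n57546 := d1_1 D58656 (iv D57546) (iv F257951)
theorem F262637 : act 4 n58656 = n58200 := d18_2 (iv F257953) D58656 (iv D58200)
theorem F262638 : act 6 n58656 = n57972 := d20_2 (iv F257954) D58656 (iv D57972)
theorem F262639 : act 8 n58656 = n57505 := d22_2 (iv F257955) D58656 (iv D57505)
theorem F262640 : act 9 n58656 = n57691 := d23_2 (iv F257956) D58656 (iv D57691)
def n58657 : Q := act 3 n57496
theorem D58657 : act 3 n57496 = n58657 := rfl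
theorem F262641 : act 0 n58657 = n57550 := d2_1 D58657 (iv D57550) (iv F257957)
theorem F262642 : act 1 n58657 = n57517 := d10_1 D58657 (iv D57517) (iv F257958)
theorem F262643 : act 5 n58657 = n57514 := d25_2 (iv F257961) D58657 (iv D57514)
theorem F262644 : act 6 n58657 = n57572 := d26_2 (iv F257962) D58657 (iv D57572)
theorem F262645 : act 7 n58657 = n57502 := d27_2 (iv F257963) D58657 (iv D57502)
theorem F262646 : act 8 n58657 = n57815 := d28_2 D57496 D58657 (iv D57815) (iv D56645) (iv F252876)
theorem F262647 : act 9 n58657 = n57510 := d29_2 (iv F257964) D58657 (iv D57510)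
def n58658 : Q := act 2 n57497
theorem D58658 : act 2 n57497 = n58658 := rfl
theorem F262648 : act 0 n58658 = n57553 := d1_1 D58658 (iv D57553) (iv F257965)
theorem F262649 : act 7 n58658 = n57505 := d21_2 (iv F257966) D58658 (iv D57505)
theorem F262650 : act 9 n58658 = n57513 := d23_2 (iv F257967) D58658 (iv D57513)
def n58659 : Q := act 3 n57498
theorem D58659 : act 3 n57498 = n58659 := rfl
theorem F262651 : act 0 n58659 = n57578 := d2_1 D58659 (iv D57578) (iv F257968)
theorem F262652 : act 1 n58659 = n57502 := d10_1 D58659 (iv D57502) (iv F257969)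
theorem F262653 : act 5 n58659 = n57510 := d25_2 (iv F257972) D58659 (iv D57510)
theorem F262654 : act 6 n58659 = n57552 := d26_2 (iv F257973) D58659 (iv D57552)
theorem F262655 : act 7 n58659 = n57517 := d27_2 (iv F257974) D58659 (iv D57517)
theorem F262656 : act 9 n58659 = n57514 := d29_2 (iv F257975) D58659 (iv D57514)
def n58660 : Q := act 4 n57499
theorem D58660 : act 4 n57499 = n58660 := rfl
theorem F262657 : act 0 n58660 = n57611 := d3_1 D58660 (iv D57611) (iv F257976)
theorem F262658 : act 1 n58660 = n57503 := d11_1 D58660 (iv D57503) (iv F257977)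
theorem F262659 : act 2 n58660 = n57616 := d18_1 D58660 F258488 (iv F257978)
theorem F262660 : act 5 n58660 = n57615 := d30_2 (iv F257979) D58660 (iv D57615) F253459 (iv F252939)
theorem F262661 : act 6 n58660 = n57567 := d31_2 (iv F257980) D58660 (iv D57567)
theorem F262662 : act 7 n58660 = n57526 := d32_2 (iv F257981) D58660 (iv D57526)
theorem F262663 : act 8 n58660 = n58660 := d33_2 F257982 D58660 (iv D58660)
theorem F262664 : act 9 n58660 = n57516 := d34_2 (iv F257983) D58660 (iv D57516)
def n58661 : Q := act 3 n57500
theorem D58661 : act 3 n57500 = n58661 := rfl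
theorem F262665 : act 0 n58661 = n57558 := d2_1 D58661 (iv D57558) (iv F257984)
theorem F262666 : act 5 n58661 = n57833 := d25_2 (iv F257986) D58661 (iv D57833)
theorem F262667 : act 6 n58661 = n58127 := d26_2 (iv F257987) D58661 (iv D58127)
theorem F262668 : act 7 n58661 = n57815 := d27_2 (iv F257988) D58661 (iv D57815)
theorem F262669 : act 8 n58661 = n57502 := d28_2 D57500 D58661 (iv D57502) (iv D56323) (iv F252906)
def n58662 : Q := act 3 n57501
theorem D58662 : act 3 n57501 = n58662 := rfl
theorem F262670 : act 0 n58662 = n57559 := d2_1 D58662 (iv D57559) (iv F257989)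
theorem F262671 : act 1 n58662 = n57510 := d10_1 D58662 (iv D57510) (iv F257990)
theorem F262672 : act 4 n58662 = n58175 := d24_2 (iv F257992) D58662 F260471 F255622 (iv F252947)
theorem F262673 : act 5 n58662 = n57502 := d25_2 (iv F257993) D58662 (iv D57502)
theorem F262674 : act 6 n58662 = n57605 := d26_2 (iv F257994) D58662 (iv D57605)
theorem F262675 : act 7 n58662 = n57514 := d27_2 (iv F257995) D58662 (iv D57514)
theorem F262676 : act 8 n58662 = n57833 := d28_2 D57501 D58662 (iv D57833) (iv D56662) (iv F252914)
theorem F262677 : act 9 n58662 = n57517 := d29_2 (iv F257996) D58662 (iv D57517)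
def n58663 : Q := act 2 n57502
theorem D58663 : act 2 n57502 = n58663 := rfl
theorem F262678 : act 0 n58663 = n57560 := d1_1 D58663 (iv D57560) (iv F257997)
theorem F262679 : act 3 n58663 = n57505 := d17_2 D57502 D58663 (iv D57505) (iv D56326) (iv F252920)
theorem F262680 : act 6 n58663 = n58128 := d20_2 (iv F257998) D58663 (iv D58128)
theorem F262681 : act 9 n58663 = n57518 := d23_2 (iv F257999) D58663 (iv D57518)
def n58664 : Q := act 4 n57502
theorem D58664 : act 4 n57502 = n58664 := rfl
theorem F262682 : act 0 n58664 = n57561 := d3_1 D58664 (iv D57561) (iv F257997)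
theorem F262683 : act 3 n58664 = n57503 := d24_1 D58664 (iv D57503) (iv D56324) (iv F252921) D57502
theorem F262684 : act 6 n58664 = n58129 := d31_2 (iv F257998) D58664 (iv D58129)
theorem F262685 : act 9 n58664 = n57519 := d34_2 (iv F257999) D58664 (iv D57519)
def n58665 : Q := act 5 n57503
theorem D58665 : act 5 n57503 = n58665 := rfl
theorem F262686 : act 0 n58665 = n57562 := d4_1 D58665 (iv D57562) (iv F258000)
theorem F262687 : act 1 n58665 = n57615 := d12_1 D58665 (iv F262660) F262658
theorem F262688 : act 2 n58665 = n57567 := d19_1 D58665 (iv F262311) F262310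
theorem F262689 : act 4 n58665 = n57506 := d30_1 D58665 (iv D57506) (iv D56329) (iv F252925) D57503
theorem F262690 : act 6 n58665 = n57616 := d35_2 (iv F258001) D58665 (iv D57616) (iv F258483) F258482
theorem F262691 : act 7 n58665 = n57571 := d36_2 F262481 D58665 (iv F262479)
theorem F262692 : act 8 n58665 = n58665 := d37_2 F258002 D58665 (iv D58665)
theorem F262693 : act 9 n58665 = n57520 := d38_2 (iv F258003) D58665 (iv D57520)
def n58666 : Q := act 2 n57504
theorem D58666 : act 2 n57504 = n58666 := rfl
theorem F262694 : act 0 n58666 = n57564 := d1_1 D58666 (iv D57564) (iv F258004)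
theorem F262695 : act 5 n58666 = n57505 := d19_2 (iv F258005) D58666 (iv D57505)
theorem F262696 : act 9 n58666 = n57521 := d23_2 (iv F258006) D58666 (iv D57521)
def n58667 : Q := act 4 n57504
theorem D58667 : act 4 n57504 = n58667 := rfl
theorem F262697 : act 0 n58667 = n57565 := d3_1 D58667 (iv D57565) (iv F258004)
theorem F262698 : act 3 n58667 = n57508 := d24_1 D58667 (iv D57508) (iv D56330) (iv F252930) D57504
theorem F262699 : act 9 n58667 = n57522 := d34_2 (iv F258006) D58667 (iv D57522)
def n58668 : Q := act 1 n57505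
theorem D58668 : act 1 n57505 = n58668 := rfl
theorem F262700 : act 6 n58668 = n58130 := d13_2 (iv F258008) D58668 (iv D58130)
theorem F262701 : act 9 n58668 = n57523 := d16_2 (iv F258009) D58668 (iv D57523)
def n58669 : Q := act 4 n57507
theorem D58669 : act 4 n57507 = n58669 := rfl
theorem F262702 : act 0 n58669 = n57571 := d3_1 D58669 (iv D57571) (iv F258018)
theorem F262703 : act 1 n58669 = n58108 := d11_1 D58669 F260336 (iv F258019)
theorem F262704 : act 2 n58669 = n57508 := d18_1 D58669 (iv D57508) D57507
theorem F262705 : act 5 n58669 = n57551 := d30_2 (iv F258021) D58669 (iv D57551) F253209 (iv F252967)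
theorem F262706 : act 6 n58669 = n58124 := d31_2 (iv F258022) D58669 F260372
theorem F262707 : act 7 n58669 = n57562 := d32_2 (iv F258023) D58669 F258287
theorem F262708 : act 8 n58669 = n58669 := d33_2 F258024 D58669 (iv D58669)
theorem F262709 : act 9 n58669 = n57528 := d34_2 (iv F258025) D58669 (iv D57528)
def n58670 : Q := act 2 n57509
theorem D58670 : act 2 n57509 = n58670 := rfl
theorem F262710 : act 0 n58670 = n57573 := d1_1 D58670 (iv D57573) (iv F258029)
theorem F262711 : act 6 n58670 = n57513 := d20_2 (iv F258030) D58670 (iv D57513)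
theorem F262712 : act 7 n58670 = n58131 := d21_2 (iv F258031) D58670 (iv D58131)
theorem F262713 : act 8 n58670 = n57707 := d22_2 (iv F258032) D58670 (iv D57707)
def n58671 : Q := act 2 n57510
theorem D58671 : act 2 n57510 = n58671 := rfl
theorem F262714 : act 0 n58671 = n57579 := d1_1 D58671 (iv D57579) (iv F258033)
theorem F262715 : act 3 n58671 = n57513 := d17_2 D57510 D58671 (iv D57513) (iv D56336) (iv F252977)
theorem F262716 : act 7 n58671 = n57518 := d21_2 (iv F258034) D58671 (iv D57518)
def n58672 : Q := act 3 n57511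
theorem D58672 : act 3 n57511 = n58672 := rfl
theorem F262717 : act 0 n58672 = n57514 := d2_1 D58672 (iv D57514) (iv F258035)
theorem F262718 : act 1 n58672 = n57585 := d10_1 D58672 (iv D57585) (iv F258036)
theorem F262719 : act 5 n58672 = n57550 := d25_2 (iv F258039) D58672 (iv D57550)
theorem F262720 : act 6 n58672 = n57512 := d26_2 (iv F258040) D58672 (iv D57512)
theorem F262721 : act 7 n58672 = n57559 := d27_2 (iv F258041) D58672 (iv D57559)
theorem F262722 : act 8 n58672 = n57713 := d28_2 D57511 D58672 (iv D57713) (iv D56543) (iv F252983)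
theorem F262723 : act 9 n58672 = n57578 := d29_2 (iv F258042) D58672 (iv D57578)
def n58673 : Q := act 2 n57512
theorem D58673 : act 2 n57512 = n58673 := rfl
theorem F262724 : act 0 n58673 = n57581 := d1_1 D58673 (iv D57581) (iv F258043)
theorem F262725 : act 5 n58673 = n57513 := d19_2 (iv F258045) D58673 (iv D57513)
theorem F262726 : act 7 n58673 = n57521 := d21_2 (iv F258046) D58673 (iv D57521)
theorem F262727 : act 8 n58673 = n57714 := d22_2 (iv F258047) D58673 (iv D57714)
def n58674 : Q := act 1 n57513
theorem D58674 : act 1 n57513 = n58674 := rfl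
theorem F262728 : act 7 n58674 = n57523 := d14_2 (iv F258049) D58674 (iv D57523)
theorem F262729 : act 8 n58674 = n57716 := d15_2 (iv F258050) D58674 (iv D57716)
def n58675 : Q := act 2 n57514
theorem D58675 : act 2 n57514 = n58675 := rfl
theorem F262730 : act 6 n58675 = n57581 := d20_2 (iv F258052) D58675 (iv D57581)
theorem F262731 : act 8 n58675 = n57834 := d22_2 (iv F258053) D58675 (iv D57834)
def n58676 : Q := act 4 n57514
theorem D58676 : act 4 n57514 = n58676 := rfl
theorem F262732 : act 1 n58676 = n57519 := d11_1 D58676 (iv D57519) (iv F258051)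
theorem F262733 : act 3 n58676 = n57516 := d24_1 D58676 (iv D57516) (iv D56339) (iv F253004) D57514
theorem F262734 : act 6 n58676 = n57582 := d31_2 (iv F258052) D58676 (iv D57582)
theorem F262735 : act 7 n58676 = n58175 := d32_2 F262675 D58676 (iv F262672)
theorem F262736 : act 8 n58676 = n57835 := d33_2 (iv F258053) D58676 (iv D57835)
def n58677 : Q := act 4 n57515
theorem D58677 : act 4 n57515 = n58677 := rfl
theorem F262737 : act 0 n58677 = n57604 := d3_1 D58677 F258443 (iv F258054)
theorem F262738 : act 1 n58677 = n58102 := d11_1 D58677 F260323 (iv F258055)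
theorem F262739 : act 2 n58677 = n57516 := d18_1 D58677 (iv D57516) D57515
theorem F262740 : act 5 n58677 = n57569 := d30_2 (iv F258057) D58677 (iv D57569) F253283 F253033
theorem F262741 : act 6 n58677 = n57520 := d31_2 (iv F258058) D58677 F258076
theorem F262742 : act 7 n58677 = n58121 := d32_2 (iv F258059) D58677 F260365
theorem F262743 : act 8 n58677 = n57530 := d33_2 (iv F258060) D58677 (iv D57530)
theorem F262744 : act 9 n58677 = n57616 := d34_2 (iv F258061) D58677 F258488
def n58678 : Q := act 5 n57516
theorem D58678 : act 5 n57516 = n58678 := rfl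
theorem F262745 : act 0 n58678 = n58121 := d4_1 D58678 (iv F260991) F260988
theorem F262746 : act 1 n58678 = n57520 := d12_1 D58678 (iv D57520) (iv F258062)
theorem F262747 : act 2 n58678 = n57569 := d19_1 D58678 (iv F262740) F262739
theorem F262748 : act 4 n58678 = n57524 := d30_1 D58678 (iv D57524) (iv D56346) (iv F253007) D57516
theorem F262749 : act 6 n58678 = n58102 := d35_2 (iv F258063) D58678 (iv D58102) (iv F257661) F257660
theorem F262750 : act 7 n58678 = n57604 := d36_2 (iv F258064) D58678 F258444
theorem F262751 : act 8 n58678 = n57531 := d37_2 (iv F258065) D58678 (iv D57531)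
theorem F262752 : act 9 n58678 = n57615 := d38_2 F262664 D58678 (iv F262660)
def n58679 : Q := act 2 n57517
theorem D58679 : act 2 n57517 = n58679 := rfl
theorem F262753 : act 0 n58679 = n57599 := d1_1 D58679 (iv D57599) (iv F258066)
theorem F262754 : act 3 n58679 = n57521 := d17_2 D57517 D58679 (iv D57521) (iv D56343) (iv F253012)
theorem F262755 : act 5 n58679 = n57518 := d19_2 (iv F258067) D58679 (iv D57518)
def n58680 : Q := act 4 n57517
theorem D58680 : act 4 n57517 = n58680 := rfl
theorem F262756 : act 0 n58680 = n57600 := d3_1 D58680 (iv D57600) (iv F258066)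
theorem F262757 : act 3 n58680 = n57526 := d24_1 D58680 (iv D57526) (iv D56347) (iv F253013) D57517
theorem F262758 : act 6 n58680 = n58145 := d31_2 F260848 D58680 (iv F260846)
theorem F262759 : act 9 n58680 = n58175 := d34_2 F262677 D58680 (iv F262672)
def n58681 : Q := act 1 n57518
theorem D58681 : act 1 n57518 = n58681 := rfl
theorem F262760 : act 3 n58681 = n57523 := d10_2 (iv F258069) D58681 (iv D57523)
theorem F262761 : act 6 n58681 = n58133 := d13_2 (iv F258070) D58681 (iv D58133)
def n58682 : Q := act 4 n57518
theorem D58682 : act 4 n57518 = n58682 := rfl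
theorem F262762 : act 0 n58682 = n57602 := d3_1 D58682 (iv D57602) (iv F258068)
theorem F262763 : act 2 n58682 = n57519 := d18_1 D58682 (iv D57519) D57518
theorem F262764 : act 6 n58682 = n58134 := d31_2 (iv F258070) D58682 (iv D58134)
def n58683 : Q := act 5 n57519
theorem D58683 : act 5 n57519 = n58683 := rfl
theorem F262765 : act 0 n58683 = n57603 := d4_1 D58683 (iv D57603) (iv F258071)
theorem F262766 : act 3 n58683 = n57520 := d25_1 D58683 (iv D57520) (iv F258072)
theorem F262767 : act 7 n58683 = n57617 := d36_2 F262553 D58683 (iv F262551)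
def n58684 : Q := act 1 n57521
theorem D58684 : act 1 n57521 = n58684 := rfl
theorem F262768 : act 5 n58684 = n57523 := d12_2 (iv F258080) D58684 (iv D57523)
theorem F262769 : act 8 n58684 = n57727 := d15_2 (iv F258081) D58684 (iv D57727)
def n58685 : Q := act 4 n57521
theorem D58685 : act 4 n57521 = n58685 := rfl
theorem F262770 : act 0 n58685 = n57609 := d3_1 D58685 (iv D57609) (iv F258079)
theorem F262771 : act 2 n58685 = n57522 := d18_1 D58685 (iv D57522) D57521
theorem F262772 : act 8 n58685 = n57728 := d33_2 (iv F258081) D58685 (iv D57728)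
def n58686 : Q := act 0 n57523
theorem D58686 : act 0 n57523 = n58686 := rfl
theorem F262773 : act 1 n58686 = n57610 := d0_2 D57523 D58686 (iv D57610) (iv D56430) (iv F253023)
theorem F262774 : act 6 n58686 = n58136 := d5_2 (iv F258085) D58686 (iv D58136)
theorem F262775 : act 8 n58686 = n57729 := d7_2 (iv F258086) D58686 (iv D57729)
def n58687 : Q := act 4 n57525
theorem D58687 : act 4 n57525 = n58687 := rfl
theorem F262776 : act 0 n58687 = n57615 := d3_1 D58687 (iv D57615) (iv F258095)
theorem F262777 : act 1 n58687 = n58124 := d11_1 D58687 F260372 (iv F258096)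
theorem F262778 : act 2 n58687 = n57526 := d18_1 D58687 (iv D57526) D57525
theorem F262779 : act 5 n58687 = n57611 := d30_2 (iv F258098) D58687 (iv D57611) F253427 F253054
theorem F262780 : act 6 n58687 = n58108 := d31_2 (iv F258099) D58687 F260336
theorem F262781 : act 7 n58687 = n57616 := d32_2 (iv F258100) D58687 F258488
theorem F262782 : act 8 n58687 = n58687 := d33_2 F258101 D58687 (iv D58687)
theorem F262783 : act 9 n58687 = n58121 := d34_2 (iv F258102) D58687 F260365
def n58688 : Q := act 5 n57526
theorem D58688 : act 5 n57526 = n58688 := rfl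
theorem F262784 : act 0 n58688 = n57616 := d4_1 D58688 (iv D57616) (iv F258103)
theorem F262785 : act 1 n58688 = n57571 := d12_1 D58688 (iv F262479) F262477
theorem F262786 : act 2 n58688 = n57611 := d19_1 D58688 (iv F262779) F262778
theorem F262787 : act 4 n58688 = n57527 := d30_1 D58688 (iv D57527) (iv D56349) (iv F253043) D57526
theorem F262788 : act 6 n58688 = n57562 := d35_2 (iv F258104) D58688 (iv D57562) F253256 D56973
theorem F262789 : act 7 n58688 = n57615 := d36_2 F262662 D58688 (iv F262660)
theorem F262790 : act 8 n58688 = n58688 := d37_2 F258105 D58688 (iv D58688)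
theorem F262791 : act 9 n58688 = n57604 := d38_2 (iv F258106) D58688 F258444
def n58689 : Q := act 3 n57528
theorem D58689 : act 3 n57528 = n58689 := rfl
theorem F262792 : act 0 n58689 = n57617 := d2_1 D58689 (iv D57617) (iv F258115)
theorem F262793 : act 1 n58689 = n58120 := d10_1 D58689 F260363 (iv F258116)
theorem F262794 : act 5 n58689 = n57580 := d25_2 (iv F258118) D58689 F258361
theorem F262795 : act 7 n58689 = n57603 := d27_2 (iv F258119) D58689 F258441
def n58690 : Q := act 8 n57529
theorem D58690 : act 8 n57529 = n58690 := rfl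
theorem F262796 : act 0 n58690 = n57620 := d7_1 D58690 (iv D57620) (iv F258121)
theorem F262797 : act 1 n58690 = n58126 := d15_1 D58690 F260378 (iv F258122)
theorem F262798 : act 2 n58690 = n57740 := d22_1 D58690 (iv D57740) (iv F258123)
theorem F262799 : act 4 n58690 = n58690 := d33_1 D58690 (iv D58690) F258124
theorem F262800 : act 5 n58690 = n57622 := d37_1 D58690 F258514 (iv F258125)
theorem F262801 : act 7 n58690 = n57629 := d42_1 D58690 F258550 (iv F258126)
def n58691 : Q := act 8 n57532
theorem D58691 : act 8 n57532 = n58691 := rfl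
theorem F262802 : act 0 n58691 = n57810 := d7_1 D58691 (iv D57810) (iv F258143)
theorem F262803 : act 1 n58691 = n57849 := d15_1 D58691 (iv D57849) (iv F258144)
theorem F262804 : act 2 n58691 = n57549 := d22_1 D58691 (iv D57549) (iv F258145)
theorem F262805 : act 4 n58691 = n58691 := d33_1 D58691 (iv D58691) F258147
theorem F262806 : act 5 n58691 = n57710 := d37_1 D58691 (iv D57710) (iv F258148)
theorem F262807 : act 6 n58691 = n57704 := d40_1 D58691 (iv D57704) (iv F258149)
theorem F262808 : act 7 n58691 = n57541 := d42_1 D58691 (iv D57541) (iv F258150)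
theorem F262809 : act 9 n58691 = n57840 := d44_2 D57532 D58691 (iv D57840) (iv D56668) (iv F253110)
def n58692 : Q := act 8 n57533
theorem D58692 : act 8 n57533 = n58692 := rfl
theorem F262810 : act 0 n58692 = n57822 := d7_1 D58692 (iv D57822) (iv F258151)
theorem F262811 : act 1 n58692 = n58262 := d15_1 D58692 (iv D58262) (iv F258152)
theorem F262812 : act 2 n58692 = n57536 := d22_1 D58692 (iv D57536) (iv F258153)
theorem F262813 : act 4 n58692 = n58692 := d33_1 D58692 (iv D58692) F258155
theorem F262814 : act 5 n58692 = n57534 := d37_1 D58692 (iv D57534) (iv F258156)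
theorem F262815 : act 6 n58692 = n57708 := d40_1 D58692 (iv D57708) (iv F258157)
theorem F262816 : act 7 n58692 = n57542 := d42_1 D58692 (iv D57542) (iv F258158)
theorem F262817 : act 9 n58692 = n57744 := d44_2 D57533 D58692 (iv D57744) (iv D56576) (iv F253119)
def n58693 : Q := act 3 n57534
theorem D58693 : act 3 n57534 = n58693 := rfl
theorem F262818 : act 0 n58693 = n58061 := d2_1 D58693 (iv D58061) (iv F258159)
theorem F262819 : act 6 n58693 = n58078 := d26_2 (iv F258162) D58693 (iv D58078)
theorem F262820 : act 7 n58693 = n57543 := d27_2 (iv F258163) D58693 (iv D57543)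
theorem F262821 : act 9 n58693 = n57745 := d29_2 (iv F258164) D58693 (iv D57745)
def n58694 : Q := act 3 n57536
theorem D58694 : act 3 n57536 = n58694 := rfl
theorem F262822 : act 1 n58694 = n58127 := d10_1 D58694 (iv D58127) (iv F258171)
theorem F262823 : act 5 n58694 = n57537 := d25_2 (iv F258173) D58694 (iv D57537)
theorem F262824 : act 7 n58694 = n57545 := d27_2 (iv F258174) D58694 (iv D57545)
theorem F262825 : act 8 n58694 = n57552 := d28_2 D57536 D58694 (iv D57552) (iv D56378) (iv F253132)
theorem F262826 : act 9 n58694 = n57747 := d29_2 (iv F258175) D58694 (iv D57747)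
def n58695 : Q := act 2 n57537
theorem D58695 : act 2 n57537 = n58695 := rfl
theorem F262827 : act 6 n58695 = n58086 := d20_2 (iv F258177) D58695 (iv D58086)
theorem F262828 : act 7 n58695 = n57546 := d21_2 (iv F258178) D58695 (iv D57546)
theorem F262829 : act 8 n58695 = n57553 := d22_2 (iv F258179) D58695 (iv D57553)
theorem F262830 : act 9 n58695 = n57748 := d23_2 (iv F258180) D58695 (iv D57748)
def n58696 : Q := act 3 n57538
theorem D58696 : act 3 n57538 = n58696 := rfl
theorem F262831 : act 1 n58696 = n57543 := d10_1 D58696 (iv D57543) (iv F258181)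
theorem F262832 : act 6 n58696 = n58042 := d26_2 (iv F258184) D58696 (iv D58042)
theorem F262833 : act 9 n58696 = n57753 := d29_2 (iv F258185) D58696 (iv D57753)
def n58697 : Q := act 2 n57539
theorem D58697 : act 2 n57539 = n58697 := rfl
theorem F262834 : act 3 n58697 = n57997 := d17_2 D57539 D58697 (iv D57997) (iv D56823) (iv F253146)
theorem F262835 : act 5 n58697 = n58697 := d19_2 F258187 D58697 (iv D58697)
theorem F262836 : act 6 n58697 = n57896 := d20_2 (iv F258188) D58697 F259608
theorem F262837 : act 8 n58697 = n58697 := d22_2 F258189 D58697 (iv D58697)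
theorem F262838 : act 9 n58697 = n57754 := d23_2 (iv F258190) D58697 (iv D57754)
def n58698 : Q := act 4 n57539
theorem D58698 : act 4 n57539 = n58698 := rfl
theorem F262839 : act 1 n58698 = n57544 := d11_1 D58698 (iv D57544) (iv F258186)
theorem F262840 : act 6 n58698 = n58090 := d31_2 (iv F258188) D58698 (iv D58090)
theorem F262841 : act 8 n58698 = n58698 := d33_2 F258189 D58698 (iv D58698)
theorem F262842 : act 9 n58698 = n57755 := d34_2 (iv F258190) D58698 (iv D57755)
def n58699 : Q := act 8 n57540
theorem D58699 : act 8 n57540 = n58699 := rfl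
theorem F262843 : act 0 n58699 = n58013 := d7_1 D58699 (iv D58013) (iv F258191)
theorem F262844 : act 1 n58699 = n57848 := d15_1 D58699 (iv D57848) (iv F258192)
theorem F262845 : act 2 n58699 = n57557 := d22_1 D58699 (iv D57557) (iv F258193)
theorem F262846 : act 4 n58699 = n58699 := d33_1 D58699 (iv D58699) F258195
theorem F262847 : act 5 n58699 = n57958 := d37_1 D58699 (iv D57958) (iv F258196)
theorem F262848 : act 6 n58699 = n58045 := d40_1 D58699 (iv D58045) (iv F258197)
theorem F262849 : act 7 n58699 = n57840 := d42_1 D58699 (iv D57840) (iv F258198)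
theorem F262850 : act 9 n58699 = n57541 := d44_2 D57540 D58699 (iv D57541) (iv D56367) D56366
def n58700 : Q := act 3 n57541
theorem D58700 : act 3 n57541 = n58700 := rfl
theorem F262851 : act 6 n58700 = n58046 := d26_2 (iv F258201) D58700 (iv D58046)
theorem F262852 : act 8 n58700 = n57543 := d28_2 D57541 D58700 (iv D57543) (iv D56369) (iv F253159)
def n58701 : Q := act 3 n57542
theorem D58701 : act 3 n57542 = n58701 := rfl
theorem F262853 : act 5 n58701 = n57543 := d25_2 (iv F258204) D58701 (iv D57543)
theorem F262854 : act 6 n58701 = n58035 := d26_2 (iv F258205) D58701 (iv D58035)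
theorem F262855 : act 9 n58701 = n57760 := d29_2 (iv F258206) D58701 (iv D57760)
def n58702 : Q := act 2 n57543
theorem D58702 : act 2 n57543 = n58702 := rfl
theorem F262856 : act 3 n58702 = n57546 := d17_2 D57543 D58702 (iv D57546) (iv D56372) (iv F253166)
theorem F262857 : act 6 n58702 = n58050 := d20_2 (iv F258207) D58702 (iv D58050)
theorem F262858 : act 9 n58702 = n57761 := d23_2 (iv F258208) D58702 (iv D57761)
def n58703 : Q := act 4 n57543
theorem D58703 : act 4 n57543 = n58703 := rfl
theorem F262859 : act 3 n58703 = n57544 := d24_1 D58703 (iv D57544) (iv D56370) (iv F253167) D57543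
theorem F262860 : act 6 n58703 = n58051 := d31_2 (iv F258207) D58703 (iv D58051)
theorem F262861 : act 9 n58703 = n57762 := d34_2 (iv F258208) D58703 (iv D57762)
def n58704 : Q := act 5 n57544
theorem D58704 : act 5 n57544 = n58704 := rfl
theorem F262862 : act 4 n58704 = n58704 := d30_1 D58704 (iv D58704) (iv D57544) F253170 D57544
theorem F262863 : act 8 n58704 = n58704 := d37_2 F258210 D58704 (iv D58704)
theorem F262864 : act 9 n58704 = n57763 := d38_2 (iv F258211) D58704 (iv D57763)
def n58705 : Q := act 2 n57545
theorem D58705 : act 2 n57545 = n58705 := rfl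
theorem F262865 : act 5 n58705 = n57546 := d19_2 (iv F258213) D58705 (iv D57546)
theorem F262866 : act 6 n58705 = n58039 := d20_2 (iv F258214) D58705 (iv D58039)
theorem F262867 : act 8 n58705 = n57564 := d22_2 (iv F258215) D58705 (iv D57564)
theorem F262868 : act 9 n58705 = n57765 := d23_2 (iv F258216) D58705 (iv D57765)
def n58706 : Q := act 4 n57545
theorem D58706 : act 4 n57545 = n58706 := rfl
theorem F262869 : act 1 n58706 = n58284 := d11_1 D58706 (iv D58284) (iv F258212)
theorem F262870 : act 3 n58706 = n58706 := d24_1 D58706 (iv D58706) (iv D57545) F253175 D57545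
theorem F262871 : act 6 n58706 = n58040 := d31_2 (iv F258214) D58706 (iv D58040)
theorem F262872 : act 8 n58706 = n57565 := d33_2 (iv F258215) D58706 (iv D57565)
theorem F262873 : act 9 n58706 = n57766 := d34_2 (iv F258216) D58706 (iv D57766)
def n58707 : Q := act 1 n57546
theorem D58707 : act 1 n57546 = n58707 := rfl
theorem F262874 : act 2 n58707 = n58300 := d9_2 D57546 D58707 (iv D58300) (iv D57123) (iv F253179)
theorem F262875 : act 6 n58707 = n58056 := d13_2 (iv F258217) D58707 (iv D58056)
theorem F262876 : act 8 n58707 = n57566 := d15_2 (iv F258218) D58707 (iv D57566)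
theorem F262877 : act 9 n58707 = n57767 := d16_2 (iv F258219) D58707 (iv D57767)
def n58708 : Q := act 2 n57547
theorem D58708 : act 2 n57547 = n58708 := rfl
theorem F262878 : act 4 n58708 = n58161 := d18_2 (iv F258221) D58708 (iv D58161)
theorem F262879 : act 6 n58708 = n57553 := d20_2 (iv F258222) D58708 (iv D57553)
theorem F262880 : act 7 n58708 = n57935 := d21_2 (iv F258223) D58708 (iv D57935)
theorem F262881 : act 8 n58708 = n58086 := d22_2 (iv F258224) D58708 (iv D58086)
theorem F262882 : act 9 n58708 = n57573 := d23_2 (iv F258225) D58708 (iv D57573)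
def n58709 : Q := act 8 n57548
theorem D58709 : act 8 n57548 = n58709 := rfl
theorem F262883 : act 0 n58709 = n57769 := d7_1 D58709 (iv D57769) (iv F258226)
theorem F262884 : act 1 n58709 = n58104 := d15_1 D58709 (iv D58104) (iv F258227)
theorem F262885 : act 2 n58709 = n57840 := d22_1 D58709 (iv D57840) (iv F258228)
theorem F262886 : act 4 n58709 = n58709 := d33_1 D58709 (iv D58709) F258230
theorem F262887 : act 5 n58709 = n57694 := d37_1 D58709 (iv D57694) (iv F258231)
theorem F262888 : act 6 n58709 = n57692 := d40_1 D58709 (iv D57692) (iv F258232)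
theorem F262889 : act 7 n58709 = n57557 := d42_1 D58709 (iv D57557) (iv F258233)
theorem F262890 : act 9 n58709 = n57549 := d44_2 D57548 D58709 (iv D57549) (iv D56375) D56374
def n58710 : Q := act 3 n57549
theorem D58710 : act 3 n57549 = n58710 := rfl
theorem F262891 : act 0 n58710 = n57815 := d2_1 D58710 (iv D57815) (iv F258234)
theorem F262892 : act 1 n58710 = n58105 := d10_1 D58710 (iv D58105) (iv F258235)
theorem F262893 : act 5 n58710 = n57713 := d25_2 (iv F258237) D58710 (iv D57713)
theorem F262894 : act 6 n58710 = n57706 := d26_2 (iv F258238) D58710 (iv D57706)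
theorem F262895 : act 7 n58710 = n57558 := d27_2 (iv F258239) D58710 (iv D57558)
theorem F262896 : act 8 n58710 = n57550 := d28_2 D57549 D58710 (iv D57550) (iv D56376) (iv F253198)
def n58711 : Q := act 2 n57550
theorem D58711 : act 2 n57550 = n58711 := rfl
theorem F262897 : act 3 n58711 = n57553 := d17_2 D57550 D58711 (iv D57553) (iv D56379) (iv F253204)
theorem F262898 : act 7 n58711 = n57560 := d21_2 (iv F258241) D58711 (iv D57560)
theorem F262899 : act 9 n58711 = n57579 := d23_2 (iv F258242) D58711 (iv D57579)
def n58712 : Q := act 4 n57550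
theorem D58712 : act 4 n57550 = n58712 := rfl
theorem F262900 : act 1 n58712 = n58107 := d11_1 D58712 (iv D58107) (iv F258240)
theorem F262901 : act 3 n58712 = n57551 := d24_1 D58712 (iv D57551) (iv D56377) (iv F253205) D57550
theorem F262902 : act 7 n58712 = n57561 := d32_2 (iv F258241) D58712 (iv D57561)
theorem F262903 : act 9 n58712 = n57580 := d34_2 (iv F258242) D58712 (iv D57580)
def n58713 : Q := act 2 n57552
theorem D58713 : act 2 n57552 = n58713 := rfl
theorem F262904 : act 5 n58713 = n57553 := d19_2 (iv F258248) D58713 (iv D57553)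
theorem F262905 : act 7 n58713 = n57564 := d21_2 (iv F258249) D58713 (iv D57564)
theorem F262906 : act 9 n58713 = n57581 := d23_2 (iv F258250) D58713 (iv D57581)
def n58714 : Q := act 4 n57552
theorem D58714 : act 4 n57552 = n58714 := rfl
theorem F262907 : act 1 n58714 = n58129 := d11_1 D58714 (iv D58129) (iv F258247)
theorem F262908 : act 3 n58714 = n57567 := d24_1 D58714 (iv D57567) (iv D56391) (iv F253214) D57552
theorem F262909 : act 7 n58714 = n57565 := d32_2 (iv F258249) D58714 (iv D57565)
theorem F262910 : act 9 n58714 = n57582 := d34_2 (iv F258250) D58714 (iv D57582)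
def n58715 : Q := act 1 n57553
theorem D58715 : act 1 n57553 = n58715 := rfl
theorem F262911 : act 7 n58715 = n57566 := d14_2 (iv F258251) D58715 (iv D57566)
theorem F262912 : act 9 n58715 = n57583 := d16_2 (iv F258252) D58715 (iv D57583)
def n58716 : Q := act 3 n57554
theorem D58716 : act 3 n57554 = n58716 := rfl
theorem F262913 : act 0 n58716 = n58112 := d2_1 D58716 (iv D58112) (iv F258253)
theorem F262914 : act 1 n58716 = n57558 := d10_1 D58716 (iv D57558) (iv F258254)
theorem F262915 : act 5 n58716 = n57642 := d25_2 (iv F258257) D58716 (iv D57642)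
theorem F262916 : act 6 n58716 = n57655 := d26_2 (iv F258258) D58716 (iv D57655)
theorem F262917 : act 7 n58716 = n58105 := d27_2 (iv F258259) D58716 (iv D58105)
theorem F262918 : act 8 n58716 = n57555 := d28_2 D57554 D58716 (iv D57555) (iv D56381) (iv F253223)
def n58717 : Q := act 2 n57555
theorem D58717 : act 2 n57555 = n58717 := rfl
theorem F262919 : act 0 n58717 = n58116 := d1_1 D58717 (iv D58116) (iv F258260)
theorem F262920 : act 3 n58717 = n57920 := d17_2 D57555 D58717 (iv D57920) (iv D56747) (iv F253230)
theorem F262921 : act 5 n58717 = n58100 := d19_2 (iv F258262) D58717 (iv D58100)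
theorem F262922 : act 6 n58717 = n58137 := d20_2 (iv F258263) D58717 (iv D58137)
theorem F262923 : act 7 n58717 = n58106 := d21_2 (iv F258264) D58717 (iv D58106)
theorem F262924 : act 9 n58717 = n57590 := d23_2 (iv F258265) D58717 (iv D57590)
def n58718 : Q := act 4 n57555
theorem D58718 : act 4 n57555 = n58718 := rfl
theorem F262925 : act 0 n58718 = n58117 := d3_1 D58718 (iv D58117) (iv F258260)
theorem F262926 : act 1 n58718 = n57561 := d11_1 D58718 (iv D57561) (iv F258261)
theorem F262927 : act 3 n58718 = n57556 := d24_1 D58718 (iv D57556) (iv D56382) (iv F253231) D57555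
theorem F262928 : act 6 n58718 = n58138 := d31_2 (iv F258263) D58718 (iv D58138)
theorem F262929 : act 7 n58718 = n58107 := d32_2 (iv F258264) D58718 (iv D58107)
theorem F262930 : act 9 n58718 = n57591 := d34_2 (iv F258265) D58718 (iv D57591)
def n58719 : Q := act 5 n57556
theorem D58719 : act 5 n57556 = n58719 := rfl
theorem F262931 : act 0 n58719 = n58124 := d4_1 D58719 (iv D58124) (iv F258266)
theorem F262932 : act 1 n58719 = n57562 := d12_1 D58719 (iv D57562) (iv F258267)
theorem F262933 : act 2 n58719 = n57570 := d19_1 D58719 F258318 (iv F258268)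
theorem F262934 : act 4 n58719 = n57568 := d30_1 D58719 (iv D57568) (iv D56392) (iv F253239) D57556
theorem F262935 : act 6 n58719 = n57571 := d35_2 (iv F258269) D58719 (iv F262479) F262480 (iv D58139)
theorem F262936 : act 7 n58719 = n58108 := d36_2 (iv F258270) D58719 (iv D58108)
theorem F262937 : act 8 n58719 = n58719 := d37_2 F258271 D58719 (iv D58719)
theorem F262938 : act 9 n58719 = n57592 := d38_2 (iv F258272) D58719 (iv D57592)
def n58720 : Q := act 3 n57557
theorem D58720 : act 3 n57557 = n58720 := rfl
theorem F262939 : act 6 n58720 = n58140 := d26_2 (iv F258274) D58720 (iv D58140)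
theorem F262940 : act 8 n58720 = n57595 := d28_2 D57557 D58720 (iv D57595) (iv D56419) (iv F253244)
theorem F262941 : act 9 n58720 = n57558 := d29_2 (iv F258275) D58720 (iv D57558)
def n58721 : Q := act 2 n57558
theorem D58721 : act 2 n57558 = n58721 := rfl
theorem F262942 : act 6 n58721 = n58141 := d20_2 (iv F258276) D58721 (iv D58141)
theorem F262943 : act 8 n58721 = n57560 := d22_2 (iv F258277) D58721 (iv D57560)
def n58722 : Q := act 4 n57558
theorem D58722 : act 4 n57558 = n58722 := rfl
theorem F262944 : act 3 n58722 = n58722 := d24_1 D58722 (iv D58722) (iv D57558) F253247 D57558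
theorem F262945 : act 6 n58722 = n58142 := d31_2 (iv F258276) D58722 (iv D58142)
theorem F262946 : act 8 n58722 = n57561 := d33_2 (iv F258277) D58722 (iv D57561)
def n58723 : Q := act 2 n57559
theorem D58723 : act 2 n57559 = n58723 := rfl
theorem F262947 : act 3 n58723 = n57564 := d17_2 D57559 D58723 (iv D57564) (iv D56389) (iv F253250)
theorem F262948 : act 5 n58723 = n57560 := d19_2 (iv F258279) D58723 (iv D57560)
theorem F262949 : act 9 n58723 = n57599 := d23_2 (iv F258280) D58723 (iv D57599)
def n58724 : Q := act 4 n57559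
theorem D58724 : act 4 n57559 = n58724 := rfl
theorem F262950 : act 0 n58724 = n58175 := d3_1 D58724 (iv F262672) F262670
theorem F262951 : act 1 n58724 = n58101 := d11_1 D58724 (iv D58101) (iv F258278)
theorem F262952 : act 3 n58724 = n57569 := d24_1 D58724 (iv D57569) (iv D56393) (iv F253251) D57559
theorem F262953 : act 6 n58724 = n58135 := d31_2 F260833 D58724 (iv F260831)
theorem F262954 : act 9 n58724 = n57600 := d34_2 (iv F258280) D58724 (iv D57600)
def n58725 : Q := act 1 n57560
theorem D58725 : act 1 n57560 = n58725 := rfl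
theorem F262955 : act 3 n58725 = n57566 := d10_2 (iv F258281) D58725 (iv D57566)
theorem F262956 : act 6 n58725 = n58143 := d13_2 (iv F258282) D58725 (iv D58143)
theorem F262957 : act 9 n58725 = n57601 := d16_2 (iv F258283) D58725 (iv D57601)
def n58726 : Q := act 4 n57560
theorem D58726 : act 4 n57560 = n58726 := rfl
theorem F262958 : act 2 n58726 = n57561 := d18_1 D58726 (iv D57561) D57560
theorem F262959 : act 6 n58726 = n58144 := d31_2 (iv F258282) D58726 (iv D58144)
theorem F262960 : act 9 n58726 = n57602 := d34_2 (iv F258283) D58726 (iv D57602)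
def n58727 : Q := act 5 n57561
theorem D58727 : act 5 n57561 = n58727 := rfl
theorem F262961 : act 3 n58727 = n57562 := d25_1 D58727 (iv D57562) (iv F258284)
theorem F262962 : act 9 n58727 = n57603 := d38_2 (iv F258286) D58727 (iv D57603)
def n58728 : Q := act 2 n57563
theorem D58728 : act 2 n57563 = n58728 := rfl
theorem F262963 : act 5 n58728 = n57924 := d19_2 (iv F258291) D58728 (iv D57924)
theorem F262964 : act 6 n58728 = n57564 := d20_2 (iv F258292) D58728 (iv D57564)
theorem F262965 : act 8 n58728 = n58039 := d22_2 (iv F258293) D58728 (iv D58039)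
theorem F262966 : act 9 n58728 = n57606 := d23_2 (iv F258294) D58728 (iv D57606)
def n58729 : Q := act 4 n57563
theorem D58729 : act 4 n57563 = n58729 := rfl
theorem F262967 : act 1 n58729 = n58150 := d11_1 D58729 (iv D58150) (iv F258290)
theorem F262968 : act 3 n58729 = n57570 := d24_1 D58729 (iv D57570) (iv D56395) (iv F253260) D57563
theorem F262969 : act 5 n58729 = n57933 := d30_2 (iv F258291) D58729 (iv D57933) F254856 (iv F254817)
theorem F262970 : act 6 n58729 = n57565 := d31_2 (iv F258292) D58729 (iv D57565)
theorem F262971 : act 7 n58729 = n58145 := d32_2 F260849 D58729 (iv F260846)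
theorem F262972 : act 8 n58729 = n58040 := d33_2 (iv F258293) D58729 (iv D58040)
theorem F262973 : act 9 n58729 = n57607 := d34_2 (iv F258294) D58729 (iv D57607)
def n58730 : Q := act 1 n57564
theorem D58730 : act 1 n57564 = n58730 := rfl
theorem F262974 : act 5 n58730 = n57566 := d12_2 (iv F258295) D58730 (iv D57566)
theorem F262975 : act 9 n58730 = n57608 := d16_2 (iv F258296) D58730 (iv D57608)
def n58731 : Q := act 4 n57564
theorem D58731 : act 4 n57564 = n58731 := rfl
theorem F262976 : act 2 n58731 = n57565 := d18_1 D58731 (iv D57565) D57564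
theorem F262977 : act 9 n58731 = n57609 := d34_2 (iv F258296) D58731 (iv D57609)
def n58732 : Q := act 0 n57566
theorem D58732 : act 0 n57566 = n58732 := rfl
theorem F262978 : act 6 n58732 = n58146 := d5_2 (iv F258299) D58732 (iv D58146)
theorem F262979 : act 9 n58732 = n57610 := d8_2 (iv F258300) D58732 (iv D57610)
def n58733 : Q := act 3 n57571
theorem D58733 : act 3 n57571 = n58733 := rfl
theorem F262980 : act 9 n58733 = n57617 := d29_2 (iv F258325) D58733 (iv D57617)
def n58734 : Q := act 2 n57572
theorem D58734 : act 2 n57572 = n58734 := rfl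
theorem F262981 : act 5 n58734 = n57573 := d19_2 (iv F258326) D58734 (iv D57573)
theorem F262982 : act 7 n58734 = n58149 := d21_2 (iv F258327) D58734 (iv D58149)
theorem F262983 : act 8 n58734 = n57816 := d22_2 (iv F258328) D58734 (iv D57816)
def n58735 : Q := act 4 n57572
theorem D58735 : act 4 n57572 = n58735 := rfl
theorem F262984 : act 1 n58735 = n58145 := d11_1 D58735 (iv F260846) F260845
theorem F262985 : act 3 n58735 = n58139 := d24_1 D58735 F260407 F256074 F256069 D57572
theorem F262986 : act 5 n58735 = n58138 := d30_2 (iv F258326) D58735 (iv D58138) (iv F257795) F257794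
theorem F262987 : act 7 n58735 = n58150 := d32_2 (iv F258327) D58735 (iv D58150)
theorem F262988 : act 8 n58735 = n57817 := d33_2 (iv F258328) D58735 (iv D57817)
theorem F262989 : act 9 n58735 = n58164 := d34_2 F260961 D58735 (iv F260956)
def n58736 : Q := act 1 n57573
theorem D58736 : act 1 n57573 = n58736 := rfl
theorem F262990 : act 6 n58736 = n57583 := d13_2 (iv F258329) D58736 (iv D57583)
theorem F262991 : act 7 n58736 = n58151 := d14_2 (iv F258330) D58736 (iv D58151)
theorem F262992 : act 8 n58736 = n57818 := d15_2 (iv F258331) D58736 (iv D57818)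
def n58737 : Q := act 8 n57574
theorem D58737 : act 8 n57574 = n58737 := rfl
theorem F262993 : act 0 n58737 = n57746 := d7_1 D58737 (iv D57746) (iv F258332)
theorem F262994 : act 1 n58737 = n58111 := d15_1 D58737 (iv D58111) (iv F258333)
theorem F262995 : act 2 n58737 = n57823 := d22_1 D58737 (iv D57823) (iv F258334)
theorem F262996 : act 4 n58737 = n58737 := d33_1 D58737 (iv D58737) F258336
theorem F262997 : act 5 n58737 = n57576 := d37_1 D58737 (iv D57576) (iv F258337)
theorem F262998 : act 6 n58737 = n57685 := d40_1 D58737 (iv D57685) (iv F258338)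
theorem F262999 : act 7 n58737 = n57593 := d42_1 D58737 (iv D57593) (iv F258339)
theorem F263000 : act 9 n58737 = n57575 := d44_2 D57574 D58737 (iv D57575) (iv D56401) D56400
def n58738 : Q := act 3 n57575
theorem D58738 : act 3 n57575 = n58738 := rfl
theorem F263001 : act 1 n58738 = n58112 := d10_1 D58738 (iv D58112) (iv F258340)
theorem F263002 : act 5 n58738 = n57577 := d25_2 (iv F258343) D58738 (iv D57577)
theorem F263003 : act 7 n58738 = n57594 := d27_2 (iv F258344) D58738 (iv D57594)
theorem F263004 : act 8 n58738 = n57578 := d28_2 D57575 D58738 (iv D57578) (iv D56404) (iv F253314)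
def n58739 : Q := act 3 n57576
theorem D58739 : act 3 n57576 = n58739 := rfl
theorem F263005 : act 0 n58739 = n58256 := d2_1 D58739 (iv D58256) (iv F258345)
theorem F263006 : act 1 n58739 = n58113 := d10_1 D58739 (iv D58113) (iv F258346)
theorem F263007 : act 6 n58739 = n58193 := d26_2 (iv F258349) D58739 (iv D58193)
theorem F263008 : act 7 n58739 = n57595 := d27_2 (iv F258350) D58739 (iv D57595)
theorem F263009 : act 9 n58739 = n57577 := d29_2 (iv F258351) D58739 (iv D57577)
def n58740 : Q := act 2 n57577
theorem D58740 : act 2 n57577 = n58740 := rfl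
theorem F263010 : act 3 n58740 = n57826 := d17_2 D57577 D58740 (iv D57826) (iv D56656) (iv F253325)
theorem F263011 : act 7 n58740 = n57596 := d21_2 (iv F258353) D58740 (iv D57596)
theorem F263012 : act 8 n58740 = n57579 := d22_2 (iv F258354) D58740 (iv D57579)
def n58741 : Q := act 4 n57577
theorem D58741 : act 4 n57577 = n58741 := rfl
theorem F263013 : act 1 n58741 = n58115 := d11_1 D58741 (iv D58115) (iv F258352)
theorem F263014 : act 3 n58741 = n57622 := d24_1 D58741 (iv D57622) (iv D56447) (iv F253326) D57577
theorem F263015 : act 7 n58741 = n57597 := d32_2 (iv F258353) D58741 (iv D57597)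
theorem F263016 : act 8 n58741 = n57580 := d33_2 (iv F258354) D58741 (iv D57580)
def n58742 : Q := act 2 n57578
theorem D58742 : act 2 n57578 = n58742 := rfl
theorem F263017 : act 3 n58742 = n57581 := d17_2 D57578 D58742 (iv D57581) (iv D56407) (iv F253329)
theorem F263018 : act 5 n58742 = n57579 := d19_2 (iv F258356) D58742 (iv D57579)
theorem F263019 : act 7 n58742 = n57599 := d21_2 (iv F258357) D58742 (iv D57599)
def n58743 : Q := act 4 n57578
theorem D58743 : act 4 n57578 = n58743 := rfl
theorem F263020 : act 1 n58743 = n58117 := d11_1 D58743 (iv D58117) (iv F258355)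
theorem F263021 : act 3 n58743 = n57611 := d24_1 D58743 (iv D57611) (iv D56431) (iv F253330) D57578
theorem F263022 : act 7 n58743 = n57600 := d32_2 (iv F258357) D58743 (iv D57600)
def n58744 : Q := act 1 n57579
theorem D58744 : act 1 n57579 = n58744 := rfl
theorem F263023 : act 2 n58744 = n58118 := d9_2 D57579 D58744 (iv D58118) (iv D56945) (iv F253333)
theorem F263024 : act 3 n58744 = n57583 := d10_2 (iv F258358) D58744 (iv D57583)
theorem F263025 : act 7 n58744 = n57601 := d14_2 (iv F258359) D58744 (iv D57601)
def n58745 : Q := act 4 n57579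
theorem D58745 : act 4 n57579 = n58745 := rfl
theorem F263026 : act 2 n58745 = n57580 := d18_1 D58745 (iv D57580) D57579
theorem F263027 : act 7 n58745 = n57602 := d32_2 (iv F258359) D58745 (iv D57602)
def n58746 : Q := act 1 n57581
theorem D58746 : act 1 n57581 = n58746 := rfl
theorem F263028 : act 2 n58746 = n58133 := d9_2 D57581 D58746 (iv D58133) (iv D56963) (iv F253338)
theorem F263029 : act 5 n58746 = n57583 := d12_2 (iv F258363) D58746 (iv D57583)
theorem F263030 : act 7 n58746 = n57608 := d14_2 (iv F258364) D58746 (iv D57608)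
theorem F263031 : act 8 n58746 = n57836 := d15_2 (iv F258365) D58746 (iv D57836)
def n58747 : Q := act 4 n57581
theorem D58747 : act 4 n57581 = n58747 := rfl
theorem F263032 : act 2 n58747 = n57582 := d18_1 D58747 (iv D57582) D57581
theorem F263033 : act 7 n58747 = n57609 := d32_2 (iv F258364) D58747 (iv D57609)
theorem F263034 : act 8 n58747 = n57837 := d33_2 (iv F258365) D58747 (iv D57837)
def n58748 : Q := act 0 n57583
theorem D58748 : act 0 n57583 = n58748 := rfl
theorem F263035 : act 7 n58748 = n57610 := d6_2 (iv F258370) D58748 (iv D57610)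
theorem F263036 : act 8 n58748 = n57838 := d7_2 (iv F258371) D58748 (iv D57838)
def n58749 : Q := act 3 n57584
theorem D58749 : act 3 n57584 = n58749 := rfl
theorem F263037 : act 0 n58749 = n57588 := d2_1 D58749 (iv D57588) (iv F258372)
theorem F263038 : act 1 n58749 = n57713 := d10_1 D58749 (iv D57713) (iv F258373)
theorem F263039 : act 5 n58749 = n58105 := d25_2 (iv F258376) D58749 (iv D58105)
theorem F263040 : act 6 n58749 = n57665 := d26_2 (iv F258377) D58749 (iv D57665)
theorem F263041 : act 7 n58749 = n57642 := d27_2 (iv F258378) D58749 (iv D57642)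
theorem F263042 : act 8 n58749 = n57585 := d28_2 D57584 D58749 (iv D57585) (iv D56410) (iv F253347)
def n58750 : Q := act 2 n57585
theorem D58750 : act 2 n57585 = n58750 := rfl
theorem F263043 : act 0 n58750 = n57590 := d1_1 D58750 (iv D57590) (iv F258379)
theorem F263044 : act 3 n58750 = n58099 := d17_2 D57585 D58750 (iv D58099) (iv D56926) (iv F253353)
theorem F263045 : act 5 n58750 = n58106 := d19_2 (iv F258380) D58750 (iv D58106)
theorem F263046 : act 6 n58750 = n58157 := d20_2 (iv F258381) D58750 (iv D58157)
theorem F263047 : act 7 n58750 = n58100 := d21_2 (iv F258382) D58750 (iv D58100)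
theorem F263048 : act 9 n58750 = n58116 := d23_2 (iv F258383) D58750 (iv D58116)
def n58751 : Q := act 3 n57586
theorem D58751 : act 3 n57586 = n58751 := rfl
theorem F263049 : act 0 n58751 = n58105 := d2_1 D58751 (iv D58105) (iv F258384)
theorem F263050 : act 1 n58751 = n57594 := d10_1 D58751 (iv D57594) (iv F258385)
theorem F263051 : act 5 n58751 = n57588 := d25_2 (iv F258388) D58751 (iv D57588)
theorem F263052 : act 7 n58751 = n58112 := d27_2 (iv F258389) D58751 (iv D58112)
theorem F263053 : act 8 n58751 = n57589 := d28_2 D57586 D58751 (iv D57589) (iv D56414) (iv F253362)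
def n58752 : Q := act 3 n57587
theorem D58752 : act 3 n57587 = n58752 := rfl
theorem F263054 : act 1 n58752 = n57595 := d10_1 D58752 (iv D57595) (iv F258390)
theorem F263055 : act 6 n58752 = n57678 := d26_2 (iv F258393) D58752 (iv D57678)
theorem F263056 : act 7 n58752 = n58113 := d27_2 (iv F258394) D58752 (iv D58113)
theorem F263057 : act 9 n58752 = n57588 := d29_2 (iv F258395) D58752 (iv D57588)
def n58753 : Q := act 2 n57588
theorem D58753 : act 2 n57588 = n58753 := rfl
theorem F263058 : act 3 n58753 = n58196 := d17_2 D57588 D58753 (iv D58196) (iv D57024) (iv F253372)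
theorem F263059 : act 6 n58753 = n58159 := d20_2 (iv F258397) D58753 (iv D58159)
theorem F263060 : act 7 n58753 = n58114 := d21_2 (iv F258398) D58753 (iv D58114)
theorem F263061 : act 8 n58753 = n57590 := d22_2 (iv F258399) D58753 (iv D57590)
def n58754 : Q := act 4 n57588
theorem D58754 : act 4 n57588 = n58754 := rfl
theorem F263062 : act 1 n58754 = n57597 := d11_1 D58754 (iv D57597) (iv F258396)
theorem F263063 : act 3 n58754 = n57625 := d24_1 D58754 (iv D57625) (iv D56452) (iv F253373) D57588
theorem F263064 : act 6 n58754 = n58160 := d31_2 (iv F258397) D58754 (iv D58160)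
theorem F263065 : act 7 n58754 = n58115 := d32_2 (iv F258398) D58754 (iv D58115)
theorem F263066 : act 8 n58754 = n57591 := d33_2 (iv F258399) D58754 (iv D57591)
def n58755 : Q := act 2 n57589
theorem D58755 : act 2 n57589 = n58755 := rfl
theorem F263067 : act 0 n58755 = n58106 := d1_1 D58755 (iv D58106) (iv F258400)
theorem F263068 : act 3 n58755 = n58098 := d17_2 D57589 D58755 (iv D58098) (iv D56925) (iv F253378)
theorem F263069 : act 5 n58755 = n57590 := d19_2 (iv F258402) D58755 (iv D57590)
theorem F263070 : act 7 n58755 = n58116 := d21_2 (iv F258403) D58755 (iv D58116)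
theorem F263071 : act 9 n58755 = n58100 := d23_2 (iv F258404) D58755 (iv D58100)
def n58756 : Q := act 4 n57589
theorem D58756 : act 4 n57589 = n58756 := rfl
theorem F263072 : act 0 n58756 = n58107 := d3_1 D58756 (iv D58107) (iv F258400)
theorem F263073 : act 1 n58756 = n57600 := d11_1 D58756 (iv D57600) (iv F258401)
theorem F263074 : act 3 n58756 = n57612 := d24_1 D58756 (iv D57612) (iv D56433) (iv F253379) D57589
theorem F263075 : act 7 n58756 = n58117 := d32_2 (iv F258403) D58756 (iv D58117)
theorem F263076 : act 9 n58756 = n58101 := d34_2 (iv F258404) D58756 (iv D58101)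
def n58757 : Q := act 1 n57590
theorem D58757 : act 1 n57590 = n58757 := rfl
theorem F263077 : act 2 n58757 = n57601 := d9_2 D57590 D58757 (iv D57601) (iv D56423) (iv F253383)
theorem F263078 : act 3 n58757 = n58110 := d10_2 (iv F258405) D58757 (iv D58110)
theorem F263079 : act 6 n58757 = n58162 := d13_2 (iv F258406) D58757 (iv D58162)
theorem F263080 : act 7 n58757 = n58118 := d14_2 (iv F258407) D58757 (iv D58118)
def n58758 : Q := act 4 n57590
theorem D58758 : act 4 n57590 = n58758 := rfl
theorem F263081 : act 2 n58758 = n57591 := d18_1 D58758 (iv D57591) D57590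
theorem F263082 : act 3 n58758 = n58155 := d24_1 D58758 (iv D58155) F255590 (iv F255491) (iv F258405)
theorem F263083 : act 6 n58758 = n58163 := d31_2 (iv F258406) D58758 (iv D58163)
theorem F263084 : act 7 n58758 = n58119 := d32_2 (iv F258407) D58758 (iv D58119)
def n58759 : Q := act 5 n57591
theorem D58759 : act 5 n57591 = n58759 := rfl
theorem F263085 : act 1 n58759 = n57603 := d12_1 D58759 (iv D57603) (iv F258408)
theorem F263086 : act 3 n58759 = n57592 := d25_1 D58759 (iv D57592) (iv F258409)
theorem F263087 : act 6 n58759 = n57617 := d35_2 (iv F258410) D58759 (iv F262551) F262552 (iv D58164)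
theorem F263088 : act 7 n58759 = n58120 := d36_2 (iv F258411) D58759 (iv D58120)
def n58760 : Q := act 3 n57593
theorem D58760 : act 3 n57593 = n58760 := rfl
theorem F263089 : act 5 n58760 = n57595 := d25_2 (iv F258420) D58760 (iv D57595)
theorem F263090 : act 9 n58760 = n57594 := d29_2 (iv F258421) D58760 (iv D57594)
def n58761 : Q := act 2 n57594
theorem D58761 : act 2 n57594 = n58761 := rfl
theorem F263091 : act 3 n58761 = n57852 := d17_2 D57594 D58761 (iv D57852) (iv D56679) (iv F253394)
theorem F263092 : act 5 n58761 = n57596 := d19_2 (iv F258422) D58761 (iv D57596)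
theorem F263093 : act 8 n58761 = n57599 := d22_2 (iv F258423) D58761 (iv D57599)
def n58762 : Q := act 4 n57594
theorem D58762 : act 4 n57594 = n58762 := rfl
theorem F263094 : act 3 n58762 = n58762 := d24_1 D58762 (iv D58762) (iv D57594) F253395 D57594
theorem F263095 : act 8 n58762 = n57600 := d33_2 (iv F258423) D58762 (iv D57600)
def n58763 : Q := act 2 n57595
theorem D58763 : act 2 n57595 = n58763 := rfl
theorem F263096 : act 3 n58763 = n57854 := d17_2 D57595 D58763 (iv D57854) (iv D56680) (iv F253397)
theorem F263097 : act 6 n58763 = n58165 := d20_2 (iv F258424) D58763 (iv D58165)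
theorem F263098 : act 9 n58763 = n57596 := d23_2 (iv F258425) D58763 (iv D57596)
def n58764 : Q := act 4 n57595
theorem D58764 : act 4 n57595 = n58764 := rfl
theorem F263099 : act 3 n58764 = n57627 := d24_1 D58764 (iv D57627) (iv D56454) (iv F253398) D57595
theorem F263100 : act 6 n58764 = n58166 := d31_2 (iv F258424) D58764 (iv D58166)
theorem F263101 : act 9 n58764 = n57597 := d34_2 (iv F258425) D58764 (iv D57597)
def n58765 : Q := act 1 n57596
theorem D58765 : act 1 n57596 = n58765 := rfl
theorem F263102 : act 3 n58765 = n57856 := d10_2 (iv F258426) D58765 (iv D57856)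
theorem F263103 : act 6 n58765 = n58167 := d13_2 (iv F258427) D58765 (iv D58167)
theorem F263104 : act 8 n58765 = n57601 := d15_2 (iv F258428) D58765 (iv D57601)
def n58766 : Q := act 4 n57596
theorem D58766 : act 4 n57596 = n58766 := rfl
theorem F263105 : act 2 n58766 = n57597 := d18_1 D58766 (iv D57597) D57596
theorem F263106 : act 6 n58766 = n58168 := d31_2 (iv F258427) D58766 (iv D58168)
theorem F263107 : act 8 n58766 = n57602 := d33_2 (iv F258428) D58766 (iv D57602)
def n58767 : Q := act 5 n57597
theorem D58767 : act 5 n57597 = n58767 := rfl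
theorem F263108 : act 3 n58767 = n57629 := d25_1 D58767 (iv D57629) (iv F258429)
theorem F263109 : act 8 n58767 = n57603 := d37_2 (iv F258431) D58767 (iv D57603)
def n58768 : Q := act 2 n57598
theorem D58768 : act 2 n57598 = n58768 := rfl
theorem F263110 : act 3 n58768 = n57606 := d17_2 D57598 D58768 (iv D57606) (iv D56427) (iv F253403)
theorem F263111 : act 5 n58768 = n58169 := d19_2 (iv F258432) D58768 (iv D58169)
theorem F263112 : act 6 n58768 = n57599 := d20_2 (iv F258433) D58768 (iv D57599)
def n58769 : Q := act 4 n57598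
theorem D58769 : act 4 n57598 = n58769 := rfl
theorem F263113 : act 0 n58769 = n58145 := d3_1 D58769 (iv F260846) F260844
theorem F263114 : act 3 n58769 = n57614 := d24_1 D58769 (iv D57614) (iv D56436) (iv F253404) D57598
theorem F263115 : act 5 n58769 = n58129 := d30_2 (iv F258432) D58769 (iv D58129) (iv F256115) F256114
theorem F263116 : act 6 n58769 = n57600 := d31_2 (iv F258433) D58769 (iv D57600)
theorem F263117 : act 9 n58769 = n58135 := d34_2 F260836 D58769 (iv F260831)
def n58770 : Q := act 1 n57599
theorem D58770 : act 1 n57599 = n58770 := rfl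
theorem F263118 : act 3 n58770 = n57608 := d10_2 (iv F258434) D58770 (iv D57608)
theorem F263119 : act 5 n58770 = n57601 := d12_2 (iv F258435) D58770 (iv D57601)
def n58771 : Q := act 4 n57599
theorem D58771 : act 4 n57599 = n58771 := rfl
theorem F263120 : act 2 n58771 = n57600 := d18_1 D58771 (iv D57600) D57599
def n58772 : Q := act 5 n57600
theorem D58772 : act 5 n57600 = n58772 := rfl
theorem F263121 : act 3 n58772 = n57616 := d25_1 D58772 (iv D57616) (iv F258436)
theorem F263122 : act 4 n58772 = n57603 := d30_1 D58772 (iv D57603) (iv D56424) (iv F253407) D57600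
def n58773 : Q := act 0 n57601
theorem D58773 : act 0 n57601 = n58773 := rfl
theorem F263123 : act 3 n58773 = n57610 := d2_2 (iv F258437) D58773 (iv D57610)
theorem F263124 : act 6 n58773 = n58172 := d5_2 (iv F258438) D58773 (iv D58172)
def n58774 : Q := act 4 n57601
theorem D58774 : act 4 n57601 = n58774 := rfl
theorem F263125 : act 1 n58774 = n57602 := d11_1 D58774 (iv D57602) D57601
theorem F263126 : act 6 n58774 = n58173 := d31_2 (iv F258438) D58774 (iv D58173)
def n58775 : Q := act 5 n57602
theorem D58775 : act 5 n57602 = n58775 := rfl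
theorem F263127 : act 2 n58775 = n57603 := d19_1 D58775 (iv D57603) (iv F258439)
def n58776 : Q := act 6 n57603
theorem D58776 : act 6 n57603 = n58776 := rfl
theorem F263128 : act 1 n58776 = n57617 := d13_1 D58776 (iv F263087) F263085
theorem F263129 : act 3 n58776 = n57604 := d26_1 D58776 (iv D57604) (iv F258441)
theorem F263130 : act 5 n58776 = n58175 := d35_1 D58776 (iv D58175) (iv D57000) (iv F253411) D57603
def n58777 : Q := act 2 n57605
theorem D58777 : act 2 n57605 = n58777 := rfl
theorem F263131 : act 4 n58777 = n58174 := d18_2 (iv F258446) D58777 F260470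
theorem F263132 : act 5 n58777 = n58171 := d19_2 (iv F258447) D58777 F260465
theorem F263133 : act 7 n58777 = n57606 := d21_2 (iv F258448) D58777 (iv D57606)
theorem F263134 : act 8 n58777 = n57868 := d22_2 (iv F258449) D58777 (iv D57868)
def n58778 : Q := act 1 n57606
theorem D58778 : act 1 n57606 = n58778 := rfl
theorem F263135 : act 5 n58778 = n58176 := d12_2 (iv F258450) D58778 (iv D58176)
theorem F263136 : act 6 n58778 = n57608 := d13_2 (iv F258451) D58778 (iv D57608)
theorem F263137 : act 8 n58778 = n57870 := d15_2 (iv F258452) D58778 (iv D57870)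
def n58779 : Q := act 4 n57606
theorem D58779 : act 4 n57606 = n58779 := rfl
theorem F263138 : act 2 n58779 = n57607 := d18_1 D58779 (iv D57607) D57606
theorem F263139 : act 5 n58779 = n58155 := d30_2 (iv F258450) D58779 (iv D58155) (iv F256107) F256106
theorem F263140 : act 6 n58779 = n57609 := d31_2 (iv F258451) D58779 (iv D57609)
theorem F263141 : act 7 n58779 = n58174 := d32_2 F263133 D58779 (iv F263131)
theorem F263142 : act 8 n58779 = n57871 := d33_2 (iv F258452) D58779 (iv D57871)
def n58780 : Q := act 0 n57608
theorem D58780 : act 0 n57608 = n58780 := rfl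
theorem F263143 : act 5 n58780 = n57610 := d4_2 (iv F258458) D58780 (iv D57610)
theorem F263144 : act 8 n58780 = n57872 := d7_2 (iv F258459) D58780 (iv D57872)
def n58781 : Q := act 4 n57608
theorem D58781 : act 4 n57608 = n58781 := rfl
theorem F263145 : act 1 n58781 = n57609 := d11_1 D58781 (iv D57609) D57608
theorem F263146 : act 8 n58781 = n57873 := d33_2 (iv F258459) D58781 (iv D57873)
def n58782 : Q := act 3 n57609
theorem D58782 : act 3 n57609 = n58782 := rfl
theorem F263147 : act 2 n58782 = n57617 := d17_1 D58782 (iv D57617) F253471 (iv F253422) (iv F258460)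
def n58783 : Q := act 5 n57612
theorem D58783 : act 5 n57612 = n58783 := rfl
theorem F263148 : act 0 n58783 = n58108 := d4_1 D58783 (iv D58108) (iv F258467)
theorem F263149 : act 1 n58783 = n57616 := d12_1 D58783 (iv D57616) (iv F258468)
theorem F263150 : act 2 n58783 = n57614 := d19_1 D58783 F258482 (iv F258469)
theorem F263151 : act 4 n58783 = n57613 := d30_1 D58783 (iv D57613) (iv D56434) (iv F253436) D57612
theorem F263152 : act 6 n58783 = n57615 := d35_2 F262312 D58783 (iv F262660) F262661 (iv F262311)
theorem F263153 : act 7 n58783 = n58124 := d36_2 (iv F258470) D58783 (iv D58124)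
theorem F263154 : act 8 n58783 = n58783 := d37_2 F258471 D58783 (iv D58783)
theorem F263155 : act 9 n58783 = n58102 := d38_2 (iv F258472) D58783 (iv D58102)
def n58784 : Q := act 3 n57615
theorem D58784 : act 3 n57615 = n58784 := rfl
theorem F263156 : act 4 n58784 = n57617 := d24_2 D57615 D58784 (iv D57617) (iv D56442) (iv F253458)
def n58785 : Q := act 8 n57617
theorem D58785 : act 8 n57617 = n58785 := rfl
theorem F263157 : act 3 n58785 = n57620 := d28_1 D58785 (iv D57620) (iv D56445) (iv F253472) D57617
def n58786 : Q := act 8 n57618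
theorem D58786 : act 8 n57618 = n58786 := rfl
theorem F263158 : act 1 n58786 = n57629 := d15_1 D58786 F258550 (iv F258490)
theorem F263159 : act 2 n58786 = n57906 := d22_1 D58786 (iv D57906) (iv F258491)
theorem F263160 : act 4 n58786 = n58786 := d33_1 D58786 (iv D58786) F258492
theorem F263161 : act 5 n58786 = n57625 := d37_1 D58786 F258533 (iv F258493)
theorem F263162 : act 6 n58786 = n57620 := d40_1 D58786 (iv D57620) (iv F258494)
theorem F263163 : act 7 n58786 = n58126 := d42_1 D58786 F260378 (iv F258495)
def n58787 : Q := act 2 n57619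
theorem D58787 : act 2 n57619 = n58787 := rfl
theorem F263164 : act 0 n58787 = n57900 := d1_1 D58787 (iv F261409) F261407
theorem F263165 : act 1 n58787 = n57908 := d9_1 D58787 (iv D57908) F254725 (iv F253483) (iv F258497)
theorem F263166 : act 3 n58787 = n57738 := d17_2 D57619 D58787 F259025 (iv F256210) F256209
theorem F263167 : act 4 n58787 = n58787 := d18_2 F258498 D58787 (iv D58787)
theorem F263168 : act 5 n58787 = n57897 := d19_2 (iv F258499) D58787 F259614
theorem F263169 : act 6 n58787 = n57630 := d20_2 (iv F258500) D58787 F258553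
theorem F263170 : act 7 n58787 = n57901 := d21_2 (iv F258501) D58787 F259633
theorem F263171 : act 9 n58787 = n58787 := d23_2 F258502 D58787 (iv D58787)
def n58788 : Q := act 8 n57619
theorem D58788 : act 8 n57619 = n58788 := rfl
theorem F263172 : act 1 n58788 = n57620 := d15_1 D58788 (iv D57620) (iv F258497)
theorem F263173 : act 4 n58788 = n58788 := d33_1 D58788 (iv D58788) F258498
theorem F263174 : act 5 n58788 = n57881 := d37_1 D58788 F259561 (iv F258499)
theorem F263175 : act 6 n58788 = n57629 := d40_1 D58788 F258550 (iv F258500)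
theorem F263176 : act 7 n58788 = n57884 := d42_1 D58788 F259571 (iv F258501)
def n58789 : Q := act 9 n57620
theorem D58789 : act 9 n57620 = n58789 := rfl
theorem F263177 : act 2 n58789 = n57910 := d23_1 D58789 (iv D57910) (iv F258503)
theorem F263178 : act 4 n58789 = n58789 := d34_1 D58789 (iv D58789) F258504
theorem F263179 : act 5 n58789 = n58334 := d38_1 D58789 (iv F262228) (iv F262229)
theorem F263180 : act 8 n58789 = n58789 := d44_1 D58789 (iv D58789) (iv D57620) F253485 D57620
def n58790 : Q := act 4 n57621
theorem D58790 : act 4 n57621 = n58790 := rfl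
theorem F263181 : act 0 n58790 = n58334 := d3_1 D58790 (iv D58334) (iv F258505)
theorem F263182 : act 1 n58790 = n58125 := d11_1 D58790 (iv D58125) (iv F258506)
theorem F263183 : act 6 n58790 = n58215 := d31_2 (iv F258508) D58790 (iv D58215)
theorem F263184 : act 7 n58790 = n57627 := d32_2 (iv F258509) D58790 (iv D57627)
theorem F263185 : act 8 n58790 = n58790 := d33_2 F258510 D58790 (iv D58790)
theorem F263186 : act 9 n58790 = n57622 := d34_2 (iv F258511) D58790 (iv D57622)
def n58791 : Q := act 4 n57624
theorem D58791 : act 4 n57624 = n58791 := rfl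
theorem F263187 : act 1 n58791 = n57627 := d11_1 D58791 (iv D57627) (iv F258522)
theorem F263188 : act 2 n58791 = n58096 := d18_1 D58791 (iv D58096) (iv F258523)
theorem F263189 : act 6 n58791 = n57679 := d31_2 (iv F258525) D58791 (iv D57679)
theorem F263190 : act 7 n58791 = n58125 := d32_2 (iv F258526) D58791 (iv D58125)
theorem F263191 : act 8 n58791 = n58791 := d33_2 F258527 D58791 (iv D58791)
theorem F263192 : act 9 n58791 = n57625 := d34_2 (iv F258528) D58791 (iv D57625)
def n58792 : Q := act 4 n57626
theorem D58792 : act 4 n57626 = n58792 := rfl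
theorem F263193 : act 0 n58792 = n58333 := d3_1 D58792 (iv D58333) (iv F258534)
theorem F263194 : act 1 n58792 = n58011 := d11_1 D58792 (iv D58011) (iv F258535)
theorem F263195 : act 2 n58792 = n57627 := d18_1 D58792 (iv D57627) D57626
theorem F263196 : act 6 n58792 = n58015 := d31_2 (iv F258538) D58792 (iv D58015)
theorem F263197 : act 8 n58792 = n58792 := d33_2 F258539 D58792 (iv D58792)
theorem F263198 : act 9 n58792 = n57628 := d34_2 (iv F258540) D58792 (iv D57628)
def n58793 : Q := act 5 n57627
theorem D58793 : act 5 n57627 = n58793 := rfl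
theorem F263199 : act 4 n58793 = n58793 := d30_1 D58793 (iv D58793) (iv D57627) F253532 D57627
theorem F263200 : act 8 n58793 = n58793 := d37_2 F258542 D58793 (iv D58793)
theorem F263201 : act 9 n58793 = n57629 := d38_2 (iv F258543) D58793 (iv D57629)
def n58794 : Q := act 3 n57628
theorem D58794 : act 3 n57628 = n58794 := rfl
theorem F263202 : act 0 n58794 = n58242 := d2_1 D58794 F260607 (iv F258544)
theorem F263203 : act 1 n58794 = n58037 := d10_1 D58794 F260155 (iv F258545)
theorem F263204 : act 4 n58794 = n57912 := d24_2 D57628 D58794 (iv D57912) (iv D56736) (iv F253538)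
theorem F263205 : act 6 n58794 = n58044 := d26_2 (iv F258547) D58794 F260172
theorem F263206 : act 8 n58794 = n58217 := d28_2 (iv F258548) D58794 F260564 F255722 (iv F253547)
def n58795 : Q := act 5 n57628
theorem D58795 : act 5 n57628 = n58795 := rfl
theorem F263207 : act 0 n58795 = n57904 := d4_1 D58795 F259649 (iv F258544)
theorem F263208 : act 1 n58795 = n58038 := d12_1 D58795 (iv D58038) (iv F258545)
theorem F263209 : act 2 n58795 = n57629 := d19_1 D58795 (iv D57629) (iv F258546)
theorem F263210 : act 4 n58795 = n58795 := d30_1 D58795 (iv D58795) (iv D57628) F253539 D57628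
theorem F263211 : act 7 n58795 = n57740 := d36_2 F261448 D58795 F261450
theorem F263212 : act 8 n58795 = n57630 := d37_2 (iv F258548) D58795 (iv D57630)
def n58796 : Q := act 2 n57631
theorem D58796 : act 2 n57631 = n58796 := rfl
theorem F263213 : act 0 n58796 = n58086 := d1_1 D58796 (iv D58086) (iv F258558)
theorem F263214 : act 4 n58796 = n57680 := d18_2 (iv F258560) D58796 (iv D57680)
theorem F263215 : act 7 n58796 = n57634 := d21_2 (iv F258561) D58796 (iv D57634)
theorem F263216 : act 9 n58796 = n58194 := d23_2 (iv F258562) D58796 (iv D58194)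
def n58797 : Q := act 2 n57632
theorem D58797 : act 2 n57632 = n58797 := rfl
theorem F263217 : act 0 n58797 = n58079 := d1_1 D58797 (iv D58079) (iv F258563)
theorem F263218 : act 3 n58797 = n57634 := d17_2 D57632 D58797 (iv D57634) (iv D56462) (iv F253560)
theorem F263219 : act 5 n58797 = n57847 := d19_2 (iv F258565) D58797 F259456
theorem F263220 : act 6 n58797 = n57981 := d20_2 (iv F258566) D58797 (iv D57981)
theorem F263221 : act 8 n58797 = n58280 := d22_2 (iv F258567) D58797 (iv D58280)
theorem F263222 : act 9 n58797 = n57947 := d23_2 (iv F258568) D58797 (iv D57947)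
def n58798 : Q := act 4 n57632
theorem D58798 : act 4 n57632 = n58798 := rfl
theorem F263223 : act 0 n58798 = n58080 := d3_1 D58798 (iv D58080) (iv F258563)
theorem F263224 : act 1 n58798 = n57864 := d11_1 D58798 F259508 (iv F258564)
theorem F263225 : act 3 n58798 = n57633 := d24_1 D58798 (iv D57633) (iv D56461) (iv F253561) D57632
theorem F263226 : act 5 n58798 = n57845 := d30_2 (iv F258565) D58798 (iv D57845) F254519 D56674
theorem F263227 : act 6 n58798 = n57982 := d31_2 (iv F258566) D58798 (iv D57982)
theorem F263228 : act 8 n58798 = n58281 := d33_2 (iv F258567) D58798 (iv D58281)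
theorem F263229 : act 9 n58798 = n57948 := d34_2 (iv F258568) D58798 (iv D57948)
def n58799 : Q := act 1 n57634
theorem D58799 : act 1 n57634 = n58799 := rfl
theorem F263230 : act 2 n58799 = n57639 := d9_2 D57634 D58799 (iv D57639) (iv D56467) (iv F253573)
theorem F263231 : act 4 n58799 = n57684 := d11_2 (iv F258577) D58799 (iv D57684)
theorem F263232 : act 6 n58799 = n57986 := d13_2 (iv F258578) D58799 (iv D57986)
theorem F263233 : act 9 n58799 = n58207 := d16_2 (iv F258579) D58799 (iv D58207)
def n58800 : Q := act 2 n57635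
theorem D58800 : act 2 n57635 = n58800 := rfl
theorem F263234 : act 0 n58800 = n57656 := d1_1 D58800 (iv D57656) (iv F258580)
theorem F263235 : act 3 n58800 = n58183 := d17_2 D57635 D58800 (iv D58183) (iv D57012) (iv F253586)
theorem F263236 : act 4 n58800 = n57707 := d18_2 (iv F258581) D58800 (iv D57707)
theorem F263237 : act 6 n58800 = n57636 := d20_2 (iv F258582) D58800 (iv D57636)
theorem F263238 : act 7 n58800 = n58179 := d21_2 (iv F258583) D58800 (iv D58179)
theorem F263239 : act 9 n58800 = n58188 := d23_2 (iv F258584) D58800 (iv D58188)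
def n58801 : Q := act 1 n57636
theorem D58801 : act 1 n57636 = n58801 := rfl
theorem F263240 : act 3 n58801 = n58184 := d10_2 (iv F258586) D58801 (iv D58184)
theorem F263241 : act 4 n58801 = n57716 := d11_2 (iv F258587) D58801 (iv D57716)
theorem F263242 : act 7 n58801 = n57639 := d14_2 (iv F258588) D58801 (iv D57639)
theorem F263243 : act 9 n58801 = n58199 := d16_2 (iv F258589) D58801 (iv D58199)
def n58802 : Q := act 1 n57637
theorem D58802 : act 1 n57637 = n58802 := rfl
theorem F263244 : act 3 n58802 = n58185 := d10_2 (iv F258591) D58802 (iv D58185)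
theorem F263245 : act 5 n58802 = n57639 := d12_2 (iv F258592) D58802 (iv D57639)
theorem F263246 : act 9 n58802 = n58211 := d16_2 (iv F258593) D58802 (iv D58211)
def n58803 : Q := act 4 n57637
theorem D58803 : act 4 n57637 = n58803 := rfl
theorem F263247 : act 0 n58803 = n57669 := d3_1 D58803 (iv D57669) (iv F258590)
theorem F263248 : act 2 n58803 = n57638 := d18_1 D58803 (iv D57638) D57637
theorem F263249 : act 5 n58803 = n57728 := d30_2 (iv F258592) D58803 (iv D57728) F254010 (iv F253600)
theorem F263250 : act 9 n58803 = n58212 := d34_2 (iv F258593) D58803 (iv D58212)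
def n58804 : Q := act 0 n57639
theorem D58804 : act 0 n57639 = n58804 := rfl
theorem F263251 : act 1 n58804 = n57670 := d0_2 D57639 D58804 (iv D57670) (iv D56497) (iv F253598)
theorem F263252 : act 3 n58804 = n58186 := d2_2 (iv F258598) D58804 (iv D58186)
theorem F263253 : act 4 n58804 = n57729 := d3_2 (iv F258599) D58804 (iv D57729)
theorem F263254 : act 6 n58804 = n58181 := d5_2 (iv F258600) D58804 (iv D58181)
theorem F263255 : act 9 n58804 = n58213 := d8_2 (iv F258601) D58804 (iv D58213)
def n58805 : Q := act 3 n57640
theorem D58805 : act 3 n57640 = n58805 := rfl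
theorem F263256 : act 0 n58805 = n58195 := d2_1 D58805 (iv D58195) (iv F258602)
theorem F263257 : act 5 n58805 = n57641 := d25_2 (iv F258605) D58805 (iv D57641)
theorem F263258 : act 7 n58805 = n57644 := d27_2 (iv F258606) D58805 (iv D57644)
theorem F263259 : act 8 n58805 = n57648 := d28_2 D57640 D58805 (iv D57648) (iv D56477) (iv F253609)
def n58806 : Q := act 2 n57641
theorem D58806 : act 2 n57641 = n58806 := rfl
theorem F263260 : act 0 n58806 = n58196 := d1_1 D58806 (iv D58196) (iv F258607)
theorem F263261 : act 4 n58806 = n57748 := d18_2 (iv F258608) D58806 (iv D57748)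
theorem F263262 : act 7 n58806 = n57645 := d21_2 (iv F258609) D58806 (iv D57645)
theorem F263263 : act 8 n58806 = n57649 := d22_2 (iv F258610) D58806 (iv D57649)
def n58807 : Q := act 2 n57642
theorem D58807 : act 2 n57642 = n58807 := rfl
theorem F263264 : act 0 n58807 = n58114 := d1_1 D58807 (iv D58114) (iv F258611)
theorem F263265 : act 3 n58807 = n57645 := d17_2 D57642 D58807 (iv D57645) (iv D56474) (iv F253617)
theorem F263266 : act 6 n58807 = n57658 := d20_2 (iv F258612) D58807 (iv D57658)
theorem F263267 : act 8 n58807 = n58100 := d22_2 (iv F258613) D58807 (iv D58100)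
def n58808 : Q := act 4 n57642
theorem D58808 : act 4 n57642 = n58808 := rfl
theorem F263268 : act 0 n58808 = n58115 := d3_1 D58808 (iv D58115) (iv F258611)
theorem F263269 : act 3 n58808 = n57643 := d24_1 D58808 (iv D57643) (iv D56472) (iv F253618) D57642
theorem F263270 : act 6 n58808 = n57659 := d31_2 (iv F258612) D58808 (iv D57659)
theorem F263271 : act 8 n58808 = n58101 := d33_2 (iv F258613) D58808 (iv D58101)
def n58809 : Q := act 5 n57643
theorem D58809 : act 5 n57643 = n58809 := rfl
theorem F263272 : act 0 n58809 = n58126 := d4_1 D58809 (iv D58126) (iv F258614)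
theorem F263273 : act 2 n58809 = n57763 := d19_1 D58809 (iv D57763) (iv F258615)
theorem F263274 : act 4 n58809 = n58809 := d30_1 D58809 (iv D58809) (iv D57643) F253622 D57643
theorem F263275 : act 6 n58809 = n57884 := d35_2 (iv F258616) D58809 (iv D57884) F254607 (iv F253741)
theorem F263276 : act 8 n58809 = n57673 := d37_2 (iv F258617) D58809 (iv D57673)
def n58810 : Q := act 2 n57644
theorem D58810 : act 2 n57644 = n58810 := rfl
theorem F263277 : act 0 n58810 = n58208 := d1_1 D58810 (iv D58208) (iv F258618)
theorem F263278 : act 5 n58810 = n57645 := d19_2 (iv F258619) D58810 (iv D57645)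
theorem F263279 : act 8 n58810 = n57650 := d22_2 (iv F258620) D58810 (iv D57650)
def n58811 : Q := act 4 n57644
theorem D58811 : act 4 n57644 = n58811 := rfl
theorem F263280 : act 0 n58811 = n58209 := d3_1 D58811 (iv D58209) (iv F258618)
theorem F263281 : act 3 n58811 = n58811 := d24_1 D58811 (iv D58811) (iv D57644) F253626 D57644
theorem F263282 : act 5 n58811 = n57766 := d30_2 (iv F258619) D58811 (iv D57766) F254194 (iv F253629)
theorem F263283 : act 8 n58811 = n57651 := d33_2 (iv F258620) D58811 (iv D57651)
def n58812 : Q := act 1 n57645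
theorem D58812 : act 1 n57645 = n58812 := rfl
theorem F263284 : act 4 n58812 = n57767 := d11_2 (iv F258622) D58812 (iv D57767)
theorem F263285 : act 6 n58812 = n58182 := d13_2 (iv F258623) D58812 (iv D58182)
theorem F263286 : act 8 n58812 = n57652 := d15_2 (iv F258624) D58812 (iv D57652)
def n58813 : Q := act 3 n57646
theorem D58813 : act 3 n57646 = n58813 := rfl
theorem F263287 : act 0 n58813 = n58187 := d2_1 D58813 (iv D58187) (iv F258625)
theorem F263288 : act 1 n58813 = n58140 := d10_1 D58813 (iv D58140) (iv F258626)
theorem F263289 : act 5 n58813 = n57647 := d25_2 (iv F258629) D58813 (iv D57647)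
theorem F263290 : act 7 n58813 = n57681 := d27_2 (iv F258630) D58813 (iv D57681)
theorem F263291 : act 8 n58813 = n57678 := d28_2 D57646 D58813 (iv D57678) (iv D56508) (iv F253635)
theorem F263292 : act 9 n58813 = n57655 := d29_2 (iv F258631) D58813 (iv D57655)
def n58814 : Q := act 2 n57647
theorem D58814 : act 2 n57647 = n58814 := rfl
theorem F263293 : act 0 n58814 = n58188 := d1_1 D58814 (iv D58188) (iv F258632)
theorem F263294 : act 3 n58814 = n58179 := d17_2 D57647 D58814 (iv D58179) (iv D57008) (iv F253640)
theorem F263295 : act 4 n58814 = n57771 := d18_2 (iv F258633) D58814 (iv D57771)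
theorem F263296 : act 6 n58814 = n57649 := d20_2 (iv F258634) D58814 (iv D57649)
theorem F263297 : act 7 n58814 = n58183 := d21_2 (iv F258635) D58814 (iv D58183)
theorem F263298 : act 9 n58814 = n57656 := d23_2 (iv F258636) D58814 (iv D57656)
def n58815 : Q := act 2 n57648
theorem D58815 : act 2 n57648 = n58815 := rfl
theorem F263299 : act 0 n58815 = n58197 := d1_1 D58815 (iv D58197) (iv F258637)
theorem F263300 : act 3 n58815 = n57952 := d17_2 D57648 D58815 (iv D57952) (iv D56780) (iv F253646)
theorem F263301 : act 5 n58815 = n57649 := d19_2 (iv F258638) D58815 (iv D57649)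
theorem F263302 : act 7 n58815 = n57650 := d21_2 (iv F258639) D58815 (iv D57650)
theorem F263303 : act 9 n58815 = n57658 := d23_2 (iv F258640) D58815 (iv D57658)
def n58816 : Q := act 4 n57648
theorem D58816 : act 4 n57648 = n58816 := rfl
theorem F263304 : act 0 n58816 = n58198 := d3_1 D58816 (iv D58198) (iv F258637)
theorem F263305 : act 3 n58816 = n57653 := d24_1 D58816 (iv D57653) (iv D56481) (iv F253647) D57648
theorem F263306 : act 5 n58816 = n57779 := d30_2 (iv F258638) D58816 (iv D57779) F254248 (iv F253652)
theorem F263307 : act 7 n58816 = n57651 := d32_2 (iv F258639) D58816 (iv D57651)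
theorem F263308 : act 9 n58816 = n57659 := d34_2 (iv F258640) D58816 (iv D57659)
def n58817 : Q := act 1 n57649
theorem D58817 : act 1 n57649 = n58817 := rfl
theorem F263309 : act 3 n58817 = n58180 := d10_2 (iv F258642) D58817 (iv D58180)
theorem F263310 : act 4 n58817 = n57780 := d11_2 (iv F258643) D58817 (iv D57780)
theorem F263311 : act 7 n58817 = n57652 := d14_2 (iv F258644) D58817 (iv D57652)
theorem F263312 : act 9 n58817 = n57660 := d16_2 (iv F258645) D58817 (iv D57660)
def n58818 : Q := act 1 n57650
theorem D58818 : act 1 n57650 = n58818 := rfl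
theorem F263313 : act 3 n58818 = n57953 := d10_2 (iv F258647) D58818 (iv D57953)
theorem F263314 : act 5 n58818 = n57652 := d12_2 (iv F258648) D58818 (iv D57652)
theorem F263315 : act 9 n58818 = n57668 := d16_2 (iv F258649) D58818 (iv D57668)
def n58819 : Q := act 4 n57650
theorem D58819 : act 4 n57650 = n58819 := rfl
theorem F263316 : act 0 n58819 = n58212 := d3_1 D58819 (iv D58212) (iv F258646)
theorem F263317 : act 2 n58819 = n57651 := d18_1 D58819 (iv D57651) D57650
theorem F263318 : act 3 n58819 = n58082 := d24_1 D58819 (iv D58082) F255374 (iv F254951) (iv F258647)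
theorem F263319 : act 5 n58819 = n57795 := d30_2 (iv F258648) D58819 (iv D57795) F254305 (iv F253660)
theorem F263320 : act 9 n58819 = n57669 := d34_2 (iv F258649) D58819 (iv D57669)
def n58820 : Q := act 0 n57652
theorem D58820 : act 0 n57652 = n58820 := rfl
theorem F263321 : act 1 n58820 = n58213 := d0_2 D57652 D58820 (iv D58213) (iv D57038) (iv F253658)
theorem F263322 : act 3 n58820 = n58181 := d2_2 (iv F258654) D58820 (iv D58181)
theorem F263323 : act 4 n58820 = n57796 := d3_2 (iv F258655) D58820 (iv D57796)
theorem F263324 : act 6 n58820 = n58186 := d5_2 (iv F258656) D58820 (iv D58186)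
theorem F263325 : act 9 n58820 = n57670 := d8_2 (iv F258657) D58820 (iv D57670)
def n58821 : Q := act 2 n57654
theorem D58821 : act 2 n57654 = n58821 := rfl
theorem F263326 : act 0 n58821 = n58183 := d1_1 D58821 (iv D58183) (iv F258664)
theorem F263327 : act 3 n58821 = n57656 := d17_2 D57654 D58821 (iv D57656) (iv D56485) (iv F253676)
theorem F263328 : act 4 n58821 = n58204 := d18_2 (iv F258666) D58821 (iv D58204)
theorem F263329 : act 6 n58821 = n57657 := d20_2 (iv F258667) D58821 (iv D57657)
theorem F263330 : act 7 n58821 = n58188 := d21_2 (iv F258668) D58821 (iv D58188)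
theorem F263331 : act 8 n58821 = n57676 := d22_2 (iv F258669) D58821 (iv D57676)
theorem F263332 : act 9 n58821 = n58179 := d23_2 (iv F258670) D58821 (iv D58179)
def n58822 : Q := act 2 n57655
theorem D58822 : act 2 n57655 = n58822 := rfl
theorem F263333 : act 5 n58822 = n57656 := d19_2 (iv F258672) D58822 (iv D57656)
theorem F263334 : act 7 n58822 = n58190 := d21_2 (iv F258673) D58822 (iv D58190)
theorem F263335 : act 8 n58822 = n58137 := d22_2 (iv F258674) D58822 (iv D58137)
def n58823 : Q := act 4 n57655
theorem D58823 : act 4 n57655 = n58823 := rfl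
theorem F263336 : act 1 n58823 = n58142 := d11_1 D58823 (iv D58142) (iv F258671)
theorem F263337 : act 3 n58823 = n58823 := d24_1 D58823 (iv D58823) (iv D57655) F253682 D57655
theorem F263338 : act 5 n58823 = n57817 := d30_2 (iv F258672) D58823 (iv D57817) F254423 (iv F253685)
theorem F263339 : act 7 n58823 = n58191 := d32_2 (iv F258673) D58823 (iv D58191)
theorem F263340 : act 8 n58823 = n58138 := d33_2 (iv F258674) D58823 (iv D58138)
def n58824 : Q := act 1 n57656
theorem D58824 : act 1 n57656 = n58824 := rfl
theorem F263341 : act 4 n58824 = n57818 := d11_2 (iv F258675) D58824 (iv D57818)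
theorem F263342 : act 6 n58824 = n57660 := d13_2 (iv F258676) D58824 (iv D57660)
theorem F263343 : act 7 n58824 = n58192 := d14_2 (iv F258677) D58824 (iv D58192)
def n58825 : Q := act 1 n57657
theorem D58825 : act 1 n57657 = n58825 := rfl
theorem F263344 : act 2 n58825 = n58218 := d9_2 D57657 D58825 (iv D58218) (iv D57046) (iv F253689)
theorem F263345 : act 3 n58825 = n57660 := d10_2 (iv F258679) D58825 (iv D57660)
theorem F263346 : act 4 n58825 = n58219 := d11_2 (iv F258680) D58825 (iv D58219)
theorem F263347 : act 5 n58825 = n58182 := d12_2 (iv F258681) D58825 (iv D58182)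
theorem F263348 : act 7 n58825 = n57664 := d14_2 (iv F258682) D58825 (iv D57664)
theorem F263349 : act 8 n58825 = n58185 := d15_2 (iv F258683) D58825 (iv D58185)
theorem F263350 : act 9 n58825 = n58180 := d16_2 (iv F258684) D58825 (iv D58180)
def n58826 : Q := act 1 n57658
theorem D58826 : act 1 n57658 = n58826 := rfl
theorem F263351 : act 3 n58826 = n58182 := d10_2 (iv F258685) D58826 (iv D58182)
theorem F263352 : act 5 n58826 = n57660 := d12_2 (iv F258686) D58826 (iv D57660)
theorem F263353 : act 7 n58826 = n57668 := d14_2 (iv F258687) D58826 (iv D57668)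
def n58827 : Q := act 4 n57658
theorem D58827 : act 4 n57658 = n58827 := rfl
theorem F263354 : act 2 n58827 = n57659 := d18_1 D58827 (iv D57659) D57658
theorem F263355 : act 3 n58827 = n58244 := d24_1 D58827 (iv D58244) F255771 (iv F255643) (iv F258685)
theorem F263356 : act 5 n58827 = n57837 := d30_2 (iv F258686) D58827 (iv D57837) F254491 (iv F253697)
theorem F263357 : act 7 n58827 = n57669 := d32_2 (iv F258687) D58827 (iv D57669)
def n58828 : Q := act 0 n57660
theorem D58828 : act 0 n57660 = n58828 := rfl
theorem F263358 : act 4 n58828 = n57838 := d3_2 (iv F258691) D58828 (iv D57838)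
theorem F263359 : act 7 n58828 = n57670 := d6_2 (iv F258692) D58828 (iv D57670)
def n58829 : Q := act 1 n57661
theorem D58829 : act 1 n57661 = n58829 := rfl
theorem F263360 : act 2 n58829 = n57664 := d9_2 D57661 D58829 (iv D57664) (iv D56492) (iv F253700)
theorem F263361 : act 4 n58829 = n58185 := d11_2 (iv F258694) D58829 (iv D58185)
theorem F263362 : act 5 n58829 = n57957 := d12_2 (iv F258695) D58829 (iv D57957)
theorem F263363 : act 6 n58829 = n58207 := d13_2 (iv F258696) D58829 (iv D58207)
theorem F263364 : act 7 n58829 = n58218 := d14_2 (iv F258697) D58829 (iv D58218)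
theorem F263365 : act 8 n58829 = n58219 := d15_2 (iv F258698) D58829 (iv D58219)
theorem F263366 : act 9 n58829 = n57986 := d16_2 (iv F258699) D58829 (iv D57986)
def n58830 : Q := act 1 n57662
theorem D58830 : act 1 n57662 = n58830 := rfl
theorem F263367 : act 2 n58830 = n58219 := d9_2 D57662 D58830 (iv D58219) (iv D57047) (iv F253708)
theorem F263368 : act 4 n58830 = n58218 := d11_2 (iv F258701) D58830 (iv D58218)
theorem F263369 : act 5 n58830 = n58184 := d12_2 (iv F258702) D58830 (iv D58184)
theorem F263370 : act 6 n58830 = n58210 := d13_2 (iv F258703) D58830 (iv D58210)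
theorem F263371 : act 7 n58830 = n58185 := d14_2 (iv F258704) D58830 (iv D58185)
theorem F263372 : act 8 n58830 = n57664 := d15_2 (iv F258705) D58830 (iv D57664)
theorem F263373 : act 9 n58830 = n58201 := d16_2 (iv F258706) D58830 (iv D58201)
def n58831 : Q := act 1 n57663
theorem D58831 : act 1 n57663 = n58831 := rfl
theorem F263374 : act 2 n58831 = n57957 := d9_2 D57663 D58831 (iv D57957) (iv D56785) (iv F253716)
theorem F263375 : act 3 n58831 = n57668 := d10_2 (iv F258708) D58831 (iv D57668)
theorem F263376 : act 4 n58831 = n58033 := d11_2 (iv F258709) D58831 (iv D58033)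
theorem F263377 : act 5 n58831 = n57664 := d12_2 (iv F258710) D58831 (iv D57664)
theorem F263378 : act 7 n58831 = n58182 := d14_2 (iv F258711) D58831 (iv D58182)
theorem F263379 : act 8 n58831 = n58184 := d15_2 (iv F258712) D58831 (iv D58184)
theorem F263380 : act 9 n58831 = n57953 := d16_2 (iv F258713) D58831 (iv D57953)
def n58832 : Q := act 0 n57664
theorem D58832 : act 0 n57664 = n58832 := rfl
theorem F263381 : act 1 n58832 = n58186 := d0_2 D57664 D58832 (iv D58186) (iv D57015) (iv F253722)
theorem F263382 : act 3 n58832 = n57670 := d2_2 (iv F258714) D58832 (iv D57670)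
theorem F263383 : act 4 n58832 = n58220 := d3_2 (iv F258715) D58832 (iv D58220)
theorem F263384 : act 6 n58832 = n58213 := d5_2 (iv F258716) D58832 (iv D58213)
theorem F263385 : act 9 n58832 = n58181 := d8_2 (iv F258717) D58832 (iv D58181)
def n58833 : Q := act 2 n57665
theorem D58833 : act 2 n57665 = n58833 := rfl
theorem F263386 : act 0 n58833 = n58159 := d1_1 D58833 (iv D58159) (iv F258718)
theorem F263387 : act 5 n58833 = n57680 := d19_2 (iv F258720) D58833 (iv D57680)
theorem F263388 : act 7 n58833 = n57666 := d21_2 (iv F258721) D58833 (iv D57666)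
theorem F263389 : act 8 n58833 = n58157 := d22_2 (iv F258722) D58833 (iv D58157)
def n58834 : Q := act 4 n57665
theorem D58834 : act 4 n57665 = n58834 := rfl
theorem F263390 : act 0 n58834 = n58160 := d3_1 D58834 (iv D58160) (iv F258718)
theorem F263391 : act 1 n58834 = n57715 := d11_1 D58834 (iv D57715) (iv F258719)
theorem F263392 : act 3 n58834 = n57671 := d24_1 D58834 (iv D57671) (iv D56499) (iv F253729) D57665
theorem F263393 : act 7 n58834 = n57667 := d32_2 (iv F258721) D58834 (iv D57667)
theorem F263394 : act 8 n58834 = n58158 := d33_2 (iv F258722) D58834 (iv D58158)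
def n58835 : Q := act 1 n57666
theorem D58835 : act 1 n57666 = n58835 := rfl
theorem F263395 : act 2 n58835 = n57727 := d9_2 D57666 D58835 (iv D57727) (iv D56555) (iv F253732)
theorem F263396 : act 5 n58835 = n57684 := d12_2 (iv F258723) D58835 (iv D57684)
theorem F263397 : act 6 n58835 = n57668 := d13_2 (iv F258724) D58835 (iv D57668)
def n58836 : Q := act 4 n57666
theorem D58836 : act 4 n57666 = n58836 := rfl
theorem F263398 : act 2 n58836 = n57667 := d18_1 D58836 (iv D57667) D57666
theorem F263399 : act 6 n58836 = n57669 := d31_2 (iv F258724) D58836 (iv D57669)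
def n58837 : Q := act 0 n57668
theorem D58837 : act 0 n57668 = n58837 := rfl
theorem F263400 : act 5 n58837 = n57670 := d4_2 (iv F258728) D58837 (iv D57670)
def n58838 : Q := act 4 n57668
theorem D58838 : act 4 n57668 = n58838 := rfl
theorem F263401 : act 1 n58838 = n57669 := d11_1 D58838 (iv D57669) D57668
theorem F263402 : act 5 n58838 = n57873 := d30_2 (iv F258728) D58838 (iv D57873) F254577 (iv F253738)
def n58839 : Q := act 3 n57669
theorem D58839 : act 3 n57669 = n58839 := rfl
theorem F263403 : act 2 n58839 = n57672 := d17_1 D58839 (iv D57672) F253752 (iv F253736) (iv F258729)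
theorem F263404 : act 4 n58839 = n58029 := d24_2 D57669 D58839 F260133 (iv F258709) F258708
theorem F263405 : act 5 n58839 = n57874 := d25_2 (iv F258730) D58839 (iv D57874)
theorem F263406 : act 7 n58839 = n58244 := d27_2 F263357 D58839 (iv F263355)
theorem F263407 : act 9 n58839 = n58082 := d29_2 F263320 D58839 (iv F263318)
def n58840 : Q := act 8 n57672
theorem D58840 : act 8 n57672 = n58840 := rfl
theorem F263408 : act 3 n58840 = n57674 := d28_1 D58840 (iv D57674) (iv D56504) (iv F253755) D57672
theorem F263409 : act 4 n58840 = n58025 := d33_1 D58840 F260127 (iv F258737)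
theorem F263410 : act 5 n58840 = n57895 := d37_1 D58840 (iv D57895) (iv F258738)
theorem F263411 : act 7 n58840 = n58242 := d42_1 D58840 F260608 (iv F258739)
def n58841 : Q := act 9 n57674
theorem D58841 : act 9 n57674 = n58841 := rfl
theorem F263412 : act 1 n58841 = n57878 := d16_1 D58841 (iv F262278) F262272
theorem F263413 : act 2 n58841 = n58334 := d23_1 D58841 (iv F262228) F262224
theorem F263414 : act 4 n58841 = n57741 := d34_1 D58841 F259041 (iv F258747)
theorem F263415 : act 5 n58841 = n57910 := d38_1 D58841 (iv D57910) (iv F258748)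
theorem F263416 : act 6 n58841 = n57875 := d41_1 D58841 (iv F262025) F262022
theorem F263417 : act 7 n58841 = n58333 := d43_1 D58841 F260800 (iv F258749)
theorem F263418 : act 8 n58841 = n58841 := d44_1 D58841 (iv D58841) (iv D57674) F253770 D57674
def n58842 : Q := act 2 n57675
theorem D58842 : act 2 n57675 = n58842 := rfl
theorem F263419 : act 3 n58842 = n58159 := d17_2 D57675 D58842 (iv D58159) (iv D56987) (iv F253772)
theorem F263420 : act 4 n58842 = n58194 := d18_2 (iv F258751) D58842 (iv D58194)
theorem F263421 : act 6 n58842 = n58196 := d20_2 (iv F258752) D58842 (iv D58196)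
theorem F263422 : act 7 n58842 = n57676 := d21_2 (iv F258753) D58842 (iv D57676)
theorem F263423 : act 8 n58842 = n58188 := d22_2 (iv F258754) D58842 (iv D58188)
theorem F263424 : act 9 n58842 = n57680 := d23_2 (iv F258755) D58842 (iv D57680)
def n58843 : Q := act 1 n57676
theorem D58843 : act 1 n57676 = n58843 := rfl
theorem F263425 : act 2 n58843 = n57699 := d9_2 D57676 D58843 (iv D57699) (iv D56528) (iv F253777)
theorem F263426 : act 4 n58843 = n58207 := d11_2 (iv F258756) D58843 (iv D58207)
theorem F263427 : act 6 n58843 = n58185 := d13_2 (iv F258757) D58843 (iv D58185)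
theorem F263428 : act 9 n58843 = n57684 := d16_2 (iv F258758) D58843 (iv D57684)
def n58844 : Q := act 2 n57677
theorem D58844 : act 2 n57677 = n58844 := rfl
theorem F263429 : act 6 n58844 = n57680 := d20_2 (iv F258760) D58844 (iv D57680)
theorem F263430 : act 7 n58844 = n58200 := d21_2 (iv F258761) D58844 (iv D58200)
theorem F263431 : act 9 n58844 = n58196 := d23_2 (iv F258762) D58844 (iv D58196)
def n58845 : Q := act 2 n57678
theorem D58845 : act 2 n57678 = n58845 := rfl
theorem F263432 : act 3 n58845 = n57680 := d17_2 D57678 D58845 (iv D57680) (iv D56510) (iv F253787)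
theorem F263433 : act 7 n58845 = n57682 := d21_2 (iv F258764) D58845 (iv D57682)
theorem F263434 : act 9 n58845 = n58159 := d23_2 (iv F258765) D58845 (iv D58159)
def n58846 : Q := act 4 n57678
theorem D58846 : act 4 n57678 = n58846 := rfl
theorem F263435 : act 1 n58846 = n58166 := d11_1 D58846 (iv D58166) (iv F258763)
theorem F263436 : act 3 n58846 = n57679 := d24_1 D58846 (iv D57679) (iv D56509) (iv F253788) D57678
theorem F263437 : act 7 n58846 = n57683 := d32_2 (iv F258764) D58846 (iv D57683)
theorem F263438 : act 9 n58846 = n58160 := d34_2 (iv F258765) D58846 (iv D58160)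
def n58847 : Q := act 1 n57680
theorem D58847 : act 1 n57680 = n58847 := rfl
theorem F263439 : act 2 n58847 = n57716 := d9_2 D57680 D58847 (iv D57716) (iv D56545) (iv F253796)
theorem F263440 : act 7 n58847 = n57684 := d14_2 (iv F258770) D58847 (iv D57684)
def n58848 : Q := act 2 n57681
theorem D58848 : act 2 n57681 = n58848 := rfl
theorem F263441 : act 5 n58848 = n58183 := d19_2 (iv F258771) D58848 (iv D58183)
theorem F263442 : act 6 n58848 = n58208 := d20_2 (iv F258772) D58848 (iv D58208)
theorem F263443 : act 8 n58848 = n57682 := d22_2 (iv F258773) D58848 (iv D57682)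
theorem F263444 : act 9 n58848 = n58190 := d23_2 (iv F258774) D58848 (iv D58190)
def n58849 : Q := act 4 n57681
theorem D58849 : act 4 n57681 = n58849 := rfl
theorem F263445 : act 3 n58849 = n58849 := d24_1 D58849 (iv D58849) (iv D57681) F253798 D57681
theorem F263446 : act 5 n58849 = n58249 := d30_2 (iv F258771) D58849 (iv D58249) F255780 (iv F255645)
theorem F263447 : act 6 n58849 = n58209 := d31_2 (iv F258772) D58849 (iv D58209)
theorem F263448 : act 8 n58849 = n57683 := d33_2 (iv F258773) D58849 (iv D57683)
theorem F263449 : act 9 n58849 = n58191 := d34_2 (iv F258774) D58849 (iv D58191)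
def n58850 : Q := act 1 n57682
theorem D58850 : act 1 n57682 = n58850 := rfl
theorem F263450 : act 3 n58850 = n57684 := d10_2 (iv F258775) D58850 (iv D57684)
theorem F263451 : act 6 n58850 = n58211 := d13_2 (iv F258776) D58850 (iv D58211)
def n58851 : Q := act 4 n57682
theorem D58851 : act 4 n57682 = n58851 := rfl
theorem F263452 : act 2 n58851 = n57683 := d18_1 D58851 (iv D57683) D57682
theorem F263453 : act 6 n58851 = n58212 := d31_2 (iv F258776) D58851 (iv D58212)
def n58852 : Q := act 0 n57684
theorem D58852 : act 0 n57684 = n58852 := rfl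
theorem F263454 : act 2 n58852 = n57729 := d1_2 (iv F258779) D58852 (iv D57729)
theorem F263455 : act 6 n58852 = n58214 := d5_2 (iv F258780) D58852 (iv D58214)
def n58853 : Q := act 3 n57685
theorem D58853 : act 3 n57685 = n58853 := rfl
theorem F263456 : act 0 n58853 = n57747 := d2_1 D58853 (iv D57747) (iv F258781)
theorem F263457 : act 1 n58853 = n58187 := d10_1 D58853 (iv D58187) (iv F258782)
theorem F263458 : act 5 n58853 = n57686 := d25_2 (iv F258785) D58853 (iv D57686)
theorem F263459 : act 7 n58853 = n57690 := d27_2 (iv F258786) D58853 (iv D57690)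
theorem F263460 : act 8 n58853 = n57695 := d28_2 D57685 D58853 (iv D57695) (iv D56525) (iv F253809)
def n58854 : Q := act 2 n57686
theorem D58854 : act 2 n57686 = n58854 := rfl
theorem F263461 : act 0 n58854 = n57748 := d1_1 D58854 (iv D57748) (iv F258787)
theorem F263462 : act 3 n58854 = n58062 := d17_2 D57686 D58854 (iv D58062) (iv D56885) (iv F253815)
theorem F263463 : act 4 n58854 = n58196 := d18_2 (iv F258789) D58854 (iv D58196)
theorem F263464 : act 6 n58854 = n58194 := d20_2 (iv F258790) D58854 (iv D58194)
theorem F263465 : act 7 n58854 = n57691 := d21_2 (iv F258791) D58854 (iv D57691)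
theorem F263466 : act 8 n58854 = n57696 := d22_2 (iv F258792) D58854 (iv D57696)
def n58855 : Q := act 3 n57687
theorem D58855 : act 3 n57687 = n58855 := rfl
theorem F263467 : act 0 n58855 = n57760 := d2_1 D58855 (iv D57760) (iv F258793)
theorem F263468 : act 1 n58855 = n58046 := d10_1 D58855 (iv D58046) (iv F258794)
theorem F263469 : act 5 n58855 = n57688 := d25_2 (iv F258797) D58855 (iv D57688)
theorem F263470 : act 7 n58855 = n58060 := d27_2 (iv F258798) D58855 (iv D58060)
theorem F263471 : act 8 n58855 = n58042 := d28_2 D57687 D58855 (iv D58042) (iv D56868) (iv F253822)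
def n58856 : Q := act 2 n57688
theorem D58856 : act 2 n57688 = n58856 := rfl
theorem F263472 : act 0 n58856 = n57761 := d1_1 D58856 (iv D57761) (iv F258799)
theorem F263473 : act 3 n58856 = n57691 := d17_2 D57688 D58856 (iv D57691) (iv D56521) (iv F253828)
theorem F263474 : act 6 n58856 = n58216 := d20_2 (iv F258801) D58856 (iv D58216)
theorem F263475 : act 7 n58856 = n58062 := d21_2 (iv F258802) D58856 (iv D58062)
theorem F263476 : act 8 n58856 = n58043 := d22_2 (iv F258803) D58856 (iv D58043)
def n58857 : Q := act 4 n57688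
theorem D58857 : act 4 n57688 = n58857 := rfl
theorem F263477 : act 0 n58857 = n57762 := d3_1 D58857 (iv D57762) (iv F258799)
theorem F263478 : act 1 n58857 = n58049 := d11_1 D58857 (iv D58049) (iv F258800)
theorem F263479 : act 3 n58857 = n57689 := d24_1 D58857 (iv D57689) (iv D56519) (iv F253829) D57688
theorem F263480 : act 6 n58857 = n58217 := d31_2 (iv F258801) D58857 (iv D58217)
theorem F263481 : act 7 n58857 = n58063 := d32_2 (iv F258802) D58857 (iv D58063)
theorem F263482 : act 8 n58857 = n58044 := d33_2 (iv F258803) D58857 (iv D58044)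
def n58858 : Q := act 5 n57689
theorem D58858 : act 5 n57689 = n58858 := rfl
theorem F263483 : act 0 n58858 = n57763 := d4_1 D58858 (iv D57763) (iv F258804)
theorem F263484 : act 1 n58858 = n58094 := d12_1 D58858 (iv D58094) (iv F258805)
theorem F263485 : act 2 n58858 = n58126 := d19_1 D58858 (iv D58126) (iv F258806)
theorem F263486 : act 4 n58858 = n58858 := d30_1 D58858 (iv D58858) (iv D57689) F253835 D57689
theorem F263487 : act 7 n58858 = n57906 := d36_2 (iv F258808) D58858 F259660
theorem F263488 : act 8 n58858 = n57905 := d37_2 (iv F258809) D58858 F259655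
def n58859 : Q := act 2 n57690
theorem D58859 : act 2 n57690 = n58859 := rfl
theorem F263489 : act 0 n58859 = n57765 := d1_1 D58859 (iv D57765) (iv F258810)
theorem F263490 : act 5 n58859 = n57691 := d19_2 (iv F258811) D58859 (iv D57691)
theorem F263491 : act 8 n58859 = n57697 := d22_2 (iv F258812) D58859 (iv D57697)
def n58860 : Q := act 4 n57690
theorem D58860 : act 4 n57690 = n58860 := rfl
theorem F263492 : act 0 n58860 = n57766 := d3_1 D58860 (iv D57766) (iv F258810)
theorem F263493 : act 3 n58860 = n58860 := d24_1 D58860 (iv D58860) (iv D57690) F253840 D57690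
theorem F263494 : act 5 n58860 = n58209 := d30_2 (iv F258811) D58860 (iv D58209) F255702 (iv F253843)
theorem F263495 : act 8 n58860 = n57698 := d33_2 (iv F258812) D58860 (iv D57698)
def n58861 : Q := act 1 n57691
theorem D58861 : act 1 n57691 = n58861 := rfl
theorem F263496 : act 4 n58861 = n58210 := d11_2 (iv F258814) D58861 (iv D58210)
theorem F263497 : act 6 n58861 = n58218 := d13_2 (iv F258815) D58861 (iv D58218)
theorem F263498 : act 8 n58861 = n57699 := d15_2 (iv F258816) D58861 (iv D57699)
def n58862 : Q := act 3 n57692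
theorem D58862 : act 3 n57692 = n58862 := rfl
theorem F263499 : act 0 n58862 = n57770 := d2_1 D58862 (iv D57770) (iv F258817)
theorem F263500 : act 1 n58862 = n58195 := d10_1 D58862 (iv D58195) (iv F258818)
theorem F263501 : act 5 n58862 = n57693 := d25_2 (iv F258821) D58862 (iv D57693)
theorem F263502 : act 7 n58862 = n58203 := d27_2 (iv F258822) D58862 (iv D58203)
theorem F263503 : act 8 n58862 = n58193 := d28_2 D57692 D58862 (iv D58193) (iv D57021) (iv F253849)
theorem F263504 : act 9 n58862 = n57706 := d29_2 (iv F258823) D58862 (iv D57706)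
def n58863 : Q := act 2 n57693
theorem D58863 : act 2 n57693 = n58863 := rfl
theorem F263505 : act 0 n58863 = n57771 := d1_1 D58863 (iv D57771) (iv F258824)
theorem F263506 : act 3 n58863 = n57842 := d17_2 D57693 D58863 (iv D57842) (iv D56670) (iv F253855)
theorem F263507 : act 4 n58863 = n58188 := d18_2 (iv F258826) D58863 (iv D58188)
theorem F263508 : act 6 n58863 = n57696 := d20_2 (iv F258827) D58863 (iv D57696)
theorem F263509 : act 7 n58863 = n58204 := d21_2 (iv F258828) D58863 (iv D58204)
theorem F263510 : act 8 n58863 = n58194 := d22_2 (iv F258829) D58863 (iv D58194)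
theorem F263511 : act 9 n58863 = n57707 := d23_2 (iv F258830) D58863 (iv D57707)
def n58864 : Q := act 3 n57694
theorem D58864 : act 3 n57694 = n58864 := rfl
theorem F263512 : act 0 n58864 = n57777 := d2_1 D58864 (iv D57777) (iv F258831)
theorem F263513 : act 6 n58864 = n57695 := d26_2 (iv F258834) D58864 (iv D57695)
theorem F263514 : act 9 n58864 = n57713 := d29_2 (iv F258835) D58864 (iv D57713)
def n58865 : Q := act 2 n57695
theorem D58865 : act 2 n57695 = n58865 := rfl
theorem F263515 : act 0 n58865 = n57778 := d1_1 D58865 (iv D57778) (iv F258836)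
theorem F263516 : act 3 n58865 = n58297 := d17_2 D57695 D58865 F260734 F255890 (iv F253865)
theorem F263517 : act 5 n58865 = n57696 := d19_2 (iv F258837) D58865 (iv D57696)
theorem F263518 : act 7 n58865 = n57697 := d21_2 (iv F258838) D58865 (iv D57697)
theorem F263519 : act 9 n58865 = n57714 := d23_2 (iv F258839) D58865 (iv D57714)
def n58866 : Q := act 4 n57695
theorem D58866 : act 4 n57695 = n58866 := rfl
theorem F263520 : act 0 n58866 = n57779 := d3_1 D58866 (iv D57779) (iv F258836)
theorem F263521 : act 3 n58866 = n57702 := d24_1 D58866 (iv D57702) (iv D56530) (iv F253866) D57695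
theorem F263522 : act 5 n58866 = n58198 := d30_2 (iv F258837) D58866 (iv D58198) F255679 (iv F253871)
theorem F263523 : act 7 n58866 = n57698 := d32_2 (iv F258838) D58866 (iv D57698)
theorem F263524 : act 9 n58866 = n57715 := d34_2 (iv F258839) D58866 (iv D57715)
def n58867 : Q := act 1 n57696
theorem D58867 : act 1 n57696 = n58867 := rfl
theorem F263525 : act 3 n58867 = n58296 := d10_2 (iv F258841) D58867 F260730
theorem F263526 : act 4 n58867 = n58199 := d11_2 (iv F258842) D58867 (iv D58199)
theorem F263527 : act 7 n58867 = n57699 := d14_2 (iv F258843) D58867 (iv D57699)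
theorem F263528 : act 9 n58867 = n57716 := d16_2 (iv F258844) D58867 (iv D57716)
def n58868 : Q := act 1 n57697
theorem D58868 : act 1 n57697 = n58868 := rfl
theorem F263529 : act 3 n58868 = n58327 := d10_2 (iv F258846) D58868 F260787
theorem F263530 : act 5 n58868 = n57699 := d12_2 (iv F258847) D58868 (iv D57699)
theorem F263531 : act 9 n58868 = n57727 := d16_2 (iv F258848) D58868 (iv D57727)
def n58869 : Q := act 4 n57697
theorem D58869 : act 4 n57697 = n58869 := rfl
theorem F263532 : act 0 n58869 = n57795 := d3_1 D58869 (iv D57795) (iv F258845)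
theorem F263533 : act 2 n58869 = n57698 := d18_1 D58869 (iv D57698) D57697
theorem F263534 : act 5 n58869 = n58212 := d30_2 (iv F258847) D58869 (iv D58212) F255706 (iv F253879)
theorem F263535 : act 9 n58869 = n57728 := d34_2 (iv F258848) D58869 (iv D57728)
def n58870 : Q := act 0 n57699
theorem D58870 : act 0 n57699 = n58870 := rfl
theorem F263536 : act 1 n58870 = n57796 := d0_2 D57699 D58870 (iv D57796) (iv D56623) (iv F253877)
theorem F263537 : act 3 n58870 = n58326 := d2_2 (iv F258853) D58870 F260786
theorem F263538 : act 4 n58870 = n58213 := d3_2 (iv F258854) D58870 (iv D58213)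
theorem F263539 : act 6 n58870 = n58220 := d5_2 (iv F258855) D58870 (iv D58220)
theorem F263540 : act 9 n58870 = n57729 := d8_2 (iv F258856) D58870 (iv D57729)
def n58871 : Q := act 2 n57700
theorem D58871 : act 2 n57700 = n58871 := rfl
theorem F263541 : act 0 n58871 = n57799 := d1_1 D58871 (iv D57799) (iv F258857)
theorem F263542 : act 3 n58871 = n57990 := d17_2 D57700 D58871 F259985 F255952 (iv F253883)
theorem F263543 : act 5 n58871 = n58871 := d19_2 F258858 D58871 (iv D58871)
theorem F263544 : act 6 n58871 = n57701 := d20_2 (iv F258859) D58871 (iv D57701)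
theorem F263545 : act 8 n58871 = n58871 := d22_2 F258860 D58871 (iv D58871)
theorem F263546 : act 9 n58871 = n57733 := d23_2 (iv F258861) D58871 (iv D57733)
def n58872 : Q := act 4 n57700
theorem D58872 : act 4 n57700 = n58872 := rfl
theorem F263547 : act 0 n58872 = n57800 := d3_1 D58872 (iv D57800) (iv F258857)
theorem F263548 : act 6 n58872 = n57702 := d31_2 (iv F258859) D58872 (iv D57702)
theorem F263549 : act 8 n58872 = n58872 := d33_2 F258860 D58872 (iv D58872)
theorem F263550 : act 9 n58872 = n57734 := d34_2 (iv F258861) D58872 (iv D57734)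
def n58873 : Q := act 4 n57701
theorem D58873 : act 4 n57701 = n58873 := rfl
theorem F263551 : act 0 n58873 = n57802 := d3_1 D58873 (iv D57802) (iv F258862)
theorem F263552 : act 2 n58873 = n57702 := d18_1 D58873 (iv D57702) D57701
theorem F263553 : act 5 n58873 = n57989 := d30_2 (iv F258864) D58873 (iv D57989) F255070 (iv F253894)
theorem F263554 : act 7 n58873 = n57703 := d32_2 (iv F258865) D58873 (iv D57703)
theorem F263555 : act 8 n58873 = n58873 := d33_2 F258866 D58873 (iv D58873)
theorem F263556 : act 9 n58873 = n57735 := d34_2 (iv F258867) D58873 (iv D57735)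
def n58874 : Q := act 3 n57703
theorem D58874 : act 3 n57703 = n58874 := rfl
theorem F263557 : act 0 n58874 = n57807 := d2_1 D58874 (iv D57807) (iv F258873)
theorem F263558 : act 4 n58874 = n57985 := d24_2 D57703 D58874 F259968 F255056 (iv F253900)
theorem F263559 : act 5 n58874 = n57982 := d25_2 (iv F258875) D58874 F259962
theorem F263560 : act 9 n58874 = n57737 := d29_2 (iv F258877) D58874 (iv D57737)
def n58875 : Q := act 3 n57704
theorem D58875 : act 3 n57704 = n58875 := rfl
theorem F263561 : act 0 n58875 = n57811 := d2_1 D58875 (iv D57811) (iv F258878)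
theorem F263562 : act 1 n58875 = n57851 := d10_1 D58875 (iv D57851) (iv F258879)
theorem F263563 : act 5 n58875 = n57705 := d25_2 (iv F258882) D58875 (iv D57705)
theorem F263564 : act 7 n58875 = n58069 := d27_2 (iv F258883) D58875 (iv D58069)
theorem F263565 : act 8 n58875 = n58078 := d28_2 D57704 D58875 (iv D58078) (iv D56896) (iv F253911)
theorem F263566 : act 9 n58875 = n57841 := d29_2 (iv F258884) D58875 (iv D57841)
def n58876 : Q := act 2 n57705
theorem D58876 : act 2 n57705 = n58876 := rfl
theorem F263567 : act 0 n58876 = n57812 := d1_1 D58876 (iv D57812) (iv F258885)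
theorem F263568 : act 3 n58876 = n57707 := d17_2 D57705 D58876 (iv D57707) (iv D56537) (iv F253917)
theorem F263569 : act 4 n58876 = n58247 := d18_2 (iv F258887) D58876 (iv D58247)
theorem F263570 : act 6 n58876 = n57712 := d20_2 (iv F258888) D58876 (iv D57712)
theorem F263571 : act 7 n58876 = n58221 := d21_2 (iv F258889) D58876 (iv D58221)
theorem F263572 : act 9 n58876 = n57842 := d23_2 (iv F258890) D58876 (iv D57842)
def n58877 : Q := act 2 n57706
theorem D58877 : act 2 n57706 = n58877 := rfl
theorem F263573 : act 0 n58877 = n57816 := d1_1 D58877 (iv D57816) (iv F258891)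
theorem F263574 : act 5 n58877 = n57707 := d19_2 (iv F258892) D58877 (iv D57707)
theorem F263575 : act 7 n58877 = n58222 := d21_2 (iv F258893) D58877 (iv D58222)
def n58878 : Q := act 4 n57706
theorem D58878 : act 4 n57706 = n58878 := rfl
theorem F263576 : act 0 n58878 = n57817 := d3_1 D58878 (iv D57817) (iv F258891)
theorem F263577 : act 3 n58878 = n58878 := d24_1 D58878 (iv D58878) (iv D57706) F253923 D57706
theorem F263578 : act 7 n58878 = n58223 := d32_2 (iv F258893) D58878 (iv D58223)
def n58879 : Q := act 1 n57707
theorem D58879 : act 1 n57707 = n58879 := rfl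
theorem F263579 : act 6 n58879 = n57716 := d13_2 (iv F258895) D58879 (iv D57716)
theorem F263580 : act 7 n58879 = n58224 := d14_2 (iv F258896) D58879 (iv D58224)
def n58880 : Q := act 3 n57708
theorem D58880 : act 3 n57708 = n58880 := rfl
theorem F263581 : act 0 n58880 = n57824 := d2_1 D58880 (iv D57824) (iv F258897)
theorem F263582 : act 1 n58880 = n58264 := d10_1 D58880 (iv D58264) (iv F258898)
theorem F263583 : act 5 n58880 = n57709 := d25_2 (iv F258900) D58880 (iv D57709)
theorem F263584 : act 7 n58880 = n57721 := d27_2 (iv F258901) D58880 (iv D57721)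
theorem F263585 : act 8 n58880 = n57711 := d28_2 D57708 D58880 (iv D57711) (iv D56541) (iv F253931)
theorem F263586 : act 9 n58880 = n58257 := d29_2 (iv F258902) D58880 (iv D58257)
def n58881 : Q := act 2 n57709
theorem D58881 : act 2 n57709 = n58881 := rfl
theorem F263587 : act 0 n58881 = n57826 := d1_1 D58881 (iv D57826) (iv F258903)
theorem F263588 : act 4 n58881 = n58252 := d18_2 (iv F258905) D58881 (iv D58252)
theorem F263589 : act 7 n58881 = n57723 := d21_2 (iv F258906) D58881 (iv D57723)
theorem F263590 : act 8 n58881 = n57712 := d22_2 (iv F258907) D58881 (iv D57712)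
theorem F263591 : act 9 n58881 = n58258 := d23_2 (iv F258908) D58881 (iv D58258)
def n58882 : Q := act 3 n57710
theorem D58882 : act 3 n57710 = n58882 := rfl
theorem F263592 : act 0 n58882 = n57828 := d2_1 D58882 (iv D57828) (iv F258909)
theorem F263593 : act 1 n58882 = n58309 := d10_1 D58882 (iv D58309) (iv F258910)
theorem F263594 : act 6 n58882 = n57711 := d26_2 (iv F258913) D58882 (iv D57711)
theorem F263595 : act 9 n58882 = n58298 := d29_2 (iv F258914) D58882 F260738
def n58883 : Q := act 2 n57711
theorem D58883 : act 2 n57711 = n58883 := rfl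
theorem F263596 : act 0 n58883 = n57829 := d1_1 D58883 (iv D57829) (iv F258915)
theorem F263597 : act 3 n58883 = n57714 := d17_2 D57711 D58883 (iv D57714) (iv D56544) (iv F253947)
theorem F263598 : act 5 n58883 = n57712 := d19_2 (iv F258917) D58883 (iv D57712)
theorem F263599 : act 7 n58883 = n57724 := d21_2 (iv F258918) D58883 (iv D57724)
theorem F263600 : act 9 n58883 = n58297 := d23_2 (iv F258919) D58883 F260734
def n58884 : Q := act 4 n57711
theorem D58884 : act 4 n57711 = n58884 := rfl
theorem F263601 : act 0 n58884 = n57830 := d3_1 D58884 (iv D57830) (iv F258915)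
theorem F263602 : act 1 n58884 = n58313 := d11_1 D58884 (iv D58313) (iv F258916)
theorem F263603 : act 3 n58884 = n57732 := d24_1 D58884 (iv D57732) (iv D56559) (iv F253948) D57711
theorem F263604 : act 5 n58884 = n58007 := d30_2 (iv F258917) D58884 (iv D58007) F255173 (iv F253954)
theorem F263605 : act 7 n58884 = n57725 := d32_2 (iv F258918) D58884 (iv D57725)
theorem F263606 : act 9 n58884 = n58294 := d34_2 (iv F258919) D58884 F260725
def n58885 : Q := act 1 n57712
theorem D58885 : act 1 n57712 = n58885 := rfl
theorem F263607 : act 2 n58885 = n58316 := d9_2 D57712 D58885 (iv D58316) (iv D57137) (iv F253953)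
theorem F263608 : act 3 n58885 = n57716 := d10_2 (iv F258921) D58885 (iv D57716)
theorem F263609 : act 4 n58885 = n58253 := d11_2 (iv F258922) D58885 (iv D58253)
theorem F263610 : act 7 n58885 = n57726 := d14_2 (iv F258923) D58885 (iv D57726)
theorem F263611 : act 9 n58885 = n58296 := d16_2 (iv F258924) D58885 F260730
def n58886 : Q := act 2 n57713
theorem D58886 : act 2 n57713 = n58886 := rfl
theorem F263612 : act 0 n58886 = n57834 := d1_1 D58886 (iv D57834) (iv F258925)
theorem F263613 : act 6 n58886 = n57714 := d20_2 (iv F258926) D58886 (iv D57714)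
def n58887 : Q := act 4 n57713
theorem D58887 : act 4 n57713 = n58887 := rfl
theorem F263614 : act 0 n58887 = n57835 := d3_1 D58887 (iv D57835) (iv F258925)
theorem F263615 : act 3 n58887 = n57734 := d24_1 D58887 (iv D57734) (iv D56561) (iv F253958) D57713
theorem F263616 : act 6 n58887 = n57715 := d31_2 (iv F258926) D58887 (iv D57715)
def n58888 : Q := act 1 n57714
theorem D58888 : act 1 n57714 = n58888 := rfl
theorem F263617 : act 5 n58888 = n57716 := d12_2 (iv F258928) D58888 (iv D57716)
theorem F263618 : act 7 n58888 = n57727 := d14_2 (iv F258929) D58888 (iv D57727)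
def n58889 : Q := act 4 n57714
theorem D58889 : act 4 n57714 = n58889 := rfl
theorem F263619 : act 0 n58889 = n57837 := d3_1 D58889 (iv D57837) (iv F258927)
theorem F263620 : act 2 n58889 = n57715 := d18_1 D58889 (iv D57715) D57714
theorem F263621 : act 7 n58889 = n57728 := d32_2 (iv F258929) D58889 (iv D57728)
def n58890 : Q := act 0 n57716
theorem D58890 : act 0 n57716 = n58890 := rfl
theorem F263622 : act 1 n58890 = n57838 := d0_2 D57716 D58890 (iv D57838) (iv D56666) (iv F253963)
theorem F263623 : act 7 n58890 = n57729 := d6_2 (iv F258933) D58890 (iv D57729)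
def n58891 : Q := act 3 n57717
theorem D58891 : act 3 n57717 = n58891 := rfl
theorem F263624 : act 1 n58891 = n57828 := d10_1 D58891 (iv D57828) (iv F258934)
theorem F263625 : act 5 n58891 = n58026 := d25_2 (iv F258937) D58891 (iv D58026)
theorem F263626 : act 6 n58891 = n57820 := d26_2 (iv F258938) D58891 (iv D57820)
theorem F263627 : act 7 n58891 = n58240 := d27_2 (iv F258939) D58891 (iv D58240)
theorem F263628 : act 8 n58891 = n58070 := d28_2 D57717 D58891 (iv D58070) (iv D56891) (iv F253967)
theorem F263629 : act 9 n58891 = n58025 := d29_2 (iv F258940) D58891 (iv D58025)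
def n58892 : Q := act 2 n57718
theorem D58892 : act 2 n57718 = n58892 := rfl
theorem F263630 : act 4 n58892 = n58258 := d18_2 (iv F258942) D58892 (iv D58258)
theorem F263631 : act 6 n58892 = n58229 := d20_2 (iv F258943) D58892 (iv D58229)
theorem F263632 : act 7 n58892 = n58267 := d21_2 (iv F258944) D58892 (iv D58267)
theorem F263633 : act 8 n58892 = n57719 := d22_2 (iv F258945) D58892 (iv D57719)
theorem F263634 : act 9 n58892 = n58252 := d23_2 (iv F258946) D58892 (iv D58252)
def n58893 : Q := act 1 n57719
theorem D58893 : act 1 n57719 = n58893 := rfl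
theorem F263635 : act 2 n58893 = n57726 := d9_2 D57719 D58893 (iv D57726) (iv D56554) (iv F253977)
theorem F263636 : act 4 n58893 = n58261 := d11_2 (iv F258947) D58893 (iv D58261)
theorem F263637 : act 6 n58893 = n58230 := d13_2 (iv F258948) D58893 (iv D58230)
theorem F263638 : act 7 n58893 = n58316 := d14_2 (iv F258949) D58893 (iv D58316)
theorem F263639 : act 9 n58893 = n58291 := d16_2 (iv F258950) D58893 (iv D58291)
def n58894 : Q := act 3 n57720
theorem D58894 : act 3 n57720 = n58894 := rfl
theorem F263640 : act 0 n58894 = n57851 := d2_1 D58894 (iv D57851) (iv F258951)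
theorem F263641 : act 1 n58894 = n58005 := d10_1 D58894 (iv D58005) (iv F258952)
theorem F263642 : act 5 n58894 = n57722 := d25_2 (iv F258954) D58894 (iv D57722)
theorem F263643 : act 7 n58894 = n58257 := d27_2 (iv F258955) D58894 (iv D58257)
theorem F263644 : act 8 n58894 = n58002 := d28_2 D57720 D58894 (iv D58002) (iv D56832) (iv F253984)
theorem F263645 : act 9 n58894 = n57721 := d29_2 (iv F258956) D58894 (iv D57721)
def n58895 : Q := act 2 n57721
theorem D58895 : act 2 n57721 = n58895 := rfl
theorem F263646 : act 0 n58895 = n57852 := d1_1 D58895 (iv D57852) (iv F258957)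
theorem F263647 : act 5 n58895 = n57723 := d19_2 (iv F258958) D58895 (iv D57723)
theorem F263648 : act 8 n58895 = n57724 := d22_2 (iv F258959) D58895 (iv D57724)
def n58896 : Q := act 4 n57721
theorem D58896 : act 4 n57721 = n58896 := rfl
theorem F263649 : act 0 n58896 = n57853 := d3_1 D58896 (iv D57853) (iv F258957)
theorem F263650 : act 3 n58896 = n58896 := d24_1 D58896 (iv D58896) (iv D57721) F253989 D57721
theorem F263651 : act 5 n58896 = n58266 := d30_2 (iv F258958) D58896 (iv D58266) F255816 (iv F253998)
theorem F263652 : act 8 n58896 = n57725 := d33_2 (iv F258959) D58896 (iv D57725)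
def n58897 : Q := act 2 n57722
theorem D58897 : act 2 n57722 = n58897 := rfl
theorem F263653 : act 0 n58897 = n57854 := d1_1 D58897 (iv D57854) (iv F258960)
theorem F263654 : act 4 n58897 = n58267 := d18_2 (iv F258962) D58897 (iv D58267)
theorem F263655 : act 6 n58897 = n58231 := d20_2 (iv F258963) D58897 (iv D58231)
theorem F263656 : act 7 n58897 = n58258 := d21_2 (iv F258964) D58897 (iv D58258)
theorem F263657 : act 8 n58897 = n58251 := d22_2 (iv F258965) D58897 (iv D58251)
theorem F263658 : act 9 n58897 = n57723 := d23_2 (iv F258966) D58897 (iv D57723)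
def n58898 : Q := act 1 n57723
theorem D58898 : act 1 n57723 = n58898 := rfl
theorem F263659 : act 4 n58898 = n58268 := d11_2 (iv F258968) D58898 (iv D58268)
theorem F263660 : act 6 n58898 = n58232 := d13_2 (iv F258969) D58898 (iv D58232)
theorem F263661 : act 8 n58898 = n57726 := d15_2 (iv F258970) D58898 (iv D57726)
def n58899 : Q := act 1 n57724
theorem D58899 : act 1 n57724 = n58899 := rfl
theorem F263662 : act 3 n58899 = n57727 := d10_2 (iv F258972) D58899 (iv D57727)
theorem F263663 : act 5 n58899 = n57726 := d12_2 (iv F258973) D58899 (iv D57726)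
theorem F263664 : act 9 n58899 = n58327 := d16_2 (iv F258974) D58899 F260787
def n58900 : Q := act 4 n57724
theorem D58900 : act 4 n57724 = n58900 := rfl
theorem F263665 : act 0 n58900 = n57863 := d3_1 D58900 (iv D57863) (iv F258971)
theorem F263666 : act 2 n58900 = n57725 := d18_1 D58900 (iv D57725) D57724
theorem F263667 : act 5 n58900 = n58273 := d30_2 (iv F258973) D58900 (iv D58273) F255828 (iv F254006)
theorem F263668 : act 9 n58900 = n58325 := d34_2 (iv F258974) D58900 F260785
def n58901 : Q := act 0 n57726
theorem D58901 : act 0 n57726 = n58901 := rfl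
theorem F263669 : act 1 n58901 = n57865 := d0_2 D57726 D58901 (iv D57865) (iv D56687) (iv F254004)
theorem F263670 : act 3 n58901 = n57729 := d2_2 (iv F258979) D58901 (iv D57729)
theorem F263671 : act 4 n58901 = n58274 := d3_2 (iv F258980) D58901 (iv D58274)
theorem F263672 : act 6 n58901 = n58233 := d5_2 (iv F258981) D58901 (iv D58233)
theorem F263673 : act 9 n58901 = n58326 := d8_2 (iv F258982) D58901 F260786
def n58902 : Q := act 0 n57727
theorem D58902 : act 0 n57727 = n58902 := rfl
theorem F263674 : act 1 n58902 = n57872 := d0_2 D57727 D58902 (iv D57872) (iv D56693) (iv F254009)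
theorem F263675 : act 5 n58902 = n57729 := d4_2 (iv F258983) D58902 (iv D57729)
def n58903 : Q := act 4 n57727
theorem D58903 : act 4 n57727 = n58903 := rfl
theorem F263676 : act 1 n58903 = n57728 := d11_1 D58903 (iv D57728) D57727
def n58904 : Q := act 3 n57728
theorem D58904 : act 3 n57728 = n58904 := rfl
theorem F263677 : act 0 n58904 = n57874 := d2_1 D58904 (iv D57874) (iv F258984)
theorem F263678 : act 2 n58904 = n57737 := d17_1 D58904 (iv D57737) F254054 (iv F254012) (iv F258985)
def n58905 : Q := act 2 n57730
theorem D58905 : act 2 n57730 = n58905 := rfl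
theorem F263679 : act 0 n58905 = n57877 := d1_1 D58905 (iv D57877) (iv F258988)
theorem F263680 : act 3 n58905 = n57733 := d17_2 D57730 D58905 (iv D57733) (iv D56561) (iv F254016)
theorem F263681 : act 5 n58905 = n58905 := d19_2 F258990 D58905 (iv D58905)
theorem F263682 : act 6 n58905 = n57731 := d20_2 (iv F258991) D58905 (iv D57731)
theorem F263683 : act 8 n58905 = n58905 := d22_2 F258992 D58905 (iv D58905)
theorem F263684 : act 9 n58905 = n57990 := d23_2 (iv F258993) D58905 F259985
def n58906 : Q := act 4 n57730
theorem D58906 : act 4 n57730 = n58906 := rfl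
theorem F263685 : act 0 n58906 = n57878 := d3_1 D58906 (iv D57878) (iv F258988)
theorem F263686 : act 1 n58906 = n58335 := d11_1 D58906 (iv D58335) (iv F258989)
theorem F263687 : act 6 n58906 = n57732 := d31_2 (iv F258991) D58906 (iv D57732)
theorem F263688 : act 8 n58906 = n58906 := d33_2 F258992 D58906 (iv D58906)
theorem F263689 : act 9 n58906 = n58331 := d34_2 (iv F258993) D58906 F260795
def n58907 : Q := act 4 n57731
theorem D58907 : act 4 n57731 = n58907 := rfl
theorem F263690 : act 0 n58907 = n57879 := d3_1 D58907 (iv D57879) (iv F258994)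
theorem F263691 : act 2 n58907 = n57732 := d18_1 D58907 (iv D57732) D57731
theorem F263692 : act 5 n58907 = n57941 := d30_2 (iv F258996) D58907 (iv D57941) F254891 (iv F254028)
theorem F263693 : act 7 n58907 = n57736 := d32_2 (iv F258997) D58907 (iv D57736)
theorem F263694 : act 8 n58907 = n58907 := d33_2 F258998 D58907 (iv D58907)
theorem F263695 : act 9 n58907 = n57971 := d34_2 (iv F258999) D58907 F259923
def n58908 : Q := act 4 n57733
theorem D58908 : act 4 n57733 = n58908 := rfl
theorem F263696 : act 0 n58908 = n57883 := d3_1 D58908 (iv D57883) (iv F259006)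
theorem F263697 : act 2 n58908 = n57734 := d18_1 D58908 (iv D57734) D57733
theorem F263698 : act 6 n58908 = n57735 := d31_2 (iv F259008) D58908 (iv D57735)
theorem F263699 : act 8 n58908 = n57738 := d33_2 (iv F259009) D58908 (iv D57738)
def n58909 : Q := act 5 n57734
theorem D58909 : act 5 n57734 = n58909 := rfl
theorem F263700 : act 0 n58909 = n57884 := d4_1 D58909 (iv D57884) (iv F259010)
theorem F263701 : act 4 n58909 = n58909 := d30_1 D58909 (iv D58909) (iv D57734) F254034 D57734
theorem F263702 : act 6 n58909 = n58126 := d35_2 (iv F259011) D58909 (iv D58126) (iv F257860) F257859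
theorem F263703 : act 8 n58909 = n57739 := d37_2 (iv F259012) D58909 (iv D57739)
def n58910 : Q := act 3 n57735
theorem D58910 : act 3 n57735 = n58910 := rfl
theorem F263704 : act 0 n58910 = n57887 := d2_1 D58910 (iv D57887) (iv F259013)
theorem F263705 : act 5 n58910 = n58217 := d25_2 (iv F259015) D58910 F260564
theorem F263706 : act 7 n58910 = n57737 := d27_2 (iv F259016) D58910 (iv D57737)
def n58911 : Q := act 3 n57736
theorem D58911 : act 3 n57736 = n58911 := rfl
theorem F263707 : act 0 n58911 = n57890 := d2_1 D58911 (iv D57890) (iv F259018)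
theorem F263708 : act 4 n58911 = n57737 := d24_2 D57736 D58911 (iv D57737) (iv D56566) (iv F254045)
theorem F263709 : act 5 n58911 = n57956 := d25_2 (iv F259020) D58911 F259868
theorem F263710 : act 9 n58911 = n57985 := d29_2 (iv F259022) D58911 F259968
def n58912 : Q := act 8 n57737
theorem D58912 : act 8 n57737 = n58912 := rfl
theorem F263711 : act 0 n58912 = n57895 := d7_1 D58912 (iv D57895) (iv F259023)
theorem F263712 : act 3 n58912 = n57740 := d28_1 D58912 (iv D57740) (iv D56570) (iv F254055) D57737
def n58913 : Q := act 5 n57738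
theorem D58913 : act 5 n57738 = n58913 := rfl
theorem F263713 : act 0 n58913 = n57901 := d4_1 D58913 (iv D57901) (iv F259024)
theorem F263714 : act 1 n58913 = n58095 := d12_1 D58913 (iv F261433) F261429
theorem F263715 : act 2 n58913 = n57739 := d19_1 D58913 (iv D57739) (iv F259025)
theorem F263716 : act 3 n58913 = n57897 := d25_1 D58913 (iv F263168) F263166
theorem F263717 : act 4 n58913 = n58913 := d30_1 D58913 (iv D58913) (iv D57738) F254058 D57738
theorem F263718 : act 6 n58913 = n57905 := d35_2 (iv F259026) D58913 F259655 F254761 (iv F254066)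
theorem F263719 : act 7 n58913 = n57900 := d36_2 F261403 D58913 F261406
theorem F263720 : act 9 n58913 = n58913 := d38_2 F259027 D58913 (iv D58913)
def n58914 : Q := act 9 n57740
theorem D58914 : act 9 n57740 = n58914 := rfl
theorem F263721 : act 0 n58914 = n57910 := d8_1 D58914 (iv D57910) (iv F259033)
theorem F263722 : act 4 n58914 = n58914 := d34_1 D58914 (iv D58914) F259034
theorem F263723 : act 8 n58914 = n58914 := d44_1 D58914 (iv D58914) (iv D57740) F254071 D57740
def n58915 : Q := act 2 n57742
theorem D58915 : act 2 n57742 = n58915 := rfl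
theorem F263724 : act 0 n58915 = n58194 := d1_1 D58915 (iv D58194) (iv F259042)
theorem F263725 : act 6 n58915 = n57748 := d20_2 (iv F259044) D58915 (iv D57748)
theorem F263726 : act 7 n58915 = n58032 := d21_2 (iv F259045) D58915 (iv D58032)
theorem F263727 : act 8 n58915 = n57771 := d22_2 (iv F259046) D58915 (iv D57771)
theorem F263728 : act 9 n58915 = n58086 := d23_2 (iv F259047) D58915 (iv D58086)
def n58916 : Q := act 3 n57743
theorem D58916 : act 3 n57743 = n58916 := rfl
theorem F263729 : act 0 n58916 = n57974 := d2_1 D58916 (iv D57974) (iv F259048)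
theorem F263730 : act 1 n58916 = n57745 := d10_1 D58916 (iv D57745) (iv F259049)
theorem F263731 : act 5 n58916 = n58263 := d25_2 (iv F259051) D58916 (iv D58263)
theorem F263732 : act 6 n58916 = n57784 := d26_2 (iv F259052) D58916 (iv D57784)
theorem F263733 : act 7 n58916 = n57753 := d27_2 (iv F259053) D58916 (iv D57753)
theorem F263734 : act 8 n58916 = n57787 := d28_2 D57743 D58916 (iv D57787) (iv D56616) (iv F254093)
def n58917 : Q := act 3 n57744
theorem D58917 : act 3 n57744 = n58917 := rfl
theorem F263735 : act 0 n58917 = n58060 := d2_1 D58917 (iv D58060) (iv F259054)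
theorem F263736 : act 1 n58917 = n58263 := d10_1 D58917 (iv D58263) (iv F259055)
theorem F263737 : act 5 n58917 = n57745 := d25_2 (iv F259058) D58917 (iv D57745)
theorem F263738 : act 6 n58917 = n58257 := d26_2 (iv F259059) D58917 (iv D58257)
theorem F263739 : act 7 n58917 = n57760 := d27_2 (iv F259060) D58917 (iv D57760)
theorem F263740 : act 8 n58917 = n58058 := d28_2 D57744 D58917 (iv D58058) (iv D56881) (iv F254106)
def n58918 : Q := act 2 n57745
theorem D58918 : act 2 n57745 = n58918 := rfl
theorem F263741 : act 0 n58918 = n58062 := d1_1 D58918 (iv D58062) (iv F259061)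
theorem F263742 : act 3 n58918 = n57748 := d17_2 D57745 D58918 (iv D57748) (iv D56581) (iv F254112)
theorem F263743 : act 7 n58918 = n57761 := d21_2 (iv F259062) D58918 (iv D57761)
theorem F263744 : act 8 n58918 = n58059 := d22_2 (iv F259063) D58918 (iv D58059)
def n58919 : Q := act 3 n57746
theorem D58919 : act 3 n57746 = n58919 := rfl
theorem F263745 : act 5 n58919 = n58256 := d25_2 (iv F259066) D58919 (iv D58256)
theorem F263746 : act 6 n58919 = n57747 := d26_2 (iv F259067) D58919 (iv D57747)
theorem F263747 : act 8 n58919 = n57777 := d28_2 D57746 D58919 (iv D57777) (iv D56607) (iv F254120)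
def n58920 : Q := act 2 n57747
theorem D58920 : act 2 n57747 = n58920 := rfl
theorem F263748 : act 5 n58920 = n57748 := d19_2 (iv F259068) D58920 (iv D57748)
theorem F263749 : act 7 n58920 = n57765 := d21_2 (iv F259069) D58920 (iv D57765)
theorem F263750 : act 8 n58920 = n57778 := d22_2 (iv F259070) D58920 (iv D57778)
def n58921 : Q := act 4 n57747
theorem D58921 : act 4 n57747 = n58921 := rfl
theorem F263751 : act 3 n58921 = n58921 := d24_1 D58921 (iv D58921) (iv D57747) F254124 D57747
theorem F263752 : act 7 n58921 = n57766 := d32_2 (iv F259069) D58921 (iv D57766)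
theorem F263753 : act 8 n58921 = n57779 := d33_2 (iv F259070) D58921 (iv D57779)
def n58922 : Q := act 1 n57748
theorem D58922 : act 1 n57748 = n58922 := rfl
theorem F263754 : act 7 n58922 = n57767 := d14_2 (iv F259071) D58922 (iv D57767)
theorem F263755 : act 8 n58922 = n57780 := d15_2 (iv F259072) D58922 (iv D57780)
def n58923 : Q := act 3 n57749
theorem D58923 : act 3 n57749 = n58923 := rfl
theorem F263756 : act 0 n58923 = n57753 := d2_1 D58923 (iv D57753) (iv F259073)
theorem F263757 : act 1 n58923 = n57967 := d10_1 D58923 (iv D57967) (iv F259074)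
theorem F263758 : act 6 n58923 = n58234 := d26_2 (iv F259076) D58923 (iv D58234)
theorem F263759 : act 7 n58923 = n57974 := d27_2 (iv F259077) D58923 (iv D57974)
theorem F263760 : act 8 n58923 = n57964 := d28_2 D57749 D58923 (iv D57964) (iv D56792) (iv F254131)
def n58924 : Q := act 2 n57750
theorem D58924 : act 2 n57750 = n58924 := rfl
theorem F263761 : act 0 n58924 = n57754 := d1_1 D58924 (iv D57754) (iv F259078)
theorem F263762 : act 1 n58924 = n57990 := d9_1 D58924 F259985 F255951 (iv F255101) (iv F259079)
theorem F263763 : act 5 n58924 = n58924 := d19_2 F259080 D58924 (iv D58924)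
theorem F263764 : act 6 n58924 = n57988 := d20_2 (iv F259081) D58924 F259976
theorem F263765 : act 7 n58924 = n57997 := d21_2 (iv F259082) D58924 (iv D57997)
theorem F263766 : act 8 n58924 = n57914 := d22_2 (iv F259083) D58924 (iv D57914)
def n58925 : Q := act 4 n57750
theorem D58925 : act 4 n57750 = n58925 := rfl
theorem F263767 : act 0 n58925 = n57755 := d3_1 D58925 (iv D57755) (iv F259078)
theorem F263768 : act 1 n58925 = n57994 := d11_1 D58925 (iv D57994) (iv F259079)
theorem F263769 : act 6 n58925 = n58235 := d31_2 (iv F259081) D58925 (iv D58235)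
theorem F263770 : act 7 n58925 = n57998 := d32_2 (iv F259082) D58925 (iv D57998)
theorem F263771 : act 8 n58925 = n57915 := d33_2 (iv F259083) D58925 (iv D57915)
def n58926 : Q := act 3 n57751
theorem D58926 : act 3 n57751 = n58926 := rfl
theorem F263772 : act 0 n58926 = n57964 := d2_1 D58926 (iv D57964) (iv F259084)
theorem F263773 : act 1 n58926 = n57758 := d10_1 D58926 (iv D57758) (iv F259085)
theorem F263774 : act 5 n58926 = n58269 := d25_2 (iv F259088) D58926 (iv D58269)
theorem F263775 : act 6 n58926 = n58236 := d26_2 (iv F259089) D58926 (iv D58236)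
theorem F263776 : act 7 n58926 = n57787 := d27_2 (iv F259090) D58926 (iv D57787)
theorem F263777 : act 8 n58926 = n57753 := d28_2 D57751 D58926 (iv D57753) (iv D56586) (iv F254143)
theorem F263778 : act 9 n58926 = n57859 := d29_2 (iv F259091) D58926 (iv D57859)
def n58927 : Q := act 3 n57752
theorem D58927 : act 3 n57752 = n58927 := rfl
theorem F263779 : act 1 n58927 = n57760 := d10_1 D58927 (iv D57760) (iv F259092)
theorem F263780 : act 5 n58927 = n57753 := d25_2 (iv F259094) D58927 (iv D57753)
theorem F263781 : act 7 n58927 = n58263 := d27_2 (iv F259095) D58927 (iv D58263)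
theorem F263782 : act 8 n58927 = n58269 := d28_2 D57752 D58927 (iv D58269) (iv D57093) (iv F254149)
def n58928 : Q := act 2 n57753
theorem D58928 : act 2 n57753 = n58928 := rfl
theorem F263783 : act 6 n58928 = n58237 := d20_2 (iv F259097) D58928 (iv D58237)
def n58929 : Q := act 4 n57753
theorem D58929 : act 4 n57753 = n58929 := rfl
theorem F263784 : act 1 n58929 = n57762 := d11_1 D58929 (iv D57762) (iv F259096)
theorem F263785 : act 3 n58929 = n57755 := d24_1 D58929 (iv D57755) (iv D56587) (iv F254154) D57753
theorem F263786 : act 6 n58929 = n58238 := d31_2 (iv F259097) D58929 (iv D58238)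
def n58930 : Q := act 4 n57754
theorem D58930 : act 4 n57754 = n58930 := rfl
theorem F263787 : act 2 n58930 = n57755 := d18_1 D58930 (iv D57755) D57754
theorem F263788 : act 6 n58930 = n58239 := d31_2 (iv F259099) D58930 (iv D58239)
theorem F263789 : act 8 n58930 = n57916 := d33_2 (iv F259100) D58930 (iv D57916)
def n58931 : Q := act 5 n57755
theorem D58931 : act 5 n57755 = n58931 := rfl
theorem F263790 : act 1 n58931 = n57763 := d12_1 D58931 (iv D57763) (iv F259101)
theorem F263791 : act 4 n58931 = n58931 := d30_1 D58931 (iv D58931) (iv D57755) F254157 D57755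
theorem F263792 : act 8 n58931 = n57917 := d37_2 (iv F259103) D58931 (iv D57917)
def n58932 : Q := act 3 n57756
theorem D58932 : act 3 n57756 = n58932 := rfl
theorem F263793 : act 0 n58932 = n58042 := d2_1 D58932 (iv D58042) (iv F259104)
theorem F263794 : act 1 n58932 = n58269 := d10_1 D58932 (iv D58269) (iv F259105)
theorem F263795 : act 5 n58932 = n57758 := d25_2 (iv F259108) D58932 (iv D57758)
theorem F263796 : act 7 n58932 = n58058 := d27_2 (iv F259109) D58932 (iv D58058)
theorem F263797 : act 8 n58932 = n57760 := d28_2 D57756 D58932 (iv D57760) (iv D56592) (iv F254163)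
theorem F263798 : act 9 n58932 = n58234 := d29_2 (iv F259110) D58932 (iv D58234)
def n58933 : Q := act 3 n57757
theorem D58933 : act 3 n57757 = n58933 := rfl
theorem F263799 : act 0 n58933 = n58014 := d2_1 D58933 (iv D58014) (iv F259111)
theorem F263800 : act 1 n58933 = n57859 := d10_1 D58933 (iv D57859) (iv F259112)
theorem F263801 : act 5 n58933 = n58234 := d25_2 (iv F259115) D58933 (iv D58234)
theorem F263802 : act 6 n58933 = n58240 := d26_2 (iv F259116) D58933 (iv D58240)
theorem F263803 : act 7 n58933 = n57843 := d27_2 (iv F259117) D58933 (iv D57843)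
theorem F263804 : act 9 n58933 = n57758 := d29_2 (iv F259118) D58933 (iv D57758)
def n58934 : Q := act 2 n57758
theorem D58934 : act 2 n57758 = n58934 := rfl
theorem F263805 : act 0 n58934 = n58043 := d1_1 D58934 (iv D58043) (iv F259119)
theorem F263806 : act 3 n58934 = n57786 := d17_2 D57758 D58934 (iv D57786) (iv D56615) (iv F254175)
theorem F263807 : act 6 n58934 = n58241 := d20_2 (iv F259120) D58934 (iv D58241)
theorem F263808 : act 7 n58934 = n58059 := d21_2 (iv F259121) D58934 (iv D58059)
theorem F263809 : act 8 n58934 = n57761 := d22_2 (iv F259122) D58934 (iv D57761)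
def n58935 : Q := act 3 n57759
theorem D58935 : act 3 n57759 = n58935 := rfl
theorem F263810 : act 5 n58935 = n58010 := d25_2 (iv F259125) D58935 (iv D58010)
theorem F263811 : act 6 n58935 = n57760 := d26_2 (iv F259126) D58935 (iv D57760)
theorem F263812 : act 9 n58935 = n58035 := d29_2 (iv F259127) D58935 (iv D58035)
def n58936 : Q := act 2 n57760
theorem D58936 : act 2 n57760 = n58936 := rfl
theorem F263813 : act 3 n58936 = n57765 := d17_2 D57760 D58936 (iv D57765) (iv D56596) (iv F254183)
theorem F263814 : act 5 n58936 = n57761 := d19_2 (iv F259128) D58936 (iv D57761)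
def n58937 : Q := act 4 n57760
theorem D58937 : act 4 n57760 = n58937 := rfl
theorem F263815 : act 3 n58937 = n58937 := d24_1 D58937 (iv D58937) (iv D57760) F254184 D57760
def n58938 : Q := act 1 n57761
theorem D58938 : act 1 n57761 = n58938 := rfl
theorem F263816 : act 3 n58938 = n57767 := d10_2 (iv F259129) D58938 (iv D57767)
theorem F263817 : act 6 n58938 = n58243 := d13_2 (iv F259130) D58938 (iv D58243)
def n58939 : Q := act 4 n57761
theorem D58939 : act 4 n57761 = n58939 := rfl
theorem F263818 : act 2 n58939 = n57762 := d18_1 D58939 (iv D57762) D57761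
theorem F263819 : act 6 n58939 = n58244 := d31_2 (iv F259130) D58939 (iv D58244)
def n58940 : Q := act 5 n57762
theorem D58940 : act 5 n57762 = n58940 := rfl
theorem F263820 : act 3 n58940 = n57763 := d25_1 D58940 (iv D57763) (iv F259131)
def n58941 : Q := act 6 n57763
theorem D58941 : act 6 n57763 = n58941 := rfl
theorem F263821 : act 2 n58941 = n57884 := d20_1 D58941 (iv F263275) F263273
theorem F263822 : act 4 n58941 = n58941 := d31_1 D58941 (iv D58941) F259133
theorem F263823 : act 5 n58941 = n57883 := d35_1 D58941 F259568 F254613 (iv F254187) D57763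
theorem F263824 : act 8 n58941 = n57901 := d40_2 (iv F259134) D58941 F259635
def n58942 : Q := act 2 n57764
theorem D58942 : act 2 n57764 = n58942 := rfl
theorem F263825 : act 5 n58942 = n58012 := d19_2 (iv F259136) D58942 (iv D58012)
theorem F263826 : act 6 n58942 = n57765 := d20_2 (iv F259137) D58942 (iv D57765)
theorem F263827 : act 8 n58942 = n57792 := d22_2 (iv F259138) D58942 (iv D57792)
theorem F263828 : act 9 n58942 = n58039 := d23_2 (iv F259139) D58942 (iv D58039)
def n58943 : Q := act 4 n57764
theorem D58943 : act 4 n57764 = n58943 := rfl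
theorem F263829 : act 1 n58943 = n58249 := d11_1 D58943 (iv D58249) (iv F259135)
theorem F263830 : act 3 n58943 = n58943 := d24_1 D58943 (iv D58943) (iv D57764) F254190 D57764
theorem F263831 : act 6 n58943 = n57766 := d31_2 (iv F259137) D58943 (iv D57766)
theorem F263832 : act 8 n58943 = n57793 := d33_2 (iv F259138) D58943 (iv D57793)
theorem F263833 : act 9 n58943 = n58040 := d34_2 (iv F259139) D58943 (iv D58040)
def n58944 : Q := act 1 n57765
theorem D58944 : act 1 n57765 = n58944 := rfl
theorem F263834 : act 5 n58944 = n57767 := d12_2 (iv F259140) D58944 (iv D57767)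
theorem F263835 : act 8 n58944 = n57794 := d15_2 (iv F259141) D58944 (iv D57794)
def n58945 : Q := act 4 n57765
theorem D58945 : act 4 n57765 = n58945 := rfl
theorem F263836 : act 2 n58945 = n57766 := d18_1 D58945 (iv D57766) D57765
theorem F263837 : act 8 n58945 = n57795 := d33_2 (iv F259141) D58945 (iv D57795)
def n58946 : Q := act 0 n57767
theorem D58946 : act 0 n57767 = n58946 := rfl
theorem F263838 : act 6 n58946 = n58245 := d5_2 (iv F259144) D58946 (iv D58245)
theorem F263839 : act 8 n58946 = n57796 := d7_2 (iv F259145) D58946 (iv D57796)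
def n58947 : Q := act 2 n57768
theorem D58947 : act 2 n57768 = n58947 := rfl
theorem F263840 : act 0 n58947 = n57842 := d1_1 D58947 (iv D57842) (iv F259146)
theorem F263841 : act 3 n58947 = n57771 := d17_2 D57768 D58947 (iv D57771) (iv D56601) (iv F254199)
theorem F263842 : act 4 n58947 = n58221 := d18_2 (iv F259147) D58947 (iv D58221)
theorem F263843 : act 6 n58947 = n57775 := d20_2 (iv F259148) D58947 (iv D57775)
theorem F263844 : act 7 n58947 = n58247 := d21_2 (iv F259149) D58947 (iv D58247)
theorem F263845 : act 8 n58947 = n57839 := d22_2 (iv F259150) D58947 (iv D57839)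
theorem F263846 : act 9 n58947 = n57812 := d23_2 (iv F259151) D58947 (iv D57812)
def n58948 : Q := act 3 n57769
theorem D58948 : act 3 n57769 = n58948 := rfl
theorem F263847 : act 5 n58948 = n57777 := d25_2 (iv F259154) D58948 (iv D57777)
theorem F263848 : act 6 n58948 = n57770 := d26_2 (iv F259155) D58948 (iv D57770)
theorem F263849 : act 8 n58948 = n58256 := d28_2 D57769 D58948 (iv D58256) (iv D57082) (iv F254205)
theorem F263850 : act 9 n58948 = n57815 := d29_2 (iv F259156) D58948 (iv D57815)
def n58949 : Q := act 2 n57770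
theorem D58949 : act 2 n57770 = n58949 := rfl
theorem F263851 : act 5 n58949 = n57771 := d19_2 (iv F259157) D58949 (iv D57771)
theorem F263852 : act 7 n58949 = n58248 := d21_2 (iv F259158) D58949 (iv D58248)
theorem F263853 : act 9 n58949 = n57816 := d23_2 (iv F259159) D58949 (iv D57816)
def n58950 : Q := act 4 n57770
theorem D58950 : act 4 n57770 = n58950 := rfl
theorem F263854 : act 3 n58950 = n58950 := d24_1 D58950 (iv D58950) (iv D57770) F254209 D57770
theorem F263855 : act 7 n58950 = n58249 := d32_2 (iv F259158) D58950 (iv D58249)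
theorem F263856 : act 9 n58950 = n57817 := d34_2 (iv F259159) D58950 (iv D57817)
def n58951 : Q := act 1 n57771
theorem D58951 : act 1 n57771 = n58951 := rfl
theorem F263857 : act 6 n58951 = n57780 := d13_2 (iv F259160) D58951 (iv D57780)
theorem F263858 : act 7 n58951 = n58250 := d14_2 (iv F259161) D58951 (iv D58250)
theorem F263859 : act 9 n58951 = n57818 := d16_2 (iv F259162) D58951 (iv D57818)
def n58952 : Q := act 2 n57772
theorem D58952 : act 2 n57772 = n58952 := rfl
theorem F263860 : act 0 n58952 = n58229 := d1_1 D58952 (iv D58229) (iv F259163)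
theorem F263861 : act 4 n58952 = n58225 := d18_2 (iv F259165) D58952 (iv D58225)
theorem F263862 : act 7 n58952 = n57782 := d21_2 (iv F259166) D58952 (iv D57782)
theorem F263863 : act 8 n58952 = n58228 := d22_2 (iv F259167) D58952 (iv D58228)
theorem F263864 : act 9 n58952 = n57821 := d23_2 (iv F259168) D58952 (iv D57821)
def n58953 : Q := act 3 n57773
theorem D58953 : act 3 n57773 = n58953 := rfl
theorem F263865 : act 0 n58953 = n58298 := d2_1 D58953 F260738 (iv F259169)
theorem F263866 : act 1 n58953 = n58025 := d10_1 D58953 (iv D58025) (iv F259170)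
theorem F263867 : act 5 n58953 = n58021 := d25_2 (iv F259173) D58953 (iv D58021)
theorem F263868 : act 6 n58953 = n57774 := d26_2 (iv F259174) D58953 (iv D57774)
theorem F263869 : act 7 n58953 = n58236 := d27_2 (iv F259175) D58953 (iv D58236)
theorem F263870 : act 8 n58953 = n58022 := d28_2 D57773 D58953 (iv D58022) (iv D56851) (iv F254224)
theorem F263871 : act 9 n58953 = n57828 := d29_2 (iv F259176) D58953 (iv D57828)
def n58954 : Q := act 2 n57774
theorem D58954 : act 2 n57774 = n58954 := rfl
theorem F263872 : act 0 n58954 = n58297 := d1_1 D58954 F260734 (iv F259177)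
theorem F263873 : act 3 n58954 = n57778 := d17_2 D57774 D58954 (iv D57778) (iv D56608) (iv F254230)
theorem F263874 : act 5 n58954 = n57775 := d19_2 (iv F259178) D58954 (iv D57775)
theorem F263875 : act 7 n58954 = n57788 := d21_2 (iv F259179) D58954 (iv D57788)
theorem F263876 : act 8 n58954 = n58302 := d22_2 (iv F259180) D58954 (iv D58302)
theorem F263877 : act 9 n58954 = n57829 := d23_2 (iv F259181) D58954 (iv D57829)
def n58955 : Q := act 1 n57775
theorem D58955 : act 1 n57775 = n58955 := rfl
theorem F263878 : act 3 n58955 = n57780 := d10_2 (iv F259183) D58955 (iv D57780)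
theorem F263879 : act 4 n58955 = n58226 := d11_2 (iv F259184) D58955 (iv D58226)
theorem F263880 : act 7 n58955 = n57790 := d14_2 (iv F259185) D58955 (iv D57790)
theorem F263881 : act 8 n58955 = n58303 := d15_2 (iv F259186) D58955 (iv D58303)
theorem F263882 : act 9 n58955 = n57831 := d16_2 (iv F259187) D58955 (iv D57831)
def n58956 : Q := act 3 n57776
theorem D58956 : act 3 n57776 = n58956 := rfl
theorem F263883 : act 1 n58956 = n58256 := d10_1 D58956 (iv D58256) (iv F259188)
theorem F263884 : act 6 n58956 = n57791 := d26_2 (iv F259191) D58956 (iv D57791)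
theorem F263885 : act 7 n58956 = n57777 := d27_2 (iv F259192) D58956 (iv D57777)
theorem F263886 : act 9 n58956 = n57833 := d29_2 (iv F259193) D58956 (iv D57833)
def n58957 : Q := act 2 n57777
theorem D58957 : act 2 n57777 = n58957 := rfl
theorem F263887 : act 6 n58957 = n57778 := d20_2 (iv F259194) D58957 (iv D57778)
theorem F263888 : act 9 n58957 = n57834 := d23_2 (iv F259195) D58957 (iv D57834)
def n58958 : Q := act 4 n57777
theorem D58958 : act 4 n57777 = n58958 := rfl
theorem F263889 : act 3 n58958 = n57800 := d24_1 D58958 (iv D57800) (iv D56627) (iv F254245) D57777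
theorem F263890 : act 6 n58958 = n57779 := d31_2 (iv F259194) D58958 (iv D57779)
theorem F263891 : act 9 n58958 = n57835 := d34_2 (iv F259195) D58958 (iv D57835)
def n58959 : Q := act 1 n57778
theorem D58959 : act 1 n57778 = n58959 := rfl
theorem F263892 : act 5 n58959 = n57780 := d12_2 (iv F259196) D58959 (iv D57780)
theorem F263893 : act 7 n58959 = n57794 := d14_2 (iv F259197) D58959 (iv D57794)
theorem F263894 : act 9 n58959 = n57836 := d16_2 (iv F259198) D58959 (iv D57836)
def n58960 : Q := act 4 n57778
theorem D58960 : act 4 n57778 = n58960 := rfl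
theorem F263895 : act 2 n58960 = n57779 := d18_1 D58960 (iv D57779) D57778
theorem F263896 : act 7 n58960 = n57795 := d32_2 (iv F259197) D58960 (iv D57795)
theorem F263897 : act 9 n58960 = n57837 := d34_2 (iv F259198) D58960 (iv D57837)
def n58961 : Q := act 0 n57780
theorem D58961 : act 0 n57780 = n58961 := rfl
theorem F263898 : act 7 n58961 = n57796 := d6_2 (iv F259202) D58961 (iv D57796)
theorem F263899 : act 9 n58961 = n57838 := d8_2 (iv F259203) D58961 (iv D57838)
def n58962 : Q := act 2 n57781
theorem D58962 : act 2 n57781 = n58962 := rfl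
theorem F263900 : act 0 n58962 = n58225 := d1_1 D58962 (iv D58225) (iv F259204)
theorem F263901 : act 4 n58962 = n58229 := d18_2 (iv F259206) D58962 (iv D58229)
theorem F263902 : act 6 n58962 = n58258 := d20_2 (iv F259207) D58962 (iv D58258)
theorem F263903 : act 7 n58962 = n58228 := d21_2 (iv F259208) D58962 (iv D58228)
theorem F263904 : act 8 n58962 = n57782 := d22_2 (iv F259209) D58962 (iv D57782)
def n58963 : Q := act 1 n57782
theorem D58963 : act 1 n57782 = n58963 := rfl
theorem F263905 : act 2 n58963 = n57790 := d9_2 D57782 D58963 (iv D57790) (iv D56618) (iv F254258)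
theorem F263906 : act 4 n58963 = n58230 := d11_2 (iv F259210) D58963 (iv D58230)
theorem F263907 : act 6 n58963 = n58261 := d13_2 (iv F259211) D58963 (iv D58261)
theorem F263908 : act 9 n58963 = n57846 := d16_2 (iv F259212) D58963 (iv D57846)
def n58964 : Q := act 3 n57783
theorem D58964 : act 3 n57783 = n58964 := rfl
theorem F263909 : act 0 n58964 = n58002 := d2_1 D58964 (iv D58002) (iv F259213)
theorem F263910 : act 1 n58964 = n58078 := d10_1 D58964 (iv D58078) (iv F259214)
theorem F263911 : act 5 n58964 = n57785 := d25_2 (iv F259217) D58964 (iv D57785)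
theorem F263912 : act 7 n58964 = n58064 := d27_2 (iv F259218) D58964 (iv D58064)
theorem F263913 : act 8 n58964 = n57851 := d28_2 D57783 D58964 (iv D57851) (iv D56678) (iv F254265)
theorem F263914 : act 9 n58964 = n57784 := d29_2 (iv F259219) D58964 (iv D57784)
def n58965 : Q := act 2 n57784
theorem D58965 : act 2 n57784 = n58965 := rfl
theorem F263915 : act 0 n58965 = n58288 := d1_1 D58965 (iv D58288) (iv F259220)
theorem F263916 : act 5 n58965 = n57786 := d19_2 (iv F259221) D58965 (iv D57786)
theorem F263917 : act 7 n58965 = n58302 := d21_2 (iv F259222) D58965 (iv D58302)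
theorem F263918 : act 8 n58965 = n57788 := d22_2 (iv F259223) D58965 (iv D57788)
def n58966 : Q := act 2 n57785
theorem D58966 : act 2 n57785 = n58966 := rfl
theorem F263919 : act 0 n58966 = n58251 := d1_1 D58966 (iv D58251) (iv F259224)
theorem F263920 : act 4 n58966 = n58231 := d18_2 (iv F259225) D58966 (iv D58231)
theorem F263921 : act 6 n58966 = n58267 := d20_2 (iv F259226) D58966 (iv D58267)
theorem F263922 : act 7 n58966 = n58255 := d21_2 (iv F259227) D58966 (iv D58255)
theorem F263923 : act 8 n58966 = n57854 := d22_2 (iv F259228) D58966 (iv D57854)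
theorem F263924 : act 9 n58966 = n57786 := d23_2 (iv F259229) D58966 (iv D57786)
def n58967 : Q := act 1 n57786
theorem D58967 : act 1 n57786 = n58967 := rfl
theorem F263925 : act 4 n58967 = n58232 := d11_2 (iv F259231) D58967 (iv D58232)
theorem F263926 : act 6 n58967 = n58268 := d13_2 (iv F259232) D58967 (iv D58268)
theorem F263927 : act 7 n58967 = n58303 := d14_2 (iv F259233) D58967 (iv D58303)
theorem F263928 : act 8 n58967 = n57790 := d15_2 (iv F259234) D58967 (iv D57790)
def n58968 : Q := act 2 n57787
theorem D58968 : act 2 n57787 = n58968 := rfl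
theorem F263929 : act 0 n58968 = n57975 := d1_1 D58968 (iv D57975) (iv F259235)
theorem F263930 : act 3 n58968 = n57792 := d17_2 D57787 D58968 (iv D57792) (iv D56620) (iv F254285)
theorem F263931 : act 5 n58968 = n58270 := d19_2 (iv F259237) D58968 (iv D58270)
theorem F263932 : act 6 n58968 = n57788 := d20_2 (iv F259238) D58968 (iv D57788)
theorem F263933 : act 9 n58968 = n57860 := d23_2 (iv F259239) D58968 (iv D57860)
def n58969 : Q := act 1 n57788
theorem D58969 : act 1 n57788 = n58969 := rfl
theorem F263934 : act 3 n58969 = n57794 := d10_2 (iv F259241) D58969 (iv D57794)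
theorem F263935 : act 5 n58969 = n57790 := d12_2 (iv F259242) D58969 (iv D57790)
theorem F263936 : act 9 n58969 = n57862 := d16_2 (iv F259243) D58969 (iv D57862)
def n58970 : Q := act 4 n57788
theorem D58970 : act 4 n57788 = n58970 := rfl
theorem F263937 : act 0 n58970 = n58325 := d3_1 D58970 F260785 (iv F259240)
theorem F263938 : act 2 n58970 = n57789 := d18_1 D58970 (iv D57789) D57788
theorem F263939 : act 5 n58970 = n57950 := d30_2 (iv F259242) D58970 (iv D57950) F254930 (iv F254295)
theorem F263940 : act 9 n58970 = n57863 := d34_2 (iv F259243) D58970 (iv D57863)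
theorem F263941 : act 3 n58085 = n58970 := d25_3 F263939 F259848 D58085
def n58971 : Q := act 0 n57790
theorem D58971 : act 0 n57790 = n58971 := rfl
theorem F263942 : act 1 n58971 = n58326 := d0_2 D57790 D58971 F260786 F255935 (iv F254293)
theorem F263943 : act 3 n58971 = n57796 := d2_2 (iv F259248) D58971 (iv D57796)
theorem F263944 : act 4 n58971 = n58233 := d3_2 (iv F259249) D58971 (iv D58233)
theorem F263945 : act 6 n58971 = n58274 := d5_2 (iv F259250) D58971 (iv D58274)
theorem F263946 : act 9 n58971 = n57865 := d8_2 (iv F259251) D58971 (iv D57865)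
def n58972 : Q := act 2 n57791
theorem D58972 : act 2 n57791 = n58972 := rfl
theorem F263947 : act 5 n58972 = n58275 := d19_2 (iv F259252) D58972 (iv D58275)
theorem F263948 : act 7 n58972 = n57792 := d21_2 (iv F259253) D58972 (iv D57792)
theorem F263949 : act 9 n58972 = n57868 := d23_2 (iv F259254) D58972 (iv D57868)
def n58973 : Q := act 4 n57791
theorem D58973 : act 4 n57791 = n58973 := rfl
theorem F263950 : act 3 n58973 = n57804 := d24_1 D58973 (iv D57804) (iv D56633) (iv F254298) D57791
theorem F263951 : act 5 n58973 = n58166 := d30_2 (iv F259252) D58973 (iv D58166) (iv F256827) F256826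
theorem F263952 : act 7 n58973 = n57793 := d32_2 (iv F259253) D58973 (iv D57793)
theorem F263953 : act 9 n58973 = n57869 := d34_2 (iv F259254) D58973 (iv D57869)
def n58974 : Q := act 1 n57792
theorem D58974 : act 1 n57792 = n58974 := rfl
theorem F263954 : act 5 n58974 = n58276 := d12_2 (iv F259255) D58974 (iv D58276)
theorem F263955 : act 6 n58974 = n57794 := d13_2 (iv F259256) D58974 (iv D57794)
theorem F263956 : act 9 n58974 = n57870 := d16_2 (iv F259257) D58974 (iv D57870)
def n58975 : Q := act 4 n57792
theorem D58975 : act 4 n57792 = n58975 := rfl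
theorem F263957 : act 2 n58975 = n57793 := d18_1 D58975 (iv D57793) D57792
theorem F263958 : act 6 n58975 = n57795 := d31_2 (iv F259256) D58975 (iv D57795)
theorem F263959 : act 9 n58975 = n57871 := d34_2 (iv F259257) D58975 (iv D57871)
def n58976 : Q := act 0 n57794
theorem D58976 : act 0 n57794 = n58976 := rfl
theorem F263960 : act 5 n58976 = n57796 := d4_2 (iv F259261) D58976 (iv D57796)
theorem F263961 : act 9 n58976 = n57872 := d8_2 (iv F259262) D58976 (iv D57872)
def n58977 : Q := act 4 n57794
theorem D58977 : act 4 n57794 = n58977 := rfl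
theorem F263962 : act 1 n58977 = n57795 := d11_1 D58977 (iv D57795) D57794
theorem F263963 : act 9 n58977 = n57873 := d34_2 (iv F259262) D58977 (iv D57873)
def n58978 : Q := act 3 n57795
theorem D58978 : act 3 n57795 = n58978 := rfl
theorem F263964 : act 2 n58978 = n57807 := d17_1 D58978 (iv D57807) F254380 (iv F254307) (iv F259263)
theorem F263965 : act 4 n58978 = n58085 := d24_2 D57795 D58978 F263941 (iv D58970) F259241
theorem F263966 : act 5 n58978 = n58082 := d25_2 F263319 D58978 (iv F263318)
theorem F263967 : act 9 n58978 = n57874 := d29_2 (iv F259264) D58978 (iv D57874)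
def n58979 : Q := act 2 n57798
theorem D58979 : act 2 n57798 = n58979 := rfl
theorem F263968 : act 1 n58979 = n57877 := d9_1 D58979 (iv D57877) (iv F259035) F259036 (iv F259275)
theorem F263969 : act 3 n58979 = n57882 := d17_2 D57798 D58979 F259562 (iv D57160) (iv F254325)
theorem F263970 : act 5 n58979 = n58979 := d19_2 F259276 D58979 (iv D58979)
theorem F263971 : act 6 n58979 = n57803 := d20_2 (iv F259277) D58979 (iv D57803)
theorem F263972 : act 7 n58979 = n57799 := d21_2 (iv F259278) D58979 (iv D57799)
theorem F263973 : act 8 n58979 = n58979 := d22_2 F259279 D58979 (iv D58979)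
theorem F263974 : act 9 n58979 = n57880 := d23_2 (iv F259280) D58979 (iv D57880)
def n58980 : Q := act 4 n57798
theorem D58980 : act 4 n57798 = n58980 := rfl
theorem F263975 : act 1 n58980 = n58334 := d11_1 D58980 (iv D58334) (iv F259275)
theorem F263976 : act 6 n58980 = n57804 := d31_2 (iv F259277) D58980 (iv D57804)
theorem F263977 : act 7 n58980 = n57800 := d32_2 (iv F259278) D58980 (iv D57800)
theorem F263978 : act 8 n58980 = n58980 := d33_2 F259279 D58980 (iv D58980)
theorem F263979 : act 9 n58980 = n57881 := d34_2 (iv F259280) D58980 (iv D57881)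
def n58981 : Q := act 1 n57799
theorem D58981 : act 1 n57799 = n58981 := rfl
theorem F263980 : act 2 n58981 = n57876 := d9_2 D57799 D58981 F259536 (iv F257209) F257208
theorem F263981 : act 3 n58981 = n57880 := d10_2 (iv F259281) D58981 F259554
theorem F263982 : act 5 n58981 = n58981 := d12_2 F259282 D58981 (iv D58981)
theorem F263983 : act 6 n58981 = n57801 := d13_2 (iv F259283) D58981 (iv D57801)
theorem F263984 : act 7 n58981 = n57877 := d14_2 F263972 D58981 (iv F263968)
theorem F263985 : act 8 n58981 = n58981 := d15_2 F259284 D58981 (iv D58981)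
theorem F263986 : act 9 n58981 = n57882 := d16_2 (iv F259285) D58981 (iv D57882)
def n58982 : Q := act 4 n57799
theorem D58982 : act 4 n57799 = n58982 := rfl
theorem F263987 : act 2 n58982 = n57800 := d18_1 D58982 (iv D57800) D57799
theorem F263988 : act 6 n58982 = n57802 := d31_2 (iv F259283) D58982 (iv D57802)
theorem F263989 : act 8 n58982 = n58982 := d33_2 F259284 D58982 (iv D58982)
theorem F263990 : act 9 n58982 = n57883 := d34_2 (iv F259285) D58982 (iv D57883)
def n58983 : Q := act 5 n57800
theorem D58983 : act 5 n57800 = n58983 := rfl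
theorem F263991 : act 4 n58983 = n58983 := d30_1 D58983 (iv D58983) (iv D57800) F254330 D57800
theorem F263992 : act 8 n58983 = n58983 := d37_2 F259287 D58983 (iv D58983)
theorem F263993 : act 9 n58983 = n57884 := d38_2 (iv F259288) D58983 (iv D57884)
def n58984 : Q := act 4 n57801
theorem D58984 : act 4 n57801 = n58984 := rfl
theorem F263994 : act 1 n58984 = n57802 := d11_1 D58984 (iv D57802) D57801
theorem F263995 : act 2 n58984 = n57888 := d18_1 D58984 (iv D57888) (iv F259289)
theorem F263996 : act 5 n58984 = n58090 := d30_2 (iv F259291) D58984 (iv D58090) F255399 (iv F254344)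
theorem F263997 : act 7 n58984 = n57806 := d32_2 (iv F259292) D58984 (iv D57806)
theorem F263998 : act 8 n58984 = n58984 := d33_2 F259293 D58984 (iv D58984)
theorem F263999 : act 9 n58984 = n57886 := d34_2 (iv F259294) D58984 (iv D57886)
def n58985 : Q := act 3 n57802
theorem D58985 : act 3 n57802 = n58985 := rfl
theorem F264000 : act 4 n58985 = n58054 := d24_2 D57802 D58985 F260200 F255319 (iv F254334)
theorem F264001 : act 5 n58985 = n58051 := d25_2 (iv F259296) D58985 F260193
theorem F264002 : act 7 n58985 = n57807 := d27_2 (iv F259297) D58985 (iv D57807)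
theorem F264003 : act 9 n58985 = n57887 := d29_2 (iv F259299) D58985 (iv D57887)
def n58986 : Q := act 4 n57803
theorem D58986 : act 4 n57803 = n58986 := rfl
theorem F264004 : act 1 n58986 = n57879 := d11_1 D58986 (iv D57879) (iv F259300)
theorem F264005 : act 2 n58986 = n57804 := d18_1 D58986 (iv D57804) D57803
theorem F264006 : act 5 n58986 = n58015 := d30_2 (iv F259302) D58986 (iv D58015) F255213 (iv F254386)
theorem F264007 : act 7 n58986 = n57805 := d32_2 (iv F259303) D58986 (iv D57805)
theorem F264008 : act 8 n58986 = n58986 := d33_2 F259304 D58986 (iv D58986)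
theorem F264009 : act 9 n58986 = n57891 := d34_2 (iv F259305) D58986 (iv D57891)
def n58987 : Q := act 3 n57805
theorem D58987 : act 3 n57805 = n58987 := rfl
theorem F264010 : act 1 n58987 = n57890 := d10_1 D58987 (iv D57890) (iv F259310)
theorem F264011 : act 4 n58987 = n57894 := d24_2 D57805 D58987 (iv D57894) (iv D56717) (iv F254366)
theorem F264012 : act 5 n58987 = n58024 := d25_2 (iv F259312) D58987 F260123
theorem F264013 : act 6 n58987 = n57807 := d26_2 (iv F259313) D58987 (iv D57807)
theorem F264014 : act 9 n58987 = n57892 := d29_2 (iv F259315) D58987 (iv D57892)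
def n58988 : Q := act 3 n57806
theorem D58988 : act 3 n57806 = n58988 := rfl
theorem F264015 : act 1 n58988 = n57807 := d10_1 D58988 (iv D57807) (iv F259316)
theorem F264016 : act 4 n58988 = n57892 := d24_2 D57806 D58988 (iv D57892) (iv D56715) (iv F254375)
theorem F264017 : act 5 n58988 = n58066 := d25_2 (iv F259318) D58988 F260235
theorem F264018 : act 6 n58988 = n57890 := d26_2 (iv F259319) D58988 (iv D57890)
theorem F264019 : act 9 n58988 = n57894 := d29_2 (iv F259321) D58988 (iv D57894)
def n58989 : Q := act 8 n57807
theorem D58989 : act 8 n57807 = n58989 := rfl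
theorem F264020 : act 3 n58989 = n58989 := d28_1 D58989 (iv D58989) (iv D57807) F254382 D57807
theorem F264021 : act 4 n58989 = n58077 := d33_1 D58989 F260256 (iv F259322)
theorem F264022 : act 5 n58989 = n58072 := d37_1 D58989 F260248 (iv F259323)
def n58990 : Q := act 2 n57808
theorem D58990 : act 2 n57808 = n58990 := rfl
theorem F264023 : act 0 n58990 = n58252 := d1_1 D58990 (iv D58252) (iv F259325)
theorem F264024 : act 4 n58990 = n57826 := d18_2 (iv F259327) D58990 (iv D57826)
theorem F264025 : act 6 n58990 = n57821 := d20_2 (iv F259328) D58990 (iv D57821)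
theorem F264026 : act 7 n58990 = n57857 := d21_2 (iv F259329) D58990 F259489
theorem F264027 : act 8 n58990 = n57832 := d22_2 (iv F259330) D58990 F259419
def n58991 : Q := act 2 n57809
theorem D58991 : act 2 n57809 = n58991 := rfl
theorem F264028 : act 4 n58991 = n57821 := d18_2 (iv F259332) D58991 (iv D57821)
theorem F264029 : act 6 n58991 = n57826 := d20_2 (iv F259333) D58991 (iv D57826)
theorem F264030 : act 7 n58991 = n57847 := d21_2 (iv F259334) D58991 F259456
theorem F264031 : act 8 n58991 = n57812 := d22_2 (iv F259335) D58991 (iv D57812)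
theorem F264032 : act 9 n58991 = n58225 := d23_2 (iv F259336) D58991 (iv D58225)
def n58992 : Q := act 3 n57810
theorem D58992 : act 3 n57810 = n58992 := rfl
theorem F264033 : act 1 n58992 = n58026 := d10_1 D58992 (iv D58026) (iv F259337)
theorem F264034 : act 5 n58992 = n57828 := d25_2 (iv F259340) D58992 (iv D57828)
theorem F264035 : act 6 n58992 = n57811 := d26_2 (iv F259341) D58992 (iv D57811)
theorem F264036 : act 8 n58992 = n58061 := d28_2 D57810 D58992 (iv D58061) (iv D56884) (iv F254403)
theorem F264037 : act 9 n58992 = n58021 := d29_2 (iv F259342) D58992 (iv D58021)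
def n58993 : Q := act 2 n57811
theorem D58993 : act 2 n57811 = n58993 := rfl
theorem F264038 : act 3 n58993 = n57816 := d17_2 D57811 D58993 (iv D57816) (iv D56646) (iv F254407)
theorem F264039 : act 5 n58993 = n57812 := d19_2 (iv F259343) D58993 (iv D57812)
theorem F264040 : act 7 n58993 = n58280 := d21_2 (iv F259344) D58993 (iv D58280)
def n58994 : Q := act 4 n57811
theorem D58994 : act 4 n57811 = n58994 := rfl
theorem F264041 : act 3 n58994 = n58994 := d24_1 D58994 (iv D58994) (iv D57811) F254408 D57811
theorem F264042 : act 7 n58994 = n58281 := d32_2 (iv F259344) D58994 (iv D58281)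
def n58995 : Q := act 1 n57812
theorem D58995 : act 1 n57812 = n58995 := rfl
theorem F264043 : act 3 n58995 = n57818 := d10_2 (iv F259345) D58995 (iv D57818)
theorem F264044 : act 6 n58995 = n57831 := d13_2 (iv F259346) D58995 (iv D57831)
theorem F264045 : act 7 n58995 = n58282 := d14_2 (iv F259347) D58995 (iv D58282)
def n58996 : Q := act 4 n57812
theorem D58996 : act 4 n57812 = n58996 := rfl
theorem F264046 : act 0 n58996 = n58247 := d3_1 D58996 (iv F263569) F263567
theorem F264047 : act 2 n58996 = n57813 := d18_1 D58996 (iv D57813) D57812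
theorem F264048 : act 3 n58996 = n58204 := d24_1 D58996 (iv F263328) F263327 F258675 (iv F259345)
theorem F264049 : act 6 n58996 = n57832 := d31_2 (iv F259346) D58996 (iv D57832)
theorem F264050 : act 7 n58996 = n57842 := d32_2 (iv F259347) D58996 F259443
theorem F264051 : act 8 n58996 = n57821 := d33_2 F264031 D58996 (iv F264028)
theorem F264052 : act 9 n58996 = n58221 := d34_2 F263846 D58996 (iv F263842)
def n58997 : Q := act 5 n57813
theorem D58997 : act 5 n57813 = n58997 := rfl
theorem F264053 : act 0 n58997 = n58246 := d4_1 D58997 F260612 (iv F259348)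
theorem F264054 : act 1 n58997 = n57824 := d12_1 D58997 F259393 (iv F259349)
theorem F264055 : act 3 n58997 = n57814 := d25_1 D58997 (iv D57814) (iv F259350)
theorem F264056 : act 6 n58997 = n58070 := d35_2 (iv F259351) D58997 F260243 (iv F257382) F257381
theorem F264057 : act 7 n58997 = n57841 := d36_2 (iv F259352) D58997 F259441
theorem F264058 : act 8 n58997 = n57820 := d37_2 (iv F259353) D58997 F259378
theorem F264059 : act 9 n58997 = n58069 := d38_2 (iv F259354) D58997 F260240
def n58998 : Q := act 2 n57815
theorem D58998 : act 2 n57815 = n58998 := rfl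
theorem F264060 : act 5 n58998 = n57834 := d19_2 (iv F259363) D58998 (iv D57834)
theorem F264061 : act 6 n58998 = n57816 := d20_2 (iv F259364) D58998 (iv D57816)
def n58999 : Q := act 4 n57815
theorem D58999 : act 4 n57815 = n58999 := rfl
theorem F264062 : act 3 n58999 = n58999 := d24_1 D58999 (iv D58999) (iv D57815) F254420 D57815
theorem F264063 : act 6 n58999 = n57817 := d31_2 (iv F259364) D58999 (iv D57817)
def n59000 : Q := act 1 n57816
theorem D59000 : act 1 n57816 = n59000 := rfl
theorem F264064 : act 5 n59000 = n57818 := d12_2 (iv F259365) D59000 (iv D57818)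
theorem F264065 : act 7 n59000 = n58285 := d14_2 (iv F259366) D59000 (iv D58285)
def n59001 : Q := act 4 n57816
theorem D59001 : act 4 n57816 = n59001 := rfl
theorem F264066 : act 2 n59001 = n57817 := d18_1 D59001 (iv D57817) D57816
theorem F264067 : act 7 n59001 = n58286 := d32_2 (iv F259366) D59001 (iv D58286)
def n59002 : Q := act 0 n57818
theorem D59002 : act 0 n57818 = n59002 := rfl
theorem F264068 : act 6 n59002 = n57838 := d5_2 (iv F259369) D59002 (iv D57838)
theorem F264069 : act 7 n59002 = n58287 := d6_2 (iv F259370) D59002 (iv D58287)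
def n59003 : Q := act 2 n57819
theorem D59003 : act 2 n57819 = n59003 := rfl
theorem F264070 : act 0 n59003 = n57821 := d1_1 D59003 (iv D57821) (iv F259371)
theorem F264071 : act 6 n59003 = n58252 := d20_2 (iv F259373) D59003 (iv D58252)
theorem F264072 : act 7 n59003 = n57839 := d21_2 (iv F259374) D59003 (iv D57839)
theorem F264073 : act 8 n59003 = n58247 := d22_2 (iv F259375) D59003 (iv D58247)
theorem F264074 : act 9 n59003 = n58229 := d23_2 (iv F259376) D59003 (iv D58229)
def n59004 : Q := act 2 n57820
theorem D59004 : act 2 n57820 = n59004 := rfl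
theorem F264075 : act 3 n59004 = n58229 := d17_2 D57820 D59004 (iv D58229) (iv D57056) (iv F254442)
theorem F264076 : act 5 n59004 = n57821 := d19_2 (iv F259378) D59004 (iv D57821)
theorem F264077 : act 7 n59004 = n57844 := d21_2 (iv F259379) D59004 (iv D57844)
def n59005 : Q := act 4 n57820
theorem D59005 : act 4 n57820 = n59005 := rfl
theorem F264078 : act 1 n59005 = n57830 := d11_1 D59005 (iv D57830) (iv F259377)
theorem F264079 : act 3 n59005 = n57875 := d24_1 D59005 (iv D57875) (iv D56696) (iv F254443) D57820
theorem F264080 : act 7 n59005 = n57845 := d32_2 (iv F259379) D59005 (iv D57845)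
def n59006 : Q := act 1 n57821
theorem D59006 : act 1 n57821 = n59006 := rfl
theorem F264081 : act 2 n59006 = n57831 := d9_2 D57821 D59006 (iv D57831) (iv D56660) (iv F254446)
theorem F264082 : act 7 n59006 = n57846 := d14_2 (iv F259380) D59006 (iv D57846)
def n59007 : Q := act 3 n57822
theorem D59007 : act 3 n57822 = n59007 := rfl
theorem F264083 : act 1 n59007 = n58070 := d10_1 D59007 (iv D58070) (iv F259381)
theorem F264084 : act 5 n59007 = n58061 := d25_2 (iv F259383) D59007 (iv D58061)
theorem F264085 : act 6 n59007 = n57824 := d26_2 (iv F259384) D59007 (iv D57824)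
theorem F264086 : act 8 n59007 = n57828 := d28_2 D57822 D59007 (iv D57828) (iv D56658) (iv F254449)
theorem F264087 : act 9 n59007 = n58060 := d29_2 (iv F259385) D59007 (iv D58060)
def n59008 : Q := act 3 n57823
theorem D59008 : act 3 n57823 = n59008 := rfl
theorem F264088 : act 0 n59008 = n58257 := d2_1 D59008 (iv D58257) (iv F259386)
theorem F264089 : act 1 n59008 = n58069 := d10_1 D59008 (iv D58069) (iv F259387)
theorem F264090 : act 5 n59008 = n57825 := d25_2 (iv F259389) D59008 (iv D57825)
theorem F264091 : act 6 n59008 = n58060 := d26_2 (iv F259390) D59008 (iv D58060)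
theorem F264092 : act 7 n59008 = n57851 := d27_2 (iv F259391) D59008 (iv D57851)
theorem F264093 : act 8 n59008 = n58064 := d28_2 D57823 D59008 (iv D58064) (iv D56886) (iv F254455)
theorem F264094 : act 9 n59008 = n57824 := d29_2 (iv F259392) D59008 (iv D57824)
def n59009 : Q := act 2 n57824
theorem D59009 : act 2 n57824 = n59009 := rfl
theorem F264095 : act 5 n59009 = n57826 := d19_2 (iv F259393) D59009 (iv D57826)
theorem F264096 : act 7 n59009 = n57852 := d21_2 (iv F259394) D59009 (iv D57852)
theorem F264097 : act 8 n59009 = n57829 := d22_2 (iv F259395) D59009 (iv D57829)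
def n59010 : Q := act 4 n57824
theorem D59010 : act 4 n57824 = n59010 := rfl
theorem F264098 : act 3 n59010 = n59010 := d24_1 D59010 (iv D59010) (iv D57824) F254460 D57824
theorem F264099 : act 7 n59010 = n57853 := d32_2 (iv F259394) D59010 (iv D57853)
theorem F264100 : act 8 n59010 = n57830 := d33_2 (iv F259395) D59010 (iv D57830)
def n59011 : Q := act 2 n57825
theorem D59011 : act 2 n57825 = n59011 := rfl
theorem F264101 : act 0 n59011 = n58258 := d1_1 D59011 (iv D58258) (iv F259396)
theorem F264102 : act 6 n59011 = n58225 := d20_2 (iv F259398) D59011 (iv D58225)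
theorem F264103 : act 7 n59011 = n57854 := d21_2 (iv F259399) D59011 (iv D57854)
theorem F264104 : act 8 n59011 = n58255 := d22_2 (iv F259400) D59011 (iv D58255)
theorem F264105 : act 9 n59011 = n57826 := d23_2 (iv F259401) D59011 (iv D57826)
def n59012 : Q := act 1 n57826
theorem D59012 : act 1 n57826 = n59012 := rfl
theorem F264106 : act 7 n59012 = n57856 := d14_2 (iv F259402) D59012 (iv D57856)
theorem F264107 : act 8 n59012 = n57831 := d15_2 (iv F259403) D59012 (iv D57831)
def n59013 : Q := act 3 n57827
theorem D59013 : act 3 n57827 = n59013 := rfl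
theorem F264108 : act 1 n59013 = n58240 := d10_1 D59013 (iv D58240) (iv F259404)
theorem F264109 : act 6 n59013 = n57859 := d26_2 (iv F259407) D59013 (iv D57859)
theorem F264110 : act 7 n59013 = n57828 := d27_2 (iv F259408) D59013 (iv D57828)
theorem F264111 : act 9 n59013 = n58236 := d29_2 (iv F259409) D59013 (iv D58236)
def n59014 : Q := act 2 n57828
theorem D59014 : act 2 n57828 = n59014 := rfl
theorem F264112 : act 3 n59014 = n57834 := d17_2 D57828 D59014 (iv D57834) (iv D56663) (iv F254476)
theorem F264113 : act 6 n59014 = n57829 := d20_2 (iv F259410) D59014 (iv D57829)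
def n59015 : Q := act 4 n57828
theorem D59015 : act 4 n57828 = n59015 := rfl
theorem F264114 : act 3 n59015 = n57878 := d24_1 D59015 (iv D57878) (iv D56698) (iv F254477) D57828
theorem F264115 : act 6 n59015 = n57830 := d31_2 (iv F259410) D59015 (iv D57830)
def n59016 : Q := act 1 n57829
theorem D59016 : act 1 n57829 = n59016 := rfl
theorem F264116 : act 3 n59016 = n57836 := d10_2 (iv F259411) D59016 (iv D57836)
theorem F264117 : act 5 n59016 = n57831 := d12_2 (iv F259412) D59016 (iv D57831)
theorem F264118 : act 7 n59016 = n57862 := d14_2 (iv F259413) D59016 (iv D57862)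
def n59017 : Q := act 4 n57829
theorem D59017 : act 4 n57829 = n59017 := rfl
theorem F264119 : act 2 n59017 = n57830 := d18_1 D59017 (iv D57830) D57829
theorem F264120 : act 7 n59017 = n57863 := d32_2 (iv F259413) D59017 (iv D57863)
def n59018 : Q := act 0 n57831
theorem D59018 : act 0 n57831 = n59018 := rfl
theorem F264121 : act 3 n59018 = n57838 := d2_2 (iv F259416) D59018 (iv D57838)
theorem F264122 : act 7 n59018 = n57865 := d6_2 (iv F259417) D59018 (iv D57865)
def n59019 : Q := act 4 n57831
theorem D59019 : act 4 n57831 = n59019 := rfl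
theorem F264123 : act 1 n59019 = n57832 := d11_1 D59019 (iv D57832) D57831
theorem F264124 : act 3 n59019 = n58219 := d24_1 D59019 (iv F263346) F263345 F258691 (iv F259416)
theorem F264125 : act 7 n59019 = n57866 := d32_2 (iv F259417) D59019 (iv D57866)
theorem F264126 : act 9 n59019 = n58226 := d34_2 F263882 D59019 (iv F263879)
def n59020 : Q := act 2 n57833
theorem D59020 : act 2 n57833 = n59020 := rfl
theorem F264127 : act 6 n59020 = n57868 := d20_2 (iv F259423) D59020 (iv D57868)
theorem F264128 : act 7 n59020 = n57834 := d21_2 (iv F259424) D59020 (iv D57834)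
def n59021 : Q := act 4 n57833
theorem D59021 : act 4 n57833 = n59021 := rfl
theorem F264129 : act 3 n59021 = n57881 := d24_1 D59021 (iv D57881) (iv D56701) (iv F254487) D57833
theorem F264130 : act 6 n59021 = n57869 := d31_2 (iv F259423) D59021 (iv D57869)
theorem F264131 : act 7 n59021 = n57835 := d32_2 (iv F259424) D59021 (iv D57835)
theorem F264132 : act 8 n59021 = n58175 := d33_2 F262676 D59021 (iv F262672)
def n59022 : Q := act 1 n57834
theorem D59022 : act 1 n57834 = n59022 := rfl
theorem F264133 : act 6 n59022 = n57836 := d13_2 (iv F259425) D59022 (iv D57836)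
def n59023 : Q := act 4 n57834
theorem D59023 : act 4 n57834 = n59023 := rfl
theorem F264134 : act 2 n59023 = n57835 := d18_1 D59023 (iv D57835) D57834
theorem F264135 : act 6 n59023 = n57837 := d31_2 (iv F259425) D59023 (iv D57837)
def n59024 : Q := act 5 n57835
theorem D59024 : act 5 n57835 = n59024 := rfl
theorem F264136 : act 3 n59024 = n57884 := d25_1 D59024 (iv D57884) (iv F259426)
def n59025 : Q := act 0 n57836
theorem D59025 : act 0 n57836 = n59025 := rfl
theorem F264137 : act 5 n59025 = n57838 := d4_2 (iv F259428) D59025 (iv D57838)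
theorem F264138 : act 7 n59025 = n57872 := d6_2 (iv F259429) D59025 (iv D57872)
def n59026 : Q := act 4 n57836
theorem D59026 : act 4 n57836 = n59026 := rfl
theorem F264139 : act 1 n59026 = n57837 := d11_1 D59026 (iv D57837) D57836
theorem F264140 : act 7 n59026 = n57873 := d32_2 (iv F259429) D59026 (iv D57873)
def n59027 : Q := act 3 n57837
theorem D59027 : act 3 n57837 = n59027 := rfl
theorem F264141 : act 2 n59027 = n57887 := d17_1 D59027 (iv D57887) F254612 (iv F254493) (iv F259430)
theorem F264142 : act 5 n59027 = n58244 := d25_2 F263356 D59027 (iv F263355)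
theorem F264143 : act 7 n59027 = n57874 := d27_2 (iv F259431) D59027 (iv D57874)
def n59028 : Q := act 1 n57839
theorem D59028 : act 1 n57839 = n59028 := rfl
theorem F264144 : act 6 n59028 = n58303 := d13_2 (iv F259434) D59028 (iv D58303)
def n59029 : Q := act 3 n57840
theorem D59029 : act 3 n57840 = n59029 := rfl
theorem F264145 : act 0 n59029 = n58021 := d2_1 D59029 (iv D58021) (iv F259435)
theorem F264146 : act 1 n59029 = n57850 := d10_1 D59029 (iv D57850) (iv F259436)
theorem F264147 : act 5 n59029 = n58298 := d25_2 (iv F259438) D59029 F260738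
theorem F264148 : act 6 n59029 = n57841 := d26_2 (iv F259439) D59029 (iv D57841)
theorem F264149 : act 8 n59029 = n57843 := d28_2 D57840 D59029 (iv D57843) (iv D56671) (iv F254500)
def n59030 : Q := act 2 n57841
theorem D59030 : act 2 n57841 = n59030 := rfl
theorem F264150 : act 5 n59030 = n57842 := d19_2 (iv F259441) D59030 (iv D57842)
theorem F264151 : act 8 n59030 = n57844 := d22_2 (iv F259442) D59030 (iv D57844)
def n59031 : Q := act 4 n57841
theorem D59031 : act 4 n57841 = n59031 := rfl
theorem F264152 : act 1 n59031 = n57853 := d11_1 D59031 (iv D57853) (iv F259440)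
theorem F264153 : act 3 n59031 = n59031 := d24_1 D59031 (iv D59031) (iv D57841) F254505 D57841
theorem F264154 : act 5 n59031 = n58281 := d30_2 (iv F259441) D59031 (iv D58281) F255861 (iv F254508)
theorem F264155 : act 8 n59031 = n57845 := d33_2 (iv F259442) D59031 (iv D57845)
def n59032 : Q := act 1 n57842
theorem D59032 : act 1 n57842 = n59032 := rfl
theorem F264156 : act 2 n59032 = n57856 := d9_2 D57842 D59032 (iv D57856) (iv D56681) (iv F254507)
theorem F264157 : act 4 n59032 = n58282 := d11_2 (iv F259443) D59032 (iv D58282)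
theorem F264158 : act 6 n59032 = n58296 := d13_2 (iv F259444) D59032 F260730
theorem F264159 : act 8 n59032 = n57846 := d15_2 (iv F259445) D59032 (iv D57846)
def n59033 : Q := act 2 n57843
theorem D59033 : act 2 n57843 = n59033 := rfl
theorem F264160 : act 0 n59033 = n58023 := d1_1 D59033 (iv D58023) (iv F259446)
theorem F264161 : act 3 n59033 = n58255 := d17_2 D57843 D59033 (iv D58255) (iv D57081) (iv F254513)
theorem F264162 : act 5 n59033 = n58304 := d19_2 (iv F259448) D59033 (iv D58304)
theorem F264163 : act 6 n59033 = n57844 := d20_2 (iv F259449) D59033 (iv D57844)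
theorem F264164 : act 9 n59033 = n58059 := d23_2 (iv F259450) D59033 (iv D58059)
def n59034 : Q := act 1 n57844
theorem D59034 : act 1 n57844 = n59034 := rfl
theorem F264165 : act 2 n59034 = n57862 := d9_2 D57844 D59034 (iv D57862) (iv D56685) (iv F254518)
theorem F264166 : act 5 n59034 = n57846 := d12_2 (iv F259451) D59034 (iv D57846)
def n59035 : Q := act 4 n57844
theorem D59035 : act 4 n57844 = n59035 := rfl
theorem F264167 : act 2 n59035 = n57845 := d18_1 D59035 (iv D57845) D57844
def n59036 : Q := act 0 n57846
theorem D59036 : act 0 n57846 = n59036 := rfl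
theorem F264168 : act 2 n59036 = n57865 := d1_2 (iv F259454) D59036 (iv D57865)
theorem F264169 : act 6 n59036 = n58308 := d5_2 (iv F259455) D59036 (iv D58308)
def n59037 : Q := act 4 n57846
theorem D59037 : act 4 n57846 = n59037 := rfl
theorem F264170 : act 1 n59037 = n57847 := d11_1 D59037 (iv D57847) D57846
theorem F264171 : act 2 n59037 = n57866 := d18_1 D59037 (iv D57866) (iv F259454)
theorem F264172 : act 6 n59037 = n58291 := d31_2 (iv F259455) D59037 F260715
theorem F264173 : act 8 n59037 = n58282 := d33_2 F264159 D59037 (iv F264157)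
theorem F264174 : act 9 n59037 = n58230 := d34_2 F263908 D59037 (iv F263906)
def n59038 : Q := act 3 n57848
theorem D59038 : act 3 n57848 = n59038 := rfl
theorem F264175 : act 0 n59038 = n58035 := d2_1 D59038 (iv D58035) (iv F259460)
theorem F264176 : act 5 n59038 = n57960 := d25_2 (iv F259463) D59038 (iv D57960)
theorem F264177 : act 7 n59038 = n57850 := d27_2 (iv F259464) D59038 (iv D57850)
theorem F264178 : act 8 n59038 = n57859 := d28_2 D57848 D59038 (iv D57859) (iv D56683) (iv F254528)
def n59039 : Q := act 3 n57849
theorem D59039 : act 3 n57849 = n59039 := rfl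
theorem F264179 : act 5 n59039 = n58309 := d25_2 (iv F259466) D59039 (iv D58309)
theorem F264180 : act 6 n59039 = n57851 := d26_2 (iv F259467) D59039 (iv D57851)
theorem F264181 : act 9 n59039 = n57850 := d29_2 (iv F259468) D59039 (iv D57850)
def n59040 : Q := act 2 n57850
theorem D59040 : act 2 n57850 = n59040 := rfl
theorem F264182 : act 5 n59040 = n58310 := d19_2 (iv F259469) D59040 (iv D58310)
theorem F264183 : act 6 n59040 = n57852 := d20_2 (iv F259470) D59040 (iv D57852)
theorem F264184 : act 8 n59040 = n57860 := d22_2 (iv F259471) D59040 (iv D57860)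
def n59041 : Q := act 4 n57850
theorem D59041 : act 4 n57850 = n59041 := rfl
theorem F264185 : act 3 n59041 = n59041 := d24_1 D59041 (iv D59041) (iv D57850) F254535 D57850
theorem F264186 : act 6 n59041 = n57853 := d31_2 (iv F259470) D59041 (iv D57853)
theorem F264187 : act 8 n59041 = n57861 := d33_2 (iv F259471) D59041 (iv D57861)
def n59042 : Q := act 2 n57851
theorem D59042 : act 2 n57851 = n59042 := rfl
theorem F264188 : act 5 n59042 = n57854 := d19_2 (iv F259472) D59042 (iv D57854)
theorem F264189 : act 9 n59042 = n57852 := d23_2 (iv F259473) D59042 (iv D57852)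
def n59043 : Q := act 4 n57851
theorem D59043 : act 4 n57851 = n59043 := rfl
theorem F264190 : act 3 n59043 = n59043 := d24_1 D59043 (iv D59043) (iv D57851) F254538 D57851
theorem F264191 : act 9 n59043 = n57853 := d34_2 (iv F259473) D59043 (iv D57853)
def n59044 : Q := act 1 n57852
theorem D59044 : act 1 n57852 = n59044 := rfl
theorem F264192 : act 5 n59044 = n57856 := d12_2 (iv F259474) D59044 (iv D57856)
theorem F264193 : act 8 n59044 = n57862 := d15_2 (iv F259475) D59044 (iv D57862)
def n59045 : Q := act 4 n57852
theorem D59045 : act 4 n57852 = n59045 := rfl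
theorem F264194 : act 2 n59045 = n57853 := d18_1 D59045 (iv D57853) D57852
theorem F264195 : act 8 n59045 = n57863 := d33_2 (iv F259475) D59045 (iv D57863)
def n59046 : Q := act 5 n57853
theorem D59046 : act 5 n57853 = n59046 := rfl
theorem F264196 : act 0 n59046 = n58266 := d4_1 D59046 (iv F263651) F263649
theorem F264197 : act 1 n59046 = n58281 := d12_1 D59046 (iv F264154) F264152
theorem F264198 : act 3 n59046 = n59046 := d25_1 D59046 (iv D59046) F259476
theorem F264199 : act 4 n59046 = n57858 := d30_1 D59046 (iv D57858) (iv D56682) (iv F254541) D57853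
theorem F264200 : act 8 n59046 = n57864 := d37_2 (iv F259477) D59046 (iv D57864)
def n59047 : Q := act 1 n57854
theorem D59047 : act 1 n57854 = n59047 := rfl
theorem F264201 : act 6 n59047 = n58316 := d13_2 (iv F259478) D59047 (iv D58316)
theorem F264202 : act 9 n59047 = n57856 := d16_2 (iv F259479) D59047 (iv D57856)
def n59048 : Q := act 4 n57854
theorem D59048 : act 4 n57854 = n59048 := rfl
theorem F264203 : act 0 n59048 = n58267 := d3_1 D59048 (iv F263654) F263653
theorem F264204 : act 2 n59048 = n57855 := d18_1 D59048 (iv D57855) D57854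
theorem F264205 : act 6 n59048 = n58251 := d31_2 (iv F259478) D59048 F260623
theorem F264206 : act 8 n59048 = n58231 := d33_2 F263923 D59048 (iv F263920)
theorem F264207 : act 9 n59048 = n57857 := d34_2 (iv F259479) D59048 (iv D57857)
def n59049 : Q := act 0 n57856
theorem D59049 : act 0 n57856 = n59049 := rfl
theorem F264208 : act 6 n59049 = n58317 := d5_2 (iv F259486) D59049 (iv D58317)
theorem F264209 : act 8 n59049 = n57865 := d7_2 (iv F259487) D59049 (iv D57865)
def n59050 : Q := act 4 n57856
theorem D59050 : act 4 n57856 = n59050 := rfl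
theorem F264210 : act 1 n59050 = n57857 := d11_1 D59050 (iv D57857) D57856
theorem F264211 : act 2 n59050 = n58282 := d18_1 D59050 (iv F264157) F264156
theorem F264212 : act 6 n59050 = n58290 := d31_2 (iv F259486) D59050 F260711
theorem F264213 : act 8 n59050 = n57866 := d33_2 (iv F259487) D59050 (iv D57866)
def n59051 : Q := act 3 n57857
theorem D59051 : act 3 n57857 = n59051 := rfl
theorem F264214 : act 0 n59051 = n58241 := d2_1 D59051 F260605 (iv F259488)
theorem F264215 : act 2 n59051 = n57912 := d17_1 D59051 (iv D57912) F254743 (iv F254549) (iv F259489)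
theorem F264216 : act 6 n59051 = n58043 := d26_2 (iv F259490) D59051 F260169
theorem F264217 : act 8 n59051 = n58216 := d28_2 (iv F259491) D59051 F260562 F255724 (iv F254565)
def n59052 : Q := act 5 n57857
theorem D59052 : act 5 n57857 = n59052 := rfl
theorem F264218 : act 0 n59052 = n58265 := d4_1 D59052 F260654 (iv F259488)
theorem F264219 : act 2 n59052 = n57858 := d19_1 D59052 (iv D57858) (iv F259489)
theorem F264220 : act 8 n59052 = n57867 := d37_2 (iv F259491) D59052 (iv D57867)
def n59053 : Q := act 2 n57859
theorem D59053 : act 2 n57859 = n59053 := rfl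
theorem F264221 : act 3 n59053 = n57868 := d17_2 D57859 D59053 (iv D57868) (iv D56690) (iv F254552)
theorem F264222 : act 5 n59053 = n58318 := d19_2 (iv F259496) D59053 (iv D58318)
theorem F264223 : act 7 n59053 = n57860 := d21_2 (iv F259497) D59053 (iv D57860)
def n59054 : Q := act 4 n57859
theorem D59054 : act 4 n57859 = n59054 := rfl
theorem F264224 : act 3 n59054 = n57888 := d24_1 D59054 (iv D57888) (iv D56709) (iv F254553) D57859
theorem F264225 : act 7 n59054 = n57861 := d32_2 (iv F259497) D59054 (iv D57861)
def n59055 : Q := act 1 n57860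
theorem D59055 : act 1 n57860 = n59055 := rfl
theorem F264226 : act 3 n59055 = n57870 := d10_2 (iv F259498) D59055 (iv D57870)
theorem F264227 : act 5 n59055 = n58320 := d12_2 (iv F259499) D59055 (iv D58320)
theorem F264228 : act 6 n59055 = n57862 := d13_2 (iv F259500) D59055 (iv D57862)
def n59056 : Q := act 4 n57860
theorem D59056 : act 4 n57860 = n59056 := rfl
theorem F264229 : act 2 n59056 = n57861 := d18_1 D59056 (iv D57861) D57860
theorem F264230 : act 6 n59056 = n57863 := d31_2 (iv F259500) D59056 (iv D57863)
def n59057 : Q := act 5 n57861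
theorem D59057 : act 5 n57861 = n59057 := rfl
theorem F264231 : act 3 n59057 = n57889 := d25_1 D59057 (iv D57889) (iv F259501)
theorem F264232 : act 4 n59057 = n58322 := d30_1 D59057 (iv D58322) (iv D57141) (iv F254556) D57861
def n59058 : Q := act 0 n57862
theorem D59058 : act 0 n57862 = n59058 := rfl
theorem F264233 : act 3 n59058 = n57872 := d2_2 (iv F259503) D59058 (iv D57872)
theorem F264234 : act 5 n59058 = n57865 := d4_2 (iv F259504) D59058 (iv D57865)
def n59059 : Q := act 4 n57862
theorem D59059 : act 4 n57862 = n59059 := rfl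
theorem F264235 : act 1 n59059 = n57863 := d11_1 D59059 (iv D57863) D57862
def n59060 : Q := act 3 n57863
theorem D59060 : act 3 n57863 = n59060 := rfl
theorem F264236 : act 2 n59060 = n57890 := d17_1 D59060 (iv D57890) F254636 (iv F254560) (iv F259505)
theorem F264237 : act 4 n59060 = n57874 := d24_2 D57863 D59060 (iv D57874) (iv D56694) (iv F254558)
theorem F264238 : act 9 n59060 = n58085 := d29_2 F263940 D59060 F263941
theorem F264239 : act 5 n58031 = n59060 := d38_3 F264238 (iv D58085) (iv F260140)
def n59061 : Q := act 5 n57863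
theorem D59061 : act 5 n57863 = n59061 := rfl
theorem F264240 : act 0 n59061 = n58273 := d4_1 D59061 (iv F263667) F263665
theorem F264241 : act 2 n59061 = n57864 := d19_1 D59061 (iv D57864) (iv F259505)
theorem F264242 : act 3 n59061 = n58031 := d25_1 D59061 F264239 (iv D59060)
theorem F264243 : act 4 n59061 = n57867 := d30_1 D59061 (iv D57867) (iv D56688) (iv F254559) D57863
theorem F264244 : act 9 n59061 = n57950 := d38_2 F263940 D59061 (iv F263939)
def n59062 : Q := act 4 n57865
theorem D59062 : act 4 n57865 = n59062 := rfl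
theorem F264245 : act 0 n59062 = n57866 := d3_1 D59062 (iv D57866) D57865
theorem F264246 : act 1 n59062 = n58274 := d11_1 D59062 (iv F263671) F263669
theorem F264247 : act 3 n59062 = n58220 := d24_1 D59062 (iv F263383) F263382 F258731 (iv F259510)
theorem F264248 : act 6 n59062 = n58326 := d31_2 (iv F259511) D59062 (iv D58326)
theorem F264249 : act 9 n59062 = n58233 := d34_2 F263946 D59062 (iv F263944)
def n59063 : Q := act 5 n57866
theorem D59063 : act 5 n57866 = n59063 := rfl
theorem F264250 : act 1 n59063 = n57867 := d12_1 D59063 (iv D57867) (iv F259512)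
theorem F264251 : act 3 n59063 = n57944 := d25_1 D59063 F259829 (iv F259513)
theorem F264252 : act 9 n59063 = n57949 := d38_2 (iv F259515) D59063 F259845
def n59064 : Q := act 1 n57868
theorem D59064 : act 1 n57868 = n59064 := rfl
theorem F264253 : act 5 n59064 = n58328 := d12_2 (iv F259520) D59064 (iv D58328)
theorem F264254 : act 7 n59064 = n57870 := d14_2 (iv F259521) D59064 (iv D57870)
def n59065 : Q := act 4 n57868
theorem D59065 : act 4 n57868 = n59065 := rfl
theorem F264255 : act 2 n59065 = n57869 := d18_1 D59065 (iv D57869) D57868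
theorem F264256 : act 5 n59065 = n58168 := d30_2 (iv F259520) D59065 (iv D58168) (iv F256884) F256883
theorem F264257 : act 7 n59065 = n57871 := d32_2 (iv F259521) D59065 (iv D57871)
theorem F264258 : act 8 n59065 = n58174 := d33_2 F263134 D59065 (iv F263131)
def n59066 : Q := act 0 n57870
theorem D59066 : act 0 n57870 = n59066 := rfl
theorem F264259 : act 5 n59066 = n58329 := d4_2 (iv F259526) D59066 (iv D58329)
theorem F264260 : act 6 n59066 = n57872 := d5_2 (iv F259527) D59066 (iv D57872)
def n59067 : Q := act 4 n57870
theorem D59067 : act 4 n57870 = n59067 := rfl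
theorem F264261 : act 1 n59067 = n57871 := d11_1 D59067 (iv D57871) D57870
theorem F264262 : act 6 n59067 = n57873 := d31_2 (iv F259527) D59067 (iv D57873)
def n59068 : Q := act 3 n57871
theorem D59068 : act 3 n57871 = n59068 := rfl
theorem F264263 : act 2 n59068 = n57892 := d17_1 D59068 (iv D57892) F254653 (iv F254575) (iv F259528)
theorem F264264 : act 5 n59068 = n58068 := d25_2 F261674 D59068 (iv F261673)
theorem F264265 : act 6 n59068 = n57874 := d26_2 (iv F259529) D59068 (iv D57874)
def n59069 : Q := act 4 n57872
theorem D59069 : act 4 n57872 = n59069 := rfl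
theorem F264266 : act 0 n59069 = n57873 := d3_1 D59069 (iv D57873) D57872
def n59070 : Q := act 3 n57873
theorem D59070 : act 3 n57873 = n59070 := rfl
theorem F264267 : act 1 n59070 = n57874 := d10_1 D59070 (iv D57874) (iv F259531)
def n59071 : Q := act 8 n57874
theorem D59071 : act 8 n57874 = n59071 := rfl
theorem F264268 : act 2 n59071 = n57895 := d22_1 D59071 (iv D57895) (iv F259532)
def n59072 : Q := act 4 n57876
theorem D59072 : act 4 n57876 = n59072 := rfl
theorem F264269 : act 1 n59072 = n58333 := d11_1 D59072 (iv D58333) (iv F259536)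
theorem F264270 : act 6 n59072 = n57888 := d31_2 (iv F259538) D59072 (iv D57888)
theorem F264271 : act 7 n59072 = n57878 := d32_2 (iv F259539) D59072 (iv D57878)
theorem F264272 : act 8 n59072 = n59072 := d33_2 F259540 D59072 (iv D59072)
theorem F264273 : act 9 n59072 = n58332 := d34_2 (iv F259541) D59072 (iv D58332)
def n59073 : Q := act 4 n57877
theorem D59073 : act 4 n57877 = n59073 := rfl
theorem F264274 : act 2 n59073 = n57878 := d18_1 D59073 (iv D57878) D57877
theorem F264275 : act 6 n59073 = n57879 := d31_2 (iv F259544) D59073 (iv D57879)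
theorem F264276 : act 8 n59073 = n59073 := d33_2 F259545 D59073 (iv D59073)
theorem F264277 : act 9 n59073 = n58055 := d34_2 (iv F259546) D59073 F260202
def n59074 : Q := act 5 n57878
theorem D59074 : act 5 n57878 = n59074 := rfl
theorem F264278 : act 1 n59074 = n57910 := d12_1 D59074 (iv F263415) F263412
theorem F264279 : act 4 n59074 = n59074 := d30_1 D59074 (iv D59074) (iv D57878) F254590 D57878
theorem F264280 : act 6 n59074 = n58097 := d35_2 (iv F259547) D59074 (iv D58097) (iv F257560) F257559
theorem F264281 : act 8 n59074 = n59074 := d37_2 F259548 D59074 (iv D59074)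
theorem F264282 : act 9 n59074 = n57909 := d38_2 F262278 D59074 (iv F262275)
def n59075 : Q := act 3 n57879
theorem D59075 : act 3 n57879 = n59075 := rfl
theorem F264283 : act 4 n59075 = n57887 := d24_2 D57879 D59075 (iv D57887) (iv D56705) (iv F254593)
theorem F264284 : act 5 n59075 = n58019 := d25_2 (iv F259550) D59075 F260104
theorem F264285 : act 7 n59075 = n57890 := d27_2 (iv F259551) D59075 (iv D57890)
theorem F264286 : act 9 n59075 = n58054 := d29_2 (iv F259553) D59075 F260200
def n59076 : Q := act 4 n57880
theorem D59076 : act 4 n57880 = n59076 := rfl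
theorem F264287 : act 1 n59076 = n58055 := d11_1 D59076 F260202 (iv F259554)
theorem F264288 : act 2 n59076 = n57881 := d18_1 D59076 (iv D57881) D57880
theorem F264289 : act 6 n59076 = n57891 := d31_2 (iv F259556) D59076 (iv D57891)
theorem F264290 : act 7 n59076 = n57883 := d32_2 (iv F259557) D59076 (iv D57883)
theorem F264291 : act 8 n59076 = n57897 := d33_2 (iv F259558) D59076 (iv D57897)
def n59077 : Q := act 0 n57882
theorem D59077 : act 0 n57882 = n59077 := rfl
theorem F264292 : act 1 n59077 = n57997 := d0_2 D57882 D59077 (iv F261359) F261360 F259006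
theorem F264293 : act 2 n59077 = n57959 := d1_2 (iv F259562) D59077 F259877
theorem F264294 : act 5 n59077 = n59077 := d4_2 F259563 D59077 (iv D59077)
theorem F264295 : act 6 n59077 = n57885 := d5_2 (iv F259564) D59077 (iv D57885)
theorem F264296 : act 7 n59077 = n57990 := d6_2 (iv F259565) D59077 F259984
theorem F264297 : act 8 n59077 = n57898 := d7_2 (iv F259566) D59077 (iv D57898)
def n59078 : Q := act 4 n57882
theorem D59078 : act 4 n57882 = n59078 := rfl
theorem F264298 : act 1 n59078 = n57883 := d11_1 D59078 (iv D57883) D57882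
theorem F264299 : act 2 n59078 = n58332 := d18_1 D59078 (iv D58332) (iv F259562)
theorem F264300 : act 6 n59078 = n57886 := d31_2 (iv F259564) D59078 (iv D57886)
theorem F264301 : act 7 n59078 = n58055 := d32_2 (iv F259565) D59078 F260202
theorem F264302 : act 8 n59078 = n57899 := d33_2 (iv F259566) D59078 (iv D57899)
def n59079 : Q := act 3 n57883
theorem D59079 : act 3 n57883 = n59079 := rfl
theorem F264303 : act 6 n59079 = n57887 := d26_2 (iv F259568) D59079 (iv D57887)
def n59080 : Q := act 4 n57885
theorem D59080 : act 4 n57885 = n59080 := rfl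
theorem F264304 : act 0 n59080 = n57886 := d3_1 D59080 (iv D57886) D57885
theorem F264305 : act 1 n59080 = n58330 := d11_1 D59080 (iv D58330) (iv F259572)
theorem F264306 : act 2 n59080 = n57965 := d18_1 D59080 (iv D57965) (iv F259573)
theorem F264307 : act 5 n59080 = n58235 := d30_2 (iv F259574) D59080 (iv D58235) F255757 (iv F254618)
theorem F264308 : act 7 n59080 = n57893 := d32_2 (iv F259575) D59080 (iv D57893)
theorem F264309 : act 8 n59080 = n57902 := d33_2 (iv F259576) D59080 (iv D57902)
def n59081 : Q := act 3 n57886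
theorem D59081 : act 3 n57886 = n59081 := rfl
theorem F264310 : act 1 n59081 = n57887 := d10_1 D59081 (iv D57887) (iv F259577)
theorem F264311 : act 5 n59081 = n58238 := d25_2 (iv F259578) D59081 F260601
theorem F264312 : act 7 n59081 = n57894 := d27_2 (iv F259579) D59081 (iv D57894)
def n59082 : Q := act 8 n57887
theorem D59082 : act 8 n57887 = n59082 := rfl
theorem F264313 : act 3 n59082 = n57904 := d28_1 D59082 (iv D57904) (iv D56728) (iv F254615) D57887
theorem F264314 : act 5 n59082 = n58242 := d37_1 D59082 F260608 (iv F259581)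
theorem F264315 : act 7 n59082 = n57895 := d42_1 D59082 (iv D57895) (iv F259582)
def n59083 : Q := act 5 n57888
theorem D59083 : act 5 n57888 = n59083 := rfl
theorem F264316 : act 2 n59083 = n58090 := d19_1 D59083 (iv F263996) F263995
theorem F264317 : act 4 n59083 = n57896 := d30_1 D59083 (iv D57896) (iv D56719) (iv F254631) D57888
theorem F264318 : act 7 n59083 = n57889 := d36_2 (iv F259583) D59083 (iv D57889)
theorem F264319 : act 8 n59083 = n59083 := d37_2 F259584 D59083 (iv D59083)
theorem F264320 : act 9 n59083 = n58239 := d38_2 F262243 D59083 (iv F262239)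
def n59084 : Q := act 8 n57890
theorem D59084 : act 8 n57890 = n59084 := rfl
theorem F264321 : act 3 n59084 = n59084 := d28_1 D59084 (iv D59084) (iv D57890) F254638 D57890
theorem F264322 : act 4 n59084 = n57895 := d33_1 D59084 (iv D57895) (iv F259588)
theorem F264323 : act 5 n59084 = n58028 := d37_1 D59084 F260132 (iv F259589)
def n59085 : Q := act 3 n57891
theorem D59085 : act 3 n57891 = n59085 := rfl
theorem F264324 : act 1 n59085 = n58054 := d10_1 D59085 F260200 (iv F259591)
theorem F264325 : act 5 n59085 = n58044 := d25_2 (iv F259593) D59085 F260172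
theorem F264326 : act 7 n59085 = n57892 := d27_2 (iv F259594) D59085 (iv D57892)
def n59086 : Q := act 8 n57892
theorem D59086 : act 8 n57892 = n59086 := rfl
theorem F264327 : act 1 n59086 = n58077 := d15_1 D59086 F260256 (iv F259596)
theorem F264328 : act 3 n59086 = n57906 := d28_1 D59086 (iv D57906) (iv D56730) (iv F254656) D57892
theorem F264329 : act 5 n59086 = n58063 := d37_1 D59086 F260226 (iv F259597)
theorem F264330 : act 6 n59086 = n57895 := d40_1 D59086 (iv D57895) (iv F259598)
def n59087 : Q := act 3 n57893
theorem D59087 : act 3 n57893 = n59087 := rfl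
theorem F264331 : act 0 n59087 = n57894 := d2_1 D59087 (iv D57894) (iv F259599)
theorem F264332 : act 1 n59087 = n58322 := d10_1 D59087 F260780 (iv F259600)
theorem F264333 : act 5 n59087 = n58305 := d25_2 (iv F259602) D59087 F260749
theorem F264334 : act 6 n59087 = n57985 := d26_2 (iv F259603) D59087 F259968
def n59088 : Q := act 2 n57894
theorem D59088 : act 2 n57894 = n59088 := rfl
theorem F264335 : act 6 n59088 = n58085 := d20_2 (iv F259606) D59088 F260267
def n59089 : Q := act 8 n57894
theorem D59089 : act 8 n57894 = n59089 := rfl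
theorem F264336 : act 1 n59089 = n57895 := d15_1 D59089 (iv D57895) (iv F259605)
theorem F264337 : act 3 n59089 = n57909 := d28_1 D59089 (iv D57909) (iv D56732) (iv F254664) D57894
theorem F264338 : act 6 n59089 = n58077 := d40_1 D59089 F260256 (iv F259606)
def n59090 : Q := act 9 n57895
theorem D59090 : act 9 n57895 = n59090 := rfl
theorem F264339 : act 3 n59090 = n57910 := d29_1 D59090 (iv D57910) (iv F259607)
def n59091 : Q := act 4 n57898
theorem D59091 : act 4 n57898 = n59091 := rfl
theorem F264340 : act 0 n59091 = n57899 := d3_1 D59091 (iv D57899) D57898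
theorem F264341 : act 1 n59091 = n57999 := d11_1 D59091 (iv D57999) (iv F259618)
theorem F264342 : act 2 n59091 = n57991 := d18_1 D59091 (iv D57991) (iv F259619)
theorem F264343 : act 6 n59091 = n57902 := d31_2 (iv F259622) D59091 (iv D57902)
theorem F264344 : act 7 n59091 = n57996 := d32_2 (iv F259623) D59091 F260019
theorem F264345 : act 9 n59091 = n59091 := d34_2 F259624 D59091 (iv D59091)
def n59092 : Q := act 3 n57899
theorem D59092 : act 3 n57899 = n59092 := rfl
theorem F264346 : act 1 n59092 = n57900 := d10_1 D59092 (iv D57900) (iv F259625)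
theorem F264347 : act 2 n59092 = n57917 := d17_1 D59092 F259710 F255977 (iv F255975) (iv F259626)
theorem F264348 : act 4 n59092 = n59092 := d24_2 D57899 D59092 (iv D59092) (iv D57899) F254685
theorem F264349 : act 6 n59092 = n57903 := d26_2 (iv F259627) D59092 (iv D57903)
theorem F264350 : act 7 n59092 = n58095 := d27_2 (iv F259628) D59092 F260296
theorem F264351 : act 9 n59092 = n59092 := d29_2 F259629 D59092 (iv D59092)
theorem F264352 : act 5 n57916 = n59092 := d36_3 F264350 (iv F261433) F261434
def n59093 : Q := act 5 n57899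
theorem D59093 : act 5 n57899 = n59093 := rfl
theorem F264353 : act 1 n59093 = n57901 := d12_1 D59093 (iv D57901) (iv F259625)
theorem F264354 : act 2 n59093 = n57903 := d19_1 D59093 F259645 (iv F259626)
theorem F264355 : act 3 n59093 = n57916 := d25_1 D59093 F264352 (iv D59092)
theorem F264356 : act 4 n59093 = n59093 := d30_1 D59093 (iv D59093) (iv D57899) F254686 D57899
theorem F264357 : act 6 n59093 = n57917 := d35_2 (iv F259627) D59093 (iv D57917) F254775 (iv F254702)
theorem F264358 : act 7 n59093 = n57908 := d36_2 (iv F259628) D59093 F259669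
theorem F264359 : act 9 n59093 = n59093 := d38_2 F259629 D59093 (iv D59093)
def n59094 : Q := act 8 n57900
theorem D59094 : act 8 n57900 = n59094 := rfl
theorem F264360 : act 4 n59094 = n59094 := d33_1 D59094 (iv D59094) F259630
theorem F264361 : act 6 n59094 = n57904 := d40_1 D59094 (iv D57904) (iv F259631)
def n59095 : Q := act 3 n57902
theorem D59095 : act 3 n57902 = n59095 := rfl
theorem F264362 : act 0 n59095 = n57903 := d2_1 D59095 (iv D57903) (iv F259637)
theorem F264363 : act 1 n59095 = n57992 := d10_1 D59095 F259996 (iv F259638)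
theorem F264364 : act 4 n59095 = n59095 := d24_2 D57902 D59095 (iv D59095) (iv D57902) F254697
theorem F264365 : act 5 n59095 = n57991 := d25_2 (iv F259640) D59095 F259990
theorem F264366 : act 7 n59095 = n57907 := d27_2 (iv F259641) D59095 (iv D57907)
theorem F264367 : act 9 n59095 = n59095 := d29_2 F259642 D59095 (iv D59095)
def n59096 : Q := act 8 n57903
theorem D59096 : act 8 n57903 = n59096 := rfl
theorem F264368 : act 1 n59096 = n57904 := d15_1 D59096 (iv D57904) (iv F259643)
theorem F264369 : act 4 n59096 = n59096 := d33_1 D59096 (iv D59096) F259644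
theorem F264370 : act 5 n59096 = n58332 := d37_1 D59096 F260798 (iv F259645)
theorem F264371 : act 7 n59096 = n57909 := d42_1 D59096 (iv D57909) (iv F259646)
def n59097 : Q := act 9 n57904
theorem D59097 : act 9 n57904 = n59097 := rfl
theorem F264372 : act 4 n59097 = n59097 := d34_1 D59097 (iv D59097) F259648
theorem F264373 : act 5 n59097 = n58333 := d38_1 D59097 F260800 (iv F259649)
theorem F264374 : act 7 n59097 = n57910 := d43_1 D59097 (iv D57910) (iv F259650)
theorem F264375 : act 8 n59097 = n59097 := d44_1 D59097 (iv D59097) (iv D57904) F254708 D57904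
def n59098 : Q := act 9 n57906
theorem D59098 : act 9 n57906 = n59098 := rfl
theorem F264376 : act 1 n59098 = n58097 := d16_1 D59098 F260304 (iv F259658)
theorem F264377 : act 4 n59098 = n59098 := d34_1 D59098 (iv D59098) F259659
theorem F264378 : act 5 n59098 = n58096 := d38_1 D59098 F260301 (iv F259660)
theorem F264379 : act 6 n59098 = n57910 := d41_1 D59098 (iv D57910) (iv F259661)
theorem F264380 : act 8 n59098 = n59098 := d44_1 D59098 (iv D59098) (iv D57906) F254718 D57906
def n59099 : Q := act 2 n57907
theorem D59099 : act 2 n57907 = n59099 := rfl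
theorem F264381 : act 0 n59099 = n57908 := d1_1 D59099 (iv D57908) (iv F259662)
theorem F264382 : act 3 n59099 = n57999 := d17_2 D57907 D59099 F260027 F255126 (iv F254721)
theorem F264383 : act 4 n59099 = n59099 := d18_2 F259664 D59099 (iv D59099)
theorem F264384 : act 5 n59099 = n57996 := d19_2 (iv F259665) D59099 F260018
theorem F264385 : act 6 n59099 = n57992 := d20_2 (iv F259666) D59099 F259995
theorem F264386 : act 9 n59099 = n59099 := d23_2 F259667 D59099 (iv D59099)
def n59100 : Q := act 8 n57907
theorem D59100 : act 8 n57907 = n59100 := rfl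
theorem F264387 : act 0 n59100 = n57909 := d7_1 D59100 (iv D57909) (iv F259662)
theorem F264388 : act 1 n59100 = n58336 := d15_1 D59100 F260806 (iv F259663)
theorem F264389 : act 4 n59100 = n59100 := d33_1 D59100 (iv D59100) F259664
theorem F264390 : act 5 n59100 = n58331 := d37_1 D59100 F260796 (iv F259665)
theorem F264391 : act 6 n59100 = n58001 := d40_1 D59100 F260037 (iv F259666)
def n59101 : Q := act 8 n57908
theorem D59101 : act 8 n57908 = n59101 := rfl
theorem F264392 : act 2 n59101 = n57909 := d22_1 D59101 (iv D57909) D57908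
theorem F264393 : act 4 n59101 = n59101 := d33_1 D59101 (iv D59101) F259668
theorem F264394 : act 5 n59101 = n58055 := d37_1 D59101 F260203 (iv F259669)
theorem F264395 : act 6 n59101 = n58038 := d40_1 D59101 F260159 (iv F259670)
def n59102 : Q := act 3 n57911
theorem D59102 : act 3 n57911 = n59102 := rfl
theorem F264396 : act 0 n59102 = n58240 := d2_1 D59102 (iv D58240) (iv F259677)
theorem F264397 : act 1 n59102 = n58010 := d10_1 D59102 (iv D58010) (iv F259678)
theorem F264398 : act 6 n59102 = n58014 := d26_2 (iv F259680) D59102 (iv D58014)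
theorem F264399 : act 9 n59102 = n57912 := d29_2 (iv F259682) D59102 (iv D57912)
def n59103 : Q := act 5 n57912
theorem D59103 : act 5 n57912 = n59103 := rfl
theorem F264400 : act 0 n59103 = n58017 := d4_1 D59103 F260097 (iv F259683)
theorem F264401 : act 1 n59103 = n58035 := d12_1 D59103 F260152 (iv F259684)
theorem F264402 : act 3 n59103 = n57913 := d25_1 D59103 (iv D57913) D57912
theorem F264403 : act 7 n59103 = n57954 := d36_2 F261259 D59103 (iv F261257)
theorem F264404 : act 8 n59103 = n57940 := d37_2 (iv F259686) D59103 F259807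
def n59104 : Q := act 4 n57914
theorem D59104 : act 4 n57914 = n59104 := rfl
theorem F264405 : act 0 n59104 = n57916 := d3_1 D59104 (iv D57916) (iv F259693)
theorem F264406 : act 1 n59104 = n57996 := d11_1 D59104 F260019 (iv F259694)
theorem F264407 : act 2 n59104 = n57915 := d18_1 D59104 (iv D57915) D57914
theorem F264408 : act 6 n59104 = n57993 := d31_2 (iv F259697) D59104 F260003
theorem F264409 : act 7 n59104 = n57999 := d32_2 (iv F259698) D59104 (iv D57999)
theorem F264410 : act 9 n59104 = n59104 := d34_2 F259699 D59104 (iv D59104)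
def n59105 : Q := act 5 n57915
theorem D59105 : act 5 n57915 = n59105 := rfl
theorem F264411 : act 0 n59105 = n57917 := d4_1 D59105 (iv D57917) (iv F259700)
theorem F264412 : act 1 n59105 = n57995 := d12_1 D59105 (iv D57995) (iv F259701)
theorem F264413 : act 3 n59105 = n57993 := d25_1 D59105 (iv D57993) (iv F259702)
theorem F264414 : act 4 n59105 = n59105 := d30_1 D59105 (iv D59105) (iv D57915) F254766 D57915
theorem F264415 : act 7 n59105 = n58000 := d36_2 (iv F259704) D59105 (iv D58000)
theorem F264416 : act 9 n59105 = n59105 := d38_2 F259705 D59105 (iv D59105)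
def n59106 : Q := act 1 n57918
theorem D59106 : act 1 n57918 = n59106 := rfl
theorem F264417 : act 2 n59106 = n58109 := d9_2 D57918 D59106 (iv D58109) (iv D56937) (iv F254785)
theorem F264418 : act 4 n59106 = n57923 := d11_2 (iv F259714) D59106 (iv D57923)
theorem F264419 : act 5 n59106 = n58130 := d12_2 (iv F259715) D59106 (iv D58130)
theorem F264420 : act 7 n59106 = n57922 := d14_2 (iv F259716) D59106 (iv D57922)
theorem F264421 : act 8 n59106 = n57973 := d15_2 (iv F259717) D59106 (iv D57973)
theorem F264422 : act 9 n59106 = n57919 := d16_2 (iv F259718) D59106 (iv D57919)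
def n59107 : Q := act 0 n57919
theorem D59107 : act 0 n57919 = n59107 := rfl
theorem F264423 : act 1 n59107 = n58177 := d0_2 D57919 D59107 (iv D58177) (iv D57003) (iv F254791)
theorem F264424 : act 2 n59107 = n58123 := d1_2 (iv F259719) D59107 (iv D58123)
theorem F264425 : act 4 n59107 = n57937 := d3_2 (iv F259720) D59107 (iv D57937)
theorem F264426 : act 5 n59107 = n58136 := d4_2 (iv F259721) D59107 (iv D58136)
theorem F264427 : act 8 n59107 = n57951 := d7_2 (iv F259722) D59107 (iv D57951)
def n59108 : Q := act 1 n57920
theorem D59108 : act 1 n57920 = n59108 := rfl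
theorem F264428 : act 2 n59108 = n57922 := d9_2 D57920 D59108 (iv D57922) (iv D56749) (iv F254796)
theorem F264429 : act 4 n59108 = n57936 := d11_2 (iv F259724) D59108 (iv D57936)
theorem F264430 : act 5 n59108 = n58103 := d12_2 (iv F259725) D59108 (iv D58103)
theorem F264431 : act 7 n59108 = n58109 := d14_2 (iv F259726) D59108 (iv D58109)
theorem F264432 : act 8 n59108 = n57953 := d15_2 (iv F259727) D59108 (iv D57953)
theorem F264433 : act 9 n59108 = n58110 := d16_2 (iv F259728) D59108 (iv D58110)
def n59109 : Q := act 1 n57921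
theorem D59109 : act 1 n57921 = n59109 := rfl
theorem F264434 : act 2 n59109 = n58103 := d9_2 D57921 D59109 (iv D58103) (iv D56929) (iv F254803)
theorem F264435 : act 4 n59109 = n58122 := d11_2 (iv F259730) D59109 (iv D58122)
theorem F264436 : act 5 n59109 = n57922 := d12_2 (iv F259731) D59109 (iv D57922)
theorem F264437 : act 7 n59109 = n58130 := d14_2 (iv F259732) D59109 (iv D58130)
theorem F264438 : act 8 n59109 = n57986 := d15_2 (iv F259733) D59109 (iv D57986)
theorem F264439 : act 9 n59109 = n58132 := d16_2 (iv F259734) D59109 (iv D58132)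
def n59110 : Q := act 0 n57922
theorem D59110 : act 0 n57922 = n59110 := rfl
theorem F264440 : act 1 n59110 = n57937 := d0_2 D57922 D59110 (iv D57937) (iv D56763) (iv F254809)
theorem F264441 : act 4 n59110 = n58177 := d3_2 (iv F259735) D59110 (iv D58177)
theorem F264442 : act 8 n59110 = n57987 := d7_2 (iv F259736) D59110 (iv D57987)
def n59111 : Q := act 0 n57923
theorem D59111 : act 0 n57923 = n59111 := rfl
theorem F264443 : act 2 n59111 = n58146 := d1_2 (iv F259737) D59111 (iv D58146)
theorem F264444 : act 5 n59111 = n58156 := d4_2 (iv F259738) D59111 (iv D58156)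
theorem F264445 : act 7 n59111 = n58177 := d6_2 (iv F259739) D59111 (iv D58177)
theorem F264446 : act 8 n59111 = n58301 := d7_2 (iv F259740) D59111 (iv D58301)
theorem F264447 : act 9 n59111 = n57937 := d8_2 (iv F259741) D59111 (iv D57937)
def n59112 : Q := act 1 n57924
theorem D59112 : act 1 n57924 = n59112 := rfl
theorem F264448 : act 2 n59112 = n58151 := d9_2 D57924 D59112 (iv D58151) (iv D56979) (iv F254816)
theorem F264449 : act 4 n59112 = n57934 := d11_2 (iv F259742) D59112 (iv D57934)
theorem F264450 : act 6 n59112 = n57926 := d13_2 (iv F259743) D59112 (iv D57926)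
theorem F264451 : act 8 n59112 = n58041 := d15_2 (iv F259744) D59112 (iv D58041)
theorem F264452 : act 9 n59112 = n58176 := d16_2 (iv F259745) D59112 (iv D58176)
def n59113 : Q := act 1 n57925
theorem D59113 : act 1 n57925 = n59113 := rfl
theorem F264453 : act 3 n59113 = n57926 := d10_2 (iv F259746) D59113 (iv D57926)
theorem F264454 : act 5 n59113 = n58143 := d12_2 (iv F259747) D59113 (iv D58143)
theorem F264455 : act 7 n59113 = n57934 := d14_2 (iv F259748) D59113 (iv D57934)
theorem F264456 : act 9 n59113 = n58170 := d16_2 (iv F259749) D59113 (iv D58170)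
def n59114 : Q := act 0 n57926
theorem D59114 : act 0 n57926 = n59114 := rfl
theorem F264457 : act 2 n59114 = n58156 := d1_2 (iv F259750) D59114 (iv D58156)
theorem F264458 : act 5 n59114 = n58146 := d4_2 (iv F259751) D59114 (iv D58146)
theorem F264459 : act 7 n59114 = n57937 := d6_2 (iv F259752) D59114 (iv D57937)
theorem F264460 : act 8 n59114 = n58057 := d7_2 (iv F259753) D59114 (iv D58057)
theorem F264461 : act 9 n59114 = n58177 := d8_2 (iv F259754) D59114 (iv D58177)
def n59115 : Q := act 2 n57927
theorem D59115 : act 2 n57927 = n59115 := rfl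
theorem F264462 : act 3 n59115 = n58161 := d17_2 D57927 D59115 (iv D58161) (iv D56988) (iv F254829)
theorem F264463 : act 5 n59115 = n57928 := d19_2 (iv F259756) D59115 (iv D57928)
theorem F264464 : act 7 n59115 = n58137 := d21_2 (iv F259757) D59115 (iv D58137)
theorem F264465 : act 8 n59115 = n58190 := d22_2 (iv F259758) D59115 (iv D58190)
theorem F264466 : act 9 n59115 = n58152 := d23_2 (iv F259759) D59115 (iv D58152)
def n59116 : Q := act 4 n57927
theorem D59116 : act 4 n57927 = n59116 := rfl
theorem F264467 : act 1 n59116 = n57933 := d11_1 D59116 (iv D57933) (iv F259755)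
theorem F264468 : act 3 n59116 = n57938 := d24_1 D59116 (iv D57938) (iv D56764) (iv F254830) D57927
theorem F264469 : act 5 n59116 = n58150 := d30_2 (iv F259756) D59116 (iv D58150) F255581 (iv F254835)
theorem F264470 : act 7 n59116 = n58138 := d32_2 (iv F259757) D59116 (iv D58138)
theorem F264471 : act 8 n59116 = n58191 := d33_2 (iv F259758) D59116 (iv D58191)
theorem F264472 : act 9 n59116 = n58153 := d34_2 (iv F259759) D59116 (iv D58153)
def n59117 : Q := act 1 n57928
theorem D59117 : act 1 n57928 = n59117 := rfl
theorem F264473 : act 2 n59117 = n57934 := d9_2 D57928 D59117 (iv D57934) (iv D56760) (iv F254834)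
theorem F264474 : act 3 n59117 = n58162 := d10_2 (iv F259760) D59117 (iv D58162)
theorem F264475 : act 4 n59117 = n58151 := d11_2 (iv F259761) D59117 (iv D58151)
theorem F264476 : act 6 n59117 = n58110 := d13_2 (iv F259762) D59117 (iv D58110)
theorem F264477 : act 8 n59117 = n58192 := d15_2 (iv F259763) D59117 (iv D58192)
def n59118 : Q := act 2 n57929
theorem D59118 : act 2 n57929 = n59118 := rfl
theorem F264478 : act 0 n59118 = n58283 := d1_1 D59118 (iv D58283) (iv F259764)
theorem F264479 : act 3 n59118 = n58071 := d17_2 D57929 D59118 (iv D58071) (iv D56892) (iv F254840)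
theorem F264480 : act 5 n59118 = n57930 := d19_2 (iv F259766) D59118 (iv D57930)
theorem F264481 : act 6 n59118 = n58222 := d20_2 (iv F259767) D59118 (iv D58222)
theorem F264482 : act 7 n59118 = n58141 := d21_2 (iv F259768) D59118 (iv D58141)
theorem F264483 : act 8 n59118 = n57932 := d22_2 (iv F259769) D59118 (iv D57932)
def n59119 : Q := act 4 n57929
theorem D59119 : act 4 n57929 = n59119 := rfl
theorem F264484 : act 0 n59119 = n58284 := d3_1 D59119 (iv D58284) (iv F259764)
theorem F264485 : act 1 n59119 = n58191 := d11_1 D59119 (iv D58191) (iv F259765)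
theorem F264486 : act 3 n59119 = n59119 := d24_1 D59119 (iv D59119) (iv D57929) F254841 D57929
theorem F264487 : act 5 n59119 = n58040 := d30_2 (iv F259766) D59119 (iv D58040) F255284 (iv F254847)
theorem F264488 : act 6 n59119 = n58223 := d31_2 (iv F259767) D59119 (iv D58223)
theorem F264489 : act 7 n59119 = n58142 := d32_2 (iv F259768) D59119 (iv D58142)
theorem F264490 : act 8 n59119 = n57933 := d33_2 (iv F259769) D59119 (iv D57933)
def n59120 : Q := act 1 n57930
theorem D59120 : act 1 n57930 = n59120 := rfl
theorem F264491 : act 2 n59120 = n58192 := d9_2 D57930 D59120 (iv D58192) (iv D57020) (iv F254846)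
theorem F264492 : act 3 n59120 = n58075 := d10_2 (iv F259771) D59120 (iv D58075)
theorem F264493 : act 4 n59120 = n58041 := d11_2 (iv F259772) D59120 (iv D58041)
theorem F264494 : act 6 n59120 = n57945 := d13_2 (iv F259773) D59120 (iv D57945)
theorem F264495 : act 8 n59120 = n57934 := d15_2 (iv F259774) D59120 (iv D57934)
def n59121 : Q := act 2 n57931
theorem D59121 : act 2 n57931 = n59121 := rfl
theorem F264496 : act 0 n59121 = n58149 := d1_1 D59121 (iv D58149) (iv F259775)
theorem F264497 : act 3 n59121 = n57935 := d17_2 D57931 D59121 (iv D57935) (iv D56761) (iv F254851)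
theorem F264498 : act 5 n59121 = n58131 := d19_2 (iv F259776) D59121 (iv D58131)
theorem F264499 : act 6 n59121 = n57932 := d20_2 (iv F259777) D59121 (iv D57932)
theorem F264500 : act 8 n59121 = n58222 := d22_2 (iv F259778) D59121 (iv D58222)
theorem F264501 : act 9 n59121 = n58147 := d23_2 (iv F259779) D59121 (iv D58147)
def n59122 : Q := act 4 n57931
theorem D59122 : act 4 n57931 = n59122 := rfl
theorem F264502 : act 0 n59122 = n58150 := d3_1 D59122 (iv D58150) (iv F259775)
theorem F264503 : act 3 n59122 = n57939 := d24_1 D59122 (iv D57939) (iv D56765) (iv F254852) D57931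
theorem F264504 : act 6 n59122 = n57933 := d31_2 (iv F259777) D59122 (iv D57933)
theorem F264505 : act 8 n59122 = n58223 := d33_2 (iv F259778) D59122 (iv D58223)
theorem F264506 : act 9 n59122 = n58148 := d34_2 (iv F259779) D59122 (iv D58148)
def n59123 : Q := act 1 n57932
theorem D59123 : act 1 n57932 = n59123 := rfl
theorem F264507 : act 3 n59123 = n57936 := d10_2 (iv F259780) D59123 (iv D57936)
theorem F264508 : act 5 n59123 = n57934 := d12_2 (iv F259781) D59123 (iv D57934)
theorem F264509 : act 7 n59123 = n58143 := d14_2 (iv F259782) D59123 (iv D58143)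
theorem F264510 : act 9 n59123 = n58154 := d16_2 (iv F259783) D59123 (iv D58154)
def n59124 : Q := act 4 n57932
theorem D59124 : act 4 n57932 = n59124 := rfl
theorem F264511 : act 2 n59124 = n57933 := d18_1 D59124 (iv D57933) D57932
theorem F264512 : act 7 n59124 = n58144 := d32_2 (iv F259782) D59124 (iv D58144)
theorem F264513 : act 9 n59124 = n58155 := d34_2 (iv F259783) D59124 (iv D58155)
def n59125 : Q := act 0 n57934
theorem D59125 : act 0 n57934 = n59125 := rfl
theorem F264514 : act 3 n59125 = n57937 := d2_2 (iv F259787) D59125 (iv D57937)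
def n59126 : Q := act 1 n57935
theorem D59126 : act 1 n57935 = n59126 := rfl
theorem F264515 : act 2 n59126 = n58176 := d9_2 D57935 D59126 (iv D58176) (iv D57002) (iv F254860)
theorem F264516 : act 6 n59126 = n57936 := d13_2 (iv F259788) D59126 (iv D57936)
theorem F264517 : act 8 n59126 = n58087 := d15_2 (iv F259789) D59126 (iv D58087)
theorem F264518 : act 9 n59126 = n58151 := d16_2 (iv F259790) D59126 (iv D58151)
def n59127 : Q := act 0 n57936
theorem D59127 : act 0 n57936 = n59127 := rfl
theorem F264519 : act 2 n59127 = n58177 := d1_2 (iv F259791) D59127 (iv D58177)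
theorem F264520 : act 5 n59127 = n57937 := d4_2 (iv F259792) D59127 (iv D57937)
theorem F264521 : act 7 n59127 = n58146 := d6_2 (iv F259793) D59127 (iv D58146)
theorem F264522 : act 8 n59127 = n58088 := d7_2 (iv F259794) D59127 (iv D58088)
theorem F264523 : act 9 n59127 = n58156 := d8_2 (iv F259795) D59127 (iv D58156)
def n59128 : Q := act 2 n57940
theorem D59128 : act 2 n57940 = n59128 := rfl
theorem F264524 : act 0 n59128 = n58018 := d1_1 D59128 (iv D58018) (iv F259806)
theorem F264525 : act 3 n59128 = n57942 := d17_2 D57940 D59128 (iv D57942) (iv D56769) (iv F254884)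
theorem F264526 : act 5 n59128 = n58216 := d19_2 (iv F259807) D59128 (iv D58216)
theorem F264527 : act 7 n59128 = n57955 := d21_2 (iv F259808) D59128 (iv D57955)
theorem F264528 : act 9 n59128 = n57969 := d23_2 (iv F259809) D59128 (iv D57969)
def n59129 : Q := act 4 n57940
theorem D59129 : act 4 n57940 = n59129 := rfl
theorem F264529 : act 0 n59129 = n58019 := d3_1 D59129 (iv D58019) (iv F259806)
theorem F264530 : act 3 n59129 = n57941 := d24_1 D59129 (iv D57941) (iv D56768) (iv F254885) D57940
theorem F264531 : act 7 n59129 = n57956 := d32_2 (iv F259808) D59129 (iv D57956)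
theorem F264532 : act 9 n59129 = n57970 := d34_2 (iv F259809) D59129 (iv D57970)
def n59130 : Q := act 1 n57942
theorem D59130 : act 1 n57942 = n59130 := rfl
theorem F264533 : act 2 n59130 = n58182 := d9_2 D57942 D59130 (iv D58182) (iv D57011) (iv F254896)
theorem F264534 : act 4 n59130 = n58008 := d11_2 (iv F259816) D59130 (iv D58008)
theorem F264535 : act 5 n59130 = n58218 := d12_2 (iv F259817) D59130 (iv D58218)
theorem F264536 : act 7 n59130 = n57957 := d14_2 (iv F259818) D59130 (iv D57957)
theorem F264537 : act 8 n59130 = n57944 := d15_2 (iv F259819) D59130 (iv D57944)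
theorem F264538 : act 9 n59130 = n57973 := d16_2 (iv F259820) D59130 (iv D57973)
def n59131 : Q := act 1 n57943
theorem D59131 : act 1 n57943 = n59131 := rfl
theorem F264539 : act 2 n59131 = n58184 := d9_2 D57943 D59131 (iv D58184) (iv D57013) (iv F254903)
theorem F264540 : act 4 n59131 = n58020 := d11_2 (iv F259822) D59131 (iv D58020)
theorem F264541 : act 5 n59131 = n58219 := d12_2 (iv F259823) D59131 (iv D58219)
theorem F264542 : act 7 n59131 = n57944 := d14_2 (iv F259824) D59131 (iv D57944)
theorem F264543 : act 8 n59131 = n57957 := d15_2 (iv F259825) D59131 (iv D57957)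
theorem F264544 : act 9 n59131 = n57945 := d16_2 (iv F259826) D59131 (iv D57945)
def n59132 : Q := act 0 n57944
theorem D59132 : act 0 n57944 = n59132 := rfl
theorem F264545 : act 1 n59132 = n58277 := d0_2 D57944 D59132 (iv D58277) (iv D57100) (iv F254909)
theorem F264546 : act 2 n59132 = n58186 := d1_2 (iv F259827) D59132 (iv D58186)
theorem F264547 : act 4 n59132 = n58034 := d3_2 (iv F259828) D59132 (iv D58034)
theorem F264548 : act 5 n59132 = n58220 := d4_2 (iv F259829) D59132 (iv D58220)
theorem F264549 : act 9 n59132 = n57951 := d8_2 (iv F259830) D59132 (iv D57951)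
def n59133 : Q := act 0 n57945
theorem D59133 : act 0 n57945 = n59133 := rfl
theorem F264550 : act 1 n59133 = n58301 := d0_2 D57945 D59133 (iv D58301) (iv D57124) (iv F254913)
theorem F264551 : act 2 n59133 = n58202 := d1_2 (iv F259831) D59133 (iv D58202)
theorem F264552 : act 4 n59133 = n58057 := d3_2 (iv F259832) D59133 (iv D58057)
theorem F264553 : act 5 n59133 = n58227 := d4_2 (iv F259833) D59133 (iv D58227)
theorem F264554 : act 7 n59133 = n57951 := d6_2 (iv F259834) D59133 (iv D57951)
def n59134 : Q := act 2 n57946
theorem D59134 : act 2 n57946 = n59134 := rfl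
theorem F264555 : act 0 n59134 = n57947 := d1_1 D59134 (iv D57947) (iv F259835)
theorem F264556 : act 3 n59134 = n58032 := d17_2 D57946 D59134 (iv D58032) (iv D56860) (iv F254919)
theorem F264557 : act 5 n59134 = n58228 := d19_2 (iv F259837) D59134 (iv D58228)
theorem F264558 : act 6 n59134 = n58029 := d20_2 (iv F259838) D59134 (iv D58029)
theorem F264559 : act 9 n59134 = n58079 := d23_2 (iv F259839) D59134 (iv D58079)
def n59135 : Q := act 1 n57947
theorem D59135 : act 1 n57947 = n59135 := rfl
theorem F264560 : act 2 n59135 = n57949 := d9_2 D57947 D59135 (iv D57949) (iv D56776) (iv F254924)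
theorem F264561 : act 3 n59135 = n58207 := d10_2 (iv F259840) D59135 (iv D58207)
theorem F264562 : act 5 n59135 = n58230 := d12_2 (iv F259841) D59135 (iv D58230)
def n59136 : Q := act 4 n57947
theorem D59136 : act 4 n57947 = n59136 := rfl
theorem F264563 : act 2 n59136 = n57948 := d18_1 D59136 (iv D57948) D57947
def n59137 : Q := act 0 n57949
theorem D59137 : act 0 n57949 = n59137 := rfl
theorem F264564 : act 1 n59137 = n58323 := d0_2 D57949 D59137 (iv D58323) (iv D57142) (iv F254928)
theorem F264565 : act 3 n59137 = n57951 := d2_2 (iv F259844) D59137 (iv D57951)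
theorem F264566 : act 5 n59137 = n58233 := d4_2 (iv F259845) D59137 (iv D58233)
def n59138 : Q := act 4 n57949
theorem D59138 : act 4 n57949 = n59138 := rfl
theorem F264567 : act 1 n59138 = n57950 := d11_1 D59138 (iv D57950) D57949
theorem F264568 : act 3 n59138 = n58084 := d24_1 D59138 (iv D58084) F255377 (iv F254934) (iv F259844)
def n59139 : Q := act 1 n57952
theorem D59139 : act 1 n57952 = n59139 := rfl
theorem F264569 : act 2 n59139 = n57973 := d9_2 D57952 D59139 (iv D57973) (iv D56800) (iv F254944)
theorem F264570 : act 4 n59139 = n58056 := d11_2 (iv F259854) D59139 (iv D58056)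
theorem F264571 : act 5 n59139 = n58180 := d12_2 (iv F259855) D59139 (iv D58180)
theorem F264572 : act 7 n59139 = n57953 := d14_2 (iv F259856) D59139 (iv D57953)
theorem F264573 : act 8 n59139 = n58109 := d15_2 (iv F259857) D59139 (iv D58109)
theorem F264574 : act 9 n59139 = n58182 := d16_2 (iv F259858) D59139 (iv D58182)
def n59140 : Q := act 0 n57953
theorem D59140 : act 0 n57953 = n59140 := rfl
theorem F264575 : act 1 n59140 = n58214 := d0_2 D57953 D59140 (iv D58214) (iv D57039) (iv F254950)
theorem F264576 : act 2 n59140 = n57987 := d1_2 (iv F259859) D59140 (iv D57987)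
theorem F264577 : act 4 n59140 = n58088 := d3_2 (iv F259860) D59140 (iv D58088)
theorem F264578 : act 5 n59140 = n58181 := d4_2 (iv F259861) D59140 (iv D58181)
def n59141 : Q := act 2 n57954
theorem D59141 : act 2 n57954 = n59141 := rfl
theorem F264579 : act 0 n59141 = n58027 := d1_1 D59141 (iv D58027) (iv F259862)
theorem F264580 : act 8 n59141 = n57955 := d22_2 (iv F259863) D59141 (iv D57955)
def n59142 : Q := act 4 n57954
theorem D59142 : act 4 n57954 = n59142 := rfl
theorem F264581 : act 0 n59142 = n58028 := d3_1 D59142 (iv D58028) (iv F259862)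
theorem F264582 : act 3 n59142 = n59142 := d24_1 D59142 (iv D59142) (iv D57954) F254954 D57954
theorem F264583 : act 8 n59142 = n57956 := d33_2 (iv F259863) D59142 (iv D57956)
def n59143 : Q := act 1 n57955
theorem D59143 : act 1 n57955 = n59143 := rfl
theorem F264584 : act 3 n59143 = n57957 := d10_2 (iv F259865) D59143 (iv D57957)
theorem F264585 : act 9 n59143 = n57983 := d16_2 (iv F259866) D59143 (iv D57983)
def n59144 : Q := act 4 n57955
theorem D59144 : act 4 n57955 = n59144 := rfl
theorem F264586 : act 0 n59144 = n58031 := d3_1 D59144 (iv D58031) (iv F259864)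
theorem F264587 : act 2 n59144 = n57956 := d18_1 D59144 (iv D57956) D57955
theorem F264588 : act 3 n59144 = n58273 := d24_1 D59144 (iv D58273) F255827 (iv F254962) (iv F259865)
theorem F264589 : act 9 n59144 = n57984 := d34_2 (iv F259866) D59144 (iv D57984)
def n59145 : Q := act 0 n57957
theorem D59145 : act 0 n57957 = n59145 := rfl
theorem F264590 : act 1 n59145 = n58034 := d0_2 D57957 D59145 (iv D58034) (iv D56862) (iv F254961)
theorem F264591 : act 4 n59145 = n58277 := d3_2 (iv F259870) D59145 (iv D58277)
theorem F264592 : act 9 n59145 = n57987 := d8_2 (iv F259871) D59145 (iv D57987)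
def n59146 : Q := act 3 n57958
theorem D59146 : act 3 n57958 = n59146 := rfl
theorem F264593 : act 0 n59146 = n58236 := d2_1 D59146 (iv D58236) (iv F259872)
theorem F264594 : act 1 n59146 = n57960 := d10_1 D59146 (iv D57960) (iv F259873)
theorem F264595 : act 6 n59146 = n57964 := d26_2 (iv F259875) D59146 (iv D57964)
theorem F264596 : act 7 n59146 = n58298 := d27_2 (iv F259876) D59146 F260738
theorem F264597 : act 8 n59146 = n58234 := d28_2 D57958 D59146 (iv D58234) (iv D57062) (iv F254966)
def n59147 : Q := act 4 n57959
theorem D59147 : act 4 n57959 = n59147 := rfl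
theorem F264598 : act 0 n59147 = n58332 := d3_1 D59147 (iv D58332) (iv F259877)
theorem F264599 : act 1 n59147 = n57961 := d11_1 D59147 (iv D57961) (iv F259878)
theorem F264600 : act 6 n59147 = n57965 := d31_2 (iv F259880) D59147 (iv D57965)
theorem F264601 : act 7 n59147 = n58331 := d32_2 (iv F259881) D59147 F260795
theorem F264602 : act 8 n59147 = n57991 := d33_2 (iv F259882) D59147 (iv D57991)
def n59148 : Q := act 2 n57960
theorem D59148 : act 2 n57960 = n59148 := rfl
theorem F264603 : act 0 n59148 = n58036 := d1_1 D59148 (iv D58036) (iv F259883)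
theorem F264604 : act 3 n59148 = n57963 := d17_2 D57960 D59148 (iv D57963) (iv D56791) (iv F254976)
theorem F264605 : act 6 n59148 = n57969 := d20_2 (iv F259884) D59148 (iv D57969)
theorem F264606 : act 7 n59148 = n58310 := d21_2 (iv F259885) D59148 (iv D58310)
theorem F264607 : act 8 n59148 = n58318 := d22_2 (iv F259886) D59148 (iv D58318)
def n59149 : Q := act 4 n57960
theorem D59149 : act 4 n57960 = n59149 := rfl
theorem F264608 : act 0 n59149 = n58037 := d3_1 D59149 (iv D58037) (iv F259883)
theorem F264609 : act 3 n59149 = n57961 := d24_1 D59149 (iv D57961) (iv D56789) (iv F254977) D57960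
theorem F264610 : act 6 n59149 = n57970 := d31_2 (iv F259884) D59149 (iv D57970)
theorem F264611 : act 7 n59149 = n58311 := d32_2 (iv F259885) D59149 (iv D58311)
theorem F264612 : act 8 n59149 = n58319 := d33_2 (iv F259886) D59149 (iv D58319)
def n59150 : Q := act 5 n57961
theorem D59150 : act 5 n57961 = n59150 := rfl
theorem F264613 : act 0 n59150 = n58038 := d4_1 D59150 (iv D58038) (iv F259887)
theorem F264614 : act 2 n59150 = n58001 := d19_1 D59150 (iv D58001) (iv F259888)
theorem F264615 : act 4 n59150 = n59150 := d30_1 D59150 (iv D59150) (iv D57961) F254982 D57961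
theorem F264616 : act 7 n59150 = n58336 := d36_2 (iv F259890) D59150 (iv D58336)
theorem F264617 : act 8 n59150 = n57992 := d37_2 (iv F259891) D59150 (iv D57992)
def n59151 : Q := act 2 n57962
theorem D59151 : act 2 n57962 = n59151 := rfl
theorem F264618 : act 0 n59151 = n58039 := d1_1 D59151 (iv D58039) (iv F259892)
theorem F264619 : act 5 n59151 = n57963 := d19_2 (iv F259893) D59151 (iv D57963)
def n59152 : Q := act 4 n57962
theorem D59152 : act 4 n57962 = n59152 := rfl
theorem F264620 : act 0 n59152 = n58040 := d3_1 D59152 (iv D58040) (iv F259892)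
theorem F264621 : act 3 n59152 = n59152 := d24_1 D59152 (iv D59152) (iv D57962) F254987 D57962
theorem F264622 : act 5 n59152 = n58284 := d30_2 (iv F259893) D59152 (iv D58284) F255864 (iv F254990)
def n59153 : Q := act 1 n57963
theorem D59153 : act 1 n57963 = n59153 := rfl
theorem F264623 : act 4 n59153 = n58300 := d11_2 (iv F259895) D59153 (iv D58300)
theorem F264624 : act 6 n59153 = n57973 := d13_2 (iv F259896) D59153 (iv D57973)
def n59154 : Q := act 2 n57964
theorem D59154 : act 2 n57964 = n59154 := rfl
theorem F264625 : act 7 n59154 = n57975 := d21_2 (iv F259898) D59154 (iv D57975)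
def n59155 : Q := act 4 n57964
theorem D59155 : act 4 n57964 = n59155 := rfl
theorem F264626 : act 1 n59155 = n57970 := d11_1 D59155 (iv D57970) (iv F259897)
theorem F264627 : act 3 n59155 = n57965 := d24_1 D59155 (iv D57965) (iv D56793) (iv F254993) D57964
theorem F264628 : act 7 n59155 = n57976 := d32_2 (iv F259898) D59155 (iv D57976)
def n59156 : Q := act 5 n57965
theorem D59156 : act 5 n57965 = n59156 := rfl
theorem F264629 : act 0 n59156 = n58239 := d4_1 D59156 (iv F262239) F262236
theorem F264630 : act 1 n59156 = n57971 := d12_1 D59156 (iv D57971) (iv F259899)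
theorem F264631 : act 2 n59156 = n58235 := d19_1 D59156 (iv F264307) F264306
theorem F264632 : act 4 n59156 = n57988 := d30_1 D59156 (iv D57988) (iv D56812) (iv F254996) D57965
theorem F264633 : act 7 n59156 = n57977 := d36_2 (iv F259900) D59156 (iv D57977)
theorem F264634 : act 8 n59156 = n57993 := d37_2 (iv F259901) D59156 (iv D57993)
def n59157 : Q := act 3 n57966
theorem D59157 : act 3 n57966 = n59157 := rfl
theorem F264635 : act 0 n59157 = n58046 := d2_1 D59157 (iv D58046) (iv F259902)
theorem F264636 : act 5 n59157 = n57967 := d25_2 (iv F259905) D59157 (iv D57967)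
theorem F264637 : act 7 n59157 = n57978 := d27_2 (iv F259906) D59157 (iv D57978)
theorem F264638 : act 8 n59157 = n57968 := d28_2 D57966 D59157 (iv D57968) (iv D56796) (iv F255001)
def n59158 : Q := act 2 n57967
theorem D59158 : act 2 n57967 = n59158 := rfl
theorem F264639 : act 0 n59158 = n58048 := d1_1 D59158 (iv D58048) (iv F259907)
theorem F264640 : act 3 n59158 = n58299 := d17_2 D57967 D59158 (iv D58299) (iv D57122) (iv F255006)
theorem F264641 : act 6 n59158 = n58318 := d20_2 (iv F259908) D59158 (iv D58318)
theorem F264642 : act 7 n59158 = n57979 := d21_2 (iv F259909) D59158 (iv D57979)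
theorem F264643 : act 8 n59158 = n57969 := d22_2 (iv F259910) D59158 (iv D57969)
def n59159 : Q := act 4 n57967
theorem D59159 : act 4 n57967 = n59159 := rfl
theorem F264644 : act 0 n59159 = n58049 := d3_1 D59159 (iv D58049) (iv F259907)
theorem F264645 : act 3 n59159 = n57994 := d24_1 D59159 (iv D57994) (iv D56820) (iv F255007) D57967
theorem F264646 : act 6 n59159 = n58319 := d31_2 (iv F259908) D59159 (iv D58319)
theorem F264647 : act 7 n59159 = n57980 := d32_2 (iv F259909) D59159 (iv D57980)
theorem F264648 : act 8 n59159 = n57970 := d33_2 (iv F259910) D59159 (iv D57970)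
def n59160 : Q := act 2 n57968
theorem D59160 : act 2 n57968 = n59160 := rfl
theorem F264649 : act 0 n59160 = n58050 := d1_1 D59160 (iv D58050) (iv F259911)
theorem F264650 : act 3 n59160 = n57972 := d17_2 D57968 D59160 (iv D57972) (iv D56799) (iv F255011)
theorem F264651 : act 5 n59160 = n57969 := d19_2 (iv F259912) D59160 (iv D57969)
theorem F264652 : act 7 n59160 = n57981 := d21_2 (iv F259913) D59160 (iv D57981)
theorem F264653 : act 9 n59160 = n58216 := d23_2 (iv F259914) D59160 (iv D58216)
def n59161 : Q := act 4 n57968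
theorem D59161 : act 4 n57968 = n59161 := rfl
theorem F264654 : act 0 n59161 = n58051 := d3_1 D59161 (iv D58051) (iv F259911)
theorem F264655 : act 3 n59161 = n57989 := d24_1 D59161 (iv D57989) (iv D56813) (iv F255012) D57968
theorem F264656 : act 7 n59161 = n57982 := d32_2 (iv F259913) D59161 (iv D57982)
theorem F264657 : act 9 n59161 = n58217 := d34_2 (iv F259914) D59161 (iv D58217)
def n59162 : Q := act 1 n57969
theorem D59162 : act 1 n57969 = n59162 := rfl
theorem F264658 : act 3 n59162 = n57973 := d10_2 (iv F259916) D59162 (iv D57973)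
theorem F264659 : act 7 n59162 = n57983 := d14_2 (iv F259917) D59162 (iv D57983)
def n59163 : Q := act 4 n57969
theorem D59163 : act 4 n57969 = n59163 := rfl
theorem F264660 : act 0 n59163 = n58053 := d3_1 D59163 (iv D58053) (iv F259915)
theorem F264661 : act 2 n59163 = n57970 := d18_1 D59163 (iv D57970) D57969
theorem F264662 : act 3 n59163 = n58293 := d24_1 D59163 (iv D58293) F255879 (iv F255030) (iv F259916)
theorem F264663 : act 7 n59163 = n57984 := d32_2 (iv F259917) D59163 (iv D57984)
def n59164 : Q := act 5 n57970
theorem D59164 : act 5 n57970 = n59164 := rfl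
theorem F264664 : act 0 n59164 = n58054 := d4_1 D59164 (iv D58054) (iv F259918)
theorem F264665 : act 3 n59164 = n57971 := d25_1 D59164 (iv D57971) (iv F259919)
theorem F264666 : act 7 n59164 = n57985 := d36_2 (iv F259920) D59164 (iv D57985)
def n59165 : Q := act 6 n57971
theorem D59165 : act 6 n57971 = n59165 := rfl
theorem F264667 : act 0 n59165 = n58055 := d5_1 D59165 (iv D58055) (iv F259921)
theorem F264668 : act 2 n59165 = n58331 := d20_1 D59165 (iv D58331) (iv F259922)
theorem F264669 : act 4 n59165 = n57990 := d31_1 D59165 (iv D57990) (iv F259923)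
theorem F264670 : act 8 n59165 = n57996 := d40_2 (iv F259925) D59165 (iv D57996)
def n59166 : Q := act 1 n57972
theorem D59166 : act 1 n57972 = n59166 := rfl
theorem F264671 : act 2 n59166 = n58180 := d9_2 D57972 D59166 (iv D58180) (iv D57009) (iv F255023)
theorem F264672 : act 4 n59166 = n58201 := d11_2 (iv F259927) D59166 (iv D58201)
theorem F264673 : act 5 n59166 = n57973 := d12_2 (iv F259928) D59166 (iv D57973)
theorem F264674 : act 7 n59166 = n57986 := d14_2 (iv F259929) D59166 (iv D57986)
theorem F264675 : act 8 n59166 = n58130 := d15_2 (iv F259930) D59166 (iv D58130)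
theorem F264676 : act 9 n59166 = n58218 := d16_2 (iv F259931) D59166 (iv D58218)
def n59167 : Q := act 0 n57973
theorem D59167 : act 0 n57973 = n59167 := rfl
theorem F264677 : act 1 n59167 = n58057 := d0_2 D57973 D59167 (iv D58057) (iv D56880) (iv F255029)
theorem F264678 : act 4 n59167 = n58301 := d3_2 (iv F259932) D59167 (iv D58301)
theorem F264679 : act 7 n59167 = n57987 := d6_2 (iv F259933) D59167 (iv D57987)
def n59168 : Q := act 2 n57974
theorem D59168 : act 2 n57974 = n59168 := rfl
theorem F264680 : act 6 n59168 = n58288 := d20_2 (iv F259935) D59168 (iv D58288)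
theorem F264681 : act 8 n59168 = n57975 := d22_2 (iv F259936) D59168 (iv D57975)
def n59169 : Q := act 4 n57974
theorem D59169 : act 4 n57974 = n59169 := rfl
theorem F264682 : act 1 n59169 = n57980 := d11_1 D59169 (iv D57980) (iv F259934)
theorem F264683 : act 3 n59169 = n57998 := d24_1 D59169 (iv D57998) (iv D56823) (iv F255033) D57974
theorem F264684 : act 6 n59169 = n58289 := d31_2 (iv F259935) D59169 (iv D58289)
theorem F264685 : act 8 n59169 = n57976 := d33_2 (iv F259936) D59169 (iv D57976)
def n59170 : Q := act 1 n57975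
theorem D59170 : act 1 n57975 = n59170 := rfl
theorem F264686 : act 2 n59170 = n57983 := d9_2 D57975 D59170 (iv D57983) (iv D56807) (iv F255035)
theorem F264687 : act 6 n59170 = n58327 := d13_2 (iv F259937) D59170 F260787
def n59171 : Q := act 4 n57975
theorem D59171 : act 4 n57975 = n59171 := rfl
theorem F264688 : act 2 n59171 = n57976 := d18_1 D59171 (iv D57976) D57975
theorem F264689 : act 6 n59171 = n58325 := d31_2 (iv F259937) D59171 F260785
def n59172 : Q := act 5 n57976
theorem D59172 : act 5 n57976 = n59172 := rfl
theorem F264690 : act 1 n59172 = n57985 := d12_1 D59172 (iv D57985) (iv F259938)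
theorem F264691 : act 3 n59172 = n57977 := d25_1 D59172 (iv D57977) (iv F259939)
theorem F264692 : act 6 n59172 = n58322 := d35_2 (iv F259940) D59172 (iv D58322) F255928 D57144
def n59173 : Q := act 2 n57978
theorem D59173 : act 2 n57978 = n59173 := rfl
theorem F264693 : act 0 n59173 = n58071 := d1_1 D59173 (iv D58071) (iv F259946)
theorem F264694 : act 3 n59173 = n58283 := d17_2 D57978 D59173 (iv D58283) (iv D57109) (iv F255041)
theorem F264695 : act 5 n59173 = n57979 := d19_2 (iv F259947) D59173 (iv D57979)
theorem F264696 : act 6 n59173 = n58280 := d20_2 (iv F259948) D59173 (iv D58280)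
theorem F264697 : act 8 n59173 = n57981 := d22_2 (iv F259949) D59173 (iv D57981)
def n59174 : Q := act 4 n57978
theorem D59174 : act 4 n57978 = n59174 := rfl
theorem F264698 : act 0 n59174 = n58072 := d3_1 D59174 (iv D58072) (iv F259946)
theorem F264699 : act 3 n59174 = n59174 := d24_1 D59174 (iv D59174) (iv D57978) F255042 D57978
theorem F264700 : act 6 n59174 = n58281 := d31_2 (iv F259948) D59174 (iv D58281)
theorem F264701 : act 8 n59174 = n57982 := d33_2 (iv F259949) D59174 (iv D57982)
def n59175 : Q := act 1 n57979
theorem D59175 : act 1 n57979 = n59175 := rfl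
theorem F264702 : act 3 n59175 = n58300 := d10_2 (iv F259951) D59175 (iv D58300)
theorem F264703 : act 6 n59175 = n58292 := d13_2 (iv F259952) D59175 (iv D58292)
theorem F264704 : act 8 n59175 = n57983 := d15_2 (iv F259953) D59175 (iv D57983)
def n59176 : Q := act 4 n57979
theorem D59176 : act 4 n57979 = n59176 := rfl
theorem F264705 : act 0 n59176 = n58076 := d3_1 D59176 (iv D58076) (iv F259950)
theorem F264706 : act 2 n59176 = n57980 := d18_1 D59176 (iv D57980) D57979
theorem F264707 : act 6 n59176 = n58293 := d31_2 (iv F259952) D59176 (iv D58293)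
theorem F264708 : act 8 n59176 = n57984 := d33_2 (iv F259953) D59176 (iv D57984)
def n59177 : Q := act 5 n57980
theorem D59177 : act 5 n57980 = n59177 := rfl
theorem F264709 : act 0 n59177 = n58077 := d4_1 D59177 (iv D58077) (iv F259954)
theorem F264710 : act 3 n59177 = n58001 := d25_1 D59177 (iv D58001) (iv F259955)
theorem F264711 : act 8 n59177 = n57985 := d37_2 (iv F259957) D59177 (iv D57985)
def n59178 : Q := act 1 n57981
theorem D59178 : act 1 n57981 = n59178 := rfl
theorem F264712 : act 3 n59178 = n57986 := d10_2 (iv F259959) D59178 (iv D57986)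
theorem F264713 : act 5 n59178 = n57983 := d12_2 (iv F259960) D59178 (iv D57983)
def n59179 : Q := act 4 n57981
theorem D59179 : act 4 n57981 = n59179 := rfl
theorem F264714 : act 0 n59179 = n58082 := d3_1 D59179 (iv D58082) (iv F259958)
theorem F264715 : act 2 n59179 = n57982 := d18_1 D59179 (iv D57982) D57981
theorem F264716 : act 3 n59179 = n58212 := d24_1 D59179 (iv D58212) F255705 (iv F255059) (iv F259959)
def n59180 : Q := act 0 n57983
theorem D59180 : act 0 n57983 = n59180 := rfl
theorem F264717 : act 1 n59180 = n58083 := d0_2 D57983 D59180 (iv D58083) (iv D56900) (iv F255050)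
theorem F264718 : act 3 n59180 = n57987 := d2_2 (iv F259963) D59180 (iv D57987)
def n59181 : Q := act 4 n57983
theorem D59181 : act 4 n57983 = n59181 := rfl
theorem F264719 : act 1 n59181 = n57984 := d11_1 D59181 (iv D57984) D57983
theorem F264720 : act 3 n59181 = n58324 := d24_1 D59181 (iv D58324) F255929 (iv F255061) (iv F259963)
def n59182 : Q := act 5 n57984
theorem D59182 : act 5 n57984 = n59182 := rfl
theorem F264721 : act 0 n59182 = n58085 := d4_1 D59182 (iv D58085) (iv F259964)
theorem F264722 : act 2 n59182 = n57985 := d19_1 D59182 (iv D57985) (iv F259965)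
theorem F264723 : act 3 n59182 = n58325 := d25_1 D59182 (iv D58325) (iv F259966)
def n59183 : Q := act 0 n57986
theorem D59183 : act 0 n57986 = n59183 := rfl
theorem F264724 : act 1 n59183 = n58088 := d0_2 D57986 D59183 (iv D58088) (iv D56905) (iv F255058)
theorem F264725 : act 2 n59183 = n58181 := d1_2 (iv F259969) D59183 (iv D58181)
theorem F264726 : act 4 n59183 = n58214 := d3_2 (iv F259970) D59183 (iv D58214)
theorem F264727 : act 5 n59183 = n57987 := d4_2 (iv F259971) D59183 (iv D57987)
def n59184 : Q := act 5 n57994
theorem D59184 : act 5 n57994 = n59184 := rfl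
theorem F264728 : act 0 n59184 = n58094 := d4_1 D59184 (iv D58094) (iv F260006)
theorem F264729 : act 2 n59184 = n58336 := d19_1 D59184 (iv D58336) (iv F260007)
theorem F264730 : act 4 n59184 = n59184 := d30_1 D59184 (iv D59184) (iv D57994) F255102 D57994
theorem F264731 : act 7 n59184 = n58001 := d36_2 (iv F260009) D59184 (iv D58001)
theorem F264732 : act 8 n59184 = n57995 := d37_2 (iv F260010) D59184 (iv D57995)
def n59185 : Q := act 6 n57995
theorem D59185 : act 6 n57995 = n59185 := rfl
theorem F264733 : act 0 n59185 = n58095 := d5_1 D59185 (iv D58095) (iv F260011)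
theorem F264734 : act 2 n59185 = n58000 := d20_1 D59185 F260033 (iv F260012)
theorem F264735 : act 3 n59185 = n57996 := d26_1 D59185 (iv D57996) (iv F260013)
theorem F264736 : act 4 n59185 = n59185 := d31_1 D59185 (iv D59185) F260014
theorem F264737 : act 5 n59185 = n57999 := d35_1 D59185 F260028 (iv D57171) (iv F255109) D57995
theorem F264738 : act 9 n59185 = n59185 := d41_2 F260016 D59185 (iv D59185)
def n59186 : Q := act 4 n57997
theorem D59186 : act 4 n57997 = n59186 := rfl
theorem F264739 : act 2 n59186 = n57998 := d18_1 D59186 (iv D57998) D57997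
theorem F264740 : act 6 n59186 = n58330 := d31_2 (iv F260022) D59186 (iv D58330)
theorem F264741 : act 8 n59186 = n57999 := d33_2 (iv F260023) D59186 (iv D57999)
def n59187 : Q := act 5 n57998
theorem D59187 : act 5 n57998 = n59187 := rfl
theorem F264742 : act 1 n59187 = n58001 := d12_1 D59187 (iv D58001) (iv F260024)
theorem F264743 : act 4 n59187 = n59187 := d30_1 D59187 (iv D59187) (iv D57998) F255118 D57998
theorem F264744 : act 6 n59187 = n58336 := d35_2 (iv F260025) D59187 (iv D58336) F255993 (iv F255944)
theorem F264745 : act 8 n59187 = n58000 := d37_2 (iv F260026) D59187 (iv D58000)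
def n59188 : Q := act 2 n58002
theorem D59188 : act 2 n58002 = n59188 := rfl
theorem F264746 : act 3 n59188 = n58237 := d17_2 D58002 D59188 (iv D58237) (iv D57065) (iv F255159)
theorem F264747 : act 5 n59188 = n58251 := d19_2 (iv F260039) D59188 (iv D58251)
theorem F264748 : act 7 n59188 = n58259 := d21_2 (iv F260040) D59188 (iv D58259)
theorem F264749 : act 9 n59188 = n58288 := d23_2 (iv F260041) D59188 (iv D58288)
def n59189 : Q := act 4 n58002
theorem D59189 : act 4 n58002 = n59189 := rfl
theorem F264750 : act 1 n59189 = n58007 := d11_1 D59189 (iv D58007) (iv F260038)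
theorem F264751 : act 3 n59189 = n58004 := d24_1 D59189 (iv D58004) (iv D56833) (iv F255160) D58002
theorem F264752 : act 5 n59189 = n58313 := d30_2 (iv F260039) D59189 (iv D58313) F255916 (iv F255785)
theorem F264753 : act 7 n59189 = n58260 := d32_2 (iv F260040) D59189 (iv D58260)
theorem F264754 : act 9 n59189 = n58289 := d34_2 (iv F260041) D59189 (iv D58289)
def n59190 : Q := act 4 n58003
theorem D59190 : act 4 n58003 = n59190 := rfl
theorem F264755 : act 2 n59190 = n58004 := d18_1 D59190 (iv D58004) D58003
theorem F264756 : act 5 n59190 = n58279 := d30_2 (iv F260043) D59190 (iv D58279) F255854 (iv F255842)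
theorem F264757 : act 7 n59190 = n58278 := d32_2 (iv F260044) D59190 (iv D58278)
theorem F264758 : act 8 n59190 = n59190 := d33_2 F260045 D59190 (iv D59190)
theorem F264759 : act 9 n59190 = n58330 := d34_2 (iv F260046) D59190 (iv D58330)
def n59191 : Q := act 2 n58005
theorem D59191 : act 2 n58005 = n59191 := rfl
theorem F264760 : act 3 n59191 = n58027 := d17_2 D58005 D59191 (iv D58027) (iv D56856) (iv F255169)
theorem F264761 : act 5 n59191 = n58252 := d19_2 (iv F260052) D59191 (iv D58252)
theorem F264762 : act 7 n59191 = n58265 := d21_2 (iv F260053) D59191 (iv D58265)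
theorem F264763 : act 8 n59191 = n58006 := d22_2 (iv F260054) D59191 (iv D58006)
def n59192 : Q := act 4 n58005
theorem D59192 : act 4 n58005 = n59192 := rfl
theorem F264764 : act 3 n59192 = n59192 := d24_1 D59192 (iv D59192) (iv D58005) F255170 D58005
theorem F264765 : act 7 n59192 = n58266 := d32_2 (iv F260053) D59192 (iv D58266)
theorem F264766 : act 8 n59192 = n58007 := d33_2 (iv F260054) D59192 (iv D58007)
def n59193 : Q := act 1 n58006
theorem D59193 : act 1 n58006 = n59193 := rfl
theorem F264767 : act 3 n59193 = n58008 := d10_2 (iv F260055) D59193 (iv D58008)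
theorem F264768 : act 5 n59193 = n58253 := d12_2 (iv F260056) D59193 (iv D58253)
theorem F264769 : act 7 n59193 = n58272 := d14_2 (iv F260057) D59193 (iv D58272)
theorem F264770 : act 9 n59193 = n58292 := d16_2 (iv F260058) D59193 (iv D58292)
def n59194 : Q := act 4 n58006
theorem D59194 : act 4 n58006 = n59194 := rfl
theorem F264771 : act 2 n59194 = n58007 := d18_1 D59194 (iv D58007) D58006
theorem F264772 : act 7 n59194 = n58273 := d32_2 (iv F260057) D59194 (iv D58273)
theorem F264773 : act 9 n59194 = n58293 := d34_2 (iv F260058) D59194 (iv D58293)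
def n59195 : Q := act 0 n58008
theorem D59195 : act 0 n58008 = n59195 := rfl
theorem F264774 : act 2 n59195 = n58245 := d1_2 (iv F260062) D59195 (iv D58245)
theorem F264775 : act 5 n59195 = n58254 := d4_2 (iv F260063) D59195 (iv D58254)
theorem F264776 : act 7 n59195 = n58277 := d6_2 (iv F260064) D59195 (iv D58277)
theorem F264777 : act 8 n59195 = n58034 := d7_2 (iv F260065) D59195 (iv D58034)
theorem F264778 : act 9 n59195 = n58301 := d8_2 (iv F260066) D59195 (iv D58301)
def n59196 : Q := act 3 n58009
theorem D59196 : act 3 n58009 = n59196 := rfl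
theorem F264779 : act 6 n59196 = n58017 := d26_2 (iv F260069) D59196 (iv D58017)
theorem F264780 : act 8 n59196 = n58010 := d28_2 D58009 D59196 (iv D58010) (iv D56839) (iv F255184)
def n59197 : Q := act 2 n58010
theorem D59197 : act 2 n58010 = n59197 := rfl
theorem F264781 : act 3 n59197 = n58012 := d17_2 D58010 D59197 (iv D58012) (iv D56841) (iv F255187)
theorem F264782 : act 6 n59197 = n58018 := d20_2 (iv F260070) D59197 (iv D58018)
theorem F264783 : act 9 n59197 = n58036 := d23_2 (iv F260071) D59197 (iv D58036)
def n59198 : Q := act 4 n58010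
theorem D59198 : act 4 n58010 = n59198 := rfl
theorem F264784 : act 3 n59198 = n58011 := d24_1 D59198 (iv D58011) (iv D56840) (iv F255188) D58010
theorem F264785 : act 6 n59198 = n58019 := d31_2 (iv F260070) D59198 (iv D58019)
theorem F264786 : act 9 n59198 = n58037 := d34_2 (iv F260071) D59198 (iv D58037)
def n59199 : Q := act 5 n58011
theorem D59199 : act 5 n58011 = n59199 := rfl
theorem F264787 : act 2 n59199 = n58097 := d19_1 D59199 (iv D58097) (iv F260072)
theorem F264788 : act 4 n59199 = n59199 := d30_1 D59199 (iv D59199) (iv D58011) F255192 D58011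
theorem F264789 : act 8 n59199 = n59199 := d37_2 F260074 D59199 (iv D59199)
theorem F264790 : act 9 n59199 = n58038 := d38_2 (iv F260075) D59199 (iv D58038)
def n59200 : Q := act 1 n58012
theorem D59200 : act 1 n58012 = n59200 := rfl
theorem F264791 : act 2 n59200 = n58250 := d9_2 D58012 D59200 (iv D58250) (iv D57076) (iv F255196)
theorem F264792 : act 6 n59200 = n58020 := d13_2 (iv F260076) D59200 (iv D58020)
theorem F264793 : act 8 n59200 = n58276 := d15_2 (iv F260077) D59200 (iv D58276)
theorem F264794 : act 9 n59200 = n58041 := d16_2 (iv F260078) D59200 (iv D58041)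
def n59201 : Q := act 3 n58013
theorem D59201 : act 3 n58013 = n59201 := rfl
theorem F264795 : act 1 n59201 = n58017 := d10_1 D59201 (iv D58017) (iv F260079)
theorem F264796 : act 5 n59201 = n58236 := d25_2 (iv F260081) D59201 (iv D58236)
theorem F264797 : act 7 n59201 = n58021 := d27_2 (iv F260082) D59201 (iv D58021)
theorem F264798 : act 8 n59201 = n58014 := d28_2 D58013 D59201 (iv D58014) (iv D56843) (iv F255201)
def n59202 : Q := act 2 n58014
theorem D59202 : act 2 n58014 = n59202 := rfl
theorem F264799 : act 3 n59202 = n58251 := d17_2 D58014 D59202 (iv D58251) (iv D57077) (iv F255206)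
theorem F264800 : act 5 n59202 = n58237 := d19_2 (iv F260084) D59202 (iv D58237)
theorem F264801 : act 7 n59202 = n58023 := d21_2 (iv F260085) D59202 (iv D58023)
theorem F264802 : act 9 n59202 = n58043 := d23_2 (iv F260086) D59202 (iv D58043)
def n59203 : Q := act 4 n58014
theorem D59203 : act 4 n58014 = n59203 := rfl
theorem F264803 : act 1 n59203 = n58019 := d11_1 D59203 (iv D58019) (iv F260083)
theorem F264804 : act 3 n59203 = n58015 := d24_1 D59203 (iv D58015) (iv D56844) (iv F255207) D58014
theorem F264805 : act 7 n59203 = n58024 := d32_2 (iv F260085) D59203 (iv D58024)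
theorem F264806 : act 9 n59203 = n58044 := d34_2 (iv F260086) D59203 (iv D58044)
def n59204 : Q := act 3 n58016
theorem D59204 : act 3 n58016 = n59204 := rfl
theorem F264807 : act 5 n59204 = n58240 := d25_2 (iv F260094) D59204 (iv D58240)
theorem F264808 : act 7 n59204 = n58026 := d27_2 (iv F260095) D59204 (iv D58026)
theorem F264809 : act 8 n59204 = n58047 := d28_2 D58016 D59204 (iv D58047) (iv D56873) (iv F255218)
theorem F264810 : act 9 n59204 = n58017 := d29_2 (iv F260096) D59204 (iv D58017)
def n59205 : Q := act 2 n58017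
theorem D59205 : act 2 n58017 = n59205 := rfl
theorem F264811 : act 3 n59205 = n58265 := d17_2 D58017 D59205 (iv D58265) (iv D57090) (iv F255222)
theorem F264812 : act 5 n59205 = n58241 := d19_2 (iv F260097) D59205 (iv D58241)
theorem F264813 : act 7 n59205 = n58027 := d21_2 (iv F260098) D59205 (iv D58027)
theorem F264814 : act 8 n59205 = n58018 := d22_2 (iv F260099) D59205 (iv D58018)
def n59206 : Q := act 4 n58017
theorem D59206 : act 4 n58017 = n59206 := rfl
theorem F264815 : act 3 n59206 = n59206 := d24_1 D59206 (iv D59206) (iv D58017) F255223 D58017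
theorem F264816 : act 7 n59206 = n58028 := d32_2 (iv F260098) D59206 (iv D58028)
theorem F264817 : act 8 n59206 = n58019 := d33_2 (iv F260099) D59206 (iv D58019)
def n59207 : Q := act 1 n58018
theorem D59207 : act 1 n58018 = n59207 := rfl
theorem F264818 : act 3 n59207 = n58020 := d10_2 (iv F260100) D59207 (iv D58020)
theorem F264819 : act 5 n59207 = n58243 := d12_2 (iv F260101) D59207 (iv D58243)
theorem F264820 : act 7 n59207 = n58030 := d14_2 (iv F260102) D59207 (iv D58030)
theorem F264821 : act 9 n59207 = n58052 := d16_2 (iv F260103) D59207 (iv D58052)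
def n59208 : Q := act 4 n58018
theorem D59208 : act 4 n58018 = n59208 := rfl
theorem F264822 : act 2 n59208 = n58019 := d18_1 D59208 (iv D58019) D58018
theorem F264823 : act 7 n59208 = n58031 := d32_2 (iv F260102) D59208 (iv D58031)
theorem F264824 : act 9 n59208 = n58053 := d34_2 (iv F260103) D59208 (iv D58053)
def n59209 : Q := act 0 n58020
theorem D59209 : act 0 n58020 = n59209 := rfl
theorem F264825 : act 2 n59209 = n58254 := d1_2 (iv F260107) D59209 (iv D58254)
theorem F264826 : act 5 n59209 = n58245 := d4_2 (iv F260108) D59209 (iv D58245)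
theorem F264827 : act 7 n59209 = n58034 := d6_2 (iv F260109) D59209 (iv D58034)
theorem F264828 : act 8 n59209 = n58277 := d7_2 (iv F260110) D59209 (iv D58277)
theorem F264829 : act 9 n59209 = n58057 := d8_2 (iv F260111) D59209 (iv D58057)
def n59210 : Q := act 2 n58021
theorem D59210 : act 2 n58021 = n59210 := rfl
theorem F264830 : act 8 n59210 = n58023 := d22_2 (iv F260113) D59210 (iv D58023)
def n59211 : Q := act 4 n58021
theorem D59211 : act 4 n58021 = n59211 := rfl
theorem F264831 : act 1 n59211 = n58028 := d11_1 D59211 (iv D58028) (iv F260112)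
theorem F264832 : act 3 n59211 = n59211 := d24_1 D59211 (iv D59211) (iv D58021) F255237 D58021
theorem F264833 : act 8 n59211 = n58024 := d33_2 (iv F260113) D59211 (iv D58024)
def n59212 : Q := act 2 n58022
theorem D59212 : act 2 n58022 = n59212 := rfl
theorem F264834 : act 0 n59212 = n58304 := d1_1 D59212 (iv D58304) (iv F260114)
theorem F264835 : act 3 n59212 = n58259 := d17_2 D58022 D59212 (iv D58259) (iv D57085) (iv F255240)
theorem F264836 : act 5 n59212 = n58023 := d19_2 (iv F260116) D59212 (iv D58023)
theorem F264837 : act 6 n59212 = n58302 := d20_2 (iv F260117) D59212 (iv D58302)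
theorem F264838 : act 7 n59212 = n58237 := d21_2 (iv F260118) D59212 (iv D58237)
theorem F264839 : act 9 n59212 = n58065 := d23_2 (iv F260119) D59212 (iv D58065)
def n59213 : Q := act 1 n58023
theorem D59213 : act 1 n58023 = n59213 := rfl
theorem F264840 : act 2 n59213 = n58030 := d9_2 D58023 D59213 (iv D58030) (iv D56858) (iv F255246)
theorem F264841 : act 3 n59213 = n58261 := d10_2 (iv F260120) D59213 (iv D58261)
theorem F264842 : act 9 n59213 = n58067 := d16_2 (iv F260121) D59213 (iv D58067)
def n59214 : Q := act 4 n58023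
theorem D59214 : act 4 n58023 = n59214 := rfl
theorem F264843 : act 2 n59214 = n58024 := d18_1 D59214 (iv D58024) D58023
theorem F264844 : act 9 n59214 = n58068 := d34_2 (iv F260121) D59214 (iv D58068)
def n59215 : Q := act 2 n58025
theorem D59215 : act 2 n58025 = n59215 := rfl
theorem F264845 : act 3 n59215 = n58252 := d17_2 D58025 D59215 (iv D58252) (iv D57078) (iv F255251)
theorem F264846 : act 5 n59215 = n58027 := d19_2 (iv F260125) D59215 (iv D58027)
theorem F264847 : act 7 n59215 = n58241 := d21_2 (iv F260126) D59215 (iv D58241)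
theorem F264848 : act 8 n59215 = n58029 := d22_2 (iv F260127) D59215 (iv D58029)
def n59216 : Q := act 2 n58026
theorem D59216 : act 2 n58026 = n59216 := rfl
theorem F264849 : act 8 n59216 = n58073 := d22_2 (iv F260128) D59216 (iv D58073)
theorem F264850 : act 9 n59216 = n58027 := d23_2 (iv F260129) D59216 (iv D58027)
def n59217 : Q := act 4 n58026
theorem D59217 : act 4 n58026 = n59217 := rfl
theorem F264851 : act 3 n59217 = n59217 := d24_1 D59217 (iv D59217) (iv D58026) F255255 D58026
theorem F264852 : act 8 n59217 = n58074 := d33_2 (iv F260128) D59217 (iv D58074)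
theorem F264853 : act 9 n59217 = n58028 := d34_2 (iv F260129) D59217 (iv D58028)
def n59218 : Q := act 1 n58027
theorem D59218 : act 1 n58027 = n59218 := rfl
theorem F264854 : act 8 n59218 = n58030 := d15_2 (iv F260130) D59218 (iv D58030)
def n59219 : Q := act 4 n58027
theorem D59219 : act 4 n58027 = n59219 := rfl
theorem F264855 : act 2 n59219 = n58028 := d18_1 D59219 (iv D58028) D58027
theorem F264856 : act 8 n59219 = n58031 := d33_2 (iv F260130) D59219 (iv D58031)
def n59220 : Q := act 1 n58029
theorem D59220 : act 1 n58029 = n59220 := rfl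
theorem F264857 : act 3 n59220 = n58033 := d10_2 (iv F260133) D59220 (iv D58033)
theorem F264858 : act 5 n59220 = n58030 := d12_2 (iv F260134) D59220 (iv D58030)
theorem F264859 : act 7 n59220 = n58243 := d14_2 (iv F260135) D59220 (iv D58243)
theorem F264860 : act 9 n59220 = n58081 := d16_2 (iv F260136) D59220 (iv D58081)
def n59221 : Q := act 0 n58030
theorem D59221 : act 0 n58030 = n59221 := rfl
theorem F264861 : act 3 n59221 = n58034 := d2_2 (iv F260137) D59221 (iv D58034)
theorem F264862 : act 9 n59221 = n58083 := d8_2 (iv F260138) D59221 (iv D58083)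
def n59222 : Q := act 4 n58030
theorem D59222 : act 4 n58030 = n59222 := rfl
theorem F264863 : act 1 n59222 = n58031 := d11_1 D59222 (iv D58031) D58030
theorem F264864 : act 9 n59222 = n58084 := d34_2 (iv F260138) D59222 (iv D58084)
def n59223 : Q := act 1 n58032
theorem D59223 : act 1 n58032 = n59223 := rfl
theorem F264865 : act 2 n59223 = n58276 := d9_2 D58032 D59223 (iv D58276) (iv D57099) (iv F255266)
theorem F264866 : act 6 n59223 = n58033 := d13_2 (iv F260142) D59223 (iv D58033)
theorem F264867 : act 8 n59223 = n58250 := d15_2 (iv F260143) D59223 (iv D58250)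
theorem F264868 : act 9 n59223 = n58087 := d16_2 (iv F260144) D59223 (iv D58087)
def n59224 : Q := act 0 n58033
theorem D59224 : act 0 n58033 = n59224 := rfl
theorem F264869 : act 2 n59224 = n58277 := d1_2 (iv F260145) D59224 (iv D58277)
theorem F264870 : act 5 n59224 = n58034 := d4_2 (iv F260146) D59224 (iv D58034)
theorem F264871 : act 7 n59224 = n58245 := d6_2 (iv F260147) D59224 (iv D58245)
theorem F264872 : act 8 n59224 = n58254 := d7_2 (iv F260148) D59224 (iv D58254)
theorem F264873 : act 9 n59224 = n58088 := d8_2 (iv F260149) D59224 (iv D58088)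
def n59225 : Q := act 2 n58035
theorem D59225 : act 2 n58035 = n59225 := rfl
theorem F264874 : act 3 n59225 = n58039 := d17_2 D58035 D59225 (iv D58039) (iv D56866) (iv F255276)
theorem F264875 : act 5 n59225 = n58036 := d19_2 (iv F260152) D59225 (iv D58036)
def n59226 : Q := act 4 n58035
theorem D59226 : act 4 n58035 = n59226 := rfl
theorem F264876 : act 3 n59226 = n59226 := d24_1 D59226 (iv D59226) (iv D58035) F255277 D58035
def n59227 : Q := act 1 n58036
theorem D59227 : act 1 n58036 = n59227 := rfl
theorem F264877 : act 3 n59227 = n58041 := d10_2 (iv F260153) D59227 (iv D58041)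
theorem F264878 : act 6 n59227 = n58052 := d13_2 (iv F260154) D59227 (iv D58052)
def n59228 : Q := act 4 n58036
theorem D59228 : act 4 n58036 = n59228 := rfl
theorem F264879 : act 2 n59228 = n58037 := d18_1 D59228 (iv D58037) D58036
theorem F264880 : act 3 n59228 = n58076 := d24_1 D59228 (iv D58076) (iv F259771) F259772 (iv F260153)
theorem F264881 : act 6 n59228 = n58053 := d31_2 (iv F260154) D59228 (iv D58053)
def n59229 : Q := act 5 n58037
theorem D59229 : act 5 n58037 = n59229 := rfl
theorem F264882 : act 3 n59229 = n58038 := d25_1 D59229 (iv D58038) (iv F260155)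
def n59230 : Q := act 1 n58039
theorem D59230 : act 1 n58039 = n59230 := rfl
theorem F264883 : act 2 n59230 = n58285 := d9_2 D58039 D59230 (iv D58285) (iv D57110) (iv F255283)
theorem F264884 : act 5 n59230 = n58041 := d12_2 (iv F260160) D59230 (iv D58041)
def n59231 : Q := act 4 n58039
theorem D59231 : act 4 n58039 = n59231 := rfl
theorem F264885 : act 2 n59231 = n58040 := d18_1 D59231 (iv D58040) D58039
def n59232 : Q := act 0 n58041
theorem D59232 : act 0 n58041 = n59232 := rfl
theorem F264886 : act 2 n59232 = n58287 := d1_2 (iv F260163) D59232 (iv D58287)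
theorem F264887 : act 6 n59232 = n58057 := d5_2 (iv F260164) D59232 (iv D58057)
def n59233 : Q := act 2 n58042
theorem D59233 : act 2 n58042 = n59233 := rfl
theorem F264888 : act 3 n59233 = n58288 := d17_2 D58042 D59233 (iv D58288) (iv D57113) (iv F255287)
theorem F264889 : act 5 n59233 = n58043 := d19_2 (iv F260166) D59233 (iv D58043)
theorem F264890 : act 7 n59233 = n58065 := d21_2 (iv F260167) D59233 (iv D58065)
theorem F264891 : act 9 n59233 = n58237 := d23_2 (iv F260168) D59233 (iv D58237)
def n59234 : Q := act 4 n58042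
theorem D59234 : act 4 n58042 = n59234 := rfl
theorem F264892 : act 1 n59234 = n58051 := d11_1 D59234 (iv D58051) (iv F260165)
theorem F264893 : act 3 n59234 = n58090 := d24_1 D59234 (iv D58090) (iv D56909) (iv F255288) D58042
theorem F264894 : act 7 n59234 = n58066 := d32_2 (iv F260167) D59234 (iv D58066)
theorem F264895 : act 9 n59234 = n58238 := d34_2 (iv F260168) D59234 (iv D58238)
def n59235 : Q := act 1 n58043
theorem D59235 : act 1 n58043 = n59235 := rfl
theorem F264896 : act 2 n59235 = n58052 := d9_2 D58043 D59235 (iv D58052) (iv D56876) (iv F255292)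
theorem F264897 : act 3 n59235 = n58290 := d10_2 (iv F260169) D59235 (iv D58290)
theorem F264898 : act 7 n59235 = n58067 := d14_2 (iv F260170) D59235 (iv D58067)
def n59236 : Q := act 4 n58043
theorem D59236 : act 4 n58043 = n59236 := rfl
theorem F264899 : act 2 n59236 = n58044 := d18_1 D59236 (iv D58044) D58043
theorem F264900 : act 3 n59236 = n58168 := d24_1 D59236 (iv D58168) F255609 (iv F255873) (iv F260169)
theorem F264901 : act 7 n59236 = n58068 := d32_2 (iv F260170) D59236 (iv D58068)
def n59237 : Q := act 3 n58045
theorem D59237 : act 3 n58045 = n59237 := rfl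
theorem F264902 : act 5 n59237 = n58047 := d25_2 (iv F260176) D59237 (iv D58047)
theorem F264903 : act 7 n59237 = n58070 := d27_2 (iv F260177) D59237 (iv D58070)
theorem F264904 : act 8 n59237 = n58240 := d28_2 D58045 D59237 (iv D58240) (iv D57068) (iv F255299)
theorem F264905 : act 9 n59237 = n58046 := d29_2 (iv F260178) D59237 (iv D58046)
def n59238 : Q := act 2 n58046
theorem D59238 : act 2 n58046 = n59238 := rfl
theorem F264906 : act 3 n59238 = n58141 := d17_2 D58046 D59238 (iv D58141) (iv D56970) (iv F255303)
theorem F264907 : act 5 n59238 = n58048 := d19_2 (iv F260179) D59238 (iv D58048)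
theorem F264908 : act 7 n59238 = n58071 := d21_2 (iv F260180) D59238 (iv D58071)
theorem F264909 : act 8 n59238 = n58050 := d22_2 (iv F260181) D59238 (iv D58050)
def n59239 : Q := act 4 n58046
theorem D59239 : act 4 n58046 = n59239 := rfl
theorem F264910 : act 3 n59239 = n59239 := d24_1 D59239 (iv D59239) (iv D58046) F255304 D58046
theorem F264911 : act 7 n59239 = n58072 := d32_2 (iv F260180) D59239 (iv D58072)
theorem F264912 : act 8 n59239 = n58051 := d33_2 (iv F260181) D59239 (iv D58051)
def n59240 : Q := act 2 n58047
theorem D59240 : act 2 n58047 = n59240 := rfl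
theorem F264913 : act 7 n59240 = n58073 := d21_2 (iv F260182) D59240 (iv D58073)
theorem F264914 : act 9 n59240 = n58048 := d23_2 (iv F260183) D59240 (iv D58048)
def n59241 : Q := act 4 n58047
theorem D59241 : act 4 n58047 = n59241 := rfl
theorem F264915 : act 3 n59241 = n58093 := d24_1 D59241 (iv D58093) (iv D56917) (iv F255307) D58047
theorem F264916 : act 7 n59241 = n58074 := d32_2 (iv F260182) D59241 (iv D58074)
theorem F264917 : act 9 n59241 = n58049 := d34_2 (iv F260183) D59241 (iv D58049)
def n59242 : Q := act 1 n58048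
theorem D59242 : act 1 n58048 = n59242 := rfl
theorem F264918 : act 7 n59242 = n58075 := d14_2 (iv F260184) D59242 (iv D58075)
theorem F264919 : act 8 n59242 = n58052 := d15_2 (iv F260185) D59242 (iv D58052)
def n59243 : Q := act 4 n58048
theorem D59243 : act 4 n58048 = n59243 := rfl
theorem F264920 : act 2 n59243 = n58049 := d18_1 D59243 (iv D58049) D58048
theorem F264921 : act 7 n59243 = n58076 := d32_2 (iv F260184) D59243 (iv D58076)
theorem F264922 : act 8 n59243 = n58053 := d33_2 (iv F260185) D59243 (iv D58053)
def n59244 : Q := act 5 n58049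
theorem D59244 : act 5 n58049 = n59244 := rfl
theorem F264923 : act 3 n59244 = n58094 := d25_1 D59244 (iv D58094) (iv F260186)
theorem F264924 : act 7 n59244 = n58077 := d36_2 (iv F260187) D59244 (iv D58077)
theorem F264925 : act 8 n59244 = n58054 := d37_2 (iv F260188) D59244 (iv D58054)
def n59245 : Q := act 1 n58050
theorem D59245 : act 1 n58050 = n59245 := rfl
theorem F264926 : act 3 n59245 = n58056 := d10_2 (iv F260189) D59245 (iv D58056)
theorem F264927 : act 5 n59245 = n58052 := d12_2 (iv F260190) D59245 (iv D58052)
theorem F264928 : act 7 n59245 = n58081 := d14_2 (iv F260191) D59245 (iv D58081)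
theorem F264929 : act 9 n59245 = n58243 := d16_2 (iv F260192) D59245 (iv D58243)
def n59246 : Q := act 4 n58050
theorem D59246 : act 4 n58050 = n59246 := rfl
theorem F264930 : act 2 n59246 = n58051 := d18_1 D59246 (iv D58051) D58050
theorem F264931 : act 7 n59246 = n58082 := d32_2 (iv F260191) D59246 (iv D58082)
theorem F264932 : act 9 n59246 = n58244 := d34_2 (iv F260192) D59246 (iv D58244)
def n59247 : Q := act 0 n58052
theorem D59247 : act 0 n58052 = n59247 := rfl
theorem F264933 : act 3 n59247 = n58057 := d2_2 (iv F260196) D59247 (iv D58057)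
theorem F264934 : act 7 n59247 = n58083 := d6_2 (iv F260197) D59247 (iv D58083)
def n59248 : Q := act 4 n58052
theorem D59248 : act 4 n58052 = n59248 := rfl
theorem F264935 : act 1 n59248 = n58053 := d11_1 D59248 (iv D58053) D58052
theorem F264936 : act 7 n59248 = n58084 := d32_2 (iv F260197) D59248 (iv D58084)
def n59249 : Q := act 5 n58053
theorem D59249 : act 5 n58053 = n59249 := rfl
theorem F264937 : act 2 n59249 = n58054 := d19_1 D59249 (iv D58054) (iv F260198)
theorem F264938 : act 7 n59249 = n58085 := d36_2 (iv F260199) D59249 (iv D58085)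
def n59250 : Q := act 6 n58054
theorem D59250 : act 6 n58054 = n59250 := rfl
theorem F264939 : act 3 n59250 = n58055 := d26_1 D59250 (iv D58055) (iv F260200)
def n59251 : Q := act 0 n58056
theorem D59251 : act 0 n58056 = n59251 := rfl
theorem F264940 : act 2 n59251 = n58301 := d1_2 (iv F260204) D59251 (iv D58301)
theorem F264941 : act 5 n59251 = n58057 := d4_2 (iv F260205) D59251 (iv D58057)
theorem F264942 : act 7 n59251 = n58088 := d6_2 (iv F260206) D59251 (iv D58088)
theorem F264943 : act 8 n59251 = n58146 := d7_2 (iv F260207) D59251 (iv D58146)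
theorem F264944 : act 9 n59251 = n58245 := d8_2 (iv F260208) D59251 (iv D58245)
def n59252 : Q := act 2 n58058
theorem D59252 : act 2 n58058 = n59252 := rfl
theorem F264945 : act 0 n59252 = n58065 := d1_1 D59252 (iv D58065) (iv F260211)
theorem F264946 : act 3 n59252 = n58302 := d17_2 D58058 D59252 (iv D58302) (iv D57126) (iv F255330)
theorem F264947 : act 5 n59252 = n58059 := d19_2 (iv F260213) D59252 (iv D58059)
theorem F264948 : act 6 n59252 = n58259 := d20_2 (iv F260214) D59252 (iv D58259)
theorem F264949 : act 9 n59252 = n58304 := d23_2 (iv F260215) D59252 (iv D58304)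
def n59253 : Q := act 4 n58058
theorem D59253 : act 4 n58058 = n59253 := rfl
theorem F264950 : act 0 n59253 = n58066 := d3_1 D59253 (iv D58066) (iv F260211)
theorem F264951 : act 1 n59253 = n58271 := d11_1 D59253 (iv D58271) (iv F260212)
theorem F264952 : act 3 n59253 = n58091 := d24_1 D59253 (iv D58091) (iv D56912) (iv F255331) D58058
theorem F264953 : act 6 n59253 = n58260 := d31_2 (iv F260214) D59253 (iv D58260)
theorem F264954 : act 9 n59253 = n58305 := d34_2 (iv F260215) D59253 (iv D58305)
def n59254 : Q := act 1 n58059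
theorem D59254 : act 1 n58059 = n59254 := rfl
theorem F264955 : act 3 n59254 = n58303 := d10_2 (iv F260217) D59254 (iv D58303)
def n59255 : Q := act 2 n58060
theorem D59255 : act 2 n58060 = n59255 := rfl
theorem F264956 : act 5 n59255 = n58062 := d19_2 (iv F260219) D59255 (iv D58062)
theorem F264957 : act 8 n59255 = n58065 := d22_2 (iv F260220) D59255 (iv D58065)
def n59256 : Q := act 4 n58060
theorem D59256 : act 4 n58060 = n59256 := rfl
theorem F264958 : act 1 n59256 = n58072 := d11_1 D59256 (iv D58072) (iv F260218)
theorem F264959 : act 3 n59256 = n59256 := d24_1 D59256 (iv D59256) (iv D58060) F255337 D58060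
theorem F264960 : act 8 n59256 = n58066 := d33_2 (iv F260220) D59256 (iv D58066)
def n59257 : Q := act 2 n58061
theorem D59257 : act 2 n58061 = n59257 := rfl
theorem F264961 : act 9 n59257 = n58062 := d23_2 (iv F260222) D59257 (iv D58062)
def n59258 : Q := act 4 n58061
theorem D59258 : act 4 n58061 = n59258 := rfl
theorem F264962 : act 1 n59258 = n58074 := d11_1 D59258 (iv D58074) (iv F260221)
theorem F264963 : act 3 n59258 = n58096 := d24_1 D59258 (iv D58096) (iv D56921) (iv F255340) D58061
theorem F264964 : act 9 n59258 = n58063 := d34_2 (iv F260222) D59258 (iv D58063)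
def n59259 : Q := act 1 n58062
theorem D59259 : act 1 n58062 = n59259 := rfl
theorem F264965 : act 2 n59259 = n58075 := d9_2 D58062 D59259 (iv D58075) (iv D56894) (iv F255342)
theorem F264966 : act 8 n59259 = n58067 := d15_2 (iv F260223) D59259 (iv D58067)
def n59260 : Q := act 4 n58062
theorem D59260 : act 4 n58062 = n59260 := rfl
theorem F264967 : act 2 n59260 = n58063 := d18_1 D59260 (iv D58063) D58062
theorem F264968 : act 8 n59260 = n58068 := d33_2 (iv F260223) D59260 (iv D58068)
def n59261 : Q := act 2 n58064
theorem D59261 : act 2 n58064 = n59261 := rfl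
theorem F264969 : act 0 n59261 = n58259 := d1_1 D59261 (iv D58259) (iv F260227)
theorem F264970 : act 3 n59261 = n58304 := d17_2 D58064 D59261 (iv D58304) (iv D57128) (iv F255346)
theorem F264971 : act 5 n59261 = n58255 := d19_2 (iv F260229) D59261 (iv D58255)
theorem F264972 : act 6 n59261 = n58065 := d20_2 (iv F260230) D59261 (iv D58065)
theorem F264973 : act 9 n59261 = n58302 := d23_2 (iv F260231) D59261 (iv D58302)
def n59262 : Q := act 1 n58065
theorem D59262 : act 1 n58065 = n59262 := rfl
theorem F264974 : act 2 n59262 = n58081 := d9_2 D58065 D59262 (iv D58081) (iv D56898) (iv F255351)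
theorem F264975 : act 3 n59262 = n58306 := d10_2 (iv F260232) D59262 (iv D58306)
theorem F264976 : act 5 n59262 = n58067 := d12_2 (iv F260233) D59262 (iv D58067)
def n59263 : Q := act 4 n58065
theorem D59263 : act 4 n58065 = n59263 := rfl
theorem F264977 : act 2 n59263 = n58066 := d18_1 D59263 (iv D58066) D58065
def n59264 : Q := act 0 n58067
theorem D59264 : act 0 n58067 = n59264 := rfl
theorem F264978 : act 2 n59264 = n58083 := d1_2 (iv F260236) D59264 (iv D58083)
theorem F264979 : act 3 n59264 = n58308 := d2_2 (iv F260237) D59264 (iv D58308)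
def n59265 : Q := act 4 n58067
theorem D59265 : act 4 n58067 = n59265 := rfl
theorem F264980 : act 1 n59265 = n58068 := d11_1 D59265 (iv D58068) D58067
theorem F264981 : act 2 n59265 = n58084 := d18_1 D59265 (iv D58084) (iv F260236)
def n59266 : Q := act 2 n58069
theorem D59266 : act 2 n58069 = n59266 := rfl
theorem F264982 : act 0 n59266 = n58280 := d1_1 D59266 (iv D58280) (iv F260239)
theorem F264983 : act 3 n59266 = n58222 := d17_2 D58069 D59266 (iv D58222) (iv D57050) (iv F255357)
theorem F264984 : act 5 n59266 = n58221 := d19_2 (iv F260240) D59266 (iv D58221)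
theorem F264985 : act 6 n59266 = n58071 := d20_2 (iv F260241) D59266 (iv D58071)
theorem F264986 : act 8 n59266 = n58079 := d22_2 (iv F260242) D59266 (iv D58079)
def n59267 : Q := act 4 n58069
theorem D59267 : act 4 n58069 = n59267 := rfl
theorem F264987 : act 0 n59267 = n58281 := d3_1 D59267 (iv D58281) (iv F260239)
theorem F264988 : act 3 n59267 = n59267 := d24_1 D59267 (iv D59267) (iv D58069) F255358 D58069
theorem F264989 : act 6 n59267 = n58072 := d31_2 (iv F260241) D59267 (iv D58072)
theorem F264990 : act 8 n59267 = n58080 := d33_2 (iv F260242) D59267 (iv D58080)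
def n59268 : Q := act 2 n58070
theorem D59268 : act 2 n58070 = n59268 := rfl
theorem F264991 : act 5 n59268 = n58073 := d19_2 (iv F260243) D59268 (iv D58073)
theorem F264992 : act 9 n59268 = n58071 := d23_2 (iv F260244) D59268 (iv D58071)
def n59269 : Q := act 4 n58070
theorem D59269 : act 4 n58070 = n59269 := rfl
theorem F264993 : act 3 n59269 = n59269 := d24_1 D59269 (iv D59269) (iv D58070) F255361 D58070
theorem F264994 : act 9 n59269 = n58072 := d34_2 (iv F260244) D59269 (iv D58072)
def n59270 : Q := act 1 n58071
theorem D59270 : act 1 n58071 = n59270 := rfl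
theorem F264995 : act 5 n59270 = n58075 := d12_2 (iv F260245) D59270 (iv D58075)
theorem F264996 : act 8 n59270 = n58081 := d15_2 (iv F260246) D59270 (iv D58081)
def n59271 : Q := act 4 n58071
theorem D59271 : act 4 n58071 = n59271 := rfl
theorem F264997 : act 2 n59271 = n58072 := d18_1 D59271 (iv D58072) D58071
theorem F264998 : act 8 n59271 = n58082 := d33_2 (iv F260246) D59271 (iv D58082)
def n59272 : Q := act 1 n58073
theorem D59272 : act 1 n58073 = n59272 := rfl
theorem F264999 : act 9 n59272 = n58075 := d16_2 (iv F260249) D59272 (iv D58075)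
def n59273 : Q := act 4 n58073
theorem D59273 : act 4 n58073 = n59273 := rfl
theorem F265000 : act 2 n59273 = n58074 := d18_1 D59273 (iv D58074) D58073
theorem F265001 : act 9 n59273 = n58076 := d34_2 (iv F260249) D59273 (iv D58076)
def n59274 : Q := act 5 n58074
theorem D59274 : act 5 n58074 = n59274 := rfl
theorem F265002 : act 3 n59274 = n58097 := d25_1 D59274 (iv D58097) (iv F260250)
theorem F265003 : act 9 n59274 = n58077 := d38_2 (iv F260251) D59274 (iv D58077)
def n59275 : Q := act 0 n58075
theorem D59275 : act 0 n58075 = n59275 := rfl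
theorem F265004 : act 8 n59275 = n58083 := d7_2 (iv F260252) D59275 (iv D58083)
def n59276 : Q := act 4 n58075
theorem D59276 : act 4 n58075 = n59276 := rfl
theorem F265005 : act 1 n59276 = n58076 := d11_1 D59276 (iv D58076) D58075
theorem F265006 : act 8 n59276 = n58084 := d33_2 (iv F260252) D59276 (iv D58084)
def n59277 : Q := act 5 n58076
theorem D59277 : act 5 n58076 = n59277 := rfl
theorem F265007 : act 2 n59277 = n58077 := d19_1 D59277 (iv D58077) (iv F260253)
theorem F265008 : act 8 n59277 = n58085 := d37_2 (iv F260254) D59277 (iv D58085)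
def n59278 : Q := act 2 n58078
theorem D59278 : act 2 n58078 = n59278 := rfl
theorem F265009 : act 3 n59278 = n58086 := d17_2 D58078 D59278 (iv D58086) (iv D56903) (iv F255370)
theorem F265010 : act 7 n59278 = n58079 := d21_2 (iv F260257) D59278 (iv D58079)
def n59279 : Q := act 4 n58078
theorem D59279 : act 4 n58078 = n59279 := rfl
theorem F265011 : act 3 n59279 = n58092 := d24_1 D59279 (iv D58092) (iv D56914) (iv F255371) D58078
theorem F265012 : act 7 n59279 = n58080 := d32_2 (iv F260257) D59279 (iv D58080)
def n59280 : Q := act 1 n58079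
theorem D59280 : act 1 n58079 = n59280 := rfl
theorem F265013 : act 3 n59280 = n58087 := d10_2 (iv F260258) D59280 (iv D58087)
theorem F265014 : act 6 n59280 = n58081 := d13_2 (iv F260259) D59280 (iv D58081)
def n59281 : Q := act 4 n58079
theorem D59281 : act 4 n58079 = n59281 := rfl
theorem F265015 : act 2 n59281 = n58080 := d18_1 D59281 (iv D58080) D58079
theorem F265016 : act 6 n59281 = n58082 := d31_2 (iv F260259) D59281 (iv D58082)
def n59282 : Q := act 0 n58081
theorem D59282 : act 0 n58081 = n59282 := rfl
theorem F265017 : act 3 n59282 = n58088 := d2_2 (iv F260262) D59282 (iv D58088)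
theorem F265018 : act 5 n59282 = n58083 := d4_2 (iv F260263) D59282 (iv D58083)
def n59283 : Q := act 4 n58081
theorem D59283 : act 4 n58081 = n59283 := rfl
theorem F265019 : act 1 n59283 = n58082 := d11_1 D59283 (iv D58082) D58081
def n59284 : Q := act 4 n58083
theorem D59284 : act 4 n58083 = n59284 := rfl
theorem F265020 : act 0 n59284 = n58084 := d3_1 D59284 (iv D58084) D58083
def n59285 : Q := act 5 n58084
theorem D59285 : act 5 n58084 = n59285 := rfl
theorem F265021 : act 1 n59285 = n58085 := d12_1 D59285 (iv D58085) (iv F260266)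
def n59286 : Q := act 1 n58086
theorem D59286 : act 1 n58086 = n59286 := rfl
theorem F265022 : act 2 n59286 = n58328 := d9_2 D58086 D59286 (iv D58328) (iv D57148) (iv F255380)
theorem F265023 : act 7 n59286 = n58087 := d14_2 (iv F260268) D59286 (iv D58087)
def n59287 : Q := act 0 n58087
theorem D59287 : act 0 n58087 = n59287 := rfl
theorem F265024 : act 2 n59287 = n58329 := d1_2 (iv F260269) D59287 (iv D58329)
theorem F265025 : act 6 n59287 = n58088 := d5_2 (iv F260270) D59287 (iv D58088)
def n59288 : Q := act 4 n58089
theorem D59288 : act 4 n58089 = n59288 := rfl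
theorem F265026 : act 0 n59288 = n58090 := d3_1 D59288 (iv D58090) (iv F260273)
theorem F265027 : act 1 n59288 = n58279 := d11_1 D59288 (iv D58279) (iv F260274)
theorem F265028 : act 7 n59288 = n58091 := d32_2 (iv F260276) D59288 (iv D58091)
theorem F265029 : act 8 n59288 = n59288 := d33_2 F260277 D59288 (iv D59288)
theorem F265030 : act 9 n59288 = n58235 := d34_2 (iv F260278) D59288 (iv D58235)
def n59289 : Q := act 5 n58093
theorem D59289 : act 5 n58093 = n59289 := rfl
theorem F265031 : act 4 n59289 = n59289 := d30_1 D59289 (iv D59289) (iv D58093) F255424 D58093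
theorem F265032 : act 7 n59289 = n58097 := d36_2 (iv F260290) D59289 (iv D58097)
theorem F265033 : act 8 n59289 = n59289 := d37_2 F260291 D59289 (iv D59289)
theorem F265034 : act 9 n59289 = n58094 := d38_2 (iv F260292) D59289 (iv D58094)
def n59290 : Q := act 6 n58094
theorem D59290 : act 6 n58094 = n59290 := rfl
theorem F265035 : act 4 n59290 = n59290 := d31_1 D59290 (iv D59290) F260293
theorem F265036 : act 8 n59290 = n58095 := d40_2 (iv F260295) D59290 (iv D58095)
def n59291 : Q := act 1 n58098
theorem D59291 : act 1 n58098 = n59291 := rfl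
theorem F265037 : act 2 n59291 = n58132 := d9_2 D58098 D59291 (iv D58132) (iv D56962) (iv F255447)
theorem F265038 : act 4 n59291 = n58130 := d11_2 (iv F260306) D59291 (iv D58130)
theorem F265039 : act 5 n59291 = n58110 := d12_2 (iv F260307) D59291 (iv D58110)
theorem F265040 : act 7 n59291 = n58122 := d14_2 (iv F260308) D59291 (iv D58122)
theorem F265041 : act 8 n59291 = n58201 := d15_2 (iv F260309) D59291 (iv D58201)
theorem F265042 : act 9 n59291 = n58103 := d16_2 (iv F260310) D59291 (iv D58103)
def n59292 : Q := act 1 n58099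
theorem D59292 : act 1 n58099 = n59292 := rfl
theorem F265043 : act 2 n59292 = n58130 := d9_2 D58099 D59292 (iv D58130) (iv D56960) (iv F255454)
theorem F265044 : act 4 n59292 = n58132 := d11_2 (iv F260312) D59292 (iv D58132)
theorem F265045 : act 5 n59292 = n58109 := d12_2 (iv F260313) D59292 (iv D58109)
theorem F265046 : act 7 n59292 = n58103 := d14_2 (iv F260314) D59292 (iv D58103)
theorem F265047 : act 8 n59292 = n58180 := d15_2 (iv F260315) D59292 (iv D58180)
theorem F265048 : act 9 n59292 = n58122 := d16_2 (iv F260316) D59292 (iv D58122)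
def n59293 : Q := act 1 n58100
theorem D59293 : act 1 n58100 = n59293 := rfl
theorem F265049 : act 3 n59293 = n58103 := d10_2 (iv F260318) D59293 (iv D58103)
def n59294 : Q := act 4 n58100
theorem D59294 : act 4 n58100 = n59294 := rfl
theorem F265050 : act 0 n59294 = n58119 := d3_1 D59294 (iv D58119) (iv F260317)
theorem F265051 : act 2 n59294 = n58101 := d18_1 D59294 (iv D58101) D58100
theorem F265052 : act 3 n59294 = n58134 := d24_1 D59294 (iv D58134) F255551 (iv F255465) (iv F260318)
def n59295 : Q := act 5 n58101
theorem D59295 : act 5 n58101 = n59295 := rfl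
theorem F265053 : act 0 n59295 = n58120 := d4_1 D59295 (iv D58120) (iv F260319)
theorem F265054 : act 3 n59295 = n58102 := d25_1 D59295 (iv D58102) (iv F260320)
def n59296 : Q := act 0 n58103
theorem D59296 : act 0 n58103 = n59296 := rfl
theorem F265055 : act 1 n59296 = n58123 := d0_2 D58103 D59296 (iv D58123) (iv D56949) (iv F255464)
theorem F265056 : act 4 n59296 = n58136 := d3_2 (iv F260325) D59296 (iv D58136)
theorem F265057 : act 8 n59296 = n58181 := d7_2 (iv F260326) D59296 (iv D58181)
def n59297 : Q := act 3 n58104
theorem D59297 : act 3 n58104 = n59297 := rfl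
theorem F265058 : act 6 n59297 = n58195 := d26_2 (iv F260328) D59297 (iv D58195)
theorem F265059 : act 8 n59297 = n58113 := d28_2 D58104 D59297 (iv D58113) (iv D56942) (iv F255478)
theorem F265060 : act 9 n59297 = n58105 := d29_2 (iv F260329) D59297 (iv D58105)
def n59298 : Q := act 2 n58105
theorem D59298 : act 2 n58105 = n59298 := rfl
theorem F265061 : act 8 n59298 = n58106 := d22_2 (iv F260330) D59298 (iv D58106)
def n59299 : Q := act 4 n58105
theorem D59299 : act 4 n58105 = n59299 := rfl
theorem F265062 : act 3 n59299 = n59299 := d24_1 D59299 (iv D59299) (iv D58105) F255481 D58105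
theorem F265063 : act 8 n59299 = n58107 := d33_2 (iv F260330) D59299 (iv D58107)
def n59300 : Q := act 1 n58106
theorem D59300 : act 1 n58106 = n59300 := rfl
theorem F265064 : act 3 n59300 = n58109 := d10_2 (iv F260331) D59300 (iv D58109)
theorem F265065 : act 9 n59300 = n58118 := d16_2 (iv F260332) D59300 (iv D58118)
def n59301 : Q := act 4 n58106
theorem D59301 : act 4 n58106 = n59301 := rfl
theorem F265066 : act 2 n59301 = n58107 := d18_1 D59301 (iv D58107) D58106
theorem F265067 : act 3 n59301 = n58144 := d24_1 D59301 (iv D58144) F255566 (iv F255486) (iv F260331)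
theorem F265068 : act 9 n59301 = n58119 := d34_2 (iv F260332) D59301 (iv D58119)
def n59302 : Q := act 5 n58107
theorem D59302 : act 5 n58107 = n59302 := rfl
theorem F265069 : act 3 n59302 = n58108 := d25_1 D59302 (iv D58108) (iv F260333)
theorem F265070 : act 9 n59302 = n58120 := d38_2 (iv F260334) D59302 (iv D58120)
def n59303 : Q := act 0 n58109
theorem D59303 : act 0 n58109 = n59303 := rfl
theorem F265071 : act 4 n59303 = n58146 := d3_2 (iv F260339) D59303 (iv D58146)
theorem F265072 : act 9 n59303 = n58123 := d8_2 (iv F260340) D59303 (iv D58123)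
def n59304 : Q := act 0 n58110
theorem D59304 : act 0 n58110 = n59304 := rfl
theorem F265073 : act 4 n59304 = n58156 := d3_2 (iv F260341) D59304 (iv D58156)
theorem F265074 : act 7 n59304 = n58123 := d6_2 (iv F260342) D59304 (iv D58123)
theorem F265075 : act 8 n59304 = n58202 := d7_2 (iv F260343) D59304 (iv D58202)
def n59305 : Q := act 3 n58111
theorem D59305 : act 3 n58111 = n59305 := rfl
theorem F265076 : act 5 n59305 = n58113 := d25_2 (iv F260346) D59305 (iv D58113)
theorem F265077 : act 6 n59305 = n58187 := d26_2 (iv F260347) D59305 (iv D58187)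
theorem F265078 : act 9 n59305 = n58112 := d29_2 (iv F260348) D59305 (iv D58112)
def n59306 : Q := act 2 n58112
theorem D59306 : act 2 n58112 = n59306 := rfl
theorem F265079 : act 3 n59306 = n58208 := d17_2 D58112 D59306 (iv D58208) (iv D57034) (iv F255498)
theorem F265080 : act 5 n59306 = n58114 := d19_2 (iv F260349) D59306 (iv D58114)
theorem F265081 : act 8 n59306 = n58116 := d22_2 (iv F260350) D59306 (iv D58116)
def n59307 : Q := act 4 n58112
theorem D59307 : act 4 n58112 = n59307 := rfl
theorem F265082 : act 3 n59307 = n59307 := d24_1 D59307 (iv D59307) (iv D58112) F255499 D58112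
theorem F265083 : act 8 n59307 = n58117 := d33_2 (iv F260350) D59307 (iv D58117)
def n59308 : Q := act 2 n58113
theorem D59308 : act 2 n58113 = n59308 := rfl
theorem F265084 : act 3 n59308 = n58200 := d17_2 D58113 D59308 (iv D58200) (iv D57027) (iv F255501)
theorem F265085 : act 6 n59308 = n58197 := d20_2 (iv F260351) D59308 (iv D58197)
theorem F265086 : act 9 n59308 = n58114 := d23_2 (iv F260352) D59308 (iv D58114)
def n59309 : Q := act 4 n58113
theorem D59309 : act 4 n58113 = n59309 := rfl
theorem F265087 : act 3 n59309 = n58125 := d24_1 D59309 (iv D58125) (iv D56953) (iv F255502) D58113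
theorem F265088 : act 6 n59309 = n58198 := d31_2 (iv F260351) D59309 (iv D58198)
theorem F265089 : act 9 n59309 = n58115 := d34_2 (iv F260352) D59309 (iv D58115)
def n59310 : Q := act 1 n58114
theorem D59310 : act 1 n58114 = n59310 := rfl
theorem F265090 : act 3 n59310 = n58210 := d10_2 (iv F260353) D59310 (iv D58210)
theorem F265091 : act 8 n59310 = n58118 := d15_2 (iv F260354) D59310 (iv D58118)
def n59311 : Q := act 4 n58114
theorem D59311 : act 4 n58114 = n59311 := rfl
theorem F265092 : act 2 n59311 = n58115 := d18_1 D59311 (iv D58115) D58114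
theorem F265093 : act 8 n59311 = n58119 := d33_2 (iv F260354) D59311 (iv D58119)
def n59312 : Q := act 5 n58115
theorem D59312 : act 5 n58115 = n59312 := rfl
theorem F265094 : act 3 n59312 = n58126 := d25_1 D59312 (iv D58126) (iv F260355)
theorem F265095 : act 8 n59312 = n58120 := d37_2 (iv F260356) D59312 (iv D58120)
def n59313 : Q := act 1 n58116
theorem D59313 : act 1 n58116 = n59313 := rfl
theorem F265096 : act 3 n59313 = n58122 := d10_2 (iv F260357) D59313 (iv D58122)
theorem F265097 : act 5 n59313 = n58118 := d12_2 (iv F260358) D59313 (iv D58118)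
def n59314 : Q := act 4 n58116
theorem D59314 : act 4 n58116 = n59314 := rfl
theorem F265098 : act 2 n59314 = n58117 := d18_1 D59314 (iv D58117) D58116
def n59315 : Q := act 5 n58117
theorem D59315 : act 5 n58117 = n59315 := rfl
theorem F265099 : act 3 n59315 = n58124 := d25_1 D59315 (iv D58124) (iv F260359)
theorem F265100 : act 4 n59315 = n58120 := d30_1 D59315 (iv D58120) (iv D56946) (iv F255506) D58117
def n59316 : Q := act 0 n58118
theorem D59316 : act 0 n58118 = n59316 := rfl
theorem F265101 : act 3 n59316 = n58123 := d2_2 (iv F260360) D59316 (iv D58123)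
def n59317 : Q := act 4 n58118
theorem D59317 : act 4 n58118 = n59317 := rfl
theorem F265102 : act 1 n59317 = n58119 := d11_1 D59317 (iv D58119) D58118
theorem F265103 : act 3 n59317 = n58173 := d24_1 D59317 (iv D58173) F255619 (iv F255514) (iv F260360)
def n59318 : Q := act 5 n58119
theorem D59318 : act 5 n58119 = n59318 := rfl
theorem F265104 : act 2 n59318 = n58120 := d19_1 D59318 (iv D58120) (iv F260361)
theorem F265105 : act 3 n59318 = n58174 := d25_1 D59318 (iv D58174) (iv F260362)
def n59319 : Q := act 6 n58120
theorem D59319 : act 6 n58120 = n59319 := rfl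
theorem F265106 : act 3 n59319 = n58121 := d26_1 D59319 (iv D58121) (iv F260363)
def n59320 : Q := act 0 n58122
theorem D59320 : act 0 n58122 = n59320 := rfl
theorem F265107 : act 2 n59320 = n58136 := d1_2 (iv F260367) D59320 (iv D58136)
theorem F265108 : act 5 n59320 = n58123 := d4_2 (iv F260368) D59320 (iv D58123)
theorem F265109 : act 8 n59320 = n58214 := d7_2 (iv F260369) D59320 (iv D58214)
def n59321 : Q := act 5 n58125
theorem D59321 : act 5 n58125 = n59321 := rfl
theorem F265110 : act 4 n59321 = n59321 := d30_1 D59321 (iv D59321) (iv D58125) F255522 D58125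
theorem F265111 : act 8 n59321 = n59321 := d37_2 F260375 D59321 (iv D59321)
theorem F265112 : act 9 n59321 = n58126 := d38_2 (iv F260376) D59321 (iv D58126)
def n59322 : Q := act 2 n58127
theorem D59322 : act 2 n58127 = n59322 := rfl
theorem F265113 : act 0 n59322 = n58141 := d1_1 D59322 (iv D58141) (iv F260379)
theorem F265114 : act 5 n59322 = n58299 := d19_2 (iv F260380) D59322 (iv D58299)
theorem F265115 : act 7 n59322 = n58283 := d21_2 (iv F260381) D59322 (iv D58283)
theorem F265116 : act 8 n59322 = n58128 := d22_2 (iv F260382) D59322 (iv D58128)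
def n59323 : Q := act 4 n58127
theorem D59323 : act 4 n58127 = n59323 := rfl
theorem F265117 : act 0 n59323 = n58142 := d3_1 D59323 (iv D58142) (iv F260379)
theorem F265118 : act 3 n59323 = n59323 := d24_1 D59323 (iv D59323) (iv D58127) F255534 D58127
theorem F265119 : act 7 n59323 = n58284 := d32_2 (iv F260381) D59323 (iv D58284)
theorem F265120 : act 8 n59323 = n58129 := d33_2 (iv F260382) D59323 (iv D58129)
def n59324 : Q := act 1 n58128
theorem D59324 : act 1 n58128 = n59324 := rfl
theorem F265121 : act 3 n59324 = n58130 := d10_2 (iv F260384) D59324 (iv D58130)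
theorem F265122 : act 9 n59324 = n58133 := d16_2 (iv F260385) D59324 (iv D58133)
def n59325 : Q := act 4 n58128
theorem D59325 : act 4 n58128 = n59325 := rfl
theorem F265123 : act 0 n59325 = n58144 := d3_1 D59325 (iv D58144) (iv F260383)
theorem F265124 : act 2 n59325 = n58129 := d18_1 D59325 (iv D58129) D58128
theorem F265125 : act 9 n59325 = n58134 := d34_2 (iv F260385) D59325 (iv D58134)
def n59326 : Q := act 0 n58130
theorem D59326 : act 0 n58130 = n59326 := rfl
theorem F265126 : act 1 n59326 = n58146 := d0_2 D58130 D59326 (iv D58146) (iv D56974) (iv F255542)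
theorem F265127 : act 9 n59326 = n58136 := d8_2 (iv F260389) D59326 (iv D58136)
def n59327 : Q := act 1 n58131
theorem D59327 : act 1 n58131 = n59327 := rfl
theorem F265128 : act 6 n59327 = n58132 := d13_2 (iv F260391) D59327 (iv D58132)
theorem F265129 : act 8 n59327 = n58224 := d15_2 (iv F260392) D59327 (iv D58224)
def n59328 : Q := act 0 n58132
theorem D59328 : act 0 n58132 = n59328 := rfl
theorem F265130 : act 1 n59328 = n58156 := d0_2 D58132 D59328 (iv D58156) (iv D56984) (iv F255547)
theorem F265131 : act 7 n59328 = n58136 := d6_2 (iv F260393) D59328 (iv D58136)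
theorem F265132 : act 8 n59328 = n58227 := d7_2 (iv F260394) D59328 (iv D58227)
def n59329 : Q := act 0 n58133
theorem D59329 : act 0 n58133 = n59329 := rfl
theorem F265133 : act 1 n59329 = n58172 := d0_2 D58133 D59329 (iv D58172) (iv D56998) (iv F255550)
theorem F265134 : act 3 n59329 = n58136 := d2_2 (iv F260395) D59329 (iv D58136)
def n59330 : Q := act 4 n58133
theorem D59330 : act 4 n58133 = n59330 := rfl
theorem F265135 : act 1 n59330 = n58134 := d11_1 D59330 (iv D58134) D58133
def n59331 : Q := act 5 n58134
theorem D59331 : act 5 n58134 = n59331 := rfl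
theorem F265136 : act 0 n59331 = n58174 := d4_1 D59331 (iv D58174) (iv F260396)
theorem F265137 : act 2 n59331 = n58135 := d19_1 D59331 (iv D58135) (iv F260397)
def n59332 : Q := act 1 n58137
theorem D59332 : act 1 n58137 = n59332 := rfl
theorem F265138 : act 2 n59332 = n58143 := d9_2 D58137 D59332 (iv D58143) (iv D56971) (iv F255558)
theorem F265139 : act 9 n59332 = n58162 := d16_2 (iv F260402) D59332 (iv D58162)
def n59333 : Q := act 4 n58137
theorem D59333 : act 4 n58137 = n59333 := rfl
theorem F265140 : act 2 n59333 = n58138 := d18_1 D59333 (iv D58138) D58137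
theorem F265141 : act 9 n59333 = n58163 := d34_2 (iv F260402) D59333 (iv D58163)
def n59334 : Q := act 2 n58140
theorem D59334 : act 2 n58140 = n59334 := rfl
theorem F265142 : act 8 n59334 = n58165 := d22_2 (iv F260410) D59334 (iv D58165)
theorem F265143 : act 9 n59334 = n58141 := d23_2 (iv F260411) D59334 (iv D58141)
def n59335 : Q := act 4 n58140
theorem D59335 : act 4 n58140 = n59335 := rfl
theorem F265144 : act 3 n59335 = n59335 := d24_1 D59335 (iv D59335) (iv D58140) F255563 D58140
theorem F265145 : act 8 n59335 = n58166 := d33_2 (iv F260410) D59335 (iv D58166)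
theorem F265146 : act 9 n59335 = n58142 := d34_2 (iv F260411) D59335 (iv D58142)
def n59336 : Q := act 1 n58141
theorem D59336 : act 1 n58141 = n59336 := rfl
theorem F265147 : act 8 n59336 = n58143 := d15_2 (iv F260412) D59336 (iv D58143)
def n59337 : Q := act 4 n58141
theorem D59337 : act 4 n58141 = n59337 := rfl
theorem F265148 : act 2 n59337 = n58142 := d18_1 D59337 (iv D58142) D58141
theorem F265149 : act 8 n59337 = n58144 := d33_2 (iv F260412) D59337 (iv D58144)
def n59338 : Q := act 0 n58143
theorem D59338 : act 0 n58143 = n59338 := rfl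
theorem F265150 : act 3 n59338 = n58146 := d2_2 (iv F260415) D59338 (iv D58146)
theorem F265151 : act 9 n59338 = n58172 := d8_2 (iv F260416) D59338 (iv D58172)
def n59339 : Q := act 4 n58143
theorem D59339 : act 4 n58143 = n59339 := rfl
theorem F265152 : act 1 n59339 = n58144 := d11_1 D59339 (iv D58144) D58143
theorem F265153 : act 9 n59339 = n58173 := d34_2 (iv F260416) D59339 (iv D58173)
def n59340 : Q := act 5 n58144
theorem D59340 : act 5 n58144 = n59340 := rfl
theorem F265154 : act 2 n59340 = n58145 := d19_1 D59340 (iv D58145) (iv F260417)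
theorem F265155 : act 9 n59340 = n58174 := d38_2 (iv F260418) D59340 (iv D58174)
def n59341 : Q := act 1 n58147
theorem D59341 : act 1 n58147 = n59341 := rfl
theorem F265156 : act 3 n59341 = n58151 := d10_2 (iv F260422) D59341 (iv D58151)
theorem F265157 : act 6 n59341 = n58154 := d13_2 (iv F260423) D59341 (iv D58154)
def n59342 : Q := act 4 n58147
theorem D59342 : act 4 n58147 = n59342 := rfl
theorem F265158 : act 2 n59342 = n58148 := d18_1 D59342 (iv D58148) D58147
theorem F265159 : act 3 n59342 = n58163 := d24_1 D59342 (iv D58163) (iv F259760) F259761 (iv F260422)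
theorem F265160 : act 6 n59342 = n58155 := d31_2 (iv F260423) D59342 (iv D58155)
def n59343 : Q := act 1 n58149
theorem D59343 : act 1 n58149 = n59343 := rfl
theorem F265161 : act 5 n59343 = n58151 := d12_2 (iv F260426) D59343 (iv D58151)
theorem F265162 : act 8 n59343 = n58285 := d15_2 (iv F260427) D59343 (iv D58285)
def n59344 : Q := act 4 n58149
theorem D59344 : act 4 n58149 = n59344 := rfl
theorem F265163 : act 2 n59344 = n58150 := d18_1 D59344 (iv D58150) D58149
theorem F265164 : act 8 n59344 = n58286 := d33_2 (iv F260427) D59344 (iv D58286)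
def n59345 : Q := act 0 n58151
theorem D59345 : act 0 n58151 = n59345 := rfl
theorem F265165 : act 6 n59345 = n58156 := d5_2 (iv F260429) D59345 (iv D58156)
theorem F265166 : act 8 n59345 = n58287 := d7_2 (iv F260430) D59345 (iv D58287)
def n59346 : Q := act 1 n58152
theorem D59346 : act 1 n58152 = n59346 := rfl
theorem F265167 : act 2 n59346 = n58154 := d9_2 D58152 D59346 (iv D58154) (iv D56982) (iv F255585)
theorem F265168 : act 7 n59346 = n58162 := d14_2 (iv F260431) D59346 (iv D58162)
def n59347 : Q := act 4 n58152
theorem D59347 : act 4 n58152 = n59347 := rfl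
theorem F265169 : act 2 n59347 = n58153 := d18_1 D59347 (iv D58153) D58152
theorem F265170 : act 7 n59347 = n58163 := d32_2 (iv F260431) D59347 (iv D58163)
def n59348 : Q := act 0 n58154
theorem D59348 : act 0 n58154 = n59348 := rfl
theorem F265171 : act 3 n59348 = n58156 := d2_2 (iv F260435) D59348 (iv D58156)
theorem F265172 : act 7 n59348 = n58172 := d6_2 (iv F260436) D59348 (iv D58172)
def n59349 : Q := act 4 n58154
theorem D59349 : act 4 n58154 = n59349 := rfl
theorem F265173 : act 1 n59349 = n58155 := d11_1 D59349 (iv D58155) D58154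
theorem F265174 : act 7 n59349 = n58173 := d32_2 (iv F260436) D59349 (iv D58173)
def n59350 : Q := act 1 n58157
theorem D59350 : act 1 n58157 = n59350 := rfl
def n59351 : Q := act 4 n58157
theorem D59351 : act 4 n58157 = n59351 := rfl
theorem F265175 : act 0 n59351 = n58163 := d3_1 D59351 (iv D58163) (iv F260441)
theorem F265176 : act 2 n59351 = n58158 := d18_1 D59351 (iv D58158) D58157
def n59352 : Q := act 1 n58159
theorem D59352 : act 1 n58159 = n59352 := rfl
theorem F265177 : act 2 n59352 = n58167 := d9_2 D58159 D59352 (iv D58167) (iv D56993) (iv F255599)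
theorem F265178 : act 8 n59352 = n58162 := d15_2 (iv F260444) D59352 (iv D58162)
def n59353 : Q := act 4 n58159
theorem D59353 : act 4 n58159 = n59353 := rfl
theorem F265179 : act 2 n59353 = n58160 := d18_1 D59353 (iv D58160) D58159
theorem F265180 : act 8 n59353 = n58163 := d33_2 (iv F260444) D59353 (iv D58163)
def n59354 : Q := act 1 n58161
theorem D59354 : act 1 n58161 = n59354 := rfl
theorem F265181 : act 2 n59354 = n58170 := d9_2 D58161 D59354 (iv D58170) (iv D56996) (iv F255601)
theorem F265182 : act 5 n59354 = n58162 := d12_2 (iv F260448) D59354 (iv D58162)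
def n59355 : Q := act 0 n58162
theorem D59355 : act 0 n58162 = n59355 := rfl
theorem F265183 : act 2 n59355 = n58172 := d1_2 (iv F260449) D59355 (iv D58172)
def n59356 : Q := act 4 n58162
theorem D59356 : act 4 n58162 = n59356 := rfl
theorem F265184 : act 1 n59356 = n58163 := d11_1 D59356 (iv D58163) D58162
theorem F265185 : act 2 n59356 = n58173 := d18_1 D59356 (iv D58173) (iv F260449)
def n59357 : Q := act 5 n58163
theorem D59357 : act 5 n58163 = n59357 := rfl
theorem F265186 : act 2 n59357 = n58164 := d19_1 D59357 (iv D58164) (iv F260450)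
def n59358 : Q := act 1 n58165
theorem D59358 : act 1 n58165 = n59358 := rfl
theorem F265187 : act 3 n59358 = n58316 := d10_2 (iv F260453) D59358 (iv D58316)
theorem F265188 : act 9 n59358 = n58167 := d16_2 (iv F260454) D59358 (iv D58167)
def n59359 : Q := act 4 n58165
theorem D59359 : act 4 n58165 = n59359 := rfl
theorem F265189 : act 2 n59359 = n58166 := d18_1 D59359 (iv D58166) D58165
theorem F265190 : act 9 n59359 = n58168 := d34_2 (iv F260454) D59359 (iv D58168)
def n59360 : Q := act 0 n58167
theorem D59360 : act 0 n58167 = n59360 := rfl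
theorem F265191 : act 3 n59360 = n58317 := d2_2 (iv F260457) D59360 (iv D58317)
theorem F265192 : act 8 n59360 = n58172 := d7_2 (iv F260458) D59360 (iv D58172)
def n59361 : Q := act 4 n58167
theorem D59361 : act 4 n58167 = n59361 := rfl
theorem F265193 : act 1 n59361 = n58168 := d11_1 D59361 (iv D58168) D58167
theorem F265194 : act 8 n59361 = n58173 := d33_2 (iv F260458) D59361 (iv D58173)
def n59362 : Q := act 1 n58169
theorem D59362 : act 1 n58169 = n59362 := rfl
theorem F265195 : act 3 n59362 = n58176 := d10_2 (iv F260461) D59362 (iv D58176)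
theorem F265196 : act 6 n59362 = n58170 := d13_2 (iv F260462) D59362 (iv D58170)
def n59363 : Q := act 0 n58170
theorem D59363 : act 0 n58170 = n59363 := rfl
theorem F265197 : act 3 n59363 = n58177 := d2_2 (iv F260463) D59363 (iv D58177)
theorem F265198 : act 5 n59363 = n58172 := d4_2 (iv F260464) D59363 (iv D58172)
def n59364 : Q := act 4 n58170
theorem D59364 : act 4 n58170 = n59364 := rfl
theorem F265199 : act 1 n59364 = n58171 := d11_1 D59364 (iv D58171) D58170
theorem F265200 : act 7 n59364 = n58176 := d32_2 F260902 D59364 (iv F260899)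
theorem F265201 : act 8 n59364 = n58328 := d33_2 F261633 D59364 (iv F261630)
def n59365 : Q := act 4 n58172
theorem D59365 : act 4 n58172 = n59365 := rfl
theorem F265202 : act 0 n59365 = n58173 := d3_1 D59365 (iv D58173) D58172
def n59366 : Q := act 5 n58173
theorem D59366 : act 5 n58173 = n59366 := rfl
theorem F265203 : act 1 n59366 = n58174 := d12_1 D59366 (iv D58174) (iv F260469)
def n59367 : Q := act 6 n58174
theorem D59367 : act 6 n58174 = n59367 := rfl
theorem F265204 : act 2 n59367 = n58175 := d20_1 D59367 (iv D58175) (iv F260470)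
def n59368 : Q := act 0 n58176
theorem D59368 : act 0 n58176 = n59368 := rfl
theorem F265205 : act 6 n59368 = n58177 := d5_2 (iv F260472) D59368 (iv D58177)
theorem F265206 : act 8 n59368 = n58329 := d7_2 (iv F260473) D59368 (iv D58329)
def n59369 : Q := act 2 n58178
theorem D59369 : act 2 n58178 = n59369 := rfl
theorem F265207 : act 0 n59369 = n58190 := d1_1 D59369 (iv D58190) (iv F260476)
theorem F265208 : act 5 n59369 = n58179 := d19_2 (iv F260477) D59369 (iv D58179)
def n59370 : Q := act 4 n58178
theorem D59370 : act 4 n58178 = n59370 := rfl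
theorem F265209 : act 0 n59370 = n58191 := d3_1 D59370 (iv D58191) (iv F260476)
theorem F265210 : act 3 n59370 = n59370 := d24_1 D59370 (iv D59370) (iv D58178) F255634 D58178
theorem F265211 : act 5 n59370 = n58223 := d30_2 (iv F260477) D59370 (iv D58223) F255732 (iv F255637)
def n59371 : Q := act 1 n58179
theorem D59371 : act 1 n58179 = n59371 := rfl
theorem F265212 : act 4 n59371 = n58224 := d11_2 (iv F260479) D59371 (iv D58224)
theorem F265213 : act 6 n59371 = n58180 := d13_2 (iv F260480) D59371 (iv D58180)
def n59372 : Q := act 0 n58180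
theorem D59372 : act 0 n58180 = n59372 := rfl
theorem F265214 : act 1 n59372 = n58202 := d0_2 D58180 D59372 (iv D58202) (iv D57029) (iv F255639)
theorem F265215 : act 4 n59372 = n58227 := d3_2 (iv F260481) D59372 (iv D58227)
theorem F265216 : act 7 n59372 = n58181 := d6_2 (iv F260482) D59372 (iv D58181)
def n59373 : Q := act 0 n58182
theorem D59373 : act 0 n58182 = n59373 := rfl
theorem F265217 : act 4 n59373 = n58245 := d3_2 (iv F260485) D59373 (iv D58245)
theorem F265218 : act 8 n59373 = n58186 := d7_2 (iv F260486) D59373 (iv D58186)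
def n59374 : Q := act 1 n58183
theorem D59374 : act 1 n58183 = n59374 := rfl
theorem F265219 : act 4 n59374 = n58250 := d11_2 (iv F260487) D59374 (iv D58250)
theorem F265220 : act 6 n59374 = n58184 := d13_2 (iv F260488) D59374 (iv D58184)
theorem F265221 : act 9 n59374 = n58192 := d16_2 (iv F260489) D59374 (iv D58192)
def n59375 : Q := act 0 n58184
theorem D59375 : act 0 n58184 = n59375 := rfl
theorem F265222 : act 4 n59375 = n58254 := d3_2 (iv F260490) D59375 (iv D58254)
theorem F265223 : act 7 n59375 = n58186 := d6_2 (iv F260491) D59375 (iv D58186)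
theorem F265224 : act 9 n59375 = n58202 := d8_2 (iv F260492) D59375 (iv D58202)
def n59376 : Q := act 0 n58185
theorem D59376 : act 0 n58185 = n59376 := rfl
theorem F265225 : act 2 n59376 = n58220 := d1_2 (iv F260493) D59376 (iv D58220)
theorem F265226 : act 5 n59376 = n58186 := d4_2 (iv F260494) D59376 (iv D58186)
theorem F265227 : act 9 n59376 = n58214 := d8_2 (iv F260495) D59376 (iv D58214)
def n59377 : Q := act 2 n58187
theorem D59377 : act 2 n58187 = n59377 := rfl
theorem F265228 : act 3 n59377 = n58190 := d17_2 D58187 D59377 (iv D58190) (iv D57019) (iv F255655)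
theorem F265229 : act 5 n59377 = n58188 := d19_2 (iv F260498) D59377 (iv D58188)
def n59378 : Q := act 4 n58187
theorem D59378 : act 4 n58187 = n59378 := rfl
theorem F265230 : act 3 n59378 = n59378 := d24_1 D59378 (iv D59378) (iv D58187) F255656 D58187
def n59379 : Q := act 1 n58188
theorem D59379 : act 1 n58188 = n59379 := rfl
theorem F265231 : act 3 n59379 = n58192 := d10_2 (iv F260499) D59379 (iv D58192)
theorem F265232 : act 6 n59379 = n58199 := d13_2 (iv F260500) D59379 (iv D58199)
def n59380 : Q := act 2 n58189
theorem D59380 : act 2 n58189 = n59380 := rfl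
theorem F265233 : act 5 n59380 = n58200 := d19_2 (iv F260502) D59380 (iv D58200)
theorem F265234 : act 6 n59380 = n58190 := d20_2 (iv F260503) D59380 (iv D58190)
theorem F265235 : act 9 n59380 = n58208 := d23_2 (iv F260504) D59380 (iv D58208)
def n59381 : Q := act 4 n58189
theorem D59381 : act 4 n58189 = n59381 := rfl
theorem F265236 : act 1 n59381 = n58223 := d11_1 D59381 (iv D58223) (iv F260501)
theorem F265237 : act 3 n59381 = n59381 := d24_1 D59381 (iv D59381) (iv D58189) F255660 D58189
theorem F265238 : act 6 n59381 = n58191 := d31_2 (iv F260503) D59381 (iv D58191)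
theorem F265239 : act 9 n59381 = n58209 := d34_2 (iv F260504) D59381 (iv D58209)
def n59382 : Q := act 1 n58190
theorem D59382 : act 1 n58190 = n59382 := rfl
theorem F265240 : act 5 n59382 = n58192 := d12_2 (iv F260505) D59382 (iv D58192)
def n59383 : Q := act 4 n58190
theorem D59383 : act 4 n58190 = n59383 := rfl
theorem F265241 : act 2 n59383 = n58191 := d18_1 D59383 (iv D58191) D58190
theorem F265242 : act 5 n59383 = n58286 := d30_2 (iv F260505) D59383 (iv D58286) F255866 (iv F255665)
def n59384 : Q := act 0 n58192
theorem D59384 : act 0 n58192 = n59384 := rfl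
theorem F265243 : act 4 n59384 = n58287 := d3_2 (iv F260508) D59384 (iv D58287)
theorem F265244 : act 6 n59384 = n58202 := d5_2 (iv F260509) D59384 (iv D58202)
def n59385 : Q := act 2 n58193
theorem D59385 : act 2 n58193 = n59385 := rfl
theorem F265245 : act 3 n59385 = n58225 := d17_2 D58193 D59385 (iv D58225) (iv D57052) (iv F255668)
theorem F265246 : act 5 n59385 = n58194 := d19_2 (iv F260511) D59385 (iv D58194)
theorem F265247 : act 7 n59385 = n58205 := d21_2 (iv F260512) D59385 (iv D58205)
def n59386 : Q := act 4 n58193
theorem D59386 : act 4 n58193 = n59386 := rfl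
theorem F265248 : act 1 n59386 = n58198 := d11_1 D59386 (iv D58198) (iv F260510)
theorem F265249 : act 3 n59386 = n58215 := d24_1 D59386 (iv D58215) (iv D57041) (iv F255669) D58193
theorem F265250 : act 7 n59386 = n58206 := d32_2 (iv F260512) D59386 (iv D58206)
def n59387 : Q := act 1 n58194
theorem D59387 : act 1 n58194 = n59387 := rfl
theorem F265251 : act 2 n59387 = n58199 := d9_2 D58194 D59387 (iv D58199) (iv D57026) (iv F255672)
theorem F265252 : act 7 n59387 = n58207 := d14_2 (iv F260513) D59387 (iv D58207)
def n59388 : Q := act 2 n58195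
theorem D59388 : act 2 n58195 = n59388 := rfl
theorem F265253 : act 5 n59388 = n58196 := d19_2 (iv F260514) D59388 (iv D58196)
theorem F265254 : act 7 n59388 = n58208 := d21_2 (iv F260515) D59388 (iv D58208)
theorem F265255 : act 8 n59388 = n58197 := d22_2 (iv F260516) D59388 (iv D58197)
def n59389 : Q := act 4 n58195
theorem D59389 : act 4 n58195 = n59389 := rfl
theorem F265256 : act 3 n59389 = n59389 := d24_1 D59389 (iv D59389) (iv D58195) F255674 D58195
theorem F265257 : act 7 n59389 = n58209 := d32_2 (iv F260515) D59389 (iv D58209)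
theorem F265258 : act 8 n59389 = n58198 := d33_2 (iv F260516) D59389 (iv D58198)
def n59390 : Q := act 1 n58196
theorem D59390 : act 1 n58196 = n59390 := rfl
theorem F265259 : act 7 n59390 = n58210 := d14_2 (iv F260517) D59390 (iv D58210)
theorem F265260 : act 8 n59390 = n58199 := d15_2 (iv F260518) D59390 (iv D58199)
def n59391 : Q := act 1 n58197
theorem D59391 : act 1 n58197 = n59391 := rfl
theorem F265261 : act 3 n59391 = n58201 := d10_2 (iv F260519) D59391 (iv D58201)
theorem F265262 : act 5 n59391 = n58199 := d12_2 (iv F260520) D59391 (iv D58199)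
theorem F265263 : act 7 n59391 = n58211 := d14_2 (iv F260521) D59391 (iv D58211)
def n59392 : Q := act 4 n58197
theorem D59392 : act 4 n58197 = n59392 := rfl
theorem F265264 : act 2 n59392 = n58198 := d18_1 D59392 (iv D58198) D58197
theorem F265265 : act 7 n59392 = n58212 := d32_2 (iv F260521) D59392 (iv D58212)
def n59393 : Q := act 0 n58199
theorem D59393 : act 0 n58199 = n59393 := rfl
theorem F265266 : act 3 n59393 = n58202 := d2_2 (iv F260524) D59393 (iv D58202)
theorem F265267 : act 7 n59393 = n58213 := d6_2 (iv F260525) D59393 (iv D58213)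
def n59394 : Q := act 1 n58200
theorem D59394 : act 1 n58200 = n59394 := rfl
theorem F265268 : act 2 n59394 = n58224 := d9_2 D58200 D59394 (iv D58224) (iv D57051) (iv F255683)
theorem F265269 : act 6 n59394 = n58201 := d13_2 (iv F260526) D59394 (iv D58201)
theorem F265270 : act 9 n59394 = n58210 := d16_2 (iv F260527) D59394 (iv D58210)
def n59395 : Q := act 0 n58201
theorem D59395 : act 0 n58201 = n59395 := rfl
theorem F265271 : act 2 n59395 = n58227 := d1_2 (iv F260528) D59395 (iv D58227)
theorem F265272 : act 5 n59395 = n58202 := d4_2 (iv F260529) D59395 (iv D58202)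
theorem F265273 : act 7 n59395 = n58214 := d6_2 (iv F260530) D59395 (iv D58214)
def n59396 : Q := act 2 n58203
theorem D59396 : act 2 n58203 = n59396 := rfl
theorem F265274 : act 0 n59396 = n58248 := d1_1 D59396 (iv D58248) (iv F260533)
theorem F265275 : act 5 n59396 = n58204 := d19_2 (iv F260535) D59396 (iv D58204)
theorem F265276 : act 8 n59396 = n58205 := d22_2 (iv F260536) D59396 (iv D58205)
theorem F265277 : act 9 n59396 = n58222 := d23_2 (iv F260537) D59396 (iv D58222)
def n59397 : Q := act 4 n58203
theorem D59397 : act 4 n58203 = n59397 := rfl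
theorem F265278 : act 0 n59397 = n58249 := d3_1 D59397 (iv D58249) (iv F260533)
theorem F265279 : act 1 n59397 = n58209 := d11_1 D59397 (iv D58209) (iv F260534)
theorem F265280 : act 3 n59397 = n59397 := d24_1 D59397 (iv D59397) (iv D58203) F255692 D58203
theorem F265281 : act 8 n59397 = n58206 := d33_2 (iv F260536) D59397 (iv D58206)
theorem F265282 : act 9 n59397 = n58223 := d34_2 (iv F260537) D59397 (iv D58223)
def n59398 : Q := act 1 n58204
theorem D59398 : act 1 n58204 = n59398 := rfl
theorem F265283 : act 2 n59398 = n58210 := d9_2 D58204 D59398 (iv D58210) (iv D57035) (iv F255696)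
theorem F265284 : act 6 n59398 = n58219 := d13_2 (iv F260539) D59398 (iv D58219)
theorem F265285 : act 8 n59398 = n58207 := d15_2 (iv F260540) D59398 (iv D58207)
theorem F265286 : act 9 n59398 = n58224 := d16_2 (iv F260541) D59398 (iv D58224)
def n59399 : Q := act 1 n58205
theorem D59399 : act 1 n58205 = n59399 := rfl
theorem F265287 : act 2 n59399 = n58211 := d9_2 D58205 D59399 (iv D58211) (iv D57036) (iv F255700)
theorem F265288 : act 3 n59399 = n58230 := d10_2 (iv F260542) D59399 (iv D58230)
theorem F265289 : act 5 n59399 = n58207 := d12_2 (iv F260543) D59399 (iv D58207)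
def n59400 : Q := act 4 n58205
theorem D59400 : act 4 n58205 = n59400 := rfl
theorem F265290 : act 2 n59400 = n58206 := d18_1 D59400 (iv D58206) D58205
def n59401 : Q := act 0 n58207
theorem D59401 : act 0 n58207 = n59401 := rfl
theorem F265291 : act 2 n59401 = n58213 := d1_2 (iv F260546) D59401 (iv D58213)
def n59402 : Q := act 1 n58208
theorem D59402 : act 1 n58208 = n59402 := rfl
theorem F265292 : act 5 n59402 = n58210 := d12_2 (iv F260547) D59402 (iv D58210)
theorem F265293 : act 8 n59402 = n58211 := d15_2 (iv F260548) D59402 (iv D58211)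
def n59403 : Q := act 4 n58208
theorem D59403 : act 4 n58208 = n59403 := rfl
theorem F265294 : act 2 n59403 = n58209 := d18_1 D59403 (iv D58209) D58208
theorem F265295 : act 8 n59403 = n58212 := d33_2 (iv F260548) D59403 (iv D58212)
def n59404 : Q := act 0 n58210
theorem D59404 : act 0 n58210 = n59404 := rfl
theorem F265296 : act 8 n59404 = n58213 := d7_2 (iv F260551) D59404 (iv D58213)
def n59405 : Q := act 0 n58211
theorem D59405 : act 0 n58211 = n59405 := rfl
theorem F265297 : act 3 n59405 = n58214 := d2_2 (iv F260552) D59405 (iv D58214)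
theorem F265298 : act 5 n59405 = n58213 := d4_2 (iv F260553) D59405 (iv D58213)
def n59406 : Q := act 4 n58211
theorem D59406 : act 4 n58211 = n59406 := rfl
theorem F265299 : act 1 n59406 = n58212 := d11_1 D59406 (iv D58212) D58211
def n59407 : Q := act 1 n58216
theorem D59407 : act 1 n58216 = n59407 := rfl
theorem F265300 : act 3 n59407 = n58218 := d10_2 (iv F260562) D59407 (iv D58218)
def n59408 : Q := act 4 n58216
theorem D59408 : act 4 n58216 = n59408 := rfl
theorem F265301 : act 0 n59408 = n58244 := d3_1 D59408 (iv D58244) (iv F260561)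
theorem F265302 : act 2 n59408 = n58217 := d18_1 D59408 (iv D58217) D58216
def n59409 : Q := act 0 n58218
theorem D59409 : act 0 n58218 = n59409 := rfl
theorem F265303 : act 1 n59409 = n58245 := d0_2 D58218 D59409 (iv D58245) (iv D57072) (iv F255723)
theorem F265304 : act 8 n59409 = n58220 := d7_2 (iv F260565) D59409 (iv D58220)
def n59410 : Q := act 0 n58219
theorem D59410 : act 0 n58219 = n59410 := rfl
theorem F265305 : act 1 n59410 = n58254 := d0_2 D58219 D59410 (iv D58254) (iv D57080) (iv F255725)
theorem F265306 : act 7 n59410 = n58220 := d6_2 (iv F260566) D59410 (iv D58220)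
theorem F265307 : act 9 n59410 = n58227 := d8_2 (iv F260567) D59410 (iv D58227)
def n59411 : Q := act 1 n58221
theorem D59411 : act 1 n58221 = n59411 := rfl
theorem F265308 : act 3 n59411 = n58224 := d10_2 (iv F260571) D59411 (iv D58224)
theorem F265309 : act 6 n59411 = n58226 := d13_2 (iv F260572) D59411 (iv D58226)
def n59412 : Q := act 1 n58222
theorem D59412 : act 1 n58222 = n59412 := rfl
theorem F265310 : act 5 n59412 = n58224 := d12_2 (iv F260574) D59412 (iv D58224)
def n59413 : Q := act 4 n58222
theorem D59413 : act 4 n58222 = n59413 := rfl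
theorem F265311 : act 0 n59413 = n58286 := d3_1 D59413 (iv D58286) (iv F260573)
theorem F265312 : act 2 n59413 = n58223 := d18_1 D59413 (iv D58223) D58222
def n59414 : Q := act 0 n58224
theorem D59414 : act 0 n58224 = n59414 := rfl
theorem F265313 : act 1 n59414 = n58287 := d0_2 D58224 D59414 (iv D58287) (iv D57112) (iv F255733)
theorem F265314 : act 6 n59414 = n58227 := d5_2 (iv F260577) D59414 (iv D58227)
def n59415 : Q := act 1 n58225
theorem D59415 : act 1 n58225 = n59415 := rfl
theorem F265315 : act 2 n59415 = n58226 := d9_2 D58225 D59415 (iv D58226) (iv D57053) (iv F255735)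
theorem F265316 : act 7 n59415 = n58230 := d14_2 (iv F260578) D59415 (iv D58230)
def n59416 : Q := act 0 n58226
theorem D59416 : act 0 n58226 = n59416 := rfl
theorem F265317 : act 1 n59416 = n58295 := d0_2 D58226 D59416 (iv D58295) (iv D57118) (iv F255737)
theorem F265318 : act 3 n59416 = n58227 := d2_2 (iv F260579) D59416 (iv D58227)
theorem F265319 : act 7 n59416 = n58233 := d6_2 (iv F260580) D59416 (iv D58233)
def n59417 : Q := act 1 n58228
theorem D59417 : act 1 n58228 = n59417 := rfl
theorem F265320 : act 2 n59417 = n58303 := d9_2 D58228 D59417 (iv D58303) (iv D57127) (iv F255742)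
def n59418 : Q := act 1 n58229
theorem D59418 : act 1 n58229 = n59418 := rfl
theorem F265321 : act 2 n59418 = n58232 := d9_2 D58229 D59418 (iv D58232) (iv D57059) (iv F255743)
theorem F265322 : act 8 n59418 = n58230 := d15_2 (iv F260584) D59418 (iv D58230)
def n59419 : Q := act 0 n58230
theorem D59419 : act 0 n58230 = n59419 := rfl
theorem F265323 : act 2 n59419 = n58233 := d1_2 (iv F260585) D59419 (iv D58233)
def n59420 : Q := act 1 n58231
theorem D59420 : act 1 n58231 = n59420 := rfl
theorem F265324 : act 9 n59420 = n58232 := d16_2 (iv F260587) D59420 (iv D58232)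
def n59421 : Q := act 0 n58232
theorem D59421 : act 0 n58232 = n59421 := rfl
theorem F265325 : act 1 n59421 = n58317 := d0_2 D58232 D59421 (iv D58317) (iv D57138) (iv F255747)
theorem F265326 : act 8 n59421 = n58233 := d7_2 (iv F260588) D59421 (iv D58233)
def n59422 : Q := act 2 n58234
theorem D59422 : act 2 n58234 = n59422 := rfl
theorem F265327 : act 0 n59422 = n58237 := d1_1 D59422 (iv D58237) (iv F260591)
theorem F265328 : act 7 n59422 = n58304 := d21_2 (iv F260593) D59422 (iv D58304)
def n59423 : Q := act 4 n58234
theorem D59423 : act 4 n58234 = n59423 := rfl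
theorem F265329 : act 0 n59423 = n58238 := d3_1 D59423 (iv D58238) (iv F260591)
theorem F265330 : act 1 n59423 = n58319 := d11_1 D59423 (iv D58319) (iv F260592)
theorem F265331 : act 3 n59423 = n58235 := d24_1 D59423 (iv D58235) (iv D57063) (iv F255753) D58234
theorem F265332 : act 7 n59423 = n58305 := d32_2 (iv F260593) D59423 (iv D58305)
def n59424 : Q := act 2 n58236
theorem D59424 : act 2 n58236 = n59424 := rfl
theorem F265333 : act 8 n59424 = n58237 := d22_2 (iv F260599) D59424 (iv D58237)
def n59425 : Q := act 4 n58236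
theorem D59425 : act 4 n58236 = n59425 := rfl
theorem F265334 : act 1 n59425 = n58242 := d11_1 D59425 (iv D58242) (iv F260598)
theorem F265335 : act 3 n59425 = n58332 := d24_1 D59425 (iv D58332) (iv D57160) (iv F255761) D58236
theorem F265336 : act 8 n59425 = n58238 := d33_2 (iv F260599) D59425 (iv D58238)
def n59426 : Q := act 1 n58237
theorem D59426 : act 1 n58237 = n59426 := rfl
theorem F265337 : act 2 n59426 = n58243 := d9_2 D58237 D59426 (iv D58243) (iv D57070) (iv F255762)
def n59427 : Q := act 4 n58237
theorem D59427 : act 4 n58237 = n59427 := rfl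
theorem F265338 : act 2 n59427 = n58238 := d18_1 D59427 (iv D58238) D58237
def n59428 : Q := act 3 n58239
theorem D59428 : act 3 n58239 = n59428 := rfl
def n59429 : Q := act 2 n58240
theorem D59429 : act 2 n58240 = n59429 := rfl
theorem F265339 : act 3 n59429 = n58267 := d17_2 D58240 D59429 (iv D58267) (iv D57091) (iv F255767)
theorem F265340 : act 9 n59429 = n58241 := d23_2 (iv F260604) D59429 (iv D58241)
def n59430 : Q := act 4 n58240
theorem D59430 : act 4 n58240 = n59430 := rfl
theorem F265341 : act 3 n59430 = n58333 := d24_1 D59430 (iv D58333) (iv D57163) (iv F255768) D58240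
theorem F265342 : act 9 n59430 = n58242 := d34_2 (iv F260604) D59430 (iv D58242)
def n59431 : Q := act 1 n58241
theorem D59431 : act 1 n58241 = n59431 := rfl
theorem F265343 : act 3 n59431 = n58268 := d10_2 (iv F260605) D59431 (iv D58268)
theorem F265344 : act 8 n59431 = n58243 := d15_2 (iv F260606) D59431 (iv D58243)
def n59432 : Q := act 4 n58241
theorem D59432 : act 4 n58241 = n59432 := rfl
theorem F265345 : act 2 n59432 = n58242 := d18_1 D59432 (iv D58242) D58241
theorem F265346 : act 8 n59432 = n58244 := d33_2 (iv F260606) D59432 (iv D58244)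
def n59433 : Q := act 0 n58243
theorem D59433 : act 0 n58243 = n59433 := rfl
theorem F265347 : act 3 n59433 = n58245 := d2_2 (iv F260609) D59433 (iv D58245)
def n59434 : Q := act 4 n58243
theorem D59434 : act 4 n58243 = n59434 := rfl
theorem F265348 : act 1 n59434 = n58244 := d11_1 D59434 (iv D58244) D58243
def n59435 : Q := act 2 n58246
theorem D59435 : act 2 n58246 = n59435 := rfl
theorem F265349 : act 3 n59435 = n58248 := d17_2 D58246 D59435 (iv D58248) (iv D57075) (iv F255774)
theorem F265350 : act 5 n59435 = n58247 := d19_2 (iv F260612) D59435 (iv D58247)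
theorem F265351 : act 9 n59435 = n58280 := d23_2 (iv F260613) D59435 (iv D58280)
def n59436 : Q := act 4 n58246
theorem D59436 : act 4 n58246 = n59436 := rfl
theorem F265352 : act 3 n59436 = n59436 := d24_1 D59436 (iv D59436) (iv D58246) F255775 D58246
theorem F265353 : act 9 n59436 = n58281 := d34_2 (iv F260613) D59436 (iv D58281)
def n59437 : Q := act 1 n58247
theorem D59437 : act 1 n58247 = n59437 := rfl
theorem F265354 : act 3 n59437 = n58250 := d10_2 (iv F260614) D59437 (iv D58250)
theorem F265355 : act 6 n59437 = n58253 := d13_2 (iv F260615) D59437 (iv D58253)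
theorem F265356 : act 9 n59437 = n58282 := d16_2 (iv F260616) D59437 (iv D58282)
def n59438 : Q := act 1 n58248
theorem D59438 : act 1 n58248 = n59438 := rfl
theorem F265357 : act 5 n59438 = n58250 := d12_2 (iv F260617) D59438 (iv D58250)
theorem F265358 : act 9 n59438 = n58285 := d16_2 (iv F260618) D59438 (iv D58285)
def n59439 : Q := act 4 n58248
theorem D59439 : act 4 n58248 = n59439 := rfl
theorem F265359 : act 2 n59439 = n58249 := d18_1 D59439 (iv D58249) D58248
theorem F265360 : act 9 n59439 = n58286 := d34_2 (iv F260618) D59439 (iv D58286)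
def n59440 : Q := act 0 n58250
theorem D59440 : act 0 n58250 = n59440 := rfl
theorem F265361 : act 6 n59440 = n58254 := d5_2 (iv F260621) D59440 (iv D58254)
theorem F265362 : act 9 n59440 = n58287 := d8_2 (iv F260622) D59440 (iv D58287)
def n59441 : Q := act 1 n58251
theorem D59441 : act 1 n58251 = n59441 := rfl
theorem F265363 : act 2 n59441 = n58253 := d9_2 D58251 D59441 (iv D58253) (iv D57079) (iv F255784)
theorem F265364 : act 4 n59441 = n58316 := d11_2 (iv F260623) D59441 (iv D58316)
theorem F265365 : act 7 n59441 = n58261 := d14_2 (iv F260624) D59441 (iv D58261)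
theorem F265366 : act 9 n59441 = n58290 := d16_2 (iv F260625) D59441 (iv D58290)
def n59442 : Q := act 1 n58252
theorem D59442 : act 1 n58252 = n59442 := rfl
theorem F265367 : act 7 n59442 = n58268 := d14_2 (iv F260626) D59442 (iv D58268)
theorem F265368 : act 8 n59442 = n58253 := d15_2 (iv F260627) D59442 (iv D58253)
def n59443 : Q := act 0 n58253
theorem D59443 : act 0 n58253 = n59443 := rfl
theorem F265369 : act 3 n59443 = n58254 := d2_2 (iv F260628) D59443 (iv D58254)
theorem F265370 : act 7 n59443 = n58274 := d6_2 (iv F260629) D59443 (iv D58274)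
theorem F265371 : act 9 n59443 = n58295 := d8_2 (iv F260630) D59443 (iv D58295)
def n59444 : Q := act 1 n58255
theorem D59444 : act 1 n58255 = n59444 := rfl
theorem F265372 : act 9 n59444 = n58303 := d16_2 (iv F260634) D59444 (iv D58303)
def n59445 : Q := act 2 n58256
theorem D59445 : act 2 n58256 = n59445 := rfl
theorem F265373 : act 3 n59445 = n58258 := d17_2 D58256 D59445 (iv D58258) (iv D57084) (iv F255797)
def n59446 : Q := act 4 n58256
theorem D59446 : act 4 n58256 = n59446 := rfl
theorem F265374 : act 3 n59446 = n58334 := d24_1 D59446 (iv D58334) (iv D57165) (iv F255798) D58256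
def n59447 : Q := act 2 n58257
theorem D59447 : act 2 n58257 = n59447 := rfl
theorem F265375 : act 5 n59447 = n58258 := d19_2 (iv F260636) D59447 (iv D58258)
theorem F265376 : act 8 n59447 = n58259 := d22_2 (iv F260637) D59447 (iv D58259)
def n59448 : Q := act 4 n58257
theorem D59448 : act 4 n58257 = n59448 := rfl
theorem F265377 : act 1 n59448 = n58266 := d11_1 D59448 (iv D58266) (iv F260635)
theorem F265378 : act 3 n59448 = n59448 := d24_1 D59448 (iv D59448) (iv D58257) F255800 D58257
theorem F265379 : act 8 n59448 = n58260 := d33_2 (iv F260637) D59448 (iv D58260)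
def n59449 : Q := act 1 n58258
theorem D59449 : act 1 n58258 = n59449 := rfl
theorem F265380 : act 2 n59449 = n58268 := d9_2 D58258 D59449 (iv D58268) (iv D57092) (iv F255802)
theorem F265381 : act 8 n59449 = n58261 := d15_2 (iv F260638) D59449 (iv D58261)
def n59450 : Q := act 1 n58259
theorem D59450 : act 1 n58259 = n59450 := rfl
theorem F265382 : act 2 n59450 = n58272 := d9_2 D58259 D59450 (iv D58272) (iv D57095) (iv F255804)
theorem F265383 : act 5 n59450 = n58261 := d12_2 (iv F260639) D59450 (iv D58261)
theorem F265384 : act 9 n59450 = n58306 := d16_2 (iv F260640) D59450 (iv D58306)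
def n59451 : Q := act 4 n58259
theorem D59451 : act 4 n58259 = n59451 := rfl
theorem F265385 : act 2 n59451 = n58260 := d18_1 D59451 (iv D58260) D58259
theorem F265386 : act 9 n59451 = n58307 := d34_2 (iv F260640) D59451 (iv D58307)
def n59452 : Q := act 0 n58261
theorem D59452 : act 0 n58261 = n59452 := rfl
theorem F265387 : act 2 n59452 = n58274 := d1_2 (iv F260644) D59452 (iv D58274)
theorem F265388 : act 9 n59452 = n58308 := d8_2 (iv F260645) D59452 (iv D58308)
def n59453 : Q := act 3 n58262
theorem D59453 : act 3 n58262 = n59453 := rfl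
theorem F265389 : act 6 n59453 = n58264 := d26_2 (iv F260647) D59453 (iv D58264)
theorem F265390 : act 8 n59453 = n58309 := d28_2 D58262 D59453 (iv D58309) (iv D57132) (iv F255808)
theorem F265391 : act 9 n59453 = n58263 := d29_2 (iv F260648) D59453 (iv D58263)
def n59454 : Q := act 2 n58263
theorem D59454 : act 2 n58263 = n59454 := rfl
theorem F265392 : act 6 n59454 = n58265 := d20_2 (iv F260649) D59454 (iv D58265)
theorem F265393 : act 8 n59454 = n58270 := d22_2 (iv F260650) D59454 (iv D58270)
def n59455 : Q := act 4 n58263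
theorem D59455 : act 4 n58263 = n59455 := rfl
theorem F265394 : act 3 n59455 = n59455 := d24_1 D59455 (iv D59455) (iv D58263) F255811 D58263
theorem F265395 : act 6 n59455 = n58266 := d31_2 (iv F260649) D59455 (iv D58266)
theorem F265396 : act 8 n59455 = n58271 := d33_2 (iv F260650) D59455 (iv D58271)
def n59456 : Q := act 2 n58264
theorem D59456 : act 2 n58264 = n59456 := rfl
theorem F265397 : act 5 n59456 = n58267 := d19_2 (iv F260651) D59456 (iv D58267)
theorem F265398 : act 8 n59456 = n58312 := d22_2 (iv F260652) D59456 (iv D58312)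
theorem F265399 : act 9 n59456 = n58265 := d23_2 (iv F260653) D59456 (iv D58265)
def n59457 : Q := act 4 n58264
theorem D59457 : act 4 n58264 = n59457 := rfl
theorem F265400 : act 3 n59457 = n59457 := d24_1 D59457 (iv D59457) (iv D58264) F255813 D58264
theorem F265401 : act 8 n59457 = n58313 := d33_2 (iv F260652) D59457 (iv D58313)
theorem F265402 : act 9 n59457 = n58266 := d34_2 (iv F260653) D59457 (iv D58266)
def n59458 : Q := act 1 n58265
theorem D59458 : act 1 n58265 = n59458 := rfl
theorem F265403 : act 5 n59458 = n58268 := d12_2 (iv F260654) D59458 (iv D58268)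
theorem F265404 : act 8 n59458 = n58272 := d15_2 (iv F260655) D59458 (iv D58272)
def n59459 : Q := act 4 n58265
theorem D59459 : act 4 n58265 = n59459 := rfl
theorem F265405 : act 2 n59459 = n58266 := d18_1 D59459 (iv D58266) D58265
theorem F265406 : act 8 n59459 = n58273 := d33_2 (iv F260655) D59459 (iv D58273)
def n59460 : Q := act 1 n58267
theorem D59460 : act 1 n58267 = n59460 := rfl
theorem F265407 : act 8 n59460 = n58316 := d15_2 (iv F260658) D59460 (iv D58316)
theorem F265408 : act 9 n59460 = n58268 := d16_2 (iv F260659) D59460 (iv D58268)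
def n59461 : Q := act 0 n58268
theorem D59461 : act 0 n58268 = n59461 := rfl
theorem F265409 : act 8 n59461 = n58274 := d7_2 (iv F260660) D59461 (iv D58274)
def n59462 : Q := act 2 n58269
theorem D59462 : act 2 n58269 = n59462 := rfl
theorem F265410 : act 3 n59462 = n58275 := d17_2 D58269 D59462 (iv D58275) (iv D57098) (iv F255821)
theorem F265411 : act 7 n59462 = n58270 := d21_2 (iv F260661) D59462 (iv D58270)
theorem F265412 : act 9 n59462 = n58318 := d23_2 (iv F260662) D59462 (iv D58318)
def n59463 : Q := act 4 n58269
theorem D59463 : act 4 n58269 = n59463 := rfl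
theorem F265413 : act 3 n59463 = n58279 := d24_1 D59463 (iv D58279) (iv D57105) (iv F255822) D58269
theorem F265414 : act 7 n59463 = n58271 := d32_2 (iv F260661) D59463 (iv D58271)
theorem F265415 : act 9 n59463 = n58319 := d34_2 (iv F260662) D59463 (iv D58319)
def n59464 : Q := act 1 n58270
theorem D59464 : act 1 n58270 = n59464 := rfl
theorem F265416 : act 3 n59464 = n58276 := d10_2 (iv F260663) D59464 (iv D58276)
theorem F265417 : act 6 n59464 = n58272 := d13_2 (iv F260664) D59464 (iv D58272)
theorem F265418 : act 9 n59464 = n58320 := d16_2 (iv F260665) D59464 (iv D58320)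
def n59465 : Q := act 4 n58270
theorem D59465 : act 4 n58270 = n59465 := rfl
theorem F265419 : act 2 n59465 = n58271 := d18_1 D59465 (iv D58271) D58270
theorem F265420 : act 6 n59465 = n58273 := d31_2 (iv F260664) D59465 (iv D58273)
theorem F265421 : act 9 n59465 = n58321 := d34_2 (iv F260665) D59465 (iv D58321)
def n59466 : Q := act 5 n58271
theorem D59466 : act 5 n58271 = n59466 := rfl
theorem F265422 : act 3 n59466 = n58278 := d25_1 D59466 F260683 (iv F260666)
theorem F265423 : act 9 n59466 = n58322 := d38_2 (iv F260668) D59466 (iv D58322)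
def n59467 : Q := act 0 n58272
theorem D59467 : act 0 n58272 = n59467 := rfl
theorem F265424 : act 3 n59467 = n58277 := d2_2 (iv F260669) D59467 (iv D58277)
theorem F265425 : act 5 n59467 = n58274 := d4_2 (iv F260670) D59467 (iv D58274)
theorem F265426 : act 9 n59467 = n58323 := d8_2 (iv F260671) D59467 (iv D58323)
def n59468 : Q := act 4 n58272
theorem D59468 : act 4 n58272 = n59468 := rfl
theorem F265427 : act 1 n59468 = n58273 := d11_1 D59468 (iv D58273) D58272
theorem F265428 : act 9 n59468 = n58324 := d34_2 (iv F260671) D59468 (iv D58324)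
def n59469 : Q := act 1 n58275
theorem D59469 : act 1 n58275 = n59469 := rfl
theorem F265429 : act 7 n59469 = n58276 := d14_2 (iv F260676) D59469 (iv D58276)
theorem F265430 : act 9 n59469 = n58328 := d16_2 (iv F260677) D59469 (iv D58328)
def n59470 : Q := act 0 n58276
theorem D59470 : act 0 n58276 = n59470 := rfl
theorem F265431 : act 6 n59470 = n58277 := d5_2 (iv F260678) D59470 (iv D58277)
theorem F265432 : act 9 n59470 = n58329 := d8_2 (iv F260679) D59470 (iv D58329)
def n59471 : Q := act 1 n58280
theorem D59471 : act 1 n58280 = n59471 := rfl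
theorem F265433 : act 3 n59471 = n58285 := d10_2 (iv F260690) D59471 (iv D58285)
theorem F265434 : act 5 n59471 = n58282 := d12_2 (iv F260691) D59471 (iv D58282)
def n59472 : Q := act 4 n58280
theorem D59472 : act 4 n58280 = n59472 := rfl
theorem F265435 : act 2 n59472 = n58281 := d18_1 D59472 (iv D58281) D58280
def n59473 : Q := act 0 n58282
theorem D59473 : act 0 n58282 = n59473 := rfl
theorem F265436 : act 3 n59473 = n58287 := d2_2 (iv F260693) D59473 (iv D58287)
theorem F265437 : act 6 n59473 = n58295 := d5_2 (iv F260694) D59473 (iv D58295)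
def n59474 : Q := act 1 n58283
theorem D59474 : act 1 n58283 = n59474 := rfl
theorem F265438 : act 5 n59474 = n58300 := d12_2 (iv F260695) D59474 (iv D58300)
theorem F265439 : act 6 n59474 = n58285 := d13_2 (iv F260696) D59474 (iv D58285)
def n59475 : Q := act 4 n58283
theorem D59475 : act 4 n58283 = n59475 := rfl
theorem F265440 : act 2 n59475 = n58284 := d18_1 D59475 (iv D58284) D58283
theorem F265441 : act 6 n59475 = n58286 := d31_2 (iv F260696) D59475 (iv D58286)
def n59476 : Q := act 0 n58285
theorem D59476 : act 0 n58285 = n59476 := rfl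
theorem F265442 : act 5 n59476 = n58287 := d4_2 (iv F260699) D59476 (iv D58287)
def n59477 : Q := act 4 n58285
theorem D59477 : act 4 n58285 = n59477 := rfl
theorem F265443 : act 1 n59477 = n58286 := d11_1 D59477 (iv D58286) D58285
def n59478 : Q := act 3 n58286
theorem D59478 : act 3 n58286 = n59478 := rfl
theorem F265444 : act 2 n59478 = n59478 := d17_1 D59478 (iv D59478) F260700 F255867 (iv F260700)
def n59479 : Q := act 1 n58288
theorem D59479 : act 1 n58288 = n59479 := rfl
theorem F265445 : act 2 n59479 = n58292 := d9_2 D58288 D59479 (iv D58292) (iv D57116) (iv F255869)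
theorem F265446 : act 5 n59479 = n58290 := d12_2 (iv F260702) D59479 (iv D58290)
theorem F265447 : act 7 n59479 = n58306 := d14_2 (iv F260703) D59479 (iv D58306)
theorem F265448 : act 8 n59479 = n58327 := d15_2 (iv F260704) D59479 F260787
def n59480 : Q := act 4 n58288
theorem D59480 : act 4 n58288 = n59480 := rfl
theorem F265449 : act 2 n59480 = n58289 := d18_1 D59480 (iv D58289) D58288
theorem F265450 : act 5 n59480 = n58315 := d30_2 (iv F260702) D59480 (iv D58315) F255918 (iv F255873)
theorem F265451 : act 7 n59480 = n58307 := d32_2 (iv F260703) D59480 (iv D58307)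
theorem F265452 : act 8 n59480 = n58325 := d33_2 (iv F260704) D59480 F260785
def n59481 : Q := act 0 n58290
theorem D59481 : act 0 n58290 = n59481 := rfl
theorem F265453 : act 2 n59481 = n58295 := d1_2 (iv F260710) D59481 (iv D58295)
theorem F265454 : act 4 n59481 = n58317 := d3_2 (iv F260711) D59481 (iv D58317)
theorem F265455 : act 7 n59481 = n58308 := d6_2 (iv F260712) D59481 (iv D58308)
theorem F265456 : act 8 n59481 = n58326 := d7_2 (iv F260713) D59481 F260786
def n59482 : Q := act 0 n58291
theorem D59482 : act 0 n58291 = n59482 := rfl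
theorem F265457 : act 2 n59482 = n58326 := d1_2 (iv F260714) D59482 F260786
theorem F265458 : act 4 n59482 = n58308 := d3_2 (iv F260715) D59482 (iv D58308)
theorem F265459 : act 7 n59482 = n58317 := d6_2 (iv F260716) D59482 (iv D58317)
theorem F265460 : act 8 n59482 = n58295 := d7_2 (iv F260717) D59482 (iv D58295)
def n59483 : Q := act 0 n58292
theorem D59483 : act 0 n58292 = n59483 := rfl
theorem F265461 : act 3 n59483 = n58301 := d2_2 (iv F260718) D59483 (iv D58301)
theorem F265462 : act 5 n59483 = n58295 := d4_2 (iv F260719) D59483 (iv D58295)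
theorem F265463 : act 7 n59483 = n58323 := d6_2 (iv F260720) D59483 (iv D58323)
def n59484 : Q := act 4 n58292
theorem D59484 : act 4 n58292 = n59484 := rfl
theorem F265464 : act 1 n59484 = n58293 := d11_1 D59484 (iv D58293) D58292
theorem F265465 : act 7 n59484 = n58324 := d32_2 (iv F260720) D59484 (iv D58324)
def n59485 : Q := act 5 n58293
theorem D59485 : act 5 n58293 = n59485 := rfl
theorem F265466 : act 2 n59485 = n58294 := d19_1 D59485 (iv D58294) (iv F260721)
theorem F265467 : act 4 n59485 = n58297 := d30_1 D59485 (iv D58297) (iv D57119) (iv F255880) D58293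
theorem F265468 : act 7 n59485 = n58325 := d36_2 (iv F260722) D59485 (iv D58325)
theorem F265469 : act 8 n59485 = n58307 := d37_2 F261646 D59485 (iv F261643)
def n59486 : Q := act 6 n58294
theorem D59486 : act 6 n58294 = n59486 := rfl
theorem F265470 : act 1 n59486 = n58311 := d13_1 D59486 F260760 (iv F260723)
theorem F265471 : act 3 n59486 = n58331 := d26_1 D59486 (iv D58331) (iv F260724)
theorem F265472 : act 4 n59486 = n58298 := d31_1 D59486 (iv D58298) (iv F260725)
theorem F265473 : act 8 n59486 = n58305 := d40_2 (iv F260727) D59486 F260750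
def n59487 : Q := act 4 n58295
theorem D59487 : act 4 n58295 = n59487 := rfl
theorem F265474 : act 0 n59487 = n58296 := d3_1 D59487 (iv D58296) D58295
theorem F265475 : act 2 n59487 = n58317 := d18_1 D59487 (iv F265454) F265453
theorem F265476 : act 7 n59487 = n58326 := d32_2 (iv F260729) D59487 (iv D58326)
theorem F265477 : act 8 n59487 = n58308 := d33_2 F265460 D59487 (iv F265458)
def n59488 : Q := act 5 n58296
theorem D59488 : act 5 n58296 = n59488 := rfl
theorem F265478 : act 1 n59488 = n58297 := d12_1 D59488 (iv D58297) (iv F260730)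
theorem F265479 : act 2 n59488 = n58314 := d19_1 D59488 F260766 (iv F260731)
theorem F265480 : act 7 n59488 = n58327 := d36_2 (iv F260732) D59488 (iv D58327)
theorem F265481 : act 8 n59488 = n58306 := d37_2 (iv F260733) D59488 F260752
def n59489 : Q := act 6 n58297
theorem D59489 : act 6 n58297 = n59489 := rfl
theorem F265482 : act 2 n59489 = n58298 := d20_1 D59489 (iv D58298) (iv F260734)
theorem F265483 : act 8 n59489 = n58304 := d40_2 (iv F260736) D59489 F260747
def n59490 : Q := act 1 n58299
theorem D59490 : act 1 n58299 = n59490 := rfl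
theorem F265484 : act 6 n59490 = n58328 := d13_2 (iv F260740) D59490 (iv D58328)
theorem F265485 : act 7 n59490 = n58300 := d14_2 (iv F260741) D59490 (iv D58300)
def n59491 : Q := act 0 n58300
theorem D59491 : act 0 n58300 = n59491 := rfl
theorem F265486 : act 6 n59491 = n58301 := d5_2 (iv F260742) D59491 (iv D58301)
def n59492 : Q := act 1 n58302
theorem D59492 : act 1 n58302 = n59492 := rfl
theorem F265487 : act 5 n59492 = n58303 := d12_2 (iv F260746) D59492 (iv D58303)
def n59493 : Q := act 0 n58303
theorem D59493 : act 0 n58303 = n59493 := rfl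
theorem F265488 : act 1 n59493 = n58308 := d0_2 D58303 D59493 (iv D58308) (iv D57131) (iv F255904)
def n59494 : Q := act 1 n58304
theorem D59494 : act 1 n58304 = n59494 := rfl
theorem F265489 : act 2 n59494 = n58320 := d9_2 D58304 D59494 (iv D58320) (iv D57140) (iv F255905)
theorem F265490 : act 6 n59494 = n58306 := d13_2 (iv F260747) D59494 (iv D58306)
def n59495 : Q := act 4 n58304
theorem D59495 : act 4 n58304 = n59495 := rfl
theorem F265491 : act 2 n59495 = n58305 := d18_1 D59495 (iv D58305) D58304
theorem F265492 : act 6 n59495 = n58307 := d31_2 (iv F260747) D59495 (iv D58307)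
def n59496 : Q := act 0 n58306
theorem D59496 : act 0 n58306 = n59496 := rfl
theorem F265493 : act 2 n59496 = n58323 := d1_2 (iv F260751) D59496 (iv D58323)
theorem F265494 : act 5 n59496 = n58308 := d4_2 (iv F260752) D59496 (iv D58308)
def n59497 : Q := act 4 n58306
theorem D59497 : act 4 n58306 = n59497 := rfl
theorem F265495 : act 1 n59497 = n58307 := d11_1 D59497 (iv D58307) D58306
theorem F265496 : act 2 n59497 = n58324 := d18_1 D59497 (iv D58324) (iv F260751)
def n59498 : Q := act 3 n58307
theorem D59498 : act 3 n58307 = n59498 := rfl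
theorem F265497 : act 2 n59498 = n58322 := d17_1 D59498 F260780 F255958 (iv F255909) (iv F260753)
theorem F265498 : act 5 n59498 = n58321 := d25_2 F261643 D59498 (iv F261642)
def n59499 : Q := act 2 n58309
theorem D59499 : act 2 n58309 = n59499 := rfl
theorem F265499 : act 6 n59499 = n58312 := d20_2 (iv F260755) D59499 (iv D58312)
theorem F265500 : act 9 n59499 = n58310 := d23_2 (iv F260756) D59499 (iv D58310)
def n59500 : Q := act 4 n58309
theorem D59500 : act 4 n58309 = n59500 := rfl
theorem F265501 : act 3 n59500 = n58335 := d24_1 D59500 (iv D58335) (iv D57167) (iv F255911) D58309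
theorem F265502 : act 6 n59500 = n58313 := d31_2 (iv F260755) D59500 (iv D58313)
theorem F265503 : act 9 n59500 = n58311 := d34_2 (iv F260756) D59500 (iv D58311)
def n59501 : Q := act 1 n58310
theorem D59501 : act 1 n58310 = n59501 := rfl
theorem F265504 : act 6 n59501 = n58314 := d13_2 (iv F260757) D59501 (iv D58314)
theorem F265505 : act 8 n59501 = n58320 := d15_2 (iv F260758) D59501 (iv D58320)
def n59502 : Q := act 4 n58310
theorem D59502 : act 4 n58310 = n59502 := rfl
theorem F265506 : act 2 n59502 = n58311 := d18_1 D59502 (iv D58311) D58310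
theorem F265507 : act 6 n59502 = n58315 := d31_2 (iv F260757) D59502 (iv D58315)
theorem F265508 : act 8 n59502 = n58321 := d33_2 (iv F260758) D59502 (iv D58321)
def n59503 : Q := act 5 n58311
theorem D59503 : act 5 n58311 = n59503 := rfl
theorem F265509 : act 3 n59503 = n58336 := d25_1 D59503 (iv D58336) (iv F260759)
theorem F265510 : act 8 n59503 = n58322 := d37_2 (iv F260761) D59503 (iv D58322)
def n59504 : Q := act 1 n58312
theorem D59504 : act 1 n58312 = n59504 := rfl
theorem F265511 : act 5 n59504 = n58316 := d12_2 (iv F260762) D59504 (iv D58316)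
theorem F265512 : act 9 n59504 = n58314 := d16_2 (iv F260763) D59504 (iv D58314)
def n59505 : Q := act 4 n58312
theorem D59505 : act 4 n58312 = n59505 := rfl
theorem F265513 : act 2 n59505 = n58313 := d18_1 D59505 (iv D58313) D58312
theorem F265514 : act 9 n59505 = n58315 := d34_2 (iv F260763) D59505 (iv D58315)
def n59506 : Q := act 0 n58314
theorem D59506 : act 0 n58314 = n59506 := rfl
theorem F265515 : act 5 n59506 = n58317 := d4_2 (iv F260766) D59506 (iv D58317)
theorem F265516 : act 8 n59506 = n58323 := d7_2 (iv F260767) D59506 (iv D58323)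
def n59507 : Q := act 4 n58314
theorem D59507 : act 4 n58314 = n59507 := rfl
theorem F265517 : act 1 n59507 = n58315 := d11_1 D59507 (iv D58315) D58314
theorem F265518 : act 8 n59507 = n58324 := d33_2 (iv F260767) D59507 (iv D58324)
def n59508 : Q := act 3 n58315
theorem D59508 : act 3 n58315 = n59508 := rfl
theorem F265519 : act 2 n59508 = n58319 := d17_1 D59508 F260774 F255961 (iv F255920) (iv F260768)
theorem F265520 : act 4 n59508 = n58318 := d24_2 D58315 D59508 F260772 (iv F256883) F256882
theorem F265521 : act 7 n59508 = n58321 := d27_2 F261645 D59508 (iv F261642)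
def n59509 : Q := act 0 n58316
theorem D59509 : act 0 n58316 = n59509 := rfl
theorem F265522 : act 9 n59509 = n58317 := d8_2 (iv F260770) D59509 (iv D58317)
def n59510 : Q := act 1 n58318
theorem D59510 : act 1 n58318 = n59510 := rfl
theorem F265523 : act 3 n59510 = n58328 := d10_2 (iv F260772) D59510 (iv D58328)
theorem F265524 : act 7 n59510 = n58320 := d14_2 (iv F260773) D59510 (iv D58320)
def n59511 : Q := act 5 n58319
theorem D59511 : act 5 n58319 = n59511 := rfl
theorem F265525 : act 3 n59511 = n58330 := d25_1 D59511 F260791 (iv F260774)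
theorem F265526 : act 7 n59511 = n58322 := d36_2 (iv F260775) D59511 (iv D58322)
def n59512 : Q := act 0 n58320
theorem D59512 : act 0 n58320 = n59512 := rfl
theorem F265527 : act 3 n59512 = n58329 := d2_2 (iv F260776) D59512 (iv D58329)
theorem F265528 : act 6 n59512 = n58323 := d5_2 (iv F260777) D59512 (iv D58323)
def n59513 : Q := act 4 n58320
theorem D59513 : act 4 n58320 = n59513 := rfl
theorem F265529 : act 1 n59513 = n58321 := d11_1 D59513 (iv D58321) D58320
theorem F265530 : act 6 n59513 = n58324 := d31_2 (iv F260777) D59513 (iv D58324)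
def n59514 : Q := act 4 n58323
theorem D59514 : act 4 n58323 = n59514 := rfl
theorem F265531 : act 0 n59514 = n58324 := d3_1 D59514 (iv D58324) D58323
def n59515 : Q := act 5 n58324
theorem D59515 : act 5 n58324 = n59515 := rfl
theorem F265532 : act 1 n59515 = n58325 := d12_1 D59515 (iv D58325) (iv F260783)
theorem F265533 : act 4 n59515 = n58327 := d30_1 D59515 (iv D58327) (iv D57146) (iv F255930) D58324
def n59516 : Q := act 5 n58326
theorem D59516 : act 5 n58326 = n59516 := rfl
theorem F265534 : act 0 n59516 = n58327 := d4_1 D59516 (iv D58327) (iv F260786)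
def n59517 : Q := act 0 n58328
theorem D59517 : act 0 n58328 = n59517 := rfl
theorem F265535 : act 7 n59517 = n58329 := d6_2 (iv F260788) D59517 (iv D58329)
def n59518 : Q := act 5 n58335
theorem D59518 : act 5 n58335 = n59518 := rfl
theorem F265536 : act 4 n59518 = n59518 := d30_1 D59518 (iv D59518) (iv D58335) F255989 D58335
theorem F265537 : act 8 n59518 = n59518 := d37_2 F260803 D59518 (iv D59518)
theorem F265538 : act 9 n59518 = n58336 := d38_2 (iv F260804) D59518 (iv D58336)
def n59519 : Q := act 2 n58337
theorem D59519 : act 2 n58337 = n59519 := rfl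
theorem F265539 : act 0 n59519 = n58728 := d1_1 D59519 (iv D58728) (iv F260807)
theorem F265540 : act 3 n59519 = n58777 := d17_2 D58337 D59519 (iv D58777) (iv D57605) (iv F256006)
theorem F265541 : act 5 n59519 = n58338 := d19_2 (iv F260809) D59519 (iv D58338)
theorem F265542 : act 6 n59519 = n58666 := d20_2 (iv F260810) D59519 (iv D58666)
theorem F265543 : act 7 n59519 = n58768 := d21_2 (iv F260811) D59519 (iv D58768)
theorem F265544 : act 8 n59519 = n59151 := d22_2 (iv F260812) D59519 (iv D59151)
theorem F265545 : act 9 n59519 = n58344 := d23_2 (iv F260813) D59519 (iv D58344)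
def n59520 : Q := act 4 n58337
theorem D59520 : act 4 n58337 = n59520 := rfl
theorem F265546 : act 0 n59520 = n58729 := d3_1 D59520 (iv D58729) (iv F260807)
theorem F265547 : act 1 n59520 = n58623 := d11_1 D59520 (iv D58623) (iv F260808)
theorem F265548 : act 3 n59520 = n58339 := d24_1 D59520 (iv D58339) (iv D57174) (iv F256007) D58337
theorem F265549 : act 5 n59520 = n58353 := d30_2 (iv F260809) D59520 (iv D58353) F256122 (iv F256014)
theorem F265550 : act 6 n59520 = n58667 := d31_2 (iv F260810) D59520 (iv D58667)
theorem F265551 : act 7 n59520 = n58769 := d32_2 (iv F260811) D59520 (iv D58769)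
theorem F265552 : act 8 n59520 = n59152 := d33_2 (iv F260812) D59520 (iv D59152)
theorem F265553 : act 9 n59520 = n58345 := d34_2 (iv F260813) D59520 (iv D58345)
def n59521 : Q := act 1 n58338
theorem D59521 : act 1 n58338 = n59521 := rfl
theorem F265554 : act 2 n59521 = n58624 := d9_2 D58338 D59521 (iv D58624) (iv D57461) (iv F256013)
theorem F265555 : act 3 n59521 = n59364 := d10_2 (iv F260815) D59521 F265199
theorem F265556 : act 4 n59521 = n58354 := d11_2 (iv F260816) D59521 (iv D58354)
theorem F265557 : act 6 n59521 = n59106 := d13_2 (iv F260817) D59521 (iv D59106)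
theorem F265558 : act 7 n59521 = n59362 := d14_2 (iv F260818) D59521 (iv D59362)
theorem F265559 : act 8 n59521 = n59153 := d15_2 (iv F260819) D59521 (iv D59153)
theorem F265560 : act 9 n59521 = n58346 := d16_2 (iv F260820) D59521 (iv D58346)
def n59522 : Q := act 2 n58340
theorem D59522 : act 2 n58340 = n59522 := rfl
theorem F265561 : act 0 n59522 = n58777 := d1_1 D59522 (iv D58777) (iv F260829)
theorem F265562 : act 3 n59522 = n58728 := d17_2 D58340 D59522 (iv D58728) (iv D57563) (iv F256029)
theorem F265563 : act 4 n59522 = n59331 := d18_2 (iv F260831) D59522 F265137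
theorem F265564 : act 5 n59522 = n58341 := d19_2 (iv F260832) D59522 (iv D58341)
theorem F265565 : act 6 n59522 = n58723 := d20_2 (iv F260833) D59522 (iv D58723)
theorem F265566 : act 7 n59522 = n58344 := d21_2 (iv F260834) D59522 (iv D58344)
theorem F265567 : act 8 n59522 = n58403 := d22_2 (iv F260835) D59522 (iv D58403)
theorem F265568 : act 9 n59522 = n58768 := d23_2 (iv F260836) D59522 (iv D58768)
def n59523 : Q := act 1 n58341
theorem D59523 : act 1 n58341 = n59523 := rfl
theorem F265569 : act 2 n59523 = n58628 := d9_2 D58341 D59523 (iv D58628) (iv D57467) (iv F256036)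
theorem F265570 : act 3 n59523 = n59112 := d10_2 (iv F260838) D59523 (iv D59112)
theorem F265571 : act 4 n59523 = n58356 := d11_2 (iv F260839) D59523 (iv D58356)
theorem F265572 : act 6 n59523 = n59113 := d13_2 (iv F260840) D59523 (iv D59113)
theorem F265573 : act 7 n59523 = n58346 := d14_2 (iv F260841) D59523 (iv D58346)
theorem F265574 : act 8 n59523 = n58405 := d15_2 (iv F260842) D59523 (iv D58405)
theorem F265575 : act 9 n59523 = n59362 := d16_2 (iv F260843) D59523 (iv D59362)
def n59524 : Q := act 2 n58342
theorem D59524 : act 2 n58342 = n59524 := rfl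
theorem F265576 : act 0 n59524 = n58768 := d1_1 D59524 (iv D58768) (iv F260844)
theorem F265577 : act 3 n59524 = n58344 := d17_2 D58342 D59524 (iv D58344) (iv D57179) (iv F256044)
theorem F265578 : act 4 n59524 = n59340 := d18_2 (iv F260846) D59524 F265154
theorem F265579 : act 5 n59524 = n58343 := d19_2 (iv F260847) D59524 (iv D58343)
theorem F265580 : act 6 n59524 = n58679 := d20_2 (iv F260848) D59524 (iv D58679)
theorem F265581 : act 7 n59524 = n58728 := d21_2 (iv F260849) D59524 (iv D58728)
theorem F265582 : act 8 n59524 = n58537 := d22_2 (iv F260850) D59524 (iv D58537)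
theorem F265583 : act 9 n59524 = n58777 := d23_2 (iv F260851) D59524 (iv D58777)
def n59525 : Q := act 1 n58343
theorem D59525 : act 1 n58343 = n59525 := rfl
theorem F265584 : act 2 n59525 = n58736 := d9_2 D58343 D59525 (iv D58736) (iv D57573) (iv F256051)
theorem F265585 : act 3 n59525 = n58346 := d10_2 (iv F260853) D59525 (iv D58346)
theorem F265586 : act 4 n59525 = n59113 := d11_2 (iv F260854) D59525 (iv D59113)
theorem F265587 : act 6 n59525 = n58356 := d13_2 (iv F260855) D59525 (iv D58356)
theorem F265588 : act 7 n59525 = n59112 := d14_2 (iv F260856) D59525 (iv D59112)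
theorem F265589 : act 8 n59525 = n58539 := d15_2 (iv F260857) D59525 (iv D58539)
theorem F265590 : act 9 n59525 = n59364 := d16_2 (iv F260858) D59525 F265199
def n59526 : Q := act 1 n58344
theorem D59526 : act 1 n58344 = n59526 := rfl
theorem F265591 : act 2 n59526 = n58638 := d9_2 D58344 D59526 (iv D58638) (iv D57475) (iv F256058)
theorem F265592 : act 5 n59526 = n58346 := d12_2 (iv F260860) D59526 (iv D58346)
theorem F265593 : act 6 n59526 = n58684 := d13_2 (iv F260861) D59526 (iv D58684)
theorem F265594 : act 8 n59526 = n58421 := d15_2 (iv F260862) D59526 (iv D58421)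
def n59527 : Q := act 4 n58344
theorem D59527 : act 4 n58344 = n59527 := rfl
theorem F265595 : act 0 n59527 = n58779 := d3_1 D59527 (iv D58779) (iv F260859)
theorem F265596 : act 2 n59527 = n58345 := d18_1 D59527 (iv D58345) D58344
theorem F265597 : act 5 n59527 = n58362 := d30_2 (iv F260860) D59527 (iv D58362) F256175 (iv F256063)
theorem F265598 : act 6 n59527 = n58685 := d31_2 (iv F260861) D59527 (iv D58685)
theorem F265599 : act 7 n59527 = n59331 := d32_2 F265566 D59527 (iv F265563)
theorem F265600 : act 8 n59527 = n58422 := d33_2 (iv F260862) D59527 (iv D58422)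
def n59528 : Q := act 0 n58346
theorem D59528 : act 0 n58346 = n59528 := rfl
theorem F265601 : act 1 n59528 = n59368 := d0_2 D58346 D59528 (iv D59368) (iv D58176) (iv F256062)
theorem F265602 : act 2 n59528 = n58640 := d1_2 (iv F260870) D59528 (iv D58640)
theorem F265603 : act 4 n59528 = n58363 := d3_2 (iv F260871) D59528 (iv D58363)
theorem F265604 : act 6 n59528 = n59107 := d5_2 (iv F260872) D59528 (iv D59107)
theorem F265605 : act 8 n59528 = n58423 := d7_2 (iv F260873) D59528 (iv D58423)
def n59529 : Q := act 3 n58347
theorem D59529 : act 3 n58347 = n59529 := rfl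
theorem F265606 : act 0 n59529 = n58759 := d2_1 D59529 F263086 (iv F260874)
theorem F265607 : act 1 n59529 = n59319 := d10_1 D59529 F265106 (iv F260875)
theorem F265608 : act 4 n59529 = n59302 := d24_2 D58347 D59529 F265069 F260336 (iv F256077)
theorem F265609 : act 5 n59529 = n58365 := d25_2 (iv F260877) D59529 (iv D58365)
theorem F265610 : act 6 n59529 = n58689 := d26_2 (iv F260878) D59529 (iv D58689)
theorem F265611 : act 7 n59529 = n59295 := d27_2 (iv F260879) D59529 F265054
theorem F265612 : act 9 n59529 = n59315 := d29_2 (iv F260881) D59529 F265099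
def n59530 : Q := act 8 n58348
theorem D59530 : act 8 n58348 = n59530 := rfl
theorem F265613 : act 0 n59530 = n58786 := d7_1 D59530 (iv D58786) (iv F260882)
theorem F265614 : act 1 n59530 = n58909 := d15_1 D59530 F263703 (iv F260883)
theorem F265615 : act 2 n59530 = n58437 := d22_1 D59530 (iv D58437) (iv F260884)
theorem F265616 : act 4 n59530 = n59530 := d33_1 D59530 (iv D59530) F260885
theorem F265617 : act 5 n59530 = n58366 := d37_1 D59530 (iv D58366) (iv F260886)
theorem F265618 : act 6 n59530 = n58690 := d40_1 D59530 (iv D58690) (iv F260887)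
theorem F265619 : act 7 n59530 = n58809 := d42_1 D59530 F263276 (iv F260888)
def n59531 : Q := act 1 n58349
theorem D59531 : act 1 n58349 = n59531 := rfl
theorem F265620 : act 2 n59531 = n58350 := d9_2 D58349 D59531 (iv D58350) (iv D57186) (iv F256097)
theorem F265621 : act 3 n59531 = n59332 := d10_2 (iv F260891) D59531 (iv D59332)
theorem F265622 : act 4 n59531 = n59126 := d11_2 (iv F260892) D59531 (iv D59126)
theorem F265623 : act 5 n59531 = n59346 := d12_2 (iv F260893) D59531 (iv D59346)
theorem F265624 : act 6 n59531 = n59108 := d13_2 (iv F260894) D59531 (iv D59108)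
theorem F265625 : act 7 n59531 = n59354 := d14_2 (iv F260895) D59531 (iv D59354)
theorem F265626 : act 8 n59531 = n58457 := d15_2 (iv F260896) D59531 (iv D58457)
theorem F265627 : act 9 n59531 = n59117 := d16_2 (iv F260897) D59531 (iv D59117)
def n59532 : Q := act 0 n58350
theorem D59532 : act 0 n58350 = n59532 := rfl
theorem F265628 : act 1 n59532 = n58363 := d0_2 D58350 D59532 (iv D58363) (iv D57198) (iv F256104)
theorem F265629 : act 3 n59532 = n59111 := d2_2 (iv F260898) D59532 (iv D59111)
theorem F265630 : act 4 n59532 = n59368 := d3_2 (iv F260899) D59532 (iv D59368)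
theorem F265631 : act 5 n59532 = n59348 := d4_2 (iv F260900) D59532 (iv D59348)
theorem F265632 : act 6 n59532 = n59110 := d5_2 (iv F260901) D59532 (iv D59110)
theorem F265633 : act 7 n59532 = n59363 := d6_2 (iv F260902) D59532 (iv D59363)
theorem F265634 : act 8 n59532 = n58477 := d7_2 (iv F260903) D59532 (iv D58477)
theorem F265635 : act 9 n59532 = n59125 := d8_2 (iv F260904) D59532 (iv D59125)
def n59533 : Q := act 1 n58351
theorem D59533 : act 1 n58351 = n59533 := rfl
theorem F265636 : act 2 n59533 = n58715 := d9_2 D58351 D59533 (iv D58715) (iv D57553) (iv F256113)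
theorem F265637 : act 3 n59533 = n59106 := d10_2 (iv F260906) D59533 (iv D59106)
theorem F265638 : act 4 n59533 = n59362 := d11_2 (iv F260907) D59533 (iv D59362)
theorem F265639 : act 5 n59533 = n59324 := d12_2 (iv F260908) D59533 (iv D59324)
theorem F265640 : act 6 n59533 = n59364 := d13_2 (iv F260909) D59533 F265199
theorem F265641 : act 7 n59533 = n58354 := d14_2 (iv F260910) D59533 (iv D58354)
theorem F265642 : act 8 n59533 = n59490 := d15_2 (iv F260911) D59533 (iv D59490)
theorem F265643 : act 9 n59533 = n58356 := d16_2 (iv F260912) D59533 (iv D58356)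
def n59534 : Q := act 1 n58352
theorem D59534 : act 1 n58352 = n59534 := rfl
theorem F265644 : act 2 n59534 = n58730 := d9_2 D58352 D59534 (iv D58730) (iv D57564) (iv F256121)
theorem F265645 : act 3 n59534 = n59109 := d10_2 (iv F260914) D59534 (iv D59109)
theorem F265646 : act 5 n59534 = n58354 := d12_2 (iv F260915) D59534 (iv D58354)
theorem F265647 : act 6 n59534 = n59343 := d13_2 (iv F260916) D59534 (iv D59343)
theorem F265648 : act 7 n59534 = n59324 := d14_2 (iv F260917) D59534 (iv D59324)
theorem F265649 : act 8 n59534 = n59474 := d15_2 (iv F260918) D59534 (iv D59474)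
theorem F265650 : act 9 n59534 = n58361 := d16_2 (iv F260919) D59534 (iv D58361)
def n59535 : Q := act 4 n58352
theorem D59535 : act 4 n58352 = n59535 := rfl
theorem F265651 : act 0 n59535 = n59124 := d3_1 D59535 (iv D59124) (iv F260913)
theorem F265652 : act 2 n59535 = n58353 := d18_1 D59535 (iv D58353) D58352
theorem F265653 : act 3 n59535 = n59314 := d24_1 D59535 (iv D59314) F260357 (iv F259730) (iv F260914)
theorem F265654 : act 6 n59535 = n59344 := d31_2 (iv F260916) D59535 (iv D59344)
theorem F265655 : act 7 n59535 = n59325 := d32_2 (iv F260917) D59535 (iv D59325)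
theorem F265656 : act 8 n59535 = n59475 := d33_2 (iv F260918) D59535 (iv D59475)
theorem F265657 : act 9 n59535 = n58362 := d34_2 (iv F260919) D59535 (iv D58362)
def n59536 : Q := act 0 n58354
theorem D59536 : act 0 n58354 = n59536 := rfl
theorem F265658 : act 1 n59536 = n59125 := d0_2 D58354 D59536 (iv D59125) (iv D57934) (iv F256127)
theorem F265659 : act 2 n59536 = n58732 := d1_2 (iv F260927) D59536 (iv D58732)
theorem F265660 : act 3 n59536 = n59110 := d2_2 (iv F260928) D59536 (iv D59110)
theorem F265661 : act 6 n59536 = n59111 := d5_2 (iv F260929) D59536 (iv D59111)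
theorem F265662 : act 8 n59536 = n59491 := d7_2 (iv F260930) D59536 (iv D59491)
theorem F265663 : act 9 n59536 = n58363 := d8_2 (iv F260931) D59536 (iv D58363)
def n59537 : Q := act 0 n58356
theorem D59537 : act 0 n58356 = n59537 := rfl
theorem F265664 : act 1 n59537 = n59363 := d0_2 D58356 D59537 (iv D59363) (iv D58170) (iv F256146)
theorem F265665 : act 2 n59537 = n58748 := d1_2 (iv F260941) D59537 (iv D58748)
theorem F265666 : act 3 n59537 = n59107 := d2_2 (iv F260942) D59537 (iv D59107)
theorem F265667 : act 5 n59537 = n59329 := d4_2 (iv F260943) D59537 (iv D59329)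
theorem F265668 : act 7 n59537 = n58363 := d6_2 (iv F260944) D59537 (iv D58363)
theorem F265669 : act 8 n59537 = n58554 := d7_2 (iv F260945) D59537 (iv D58554)
def n59538 : Q := act 0 n58357
theorem D59538 : act 0 n58357 = n59538 := rfl
theorem F265670 : act 1 n59538 = n59111 := d0_2 D58357 D59538 (iv D59111) (iv D57923) (iv F256151)
theorem F265671 : act 2 n59538 = n59304 := d1_2 (iv F260946) D59538 (iv D59304)
theorem F265672 : act 3 n59538 = n58363 := d2_2 (iv F260947) D59538 (iv D58363)
theorem F265673 : act 4 n59538 = n59114 := d3_2 (iv F260948) D59538 (iv D59114)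
theorem F265674 : act 5 n59538 = n59328 := d4_2 (iv F260949) D59538 (iv D59328)
theorem F265675 : act 6 n59538 = n59125 := d5_2 (iv F260950) D59538 (iv D59125)
theorem F265676 : act 7 n59538 = n59107 := d6_2 (iv F260951) D59538 (iv D59107)
theorem F265677 : act 8 n59538 = n59133 := d7_2 (iv F260952) D59538 (iv D59133)
theorem F265678 : act 9 n59538 = n59110 := d8_2 (iv F260953) D59538 (iv D59110)
def n59539 : Q := act 2 n58358
theorem D59539 : act 2 n58358 = n59539 := rfl
theorem F265679 : act 0 n59539 = n58629 := d1_1 D59539 (iv D58629) (iv F260954)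
theorem F265680 : act 3 n59539 = n58670 := d17_2 D58358 D59539 (iv D58670) (iv D57509) (iv F256161)
theorem F265681 : act 4 n59539 = n59357 := d18_2 (iv F260956) D59539 F265186
theorem F265682 : act 5 n59539 = n58708 := d19_2 (iv F260957) D59539 (iv D58708)
theorem F265683 : act 6 n59539 = n58671 := d20_2 (iv F260958) D59539 (iv D58671)
theorem F265684 : act 7 n59539 = n58359 := d21_2 (iv F260959) D59539 (iv D58359)
theorem F265685 : act 8 n59539 = n58577 := d22_2 (iv F260960) D59539 (iv D58577)
theorem F265686 : act 9 n59539 = n58734 := d23_2 (iv F260961) D59539 (iv D58734)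
def n59540 : Q := act 1 n58359
theorem D59540 : act 1 n58359 = n59540 := rfl
theorem F265687 : act 2 n59540 = n58778 := d9_2 D58359 D59540 (iv D58778) (iv D57606) (iv F256168)
theorem F265688 : act 3 n59540 = n59327 := d10_2 (iv F260963) D59540 (iv D59327)
theorem F265689 : act 5 n59540 = n59126 := d12_2 (iv F260964) D59540 (iv D59126)
theorem F265690 : act 6 n59540 = n58361 := d13_2 (iv F260965) D59540 (iv D58361)
theorem F265691 : act 8 n59540 = n58579 := d15_2 (iv F260966) D59540 (iv D58579)
theorem F265692 : act 9 n59540 = n59343 := d16_2 (iv F260967) D59540 (iv D59343)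
def n59541 : Q := act 4 n58359
theorem D59541 : act 4 n58359 = n59541 := rfl
theorem F265693 : act 0 n59541 = n59342 := d3_1 D59541 (iv D59342) (iv F260962)
theorem F265694 : act 2 n59541 = n58360 := d18_1 D59541 (iv D58360) D58359
theorem F265695 : act 3 n59541 = n59351 := d24_1 D59541 (iv D59351) (iv F262555) F262556 (iv F260963)
theorem F265696 : act 5 n59541 = n59347 := d30_2 (iv F260964) D59541 (iv D59347) (iv F260893) F260892
theorem F265697 : act 6 n59541 = n58362 := d31_2 (iv F260965) D59541 (iv D58362)
theorem F265698 : act 7 n59541 = n59357 := d32_2 F265684 D59541 (iv F265681)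
theorem F265699 : act 8 n59541 = n58580 := d33_2 (iv F260966) D59541 (iv D58580)
theorem F265700 : act 9 n59541 = n59344 := d34_2 (iv F260967) D59541 (iv D59344)
def n59542 : Q := act 0 n58361
theorem D59542 : act 0 n58361 = n59542 := rfl
theorem F265701 : act 1 n59542 = n59348 := d0_2 D58361 D59542 (iv D59348) (iv D58154) (iv F256173)
theorem F265702 : act 2 n59542 = n58780 := d1_2 (iv F260976) D59542 (iv D58780)
theorem F265703 : act 3 n59542 = n59328 := d2_2 (iv F260977) D59542 (iv D59328)
theorem F265704 : act 5 n59542 = n58363 := d4_2 (iv F260978) D59542 (iv D58363)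
theorem F265705 : act 7 n59542 = n59329 := d6_2 (iv F260979) D59542 (iv D59329)
theorem F265706 : act 8 n59542 = n58581 := d7_2 (iv F260980) D59542 (iv D58581)
def n59543 : Q := act 4 n58361
theorem D59543 : act 4 n58361 = n59543 := rfl
theorem F265707 : act 1 n59543 = n58362 := d11_1 D59543 (iv D58362) D58361
theorem F265708 : act 2 n59543 = n58781 := d18_1 D59543 (iv D58781) (iv F260976)
theorem F265709 : act 7 n59543 = n59330 := d32_2 (iv F260979) D59543 (iv D59330)
theorem F265710 : act 8 n59543 = n58582 := d33_2 (iv F260980) D59543 (iv D58582)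
def n59544 : Q := act 3 n58362
theorem D59544 : act 3 n58362 = n59544 := rfl
theorem F265711 : act 0 n59544 = n58758 := d2_1 D59544 F263082 (iv F260981)
theorem F265712 : act 2 n59544 = n58365 := d17_1 D59544 (iv D58365) F256202 (iv F256180) (iv F260982)
theorem F265713 : act 4 n59544 = n58750 := d24_2 D58362 D59544 F263044 F260312 (iv F256174)
theorem F265714 : act 6 n59544 = n59351 := d26_2 F265697 D59544 (iv F265695)
theorem F265715 : act 7 n59544 = n59294 := d27_2 (iv F260983) D59544 F265052
theorem F265716 : act 9 n59544 = n59314 := d29_2 F265657 D59544 (iv F265653)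
def n59545 : Q := act 3 n58364
theorem D59545 : act 3 n58364 = n59545 := rfl
theorem F265717 : act 0 n59545 = n58676 := d2_1 D59545 F262733 (iv F260988)
theorem F265718 : act 1 n59545 = n58365 := d10_1 D59545 (iv D58365) (iv F260989)
theorem F265719 : act 4 n59545 = n58672 := d24_2 D58364 D59545 (iv D58672) F258038 (iv F256195)
theorem F265720 : act 5 n59545 = n59319 := d25_2 (iv F260991) D59545 F265106
theorem F265721 : act 6 n59545 = n58635 := d26_2 (iv F260992) D59545 F262524
theorem F265722 : act 7 n59545 = n58724 := d27_2 (iv F260993) D59545 F262952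
theorem F265723 : act 8 n59545 = n58887 := d28_2 (iv F260994) D59545 F263615 F259012 (iv F256210)
theorem F265724 : act 9 n59545 = n58743 := d29_2 (iv F260995) D59545 F263021
def n59546 : Q := act 8 n58365
theorem D59546 : act 8 n58365 = n59546 := rfl
theorem F265725 : act 0 n59546 = n58754 := d7_1 D59546 F263066 (iv F260996)
theorem F265726 : act 1 n59546 = n58887 := d15_1 D59546 (iv F265723) F265718
theorem F265727 : act 3 n59546 = n58366 := d28_1 D59546 (iv D58366) (iv D57203) (iv F256205) D58365
theorem F265728 : act 4 n59546 = n58749 := d33_1 D59546 F263042 (iv F260997)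
theorem F265729 : act 6 n59546 = n58834 := d40_1 D59546 F263394 (iv F260998)
theorem F265730 : act 7 n59546 = n58808 := d42_1 D59546 F263271 (iv F260999)
def n59547 : Q := act 9 n58366
theorem D59547 : act 9 n58366 = n59547 := rfl
theorem F265731 : act 0 n59547 = n58791 := d8_1 D59547 F263192 (iv F261001)
theorem F265732 : act 1 n59547 = n58872 := d16_1 D59547 F263550 (iv F261002)
theorem F265733 : act 2 n59547 = n58590 := d23_1 D59547 (iv D58590) (iv F261003)
theorem F265734 : act 4 n59547 = n58446 := d34_1 D59547 F261493 (iv F261004)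
theorem F265735 : act 6 n59547 = n58450 := d41_1 D59547 F261521 (iv F261005)
theorem F265736 : act 7 n59547 = n58611 := d43_1 D59547 F262402 (iv F261006)
theorem F265737 : act 8 n59547 = n59547 := d44_1 D59547 (iv D59547) (iv D58366) F256221 D58366
def n59548 : Q := act 3 n58367
theorem D59548 : act 3 n58367 = n59548 := rfl
theorem F265738 : act 0 n59548 = n58502 := d2_1 D59548 (iv D58502) (iv F261007)
theorem F265739 : act 1 n59548 = n58805 := d10_1 D59548 (iv D58805) (iv F261008)
theorem F265740 : act 5 n59548 = n58368 := d25_2 (iv F261011) D59548 (iv D58368)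
theorem F265741 : act 6 n59548 = n58760 := d26_2 (iv F261012) D59548 (iv D58760)
theorem F265742 : act 7 n59548 = n58375 := d27_2 (iv F261013) D59548 (iv D58375)
theorem F265743 : act 8 n59548 = n58382 := d28_2 D58367 D59548 (iv D58382) (iv D57219) (iv F256225)
theorem F265744 : act 9 n59548 = n58467 := d29_2 (iv F261014) D59548 (iv D58467)
def n59549 : Q := act 2 n58368
theorem D59549 : act 2 n58368 = n59549 := rfl
theorem F265745 : act 0 n59549 = n58503 := d1_1 D59549 (iv D58503) (iv F261015)
theorem F265746 : act 3 n59549 = n59499 := d17_2 D58368 D59549 (iv D59499) (iv D58309) (iv F256232)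
theorem F265747 : act 4 n59549 = n58487 := d18_2 (iv F261017) D59549 (iv D58487)
theorem F265748 : act 6 n59549 = n58460 := d20_2 (iv F261018) D59549 (iv D58460)
theorem F265749 : act 7 n59549 = n58376 := d21_2 (iv F261019) D59549 (iv D58376)
theorem F265750 : act 8 n59549 = n58383 := d22_2 (iv F261020) D59549 (iv D58383)
theorem F265751 : act 9 n59549 = n58468 := d23_2 (iv F261021) D59549 (iv D58468)
def n59550 : Q := act 3 n58369
theorem D59550 : act 3 n58369 = n59550 := rfl
theorem F265752 : act 0 n59550 = n59013 := d2_1 D59550 (iv D59013) (iv F261022)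
theorem F265753 : act 1 n59550 = n58373 := d10_1 D59550 (iv D58373) (iv F261023)
theorem F265754 : act 5 n59550 = n58700 := d25_2 (iv F261026) D59550 (iv D58700)
theorem F265755 : act 6 n59550 = n58398 := d26_2 (iv F261027) D59550 (iv D58398)
theorem F265756 : act 7 n59550 = n58882 := d27_2 (iv F261028) D59550 (iv D58882)
theorem F265757 : act 8 n59550 = n58701 := d28_2 D58369 D59550 (iv D58701) (iv D57542) (iv F256240)
theorem F265758 : act 9 n59550 = n59146 := d29_2 (iv F261029) D59550 (iv D59146)
def n59551 : Q := act 2 n58370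
theorem D59551 : act 2 n58370 = n59551 := rfl
theorem F265759 : act 0 n59551 = n58981 := d1_1 D59551 F263980 (iv F261030)
theorem F265760 : act 1 n59551 = n58491 := d9_1 D59551 (iv D58491) F257032 (iv F256275) (iv F261031)
theorem F265761 : act 3 n59551 = n58428 := d17_2 D58370 D59551 (iv D58428) (iv D57260) (iv F256247)
theorem F265762 : act 5 n59551 = n59551 := d19_2 F261032 D59551 (iv D59551)
theorem F265763 : act 6 n59551 = n58424 := d20_2 (iv F261033) D59551 (iv D58424)
theorem F265764 : act 7 n59551 = n58905 := d21_2 (iv F261034) D59551 (iv D58905)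
theorem F265765 : act 8 n59551 = n59551 := d22_2 F261035 D59551 (iv D59551)
theorem F265766 : act 9 n59551 = n59077 := d23_2 (iv F261036) D59551 F264293
def n59552 : Q := act 4 n58370
theorem D59552 : act 4 n58370 = n59552 := rfl
theorem F265767 : act 0 n59552 = n59072 := d3_1 D59552 (iv D59072) (iv F261030)
theorem F265768 : act 1 n59552 = n58374 := d11_1 D59552 (iv D58374) (iv F261031)
theorem F265769 : act 6 n59552 = n58425 := d31_2 (iv F261033) D59552 (iv D58425)
theorem F265770 : act 7 n59552 = n58906 := d32_2 (iv F261034) D59552 (iv D58906)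
theorem F265771 : act 8 n59552 = n59552 := d33_2 F261035 D59552 (iv D59552)
theorem F265772 : act 9 n59552 = n59147 := d34_2 (iv F261036) D59552 (iv D59147)
def n59553 : Q := act 3 n58371
theorem D59553 : act 3 n58371 = n59553 := rfl
theorem F265773 : act 0 n59553 = n59196 := d2_1 D59553 (iv D59196) (iv F261037)
theorem F265774 : act 1 n59553 = n58701 := d10_1 D59553 (iv D58701) (iv F261038)
theorem F265775 : act 5 n59553 = n58696 := d25_2 (iv F261041) D59553 (iv D58696)
theorem F265776 : act 6 n59553 = n59103 := d26_2 (iv F261042) D59553 F264402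
theorem F265777 : act 7 n59553 = n59453 := d27_2 (iv F261043) D59553 (iv D59453)
theorem F265778 : act 8 n59553 = n58373 := d28_2 D58371 D59553 (iv D58373) (iv D57210) (iv F256255)
theorem F265779 : act 9 n59553 = n58927 := d29_2 (iv F261044) D59553 (iv D58927)
def n59554 : Q := act 3 n58372
theorem D59554 : act 3 n58372 = n59554 := rfl
theorem F265780 : act 0 n59554 = n58935 := d2_1 D59554 (iv D58935) (iv F261045)
theorem F265781 : act 1 n59554 = n58700 := d10_1 D59554 (iv D58700) (iv F261046)
theorem F265782 : act 5 n59554 = n58373 := d25_2 (iv F261049) D59554 (iv D58373)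
theorem F265783 : act 6 n59554 = n58855 := d26_2 (iv F261050) D59554 (iv D58855)
theorem F265784 : act 7 n59554 = n59039 := d27_2 (iv F261051) D59554 (iv D59039)
theorem F265785 : act 8 n59554 = n58696 := d28_2 D58372 D59554 (iv D58696) (iv D57538) (iv F256263)
theorem F265786 : act 9 n59554 = n59038 := d29_2 (iv F261052) D59554 (iv D59038)
def n59555 : Q := act 2 n58373
theorem D59555 : act 2 n58373 = n59555 := rfl
theorem F265787 : act 0 n59555 = n59197 := d1_1 D59555 (iv D59197) (iv F261053)
theorem F265788 : act 3 n59555 = n58376 := d17_2 D58373 D59555 (iv D58376) (iv D57213) (iv F256269)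
theorem F265789 : act 6 n59555 = n59128 := d20_2 (iv F261054) D59555 (iv D59128)
theorem F265790 : act 7 n59555 = n59499 := d21_2 (iv F261055) D59555 (iv D59499)
theorem F265791 : act 9 n59555 = n59148 := d23_2 (iv F261056) D59555 (iv D59148)
def n59556 : Q := act 4 n58373
theorem D59556 : act 4 n58373 = n59556 := rfl
theorem F265792 : act 0 n59556 = n59198 := d3_1 D59556 (iv D59198) (iv F261053)
theorem F265793 : act 3 n59556 = n58374 := d24_1 D59556 (iv D58374) (iv D57211) (iv F256270) D58373
theorem F265794 : act 6 n59556 = n59129 := d31_2 (iv F261054) D59556 (iv D59129)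
theorem F265795 : act 7 n59556 = n59500 := d32_2 (iv F261055) D59556 (iv D59500)
theorem F265796 : act 9 n59556 = n59149 := d34_2 (iv F261056) D59556 (iv D59149)
def n59557 : Q := act 5 n58374
theorem D59557 : act 5 n58374 = n59557 := rfl
theorem F265797 : act 0 n59557 = n59199 := d4_1 D59557 (iv D59199) (iv F261057)
theorem F265798 : act 2 n59557 = n58497 := d19_1 D59557 (iv D58497) (iv F261058)
theorem F265799 : act 4 n59557 = n59557 := d30_1 D59557 (iv D59557) (iv D58374) F256276 D58374
theorem F265800 : act 7 n59557 = n59518 := d36_2 (iv F261060) D59557 (iv D59518)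
theorem F265801 : act 8 n59557 = n59557 := d37_2 F261061 D59557 (iv D59557)
theorem F265802 : act 9 n59557 = n59150 := d38_2 (iv F261062) D59557 (iv D59150)
def n59558 : Q := act 2 n58375
theorem D59558 : act 2 n58375 = n59558 := rfl
theorem F265803 : act 0 n59558 = n58942 := d1_1 D59558 (iv D58942) (iv F261063)
theorem F265804 : act 5 n59558 = n58376 := d19_2 (iv F261065) D59558 (iv D58376)
theorem F265805 : act 6 n59558 = n58859 := d20_2 (iv F261066) D59558 (iv D58859)
theorem F265806 : act 8 n59558 = n58389 := d22_2 (iv F261067) D59558 (iv D58389)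
theorem F265807 : act 9 n59558 = n59151 := d23_2 (iv F261068) D59558 (iv D59151)
def n59559 : Q := act 4 n58375
theorem D59559 : act 4 n58375 = n59559 := rfl
theorem F265808 : act 0 n59559 = n58943 := d3_1 D59559 (iv D58943) (iv F261063)
theorem F265809 : act 1 n59559 = n58811 := d11_1 D59559 (iv D58811) (iv F261064)
theorem F265810 : act 3 n59559 = n59559 := d24_1 D59559 (iv D59559) (iv D58375) F256283 D58375
theorem F265811 : act 5 n59559 = n58499 := d30_2 (iv F261065) D59559 (iv D58499) F257056 (iv F256289)
theorem F265812 : act 6 n59559 = n58860 := d31_2 (iv F261066) D59559 (iv D58860)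
theorem F265813 : act 8 n59559 = n58390 := d33_2 (iv F261067) D59559 (iv D58390)
theorem F265814 : act 9 n59559 = n59152 := d34_2 (iv F261068) D59559 (iv D59152)
def n59560 : Q := act 1 n58376
theorem D59560 : act 1 n58376 = n59560 := rfl
theorem F265815 : act 2 n59560 = n58812 := d9_2 D58376 D59560 (iv D58812) (iv D57645) (iv F256288)
theorem F265816 : act 4 n59560 = n58500 := d11_2 (iv F261070) D59560 (iv D58500)
theorem F265817 : act 6 n59560 = n59130 := d13_2 (iv F261071) D59560 (iv D59130)
theorem F265818 : act 8 n59560 = n58391 := d15_2 (iv F261072) D59560 (iv D58391)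
theorem F265819 : act 9 n59560 = n59153 := d16_2 (iv F261073) D59560 (iv D59153)
def n59561 : Q := act 2 n58377
theorem D59561 : act 2 n58377 = n59561 := rfl
theorem F265820 : act 0 n59561 = n58487 := d1_1 D59561 (iv D58487) (iv F261074)
theorem F265821 : act 3 n59561 = n59240 := d17_2 D58377 D59561 (iv D59240) (iv D58047) (iv F256295)
theorem F265822 : act 4 n59561 = n58503 := d18_2 (iv F261076) D59561 (iv D58503)
theorem F265823 : act 5 n59561 = n59334 := d19_2 (iv F261077) D59561 (iv D59334)
theorem F265824 : act 6 n59561 = n58383 := d20_2 (iv F261078) D59561 (iv D58383)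
theorem F265825 : act 7 n59561 = n58459 := d21_2 (iv F261079) D59561 (iv D58459)
theorem F265826 : act 8 n59561 = n58460 := d22_2 (iv F261080) D59561 (iv D58460)
theorem F265827 : act 9 n59561 = n58397 := d23_2 (iv F261081) D59561 (iv D58397)
def n59562 : Q := act 3 n58378
theorem D59562 : act 3 n58378 = n59562 := rfl
theorem F265828 : act 0 n59562 = n58927 := d2_1 D59562 (iv D58927) (iv F261082)
theorem F265829 : act 1 n59562 = n59157 := d10_1 D59562 (iv D59157) (iv F261083)
theorem F265830 : act 5 n59562 = n58923 := d25_2 (iv F261086) D59562 (iv D58923)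
theorem F265831 : act 6 n59562 = n59204 := d26_2 (iv F261087) D59562 (iv D59204)
theorem F265832 : act 7 n59562 = n58385 := d27_2 (iv F261088) D59562 (iv D58385)
theorem F265833 : act 8 n59562 = n58379 := d28_2 D58378 D59562 (iv D58379) (iv D57216) (iv F256304)
theorem F265834 : act 9 n59562 = n59196 := d29_2 (iv F261089) D59562 (iv D59196)
def n59563 : Q := act 2 n58379
theorem D59563 : act 2 n58379 = n59563 := rfl
theorem F265835 : act 0 n59563 = n59462 := d1_1 D59563 (iv D59462) (iv F261090)
theorem F265836 : act 3 n59563 = n58383 := d17_2 D58379 D59563 (iv D58383) (iv D57220) (iv F256311)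
theorem F265837 : act 5 n59563 = n59154 := d19_2 (iv F261092) D59563 (iv D59154)
theorem F265838 : act 6 n59563 = n59240 := d20_2 (iv F261093) D59563 (iv D59240)
theorem F265839 : act 7 n59563 = n58386 := d21_2 (iv F261094) D59563 (iv D58386)
theorem F265840 : act 9 n59563 = n58399 := d23_2 (iv F261095) D59563 (iv D58399)
def n59564 : Q := act 4 n58379
theorem D59564 : act 4 n58379 = n59564 := rfl
theorem F265841 : act 0 n59564 = n59463 := d3_1 D59564 (iv D59463) (iv F261090)
theorem F265842 : act 1 n59564 = n59161 := d11_1 D59564 (iv D59161) (iv F261091)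
theorem F265843 : act 3 n59564 = n58380 := d24_1 D59564 (iv D58380) (iv D57217) (iv F256312) D58379
theorem F265844 : act 6 n59564 = n59241 := d31_2 (iv F261093) D59564 (iv D59241)
theorem F265845 : act 7 n59564 = n58387 := d32_2 (iv F261094) D59564 (iv D58387)
theorem F265846 : act 9 n59564 = n58400 := d34_2 (iv F261095) D59564 (iv D58400)
def n59565 : Q := act 5 n58380
theorem D59565 : act 5 n58380 = n59565 := rfl
theorem F265847 : act 0 n59565 = n59190 := d4_1 D59565 F264756 (iv F261096)
theorem F265848 : act 1 n59565 = n58873 := d12_1 D59565 F263553 (iv F261097)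
theorem F265849 : act 2 n59565 = n58509 := d19_1 D59565 (iv D58509) (iv F261098)
theorem F265850 : act 4 n59565 = n58392 := d30_1 D59565 (iv D58392) (iv D57227) (iv F256320) D58380
theorem F265851 : act 7 n59565 = n58388 := d36_2 (iv F261100) D59565 (iv D58388)
theorem F265852 : act 8 n59565 = n59565 := d37_2 F261101 D59565 (iv D59565)
theorem F265853 : act 9 n59565 = n58401 := d38_2 (iv F261102) D59565 (iv D58401)
def n59566 : Q := act 3 n58381
theorem D59566 : act 3 n58381 = n59566 := rfl
theorem F265854 : act 0 n59566 = n58956 := d2_1 D59566 (iv D58956) (iv F261103)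
theorem F265855 : act 1 n59566 = n58610 := d10_1 D59566 (iv D58610) (iv F261104)
theorem F265856 : act 5 n59566 = n58720 := d25_2 (iv F261107) D59566 (iv D58720)
theorem F265857 : act 6 n59566 = n58382 := d26_2 (iv F261108) D59566 (iv D58382)
theorem F265858 : act 7 n59566 = n58864 := d27_2 (iv F261109) D59566 (iv D58864)
theorem F265859 : act 8 n59566 = n58760 := d28_2 D58381 D59566 (iv D58760) (iv D57593) (iv F256328)
theorem F265860 : act 9 n59566 = n58402 := d29_2 (iv F261110) D59566 (iv D58402)
def n59567 : Q := act 2 n58382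
theorem D59567 : act 2 n58382 = n59567 := rfl
theorem F265861 : act 0 n59567 = n58972 := d1_1 D59567 (iv D58972) (iv F261111)
theorem F265862 : act 3 n59567 = n59154 := d17_2 D58382 D59567 (iv D59154) (iv D57964) (iv F256335)
theorem F265863 : act 5 n59567 = n58383 := d19_2 (iv F261113) D59567 (iv D58383)
theorem F265864 : act 7 n59567 = n58389 := d21_2 (iv F261114) D59567 (iv D58389)
theorem F265865 : act 9 n59567 = n58403 := d23_2 (iv F261115) D59567 (iv D58403)
def n59568 : Q := act 4 n58382
theorem D59568 : act 4 n58382 = n59568 := rfl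
theorem F265866 : act 0 n59568 = n58973 := d3_1 D59568 (iv D58973) (iv F261111)
theorem F265867 : act 1 n59568 = n58816 := d11_1 D59568 (iv D58816) (iv F261112)
theorem F265868 : act 3 n59568 = n58395 := d24_1 D59568 (iv D58395) (iv D57229) (iv F256336) D58382
theorem F265869 : act 5 n59568 = n58512 := d30_2 (iv F261113) D59568 (iv D58512) F257118 (iv F256342)
theorem F265870 : act 7 n59568 = n58390 := d32_2 (iv F261114) D59568 (iv D58390)
theorem F265871 : act 9 n59568 = n58404 := d34_2 (iv F261115) D59568 (iv D58404)
def n59569 : Q := act 1 n58383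
theorem D59569 : act 1 n58383 = n59569 := rfl
theorem F265872 : act 2 n59569 = n58817 := d9_2 D58383 D59569 (iv D58817) (iv D57649) (iv F256341)
theorem F265873 : act 4 n59569 = n58513 := d11_2 (iv F261117) D59569 (iv D58513)
theorem F265874 : act 7 n59569 = n58391 := d14_2 (iv F261118) D59569 (iv D58391)
theorem F265875 : act 9 n59569 = n58405 := d16_2 (iv F261119) D59569 (iv D58405)
def n59570 : Q := act 3 n58384
theorem D59570 : act 3 n58384 = n59570 := rfl
theorem F265876 : act 0 n59570 = n59453 := d2_1 D59570 (iv D59453) (iv F261120)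
theorem F265877 : act 1 n59570 = n58494 := d10_1 D59570 (iv D58494) (iv F261121)
theorem F265878 : act 5 n59570 = n58490 := d25_2 (iv F261124) D59570 (iv D58490)
theorem F265879 : act 6 n59570 = n58506 := d26_2 (iv F261125) D59570 (iv D58506)
theorem F265880 : act 7 n59570 = n59196 := d27_2 (iv F261126) D59570 (iv D59196)
theorem F265881 : act 8 n59570 = n58412 := d28_2 D58384 D59570 (iv D58412) (iv D57247) (iv F256348)
theorem F265882 : act 9 n59570 = n58385 := d29_2 (iv F261127) D59570 (iv D58385)
def n59571 : Q := act 2 n58385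
theorem D59571 : act 2 n58385 = n59571 := rfl
theorem F265883 : act 0 n59571 = n59454 := d1_1 D59571 (iv D59454) (iv F261128)
theorem F265884 : act 5 n59571 = n59168 := d19_2 (iv F261130) D59571 (iv D59168)
theorem F265885 : act 6 n59571 = n59052 := d20_2 (iv F261131) D59571 F264219
theorem F265886 : act 8 n59571 = n58386 := d22_2 (iv F261132) D59571 (iv D58386)
def n59572 : Q := act 4 n58385
theorem D59572 : act 4 n58385 = n59572 := rfl
theorem F265887 : act 0 n59572 = n59455 := d3_1 D59572 (iv D59455) (iv F261128)
theorem F265888 : act 1 n59572 = n59174 := d11_1 D59572 (iv D59174) (iv F261129)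
theorem F265889 : act 3 n59572 = n59572 := d24_1 D59572 (iv D59572) (iv D58385) F256355 D58385
theorem F265890 : act 6 n59572 = n59046 := d31_2 (iv F261131) D59572 F264199
theorem F265891 : act 8 n59572 = n58387 := d33_2 (iv F261132) D59572 (iv D58387)
def n59573 : Q := act 1 n58386
theorem D59573 : act 1 n58386 = n59573 := rfl
theorem F265892 : act 2 n59573 = n59178 := d9_2 D58386 D59573 (iv D59178) (iv D57981) (iv F256359)
theorem F265893 : act 3 n59573 = n58391 := d10_2 (iv F261134) D59573 (iv D58391)
theorem F265894 : act 5 n59573 = n59170 := d12_2 (iv F261135) D59573 (iv D59170)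
theorem F265895 : act 6 n59573 = n59063 := d13_2 (iv F261136) D59573 F264250
theorem F265896 : act 9 n59573 = n58417 := d16_2 (iv F261137) D59573 (iv D58417)
def n59574 : Q := act 4 n58386
theorem D59574 : act 4 n58386 = n59574 := rfl
theorem F265897 : act 0 n59574 = n59465 := d3_1 D59574 (iv D59465) (iv F261133)
theorem F265898 : act 2 n59574 = n58387 := d18_1 D59574 (iv D58387) D58386
theorem F265899 : act 3 n59574 = n58523 := d24_1 D59574 (iv D58523) F257167 (iv F256375) (iv F261134)
theorem F265900 : act 6 n59574 = n59061 := d31_2 (iv F261136) D59574 F264243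
theorem F265901 : act 9 n59574 = n58418 := d34_2 (iv F261137) D59574 (iv D58418)
def n59575 : Q := act 5 n58387
theorem D59575 : act 5 n58387 = n59575 := rfl
theorem F265902 : act 0 n59575 = n59466 := d4_1 D59575 (iv D59466) (iv F261138)
theorem F265903 : act 1 n59575 = n58874 := d12_1 D59575 F263559 (iv F261139)
theorem F265904 : act 3 n59575 = n58388 := d25_1 D59575 (iv D58388) (iv F261140)
theorem F265905 : act 4 n59575 = n59172 := d30_1 D59575 (iv D59172) (iv D57976) (iv F256360) D58387
theorem F265906 : act 6 n59575 = n59057 := d35_2 (iv F261141) D59575 (iv D59057) F259502 D57864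
theorem F265907 : act 9 n59575 = n58419 := d38_2 (iv F261142) D59575 (iv D58419)
def n59576 : Q := act 1 n58389
theorem D59576 : act 1 n58389 = n59576 := rfl
theorem F265908 : act 2 n59576 = n58818 := d9_2 D58389 D59576 (iv D58818) (iv D57650) (iv F256370)
theorem F265909 : act 3 n59576 = n59170 := d10_2 (iv F261151) D59576 (iv D59170)
theorem F265910 : act 5 n59576 = n58391 := d12_2 (iv F261152) D59576 (iv D58391)
theorem F265911 : act 6 n59576 = n58868 := d13_2 (iv F261153) D59576 (iv D58868)
theorem F265912 : act 9 n59576 = n58421 := d16_2 (iv F261154) D59576 (iv D58421)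
def n59577 : Q := act 4 n58389
theorem D59577 : act 4 n58389 = n59577 := rfl
theorem F265913 : act 0 n59577 = n58975 := d3_1 D59577 (iv D58975) (iv F261150)
theorem F265914 : act 2 n59577 = n58390 := d18_1 D59577 (iv D58390) D58389
theorem F265915 : act 5 n59577 = n58529 := d30_2 (iv F261152) D59577 (iv D58529) F257193 (iv F256375)
theorem F265916 : act 6 n59577 = n58869 := d31_2 (iv F261153) D59577 (iv D58869)
theorem F265917 : act 9 n59577 = n58422 := d34_2 (iv F261154) D59577 (iv D58422)
def n59578 : Q := act 0 n58391
theorem D59578 : act 0 n58391 = n59578 := rfl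
theorem F265918 : act 1 n59578 = n59470 := d0_2 D58391 D59578 (iv D59470) (iv D58276) (iv F256374)
theorem F265919 : act 2 n59578 = n58820 := d1_2 (iv F261161) D59578 (iv D58820)
theorem F265920 : act 4 n59578 = n58530 := d3_2 (iv F261162) D59578 (iv D58530)
theorem F265921 : act 6 n59578 = n59132 := d5_2 (iv F261163) D59578 (iv D59132)
theorem F265922 : act 9 n59578 = n58423 := d8_2 (iv F261164) D59578 (iv D58423)
def n59579 : Q := act 6 n58392
theorem D59579 : act 6 n58392 = n59579 := rfl
theorem F265923 : act 0 n59579 = n58491 := d5_1 D59579 F261767 (iv F261165)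
theorem F265924 : act 1 n59579 = n58871 := d13_1 D59579 F263544 (iv F261166)
theorem F265925 : act 2 n59579 = n58489 := d20_1 D59579 F261758 (iv F261167)
theorem F265926 : act 3 n59579 = n58924 := d26_1 D59579 F263764 (iv F261168)
theorem F265927 : act 5 n59579 = n59579 := d35_1 D59579 (iv D59579) (iv D58392) F256382 D58392
theorem F265928 : act 7 n59579 = n58697 := d39_2 (iv F261169) D59579 F262836 F259610 (iv F256411)
theorem F265929 : act 8 n59579 = n59579 := d40_2 F261170 D59579 (iv D59579)
theorem F265930 : act 9 n59579 = n58427 := d41_2 (iv F261171) D59579 (iv D58427)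
def n59580 : Q := act 2 n58393
theorem D59580 : act 2 n58393 = n59580 := rfl
theorem F265931 : act 0 n59580 = n58979 := d1_1 D59580 (iv D58979) (iv F261172)
theorem F265932 : act 1 n59580 = n58697 := d9_1 D59580 (iv D58697) F258186 (iv F257703) (iv F261173)
theorem F265933 : act 3 n59580 = n59077 := d17_2 D58393 D59580 F264293 (iv D57959) (iv F256388)
theorem F265934 : act 5 n59580 = n59580 := d19_2 F261174 D59580 (iv D59580)
theorem F265935 : act 6 n59580 = n58394 := d20_2 (iv F261175) D59580 (iv D58394)
theorem F265936 : act 7 n59580 = n58871 := d21_2 (iv F261176) D59580 (iv D58871)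
theorem F265937 : act 8 n59580 = n59580 := d22_2 F261177 D59580 (iv D59580)
theorem F265938 : act 9 n59580 = n58428 := d23_2 (iv F261178) D59580 (iv D58428)
def n59581 : Q := act 4 n58393
theorem D59581 : act 4 n58393 = n59581 := rfl
theorem F265939 : act 0 n59581 = n58980 := d3_1 D59581 (iv D58980) (iv F261172)
theorem F265940 : act 1 n59581 = n58611 := d11_1 D59581 (iv D58611) (iv F261173)
theorem F265941 : act 6 n59581 = n58395 := d31_2 (iv F261175) D59581 (iv D58395)
theorem F265942 : act 7 n59581 = n58872 := d32_2 (iv F261176) D59581 (iv D58872)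
theorem F265943 : act 8 n59581 = n59581 := d33_2 F261177 D59581 (iv D59581)
theorem F265944 : act 9 n59581 = n58429 := d34_2 (iv F261178) D59581 (iv D58429)
def n59582 : Q := act 4 n58394
theorem D59582 : act 4 n58394 = n59582 := rfl
theorem F265945 : act 0 n59582 = n58986 := d3_1 D59582 (iv D58986) (iv F261179)
theorem F265946 : act 1 n59582 = n59083 := d11_1 D59582 F264317 (iv F261180)
theorem F265947 : act 2 n59582 = n58395 := d18_1 D59582 (iv D58395) D58394
theorem F265948 : act 5 n59582 = n58532 := d30_2 (iv F261182) D59582 (iv D58532) F257217 (iv F256402)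
theorem F265949 : act 7 n59582 = n58396 := d32_2 (iv F261183) D59582 (iv D58396)
theorem F265950 : act 8 n59582 = n59582 := d33_2 F261184 D59582 (iv D59582)
theorem F265951 : act 9 n59582 = n58430 := d34_2 (iv F261185) D59582 (iv D58430)
def n59583 : Q := act 3 n58396
theorem D59583 : act 3 n58396 = n59583 := rfl
theorem F265952 : act 0 n59583 = n58987 := d2_1 D59583 (iv D58987) (iv F261192)
theorem F265953 : act 1 n59583 = n59057 := d10_1 D59583 F264231 (iv F261193)
theorem F265954 : act 4 n59583 = n59087 := d24_2 D58396 D59583 (iv D59087) (iv D57893) (iv F256416)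
theorem F265955 : act 5 n59583 = n58534 := d25_2 (iv F261195) D59583 (iv D58534)
theorem F265956 : act 6 n59583 = n58874 := d26_2 (iv F261196) D59583 (iv D58874)
theorem F265957 : act 9 n59583 = n58433 := d29_2 (iv F261198) D59583 (iv D58433)
def n59584 : Q := act 1 n58397
theorem D59584 : act 1 n58397 = n59584 := rfl
theorem F265958 : act 2 n59584 = n58824 := d9_2 D58397 D59584 (iv D58824) (iv D57656) (iv F256428)
theorem F265959 : act 3 n59584 = n59242 := d10_2 (iv F261200) D59584 (iv D59242)
theorem F265960 : act 4 n59584 = n58539 := d11_2 (iv F261201) D59584 (iv D58539)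
theorem F265961 : act 5 n59584 = n59336 := d12_2 (iv F261202) D59584 (iv D59336)
theorem F265962 : act 6 n59584 = n58405 := d13_2 (iv F261203) D59584 (iv D58405)
theorem F265963 : act 7 n59584 = n59120 := d14_2 (iv F261204) D59584 (iv D59120)
theorem F265964 : act 8 n59584 = n59113 := d15_2 (iv F261205) D59584 (iv D59113)
def n59585 : Q := act 2 n58398
theorem D59585 : act 2 n58398 = n59585 := rfl
theorem F265965 : act 0 n59585 = n59053 := d1_1 D59585 (iv D59053) (iv F261206)
theorem F265966 : act 3 n59585 = n58403 := d17_2 D58398 D59585 (iv D58403) (iv D57239) (iv F256436)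
theorem F265967 : act 5 n59585 = n58399 := d19_2 (iv F261208) D59585 (iv D58399)
theorem F265968 : act 7 n59585 = n58415 := d21_2 (iv F261209) D59585 (iv D58415)
theorem F265969 : act 8 n59585 = n59225 := d22_2 (iv F261210) D59585 (iv D59225)
theorem F265970 : act 9 n59585 = n59154 := d23_2 (iv F261211) D59585 (iv D59154)
def n59586 : Q := act 4 n58398
theorem D59586 : act 4 n58398 = n59586 := rfl
theorem F265971 : act 0 n59586 = n59054 := d3_1 D59586 (iv D59054) (iv F261206)
theorem F265972 : act 1 n59586 = n59129 := d11_1 D59586 (iv D59129) (iv F261207)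
theorem F265973 : act 3 n59586 = n58425 := d24_1 D59586 (iv D58425) (iv D57256) (iv F256437) D58398
theorem F265974 : act 7 n59586 = n58416 := d32_2 (iv F261209) D59586 (iv D58416)
theorem F265975 : act 8 n59586 = n59226 := d33_2 (iv F261210) D59586 (iv D59226)
theorem F265976 : act 9 n59586 = n59155 := d34_2 (iv F261211) D59586 (iv D59155)
def n59587 : Q := act 1 n58399
theorem D59587 : act 1 n58399 = n59587 := rfl
theorem F265977 : act 2 n59587 = n59407 := d9_2 D58399 D59587 (iv D59407) (iv D58216) (iv F256442)
theorem F265978 : act 3 n59587 = n58405 := d10_2 (iv F261213) D59587 (iv D58405)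
theorem F265979 : act 6 n59587 = n59242 := d13_2 (iv F261214) D59587 (iv D59242)
theorem F265980 : act 7 n59587 = n58417 := d14_2 (iv F261215) D59587 (iv D58417)
theorem F265981 : act 8 n59587 = n59227 := d15_2 (iv F261216) D59587 (iv D59227)
def n59588 : Q := act 4 n58399
theorem D59588 : act 4 n58399 = n59588 := rfl
theorem F265982 : act 0 n59588 = n59508 := d3_1 D59588 F265520 (iv F261212)
theorem F265983 : act 2 n59588 = n58400 := d18_1 D59588 (iv D58400) D58399
theorem F265984 : act 3 n59588 = n58546 := d24_1 D59588 (iv D58546) F257292 (iv F256463) (iv F261213)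
theorem F265985 : act 6 n59588 = n59243 := d31_2 (iv F261214) D59588 (iv D59243)
theorem F265986 : act 7 n59588 = n58418 := d32_2 (iv F261215) D59588 (iv D58418)
theorem F265987 : act 8 n59588 = n59228 := d33_2 (iv F261216) D59588 (iv D59228)
def n59589 : Q := act 5 n58400
theorem D59589 : act 5 n58400 = n59589 := rfl
theorem F265988 : act 0 n59589 = n59511 := d4_1 D59589 (iv D59511) (iv F261217)
theorem F265989 : act 1 n59589 = n58910 := d12_1 D59589 F263705 (iv F261218)
theorem F265990 : act 3 n59589 = n58401 := d25_1 D59589 (iv D58401) (iv F261219)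
theorem F265991 : act 7 n59589 = n58419 := d36_2 (iv F261221) D59589 (iv D58419)
theorem F265992 : act 8 n59589 = n59229 := d37_2 (iv F261222) D59589 (iv D59229)
def n59590 : Q := act 6 n58401
theorem D59590 : act 6 n58401 = n59590 := rfl
theorem F265993 : act 0 n59590 = n59186 := d5_1 D59590 F264740 (iv F261223)
theorem F265994 : act 1 n59590 = n58908 := d13_1 D59590 F263698 (iv F261224)
theorem F265995 : act 2 n59590 = n58548 := d20_1 D59590 (iv D58548) (iv F261225)
theorem F265996 : act 4 n59590 = n58427 := d31_1 D59590 (iv D58427) (iv F261226)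
theorem F265997 : act 5 n59590 = n59290 := d35_1 D59590 (iv D59290) (iv D58094) (iv F256449) D58401
theorem F265998 : act 7 n59590 = n58930 := d39_2 (iv F261227) D59590 F263788 F261328 (iv D58420)
theorem F265999 : act 8 n59590 = n58438 := d40_2 (iv F261228) D59590 (iv D58438)
def n59591 : Q := act 2 n58402
theorem D59591 : act 2 n58402 = n59591 := rfl
theorem F266000 : act 0 n59591 = n59020 := d1_1 D59591 (iv D59020) (iv F261229)
theorem F266001 : act 5 n59591 = n58721 := d19_2 (iv F261231) D59591 (iv D58721)
theorem F266002 : act 6 n59591 = n58403 := d20_2 (iv F261232) D59591 (iv D58403)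
theorem F266003 : act 7 n59591 = n58886 := d21_2 (iv F261233) D59591 (iv D58886)
theorem F266004 : act 8 n59591 = n58723 := d22_2 (iv F261234) D59591 (iv D58723)
def n59592 : Q := act 4 n58402
theorem D59592 : act 4 n58402 = n59592 := rfl
theorem F266005 : act 0 n59592 = n59021 := d3_1 D59592 (iv D59021) (iv F261229)
theorem F266006 : act 1 n59592 = n58808 := d11_1 D59592 (iv D58808) (iv F261230)
theorem F266007 : act 3 n59592 = n58429 := d24_1 D59592 (iv D58429) (iv D57260) (iv F256454) D58402
theorem F266008 : act 6 n59592 = n58404 := d31_2 (iv F261232) D59592 (iv D58404)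
theorem F266009 : act 7 n59592 = n58887 := d32_2 (iv F261233) D59592 (iv D58887)
theorem F266010 : act 8 n59592 = n58724 := d33_2 (iv F261234) D59592 (iv D58724)
def n59593 : Q := act 1 n58403
theorem D59593 : act 1 n58403 = n59593 := rfl
theorem F266011 : act 2 n59593 = n58826 := d9_2 D58403 D59593 (iv D58826) (iv D57658) (iv F256459)
theorem F266012 : act 5 n59593 = n58405 := d12_2 (iv F261236) D59593 (iv D58405)
theorem F266013 : act 7 n59593 = n58421 := d14_2 (iv F261237) D59593 (iv D58421)
def n59594 : Q := act 4 n58403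
theorem D59594 : act 4 n58403 = n59594 := rfl
theorem F266014 : act 0 n59594 = n59065 := d3_1 D59594 (iv D59065) (iv F261235)
theorem F266015 : act 2 n59594 = n58404 := d18_1 D59594 (iv D58404) D58403
theorem F266016 : act 5 n59594 = n58553 := d30_2 (iv F261236) D59594 (iv D58553) F257317 (iv F256463)
theorem F266017 : act 7 n59594 = n58422 := d32_2 (iv F261237) D59594 (iv D58422)
theorem F266018 : act 8 n59594 = n59331 := d33_2 F265567 D59594 (iv F265563)
def n59595 : Q := act 0 n58405
theorem D59595 : act 0 n58405 = n59595 := rfl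
theorem F266019 : act 1 n59595 = n59517 := d0_2 D58405 D59595 (iv D59517) (iv D58328) (iv F256462)
theorem F266020 : act 2 n59595 = n58828 := d1_2 (iv F261244) D59595 (iv D58828)
theorem F266021 : act 4 n59595 = n58554 := d3_2 (iv F261245) D59595 (iv D58554)
theorem F266022 : act 7 n59595 = n58423 := d6_2 (iv F261246) D59595 (iv D58423)
def n59596 : Q := act 3 n58406
theorem D59596 : act 3 n58406 = n59596 := rfl
theorem F266023 : act 0 n59596 = n58891 := d2_1 D59596 (iv D58891) (iv F261247)
theorem F266024 : act 1 n59596 = n58412 := d10_1 D59596 (iv D58412) (iv F261248)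
theorem F266025 : act 5 n59596 = n58493 := d25_2 (iv F261251) D59596 (iv D58493)
theorem F266026 : act 6 n59596 = n58504 := d26_2 (iv F261252) D59596 (iv D58504)
theorem F266027 : act 7 n59596 = n59102 := d27_2 (iv F261253) D59596 (iv D59102)
theorem F266028 : act 8 n59596 = n58494 := d28_2 D58406 D59596 (iv D58494) (iv D57332) (iv F256468)
theorem F266029 : act 9 n59596 = n58407 := d29_2 (iv F261254) D59596 (iv D58407)
def n59597 : Q := act 2 n58407
theorem D59597 : act 2 n58407 = n59597 := rfl
theorem F266030 : act 0 n59597 = n59215 := d1_1 D59597 (iv D59215) (iv F261255)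
theorem F266031 : act 3 n59597 = n58990 := d17_2 D58407 D59597 (iv D58990) (iv D57808) (iv F256475)
theorem F266032 : act 5 n59597 = n59141 := d19_2 (iv F261257) D59597 (iv D59141)
theorem F266033 : act 6 n59597 = n58542 := d20_2 (iv F261258) D59597 (iv D58542)
theorem F266034 : act 7 n59597 = n59051 := d21_2 (iv F261259) D59597 F264215
theorem F266035 : act 8 n59597 = n58408 := d22_2 (iv F261260) D59597 (iv D58408)
def n59598 : Q := act 4 n58407
theorem D59598 : act 4 n58407 = n59598 := rfl
theorem F266036 : act 0 n59598 = n58840 := d3_1 D59598 F263409 (iv F261255)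
theorem F266037 : act 1 n59598 = n58414 := d11_1 D59598 (iv D58414) (iv F261256)
theorem F266038 : act 3 n59598 = n58440 := d24_1 D59598 (iv D58440) (iv D57275) (iv F256476) D58407
theorem F266039 : act 6 n59598 = n58543 := d31_2 (iv F261258) D59598 (iv D58543)
theorem F266040 : act 7 n59598 = n58794 := d32_2 (iv F261259) D59598 F263204
theorem F266041 : act 8 n59598 = n58409 := d33_2 (iv F261260) D59598 (iv D58409)
theorem F266042 : act 5 n58912 = n59598 := d45_3 F254071 D57740 (iv F263712) (iv D59598) (iv D58407) F256474 F251040 D56152 (iv F257080) F257079 (iv D57098) (iv F254299) F254298 D56633 (iv F257229) F257230 (iv D56696) (iv F251883) (iv D56154) F245306 F238003 F229494 F226833 F217258 F207336 F135846 F204900 F204842 F66591 F204838 F33115 (iv F46869) F46868 (iv F66670) F66671 (iv F204832) (iv F135804) F206647 (iv F206648) (iv F206730) (iv F214421) D50075 F224360 F216143 D48384 (iv F222747) (iv F232090) (iv F240374) (iv F247671) F247670 (iv F247730) F247731 F242390 (iv D52252) (iv F234090) D54018 (iv F248209) F248208 F240946 F235588 F226575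 F216805 D48566 (iv F223031) (iv F231121) F231123 F231122 F221791 F211700 (iv F221677) (iv F230987) (iv D51521) (iv F230897) (iv D51500) F221619 F211594 D49464 (iv F230652) F230653 F221342 D49413 D51463 D53312 (iv F246449) D56293 F252725 F247661 (iv F248014) D56570
def n59599 : Q := act 1 n58408
theorem D59599 : act 1 n58408 = n59599 := rfl
theorem F266043 : act 2 n59599 = n58417 := d9_2 D58408 D59599 (iv D58417) (iv D57250) (iv F256481)
theorem F266044 : act 3 n59599 = n58829 := d10_2 (iv F261262) D59599 (iv D58829)
theorem F266045 : act 5 n59599 = n59143 := d12_2 (iv F261263) D59599 (iv D59143)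
theorem F266046 : act 6 n59599 = n59135 := d13_2 (iv F261264) D59599 (iv D59135)
theorem F266047 : act 7 n59599 = n59407 := d14_2 (iv F261265) D59599 (iv D59407)
theorem F266048 : act 9 n59599 = n59178 := d16_2 (iv F261266) D59599 (iv D59178)
def n59600 : Q := act 4 n58408
theorem D59600 : act 4 n58408 = n59600 := rfl
theorem F266049 : act 0 n59600 = n58839 := d3_1 D59600 F263404 (iv F261261)
theorem F266050 : act 2 n59600 = n58409 := d18_1 D59600 (iv D58409) D58408
theorem F266051 : act 3 n59600 = n58803 := d24_1 D59600 (iv D58803) F258591 (iv F258694) (iv F261262)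
theorem F266052 : act 6 n59600 = n59136 := d31_2 (iv F261264) D59600 (iv D59136)
theorem F266053 : act 7 n59600 = n59408 := d32_2 (iv F261265) D59600 (iv D59408)
theorem F266054 : act 9 n59600 = n59179 := d34_2 (iv F261266) D59600 (iv D59179)
theorem F266055 : act 5 n58904 = n59600 := d25_0 F266051 F263249 D58904
def n59601 : Q := act 3 n58410
theorem D59601 : act 3 n58410 = n59601 := rfl
theorem F266056 : act 0 n59601 = n59039 := d2_1 D59601 (iv D59039) (iv F261274)
theorem F266057 : act 1 n59601 = n58493 := d10_1 D59601 (iv D58493) (iv F261275)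
theorem F266058 : act 5 n59601 = n58412 := d25_2 (iv F261278) D59601 (iv D58412)
theorem F266059 : act 6 n59601 = n58894 := d26_2 (iv F261279) D59601 (iv D58894)
theorem F266060 : act 7 n59601 = n58935 := d27_2 (iv F261280) D59601 (iv D58935)
theorem F266061 : act 8 n59601 = n58490 := d28_2 D58410 D59601 (iv D58490) (iv D57329) (iv F256497)
theorem F266062 : act 9 n59601 = n58411 := d29_2 (iv F261281) D59601 (iv D58411)
def n59602 : Q := act 2 n58411
theorem D59602 : act 2 n58411 = n59602 := rfl
theorem F266063 : act 0 n59602 = n59040 := d1_1 D59602 (iv D59040) (iv F261282)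
theorem F266064 : act 3 n59602 = n58537 := d17_2 D58411 D59602 (iv D58537) (iv D57372) (iv F256504)
theorem F266065 : act 5 n59602 = n58413 := d19_2 (iv F261284) D59602 (iv D58413)
theorem F266066 : act 6 n59602 = n58895 := d20_2 (iv F261285) D59602 (iv D58895)
theorem F266067 : act 7 n59602 = n59225 := d21_2 (iv F261286) D59602 (iv D59225)
theorem F266068 : act 8 n59602 = n58415 := d22_2 (iv F261287) D59602 (iv D58415)
def n59603 : Q := act 4 n58411
theorem D59603 : act 4 n58411 = n59603 := rfl
theorem F266069 : act 0 n59603 = n59041 := d3_1 D59603 (iv D59041) (iv F261282)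
theorem F266070 : act 1 n59603 = n59142 := d11_1 D59603 (iv D59142) (iv F261283)
theorem F266071 : act 3 n59603 = n59603 := d24_1 D59603 (iv D59603) (iv D58411) F256505 D58411
theorem F266072 : act 6 n59603 = n58896 := d31_2 (iv F261285) D59603 (iv D58896)
theorem F266073 : act 7 n59603 = n59226 := d32_2 (iv F261286) D59603 (iv D59226)
theorem F266074 : act 8 n59603 = n58416 := d33_2 (iv F261287) D59603 (iv D58416)
def n59604 : Q := act 2 n58412
theorem D59604 : act 2 n58412 = n59604 := rfl
theorem F266075 : act 0 n59604 = n59499 := d1_1 D59604 (iv D59499) (iv F261288)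
theorem F266076 : act 3 n59604 = n58503 := d17_2 D58412 D59604 (iv D58503) (iv D57339) (iv F256510)
theorem F266077 : act 6 n59604 = n58507 := d20_2 (iv F261289) D59604 (iv D58507)
theorem F266078 : act 7 n59604 = n59197 := d21_2 (iv F261290) D59604 (iv D59197)
theorem F266079 : act 9 n59604 = n58413 := d23_2 (iv F261291) D59604 (iv D58413)
def n59605 : Q := act 4 n58412
theorem D59605 : act 4 n58412 = n59605 := rfl
theorem F266080 : act 0 n59605 = n59500 := d3_1 D59605 (iv D59500) (iv F261288)
theorem F266081 : act 3 n59605 = n58441 := d24_1 D59605 (iv D58441) (iv D57277) (iv F256511) D58412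
theorem F266082 : act 6 n59605 = n58508 := d31_2 (iv F261289) D59605 (iv D58508)
theorem F266083 : act 7 n59605 = n59198 := d32_2 (iv F261290) D59605 (iv D59198)
theorem F266084 : act 9 n59605 = n58414 := d34_2 (iv F261291) D59605 (iv D58414)
def n59606 : Q := act 1 n58413
theorem D59606 : act 1 n58413 = n59606 := rfl
theorem F266085 : act 3 n59606 = n58539 := d10_2 (iv F261293) D59606 (iv D58539)
theorem F266086 : act 6 n59606 = n58545 := d13_2 (iv F261294) D59606 (iv D58545)
theorem F266087 : act 7 n59606 = n59227 := d14_2 (iv F261295) D59606 (iv D59227)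
theorem F266088 : act 8 n59606 = n58417 := d15_2 (iv F261296) D59606 (iv D58417)
def n59607 : Q := act 4 n58413
theorem D59607 : act 4 n58413 = n59607 := rfl
theorem F266089 : act 0 n59607 = n59502 := d3_1 D59607 (iv D59502) (iv F261292)
theorem F266090 : act 2 n59607 = n58414 := d18_1 D59607 (iv D58414) D58413
theorem F266091 : act 3 n59607 = n59243 := d24_1 D59607 (iv D59243) (iv F261200) F261201 (iv F261293)
theorem F266092 : act 6 n59607 = n58546 := d31_2 (iv F261294) D59607 (iv D58546)
theorem F266093 : act 7 n59607 = n59228 := d32_2 (iv F261295) D59607 (iv D59228)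
theorem F266094 : act 8 n59607 = n58418 := d33_2 (iv F261296) D59607 (iv D58418)
def n59608 : Q := act 5 n58414
theorem D59608 : act 5 n58414 = n59608 := rfl
theorem F266095 : act 0 n59608 = n59503 := d4_1 D59608 (iv D59503) (iv F261297)
theorem F266096 : act 1 n59608 = n58912 := d12_1 D59608 F266042 F266037
theorem F266097 : act 3 n59608 = n58442 := d25_1 D59608 (iv D58442) (iv F261298)
theorem F266098 : act 7 n59608 = n59229 := d36_2 (iv F261300) D59608 (iv D59229)
theorem F266099 : act 8 n59608 = n58419 := d37_2 (iv F261301) D59608 (iv D58419)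
def n59609 : Q := act 1 n58415
theorem D59609 : act 1 n58415 = n59609 := rfl
theorem F266100 : act 2 n59609 = n59143 := d9_2 D58415 D59609 (iv D59143) (iv D57955) (iv F256520)
theorem F266101 : act 3 n59609 = n58421 := d10_2 (iv F261303) D59609 (iv D58421)
theorem F266102 : act 5 n59609 = n58417 := d12_2 (iv F261304) D59609 (iv D58417)
theorem F266103 : act 6 n59609 = n58899 := d13_2 (iv F261305) D59609 (iv D58899)
theorem F266104 : act 9 n59609 = n59170 := d16_2 (iv F261306) D59609 (iv D59170)
def n59610 : Q := act 4 n58415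
theorem D59610 : act 4 n58415 = n59610 := rfl
theorem F266105 : act 0 n59610 = n59056 := d3_1 D59610 (iv D59056) (iv F261302)
theorem F266106 : act 2 n59610 = n58416 := d18_1 D59610 (iv D58416) D58415
theorem F266107 : act 6 n59610 = n58900 := d31_2 (iv F261305) D59610 (iv D58900)
theorem F266108 : act 9 n59610 = n59171 := d34_2 (iv F261306) D59610 (iv D59171)
def n59611 : Q := act 5 n58416
theorem D59611 : act 5 n58416 = n59611 := rfl
theorem F266109 : act 0 n59611 = n59057 := d4_1 D59611 (iv D59057) (iv F261307)
theorem F266110 : act 1 n59611 = n58911 := d12_1 D59611 F263709 (iv F261308)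
theorem F266111 : act 3 n59611 = n58432 := d25_1 D59611 (iv D58432) (iv F261309)
theorem F266112 : act 4 n59611 = n58419 := d30_1 D59611 (iv D58419) (iv D57251) (iv F256521) D58416
theorem F266113 : act 6 n59611 = n59466 := d35_2 (iv F261310) D59611 (iv D59466) F260667 (iv F258977)
theorem F266114 : act 9 n59611 = n59172 := d38_2 (iv F261311) D59611 (iv D59172)
def n59612 : Q := act 0 n58417
theorem D59612 : act 0 n58417 = n59612 := rfl
theorem F266115 : act 1 n59612 = n59512 := d0_2 D58417 D59612 (iv D59512) (iv D58320) (iv F256524)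
theorem F266116 : act 3 n59612 = n58423 := d2_2 (iv F261312) D59612 (iv D58423)
theorem F266117 : act 6 n59612 = n59137 := d5_2 (iv F261313) D59612 (iv D59137)
def n59613 : Q := act 4 n58417
theorem D59613 : act 4 n58417 = n59613 := rfl
theorem F266118 : act 1 n59613 = n58418 := d11_1 D59613 (iv D58418) D58417
theorem F266119 : act 3 n59613 = n58574 := d24_1 D59613 (iv D58574) F257417 (iv F256544) (iv F261312)
theorem F266120 : act 6 n59613 = n59138 := d31_2 (iv F261313) D59613 (iv D59138)
def n59614 : Q := act 5 n58418
theorem D59614 : act 5 n58418 = n59614 := rfl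
theorem F266121 : act 0 n59614 = n59498 := d4_1 D59614 F265498 (iv F261314)
theorem F266122 : act 2 n59614 = n58419 := d19_1 D59614 (iv D58419) (iv F261315)
theorem F266123 : act 3 n59614 = n58575 := d25_1 D59614 (iv D58575) (iv F261316)
def n59615 : Q := act 6 n58419
theorem D59615 : act 6 n58419 = n59615 := rfl
theorem F266124 : act 0 n59615 = n59172 := d5_1 D59615 F264692 (iv F261318)
theorem F266125 : act 1 n59615 = n58433 := d13_1 D59615 F261398 (iv F261319)
theorem F266126 : act 3 n59615 = n58420 := d26_1 D59615 (iv D58420) (iv F261320)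
theorem F266127 : act 4 n59615 = n59466 := d31_1 D59615 (iv F266113) F266112
theorem F266128 : act 5 n59615 = n58588 := d35_1 D59615 F262252 F259246 (iv F256529) D58419
theorem F266129 : act 9 n59615 = n59057 := d41_2 F265907 D59615 (iv F265906)
theorem F266130 : act 7 n59428 = n59615 := d27_0 F266126 (iv F261328) D59428
def n59616 : Q := act 0 n58421
theorem D59616 : act 0 n58421 = n59616 := rfl
theorem F266131 : act 1 n59616 = n59066 := d0_2 D58421 D59616 (iv D59066) (iv D57870) (iv F256535)
theorem F266132 : act 2 n59616 = n58837 := d1_2 (iv F261329) D59616 (iv D58837)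
theorem F266133 : act 5 n59616 = n58423 := d4_2 (iv F261330) D59616 (iv D58423)
theorem F266134 : act 6 n59616 = n58902 := d5_2 (iv F261331) D59616 (iv D58902)
def n59617 : Q := act 4 n58421
theorem D59617 : act 4 n58421 = n59617 := rfl
theorem F266135 : act 1 n59617 = n58422 := d11_1 D59617 (iv D58422) D58421
theorem F266136 : act 2 n59617 = n58838 := d18_1 D59617 (iv D58838) (iv F261329)
theorem F266137 : act 5 n59617 = n58582 := d30_2 (iv F261330) D59617 (iv D58582) F257440 (iv F256544)
theorem F266138 : act 6 n59617 = n58903 := d31_2 (iv F261331) D59617 (iv D58903)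
def n59618 : Q := act 3 n58422
theorem D59618 : act 3 n58422 = n59618 := rfl
theorem F266139 : act 0 n59618 = n59068 := d2_1 D59618 (iv D59068) (iv F261332)
theorem F266140 : act 2 n59618 = n58433 := d17_1 D59618 (iv D58433) F256617 (iv F256540) (iv F261333)
theorem F266141 : act 5 n59618 = n58583 := d25_2 (iv F261334) D59618 (iv D58583)
theorem F266142 : act 6 n59618 = n58904 := d26_2 (iv F261335) D59618 (iv D58904)
def n59619 : Q := act 4 n58424
theorem D59619 : act 4 n58424 = n59619 := rfl
theorem F266143 : act 0 n59619 = n58984 := d3_1 D59619 (iv D58984) (iv F261340)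
theorem F266144 : act 1 n59619 = n59190 := d11_1 D59619 (iv D59190) (iv F261341)
theorem F266145 : act 2 n59619 = n58425 := d18_1 D59619 (iv D58425) D58424
theorem F266146 : act 5 n59619 = n59288 := d30_2 (iv F261343) D59619 (iv D59288) F260275 F256559
theorem F266147 : act 7 n59619 = n58431 := d32_2 (iv F261344) D59619 (iv D58431)
theorem F266148 : act 8 n59619 = n59619 := d33_2 F261345 D59619 (iv D59619)
theorem F266149 : act 9 n59619 = n59080 := d34_2 (iv F261346) D59619 (iv D59080)
def n59620 : Q := act 5 n58425
theorem D59620 : act 5 n58425 = n59620 := rfl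
theorem F266150 : act 0 n59620 = n59083 := d4_1 D59620 (iv D59083) (iv F261347)
theorem F266151 : act 1 n59620 = n58907 := d12_1 D59620 F263692 (iv F261348)
theorem F266152 : act 2 n59620 = n59288 := d19_1 D59620 (iv F266146) F266145
theorem F266153 : act 4 n59620 = n58426 := d30_1 D59620 (iv D58426) (iv D57258) (iv F256548) D58425
theorem F266154 : act 7 n59620 = n58432 := d36_2 (iv F261349) D59620 (iv D58432)
theorem F266155 : act 8 n59620 = n59620 := d37_2 F261350 D59620 (iv D59620)
theorem F266156 : act 9 n59620 = n59156 := d38_2 (iv F261351) D59620 (iv D59156)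
def n59621 : Q := act 6 n58426
theorem D59621 : act 6 n58426 = n59621 := rfl
theorem F266157 : act 0 n59621 = n58697 := d5_1 D59621 F262836 (iv F261352)
theorem F266158 : act 1 n59621 = n58905 := d13_1 D59621 F263682 (iv F261353)
theorem F266159 : act 2 n59621 = n58480 := d20_1 D59621 F261699 (iv F261354)
theorem F266160 : act 3 n59621 = n58427 := d26_1 D59621 (iv D58427) (iv F261355)
theorem F266161 : act 5 n59621 = n59621 := d35_1 D59621 (iv D59621) (iv D58426) F256564 D58426
theorem F266162 : act 7 n59621 = n58491 := d39_2 (iv F261356) D59621 F261767 F260044 (iv F256605)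
theorem F266163 : act 8 n59621 = n59621 := d40_2 F261357 D59621 (iv D59621)
theorem F266164 : act 9 n59621 = n58924 := d41_2 (iv F261358) D59621 F263764
def n59622 : Q := act 4 n58428
theorem D59622 : act 4 n58428 = n59622 := rfl
theorem F266165 : act 0 n59622 = n59076 := d3_1 D59622 (iv D59076) (iv F261365)
theorem F266166 : act 1 n59622 = n58930 := d11_1 D59622 (iv D58930) (iv F261366)
theorem F266167 : act 2 n59622 = n58429 := d18_1 D59622 (iv D58429) D58428
theorem F266168 : act 6 n59622 = n58430 := d31_2 (iv F261368) D59622 (iv D58430)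
theorem F266169 : act 7 n59622 = n58908 := d32_2 (iv F261369) D59622 (iv D58908)
theorem F266170 : act 8 n59622 = n58434 := d33_2 (iv F261370) D59622 (iv D58434)
theorem F266171 : act 5 n59094 = n59622 := d37_3 F266170 (iv F261406) D59094
def n59623 : Q := act 5 n58429
theorem D59623 : act 5 n58429 = n59623 := rfl
theorem F266172 : act 0 n59623 = n58788 := d4_1 D59623 F263174 (iv F261371)
theorem F266173 : act 1 n59623 = n58809 := d12_1 D59623 (iv D58809) (iv F261372)
theorem F266174 : act 2 n59623 = n59094 := d19_1 D59623 F266171 F266167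
theorem F266175 : act 4 n59623 = n59623 := d30_1 D59623 (iv D59623) (iv D58429) F256575 D58429
theorem F266176 : act 6 n59623 = n58585 := d35_2 (iv F261373) D59623 (iv D58585) F257469 (iv F256586)
theorem F266177 : act 7 n59623 = n58909 := d36_2 (iv F261374) D59623 (iv D58909)
theorem F266178 : act 8 n59623 = n58435 := d37_2 (iv F261375) D59623 (iv D58435)
def n59624 : Q := act 3 n58430
theorem D59624 : act 3 n58430 = n59624 := rfl
theorem F266179 : act 0 n59624 = n59085 := d2_1 D59624 (iv D59085) (iv F261376)
theorem F266180 : act 1 n59624 = n59428 := d10_1 D59624 (iv D59428) (iv F261377)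
theorem F266181 : act 5 n59624 = n58587 := d25_2 (iv F261379) D59624 (iv D58587)
theorem F266182 : act 7 n59624 = n58433 := d27_2 (iv F261380) D59624 (iv D58433)
theorem F266183 : act 8 n59624 = n58940 := d28_2 (iv F261381) D59624 F263820 F259134 F256640
def n59625 : Q := act 3 n58431
theorem D59625 : act 3 n58431 = n59625 := rfl
theorem F266184 : act 0 n59625 = n58988 := d2_1 D59625 (iv D58988) (iv F261382)
theorem F266185 : act 1 n59625 = n59466 := d10_1 D59625 F265422 (iv F261383)
theorem F266186 : act 4 n59625 = n58433 := d24_2 D58431 D59625 (iv D58433) (iv D57267) (iv F256591)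
theorem F266187 : act 5 n59625 = n59253 := d25_2 (iv F261385) D59625 F264952
theorem F266188 : act 6 n59625 = n58911 := d26_2 (iv F261386) D59625 (iv D58911)
theorem F266189 : act 9 n59625 = n59087 := d29_2 (iv F261388) D59625 (iv D59087)
def n59626 : Q := act 8 n58433
theorem D59626 : act 8 n58433 = n59626 := rfl
theorem F266190 : act 0 n59626 = n59086 := d7_1 D59626 (iv D59086) (iv F261396)
theorem F266191 : act 3 n59626 = n58437 := d28_1 D59626 (iv D58437) (iv D57272) (iv F256620) D58433
theorem F266192 : act 5 n59626 = n58589 := d37_1 D59626 (iv D58589) (iv F261397)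
theorem F266193 : act 6 n59626 = n58912 := d40_1 D59626 (iv D58912) (iv F261398)
theorem F266194 : act 7 n59626 = n58940 := d42_1 D59626 (iv F266183) F266182
def n59627 : Q := act 8 n58436
theorem D59627 : act 8 n58436 = n59627 := rfl
theorem F266195 : act 0 n59627 = n59187 := d7_1 D59627 F264745 (iv F261415)
theorem F266196 : act 1 n59627 = n58437 := d15_1 D59627 (iv D58437) (iv F261416)
theorem F266197 : act 2 n59627 = n59290 := d22_1 D59627 F265036 (iv F261417)
theorem F266198 : act 4 n59627 = n59627 := d33_1 D59627 (iv D59627) F261418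
theorem F266199 : act 5 n59627 = n58548 := d37_1 D59627 F262059 (iv F261419)
theorem F266200 : act 6 n59627 = n58442 := d40_1 D59627 F261462 (iv F261420)
theorem F266201 : act 7 n59627 = n58931 := d42_1 D59627 F263792 (iv F261421)
def n59628 : Q := act 9 n58437
theorem D59628 : act 9 n58437 = n59628 := rfl
theorem F266202 : act 0 n59628 = n59098 := d8_1 D59628 (iv D59098) (iv F261423)
theorem F266203 : act 4 n59628 = n59628 := d34_1 D59628 (iv D59628) F261424
theorem F266204 : act 5 n59628 = n58590 := d38_1 D59628 (iv D58590) (iv F261425)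
theorem F266205 : act 6 n59628 = n58914 := d41_1 D59628 (iv D58914) (iv F261426)
theorem F266206 : act 7 n59628 = n58704 := d43_1 D59628 F262864 (iv F261427)
theorem F266207 : act 8 n59628 = n59628 := d44_1 D59628 (iv D59628) (iv D58437) F256653 D58437
def n59629 : Q := act 4 n58439
theorem D59629 : act 4 n58439 = n59629 := rfl
theorem F266208 : act 0 n59629 = n58841 := d3_1 D59629 F263414 (iv F261436)
theorem F266209 : act 1 n59629 = n58441 := d11_1 D59629 (iv D58441) (iv F261437)
theorem F266210 : act 2 n59629 = n58790 := d18_1 D59629 (iv D58790) (iv F261438)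
theorem F266211 : act 6 n59629 = n58505 := d31_2 (iv F261440) D59629 (iv D58505)
theorem F266212 : act 7 n59629 = n58792 := d32_2 (iv F261441) D59629 (iv D58792)
theorem F266213 : act 8 n59629 = n59629 := d33_2 F261442 D59629 (iv D59629)
theorem F266214 : act 9 n59629 = n58440 := d34_2 (iv F261443) D59629 (iv D58440)
theorem F266215 : act 5 n58914 = n59629 := d38_3 F266214 (iv F261450) D58914
def n59630 : Q := act 5 n58441
theorem D59630 : act 5 n58441 = n59630 := rfl
theorem F266216 : act 0 n59630 = n59518 := d4_1 D59630 (iv D59518) (iv F261451)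
theorem F266217 : act 1 n59630 = n58914 := d12_1 D59630 F266215 F266209
theorem F266218 : act 2 n59630 = n59289 := d19_1 D59630 (iv D59289) (iv F261452)
theorem F266219 : act 4 n59630 = n59630 := d30_1 D59630 (iv D59630) (iv D58441) F256685 D58441
theorem F266220 : act 7 n59630 = n59199 := d36_2 (iv F261454) D59630 (iv D59199)
theorem F266221 : act 8 n59630 = n59630 := d37_2 F261455 D59630 (iv D59630)
theorem F266222 : act 9 n59630 = n58442 := d38_2 (iv F261456) D59630 (iv D58442)
def n59631 : Q := act 2 n58443
theorem D59631 : act 2 n58443 = n59631 := rfl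
theorem F266223 : act 0 n59631 = n58842 := d1_1 D59631 (iv D58842) (iv F261463)
theorem F266224 : act 3 n59631 = n58833 := d17_2 D58443 D59631 (iv D58833) (iv D57665) (iv F256711)
theorem F266225 : act 4 n59631 = n58915 := d18_2 (iv F261465) D59631 (iv D58915)
theorem F266226 : act 5 n59631 = n58845 := d19_2 (iv F261466) D59631 (iv D58845)
theorem F266227 : act 6 n59631 = n58806 := d20_2 (iv F261467) D59631 (iv D58806)
theorem F266228 : act 7 n59631 = n58444 := d21_2 (iv F261468) D59631 (iv D58444)
theorem F266229 : act 8 n59631 = n58814 := d22_2 (iv F261469) D59631 (iv D58814)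
theorem F266230 : act 9 n59631 = n58451 := d23_2 (iv F261470) D59631 (iv D58451)
def n59632 : Q := act 1 n58444
theorem D59632 : act 1 n58444 = n59632 := rfl
theorem F266231 : act 2 n59632 = n58466 := d9_2 D58444 D59632 (iv D58466) (iv D57303) (iv F256718)
theorem F266232 : act 3 n59632 = n58835 := d10_2 (iv F261472) D59632 (iv D58835)
theorem F266233 : act 4 n59632 = n59223 := d11_2 (iv F261473) D59632 (iv D59223)
theorem F266234 : act 5 n59632 = n58850 := d12_2 (iv F261474) D59632 (iv D58850)
theorem F266235 : act 6 n59632 = n58831 := d13_2 (iv F261475) D59632 (iv D58831)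
theorem F266236 : act 8 n59632 = n59374 := d15_2 (iv F261476) D59632 (iv D59374)
theorem F266237 : act 9 n59632 = n58457 := d16_2 (iv F261477) D59632 (iv D58457)
def n59633 : Q := act 3 n58445
theorem D59633 : act 3 n58445 = n59633 := rfl
theorem F266238 : act 0 n59633 = n58752 := d2_1 D59633 (iv D58752) (iv F261478)
theorem F266239 : act 1 n59633 = n58864 := d10_1 D59633 (iv D58864) (iv F261479)
theorem F266240 : act 5 n59633 = n59297 := d25_2 (iv F261482) D59633 (iv D59297)
theorem F266241 : act 6 n59633 = n58449 := d26_2 (iv F261483) D59633 (iv D58449)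
theorem F266242 : act 7 n59633 = n58610 := d27_2 (iv F261484) D59633 (iv D58610)
theorem F266243 : act 8 n59633 = n59305 := d28_2 D58445 D59633 (iv D59305) (iv D58111) (iv F256727)
theorem F266244 : act 9 n59633 = n58749 := d29_2 (iv F261485) D59633 (iv D58749)
def n59634 : Q := act 3 n58447
theorem D59634 : act 3 n58447 = n59634 := rfl
theorem F266245 : act 0 n59634 = n58617 := d2_1 D59634 (iv D58617) (iv F261494)
theorem F266246 : act 1 n59634 = n58467 := d10_1 D59634 (iv D58467) (iv F261495)
theorem F266247 : act 5 n59634 = n58448 := d25_2 (iv F261498) D59634 (iv D58448)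
theorem F266248 : act 6 n59634 = n58751 := d26_2 (iv F261499) D59634 (iv D58751)
theorem F266249 : act 7 n59634 = n58612 := d27_2 (iv F261500) D59634 (iv D58612)
theorem F266250 : act 8 n59634 = n58596 := d28_2 D58447 D59634 (iv D58596) (iv D57435) (iv F256742)
theorem F266251 : act 9 n59634 = n58805 := d29_2 (iv F261501) D59634 (iv D58805)
def n59635 : Q := act 2 n58448
theorem D59635 : act 2 n58448 = n59635 := rfl
theorem F266252 : act 0 n59635 = n58844 := d1_1 D59635 (iv D58844) (iv F261502)
theorem F266253 : act 4 n59635 = n58695 := d18_2 (iv F261504) D59635 (iv D58695)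
theorem F266254 : act 6 n59635 = n58451 := d20_2 (iv F261505) D59635 (iv D58451)
theorem F266255 : act 7 n59635 = n58613 := d21_2 (iv F261506) D59635 (iv D58613)
theorem F266256 : act 8 n59635 = n58614 := d22_2 (iv F261507) D59635 (iv D58614)
theorem F266257 : act 9 n59635 = n58806 := d23_2 (iv F261508) D59635 (iv D58806)
def n59636 : Q := act 2 n58449
theorem D59636 : act 2 n58449 = n59636 := rfl
theorem F266258 : act 0 n59636 = n58845 := d1_1 D59636 (iv D58845) (iv F261509)
theorem F266259 : act 3 n59636 = n58451 := d17_2 D58449 D59636 (iv D58451) (iv D57289) (iv F256755)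
theorem F266260 : act 5 n59636 = n58842 := d19_2 (iv F261511) D59636 (iv D58842)
theorem F266261 : act 7 n59636 = n58453 := d21_2 (iv F261512) D59636 (iv D58453)
theorem F266262 : act 8 n59636 = n59377 := d22_2 (iv F261513) D59636 (iv D59377)
theorem F266263 : act 9 n59636 = n58833 := d23_2 (iv F261514) D59636 (iv D58833)
def n59637 : Q := act 4 n58449
theorem D59637 : act 4 n58449 = n59637 := rfl
theorem F266264 : act 0 n59637 = n58846 := d3_1 D59637 (iv D58846) (iv F261509)
theorem F266265 : act 1 n59637 = n58866 := d11_1 D59637 (iv D58866) (iv F261510)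
theorem F266266 : act 3 n59637 = n58450 := d24_1 D59637 (iv D58450) (iv D57288) (iv F256756) D58449
theorem F266267 : act 5 n59637 = n59386 := d30_2 (iv F261511) D59637 (iv D59386) F260511 (iv F258751)
theorem F266268 : act 7 n59637 = n58454 := d32_2 (iv F261512) D59637 (iv D58454)
theorem F266269 : act 8 n59637 = n59378 := d33_2 (iv F261513) D59637 (iv D59378)
theorem F266270 : act 9 n59637 = n58834 := d34_2 (iv F261514) D59637 (iv D58834)
def n59638 : Q := act 1 n58451
theorem D59638 : act 1 n58451 = n59638 := rfl
theorem F266271 : act 2 n59638 = n58469 := d9_2 D58451 D59638 (iv D58469) (iv D57307) (iv F256768)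
theorem F266272 : act 4 n59638 = n59286 := d11_2 (iv F261523) D59638 (iv D59286)
theorem F266273 : act 5 n59638 = n59352 := d12_2 (iv F261524) D59638 (iv D59352)
theorem F266274 : act 7 n59638 = n58457 := d14_2 (iv F261525) D59638 (iv D58457)
theorem F266275 : act 8 n59638 = n59354 := d15_2 (iv F261526) D59638 (iv D59354)
def n59639 : Q := act 2 n58452
theorem D59639 : act 2 n58452 = n59639 := rfl
theorem F266276 : act 0 n59639 = n58848 := d1_1 D59639 (iv D58848) (iv F261527)
theorem F266277 : act 3 n59639 = n58822 := d17_2 D58452 D59639 (iv D58822) (iv D57655) (iv F256775)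
theorem F266278 : act 5 n59639 = n58821 := d19_2 (iv F261529) D59639 (iv D58821)
theorem F266279 : act 6 n59639 = n58810 := d20_2 (iv F261530) D59639 (iv D58810)
theorem F266280 : act 7 n59639 = n59377 := d21_2 (iv F261531) D59639 (iv D59377)
theorem F266281 : act 8 n59639 = n58453 := d22_2 (iv F261532) D59639 (iv D58453)
theorem F266282 : act 9 n59639 = n59369 := d23_2 (iv F261533) D59639 (iv D59369)
def n59640 : Q := act 4 n58452
theorem D59640 : act 4 n58452 = n59640 := rfl
theorem F266283 : act 0 n59640 = n58849 := d3_1 D59640 (iv D58849) (iv F261527)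
theorem F266284 : act 1 n59640 = n58860 := d11_1 D59640 (iv D58860) (iv F261528)
theorem F266285 : act 3 n59640 = n59640 := d24_1 D59640 (iv D59640) (iv D58452) F256776 D58452
theorem F266286 : act 5 n59640 = n59397 := d30_2 (iv F261529) D59640 (iv D59397) F260535 (iv F258666)
theorem F266287 : act 6 n59640 = n58811 := d31_2 (iv F261530) D59640 (iv D58811)
theorem F266288 : act 7 n59640 = n59378 := d32_2 (iv F261531) D59640 (iv D59378)
theorem F266289 : act 8 n59640 = n58454 := d33_2 (iv F261532) D59640 (iv D58454)
theorem F266290 : act 9 n59640 = n59370 := d34_2 (iv F261533) D59640 (iv D59370)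
def n59641 : Q := act 1 n58453
theorem D59641 : act 1 n58453 = n59641 := rfl
theorem F266291 : act 2 n59641 = n58868 := d9_2 D58453 D59641 (iv D58868) (iv D57697) (iv F256782)
theorem F266292 : act 3 n59641 = n58457 := d10_2 (iv F261535) D59641 (iv D58457)
theorem F266293 : act 5 n59641 = n58843 := d12_2 (iv F261536) D59641 (iv D58843)
theorem F266294 : act 6 n59641 = n58818 := d13_2 (iv F261537) D59641 (iv D58818)
theorem F266295 : act 9 n59641 = n58835 := d16_2 (iv F261538) D59641 (iv D58835)
def n59642 : Q := act 4 n58453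
theorem D59642 : act 4 n58453 = n59642 := rfl
theorem F266296 : act 0 n59642 = n58851 := d3_1 D59642 (iv D58851) (iv F261534)
theorem F266297 : act 2 n59642 = n58454 := d18_1 D59642 (iv D58454) D58453
theorem F266298 : act 3 n59642 = n59281 := d24_1 D59642 (iv D59281) F260258 (iv F256801) (iv F261535)
theorem F266299 : act 5 n59642 = n59400 := d30_2 (iv F261536) D59642 (iv D59400) F260543 (iv F258756)
theorem F266300 : act 6 n59642 = n58819 := d31_2 (iv F261537) D59642 (iv D58819)
theorem F266301 : act 9 n59642 = n58836 := d34_2 (iv F261538) D59642 (iv D58836)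
def n59643 : Q := act 1 n58455
theorem D59643 : act 1 n58455 = n59643 := rfl
theorem F266302 : act 2 n59643 = n58475 := d9_2 D58455 D59643 (iv D58475) (iv D57312) (iv F256794)
theorem F266303 : act 3 n59643 = n58843 := d10_2 (iv F261546) D59643 (iv D58843)
theorem F266304 : act 5 n59643 = n58457 := d12_2 (iv F261547) D59643 (iv D58457)
theorem F266305 : act 6 n59643 = n58802 := d13_2 (iv F261548) D59643 (iv D58802)
theorem F266306 : act 7 n59643 = n59352 := d14_2 (iv F261549) D59643 (iv D59352)
theorem F266307 : act 8 n59643 = n59346 := d15_2 (iv F261550) D59643 (iv D59346)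
theorem F266308 : act 9 n59643 = n58850 := d16_2 (iv F261551) D59643 (iv D58850)
def n59644 : Q := act 4 n58455
theorem D59644 : act 4 n58455 = n59644 := rfl
theorem F266309 : act 0 n59644 = n58836 := d3_1 D59644 (iv D58836) (iv F261545)
theorem F266310 : act 2 n59644 = n58456 := d18_1 D59644 (iv D58456) D58455
theorem F266311 : act 3 n59644 = n59136 := d24_1 D59644 (iv D59136) F259840 (iv F258756) (iv F261546)
theorem F266312 : act 5 n59644 = n58580 := d30_2 (iv F261547) D59644 (iv D58580) F257434 (iv F256801)
theorem F266313 : act 6 n59644 = n58803 := d31_2 (iv F261548) D59644 (iv D58803)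
theorem F266314 : act 7 n59644 = n59353 := d32_2 (iv F261549) D59644 (iv D59353)
theorem F266315 : act 8 n59644 = n59347 := d33_2 (iv F261550) D59644 (iv D59347)
theorem F266316 : act 9 n59644 = n58851 := d34_2 (iv F261551) D59644 (iv D58851)
def n59645 : Q := act 0 n58457
theorem D59645 : act 0 n58457 = n59645 := rfl
theorem F266317 : act 1 n59645 = n58852 := d0_2 D58457 D59645 (iv D58852) (iv D57684) (iv F256800)
theorem F266318 : act 2 n59645 = n58477 := d1_2 (iv F261560) D59645 (iv D58477)
theorem F266319 : act 4 n59645 = n59287 := d3_2 (iv F261561) D59645 (iv D59287)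
theorem F266320 : act 6 n59645 = n59140 := d5_2 (iv F261562) D59645 (iv D59140)
def n59646 : Q := act 2 n58458
theorem D59646 : act 2 n58458 = n59646 := rfl
theorem F266321 : act 0 n59646 = n58498 := d1_1 D59646 (iv D58498) (iv F261563)
theorem F266322 : act 3 n59646 = n59268 := d17_2 D58458 D59646 (iv D59268) (iv D58070) (iv F256813)
theorem F266323 : act 5 n59646 = n58459 := d19_2 (iv F261565) D59646 (iv D58459)
theorem F266324 : act 6 n59646 = n59396 := d20_2 (iv F261566) D59646 (iv D59396)
theorem F266325 : act 7 n59646 = n59334 := d21_2 (iv F261567) D59646 (iv D59334)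
theorem F266326 : act 8 n59646 = n58464 := d22_2 (iv F261568) D59646 (iv D58464)
theorem F266327 : act 9 n59646 = n59118 := d23_2 (iv F261569) D59646 (iv D59118)
def n59647 : Q := act 4 n58458
theorem D59647 : act 4 n58458 = n59647 := rfl
theorem F266328 : act 0 n59647 = n58499 := d3_1 D59647 (iv D58499) (iv F261563)
theorem F266329 : act 1 n59647 = n58849 := d11_1 D59647 (iv D58849) (iv F261564)
theorem F266330 : act 3 n59647 = n59647 := d24_1 D59647 (iv D59647) (iv D58458) F256814 D58458
theorem F266331 : act 5 n59647 = n58943 := d30_2 (iv F261565) D59647 (iv D58943) F259136 (iv F256821)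
theorem F266332 : act 6 n59647 = n59397 := d31_2 (iv F261566) D59647 (iv D59397)
theorem F266333 : act 7 n59647 = n59335 := d32_2 (iv F261567) D59647 (iv D59335)
theorem F266334 : act 8 n59647 = n58465 := d33_2 (iv F261568) D59647 (iv D58465)
theorem F266335 : act 9 n59647 = n59119 := d34_2 (iv F261569) D59647 (iv D59119)
def n59648 : Q := act 1 n58459
theorem D59648 : act 1 n58459 = n59648 := rfl
theorem F266336 : act 2 n59648 = n59374 := d9_2 D58459 D59648 (iv D59374) (iv D58183) (iv F256820)
theorem F266337 : act 3 n59648 = n59272 := d10_2 (iv F261571) D59648 (iv D59272)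
theorem F266338 : act 4 n59648 = n59200 := d11_2 (iv F261572) D59648 (iv D59200)
theorem F266339 : act 6 n59648 = n59131 := d13_2 (iv F261573) D59648 (iv D59131)
theorem F266340 : act 8 n59648 = n58466 := d15_2 (iv F261574) D59648 (iv D58466)
theorem F266341 : act 9 n59648 = n59120 := d16_2 (iv F261575) D59648 (iv D59120)
def n59649 : Q := act 1 n58460
theorem D59649 : act 1 n58460 = n59649 := rfl
theorem F266342 : act 3 n59649 = n59504 := d10_2 (iv F261577) D59649 (iv D59504)
theorem F266343 : act 4 n59649 = n59469 := d11_2 (iv F261578) D59649 (iv D59469)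
theorem F266344 : act 5 n59649 = n59358 := d12_2 (iv F261579) D59649 (iv D59358)
theorem F266345 : act 7 n59649 = n58466 := d14_2 (iv F261580) D59649 (iv D58466)
theorem F266346 : act 9 n59649 = n58469 := d16_2 (iv F261581) D59649 (iv D58469)
def n59650 : Q := act 2 n58461
theorem D59650 : act 2 n58461 = n59650 := rfl
theorem F266347 : act 0 n59650 = n58519 := d1_1 D59650 (iv D58519) (iv F261582)
theorem F266348 : act 3 n59650 = n59216 := d17_2 D58461 D59650 (iv D59216) (iv D58026) (iv F256832)
theorem F266349 : act 5 n59650 = n58892 := d19_2 (iv F261584) D59650 (iv D58892)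
theorem F266350 : act 6 n59650 = n59141 := d20_2 (iv F261585) D59650 (iv D59141)
theorem F266351 : act 7 n59650 = n59456 := d21_2 (iv F261586) D59650 (iv D59456)
theorem F266352 : act 8 n59650 = n58462 := d22_2 (iv F261587) D59650 (iv D58462)
theorem F266353 : act 9 n59650 = n59191 := d23_2 (iv F261588) D59650 (iv D59191)
def n59651 : Q := act 4 n58461
theorem D59651 : act 4 n58461 = n59651 := rfl
theorem F266354 : act 0 n59651 = n58520 := d3_1 D59651 (iv D58520) (iv F261582)
theorem F266355 : act 1 n59651 = n58896 := d11_1 D59651 (iv D58896) (iv F261583)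
theorem F266356 : act 3 n59651 = n59651 := d24_1 D59651 (iv D59651) (iv D58461) F256833 D58461
theorem F266357 : act 5 n59651 = n59448 := d30_2 (iv F261584) D59651 (iv D59448) F260636 (iv F258942)
theorem F266358 : act 6 n59651 = n59142 := d31_2 (iv F261585) D59651 (iv D59142)
theorem F266359 : act 7 n59651 = n59457 := d32_2 (iv F261586) D59651 (iv D59457)
theorem F266360 : act 8 n59651 = n58463 := d33_2 (iv F261587) D59651 (iv D58463)
theorem F266361 : act 9 n59651 = n59192 := d34_2 (iv F261588) D59651 (iv D59192)
def n59652 : Q := act 1 n58462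
theorem D59652 : act 1 n58462 = n59652 := rfl
theorem F266362 : act 2 n59652 = n58899 := d9_2 D58462 D59652 (iv D58899) (iv D57724) (iv F256839)
theorem F266363 : act 3 n59652 = n58466 := d10_2 (iv F261590) D59652 (iv D58466)
theorem F266364 : act 5 n59652 = n58893 := d12_2 (iv F261591) D59652 (iv D58893)
theorem F266365 : act 6 n59652 = n59143 := d13_2 (iv F261592) D59652 (iv D59143)
theorem F266366 : act 7 n59652 = n59504 := d14_2 (iv F261593) D59652 (iv D59504)
theorem F266367 : act 9 n59652 = n58470 := d16_2 (iv F261594) D59652 (iv D58470)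
def n59653 : Q := act 4 n58462
theorem D59653 : act 4 n58462 = n59653 := rfl
theorem F266368 : act 0 n59653 = n58523 := d3_1 D59653 (iv D58523) (iv F261589)
theorem F266369 : act 2 n59653 = n58463 := d18_1 D59653 (iv D58463) D58462
theorem F266370 : act 3 n59653 = n59465 := d24_1 D59653 (iv D59465) F260663 (iv F256859) (iv F261590)
theorem F266371 : act 5 n59653 = n59451 := d30_2 (iv F261591) D59653 (iv D59451) F260639 (iv F258947)
theorem F266372 : act 6 n59653 = n59144 := d31_2 (iv F261592) D59653 (iv D59144)
theorem F266373 : act 7 n59653 = n59505 := d32_2 (iv F261593) D59653 (iv D59505)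
theorem F266374 : act 9 n59653 = n58471 := d34_2 (iv F261594) D59653 (iv D58471)
def n59654 : Q := act 1 n58464
theorem D59654 : act 1 n58464 = n59654 := rfl
theorem F266375 : act 2 n59654 = n58850 := d9_2 D58464 D59654 (iv D58850) (iv D57682) (iv F256853)
theorem F266376 : act 3 n59654 = n58893 := d10_2 (iv F261603) D59654 (iv D58893)
theorem F266377 : act 5 n59654 = n58466 := d12_2 (iv F261604) D59654 (iv D58466)
theorem F266378 : act 6 n59654 = n59399 := d13_2 (iv F261605) D59654 (iv D59399)
theorem F266379 : act 7 n59654 = n59358 := d14_2 (iv F261606) D59654 (iv D59358)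
theorem F266380 : act 9 n59654 = n58475 := d16_2 (iv F261607) D59654 (iv D58475)
def n59655 : Q := act 4 n58464
theorem D59655 : act 4 n58464 = n59655 := rfl
theorem F266381 : act 0 n59655 = n58529 := d3_1 D59655 (iv D58529) (iv F261602)
theorem F266382 : act 2 n59655 = n58465 := d18_1 D59655 (iv D58465) D58464
theorem F266383 : act 3 n59655 = n59214 := d24_1 D59655 (iv D59214) F260120 (iv F258947) (iv F261603)
theorem F266384 : act 5 n59655 = n58975 := d30_2 (iv F261604) D59655 (iv D58975) F259255 (iv F256859)
theorem F266385 : act 6 n59655 = n59400 := d31_2 (iv F261605) D59655 (iv D59400)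
theorem F266386 : act 7 n59655 = n59359 := d32_2 (iv F261606) D59655 (iv D59359)
theorem F266387 : act 9 n59655 = n58476 := d34_2 (iv F261607) D59655 (iv D58476)
def n59656 : Q := act 0 n58466
theorem D59656 : act 0 n58466 = n59656 := rfl
theorem F266388 : act 1 n59656 = n58530 := d0_2 D58466 D59656 (iv D58530) (iv D57362) (iv F256858)
theorem F266389 : act 4 n59656 = n59470 := d3_2 (iv F261615) D59656 (iv D59470)
theorem F266390 : act 6 n59656 = n59145 := d5_2 (iv F261616) D59656 (iv D59145)
theorem F266391 : act 9 n59656 = n58477 := d8_2 (iv F261617) D59656 (iv D58477)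
def n59657 : Q := act 2 n58467
theorem D59657 : act 2 n58467 = n59657 := rfl
theorem F266392 : act 0 n59657 = n58537 := d1_1 D59657 (iv D58537) (iv F261618)
theorem F266393 : act 3 n59657 = n59040 := d17_2 D58467 D59657 (iv D59040) (iv D57850) (iv F256871)
theorem F266394 : act 5 n59657 = n58468 := d19_2 (iv F261619) D59657 (iv D58468)
theorem F266395 : act 6 n59657 = n58761 := d20_2 (iv F261620) D59657 (iv D58761)
theorem F266396 : act 7 n59657 = n59151 := d21_2 (iv F261621) D59657 (iv D59151)
theorem F266397 : act 8 n59657 = n58768 := d22_2 (iv F261622) D59657 (iv D58768)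
def n59658 : Q := act 4 n58467
theorem D59658 : act 4 n58467 = n59658 := rfl
theorem F266398 : act 0 n59658 = n58538 := d3_1 D59658 (iv D58538) (iv F261618)
theorem F266399 : act 3 n59658 = n59658 := d24_1 D59658 (iv D59658) (iv D58467) F256872 D58467
theorem F266400 : act 5 n59658 = n59323 := d30_2 (iv F261619) D59658 (iv D59323) F260380 (iv F256877)
theorem F266401 : act 6 n59658 = n58762 := d31_2 (iv F261620) D59658 (iv D58762)
theorem F266402 : act 7 n59658 = n59152 := d32_2 (iv F261621) D59658 (iv D59152)
theorem F266403 : act 8 n59658 = n58769 := d33_2 (iv F261622) D59658 (iv D58769)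
def n59659 : Q := act 1 n58468
theorem D59659 : act 1 n58468 = n59659 := rfl
theorem F266404 : act 3 n59659 = n59501 := d10_2 (iv F261624) D59659 (iv D59501)
theorem F266405 : act 4 n59659 = n59490 := d11_2 (iv F261625) D59659 (iv D59490)
theorem F266406 : act 6 n59659 = n58469 := d13_2 (iv F261626) D59659 (iv D58469)
theorem F266407 : act 7 n59659 = n59153 := d14_2 (iv F261627) D59659 (iv D59153)
theorem F266408 : act 8 n59659 = n59362 := d15_2 (iv F261628) D59659 (iv D59362)
def n59660 : Q := act 0 n58469
theorem D59660 : act 0 n58469 = n59660 := rfl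
theorem F266409 : act 1 n59660 = n58554 := d0_2 D58469 D59660 (iv D58554) (iv D57385) (iv F256881)
theorem F266410 : act 3 n59660 = n59506 := d2_2 (iv F261629) D59660 (iv D59506)
theorem F266411 : act 4 n59660 = n59517 := d3_2 (iv F261630) D59660 (iv D59517)
theorem F266412 : act 5 n59660 = n59360 := d4_2 (iv F261631) D59660 (iv D59360)
theorem F266413 : act 7 n59660 = n58477 := d6_2 (iv F261632) D59660 (iv D58477)
theorem F266414 : act 8 n59660 = n59363 := d7_2 (iv F261633) D59660 (iv D59363)
def n59661 : Q := act 0 n58470
theorem D59661 : act 0 n58470 = n59661 := rfl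
theorem F266415 : act 1 n59661 = n58573 := d0_2 D58470 D59661 (iv D58573) (iv D57401) (iv F256887)
theorem F266416 : act 2 n59661 = n59516 := d1_2 (iv F261634) D59661 F265534
theorem F266417 : act 3 n59661 = n58477 := d2_2 (iv F261635) D59661 (iv D58477)
theorem F266418 : act 5 n59661 = n59482 := d4_2 (iv F261636) D59661 (iv D59482)
theorem F266419 : act 6 n59661 = n59180 := d5_2 (iv F261637) D59661 (iv D59180)
theorem F266420 : act 7 n59661 = n59506 := d6_2 (iv F261638) D59661 (iv D59506)
theorem F266421 : act 8 n59661 = n59483 := d7_2 (iv F261639) D59661 (iv D59483)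
def n59662 : Q := act 4 n58470
theorem D59662 : act 4 n58470 = n59662 := rfl
theorem F266422 : act 1 n59662 = n58471 := d11_1 D59662 (iv D58471) D58470
theorem F266423 : act 2 n59662 = n59515 := d18_1 D59662 F265533 (iv F261634)
theorem F266424 : act 3 n59662 = n59513 := d24_1 D59662 (iv D59513) F260776 (iv F256924) (iv F261635)
theorem F266425 : act 5 n59662 = n59497 := d30_2 (iv F261636) D59662 (iv D59497) F260752 (iv F260715)
theorem F266426 : act 6 n59662 = n59181 := d31_2 (iv F261637) D59662 (iv D59181)
theorem F266427 : act 7 n59662 = n59507 := d32_2 (iv F261638) D59662 (iv D59507)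
theorem F266428 : act 8 n59662 = n59484 := d33_2 (iv F261639) D59662 (iv D59484)
def n59663 : Q := act 2 n58472
theorem D59663 : act 2 n58472 = n59663 := rfl
theorem F266429 : act 0 n59663 = n58577 := d1_1 D59663 (iv D58577) (iv F261647)
theorem F266430 : act 3 n59663 = n58991 := d17_2 D58472 D59663 (iv D58991) (iv D57809) (iv F256902)
theorem F266431 : act 5 n59663 = n58796 := d19_2 (iv F261649) D59663 (iv D58796)
theorem F266432 : act 6 n59663 = n58740 := d20_2 (iv F261650) D59663 (iv D58740)
theorem F266433 : act 7 n59663 = n58473 := d21_2 (iv F261651) D59663 (iv D58473)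
theorem F266434 : act 8 n59663 = n58629 := d22_2 (iv F261652) D59663 (iv D58629)
theorem F266435 : act 9 n59663 = n59385 := d23_2 (iv F261653) D59663 (iv D59385)
def n59664 : Q := act 4 n58472
theorem D59664 : act 4 n58472 = n59664 := rfl
theorem F266436 : act 0 n59664 = n58578 := d3_1 D59664 (iv D58578) (iv F261647)
theorem F266437 : act 1 n59664 = n58632 := d11_1 D59664 (iv D58632) (iv F261648)
theorem F266438 : act 3 n59664 = n58478 := d24_1 D59664 (iv D58478) (iv D57315) (iv F256903) D58472
theorem F266439 : act 5 n59664 = n58834 := d30_2 (iv F261649) D59664 (iv D58834) F258720 (iv F258560)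
theorem F266440 : act 6 n59664 = n58741 := d31_2 (iv F261650) D59664 (iv D58741)
theorem F266441 : act 7 n59664 = n58474 := d32_2 (iv F261651) D59664 (iv D58474)
theorem F266442 : act 8 n59664 = n58630 := d33_2 (iv F261652) D59664 (iv D58630)
theorem F266443 : act 9 n59664 = n59386 := d34_2 (iv F261653) D59664 (iv D59386)
def n59665 : Q := act 1 n58473
theorem D59665 : act 1 n58473 = n59665 := rfl
theorem F266444 : act 2 n59665 = n58802 := d9_2 D58473 D59665 (iv D58802) (iv D57637) (iv F256909)
theorem F266445 : act 3 n59665 = n59037 := d10_2 (iv F261655) D59665 F264170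
theorem F266446 : act 5 n59665 = n58799 := d12_2 (iv F261656) D59665 (iv D58799)
theorem F266447 : act 6 n59665 = n58475 := d13_2 (iv F261657) D59665 (iv D58475)
theorem F266448 : act 8 n59665 = n59341 := d15_2 (iv F261658) D59665 (iv D59341)
theorem F266449 : act 9 n59665 = n59399 := d16_2 (iv F261659) D59665 (iv D59399)
def n59666 : Q := act 4 n58473
theorem D59666 : act 4 n58473 = n59666 := rfl
theorem F266450 : act 0 n59666 = n58580 := d3_1 D59666 (iv D58580) (iv F261654)
theorem F266451 : act 2 n59666 = n58474 := d18_1 D59666 (iv D58474) D58473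
theorem F266452 : act 3 n59666 = n58563 := d24_1 D59666 (iv D58563) F257368 D57847 (iv F261655)
theorem F266453 : act 5 n59666 = n58836 := d30_2 (iv F261656) D59666 (iv D58836) F258723 (iv F258577)
theorem F266454 : act 6 n59666 = n58476 := d31_2 (iv F261657) D59666 (iv D58476)
theorem F266455 : act 8 n59666 = n59342 := d33_2 (iv F261658) D59666 (iv D59342)
theorem F266456 : act 9 n59666 = n59400 := d34_2 (iv F261659) D59666 (iv D59400)
def n59667 : Q := act 0 n58475
theorem D59667 : act 0 n58475 = n59667 := rfl
theorem F266457 : act 1 n59667 = n58581 := d0_2 D58475 D59667 (iv D58581) (iv D57408) (iv F256914)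
theorem F266458 : act 3 n59667 = n59482 := d2_2 (iv F261667) D59667 (iv D59482)
theorem F266459 : act 5 n59667 = n58477 := d4_2 (iv F261668) D59667 (iv D58477)
theorem F266460 : act 7 n59667 = n59360 := d6_2 (iv F261669) D59667 (iv D59360)
theorem F266461 : act 8 n59667 = n59348 := d7_2 (iv F261670) D59667 (iv D59348)
def n59668 : Q := act 4 n58475
theorem D59668 : act 4 n58475 = n59668 := rfl
theorem F266462 : act 1 n59668 = n58476 := d11_1 D59668 (iv D58476) D58475
theorem F266463 : act 3 n59668 = n59265 := d24_1 D59668 (iv D59265) F260237 (iv F260715) (iv F261667)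
theorem F266464 : act 5 n59668 = n59067 := d30_2 (iv F261668) D59668 (iv D59067) F259526 (iv F256924)
theorem F266465 : act 7 n59668 = n59361 := d32_2 (iv F261669) D59668 (iv D59361)
theorem F266466 : act 8 n59668 = n59349 := d33_2 (iv F261670) D59668 (iv D59349)
def n59669 : Q := act 3 n58479
theorem D59669 : act 3 n58479 = n59669 := rfl
theorem F266467 : act 0 n59669 = n58696 := d2_1 D59669 (iv D58696) (iv F261688)
theorem F266468 : act 1 n59669 = n58483 := d10_1 D59669 (iv D58483) (iv F261689)
theorem F266469 : act 5 n59669 = n59196 := d25_2 (iv F261692) D59669 (iv D59196)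
theorem F266470 : act 6 n59669 = n58932 := d26_2 (iv F261693) D59669 (iv D58932)
theorem F266471 : act 7 n59669 = n58490 := d27_2 (iv F261694) D59669 (iv D58490)
theorem F266472 : act 8 n59669 = n58935 := d28_2 D58479 D59669 (iv D58935) (iv D57759) (iv F256952)
theorem F266473 : act 9 n59669 = n58923 := d29_2 (iv F261695) D59669 (iv D58923)
def n59670 : Q := act 4 n58480
theorem D59670 : act 4 n58480 = n59670 := rfl
theorem F266474 : act 0 n59670 = n58698 := d3_1 D59670 (iv D58698) (iv F261696)
theorem F266475 : act 1 n59670 = n58484 := d11_1 D59670 (iv D58484) (iv F261697)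
theorem F266476 : act 6 n59670 = n59288 := d31_2 (iv F261699) D59670 (iv D59288)
theorem F266477 : act 7 n59670 = n58492 := d32_2 (iv F261700) D59670 (iv D58492)
theorem F266478 : act 8 n59670 = n59670 := d33_2 F261701 D59670 (iv D59670)
theorem F266479 : act 9 n59670 = n58925 := d34_2 (iv F261702) D59670 (iv D58925)
def n59671 : Q := act 3 n58481
theorem D59671 : act 3 n58481 = n59671 := rfl
theorem F266480 : act 0 n59671 = n59204 := d2_1 D59671 (iv D59204) (iv F261703)
theorem F266481 : act 1 n59671 = n58935 := d10_1 D59671 (iv D58935) (iv F261704)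
theorem F266482 : act 5 n59671 = n59102 := d25_2 (iv F261707) D59671 (iv D59102)
theorem F266483 : act 6 n59671 = n58927 := d26_2 (iv F261708) D59671 (iv D58927)
theorem F266484 : act 7 n59671 = n58493 := d27_2 (iv F261709) D59671 (iv D58493)
theorem F266485 : act 8 n59671 = n58483 := d28_2 D58481 D59671 (iv D58483) (iv D57322) (iv F256967)
theorem F266486 : act 9 n59671 = n59103 := d29_2 (iv F261710) D59671 F264402
def n59672 : Q := act 3 n58482
theorem D59672 : act 3 n58482 = n59672 := rfl
theorem F266487 : act 0 n59672 = n59237 := d2_1 D59672 (iv D59237) (iv F261711)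
theorem F266488 : act 1 n59672 = n59196 := d10_1 D59672 (iv D59196) (iv F261712)
theorem F266489 : act 5 n59672 = n58483 := d25_2 (iv F261715) D59672 (iv D58483)
theorem F266490 : act 6 n59672 = n59201 := d26_2 (iv F261716) D59672 (iv D59201)
theorem F266491 : act 7 n59672 = n58494 := d27_2 (iv F261717) D59672 (iv D58494)
theorem F266492 : act 8 n59672 = n59102 := d28_2 D58482 D59672 (iv D59102) F259681 (iv F256975)
theorem F266493 : act 9 n59672 = n59157 := d29_2 (iv F261718) D59672 (iv D59157)
def n59673 : Q := act 2 n58483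
theorem D59673 : act 2 n58483 = n59673 := rfl
theorem F266494 : act 0 n59673 = n59240 := d1_1 D59673 (iv D59240) (iv F261719)
theorem F266495 : act 3 n59673 = n58487 := d17_2 D58483 D59673 (iv D58487) (iv D57326) (iv F256981)
theorem F266496 : act 6 n59673 = n59462 := d20_2 (iv F261720) D59673 (iv D59462)
theorem F266497 : act 7 n59673 = n58495 := d21_2 (iv F261721) D59673 (iv D58495)
theorem F266498 : act 9 n59673 = n59158 := d23_2 (iv F261722) D59673 (iv D59158)
def n59674 : Q := act 4 n58483
theorem D59674 : act 4 n58483 = n59674 := rfl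
theorem F266499 : act 0 n59674 = n59241 := d3_1 D59674 (iv D59241) (iv F261719)
theorem F266500 : act 3 n59674 = n58484 := d24_1 D59674 (iv D58484) (iv D57323) (iv F256982) D58483
theorem F266501 : act 6 n59674 = n59463 := d31_2 (iv F261720) D59674 (iv D59463)
theorem F266502 : act 7 n59674 = n58496 := d32_2 (iv F261721) D59674 (iv D58496)
theorem F266503 : act 9 n59674 = n59159 := d34_2 (iv F261722) D59674 (iv D59159)
def n59675 : Q := act 5 n58484
theorem D59675 : act 5 n58484 = n59675 := rfl
theorem F266504 : act 0 n59675 = n59289 := d4_1 D59675 (iv D59289) (iv F261723)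
theorem F266505 : act 2 n59675 = n59518 := d19_1 D59675 (iv D59518) (iv F261724)
theorem F266506 : act 4 n59675 = n59675 := d30_1 D59675 (iv D59675) (iv D58484) F256988 D58484
theorem F266507 : act 7 n59675 = n58497 := d36_2 (iv F261726) D59675 (iv D58497)
theorem F266508 : act 8 n59675 = n59675 := d37_2 F261727 D59675 (iv D59675)
theorem F266509 : act 9 n59675 = n59184 := d38_2 (iv F261728) D59675 (iv D59184)
def n59676 : Q := act 3 n58485
theorem D59676 : act 3 n58485 = n59676 := rfl
theorem F266510 : act 0 n59676 = n58720 := d2_1 D59676 (iv D58720) (iv F261729)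
theorem F266511 : act 1 n59676 = n58919 := d10_1 D59676 (iv D58919) (iv F261730)
theorem F266512 : act 5 n59676 = n58956 := d25_2 (iv F261733) D59676 (iv D58956)
theorem F266513 : act 6 n59676 = n58486 := d26_2 (iv F261734) D59676 (iv D58486)
theorem F266514 : act 7 n59676 = n58948 := d27_2 (iv F261735) D59676 (iv D58948)
theorem F266515 : act 8 n59676 = n58510 := d28_2 D58485 D59676 (iv D58510) (iv D57345) (iv F256996)
theorem F266516 : act 9 n59676 = n58661 := d29_2 (iv F261736) D59676 (iv D58661)
def n59677 : Q := act 2 n58486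
theorem D59677 : act 2 n58486 = n59677 := rfl
theorem F266517 : act 0 n59677 = n59334 := d1_1 D59677 (iv D59334) (iv F261737)
theorem F266518 : act 5 n59677 = n58487 := d19_2 (iv F261739) D59677 (iv D58487)
theorem F266519 : act 7 n59677 = n58498 := d21_2 (iv F261740) D59677 (iv D58498)
theorem F266520 : act 8 n59677 = n58511 := d22_2 (iv F261741) D59677 (iv D58511)
theorem F266521 : act 9 n59677 = n59322 := d23_2 (iv F261742) D59677 (iv D59322)
def n59678 : Q := act 4 n58486
theorem D59678 : act 4 n58486 = n59678 := rfl
theorem F266522 : act 0 n59678 = n59335 := d3_1 D59678 (iv D59335) (iv F261737)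
theorem F266523 : act 1 n59678 = n58921 := d11_1 D59678 (iv D58921) (iv F261738)
theorem F266524 : act 3 n59678 = n59678 := d24_1 D59678 (iv D59678) (iv D58486) F257003 D58486
theorem F266525 : act 7 n59678 = n58499 := d32_2 (iv F261740) D59678 (iv D58499)
theorem F266526 : act 8 n59678 = n58512 := d33_2 (iv F261741) D59678 (iv D58512)
theorem F266527 : act 9 n59678 = n59323 := d34_2 (iv F261742) D59678 (iv D59323)
def n59679 : Q := act 1 n58487
theorem D59679 : act 1 n58487 = n59679 := rfl
theorem F266528 : act 2 n59679 = n58922 := d9_2 D58487 D59679 (iv D58922) (iv D57748) (iv F257007)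
theorem F266529 : act 6 n59679 = n59469 := d13_2 (iv F261743) D59679 (iv D59469)
theorem F266530 : act 7 n59679 = n58500 := d14_2 (iv F261744) D59679 (iv D58500)
theorem F266531 : act 8 n59679 = n58513 := d15_2 (iv F261745) D59679 (iv D58513)
theorem F266532 : act 9 n59679 = n59490 := d16_2 (iv F261746) D59679 (iv D59490)
def n59680 : Q := act 3 n58488
theorem D59680 : act 3 n58488 = n59680 := rfl
theorem F266533 : act 0 n59680 = n58490 := d2_1 D59680 (iv D58490) (iv F261747)
theorem F266534 : act 1 n59680 = n58693 := d10_1 D59680 (iv D58693) (iv F261748)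
theorem F266535 : act 5 n59680 = n59453 := d25_2 (iv F261751) D59680 (iv D59453)
theorem F266536 : act 6 n59680 = n58964 := d26_2 (iv F261752) D59680 (iv D58964)
theorem F266537 : act 7 n59680 = n58696 := d27_2 (iv F261753) D59680 (iv D58696)
theorem F266538 : act 8 n59680 = n59039 := d28_2 D58488 D59680 (iv D59039) (iv D57849) (iv F257015)
theorem F266539 : act 9 n59680 = n58916 := d29_2 (iv F261754) D59680 (iv D58916)
def n59681 : Q := act 4 n58489
theorem D59681 : act 4 n58489 = n59681 := rfl
theorem F266540 : act 0 n59681 = n58492 := d3_1 D59681 (iv D58492) (iv F261755)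
theorem F266541 : act 1 n59681 = n58590 := d11_1 D59681 F262259 (iv F261756)
theorem F266542 : act 6 n59681 = n58509 := d31_2 (iv F261758) D59681 F261854
theorem F266543 : act 7 n59681 = n58698 := d32_2 (iv F261759) D59681 (iv D58698)
theorem F266544 : act 8 n59681 = n59681 := d33_2 F261760 D59681 (iv D59681)
theorem F266545 : act 9 n59681 = n58548 := d34_2 (iv F261761) D59681 F262057
def n59682 : Q := act 2 n58490
theorem D59682 : act 2 n58490 = n59682 := rfl
theorem F266546 : act 3 n59682 = n58928 := d17_2 D58490 D59682 (iv D58928) (iv D57753) (iv F257028)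
theorem F266547 : act 6 n59682 = n59188 := d20_2 (iv F261763) D59682 (iv D59188)
theorem F266548 : act 9 n59682 = n59168 := d23_2 (iv F261764) D59682 (iv D59168)
def n59683 : Q := act 4 n58490
theorem D59683 : act 4 n58490 = n59683 := rfl
theorem F266549 : act 1 n59683 = n58496 := d11_1 D59683 (iv D58496) (iv F261762)
theorem F266550 : act 3 n59683 = n58492 := d24_1 D59683 (iv D58492) (iv D57330) (iv F257029) D58490
theorem F266551 : act 6 n59683 = n59189 := d31_2 (iv F261763) D59683 (iv D59189)
theorem F266552 : act 9 n59683 = n59169 := d34_2 (iv F261764) D59683 (iv D59169)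
def n59684 : Q := act 4 n58491
theorem D59684 : act 4 n58491 = n59684 := rfl
theorem F266553 : act 2 n59684 = n58492 := d18_1 D59684 (iv D58492) D58491
theorem F266554 : act 6 n59684 = n59190 := d31_2 (iv F261767) D59684 (iv D59190)
theorem F266555 : act 8 n59684 = n59684 := d33_2 F261768 D59684 (iv D59684)
theorem F266556 : act 9 n59684 = n59186 := d34_2 (iv F261769) D59684 (iv D59186)
def n59685 : Q := act 5 n58492
theorem D59685 : act 5 n58492 = n59685 := rfl
theorem F266557 : act 1 n59685 = n58497 := d12_1 D59685 (iv D58497) (iv F261770)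
theorem F266558 : act 4 n59685 = n59685 := d30_1 D59685 (iv D59685) (iv D58492) F257033 D58492
theorem F266559 : act 6 n59685 = n59518 := d35_2 (iv F261771) D59685 (iv D59518) F260802 (iv F260048)
theorem F266560 : act 8 n59685 = n59685 := d37_2 F261772 D59685 (iv D59685)
theorem F266561 : act 9 n59685 = n59187 := d38_2 (iv F261773) D59685 (iv D59187)
def n59686 : Q := act 2 n58493
theorem D59686 : act 2 n58493 = n59686 := rfl
theorem F266562 : act 0 n59686 = n59216 := d1_1 D59686 (iv D59216) (iv F261774)
theorem F266563 : act 3 n59686 = n58519 := d17_2 D58493 D59686 (iv D58519) (iv D57353) (iv F257038)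
theorem F266564 : act 6 n59686 = n59191 := d20_2 (iv F261775) D59686 (iv D59191)
theorem F266565 : act 8 n59686 = n58495 := d22_2 (iv F261776) D59686 (iv D58495)
theorem F266566 : act 9 n59686 = n59141 := d23_2 (iv F261777) D59686 (iv D59141)
def n59687 : Q := act 4 n58493
theorem D59687 : act 4 n58493 = n59687 := rfl
theorem F266567 : act 0 n59687 = n59217 := d3_1 D59687 (iv D59217) (iv F261774)
theorem F266568 : act 3 n59687 = n59687 := d24_1 D59687 (iv D59687) (iv D58493) F257039 D58493
theorem F266569 : act 6 n59687 = n59192 := d31_2 (iv F261775) D59687 (iv D59192)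
theorem F266570 : act 8 n59687 = n58496 := d33_2 (iv F261776) D59687 (iv D58496)
theorem F266571 : act 9 n59687 = n59142 := d34_2 (iv F261777) D59687 (iv D59142)
def n59688 : Q := act 2 n58494
theorem D59688 : act 2 n58494 = n59688 := rfl
theorem F266572 : act 0 n59688 = n59268 := d1_1 D59688 (iv D59268) (iv F261778)
theorem F266573 : act 3 n59688 = n58498 := d17_2 D58494 D59688 (iv D58498) (iv D57335) (iv F257043)
theorem F266574 : act 5 n59688 = n58495 := d19_2 (iv F261779) D59688 (iv D58495)
theorem F266575 : act 6 n59688 = n59435 := d20_2 (iv F261780) D59688 (iv D59435)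
theorem F266576 : act 9 n59688 = n59173 := d23_2 (iv F261781) D59688 (iv D59173)
def n59689 : Q := act 4 n58494
theorem D59689 : act 4 n58494 = n59689 := rfl
theorem F266577 : act 0 n59689 = n59269 := d3_1 D59689 (iv D59269) (iv F261778)
theorem F266578 : act 3 n59689 = n59689 := d24_1 D59689 (iv D59689) (iv D58494) F257044 D58494
theorem F266579 : act 6 n59689 = n59436 := d31_2 (iv F261780) D59689 (iv D59436)
theorem F266580 : act 9 n59689 = n59174 := d34_2 (iv F261781) D59689 (iv D59174)
def n59690 : Q := act 1 n58495
theorem D59690 : act 1 n58495 = n59690 := rfl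
theorem F266581 : act 3 n59690 = n58500 := d10_2 (iv F261783) D59690 (iv D58500)
theorem F266582 : act 6 n59690 = n59193 := d13_2 (iv F261784) D59690 (iv D59193)
theorem F266583 : act 9 n59690 = n59175 := d16_2 (iv F261785) D59690 (iv D59175)
def n59691 : Q := act 4 n58495
theorem D59691 : act 4 n58495 = n59691 := rfl
theorem F266584 : act 0 n59691 = n59273 := d3_1 D59691 (iv D59273) (iv F261782)
theorem F266585 : act 2 n59691 = n58496 := d18_1 D59691 (iv D58496) D58495
theorem F266586 : act 6 n59691 = n59194 := d31_2 (iv F261784) D59691 (iv D59194)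
theorem F266587 : act 9 n59691 = n59176 := d34_2 (iv F261785) D59691 (iv D59176)
def n59692 : Q := act 5 n58496
theorem D59692 : act 5 n58496 = n59692 := rfl
theorem F266588 : act 0 n59692 = n59274 := d4_1 D59692 (iv D59274) (iv F261786)
theorem F266589 : act 3 n59692 = n58497 := d25_1 D59692 (iv D58497) (iv F261787)
theorem F266590 : act 9 n59692 = n59177 := d38_2 (iv F261789) D59692 (iv D59177)
def n59693 : Q := act 6 n58497
theorem D59693 : act 6 n58497 = n59693 := rfl
theorem F266591 : act 0 n59693 = n59074 := d5_1 D59693 F264280 (iv F261790)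
theorem F266592 : act 1 n59693 = n59518 := d13_1 D59693 (iv F266559) F266557
theorem F266593 : act 4 n59693 = n59693 := d31_1 D59693 (iv D59693) F261791
theorem F266594 : act 5 n59693 = n58906 := d35_1 D59693 F263687 F259002 (iv F257052) D58497
theorem F266595 : act 8 n59693 = n59693 := d40_2 F261792 D59693 (iv D59693)
theorem F266596 : act 9 n59693 = n59100 := d41_2 (iv F261793) D59693 F264391
def n59694 : Q := act 1 n58498
theorem D59694 : act 1 n58498 = n59694 := rfl
theorem F266597 : act 2 n59694 = n58944 := d9_2 D58498 D59694 (iv D58944) (iv D57765) (iv F257055)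
theorem F266598 : act 5 n59694 = n58500 := d12_2 (iv F261794) D59694 (iv D58500)
theorem F266599 : act 6 n59694 = n59438 := d13_2 (iv F261795) D59694 (iv D59438)
theorem F266600 : act 8 n59694 = n58528 := d15_2 (iv F261796) D59694 (iv D58528)
theorem F266601 : act 9 n59694 = n59474 := d16_2 (iv F261797) D59694 (iv D59474)
def n59695 : Q := act 4 n58498
theorem D59695 : act 4 n58498 = n59695 := rfl
theorem F266602 : act 2 n59695 = n58499 := d18_1 D59695 (iv D58499) D58498
theorem F266603 : act 6 n59695 = n59439 := d31_2 (iv F261795) D59695 (iv D59439)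
theorem F266604 : act 8 n59695 = n58529 := d33_2 (iv F261796) D59695 (iv D58529)
theorem F266605 : act 9 n59695 = n59475 := d34_2 (iv F261797) D59695 (iv D59475)
def n59696 : Q := act 0 n58500
theorem D59696 : act 0 n58500 = n59696 := rfl
theorem F266606 : act 2 n59696 = n58946 := d1_2 (iv F261803) D59696 (iv D58946)
theorem F266607 : act 6 n59696 = n59195 := d5_2 (iv F261804) D59696 (iv D59195)
theorem F266608 : act 8 n59696 = n58530 := d7_2 (iv F261805) D59696 (iv D58530)
theorem F266609 : act 9 n59696 = n59491 := d8_2 (iv F261806) D59696 (iv D59491)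
def n59697 : Q := act 3 n58501
theorem D59697 : act 3 n58501 = n59697 := rfl
theorem F266610 : act 0 n59697 = n58760 := d2_1 D59697 (iv D58760) (iv F261807)
theorem F266611 : act 1 n59697 = n58948 := d10_1 D59697 (iv D58948) (iv F261808)
theorem F266612 : act 5 n59697 = n58510 := d25_2 (iv F261811) D59697 (iv D58510)
theorem F266613 : act 6 n59697 = n58502 := d26_2 (iv F261812) D59697 (iv D58502)
theorem F266614 : act 7 n59697 = n58919 := d27_2 (iv F261813) D59697 (iv D58919)
theorem F266615 : act 8 n59697 = n58956 := d28_2 D58501 D59697 (iv D58956) (iv D57776) (iv F257066)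
theorem F266616 : act 9 n59697 = n58536 := d29_2 (iv F261814) D59697 (iv D58536)
def n59698 : Q := act 2 n58502
theorem D59698 : act 2 n58502 = n59698 := rfl
theorem F266617 : act 5 n59698 = n58503 := d19_2 (iv F261816) D59698 (iv D58503)
theorem F266618 : act 7 n59698 = n58942 := d21_2 (iv F261817) D59698 (iv D58942)
theorem F266619 : act 8 n59698 = n58972 := d22_2 (iv F261818) D59698 (iv D58972)
theorem F266620 : act 9 n59698 = n58537 := d23_2 (iv F261819) D59698 (iv D58537)
def n59699 : Q := act 4 n58502
theorem D59699 : act 4 n58502 = n59699 := rfl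
theorem F266621 : act 1 n59699 = n58950 := d11_1 D59699 (iv D58950) (iv F261815)
theorem F266622 : act 3 n59699 = n59699 := d24_1 D59699 (iv D59699) (iv D58502) F257072 D58502
theorem F266623 : act 5 n59699 = n59335 := d30_2 (iv F261816) D59699 (iv D59335) (iv F261077) F261076
theorem F266624 : act 7 n59699 = n58943 := d32_2 (iv F261817) D59699 (iv D58943)
theorem F266625 : act 8 n59699 = n58973 := d33_2 (iv F261818) D59699 (iv D58973)
theorem F266626 : act 9 n59699 = n58538 := d34_2 (iv F261819) D59699 (iv D58538)
def n59700 : Q := act 1 n58503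
theorem D59700 : act 1 n58503 = n59700 := rfl
theorem F266627 : act 2 n59700 = n58951 := d9_2 D58503 D59700 (iv D58951) (iv D57771) (iv F257076)
theorem F266628 : act 6 n59700 = n58513 := d13_2 (iv F261820) D59700 (iv D58513)
theorem F266629 : act 7 n59700 = n59200 := d14_2 (iv F261821) D59700 (iv D59200)
theorem F266630 : act 8 n59700 = n59469 := d15_2 (iv F261822) D59700 (iv D59469)
theorem F266631 : act 9 n59700 = n58539 := d16_2 (iv F261823) D59700 (iv D58539)
def n59701 : Q := act 2 n58504
theorem D59701 : act 2 n58504 = n59701 := rfl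
theorem F266632 : act 0 n59701 = n59004 := d1_1 D59701 (iv D59004) (iv F261824)
theorem F266633 : act 3 n59701 = n58952 := d17_2 D58504 D59701 (iv D58952) (iv D57772) (iv F257083)
theorem F266634 : act 5 n59701 = n59003 := d19_2 (iv F261826) D59701 (iv D59003)
theorem F266635 : act 7 n59701 = n58515 := d21_2 (iv F261827) D59701 (iv D58515)
theorem F266636 : act 8 n59701 = n59435 := d22_2 (iv F261828) D59701 (iv D59435)
theorem F266637 : act 9 n59701 = n58542 := d23_2 (iv F261829) D59701 (iv D58542)
def n59702 : Q := act 4 n58504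
theorem D59702 : act 4 n58504 = n59702 := rfl
theorem F266638 : act 0 n59702 = n59005 := d3_1 D59702 (iv D59005) (iv F261824)
theorem F266639 : act 1 n59702 = n58508 := d11_1 D59702 (iv D58508) (iv F261825)
theorem F266640 : act 3 n59702 = n58505 := d24_1 D59702 (iv D58505) (iv D57341) (iv F257084) D58504
theorem F266641 : act 5 n59702 = n59279 := d30_2 (iv F261826) D59702 (iv D59279) (iv F262172) F262171
theorem F266642 : act 7 n59702 = n58516 := d32_2 (iv F261827) D59702 (iv D58516)
theorem F266643 : act 8 n59702 = n59436 := d33_2 (iv F261828) D59702 (iv D59436)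
theorem F266644 : act 9 n59702 = n58543 := d34_2 (iv F261829) D59702 (iv D58543)
def n59703 : Q := act 2 n58506
theorem D59703 : act 2 n58506 = n59703 := rfl
theorem F266645 : act 0 n59703 = n59456 := d1_1 D59703 (iv D59456) (iv F261837)
theorem F266646 : act 5 n59703 = n59048 := d19_2 (iv F261839) D59703 F264204
theorem F266647 : act 7 n59703 = n58519 := d21_2 (iv F261840) D59703 (iv D58519)
theorem F266648 : act 8 n59703 = n58507 := d22_2 (iv F261841) D59703 (iv D58507)
theorem F266649 : act 9 n59703 = n59052 := d23_2 (iv F261842) D59703 F264219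
def n59704 : Q := act 4 n58506
theorem D59704 : act 4 n58506 = n59704 := rfl
theorem F266650 : act 0 n59704 = n59457 := d3_1 D59704 (iv D59457) (iv F261837)
theorem F266651 : act 1 n59704 = n59436 := d11_1 D59704 (iv D59436) (iv F261838)
theorem F266652 : act 3 n59704 = n59704 := d24_1 D59704 (iv D59704) (iv D58506) F257097 D58506
theorem F266653 : act 5 n59704 = n59043 := d30_2 (iv F261839) D59704 (iv D59043) F259472 D57855
theorem F266654 : act 7 n59704 = n58520 := d32_2 (iv F261840) D59704 (iv D58520)
theorem F266655 : act 8 n59704 = n58508 := d33_2 (iv F261841) D59704 (iv D58508)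
theorem F266656 : act 9 n59704 = n59046 := d34_2 (iv F261842) D59704 F264199
def n59705 : Q := act 1 n58507
theorem D59705 : act 1 n58507 = n59705 := rfl
theorem F266657 : act 3 n59705 = n58513 := d10_2 (iv F261844) D59705 (iv D58513)
theorem F266658 : act 5 n59705 = n59420 := d12_2 (iv F261845) D59705 (iv D59420)
theorem F266659 : act 7 n59705 = n58522 := d14_2 (iv F261846) D59705 (iv D58522)
theorem F266660 : act 9 n59705 = n58545 := d16_2 (iv F261847) D59705 (iv D58545)
def n59706 : Q := act 4 n58507
theorem D59706 : act 4 n58507 = n59706 := rfl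
theorem F266661 : act 0 n59706 = n59505 := d3_1 D59706 (iv D59505) (iv F261843)
theorem F266662 : act 2 n59706 = n58508 := d18_1 D59706 (iv D58508) D58507
theorem F266663 : act 7 n59706 = n58523 := d32_2 (iv F261846) D59706 (iv D58523)
theorem F266664 : act 9 n59706 = n58546 := d34_2 (iv F261847) D59706 (iv D58546)
def n59707 : Q := act 5 n58508
theorem D59707 : act 5 n58508 = n59707 := rfl
theorem F266665 : act 0 n59707 = n59189 := d4_1 D59707 F264752 (iv F261848)
theorem F266666 : act 1 n59707 = n59279 := d12_1 D59707 (iv F266641) F266639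
theorem F266667 : act 3 n59707 = n58509 := d25_1 D59707 (iv D58509) (iv F261849)
theorem F266668 : act 4 n59707 = n58964 := d30_1 D59707 F263911 F259225 (iv F257102) D58508
theorem F266669 : act 7 n59707 = n58524 := d36_2 (iv F261850) D59707 (iv D58524)
theorem F266670 : act 8 n59707 = n59043 := d37_2 F266655 D59707 (iv F266653)
theorem F266671 : act 9 n59707 = n58547 := d38_2 (iv F261851) D59707 (iv D58547)
def n59708 : Q := act 2 n58510
theorem D59708 : act 2 n58510 = n59708 := rfl
theorem F266672 : act 0 n59708 = n58763 := d1_1 D59708 (iv D58763) (iv F261858)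
theorem F266673 : act 3 n59708 = n58897 := d17_2 D58510 D59708 (iv D58897) (iv D57722) (iv F257111)
theorem F266674 : act 6 n59708 = n58511 := d20_2 (iv F261860) D59708 (iv D58511)
theorem F266675 : act 7 n59708 = n59445 := d21_2 (iv F261861) D59708 (iv D59445)
theorem F266676 : act 9 n59708 = n58550 := d23_2 (iv F261862) D59708 (iv D58550)
def n59709 : Q := act 4 n58510
theorem D59709 : act 4 n58510 = n59709 := rfl
theorem F266677 : act 0 n59709 = n58764 := d3_1 D59709 (iv D58764) (iv F261858)
theorem F266678 : act 1 n59709 = n58958 := d11_1 D59709 (iv D58958) (iv F261859)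
theorem F266679 : act 3 n59709 = n58531 := d24_1 D59709 (iv D58531) (iv D57364) (iv F257112) D58510
theorem F266680 : act 6 n59709 = n58512 := d31_2 (iv F261860) D59709 (iv D58512)
theorem F266681 : act 7 n59709 = n59446 := d32_2 (iv F261861) D59709 (iv D59446)
theorem F266682 : act 9 n59709 = n58551 := d34_2 (iv F261862) D59709 (iv D58551)
def n59710 : Q := act 1 n58511
theorem D59710 : act 1 n58511 = n59710 := rfl
theorem F266683 : act 2 n59710 = n58959 := d9_2 D58511 D59710 (iv D58959) (iv D57778) (iv F257117)
theorem F266684 : act 3 n59710 = n59420 := d10_2 (iv F261864) D59710 (iv D59420)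
theorem F266685 : act 5 n59710 = n58513 := d12_2 (iv F261865) D59710 (iv D58513)
theorem F266686 : act 7 n59710 = n58528 := d14_2 (iv F261866) D59710 (iv D58528)
theorem F266687 : act 9 n59710 = n58552 := d16_2 (iv F261867) D59710 (iv D58552)
def n59711 : Q := act 4 n58511
theorem D59711 : act 4 n58511 = n59711 := rfl
theorem F266688 : act 0 n59711 = n59359 := d3_1 D59711 (iv D59359) (iv F261863)
theorem F266689 : act 2 n59711 = n58512 := d18_1 D59711 (iv D58512) D58511
theorem F266690 : act 7 n59711 = n58529 := d32_2 (iv F261866) D59711 (iv D58529)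
theorem F266691 : act 9 n59711 = n58553 := d34_2 (iv F261867) D59711 (iv D58553)
def n59712 : Q := act 0 n58513
theorem D59712 : act 0 n58513 = n59712 := rfl
theorem F266692 : act 2 n59712 = n58961 := d1_2 (iv F261873) D59712 (iv D58961)
theorem F266693 : act 7 n59712 = n58530 := d6_2 (iv F261874) D59712 (iv D58530)
theorem F266694 : act 9 n59712 = n58554 := d8_2 (iv F261875) D59712 (iv D58554)
def n59713 : Q := act 2 n58514
theorem D59713 : act 2 n58514 = n59713 := rfl
theorem F266695 : act 0 n59713 = n59030 := d1_1 D59713 (iv D59030) (iv F261876)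
theorem F266696 : act 3 n59713 = n58949 := d17_2 D58514 D59713 (iv D58949) (iv D57770) (iv F257125)
theorem F266697 : act 5 n59713 = n58947 := d19_2 (iv F261878) D59713 (iv D58947)
theorem F266698 : act 6 n59713 = n59210 := d20_2 (iv F261879) D59713 (iv D59210)
theorem F266699 : act 7 n59713 = n59435 := d21_2 (iv F261880) D59713 (iv D59435)
theorem F266700 : act 8 n59713 = n58515 := d22_2 (iv F261881) D59713 (iv D58515)
theorem F266701 : act 9 n59713 = n58993 := d23_2 (iv F261882) D59713 (iv D58993)
def n59714 : Q := act 4 n58514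
theorem D59714 : act 4 n58514 = n59714 := rfl
theorem F266702 : act 0 n59714 = n59031 := d3_1 D59714 (iv D59031) (iv F261876)
theorem F266703 : act 1 n59714 = n58520 := d11_1 D59714 (iv D58520) (iv F261877)
theorem F266704 : act 3 n59714 = n59714 := d24_1 D59714 (iv D59714) (iv D58514) F257126 D58514
theorem F266705 : act 5 n59714 = n59267 := d30_2 (iv F261878) D59714 (iv D59267) F260240 (iv F259147)
theorem F266706 : act 6 n59714 = n59211 := d31_2 (iv F261879) D59714 (iv D59211)
theorem F266707 : act 7 n59714 = n59436 := d32_2 (iv F261880) D59714 (iv D59436)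
theorem F266708 : act 8 n59714 = n58516 := d33_2 (iv F261881) D59714 (iv D58516)
theorem F266709 : act 9 n59714 = n58994 := d34_2 (iv F261882) D59714 (iv D58994)
def n59715 : Q := act 1 n58515
theorem D59715 : act 1 n58515 = n59715 := rfl
theorem F266710 : act 2 n59715 = n58522 := d9_2 D58515 D59715 (iv D58522) (iv D57355) (iv F257132)
theorem F266711 : act 3 n59715 = n58963 := d10_2 (iv F261884) D59715 (iv D58963)
theorem F266712 : act 5 n59715 = n59028 := d12_2 (iv F261885) D59715 (iv D59028)
theorem F266713 : act 6 n59715 = n59213 := d13_2 (iv F261886) D59715 (iv D59213)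
theorem F266714 : act 9 n59715 = n58562 := d16_2 (iv F261887) D59715 (iv D58562)
def n59716 : Q := act 4 n58515
theorem D59716 : act 4 n58515 = n59716 := rfl
theorem F266715 : act 0 n59716 = n59035 := d3_1 D59716 (iv D59035) (iv F261883)
theorem F266716 : act 2 n59716 = n58516 := d18_1 D59716 (iv D58516) D58515
theorem F266717 : act 3 n59716 = n59400 := d24_1 D59716 (iv D59400) F260542 (iv F259210) (iv F261884)
theorem F266718 : act 5 n59716 = n59281 := d30_2 (iv F261885) D59716 (iv D59281) (iv F262180) F262179
theorem F266719 : act 6 n59716 = n59214 := d31_2 (iv F261886) D59716 (iv D59214)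
theorem F266720 : act 9 n59716 = n58563 := d34_2 (iv F261887) D59716 (iv D58563)
def n59717 : Q := act 2 n58517
theorem D59717 : act 2 n58517 = n59717 := rfl
theorem F266721 : act 0 n59717 = n58892 := d1_1 D59717 (iv D58892) (iv F261894)
theorem F266722 : act 4 n59717 = n59011 := d18_2 (iv F261896) D59717 (iv D59011)
theorem F266723 : act 5 n59717 = n58519 := d19_2 (iv F261897) D59717 (iv D58519)
theorem F266724 : act 6 n59717 = n58952 := d20_2 (iv F261898) D59717 (iv D58952)
theorem F266725 : act 7 n59717 = n59048 := d21_2 (iv F261899) D59717 F264204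
theorem F266726 : act 8 n59717 = n58521 := d22_2 (iv F261900) D59717 (iv D58521)
theorem F266727 : act 9 n59717 = n58990 := d23_2 (iv F261901) D59717 (iv D58990)
def n59718 : Q := act 2 n58518
theorem D59718 : act 2 n58518 = n59718 := rfl
theorem F266728 : act 0 n59718 = n59191 := d1_1 D59718 (iv D59191) (iv F261902)
theorem F266729 : act 3 n59718 = n59141 := d17_2 D58518 D59718 (iv D59141) (iv D57954) (iv F257152)
theorem F266730 : act 5 n59718 = n58990 := d19_2 (iv F261904) D59718 (iv D58990)
theorem F266731 : act 6 n59718 = n59216 := d20_2 (iv F261905) D59718 (iv D59216)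
theorem F266732 : act 7 n59718 = n59052 := d21_2 (iv F261906) D59718 F264219
theorem F266733 : act 8 n59718 = n58565 := d22_2 (iv F261907) D59718 (iv D58565)
theorem F266734 : act 9 n59718 = n58519 := d23_2 (iv F261908) D59718 (iv D58519)
def n59719 : Q := act 4 n58518
theorem D59719 : act 4 n58518 = n59719 := rfl
theorem F266735 : act 0 n59719 = n59192 := d3_1 D59719 (iv D59192) (iv F261902)
theorem F266736 : act 1 n59719 = n58994 := d11_1 D59719 (iv D58994) (iv F261903)
theorem F266737 : act 3 n59719 = n59719 := d24_1 D59719 (iv D59719) (iv D58518) F257153 D58518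
theorem F266738 : act 5 n59719 = n59010 := d30_2 (iv F261904) D59719 (iv D59010) F259393 (iv F259327)
theorem F266739 : act 6 n59719 = n59217 := d31_2 (iv F261905) D59719 (iv D59217)
theorem F266740 : act 7 n59719 = n59046 := d32_2 (iv F261906) D59719 F264199
theorem F266741 : act 8 n59719 = n58566 := d33_2 (iv F261907) D59719 (iv D58566)
theorem F266742 : act 9 n59719 = n58520 := d34_2 (iv F261908) D59719 (iv D58520)
def n59720 : Q := act 1 n58519
theorem D59720 : act 1 n58519 = n59720 := rfl
theorem F266743 : act 6 n59720 = n59218 := d13_2 (iv F261909) D59720 (iv D59218)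
theorem F266744 : act 8 n59720 = n58522 := d15_2 (iv F261910) D59720 (iv D58522)
def n59721 : Q := act 4 n58519
theorem D59721 : act 4 n58519 = n59721 := rfl
theorem F266745 : act 2 n59721 = n58520 := d18_1 D59721 (iv D58520) D58519
theorem F266746 : act 6 n59721 = n59219 := d31_2 (iv F261909) D59721 (iv D59219)
theorem F266747 : act 8 n59721 = n58523 := d33_2 (iv F261910) D59721 (iv D58523)
def n59722 : Q := act 5 n58520
theorem D59722 : act 5 n58520 = n59722 := rfl
theorem F266748 : act 0 n59722 = n59448 := d4_1 D59722 (iv F266357) F266354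
theorem F266749 : act 1 n59722 = n59267 := d12_1 D59722 (iv F266705) F266703
theorem F266750 : act 3 n59722 = n59722 := d25_1 D59722 (iv D59722) F261911
theorem F266751 : act 4 n59722 = n59008 := d30_1 D59722 F264090 (iv F261896) F261897 D58520
theorem F266752 : act 7 n59722 = n59043 := d36_2 F266654 D59722 (iv F266653)
theorem F266753 : act 8 n59722 = n58524 := d37_2 (iv F261913) D59722 (iv D58524)
theorem F266754 : act 9 n59722 = n59010 := d38_2 F266742 D59722 (iv F266738)
theorem F266755 : act 6 n59256 = n59722 := d40_3 F266753 (iv F261932) (iv F264960)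
def n59723 : Q := act 1 n58521
theorem D59723 : act 1 n58521 = n59723 := rfl
theorem F266756 : act 2 n59723 = n59028 := d9_2 D58521 D59723 (iv D59028) (iv D57839) (iv F257161)
theorem F266757 : act 3 n59723 = n58528 := d10_2 (iv F261915) D59723 (iv D58528)
theorem F266758 : act 4 n59723 = n59444 := d11_2 (iv F261916) D59723 (iv D59444)
theorem F266759 : act 5 n59723 = n58522 := d12_2 (iv F261917) D59723 (iv D58522)
theorem F266760 : act 6 n59723 = n59417 := d13_2 (iv F261918) D59723 (iv D59417)
theorem F266761 : act 7 n59723 = n59420 := d14_2 (iv F261919) D59723 (iv D59420)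
theorem F266762 : act 9 n59723 = n58572 := d16_2 (iv F261920) D59723 (iv D58572)
def n59724 : Q := act 0 n58522
theorem D59724 : act 0 n58522 = n59724 := rfl
theorem F266763 : act 3 n59724 = n58530 := d2_2 (iv F261921) D59724 (iv D58530)
theorem F266764 : act 6 n59724 = n59221 := d5_2 (iv F261922) D59724 (iv D59221)
theorem F266765 : act 9 n59724 = n58573 := d8_2 (iv F261923) D59724 (iv D58573)
def n59725 : Q := act 4 n58522
theorem D59725 : act 4 n58522 = n59725 := rfl
theorem F266766 : act 1 n59725 = n58523 := d11_1 D59725 (iv D58523) D58522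
theorem F266767 : act 6 n59725 = n59222 := d31_2 (iv F261922) D59725 (iv D59222)
theorem F266768 : act 9 n59725 = n58574 := d34_2 (iv F261923) D59725 (iv D58574)
def n59726 : Q := act 5 n58523
theorem D59726 : act 5 n58523 = n59726 := rfl
theorem F266769 : act 0 n59726 = n59451 := d4_1 D59726 (iv F266371) F266368
theorem F266770 : act 2 n59726 = n58524 := d19_1 D59726 (iv D58524) (iv F261924)
theorem F266771 : act 4 n59726 = n59261 := d30_1 D59726 F264971 (iv F261916) F261917 D58523
theorem F266772 : act 9 n59726 = n58575 := d38_2 (iv F261926) D59726 (iv D58575)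
theorem F266773 : act 6 n59263 = n59726 := d31_0 F266771 F264972 D59263
def n59727 : Q := act 2 n58525
theorem D59727 : act 2 n58525 = n59727 := rfl
theorem F266774 : act 0 n59727 = n59385 := d1_1 D59727 (iv D59385) (iv F261933)
theorem F266775 : act 3 n59727 = n58962 := d17_2 D58525 D59727 (iv D58962) (iv D57781) (iv F257181)
theorem F266776 : act 5 n59727 = n58915 := d19_2 (iv F261935) D59727 (iv D58915)
theorem F266777 : act 6 n59727 = n59445 := d20_2 (iv F261936) D59727 (iv D59445)
theorem F266778 : act 7 n59727 = n58526 := d21_2 (iv F261937) D59727 (iv D58526)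
theorem F266779 : act 8 n59727 = n58949 := d22_2 (iv F261938) D59727 (iv D58949)
theorem F266780 : act 9 n59727 = n58577 := d23_2 (iv F261939) D59727 (iv D58577)
def n59728 : Q := act 4 n58525
theorem D59728 : act 4 n58525 = n59728 := rfl
theorem F266781 : act 0 n59728 = n59386 := d3_1 D59728 (iv D59386) (iv F261933)
theorem F266782 : act 1 n59728 = n58973 := d11_1 D59728 (iv D58973) (iv F261934)
theorem F266783 : act 3 n59728 = n58533 := d24_1 D59728 (iv D58533) (iv D57367) (iv F257182) D58525
theorem F266784 : act 5 n59728 = n58846 := d30_2 (iv F261935) D59728 (iv D58846) (iv F261466) F261465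
theorem F266785 : act 6 n59728 = n59446 := d31_2 (iv F261936) D59728 (iv D59446)
theorem F266786 : act 7 n59728 = n58527 := d32_2 (iv F261937) D59728 (iv D58527)
theorem F266787 : act 8 n59728 = n58950 := d33_2 (iv F261938) D59728 (iv D58950)
theorem F266788 : act 9 n59728 = n58578 := d34_2 (iv F261939) D59728 (iv D58578)
def n59729 : Q := act 1 n58526
theorem D59729 : act 1 n58526 = n59729 := rfl
theorem F266789 : act 2 n59729 = n58974 := d9_2 D58526 D59729 (iv D58974) (iv D57792) (iv F257188)
theorem F266790 : act 3 n59729 = n59417 := d10_2 (iv F261941) D59729 (iv D59417)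
theorem F266791 : act 5 n59729 = n59223 := d12_2 (iv F261942) D59729 (iv D59223)
theorem F266792 : act 6 n59729 = n58528 := d13_2 (iv F261943) D59729 (iv D58528)
theorem F266793 : act 8 n59729 = n59438 := d15_2 (iv F261944) D59729 (iv D59438)
theorem F266794 : act 9 n59729 = n58579 := d16_2 (iv F261945) D59729 (iv D58579)
def n59730 : Q := act 4 n58526
theorem D59730 : act 4 n58526 = n59730 := rfl
theorem F266795 : act 0 n59730 = n59400 := d3_1 D59730 (iv D59400) (iv F261940)
theorem F266796 : act 2 n59730 = n58527 := d18_1 D59730 (iv D58527) D58526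
theorem F266797 : act 3 n59730 = n59035 := d24_1 D59730 (iv D59035) (iv F262122) F262123 (iv F261941)
theorem F266798 : act 5 n59730 = n58851 := d30_2 (iv F261942) D59730 (iv D58851) (iv F261474) F261473
theorem F266799 : act 6 n59730 = n58529 := d31_2 (iv F261943) D59730 (iv D58529)
theorem F266800 : act 8 n59730 = n59439 := d33_2 (iv F261944) D59730 (iv D59439)
theorem F266801 : act 9 n59730 = n58580 := d34_2 (iv F261945) D59730 (iv D58580)
def n59731 : Q := act 0 n58528
theorem D59731 : act 0 n58528 = n59731 := rfl
theorem F266802 : act 2 n59731 = n58976 := d1_2 (iv F261953) D59731 (iv D58976)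
theorem F266803 : act 5 n59731 = n58530 := d4_2 (iv F261954) D59731 (iv D58530)
theorem F266804 : act 9 n59731 = n58581 := d8_2 (iv F261955) D59731 (iv D58581)
def n59732 : Q := act 4 n58528
theorem D59732 : act 4 n58528 = n59732 := rfl
theorem F266805 : act 1 n59732 = n58529 := d11_1 D59732 (iv D58529) D58528
theorem F266806 : act 2 n59732 = n58977 := d18_1 D59732 (iv D58977) (iv F261953)
theorem F266807 : act 9 n59732 = n58582 := d34_2 (iv F261955) D59732 (iv D58582)
def n59733 : Q := act 3 n58529
theorem D59733 : act 3 n58529 = n59733 := rfl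
theorem F266808 : act 0 n59733 = n59214 := d2_1 D59733 (iv F266383) F266381
theorem F266809 : act 2 n59733 = n58534 := d17_1 D59733 (iv D58534) F257245 (iv F257196) (iv F261956)
theorem F266810 : act 4 n59733 = n59033 := d24_2 D58529 D59733 F264161 (iv F261916) F261915
theorem F266811 : act 6 n59733 = n59035 := d26_2 F266799 D59733 (iv F266797)
theorem F266812 : act 9 n59733 = n58583 := d29_2 (iv F261957) D59733 (iv D58583)
def n59734 : Q := act 5 n58531
theorem D59734 : act 5 n58531 = n59734 := rfl
theorem F266813 : act 0 n59734 = n58793 := d4_1 D59734 (iv D58793) (iv F261961)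
theorem F266814 : act 1 n59734 = n58983 := d12_1 D59734 (iv D58983) (iv F261962)
theorem F266815 : act 2 n59734 = n59097 := d19_1 D59734 F264373 (iv F261963)
theorem F266816 : act 4 n59734 = n59734 := d30_1 D59734 (iv D59734) (iv D58531) F257210 D58531
theorem F266817 : act 7 n59734 = n58789 := d36_2 (iv F261965) D59734 F263179
theorem F266818 : act 8 n59734 = n59734 := d37_2 F261966 D59734 (iv D59734)
theorem F266819 : act 9 n59734 = n58585 := d38_2 (iv F261967) D59734 (iv D58585)
def n59735 : Q := act 3 n58532
theorem D59735 : act 3 n58532 = n59735 := rfl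
theorem F266820 : act 0 n59735 = n59203 := d2_1 D59735 F264804 (iv F261968)
theorem F266821 : act 1 n59735 = n59054 := d10_1 D59735 F264224 (iv F261969)
theorem F266822 : act 4 n59735 = n58933 := d24_2 D58532 D59735 (iv D58933) F259114 (iv F257216)
theorem F266823 : act 6 n59735 = n59430 := d26_2 (iv F261971) D59735 F265341
theorem F266824 : act 7 n59735 = n58534 := d27_2 (iv F261972) D59735 (iv D58534)
theorem F266825 : act 9 n59735 = n58587 := d29_2 (iv F261974) D59735 (iv D58587)
def n59736 : Q := act 8 n58534
theorem D59736 : act 8 n58534 = n59736 := rfl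
theorem F266826 : act 0 n59736 = n59211 := d7_1 D59736 F264833 (iv F261983)
theorem F266827 : act 1 n59736 = n59041 := d15_1 D59736 F264187 (iv F261984)
theorem F266828 : act 3 n59736 = n59736 := d28_1 D59736 (iv D59736) (iv D58534) F257247 D58534
theorem F266829 : act 4 n59736 = n59029 := d33_1 D59736 F264149 (iv F261985)
theorem F266830 : act 6 n59736 = n59031 := d40_1 D59736 F264155 (iv F261986)
def n59737 : Q := act 3 n58535
theorem D59737 : act 3 n58535 = n59737 := rfl
theorem F266831 : act 0 n59737 = n58738 := d2_1 D59737 (iv D58738) (iv F261988)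
theorem F266832 : act 1 n59737 = n58661 := d10_1 D59737 (iv D58661) (iv F261989)
theorem F266833 : act 5 n59737 = n58549 := d25_2 (iv F261992) D59737 (iv D58549)
theorem F266834 : act 6 n59737 = n58694 := d26_2 (iv F261993) D59737 (iv D58694)
theorem F266835 : act 7 n59737 = n58536 := d27_2 (iv F261994) D59737 (iv D58536)
theorem F266836 : act 8 n59737 = n58659 := d28_2 D58535 D59737 (iv D58659) (iv D57498) (iv F257252)
theorem F266837 : act 9 n59737 = n58919 := d29_2 (iv F261995) D59737 (iv D58919)
def n59738 : Q := act 2 n58536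
theorem D59738 : act 2 n58536 = n59738 := rfl
theorem F266838 : act 0 n59738 = n58761 := d1_1 D59738 (iv D58761) (iv F261996)
theorem F266839 : act 3 n59738 = n58895 := d17_2 D58536 D59738 (iv D58895) (iv D57721) (iv F257259)
theorem F266840 : act 5 n59738 = n58550 := d19_2 (iv F261998) D59738 (iv D58550)
theorem F266841 : act 6 n59738 = n58537 := d20_2 (iv F261999) D59738 (iv D58537)
theorem F266842 : act 8 n59738 = n58679 := d22_2 (iv F262000) D59738 (iv D58679)
def n59739 : Q := act 4 n58536
theorem D59739 : act 4 n58536 = n59739 := rfl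
theorem F266843 : act 0 n59739 = n58762 := d3_1 D59739 (iv D58762) (iv F261996)
theorem F266844 : act 1 n59739 = n58999 := d11_1 D59739 (iv D58999) (iv F261997)
theorem F266845 : act 3 n59739 = n59739 := d24_1 D59739 (iv D59739) (iv D58536) F257260 D58536
theorem F266846 : act 6 n59739 = n58538 := d31_2 (iv F261999) D59739 (iv D58538)
theorem F266847 : act 8 n59739 = n58680 := d33_2 (iv F262000) D59739 (iv D58680)
def n59740 : Q := act 1 n58537
theorem D59740 : act 1 n58537 = n59740 := rfl
theorem F266848 : act 2 n59740 = n59000 := d9_2 D58537 D59740 (iv D59000) (iv D57816) (iv F257263)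
theorem F266849 : act 5 n59740 = n58539 := d12_2 (iv F262001) D59740 (iv D58539)
theorem F266850 : act 7 n59740 = n59230 := d14_2 (iv F262002) D59740 (iv D59230)
def n59741 : Q := act 4 n58537
theorem D59741 : act 4 n58537 = n59741 := rfl
theorem F266851 : act 2 n59741 = n58538 := d18_1 D59741 (iv D58538) D58537
theorem F266852 : act 5 n59741 = n59337 := d30_2 (iv F262001) D59741 (iv D59337) (iv F261202) F261201
theorem F266853 : act 7 n59741 = n59231 := d32_2 (iv F262002) D59741 (iv D59231)
theorem F266854 : act 8 n59741 = n59340 := d33_2 F265582 D59741 (iv F265578)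
def n59742 : Q := act 0 n58539
theorem D59742 : act 0 n58539 = n59742 := rfl
theorem F266855 : act 2 n59742 = n59002 := d1_2 (iv F262008) D59742 (iv D59002)
theorem F266856 : act 6 n59742 = n58554 := d5_2 (iv F262009) D59742 (iv D58554)
theorem F266857 : act 7 n59742 = n59232 := d6_2 (iv F262010) D59742 (iv D59232)
def n59743 : Q := act 2 n58540
theorem D59743 : act 2 n58540 = n59743 := rfl
theorem F266858 : act 0 n59743 = n58542 := d1_1 D59743 (iv D58542) (iv F262011)
theorem F266859 : act 3 n59743 = n59003 := d17_2 D58540 D59743 (iv D59003) (iv D57819) (iv F257270)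
theorem F266860 : act 5 n59743 = n58952 := d19_2 (iv F262013) D59743 (iv D58952)
theorem F266861 : act 6 n59743 = n59215 := d20_2 (iv F262014) D59743 (iv D59215)
theorem F266862 : act 7 n59743 = n58556 := d21_2 (iv F262015) D59743 (iv D58556)
theorem F266863 : act 8 n59743 = n59134 := d22_2 (iv F262016) D59743 (iv D59134)
theorem F266864 : act 9 n59743 = n59004 := d23_2 (iv F262017) D59743 (iv D59004)
def n59744 : Q := act 4 n58540
theorem D59744 : act 4 n58540 = n59744 := rfl
theorem F266865 : act 0 n59744 = n58543 := d3_1 D59744 (iv D58543) (iv F262011)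
theorem F266866 : act 1 n59744 = n58569 := d11_1 D59744 F262165 (iv F262012)
theorem F266867 : act 3 n59744 = n58541 := d24_1 D59744 (iv D58541) (iv D57375) (iv F257271) D58540
theorem F266868 : act 5 n59744 = n58560 := d30_2 (iv F262013) D59744 (iv D58560) F257356 (iv F259165)
theorem F266869 : act 6 n59744 = n58840 := d31_2 (iv F262014) D59744 F263409
theorem F266870 : act 7 n59744 = n58557 := d32_2 (iv F262015) D59744 (iv D58557)
theorem F266871 : act 8 n59744 = n58564 := d33_2 (iv F262016) D59744 F262137
theorem F266872 : act 9 n59744 = n59005 := d34_2 (iv F262017) D59744 (iv D59005)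
def n59745 : Q := act 1 n58542
theorem D59745 : act 1 n58542 = n59745 := rfl
theorem F266873 : act 2 n59745 = n58545 := d9_2 D58542 D59745 (iv D58545) (iv D57378) (iv F257284)
theorem F266874 : act 3 n59745 = n59006 := d10_2 (iv F262026) D59745 (iv D59006)
theorem F266875 : act 5 n59745 = n59418 := d12_2 (iv F262027) D59745 (iv D59418)
theorem F266876 : act 7 n59745 = n58562 := d14_2 (iv F262028) D59745 (iv D58562)
theorem F266877 : act 8 n59745 = n59135 := d15_2 (iv F262029) D59745 (iv D59135)
def n59746 : Q := act 4 n58542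
theorem D59746 : act 4 n58542 = n59746 := rfl
theorem F266878 : act 2 n59746 = n58543 := d18_1 D59746 (iv D58543) D58542
theorem F266879 : act 7 n59746 = n58563 := d32_2 (iv F262028) D59746 (iv D58563)
theorem F266880 : act 8 n59746 = n59136 := d33_2 (iv F262029) D59746 (iv D59136)
def n59747 : Q := act 5 n58543
theorem D59747 : act 5 n58543 = n59747 := rfl
theorem F266881 : act 0 n59747 = n58560 := d4_1 D59747 (iv F266868) F266865
theorem F266882 : act 1 n59747 = n58547 := d12_1 D59747 (iv D58547) (iv F262030)
theorem F266883 : act 3 n59747 = n58544 := d25_1 D59747 (iv D58544) (iv F262031)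
theorem F266884 : act 4 n59747 = n58555 := d30_1 D59747 F262088 F259206 (iv F257285) D58543
theorem F266885 : act 6 n59747 = n58589 := d35_2 F266039 D59747 (iv F266192) F266193 F266042
theorem F266886 : act 7 n59747 = n58564 := d36_2 (iv F262032) D59747 (iv D58564)
theorem F266887 : act 8 n59747 = n58557 := d37_2 (iv F262033) D59747 F262101
theorem F266888 : act 9 n59747 = n59279 := d38_2 F266644 D59747 (iv F266641)
def n59748 : Q := act 0 n58545
theorem D59748 : act 0 n58545 = n59748 := rfl
theorem F266889 : act 1 n59748 = n59506 := d0_2 D58545 D59748 (iv D59506) (iv D58314) (iv F257291)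
theorem F266890 : act 3 n59748 = n58554 := d2_2 (iv F262042) D59748 (iv D58554)
theorem F266891 : act 5 n59748 = n59421 := d4_2 (iv F262043) D59748 (iv D59421)
theorem F266892 : act 7 n59748 = n58573 := d6_2 (iv F262044) D59748 (iv D58573)
theorem F266893 : act 8 n59748 = n59137 := d7_2 (iv F262045) D59748 (iv D59137)
def n59749 : Q := act 4 n58545
theorem D59749 : act 4 n58545 = n59749 := rfl
theorem F266894 : act 1 n59749 = n58546 := d11_1 D59749 (iv D58546) D58545
theorem F266895 : act 7 n59749 = n58574 := d32_2 (iv F262044) D59749 (iv D58574)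
theorem F266896 : act 8 n59749 = n59138 := d33_2 (iv F262045) D59749 (iv D59138)
def n59750 : Q := act 5 n58546
theorem D59750 : act 5 n58546 = n59750 := rfl
theorem F266897 : act 0 n59750 = n59480 := d4_1 D59750 F265450 (iv F262046)
theorem F266898 : act 2 n59750 = n58547 := d19_1 D59750 (iv D58547) (iv F262047)
theorem F266899 : act 4 n59750 = n58965 := d30_1 D59750 F263916 F259231 (iv F257293) D58546
theorem F266900 : act 7 n59750 = n58575 := d36_2 (iv F262048) D59750 (iv D58575)
theorem F266901 : act 8 n59750 = n58970 := d37_2 (iv F262049) D59750 F263939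
def n59751 : Q := act 6 n58547
theorem D59751 : act 6 n58547 = n59751 := rfl
theorem F266902 : act 0 n59751 = n59169 := d5_1 D59751 F264684 (iv F262050)
theorem F266903 : act 1 n59751 = n58589 := d13_1 D59751 (iv F266885) F266882
theorem F266904 : act 3 n59751 = n58548 := d26_1 D59751 (iv D58548) (iv F262051)
theorem F266905 : act 4 n59751 = n58916 := d31_1 D59751 F263732 (iv F262052)
theorem F266906 : act 7 n59751 = n58929 := d39_2 (iv F262053) D59751 F263786 F262202 (iv D58576)
theorem F266907 : act 8 n59751 = n58588 := d40_2 (iv F262054) D59751 F262252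
def n59752 : Q := act 2 n58549
theorem D59752 : act 2 n58549 = n59752 := rfl
theorem F266908 : act 0 n59752 = n58740 := d1_1 D59752 (iv D58740) (iv F262060)
theorem F266909 : act 3 n59752 = n58881 := d17_2 D58549 D59752 (iv D58881) (iv D57709) (iv F257306)
theorem F266910 : act 6 n59752 = n58577 := d20_2 (iv F262062) D59752 (iv D58577)
theorem F266911 : act 7 n59752 = n58550 := d21_2 (iv F262063) D59752 (iv D58550)
theorem F266912 : act 8 n59752 = n58671 := d22_2 (iv F262064) D59752 (iv D58671)
theorem F266913 : act 9 n59752 = n59445 := d23_2 (iv F262065) D59752 (iv D59445)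
def n59753 : Q := act 4 n58549
theorem D59753 : act 4 n58549 = n59753 := rfl
theorem F266914 : act 0 n59753 = n58741 := d3_1 D59753 (iv D58741) (iv F262060)
theorem F266915 : act 1 n59753 = n59021 := d11_1 D59753 (iv D59021) (iv F262061)
theorem F266916 : act 3 n59753 = n58584 := d24_1 D59753 (iv D58584) (iv D57413) (iv F257307) D58549
theorem F266917 : act 6 n59753 = n58578 := d31_2 (iv F262062) D59753 (iv D58578)
theorem F266918 : act 7 n59753 = n58551 := d32_2 (iv F262063) D59753 (iv D58551)
theorem F266919 : act 8 n59753 = n58641 := d33_2 (iv F262064) D59753 F262550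
theorem F266920 : act 9 n59753 = n59446 := d34_2 (iv F262065) D59753 (iv D59446)
theorem F266921 : act 5 n58785 = n59753 := d37_3 F266919 F262551 D58785
def n59754 : Q := act 1 n58550
theorem D59754 : act 1 n58550 = n59754 := rfl
theorem F266922 : act 2 n59754 = n59022 := d9_2 D58550 D59754 (iv D59022) (iv D57834) (iv F257312)
theorem F266923 : act 3 n59754 = n58898 := d10_2 (iv F262067) D59754 (iv D58898)
theorem F266924 : act 6 n59754 = n58552 := d13_2 (iv F262068) D59754 (iv D58552)
theorem F266925 : act 8 n59754 = n58681 := d15_2 (iv F262069) D59754 (iv D58681)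
def n59755 : Q := act 4 n58550
theorem D59755 : act 4 n58550 = n59755 := rfl
theorem F266926 : act 0 n59755 = n58766 := d3_1 D59755 (iv D58766) (iv F262066)
theorem F266927 : act 2 n59755 = n58551 := d18_1 D59755 (iv D58551) D58550
theorem F266928 : act 3 n59755 = n59432 := d24_1 D59755 (iv D59432) F260605 (iv F258968) (iv F262067)
theorem F266929 : act 6 n59755 = n58553 := d31_2 (iv F262068) D59755 (iv D58553)
theorem F266930 : act 8 n59755 = n58682 := d33_2 (iv F262069) D59755 (iv D58682)
def n59756 : Q := act 5 n58551
theorem D59756 : act 5 n58551 = n59756 := rfl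
theorem F266931 : act 0 n59756 = n58767 := d4_1 D59756 (iv D58767) (iv F262070)
theorem F266932 : act 1 n59756 = n59024 := d12_1 D59756 (iv D59024) (iv F262071)
theorem F266933 : act 3 n59756 = n58585 := d25_1 D59756 (iv D58585) (iv F262072)
theorem F266934 : act 7 n59756 = n58785 := d36_2 F266918 D59756 F266921
theorem F266935 : act 8 n59756 = n58683 := d37_2 (iv F262074) D59756 (iv D58683)
def n59757 : Q := act 0 n58552
theorem D59757 : act 0 n58552 = n59757 := rfl
theorem F266936 : act 1 n59757 = n59360 := d0_2 D58552 D59757 (iv D59360) (iv D58167) (iv F257315)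
theorem F266937 : act 2 n59757 = n59025 := d1_2 (iv F262075) D59757 (iv D59025)
theorem F266938 : act 3 n59757 = n59421 := d2_2 (iv F262076) D59757 (iv D59421)
theorem F266939 : act 5 n59757 = n58554 := d4_2 (iv F262077) D59757 (iv D58554)
theorem F266940 : act 7 n59757 = n58581 := d6_2 (iv F262078) D59757 (iv D58581)
theorem F266941 : act 8 n59757 = n59329 := d7_2 (iv F262079) D59757 (iv D59329)
def n59758 : Q := act 4 n58552
theorem D59758 : act 4 n58552 = n59758 := rfl
theorem F266942 : act 1 n59758 = n58553 := d11_1 D59758 (iv D58553) D58552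
theorem F266943 : act 2 n59758 = n59026 := d18_1 D59758 (iv D59026) (iv F262075)
theorem F266944 : act 7 n59758 = n58582 := d32_2 (iv F262078) D59758 (iv D58582)
theorem F266945 : act 8 n59758 = n59330 := d33_2 (iv F262079) D59758 (iv D59330)
def n59759 : Q := act 3 n58553
theorem D59759 : act 3 n58553 = n59759 := rfl
theorem F266946 : act 0 n59759 = n59236 := d2_1 D59759 F264900 (iv F262080)
theorem F266947 : act 2 n59759 = n58587 := d17_1 D59759 (iv D58587) F257480 (iv F257322) (iv F262081)
theorem F266948 : act 4 n59759 = n58934 := d24_2 D58553 D59759 F263806 F259231 (iv F257316)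
theorem F266949 : act 6 n59759 = n59432 := d26_2 F266929 D59759 (iv F266928)
theorem F266950 : act 7 n59759 = n58583 := d27_2 (iv F262082) D59759 (iv D58583)
theorem F266951 : act 8 n58939 = n59759 := d40_0 F266949 F265346 (iv F263819)
def n59760 : Q := act 2 n58555
theorem D59760 : act 2 n58555 = n59760 := rfl
theorem F266952 : act 0 n59760 = n58559 := d1_1 D59760 (iv D58559) (iv F262086)
theorem F266953 : act 3 n59760 = n58915 := d17_2 D58555 D59760 (iv D58915) (iv D57742) (iv F257329)
theorem F266954 : act 5 n59760 = n58962 := d19_2 (iv F262088) D59760 (iv D58962)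
theorem F266955 : act 6 n59760 = n58918 := d20_2 (iv F262089) D59760 (iv D58918)
theorem F266956 : act 7 n59760 = n59134 := d21_2 (iv F262090) D59760 (iv D59134)
theorem F266957 : act 8 n59760 = n58556 := d22_2 (iv F262091) D59760 (iv D58556)
theorem F266958 : act 9 n59760 = n59278 := d23_2 (iv F262092) D59760 (iv D59278)
def n59761 : Q := act 1 n58556
theorem D59761 : act 1 n58556 = n59761 := rfl
theorem F266959 : act 2 n59761 = n58969 := d9_2 D58556 D59761 (iv D58969) (iv D57788) (iv F257336)
theorem F266960 : act 3 n59761 = n59028 := d10_2 (iv F262094) D59761 (iv D59028)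
theorem F266961 : act 5 n59761 = n58963 := d12_2 (iv F262095) D59761 (iv D58963)
theorem F266962 : act 6 n59761 = n59254 := d13_2 (iv F262096) D59761 (iv D59254)
theorem F266963 : act 9 n59761 = n59034 := d16_2 (iv F262097) D59761 (iv D59034)
def n59762 : Q := act 4 n58556
theorem D59762 : act 4 n58556 = n59762 := rfl
theorem F266964 : act 0 n59762 = n58563 := d3_1 D59762 (iv D58563) (iv F262093)
theorem F266965 : act 2 n59762 = n58557 := d18_1 D59762 (iv D58557) D58556
theorem F266966 : act 3 n59762 = n58580 := d24_1 D59762 (iv D58580) (iv F262178) F262179 (iv F262094)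
theorem F266967 : act 5 n59762 = n59136 := d30_2 (iv F262095) D59762 (iv D59136) F259841 (iv F259210)
theorem F266968 : act 6 n59762 = n58583 := d31_2 (iv F262096) D59762 F262221
theorem F266969 : act 9 n59762 = n59035 := d34_2 (iv F262097) D59762 (iv D59035)
def n59763 : Q := act 2 n58558
theorem D59763 : act 2 n58558 = n59763 := rfl
theorem F266970 : act 0 n59763 = n59278 := d1_1 D59763 (iv D59278) (iv F262104)
theorem F266971 : act 3 n59763 = n58796 := d17_2 D58558 D59763 (iv D58796) (iv D57631) (iv F257349)
theorem F266972 : act 5 n59763 = n58991 := d19_2 (iv F262106) D59763 (iv D58991)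
theorem F266973 : act 6 n59763 = n59257 := d20_2 (iv F262107) D59763 (iv D59257)
theorem F266974 : act 7 n59763 = n58797 := d21_2 (iv F262108) D59763 (iv D58797)
theorem F266975 : act 8 n59763 = n58993 := d22_2 (iv F262109) D59763 (iv D58993)
theorem F266976 : act 9 n59763 = n58559 := d23_2 (iv F262110) D59763 (iv D58559)
def n59764 : Q := act 4 n58558
theorem D59764 : act 4 n58558 = n59764 := rfl
theorem F266977 : act 0 n59764 = n59279 := d3_1 D59764 (iv D59279) (iv F262104)
theorem F266978 : act 1 n59764 = n58566 := d11_1 D59764 (iv D58566) (iv F262105)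
theorem F266979 : act 3 n59764 = n58591 := d24_1 D59764 (iv D58591) (iv D57427) (iv F257350) D58558
theorem F266980 : act 5 n59764 = n59005 := d30_2 (iv F262106) D59764 (iv D59005) F259378 (iv F259332)
theorem F266981 : act 6 n59764 = n59258 := d31_2 (iv F262107) D59764 (iv D59258)
theorem F266982 : act 7 n59764 = n58798 := d32_2 (iv F262108) D59764 (iv D58798)
theorem F266983 : act 8 n59764 = n58994 := d33_2 (iv F262109) D59764 (iv D58994)
theorem F266984 : act 9 n59764 = n58560 := d34_2 (iv F262110) D59764 (iv D58560)
def n59765 : Q := act 1 n58559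
theorem D59765 : act 1 n58559 = n59765 := rfl
theorem F266985 : act 2 n59765 = n58567 := d9_2 D58559 D59765 (iv D58567) (iv D57396) (iv F257355)
theorem F266986 : act 3 n59765 = n59387 := d10_2 (iv F262111) D59765 (iv D59387)
theorem F266987 : act 5 n59765 = n59415 := d12_2 (iv F262112) D59765 (iv D59415)
theorem F266988 : act 6 n59765 = n59259 := d13_2 (iv F262113) D59765 (iv D59259)
theorem F266989 : act 7 n59765 = n59135 := d14_2 (iv F262114) D59765 (iv D59135)
theorem F266990 : act 8 n59765 = n58562 := d15_2 (iv F262115) D59765 (iv D58562)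
def n59766 : Q := act 4 n58559
theorem D59766 : act 4 n58559 = n59766 := rfl
theorem F266991 : act 2 n59766 = n58560 := d18_1 D59766 (iv D58560) D58559
theorem F266992 : act 3 n59766 = n59353 := d24_1 D59766 (iv D59353) (iv F263419) F263420 (iv F262111)
theorem F266993 : act 6 n59766 = n59260 := d31_2 (iv F262113) D59766 (iv D59260)
theorem F266994 : act 7 n59766 = n59136 := d32_2 (iv F262114) D59766 (iv D59136)
theorem F266995 : act 8 n59766 = n58563 := d33_2 (iv F262115) D59766 (iv D58563)
def n59767 : Q := act 1 n58561
theorem D59767 : act 1 n58561 = n59767 := rfl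
theorem F266996 : act 2 n59767 = n58572 := d9_2 D58561 D59767 (iv D58572) (iv D57400) (iv F257361)
theorem F266997 : act 3 n59767 = n59034 := d10_2 (iv F262122) D59767 (iv D59034)
theorem F266998 : act 4 n59767 = n59417 := d11_2 (iv F262123) D59767 (iv D59417)
theorem F266999 : act 5 n59767 = n58562 := d12_2 (iv F262124) D59767 (iv D58562)
theorem F267000 : act 6 n59767 = n59444 := d13_2 (iv F262125) D59767 (iv D59444)
theorem F267001 : act 7 n59767 = n59418 := d14_2 (iv F262126) D59767 (iv D59418)
theorem F267002 : act 8 n59767 = n59415 := d15_2 (iv F262127) D59767 (iv D59415)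
theorem F267003 : act 9 n59767 = n59028 := d16_2 (iv F262128) D59767 (iv D59028)
def n59768 : Q := act 0 n58562
theorem D59768 : act 0 n58562 = n59768 := rfl
theorem F267004 : act 2 n59768 = n58573 := d1_2 (iv F262129) D59768 (iv D58573)
theorem F267005 : act 3 n59768 = n59036 := d2_2 (iv F262130) D59768 (iv D59036)
theorem F267006 : act 6 n59768 = n59264 := d5_2 (iv F262131) D59768 (iv D59264)
def n59769 : Q := act 4 n58562
theorem D59769 : act 4 n58562 = n59769 := rfl
theorem F267007 : act 1 n59769 = n58563 := d11_1 D59769 (iv D58563) D58562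
theorem F267008 : act 2 n59769 = n58574 := d18_1 D59769 (iv D58574) (iv F262129)
theorem F267009 : act 6 n59769 = n59265 := d31_2 (iv F262131) D59769 (iv D59265)
def n59770 : Q := act 5 n58563
theorem D59770 : act 5 n58563 = n59770 := rfl
theorem F267010 : act 0 n59770 = n59136 := d4_1 D59770 (iv F266967) F266964
theorem F267011 : act 2 n59770 = n58564 := d19_1 D59770 (iv D58564) (iv F262132)
theorem F267012 : act 3 n59770 = n58836 := d25_1 D59770 (iv F266453) F266452
theorem F267013 : act 4 n59770 = n59134 := d30_1 D59770 F264557 (iv F262123) F262124 D58563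
theorem F267014 : act 6 n59770 = n58839 := d35_2 (iv F262133) D59770 F263405 (iv F264265) F264264
theorem F267015 : act 9 n59770 = n59281 := d38_2 F266720 D59770 (iv F266718)
def n59771 : Q := act 1 n58565
theorem D59771 : act 1 n58565 = n59771 := rfl
theorem F267016 : act 3 n59771 = n59131 := d10_2 (iv F262141) D59771 (iv D59131)
theorem F267017 : act 5 n59771 = n59019 := d12_2 (iv F262142) D59771 F264123
theorem F267018 : act 6 n59771 = n59272 := d13_2 (iv F262143) D59771 (iv D59272)
theorem F267019 : act 7 n59771 = n59063 := d14_2 (iv F262144) D59771 F264250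
theorem F267020 : act 9 n59771 = n58567 := d16_2 (iv F262145) D59771 (iv D58567)
def n59772 : Q := act 4 n58565
theorem D59772 : act 4 n58565 = n59772 := rfl
theorem F267021 : act 0 n59772 = n59194 := d3_1 D59772 (iv D59194) (iv F262140)
theorem F267022 : act 2 n59772 = n58566 := d18_1 D59772 (iv D58566) D58565
theorem F267023 : act 3 n59772 = n59208 := d24_1 D59772 (iv D59208) F260100 (iv F259822) (iv F262141)
theorem F267024 : act 5 n59772 = n59017 := d30_2 (iv F262142) D59772 (iv D59017) F259412 D57832
theorem F267025 : act 6 n59772 = n59273 := d31_2 (iv F262143) D59772 (iv D59273)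
theorem F267026 : act 7 n59772 = n59061 := d32_2 (iv F262144) D59772 F264243
theorem F267027 : act 9 n59772 = n58568 := d34_2 (iv F262145) D59772 (iv D58568)
def n59773 : Q := act 0 n58567
theorem D59773 : act 0 n58567 = n59773 := rfl
theorem F267028 : act 1 n59773 = n59483 := d0_2 D58567 D59773 (iv D59483) (iv D58292) (iv F257385)
theorem F267029 : act 3 n59773 = n59133 := d2_2 (iv F262152) D59773 (iv D59133)
theorem F267030 : act 5 n59773 = n59416 := d4_2 (iv F262153) D59773 (iv D59416)
theorem F267031 : act 6 n59773 = n59275 := d5_2 (iv F262154) D59773 (iv D59275)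
theorem F267032 : act 7 n59773 = n59137 := d6_2 (iv F262155) D59773 (iv D59137)
theorem F267033 : act 8 n59773 = n58573 := d7_2 (iv F262156) D59773 (iv D58573)
def n59774 : Q := act 4 n58567
theorem D59774 : act 4 n58567 = n59774 := rfl
theorem F267034 : act 1 n59774 = n58568 := d11_1 D59774 (iv D58568) D58567
theorem F267035 : act 3 n59774 = n59248 := d24_1 D59774 (iv D59248) F260196 (iv F259832) (iv F262152)
theorem F267036 : act 6 n59774 = n59276 := d31_2 (iv F262154) D59774 (iv D59276)
theorem F267037 : act 7 n59774 = n59138 := d32_2 (iv F262155) D59774 (iv D59138)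
theorem F267038 : act 8 n59774 = n58574 := d33_2 (iv F262156) D59774 (iv D58574)
def n59775 : Q := act 5 n58568
theorem D59775 : act 5 n58568 = n59775 := rfl
theorem F267039 : act 0 n59775 = n59485 := d4_1 D59775 (iv D59485) (iv F262157)
theorem F267040 : act 2 n59775 = n58569 := d19_1 D59775 (iv D58569) (iv F262158)
theorem F267041 : act 3 n59775 = n59249 := d25_1 D59775 (iv D59249) (iv F262159)
theorem F267042 : act 4 n59775 = n58954 := d30_1 D59775 F263874 F259184 (iv F257387) D58568
theorem F267043 : act 7 n59775 = n58970 := d36_2 (iv F262161) D59775 F263939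
theorem F267044 : act 8 n59775 = n58575 := d37_2 (iv F262162) D59775 (iv D58575)
theorem F267045 : act 9 n59775 = n59017 := d38_2 F267027 D59775 (iv F267024)
def n59776 : Q := act 6 n58569
theorem D59776 : act 6 n58569 = n59776 := rfl
theorem F267046 : act 0 n59776 = n59486 := d5_1 D59776 (iv D59486) (iv F262163)
theorem F267047 : act 1 n59776 = n58840 := d13_1 D59776 (iv F266869) F266866
theorem F267048 : act 3 n59776 = n58592 := d26_1 D59776 (iv D58592) (iv F262164)
theorem F267049 : act 4 n59776 = n58953 := d31_1 D59776 F263868 (iv F262165)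
theorem F267050 : act 5 n59776 = n59089 := d35_1 D59776 F264338 (iv D58077) (iv F257393) D58569
theorem F267051 : act 8 n59776 = n58576 := d40_2 (iv F262167) D59776 (iv D58576)
theorem F267052 : act 9 n59776 = n59015 := d41_2 (iv F262168) D59776 F264115
theorem F267053 : act 7 n59425 = n59776 := d42_3 F267051 (iv F262202) (iv F265336)
def n59777 : Q := act 2 n58570
theorem D59777 : act 2 n58570 = n59777 := rfl
theorem F267054 : act 0 n59777 = n58991 := d1_1 D59777 (iv D58991) (iv F262169)
theorem F267055 : act 3 n59777 = n58577 := d17_2 D58570 D59777 (iv D58577) (iv D57405) (iv F257398)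
theorem F267056 : act 4 n59777 = n59003 := d18_2 (iv F262171) D59777 (iv D59003)
theorem F267057 : act 5 n59777 = n59278 := d19_2 (iv F262172) D59777 (iv D59278)
theorem F267058 : act 6 n59777 = n58881 := d20_2 (iv F262173) D59777 (iv D58881)
theorem F267059 : act 7 n59777 = n58571 := d21_2 (iv F262174) D59777 (iv D58571)
theorem F267060 : act 8 n59777 = n58876 := d22_2 (iv F262175) D59777 (iv D58876)
theorem F267061 : act 9 n59777 = n58962 := d23_2 (iv F262176) D59777 (iv D58962)
def n59778 : Q := act 1 n58571
theorem D59778 : act 1 n58571 = n59778 := rfl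
theorem F267062 : act 2 n59778 = n59444 := d9_2 D58571 D59778 (iv D59444) (iv D58255) (iv F257405)
theorem F267063 : act 3 n59778 = n58579 := d10_2 (iv F262178) D59778 (iv D58579)
theorem F267064 : act 4 n59778 = n59028 := d11_2 (iv F262179) D59778 (iv D59028)
theorem F267065 : act 5 n59778 = n59280 := d12_2 (iv F262180) D59778 (iv D59280)
theorem F267066 : act 6 n59778 = n58572 := d13_2 (iv F262181) D59778 (iv D58572)
theorem F267067 : act 8 n59778 = n59411 := d15_2 (iv F262182) D59778 (iv D59411)
theorem F267068 : act 9 n59778 = n59417 := d16_2 (iv F262183) D59778 (iv D59417)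
def n59779 : Q := act 0 n58572
theorem D59779 : act 0 n58572 = n59779 := rfl
theorem F267069 : act 1 n59779 = n59482 := d0_2 D58572 D59779 (iv D59482) (iv D58291) (iv F257411)
theorem F267070 : act 3 n59779 = n58581 := d2_2 (iv F262184) D59779 (iv D58581)
theorem F267071 : act 4 n59779 = n59493 := d3_2 (iv F262185) D59779 (iv D59493)
theorem F267072 : act 5 n59779 = n58573 := d4_2 (iv F262186) D59779 (iv D58573)
theorem F267073 : act 7 n59779 = n59421 := d6_2 (iv F262187) D59779 (iv D59421)
theorem F267074 : act 8 n59779 = n59416 := d7_2 (iv F262188) D59779 (iv D59416)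
def n59780 : Q := act 4 n58573
theorem D59780 : act 4 n58573 = n59780 := rfl
theorem F267075 : act 0 n59780 = n58574 := d3_1 D59780 (iv D58574) D58573
theorem F267076 : act 6 n59780 = n59284 := d31_2 (iv F262190) D59780 (iv D59284)
def n59781 : Q := act 5 n58574
theorem D59781 : act 5 n58574 = n59781 := rfl
theorem F267077 : act 1 n59781 = n58575 := d12_1 D59781 (iv D58575) (iv F262191)
theorem F267078 : act 4 n59781 = n59492 := d30_1 D59781 F265487 (iv F262185) F262186 D58574
def n59782 : Q := act 6 n58575
theorem D59782 : act 6 n58575 = n59782 := rfl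
theorem F267079 : act 0 n59782 = n59495 := d5_1 D59782 F265492 (iv F262193)
theorem F267080 : act 2 n59782 = n58576 := d20_1 D59782 (iv D58576) (iv F262194)
theorem F267081 : act 4 n59782 = n59212 := d31_1 D59782 F264837 (iv F262195)
theorem F267082 : act 5 n59782 = n59088 := d35_1 D59782 F264335 (iv D58085) (iv F257420) D58575
theorem F267083 : act 9 n59782 = n59263 := d41_2 F266772 D59782 F266773
theorem F267084 : act 7 n59427 = n59782 := d32_0 F267081 F264838 D59427
def n59783 : Q := act 1 n58577
theorem D59783 : act 1 n58577 = n59783 := rfl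
theorem F267085 : act 2 n59783 = n59064 := d9_2 D58577 D59783 (iv D59064) (iv D57868) (iv F257431)
theorem F267086 : act 5 n59783 = n59286 := d12_2 (iv F262203) D59783 (iv D59286)
theorem F267087 : act 7 n59783 = n58579 := d14_2 (iv F262204) D59783 (iv D58579)
def n59784 : Q := act 4 n58577
theorem D59784 : act 4 n58577 = n59784 := rfl
theorem F267088 : act 2 n59784 = n58578 := d18_1 D59784 (iv D58578) D58577
theorem F267089 : act 5 n59784 = n59353 := d30_2 (iv F262203) D59784 (iv D59353) (iv F261524) F261523
theorem F267090 : act 7 n59784 = n58580 := d32_2 (iv F262204) D59784 (iv D58580)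
theorem F267091 : act 8 n59784 = n59357 := d33_2 F265685 D59784 (iv F265681)
def n59785 : Q := act 0 n58579
theorem D59785 : act 0 n58579 = n59785 := rfl
theorem F267092 : act 2 n59785 = n59066 := d1_2 (iv F262210) D59785 (iv D59066)
theorem F267093 : act 5 n59785 = n59287 := d4_2 (iv F262211) D59785 (iv D59287)
theorem F267094 : act 6 n59785 = n58581 := d5_2 (iv F262212) D59785 (iv D58581)
def n59786 : Q := act 4 n58579
theorem D59786 : act 4 n58579 = n59786 := rfl
theorem F267095 : act 1 n59786 = n58580 := d11_1 D59786 (iv D58580) D58579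
theorem F267096 : act 2 n59786 = n59067 := d18_1 D59786 (iv D59067) (iv F262210)
theorem F267097 : act 6 n59786 = n58582 := d31_2 (iv F262212) D59786 (iv D58582)
def n59787 : Q := act 4 n58581
theorem D59787 : act 4 n58581 = n59787 := rfl
theorem F267098 : act 0 n59787 = n58582 := d3_1 D59787 (iv D58582) D58581
theorem F267099 : act 2 n59787 = n59069 := d18_1 D59787 (iv D59069) (iv F262215)
def n59788 : Q := act 3 n58582
theorem D59788 : act 3 n58582 = n59788 := rfl
theorem F267100 : act 1 n59788 = n58583 := d10_1 D59788 (iv D58583) (iv F262217)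
theorem F267101 : act 4 n59788 = n59254 := d24_2 D58582 D59788 F264955 (iv F262185) F262184
def n59789 : Q := act 8 n58583
theorem D59789 : act 8 n58583 = n59789 := rfl
theorem F267102 : act 0 n59789 = n59260 := d7_1 D59789 F264968 (iv F262219)
theorem F267103 : act 2 n59789 = n58589 := d22_1 D59789 (iv D58589) (iv F262220)
theorem F267104 : act 4 n59789 = n58918 := d33_1 D59789 F263744 (iv F262221)
theorem F267105 : act 7 n59789 = n58939 := d42_1 D59789 F266951 F266950
def n59790 : Q := act 3 n58586
theorem D59790 : act 3 n58586 = n59790 := rfl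
theorem F267106 : act 0 n59790 = n59155 := d2_1 D59790 F264627 (iv F262236)
theorem F267107 : act 1 n59790 = n58587 := d10_1 D59790 (iv D58587) (iv F262237)
theorem F267108 : act 4 n59790 = n58926 := d24_2 D58586 D59790 (iv D58926) F259087 (iv F257473)
theorem F267109 : act 5 n59790 = n59428 := d25_2 (iv F262239) D59790 (iv D59428)
theorem F267110 : act 6 n59790 = n59425 := d26_2 (iv F262240) D59790 F265335
theorem F267111 : act 7 n59790 = n58588 := d27_2 (iv F262241) D59790 (iv D58588)
theorem F267112 : act 8 n59790 = n58929 := d28_2 (iv F262242) D59790 F263785 F259103 (iv F257514)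
theorem F267113 : act 9 n59790 = n59054 := d29_2 (iv F262243) D59790 F264224
def n59791 : Q := act 2 n58588
theorem D59791 : act 2 n58588 = n59791 := rfl
theorem F267114 : act 0 n59791 = n59171 := d1_1 D59791 F264688 (iv F262249)
theorem F267115 : act 3 n59791 = n59088 := d17_2 D58588 D59791 (iv D59088) (iv D57894) (iv F257490)
theorem F267116 : act 4 n59791 = n58968 := d18_2 (iv F262251) D59791 (iv D58968)
theorem F267117 : act 6 n59791 = n58970 := d20_2 (iv F262252) D59791 F263938
theorem F267118 : act 9 n59791 = n59056 := d23_2 (iv F262253) D59791 F264229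
def n59792 : Q := act 9 n58589
theorem D59792 : act 9 n58589 = n59792 := rfl
theorem F267119 : act 0 n59792 = n59258 := d8_1 D59792 F264964 (iv F262254)
theorem F267120 : act 3 n59792 = n58590 := d29_1 D59792 (iv D58590) (iv F262255)
theorem F267121 : act 4 n59792 = n58693 := d34_1 D59792 F262821 (iv F262256)
theorem F267122 : act 6 n59792 = n59279 := d41_1 D59792 (iv F266888) F266885
theorem F267123 : act 7 n59792 = n58703 := d43_1 D59792 F262861 (iv F262257)
def n59793 : Q := act 2 n58593
theorem D59793 : act 2 n58593 = n59793 := rfl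
theorem F267124 : act 0 n59793 = n58708 := d1_1 D59793 (iv D58708) (iv F262279)
theorem F267125 : act 3 n59793 = n58734 := d17_2 D58593 D59793 (iv D58734) (iv D57572) (iv F257580)
theorem F267126 : act 4 n59793 = n58643 := d18_2 (iv F262281) D59793 (iv D58643)
theorem F267127 : act 5 n59793 = n58629 := d19_2 (iv F262282) D59793 (iv D58629)
theorem F267128 : act 6 n59793 = n58658 := d20_2 (iv F262283) D59793 (iv D58658)
theorem F267129 : act 7 n59793 = n58594 := d21_2 (iv F262284) D59793 (iv D58594)
theorem F267130 : act 8 n59793 = n58796 := d22_2 (iv F262285) D59793 (iv D58796)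
theorem F267131 : act 9 n59793 = n58670 := d23_2 (iv F262286) D59793 (iv D58670)
def n59794 : Q := act 1 n58594
theorem D59794 : act 1 n58594 = n59794 := rfl
theorem F267132 : act 2 n59794 = n58607 := d9_2 D58594 D59794 (iv D58607) (iv D57445) (iv F257587)
theorem F267133 : act 3 n59794 = n59343 := d10_2 (iv F262288) D59794 (iv D59343)
theorem F267134 : act 4 n59794 = n58649 := d11_2 (iv F262289) D59794 (iv D58649)
theorem F267135 : act 5 n59794 = n59341 := d12_2 (iv F262290) D59794 (iv D59341)
theorem F267136 : act 6 n59794 = n59109 := d13_2 (iv F262291) D59794 (iv D59109)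
theorem F267137 : act 8 n59794 = n58799 := d15_2 (iv F262292) D59794 (iv D58799)
theorem F267138 : act 9 n59794 = n59327 := d16_2 (iv F262293) D59794 (iv D59327)
def n59795 : Q := act 2 n58595
theorem D59795 : act 2 n58595 = n59795 := rfl
theorem F267139 : act 0 n59795 = n58614 := d1_1 D59795 (iv D58614) (iv F262294)
theorem F267140 : act 3 n59795 = n58622 := d17_2 D58595 D59795 (iv D58622) (iv D57460) (iv F257595)
theorem F267141 : act 4 n59795 = n58658 := d18_2 (iv F262296) D59795 (iv D58658)
theorem F267142 : act 5 n59795 = n58618 := d19_2 (iv F262297) D59795 (iv D58618)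
theorem F267143 : act 6 n59795 = n58643 := d20_2 (iv F262298) D59795 (iv D58643)
theorem F267144 : act 7 n59795 = n58599 := d21_2 (iv F262299) D59795 (iv D58599)
theorem F267145 : act 8 n59795 = n58844 := d22_2 (iv F262300) D59795 (iv D58844)
theorem F267146 : act 9 n59795 = n58602 := d23_2 (iv F262301) D59795 (iv D58602)
def n59796 : Q := act 2 n58596
theorem D59796 : act 2 n58596 = n59796 := rfl
theorem F267147 : act 0 n59796 = n58618 := d1_1 D59796 (iv D58618) (iv F262302)
theorem F267148 : act 3 n59796 = n58599 := d17_2 D58596 D59796 (iv D58599) (iv D57438) (iv F257603)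
theorem F267149 : act 5 n59796 = n58614 := d19_2 (iv F262304) D59796 (iv D58614)
theorem F267150 : act 6 n59796 = n58755 := d20_2 (iv F262305) D59796 (iv D58755)
theorem F267151 : act 7 n59796 = n58622 := d21_2 (iv F262306) D59796 (iv D58622)
theorem F267152 : act 9 n59796 = n58603 := d23_2 (iv F262307) D59796 (iv D58603)
def n59797 : Q := act 4 n58596
theorem D59797 : act 4 n58596 = n59797 := rfl
theorem F267153 : act 0 n59797 = n58619 := d3_1 D59797 (iv D58619) (iv F262302)
theorem F267154 : act 1 n59797 = n58769 := d11_1 D59797 (iv D58769) (iv F262303)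
theorem F267155 : act 3 n59797 = n58597 := d24_1 D59797 (iv D58597) (iv D57436) (iv F257604) D58596
theorem F267156 : act 5 n59797 = n58714 := d30_2 (iv F262304) D59797 (iv D58714) F258248 (iv F257721)
theorem F267157 : act 6 n59797 = n58756 := d31_2 (iv F262305) D59797 (iv D58756)
theorem F267158 : act 7 n59797 = n58623 := d32_2 (iv F262306) D59797 (iv D58623)
theorem F267159 : act 9 n59797 = n58604 := d34_2 (iv F262307) D59797 (iv D58604)
def n59798 : Q := act 2 n58598
theorem D59798 : act 2 n58598 = n59798 := rfl
theorem F267160 : act 0 n59798 = n58622 := d1_1 D59798 (iv D58622) (iv F262316)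
theorem F267161 : act 3 n59798 = n58614 := d17_2 D58598 D59798 (iv D58614) (iv D57453) (iv F257619)
theorem F267162 : act 5 n59798 = n58599 := d19_2 (iv F262318) D59798 (iv D58599)
theorem F267163 : act 6 n59798 = n59115 := d20_2 (iv F262319) D59798 (iv D59115)
theorem F267164 : act 7 n59798 = n58618 := d21_2 (iv F262320) D59798 (iv D58618)
theorem F267165 : act 8 n59798 = n59380 := d22_2 (iv F262321) D59798 (iv D59380)
theorem F267166 : act 9 n59798 = n58605 := d23_2 (iv F262322) D59798 (iv D58605)
def n59799 : Q := act 4 n58598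
theorem D59799 : act 4 n58598 = n59799 := rfl
theorem F267167 : act 0 n59799 = n58623 := d3_1 D59799 (iv D58623) (iv F262316)
theorem F267168 : act 1 n59799 = n59122 := d11_1 D59799 (iv D59122) (iv F262317)
theorem F267169 : act 3 n59799 = n58600 := d24_1 D59799 (iv D58600) (iv D57439) (iv F257620) D58598
theorem F267170 : act 5 n59799 = n58667 := d30_2 (iv F262318) D59799 (iv D58667) F258005 (iv F257627)
theorem F267171 : act 6 n59799 = n59116 := d31_2 (iv F262319) D59799 (iv D59116)
theorem F267172 : act 7 n59799 = n58619 := d32_2 (iv F262320) D59799 (iv D58619)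
theorem F267173 : act 8 n59799 = n59381 := d33_2 (iv F262321) D59799 (iv D59381)
theorem F267174 : act 9 n59799 = n58606 := d34_2 (iv F262322) D59799 (iv D58606)
def n59800 : Q := act 1 n58599
theorem D59800 : act 1 n58599 = n59800 := rfl
theorem F267175 : act 2 n59800 = n59327 := d9_2 D58599 D59800 (iv D59327) (iv D58131) (iv F257626)
theorem F267176 : act 4 n59800 = n58668 := d11_2 (iv F262324) D59800 (iv D58668)
theorem F267177 : act 6 n59800 = n59291 := d13_2 (iv F262325) D59800 (iv D59291)
theorem F267178 : act 8 n59800 = n59394 := d15_2 (iv F262326) D59800 (iv D59394)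
theorem F267179 : act 9 n59800 = n58607 := d16_2 (iv F262327) D59800 (iv D58607)
def n59801 : Q := act 2 n58601
theorem D59801 : act 2 n58601 = n59801 := rfl
theorem F267180 : act 0 n59801 = n58627 := d1_1 D59801 (iv D58627) (iv F262336)
theorem F267181 : act 3 n59801 = n58636 := d17_2 D58601 D59801 (iv D58636) (iv D57474) (iv F257641)
theorem F267182 : act 4 n59801 = n58670 := d18_2 (iv F262338) D59801 (iv D58670)
theorem F267183 : act 5 n59801 = n58647 := d19_2 (iv F262339) D59801 (iv D58647)
theorem F267184 : act 6 n59801 = n58602 := d20_2 (iv F262340) D59801 (iv D58602)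
theorem F267185 : act 7 n59801 = n58642 := d21_2 (iv F262341) D59801 (iv D58642)
theorem F267186 : act 8 n59801 = n58800 := d22_2 (iv F262342) D59801 (iv D58800)
theorem F267187 : act 9 n59801 = n58643 := d23_2 (iv F262343) D59801 (iv D58643)
def n59802 : Q := act 1 n58602
theorem D59802 : act 1 n58602 = n59802 := rfl
theorem F267188 : act 3 n59802 = n58638 := d10_2 (iv F262345) D59802 (iv D58638)
theorem F267189 : act 4 n59802 = n58674 := d11_2 (iv F262346) D59802 (iv D58674)
theorem F267190 : act 5 n59802 = n58633 := d12_2 (iv F262347) D59802 (iv D58633)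
theorem F267191 : act 7 n59802 = n58607 := d14_2 (iv F262348) D59802 (iv D58607)
theorem F267192 : act 8 n59802 = n58801 := d15_2 (iv F262349) D59802 (iv D58801)
def n59803 : Q := act 1 n58603
theorem D59803 : act 1 n58603 = n59803 := rfl
theorem F267193 : act 3 n59803 = n58607 := d10_2 (iv F262351) D59803 (iv D58607)
theorem F267194 : act 5 n59803 = n58628 := d12_2 (iv F262352) D59803 (iv D58628)
theorem F267195 : act 6 n59803 = n59293 := d13_2 (iv F262353) D59803 (iv D59293)
theorem F267196 : act 7 n59803 = n58638 := d14_2 (iv F262354) D59803 (iv D58638)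
theorem F267197 : act 8 n59803 = n58826 := d15_2 (iv F262355) D59803 (iv D58826)
def n59804 : Q := act 4 n58603
theorem D59804 : act 4 n58603 = n59804 := rfl
theorem F267198 : act 0 n59804 = n58634 := d3_1 D59804 (iv D58634) (iv F262350)
theorem F267199 : act 2 n59804 = n58604 := d18_1 D59804 (iv D58604) D58603
theorem F267200 : act 3 n59804 = n58682 := d24_1 D59804 (iv D58682) F258069 (iv F257671) (iv F262351)
theorem F267201 : act 5 n59804 = n58747 := d30_2 (iv F262352) D59804 (iv D58747) F258363 (iv F257800)
theorem F267202 : act 6 n59804 = n59294 := d31_2 (iv F262353) D59804 (iv D59294)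
theorem F267203 : act 7 n59804 = n58639 := d32_2 (iv F262354) D59804 (iv D58639)
theorem F267204 : act 8 n59804 = n58827 := d33_2 (iv F262355) D59804 (iv D58827)
def n59805 : Q := act 1 n58605
theorem D59805 : act 1 n58605 = n59805 := rfl
theorem F267205 : act 2 n59805 = n59341 := d9_2 D58605 D59805 (iv D59341) (iv D58147) (iv F257665)
theorem F267206 : act 3 n59805 = n58628 := d10_2 (iv F262364) D59805 (iv D58628)
theorem F267207 : act 5 n59805 = n58607 := d12_2 (iv F262365) D59805 (iv D58607)
theorem F267208 : act 6 n59805 = n59346 := d13_2 (iv F262366) D59805 (iv D59346)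
theorem F267209 : act 7 n59805 = n58633 := d14_2 (iv F262367) D59805 (iv D58633)
theorem F267210 : act 8 n59805 = n58802 := d15_2 (iv F262368) D59805 (iv D58802)
def n59806 : Q := act 4 n58605
theorem D59806 : act 4 n58605 = n59806 := rfl
theorem F267211 : act 0 n59806 = n58639 := d3_1 D59806 (iv D58639) (iv F262363)
theorem F267212 : act 2 n59806 = n58606 := d18_1 D59806 (iv D58606) D58605
theorem F267213 : act 3 n59806 = n58745 := d24_1 D59806 (iv D58745) F258358 (iv F257800) (iv F262364)
theorem F267214 : act 5 n59806 = n58685 := d30_2 (iv F262365) D59806 (iv D58685) F258080 (iv F257671)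
theorem F267215 : act 6 n59806 = n59347 := d31_2 (iv F262366) D59806 (iv D59347)
theorem F267216 : act 7 n59806 = n58634 := d32_2 (iv F262367) D59806 (iv D58634)
theorem F267217 : act 8 n59806 = n58803 := d33_2 (iv F262368) D59806 (iv D58803)
def n59807 : Q := act 0 n58607
theorem D59807 : act 0 n58607 = n59807 := rfl
theorem F267218 : act 1 n59807 = n58640 := d0_2 D58607 D59807 (iv D58640) (iv D57477) (iv F257670)
theorem F267219 : act 4 n59807 = n58686 := d3_2 (iv F262376) D59807 (iv D58686)
theorem F267220 : act 6 n59807 = n59296 := d5_2 (iv F262377) D59807 (iv D59296)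
theorem F267221 : act 8 n59807 = n58804 := d7_2 (iv F262378) D59807 (iv D58804)
def n59808 : Q := act 3 n58608
theorem D59808 : act 3 n58608 = n59808 := rfl
theorem F267222 : act 0 n59808 = n59297 := d2_1 D59808 (iv D59297) (iv F262379)
theorem F267223 : act 1 n59808 = n58760 := d10_1 D59808 (iv D58760) (iv F262380)
theorem F267224 : act 5 n59808 = n58752 := d25_2 (iv F262383) D59808 (iv D58752)
theorem F267225 : act 6 n59808 = n58805 := d26_2 (iv F262384) D59808 (iv D58805)
theorem F267226 : act 7 n59808 = n59305 := d27_2 (iv F262385) D59808 (iv D59305)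
theorem F267227 : act 8 n59808 = n58610 := d28_2 D58608 D59808 (iv D58610) (iv D57449) (iv F257684)
theorem F267228 : act 9 n59808 = n58751 := d29_2 (iv F262386) D59808 (iv D58751)
def n59809 : Q := act 3 n58609
theorem D59809 : act 3 n58609 = n59809 := rfl
theorem F267229 : act 0 n59809 = n59305 := d2_1 D59809 (iv D59305) (iv F262387)
theorem F267230 : act 1 n59809 = n58720 := d10_1 D59809 (iv D58720) (iv F262388)
theorem F267231 : act 5 n59809 = n58610 := d25_2 (iv F262391) D59809 (iv D58610)
theorem F267232 : act 6 n59809 = n58813 := d26_2 (iv F262392) D59809 (iv D58813)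
theorem F267233 : act 7 n59809 = n59297 := d27_2 (iv F262393) D59809 (iv D59297)
theorem F267234 : act 8 n59809 = n58752 := d28_2 D58609 D59809 (iv D58752) (iv D57587) (iv F257692)
theorem F267235 : act 9 n59809 = n58716 := d29_2 (iv F262394) D59809 (iv D58716)
def n59810 : Q := act 2 n58610
theorem D59810 : act 2 n58610 = n59810 := rfl
theorem F267236 : act 0 n59810 = n59308 := d1_1 D59810 (iv D59308) (iv F262395)
theorem F267237 : act 3 n59810 = n58613 := d17_2 D58610 D59810 (iv D58613) (iv D57452) (iv F257698)
theorem F267238 : act 6 n59810 = n58815 := d20_2 (iv F262396) D59810 (iv D58815)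
theorem F267239 : act 9 n59810 = n58807 := d23_2 (iv F262397) D59810 (iv D58807)
def n59811 : Q := act 4 n58610
theorem D59811 : act 4 n58610 = n59811 := rfl
theorem F267240 : act 0 n59811 = n59309 := d3_1 D59811 (iv D59309) (iv F262395)
theorem F267241 : act 3 n59811 = n58611 := d24_1 D59811 (iv D58611) (iv D57450) (iv F257699) D58610
theorem F267242 : act 6 n59811 = n58816 := d31_2 (iv F262396) D59811 (iv D58816)
theorem F267243 : act 9 n59811 = n58808 := d34_2 (iv F262397) D59811 (iv D58808)
def n59812 : Q := act 5 n58611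
theorem D59812 : act 5 n58611 = n59812 := rfl
theorem F267244 : act 0 n59812 = n59321 := d4_1 D59812 (iv D59321) (iv F262398)
theorem F267245 : act 2 n59812 = n58704 := d19_1 D59812 (iv D58704) (iv F262399)
theorem F267246 : act 4 n59812 = n59812 := d30_1 D59812 (iv D59812) (iv D58611) F257704 D58611
theorem F267247 : act 6 n59812 = n58983 := d35_2 (iv F262400) D59812 (iv D58983) F259286 (iv F258660)
theorem F267248 : act 8 n59812 = n59812 := d37_2 F262401 D59812 (iv D59812)
theorem F267249 : act 9 n59812 = n58809 := d38_2 (iv F262402) D59812 (iv D58809)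
def n59813 : Q := act 2 n58612
theorem D59813 : act 2 n58612 = n59813 := rfl
theorem F267250 : act 0 n59813 = n59380 := d1_1 D59813 (iv D59380) (iv F262403)
theorem F267251 : act 5 n59813 = n58613 := d19_2 (iv F262405) D59813 (iv D58613)
theorem F267252 : act 6 n59813 = n59369 := d20_2 (iv F262406) D59813 (iv D59369)
theorem F267253 : act 8 n59813 = n58622 := d22_2 (iv F262407) D59813 (iv D58622)
theorem F267254 : act 9 n59813 = n58810 := d23_2 (iv F262408) D59813 (iv D58810)
def n59814 : Q := act 4 n58612
theorem D59814 : act 4 n58612 = n59814 := rfl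
theorem F267255 : act 0 n59814 = n59381 := d3_1 D59814 (iv D59381) (iv F262403)
theorem F267256 : act 1 n59814 = n59152 := d11_1 D59814 (iv D59152) (iv F262404)
theorem F267257 : act 3 n59814 = n59814 := d24_1 D59814 (iv D59814) (iv D58612) F257710 D58612
theorem F267258 : act 5 n59814 = n58706 := d30_2 (iv F262405) D59814 (iv D58706) F258213 (iv F257716)
theorem F267259 : act 6 n59814 = n59370 := d31_2 (iv F262406) D59814 (iv D59370)
theorem F267260 : act 8 n59814 = n58623 := d33_2 (iv F262407) D59814 (iv D58623)
theorem F267261 : act 9 n59814 = n58811 := d34_2 (iv F262408) D59814 (iv D58811)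
def n59815 : Q := act 1 n58613
theorem D59815 : act 1 n58613 = n59815 := rfl
theorem F267262 : act 2 n59815 = n59153 := d9_2 D58613 D59815 (iv D59153) (iv D57963) (iv F257715)
theorem F267263 : act 4 n59815 = n58707 := d11_2 (iv F262410) D59815 (iv D58707)
theorem F267264 : act 6 n59815 = n59139 := d13_2 (iv F262411) D59815 (iv D59139)
theorem F267265 : act 8 n59815 = n58624 := d15_2 (iv F262412) D59815 (iv D58624)
theorem F267266 : act 9 n59815 = n58812 := d16_2 (iv F262413) D59815 (iv D58812)
def n59816 : Q := act 1 n58614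
theorem D59816 : act 1 n58614 = n59816 := rfl
theorem F267267 : act 2 n59816 = n59362 := d9_2 D58614 D59816 (iv D59362) (iv D58169) (iv F257720)
theorem F267268 : act 4 n59816 = n58715 := d11_2 (iv F262414) D59816 (iv D58715)
theorem F267269 : act 6 n59816 = n59354 := d13_2 (iv F262415) D59816 (iv D59354)
theorem F267270 : act 7 n59816 = n58624 := d14_2 (iv F262416) D59816 (iv D58624)
theorem F267271 : act 9 n59816 = n58628 := d16_2 (iv F262417) D59816 (iv D58628)
def n59817 : Q := act 2 n58615
theorem D59817 : act 2 n58615 = n59817 := rfl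
theorem F267272 : act 0 n59817 = n58734 := d1_1 D59817 (iv D58734) (iv F262418)
theorem F267273 : act 3 n59817 = n58708 := d17_2 D58615 D59817 (iv D58708) (iv D57547) (iv F257727)
theorem F267274 : act 5 n59817 = n58670 := d19_2 (iv F262420) D59817 (iv D58670)
theorem F267275 : act 6 n59817 = n58711 := d20_2 (iv F262421) D59817 (iv D58711)
theorem F267276 : act 7 n59817 = n59121 := d21_2 (iv F262422) D59817 (iv D59121)
theorem F267277 : act 8 n59817 = n58877 := d22_2 (iv F262423) D59817 (iv D58877)
theorem F267278 : act 9 n59817 = n58629 := d23_2 (iv F262424) D59817 (iv D58629)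
def n59818 : Q := act 4 n58615
theorem D59818 : act 4 n58615 = n59818 := rfl
theorem F267279 : act 0 n59818 = n58735 := d3_1 D59818 (iv D58735) (iv F262418)
theorem F267280 : act 1 n59818 = n58619 := d11_1 D59818 (iv D58619) (iv F262419)
theorem F267281 : act 3 n59818 = n58616 := d24_1 D59818 (iv D58616) (iv D57455) (iv F257728) D58615
theorem F267282 : act 5 n59818 = n58648 := d30_2 (iv F262420) D59818 (iv D58648) (iv F262339) F262338
theorem F267283 : act 6 n59818 = n58712 := d31_2 (iv F262421) D59818 (iv D58712)
theorem F267284 : act 7 n59818 = n59122 := d32_2 (iv F262422) D59818 (iv D59122)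
theorem F267285 : act 8 n59818 = n58878 := d33_2 (iv F262423) D59818 (iv D58878)
theorem F267286 : act 9 n59818 = n58630 := d34_2 (iv F262424) D59818 (iv D58630)
def n59819 : Q := act 2 n58617
theorem D59819 : act 2 n58617 = n59819 := rfl
theorem F267287 : act 5 n59819 = n58844 := d19_2 (iv F262434) D59819 (iv D58844)
theorem F267288 : act 6 n59819 = n59298 := d20_2 (iv F262435) D59819 (iv D59298)
theorem F267289 : act 7 n59819 = n59380 := d21_2 (iv F262436) D59819 (iv D59380)
theorem F267290 : act 8 n59819 = n58618 := d22_2 (iv F262437) D59819 (iv D58618)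
theorem F267291 : act 9 n59819 = n59388 := d23_2 (iv F262438) D59819 (iv D59388)
def n59820 : Q := act 4 n58617
theorem D59820 : act 4 n58617 = n59820 := rfl
theorem F267292 : act 1 n59820 = n58878 := d11_1 D59820 (iv D58878) (iv F262433)
theorem F267293 : act 3 n59820 = n59820 := d24_1 D59820 (iv D59820) (iv D58617) F257742 D58617
theorem F267294 : act 6 n59820 = n59299 := d31_2 (iv F262435) D59820 (iv D59299)
theorem F267295 : act 7 n59820 = n59381 := d32_2 (iv F262436) D59820 (iv D59381)
theorem F267296 : act 8 n59820 = n58619 := d33_2 (iv F262437) D59820 (iv D58619)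
theorem F267297 : act 9 n59820 = n59389 := d34_2 (iv F262438) D59820 (iv D59389)
def n59821 : Q := act 1 n58618
theorem D59821 : act 1 n58618 = n59821 := rfl
theorem F267298 : act 3 n59821 = n58624 := d10_2 (iv F262439) D59821 (iv D58624)
theorem F267299 : act 6 n59821 = n59300 := d13_2 (iv F262440) D59821 (iv D59300)
theorem F267300 : act 9 n59821 = n58633 := d16_2 (iv F262441) D59821 (iv D58633)
def n59822 : Q := act 4 n58618
theorem D59822 : act 4 n58618 = n59822 := rfl
theorem F267301 : act 2 n59822 = n58619 := d18_1 D59822 (iv D58619) D58618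
theorem F267302 : act 3 n59822 = n58726 := d24_1 D59822 (iv D58726) F258281 (iv F257763) (iv F262439)
theorem F267303 : act 6 n59822 = n59301 := d31_2 (iv F262440) D59822 (iv D59301)
theorem F267304 : act 9 n59822 = n58634 := d34_2 (iv F262441) D59822 (iv D58634)
def n59823 : Q := act 5 n58619
theorem D59823 : act 5 n58619 = n59823 := rfl
theorem F267305 : act 0 n59823 = n58714 := d4_1 D59823 (iv F267156) F267153
theorem F267306 : act 1 n59823 = n58648 := d12_1 D59823 (iv F267282) F267280
theorem F267307 : act 3 n59823 = n58620 := d25_1 D59823 (iv D58620) (iv F262442)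
theorem F267308 : act 4 n59823 = n58645 := d30_1 D59823 F262574 (iv F262296) F262297 D58619
theorem F267309 : act 7 n59823 = n58667 := d36_2 F267172 D59823 (iv F267170)
theorem F267310 : act 9 n59823 = n58635 := d38_2 (iv F262444) D59823 (iv D58635)
theorem F267311 : act 6 n58743 = n59823 := d41_3 F267310 (iv F265721) F265724
def n59824 : Q := act 2 n58621
theorem D59824 : act 2 n58621 = n59824 := rfl
theorem F267312 : act 0 n59824 = n59115 := d1_1 D59824 (iv D59115) (iv F262453)
theorem F267313 : act 3 n59824 = n58643 := d17_2 D58621 D59824 (iv D58643) (iv D57482) (iv F257755)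
theorem F267314 : act 5 n59824 = n58642 := d19_2 (iv F262455) D59824 (iv D58642)
theorem F267315 : act 6 n59824 = n58622 := d20_2 (iv F262456) D59824 (iv D58622)
theorem F267316 : act 7 n59824 = n58647 := d21_2 (iv F262457) D59824 (iv D58647)
theorem F267317 : act 8 n59824 = n59369 := d22_2 (iv F262458) D59824 (iv D59369)
theorem F267318 : act 9 n59824 = n58636 := d23_2 (iv F262459) D59824 (iv D58636)
def n59825 : Q := act 4 n58621
theorem D59825 : act 4 n58621 = n59825 := rfl
theorem F267319 : act 0 n59825 = n59116 := d3_1 D59825 (iv D59116) (iv F262453)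
theorem F267320 : act 1 n59825 = n58667 := d11_1 D59825 (iv D58667) (iv F262454)
theorem F267321 : act 3 n59825 = n58625 := d24_1 D59825 (iv D58625) (iv D57463) (iv F257756) D58621
theorem F267322 : act 5 n59825 = n59122 := d30_2 (iv F262455) D59825 (iv D59122) F259776 (iv F257866)
theorem F267323 : act 6 n59825 = n58623 := d31_2 (iv F262456) D59825 (iv D58623)
theorem F267324 : act 7 n59825 = n58648 := d32_2 (iv F262457) D59825 (iv D58648)
theorem F267325 : act 8 n59825 = n59370 := d33_2 (iv F262458) D59825 (iv D59370)
theorem F267326 : act 9 n59825 = n58637 := d34_2 (iv F262459) D59825 (iv D58637)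
def n59826 : Q := act 1 n58622
theorem D59826 : act 1 n58622 = n59826 := rfl
theorem F267327 : act 5 n59826 = n58624 := d12_2 (iv F262460) D59826 (iv D58624)
theorem F267328 : act 9 n59826 = n58638 := d16_2 (iv F262461) D59826 (iv D58638)
def n59827 : Q := act 4 n58622
theorem D59827 : act 4 n58622 = n59827 := rfl
theorem F267329 : act 2 n59827 = n58623 := d18_1 D59827 (iv D58623) D58622
theorem F267330 : act 5 n59827 = n58731 := d30_2 (iv F262460) D59827 (iv D58731) F258295 (iv F257763)
theorem F267331 : act 9 n59827 = n58639 := d34_2 (iv F262461) D59827 (iv D58639)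
def n59828 : Q := act 0 n58624
theorem D59828 : act 0 n58624 = n59828 := rfl
theorem F267332 : act 4 n59828 = n58732 := d3_2 (iv F262465) D59828 (iv D58732)
theorem F267333 : act 6 n59828 = n59303 := d5_2 (iv F262466) D59828 (iv D59303)
theorem F267334 : act 9 n59828 = n58640 := d8_2 (iv F262467) D59828 (iv D58640)
def n59829 : Q := act 3 n58626
theorem D59829 : act 3 n58626 = n59829 := rfl
theorem F267335 : act 0 n59829 = n58712 := d2_1 D59829 F262901 (iv F262476)
theorem F267336 : act 1 n59829 = n58680 := d10_1 D59829 F262757 (iv F262477)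
theorem F267337 : act 4 n59829 = n58657 := d24_2 D58626 D59829 (iv D58657) F257960 (iv F257783)
theorem F267338 : act 5 n59829 = n58733 := d25_2 (iv F262479) D59829 (iv D58733)
theorem F267339 : act 6 n59829 = n58735 := d26_2 (iv F262480) D59829 F262985
theorem F267340 : act 7 n59829 = n58664 := d27_2 (iv F262481) D59829 F262683
theorem F267341 : act 9 n59829 = n58641 := d29_2 (iv F262483) D59829 (iv D58641)
theorem F267342 : act 8 n58999 = n59829 := d40_0 F267339 F262988 (iv F264063)
def n59830 : Q := act 1 n58627
theorem D59830 : act 1 n58627 = n59830 := rfl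
theorem F267343 : act 2 n59830 = n59113 := d9_2 D58627 D59830 (iv D59113) (iv D57925) (iv F257793)
theorem F267344 : act 3 n59830 = n59346 := d10_2 (iv F262484) D59830 (iv D59346)
theorem F267345 : act 4 n59830 = n58736 := d11_2 (iv F262485) D59830 (iv D58736)
theorem F267346 : act 5 n59830 = n59332 := d12_2 (iv F262486) D59830 (iv D59332)
theorem F267347 : act 6 n59830 = n58628 := d13_2 (iv F262487) D59830 (iv D58628)
theorem F267348 : act 7 n59830 = n59117 := d14_2 (iv F262488) D59830 (iv D59117)
theorem F267349 : act 8 n59830 = n58824 := d15_2 (iv F262489) D59830 (iv D58824)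
theorem F267350 : act 9 n59830 = n59354 := d16_2 (iv F262490) D59830 (iv D59354)
def n59831 : Q := act 0 n58628
theorem D59831 : act 0 n58628 = n59831 := rfl
theorem F267351 : act 4 n59831 = n58748 := d3_2 (iv F262491) D59831 (iv D58748)
theorem F267352 : act 7 n59831 = n58640 := d6_2 (iv F262492) D59831 (iv D58640)
theorem F267353 : act 8 n59831 = n58828 := d7_2 (iv F262493) D59831 (iv D58828)
def n59832 : Q := act 1 n58629
theorem D59832 : act 1 n58629 = n59832 := rfl
theorem F267354 : act 2 n59832 = n58633 := d9_2 D58629 D59832 (iv D58633) (iv D57471) (iv F257803)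
theorem F267355 : act 3 n59832 = n58736 := d10_2 (iv F262494) D59832 (iv D58736)
theorem F267356 : act 6 n59832 = n58744 := d13_2 (iv F262495) D59832 (iv D58744)
theorem F267357 : act 7 n59832 = n59341 := d14_2 (iv F262496) D59832 (iv D59341)
def n59833 : Q := act 4 n58629
theorem D59833 : act 4 n58629 = n59833 := rfl
theorem F267358 : act 0 n59833 = n59357 := d3_1 D59833 (iv F265681) F265679
theorem F267359 : act 2 n59833 = n58630 := d18_1 D59833 (iv D58630) D58629
theorem F267360 : act 3 n59833 = n59347 := d24_1 D59833 (iv D59347) (iv F262484) F262485 (iv F262494)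
theorem F267361 : act 5 n59833 = n59351 := d30_2 F267127 D59833 (iv D59351) (iv F262561) (iv F267126)
theorem F267362 : act 6 n59833 = n58745 := d31_2 (iv F262495) D59833 (iv D58745)
theorem F267363 : act 7 n59833 = n59342 := d32_2 (iv F262496) D59833 (iv D59342)
def n59834 : Q := act 1 n58631
theorem D59834 : act 1 n58631 = n59834 := rfl
theorem F267364 : act 3 n59834 = n58830 := d10_2 (iv F262504) D59834 (iv D58830)
theorem F267365 : act 5 n59834 = n58801 := d12_2 (iv F262505) D59834 (iv D58801)
theorem F267366 : act 6 n59834 = n59310 := d13_2 (iv F262506) D59834 (iv D59310)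
theorem F267367 : act 7 n59834 = n58802 := d14_2 (iv F262507) D59834 (iv D58802)
theorem F267368 : act 8 n59834 = n58633 := d15_2 (iv F262508) D59834 (iv D58633)
theorem F267369 : act 9 n59834 = n59391 := d16_2 (iv F262509) D59834 (iv D59391)
def n59835 : Q := act 4 n58631
theorem D59835 : act 4 n58631 = n59835 := rfl
theorem F267370 : act 0 n59835 = n58827 := d3_1 D59835 (iv D58827) (iv F262503)
theorem F267371 : act 2 n59835 = n58632 := d18_1 D59835 (iv D58632) D58631
theorem F267372 : act 3 n59835 = n59408 := d24_1 D59835 (iv D59408) F260562 (iv F258701) (iv F262504)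
theorem F267373 : act 5 n59835 = n58889 := d30_2 (iv F262505) D59835 (iv D58889) F258928 (iv F258587)
theorem F267374 : act 6 n59835 = n59311 := d31_2 (iv F262506) D59835 (iv D59311)
theorem F267375 : act 7 n59835 = n58803 := d32_2 (iv F262507) D59835 (iv D58803)
theorem F267376 : act 8 n59835 = n58634 := d33_2 (iv F262508) D59835 (iv D58634)
theorem F267377 : act 9 n59835 = n59392 := d34_2 (iv F262509) D59835 (iv D59392)
def n59836 : Q := act 0 n58633
theorem D59836 : act 0 n58633 = n59836 := rfl
theorem F267378 : act 3 n59836 = n58640 := d2_2 (iv F262517) D59836 (iv D58640)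
theorem F267379 : act 6 n59836 = n59316 := d5_2 (iv F262518) D59836 (iv D59316)
def n59837 : Q := act 4 n58633
theorem D59837 : act 4 n58633 = n59837 := rfl
theorem F267380 : act 1 n59837 = n58634 := d11_1 D59837 (iv D58634) D58633
theorem F267381 : act 3 n59837 = n58774 := d24_1 D59837 (iv D58774) F258437 (iv F257840) (iv F262517)
theorem F267382 : act 6 n59837 = n59317 := d31_2 (iv F262518) D59837 (iv D59317)
def n59838 : Q := act 5 n58634
theorem D59838 : act 5 n58634 = n59838 := rfl
theorem F267383 : act 0 n59838 = n58747 := d4_1 D59838 (iv F267201) F267198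
theorem F267384 : act 2 n59838 = n58635 := d19_1 D59838 (iv D58635) (iv F262519)
theorem F267385 : act 3 n59838 = n58775 := d25_1 D59838 (iv D58775) (iv F262520)
theorem F267386 : act 4 n59838 = n58673 := d30_1 D59838 F262725 (iv F262346) F262347 D58634
theorem F267387 : act 7 n59838 = n58685 := d36_2 F267216 D59838 (iv F267214)
theorem F267388 : act 8 n59838 = n58889 := d37_2 F267376 D59838 (iv F267373)
def n59839 : Q := act 1 n58636
theorem D59839 : act 1 n58636 = n59839 := rfl
theorem F267389 : act 2 n59839 = n58684 := d9_2 D58636 D59839 (iv D58684) (iv D57521) (iv F257830)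
theorem F267390 : act 5 n59839 = n58649 := d12_2 (iv F262529) D59839 (iv D58649)
theorem F267391 : act 6 n59839 = n58638 := d13_2 (iv F262530) D59839 (iv D58638)
theorem F267392 : act 7 n59839 = n59350 := d14_2 (iv F262531) D59839 (iv D59350)
theorem F267393 : act 8 n59839 = n58835 := d15_2 (iv F262532) D59839 (iv D58835)
def n59840 : Q := act 4 n58636
theorem D59840 : act 4 n58636 = n59840 := rfl
theorem F267394 : act 0 n59840 = n59347 := d3_1 D59840 (iv D59347) (iv F262528)
theorem F267395 : act 2 n59840 = n58637 := d18_1 D59840 (iv D58637) D58636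
theorem F267396 : act 3 n59840 = n59357 := d24_1 D59840 (iv F265681) F265680 (iv F267182) F267181
theorem F267397 : act 5 n59840 = n59342 := d30_2 (iv F262529) D59840 (iv D59342) (iv F262290) F262289
theorem F267398 : act 6 n59840 = n58639 := d31_2 (iv F262530) D59840 (iv D58639)
theorem F267399 : act 7 n59840 = n59351 := d32_2 (iv F262531) D59840 (iv D59351)
theorem F267400 : act 8 n59840 = n58836 := d33_2 (iv F262532) D59840 (iv D58836)
def n59841 : Q := act 0 n58638
theorem D59841 : act 0 n58638 = n59841 := rfl
theorem F267401 : act 5 n59841 = n58640 := d4_2 (iv F262540) D59841 (iv D58640)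
theorem F267402 : act 8 n59841 = n58837 := d7_2 (iv F262541) D59841 (iv D58837)
def n59842 : Q := act 4 n58638
theorem D59842 : act 4 n58638 = n59842 := rfl
theorem F267403 : act 1 n59842 = n58639 := d11_1 D59842 (iv D58639) D58638
theorem F267404 : act 5 n59842 = n58781 := d30_2 (iv F262540) D59842 (iv D58781) F258458 (iv F257840)
theorem F267405 : act 8 n59842 = n58838 := d33_2 (iv F262541) D59842 (iv D58838)
def n59843 : Q := act 3 n58639
theorem D59843 : act 3 n58639 = n59843 := rfl
theorem F267406 : act 0 n59843 = n58745 := d2_1 D59843 (iv F267213) F267211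
theorem F267407 : act 2 n59843 = n58641 := d17_1 D59843 (iv D58641) F257852 (iv F257837) (iv F262542)
theorem F267408 : act 4 n59843 = n58671 := d24_2 D58639 D59843 F262715 (iv F262346) F262345
theorem F267409 : act 5 n59843 = n58782 := d25_2 (iv F262543) D59843 (iv D58782)
theorem F267410 : act 6 n59843 = n59357 := d26_2 F267398 D59843 (iv F267396)
theorem F267411 : act 7 n59843 = n58682 := d27_2 F267203 D59843 (iv F267200)
def n59844 : Q := act 1 n58642
theorem D59844 : act 1 n58642 = n59844 := rfl
theorem F267412 : act 2 n59844 = n58668 := d9_2 D58642 D59844 (iv D58668) (iv D57505) (iv F257865)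
theorem F267413 : act 3 n59844 = n59350 := d10_2 (iv F262555) D59844 (iv D59350)
theorem F267414 : act 4 n59844 = n59327 := d11_2 (iv F262556) D59844 (iv D59327)
theorem F267415 : act 6 n59844 = n59292 := d13_2 (iv F262557) D59844 (iv D59292)
theorem F267416 : act 8 n59844 = n59371 := d15_2 (iv F262558) D59844 (iv D59371)
theorem F267417 : act 9 n59844 = n58649 := d16_2 (iv F262559) D59844 (iv D58649)
def n59845 : Q := act 1 n58643
theorem D59845 : act 1 n58643 = n59845 := rfl
theorem F267418 : act 2 n59845 = n58674 := d9_2 D58643 D59845 (iv D58674) (iv D57513) (iv F257871)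
theorem F267419 : act 5 n59845 = n59350 := d12_2 (iv F262561) D59845 (iv D59350)
theorem F267420 : act 7 n59845 = n58649 := d14_2 (iv F262562) D59845 (iv D58649)
theorem F267421 : act 8 n59845 = n58847 := d15_2 (iv F262563) D59845 (iv D58847)
def n59846 : Q := act 3 n58644
theorem D59846 : act 3 n58644 = n59846 := rfl
theorem F267422 : act 0 n59846 = n58694 := d2_1 D59846 (iv D58694) (iv F262564)
theorem F267423 : act 1 n59846 = n58646 := d10_1 D59846 (iv D58646) (iv F262565)
theorem F267424 : act 5 n59846 = n58650 := d25_2 (iv F262568) D59846 (iv D58650)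
theorem F267425 : act 6 n59846 = n58738 := d26_2 (iv F262569) D59846 (iv D58738)
theorem F267426 : act 7 n59846 = n58655 := d27_2 (iv F262570) D59846 (iv D58655)
theorem F267427 : act 8 n59846 = n58645 := d28_2 D58644 D59846 (iv D58645) (iv D57484) (iv F257878)
theorem F267428 : act 9 n59846 = n58853 := d29_2 (iv F262571) D59846 (iv D58853)
def n59847 : Q := act 2 n58645
theorem D59847 : act 2 n58645 = n59847 := rfl
theorem F267429 : act 0 n59847 = n58713 := d1_1 D59847 (iv D58713) (iv F262572)
theorem F267430 : act 3 n59847 = n58675 := d17_2 D58645 D59847 (iv D58675) (iv D57514) (iv F257885)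
theorem F267431 : act 5 n59847 = n58658 := d19_2 (iv F262574) D59847 (iv D58658)
theorem F267432 : act 6 n59847 = n58742 := d20_2 (iv F262575) D59847 (iv D58742)
theorem F267433 : act 7 n59847 = n58666 := d21_2 (iv F262576) D59847 (iv D58666)
theorem F267434 : act 9 n59847 = n58673 := d23_2 (iv F262577) D59847 (iv D58673)
def n59848 : Q := act 2 n58646
theorem D59848 : act 2 n58646 = n59848 := rfl
theorem F267435 : act 0 n59848 = n58822 := d1_1 D59848 (iv D58822) (iv F262578)
theorem F267436 : act 3 n59848 = n58848 := d17_2 D58646 D59848 (iv D58848) (iv D57681) (iv F257892)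
theorem F267437 : act 5 n59848 = n58800 := d19_2 (iv F262579) D59848 (iv D58800)
theorem F267438 : act 6 n59848 = n59306 := d20_2 (iv F262580) D59848 (iv D59306)
theorem F267439 : act 7 n59848 = n59369 := d21_2 (iv F262581) D59848 (iv D59369)
theorem F267440 : act 8 n59848 = n58647 := d22_2 (iv F262582) D59848 (iv D58647)
theorem F267441 : act 9 n59848 = n59377 := d23_2 (iv F262583) D59848 (iv D59377)
def n59849 : Q := act 4 n58646
theorem D59849 : act 4 n58646 = n59849 := rfl
theorem F267442 : act 0 n59849 = n58823 := d3_1 D59849 (iv D58823) (iv F262578)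
theorem F267443 : act 3 n59849 = n59849 := d24_1 D59849 (iv D59849) (iv D58646) F257893 D58646
theorem F267444 : act 5 n59849 = n58878 := d30_2 (iv F262579) D59849 (iv D58878) F258892 (iv F258581)
theorem F267445 : act 6 n59849 = n59307 := d31_2 (iv F262580) D59849 (iv D59307)
theorem F267446 : act 7 n59849 = n59370 := d32_2 (iv F262581) D59849 (iv D59370)
theorem F267447 : act 8 n59849 = n58648 := d33_2 (iv F262582) D59849 (iv D58648)
theorem F267448 : act 9 n59849 = n59378 := d34_2 (iv F262583) D59849 (iv D59378)
def n59850 : Q := act 1 n58647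
theorem D59850 : act 1 n58647 = n59850 := rfl
theorem F267449 : act 3 n59850 = n58649 := d10_2 (iv F262585) D59850 (iv D58649)
theorem F267450 : act 6 n59850 = n59313 := d13_2 (iv F262586) D59850 (iv D59313)
theorem F267451 : act 9 n59850 = n59350 := d16_2 (iv F262587) D59850 (iv D59350)
def n59851 : Q := act 4 n58647
theorem D59851 : act 4 n58647 = n59851 := rfl
theorem F267452 : act 0 n59851 = n59333 := d3_1 D59851 (iv D59333) (iv F262584)
theorem F267453 : act 2 n59851 = n58648 := d18_1 D59851 (iv D58648) D58647
theorem F267454 : act 3 n59851 = n59344 := d24_1 D59851 (iv D59344) (iv F262288) F262289 (iv F262585)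
theorem F267455 : act 6 n59851 = n59314 := d31_2 (iv F262586) D59851 (iv D59314)
theorem F267456 : act 9 n59851 = n59351 := d34_2 (iv F262587) D59851 (iv D59351)
def n59852 : Q := act 0 n58649
theorem D59852 : act 0 n58649 = n59852 := rfl
theorem F267457 : act 2 n59852 = n58686 := d1_2 (iv F262592) D59852 (iv D58686)
theorem F267458 : act 6 n59852 = n59320 := d5_2 (iv F262593) D59852 (iv D59320)
theorem F267459 : act 8 n59852 = n58852 := d7_2 (iv F262594) D59852 (iv D58852)
def n59853 : Q := act 2 n58650
theorem D59853 : act 2 n58650 = n59853 := rfl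
theorem F267460 : act 0 n59853 = n58695 := d1_1 D59853 (iv D58695) (iv F262595)
theorem F267461 : act 3 n59853 = n59257 := d17_2 D58650 D59853 (iv D59257) (iv D58061) (iv F257909)
theorem F267462 : act 4 n59853 = n58844 := d18_2 (iv F262597) D59853 (iv D58844)
theorem F267463 : act 6 n59853 = n58796 := d20_2 (iv F262598) D59853 (iv D58796)
theorem F267464 : act 7 n59853 = n58656 := d21_2 (iv F262599) D59853 (iv D58656)
theorem F267465 : act 8 n59853 = n58658 := d22_2 (iv F262600) D59853 (iv D58658)
theorem F267466 : act 9 n59853 = n58854 := d23_2 (iv F262601) D59853 (iv D58854)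
def n59854 : Q := act 3 n58651
theorem D59854 : act 3 n58651 = n59854 := rfl
theorem F267467 : act 0 n59854 = n58700 := d2_1 D59854 (iv D58700) (iv F262602)
theorem F267468 : act 1 n59854 = n59204 := d10_1 D59854 (iv D59204) (iv F262603)
theorem F267469 : act 5 n59854 = n59013 := d25_2 (iv F262606) D59854 (iv D59013)
theorem F267470 : act 6 n59854 = n59157 := d26_2 (iv F262607) D59854 (iv D59157)
theorem F267471 : act 7 n59854 = n58992 := d27_2 (iv F262608) D59854 (iv D58992)
theorem F267472 : act 8 n59854 = n58653 := d28_2 D58651 D59854 (iv D58653) (iv D57492) (iv F257917)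
theorem F267473 : act 9 n59854 = n59201 := d29_2 (iv F262609) D59854 (iv D59201)
def n59855 : Q := act 3 n58652
theorem D59855 : act 3 n58652 = n59855 := rfl
theorem F267474 : act 0 n59855 = n58701 := d2_1 D59855 (iv D58701) (iv F262610)
theorem F267475 : act 1 n59855 = n59237 := d10_1 D59855 (iv D59237) (iv F262611)
theorem F267476 : act 5 n59855 = n58653 := d25_2 (iv F262614) D59855 (iv D58653)
theorem F267477 : act 6 n59855 = n59038 := d26_2 (iv F262615) D59855 (iv D59038)
theorem F267478 : act 7 n59855 = n59007 := d27_2 (iv F262616) D59855 (iv D59007)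
theorem F267479 : act 8 n59855 = n59013 := d28_2 D58652 D59855 (iv D59013) (iv D57827) (iv F257925)
theorem F267480 : act 9 n59855 = n58855 := d29_2 (iv F262617) D59855 (iv D58855)
def n59856 : Q := act 2 n58653
theorem D59856 : act 2 n58653 = n59856 := rfl
theorem F267481 : act 0 n59856 = n58702 := d1_1 D59856 (iv D58702) (iv F262618)
theorem F267482 : act 3 n59856 = n58656 := d17_2 D58653 D59856 (iv D58656) (iv D57495) (iv F257932)
theorem F267483 : act 6 n59856 = n59160 := d20_2 (iv F262620) D59856 (iv D59160)
theorem F267484 : act 7 n59856 = n59257 := d21_2 (iv F262621) D59856 (iv D59257)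
theorem F267485 : act 9 n59856 = n58856 := d23_2 (iv F262622) D59856 (iv D58856)
def n59857 : Q := act 4 n58653
theorem D59857 : act 4 n58653 = n59857 := rfl
theorem F267486 : act 0 n59857 = n58703 := d3_1 D59857 (iv D58703) (iv F262618)
theorem F267487 : act 1 n59857 = n59241 := d11_1 D59857 (iv D59241) (iv F262619)
theorem F267488 : act 3 n59857 = n58654 := d24_1 D59857 (iv D58654) (iv D57493) (iv F257933) D58653
theorem F267489 : act 6 n59857 = n59161 := d31_2 (iv F262620) D59857 (iv D59161)
theorem F267490 : act 7 n59857 = n59258 := d32_2 (iv F262621) D59857 (iv D59258)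
theorem F267491 : act 9 n59857 = n58857 := d34_2 (iv F262622) D59857 (iv D58857)
def n59858 : Q := act 5 n58654
theorem D59858 : act 5 n58654 = n59858 := rfl
theorem F267492 : act 0 n59858 = n58704 := d4_1 D59858 (iv D58704) (iv F262623)
theorem F267493 : act 1 n59858 = n59289 := d12_1 D59858 (iv D59289) (iv F262624)
theorem F267494 : act 2 n59858 = n59321 := d19_1 D59858 (iv D59321) (iv F262625)
theorem F267495 : act 4 n59858 = n59858 := d30_1 D59858 (iv D59858) (iv D58654) F257940 D58654
theorem F267496 : act 7 n59858 = n59098 := d36_2 (iv F262627) D59858 F264378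
theorem F267497 : act 8 n59858 = n59858 := d37_2 F262628 D59858 (iv D59858)
theorem F267498 : act 9 n59858 = n58858 := d38_2 (iv F262629) D59858 (iv D58858)
def n59859 : Q := act 2 n58655
theorem D59859 : act 2 n58655 = n59859 := rfl
theorem F267499 : act 0 n59859 = n58705 := d1_1 D59859 (iv D58705) (iv F262630)
theorem F267500 : act 5 n59859 = n58656 := d19_2 (iv F262632) D59859 (iv D58656)
theorem F267501 : act 6 n59859 = n59151 := d20_2 (iv F262633) D59859 (iv D59151)
theorem F267502 : act 8 n59859 = n58666 := d22_2 (iv F262634) D59859 (iv D58666)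
theorem F267503 : act 9 n59859 = n58859 := d23_2 (iv F262635) D59859 (iv D58859)
def n59860 : Q := act 4 n58655
theorem D59860 : act 4 n58655 = n59860 := rfl
theorem F267504 : act 0 n59860 = n58706 := d3_1 D59860 (iv D58706) (iv F262630)
theorem F267505 : act 1 n59860 = n59370 := d11_1 D59860 (iv D59370) (iv F262631)
theorem F267506 : act 3 n59860 = n59860 := d24_1 D59860 (iv D59860) (iv D58655) F257947 D58655
theorem F267507 : act 5 n59860 = n59381 := d30_2 (iv F262632) D59860 (iv D59381) F260502 (iv F257953)
theorem F267508 : act 6 n59860 = n59152 := d31_2 (iv F262633) D59860 (iv D59152)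
theorem F267509 : act 8 n59860 = n58667 := d33_2 (iv F262634) D59860 (iv D58667)
theorem F267510 : act 9 n59860 = n58860 := d34_2 (iv F262635) D59860 (iv D58860)
def n59861 : Q := act 1 n58656
theorem D59861 : act 1 n58656 = n59861 := rfl
theorem F267511 : act 2 n59861 = n59371 := d9_2 D58656 D59861 (iv D59371) (iv D58179) (iv F257952)
theorem F267512 : act 4 n59861 = n59394 := d11_2 (iv F262637) D59861 (iv D59394)
theorem F267513 : act 6 n59861 = n59166 := d13_2 (iv F262638) D59861 (iv D59166)
theorem F267514 : act 8 n59861 = n58668 := d15_2 (iv F262639) D59861 (iv D58668)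
theorem F267515 : act 9 n59861 = n58861 := d16_2 (iv F262640) D59861 (iv D58861)
def n59862 : Q := act 2 n58657
theorem D59862 : act 2 n58657 = n59862 := rfl
theorem F267516 : act 0 n59862 = n58711 := d1_1 D59862 (iv D58711) (iv F262641)
theorem F267517 : act 3 n59862 = n58658 := d17_2 D58657 D59862 (iv D58658) (iv D57497) (iv F257959)
theorem F267518 : act 5 n59862 = n58675 := d19_2 (iv F262643) D59862 (iv D58675)
theorem F267519 : act 6 n59862 = n58734 := d20_2 (iv F262644) D59862 (iv D58734)
theorem F267520 : act 7 n59862 = n58663 := d21_2 (iv F262645) D59862 (iv D58663)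
theorem F267521 : act 8 n59862 = n58998 := d22_2 (iv F262646) D59862 (iv D58998)
theorem F267522 : act 9 n59862 = n58671 := d23_2 (iv F262647) D59862 (iv D58671)
def n59863 : Q := act 1 n58658
theorem D59863 : act 1 n58658 = n59863 := rfl
theorem F267523 : act 7 n59863 = n58668 := d14_2 (iv F262649) D59863 (iv D58668)
theorem F267524 : act 9 n59863 = n58674 := d16_2 (iv F262650) D59863 (iv D58674)
def n59864 : Q := act 2 n58659
theorem D59864 : act 2 n58659 = n59864 := rfl
theorem F267525 : act 0 n59864 = n58742 := d1_1 D59864 (iv D58742) (iv F262651)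
theorem F267526 : act 3 n59864 = n58673 := d17_2 D58659 D59864 (iv D58673) (iv D57512) (iv F257970)
theorem F267527 : act 5 n59864 = n58671 := d19_2 (iv F262653) D59864 (iv D58671)
theorem F267528 : act 6 n59864 = n58713 := d20_2 (iv F262654) D59864 (iv D58713)
theorem F267529 : act 7 n59864 = n58679 := d21_2 (iv F262655) D59864 (iv D58679)
theorem F267530 : act 9 n59864 = n58675 := d23_2 (iv F262656) D59864 (iv D58675)
def n59865 : Q := act 4 n58659
theorem D59865 : act 4 n58659 = n59865 := rfl
theorem F267531 : act 0 n59865 = n58743 := d3_1 D59865 (iv D58743) (iv F262651)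
theorem F267532 : act 1 n59865 = n58664 := d11_1 D59865 (iv D58664) (iv F262652)
theorem F267533 : act 3 n59865 = n58660 := d24_1 D59865 (iv D58660) (iv D57499) (iv F257971) D58659
theorem F267534 : act 5 n59865 = n58784 := d30_2 (iv F262653) D59865 F263156 (iv F262551) F262550
theorem F267535 : act 6 n59865 = n58714 := d31_2 (iv F262654) D59865 (iv D58714)
theorem F267536 : act 7 n59865 = n58680 := d32_2 (iv F262655) D59865 (iv D58680)
theorem F267537 : act 9 n59865 = n58676 := d34_2 (iv F262656) D59865 (iv D58676)
def n59866 : Q := act 2 n58661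
theorem D59866 : act 2 n58661 = n59866 := rfl
theorem F267538 : act 0 n59866 = n58721 := d1_1 D59866 (iv D58721) (iv F262665)
theorem F267539 : act 5 n59866 = n59020 := d19_2 (iv F262666) D59866 (iv D59020)
theorem F267540 : act 6 n59866 = n59322 := d20_2 (iv F262667) D59866 (iv D59322)
theorem F267541 : act 7 n59866 = n58998 := d21_2 (iv F262668) D59866 (iv D58998)
theorem F267542 : act 8 n59866 = n58663 := d22_2 (iv F262669) D59866 (iv D58663)
def n59867 : Q := act 4 n58661
theorem D59867 : act 4 n58661 = n59867 := rfl
theorem F267543 : act 0 n59867 = n58722 := d3_1 D59867 (iv D58722) (iv F262665)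
theorem F267544 : act 3 n59867 = n59867 := d24_1 D59867 (iv D59867) (iv D58661) F257985 D58661
theorem F267545 : act 6 n59867 = n59323 := d31_2 (iv F262667) D59867 (iv D59323)
theorem F267546 : act 7 n59867 = n58999 := d32_2 (iv F262668) D59867 (iv D58999)
theorem F267547 : act 8 n59867 = n58664 := d33_2 (iv F262669) D59867 (iv D58664)
def n59868 : Q := act 2 n58662
theorem D59868 : act 2 n58662 = n59868 := rfl
theorem F267548 : act 0 n59868 = n58723 := d1_1 D59868 (iv D58723) (iv F262670)
theorem F267549 : act 3 n59868 = n58666 := d17_2 D58662 D59868 (iv D58666) (iv D57504) (iv F257991)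
theorem F267550 : act 4 n59868 = n59367 := d18_2 (iv F262672) D59868 F265204
theorem F267551 : act 5 n59868 = n58663 := d19_2 (iv F262673) D59868 (iv D58663)
theorem F267552 : act 6 n59868 = n58777 := d20_2 (iv F262674) D59868 (iv D58777)
theorem F267553 : act 7 n59868 = n58675 := d21_2 (iv F262675) D59868 (iv D58675)
theorem F267554 : act 8 n59868 = n59020 := d22_2 (iv F262676) D59868 (iv D59020)
theorem F267555 : act 9 n59868 = n58679 := d23_2 (iv F262677) D59868 (iv D58679)
def n59869 : Q := act 1 n58663
theorem D59869 : act 1 n58663 = n59869 := rfl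
theorem F267556 : act 3 n59869 = n58668 := d10_2 (iv F262679) D59869 (iv D58668)
theorem F267557 : act 6 n59869 = n59324 := d13_2 (iv F262680) D59869 (iv D59324)
theorem F267558 : act 9 n59869 = n58681 := d16_2 (iv F262681) D59869 (iv D58681)
def n59870 : Q := act 4 n58663
theorem D59870 : act 4 n58663 = n59870 := rfl
theorem F267559 : act 0 n59870 = n58726 := d3_1 D59870 (iv D58726) (iv F262678)
theorem F267560 : act 2 n59870 = n58664 := d18_1 D59870 (iv D58664) D58663
theorem F267561 : act 6 n59870 = n59325 := d31_2 (iv F262680) D59870 (iv D59325)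
theorem F267562 : act 9 n59870 = n58682 := d34_2 (iv F262681) D59870 (iv D58682)
def n59871 : Q := act 5 n58664
theorem D59871 : act 5 n58664 = n59871 := rfl
theorem F267563 : act 0 n59871 = n58727 := d4_1 D59871 (iv D58727) (iv F262682)
theorem F267564 : act 1 n59871 = n58784 := d12_1 D59871 (iv F267534) F267532
theorem F267565 : act 3 n59871 = n58665 := d25_1 D59871 (iv D58665) (iv F262683)
theorem F267566 : act 4 n59871 = n58776 := d30_1 D59871 F263130 (iv F262672) F262673 D58664
theorem F267567 : act 6 n59871 = n58772 := d35_2 (iv F262684) D59871 (iv D58772) (iv F263116) F263115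
theorem F267568 : act 7 n59871 = n58733 := d36_2 F267340 D59871 (iv F267338)
theorem F267569 : act 9 n59871 = n58683 := d38_2 (iv F262685) D59871 (iv D58683)
def n59872 : Q := act 1 n58666
theorem D59872 : act 1 n58666 = n59872 := rfl
theorem F267570 : act 5 n59872 = n58668 := d12_2 (iv F262695) D59872 (iv D58668)
theorem F267571 : act 9 n59872 = n58684 := d16_2 (iv F262696) D59872 (iv D58684)
def n59873 : Q := act 4 n58666
theorem D59873 : act 4 n58666 = n59873 := rfl
theorem F267572 : act 0 n59873 = n58731 := d3_1 D59873 (iv D58731) (iv F262694)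
theorem F267573 : act 2 n59873 = n58667 := d18_1 D59873 (iv D58667) D58666
theorem F267574 : act 9 n59873 = n58685 := d34_2 (iv F262696) D59873 (iv D58685)
def n59874 : Q := act 0 n58668
theorem D59874 : act 0 n58668 = n59874 := rfl
theorem F267575 : act 1 n59874 = n58732 := d0_2 D58668 D59874 (iv D58732) (iv D57566) (iv F258007)
theorem F267576 : act 6 n59874 = n59326 := d5_2 (iv F262700) D59874 (iv D59326)
theorem F267577 : act 9 n59874 = n58686 := d8_2 (iv F262701) D59874 (iv D58686)
def n59875 : Q := act 3 n58669
theorem D59875 : act 3 n58669 = n59875 := rfl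
theorem F267578 : act 0 n59875 = n58733 := d2_1 D59875 (iv D58733) (iv F262702)
theorem F267579 : act 1 n59875 = n59302 := d10_1 D59875 F265069 (iv F262703)
theorem F267580 : act 4 n59875 = n59319 := d24_2 D58669 D59875 F265106 F260365 (iv F258020)
theorem F267581 : act 5 n59875 = n58712 := d25_2 (iv F262705) D59875 F262901
theorem F267582 : act 6 n59875 = n59315 := d26_2 (iv F262706) D59875 F265099
theorem F267583 : act 7 n59875 = n58727 := d27_2 (iv F262707) D59875 F262961
theorem F267584 : act 9 n59875 = n58689 := d29_2 (iv F262709) D59875 (iv D58689)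
def n59876 : Q := act 1 n58670
theorem D59876 : act 1 n58670 = n59876 := rfl
theorem F267585 : act 6 n59876 = n58674 := d13_2 (iv F262711) D59876 (iv D58674)
theorem F267586 : act 7 n59876 = n59327 := d14_2 (iv F262712) D59876 (iv D59327)
theorem F267587 : act 8 n59876 = n58879 := d15_2 (iv F262713) D59876 (iv D58879)
def n59877 : Q := act 1 n58671
theorem D59877 : act 1 n58671 = n59877 := rfl
theorem F267588 : act 3 n59877 = n58674 := d10_2 (iv F262715) D59877 (iv D58674)
theorem F267589 : act 7 n59877 = n58681 := d14_2 (iv F262716) D59877 (iv D58681)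
def n59878 : Q := act 2 n58672
theorem D59878 : act 2 n58672 = n59878 := rfl
theorem F267590 : act 0 n59878 = n58675 := d1_1 D59878 (iv D58675) (iv F262717)
theorem F267591 : act 3 n59878 = n58713 := d17_2 D58672 D59878 (iv D58713) (iv D57552) (iv F258037)
theorem F267592 : act 5 n59878 = n58711 := d19_2 (iv F262719) D59878 (iv D58711)
theorem F267593 : act 6 n59878 = n58673 := d20_2 (iv F262720) D59878 (iv D58673)
theorem F267594 : act 7 n59878 = n58723 := d21_2 (iv F262721) D59878 (iv D58723)
theorem F267595 : act 8 n59878 = n58886 := d22_2 (iv F262722) D59878 (iv D58886)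
theorem F267596 : act 9 n59878 = n58742 := d23_2 (iv F262723) D59878 (iv D58742)
def n59879 : Q := act 1 n58673
theorem D59879 : act 1 n58673 = n59879 := rfl
theorem F267597 : act 2 n59879 = n59350 := d9_2 D58673 D59879 (iv D59350) (iv D58157) (iv F258044)
theorem F267598 : act 5 n59879 = n58674 := d12_2 (iv F262725) D59879 (iv D58674)
theorem F267599 : act 7 n59879 = n58684 := d14_2 (iv F262726) D59879 (iv D58684)
theorem F267600 : act 8 n59879 = n58888 := d15_2 (iv F262727) D59879 (iv D58888)
def n59880 : Q := act 0 n58674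
theorem D59880 : act 0 n58674 = n59880 := rfl
theorem F267601 : act 1 n59880 = n58748 := d0_2 D58674 D59880 (iv D58748) (iv D57583) (iv F258048)
theorem F267602 : act 7 n59880 = n58686 := d6_2 (iv F262728) D59880 (iv D58686)
theorem F267603 : act 8 n59880 = n58890 := d7_2 (iv F262729) D59880 (iv D58890)
def n59881 : Q := act 1 n58675
theorem D59881 : act 1 n58675 = n59881 := rfl
theorem F267604 : act 2 n59881 = n58681 := d9_2 D58675 D59881 (iv D58681) (iv D57518) (iv F258051)
theorem F267605 : act 6 n59881 = n58746 := d13_2 (iv F262730) D59881 (iv D58746)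
theorem F267606 : act 8 n59881 = n59022 := d15_2 (iv F262731) D59881 (iv D59022)
def n59882 : Q := act 4 n58675
theorem D59882 : act 4 n58675 = n59882 := rfl
theorem F267607 : act 2 n59882 = n58676 := d18_1 D59882 (iv D58676) D58675
theorem F267608 : act 6 n59882 = n58747 := d31_2 (iv F262730) D59882 (iv D58747)
theorem F267609 : act 7 n59882 = n59367 := d32_2 F267553 D59882 (iv F267550)
theorem F267610 : act 8 n59882 = n59023 := d33_2 (iv F262731) D59882 (iv D59023)
def n59883 : Q := act 5 n58676
theorem D59883 : act 5 n58676 = n59883 := rfl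
theorem F267611 : act 0 n59883 = n59319 := d4_1 D59883 (iv F265720) F265717
theorem F267612 : act 1 n59883 = n58683 := d12_1 D59883 (iv D58683) (iv F262732)
theorem F267613 : act 3 n59883 = n58678 := d25_1 D59883 (iv D58678) (iv F262733)
theorem F267614 : act 4 n59883 = n58733 := d30_1 D59883 (iv F267338) F267337 F262643 D58676
theorem F267615 : act 6 n59883 = n59295 := d35_2 (iv F262734) D59883 (iv D59295) (iv F262360) F262359
theorem F267616 : act 7 n59883 = n58776 := d36_2 (iv F262735) D59883 F263130
theorem F267617 : act 8 n59883 = n59024 := d37_2 (iv F262736) D59883 (iv D59024)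
theorem F267618 : act 9 n59883 = n58784 := d38_2 F267537 D59883 (iv F267534)
def n59884 : Q := act 3 n58677
theorem D59884 : act 3 n58677 = n59884 := rfl
theorem F267619 : act 0 n59884 = n58776 := d2_1 D59884 F263129 (iv F262737)
theorem F267620 : act 1 n59884 = n59295 := d10_1 D59884 F265054 (iv F262738)
theorem F267621 : act 4 n59884 = n58727 := d24_2 D58677 D59884 F262961 F258287 (iv F258056)
theorem F267622 : act 5 n59884 = n58724 := d25_2 (iv F262740) D59884 F262952
theorem F267623 : act 6 n59884 = n58683 := d26_2 (iv F262741) D59884 F262766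
theorem F267624 : act 7 n59884 = n59319 := d27_2 (iv F262742) D59884 F265106
theorem F267625 : act 9 n59884 = n58772 := d29_2 (iv F262744) D59884 F263121
def n59885 : Q := act 1 n58679
theorem D59885 : act 1 n58679 = n59885 := rfl
theorem F267626 : act 3 n59885 = n58684 := d10_2 (iv F262754) D59885 (iv D58684)
theorem F267627 : act 5 n59885 = n58681 := d12_2 (iv F262755) D59885 (iv D58681)
def n59886 : Q := act 4 n58679
theorem D59886 : act 4 n58679 = n59886 := rfl
theorem F267628 : act 0 n59886 = n58771 := d3_1 D59886 (iv D58771) (iv F262753)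
theorem F267629 : act 2 n59886 = n58680 := d18_1 D59886 (iv D58680) D58679
theorem F267630 : act 6 n59886 = n59340 := d31_2 F265580 D59886 (iv F265578)
theorem F267631 : act 9 n59886 = n59367 := d34_2 F267555 D59886 (iv F267550)
def n59887 : Q := act 5 n58680
theorem D59887 : act 5 n58680 = n59887 := rfl
theorem F267632 : act 0 n59887 = n58772 := d4_1 D59887 (iv D58772) (iv F262756)
theorem F267633 : act 1 n59887 = n58733 := d12_1 D59887 (iv F267338) F267336
theorem F267634 : act 3 n59887 = n58688 := d25_1 D59887 (iv D58688) (iv F262757)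
theorem F267635 : act 4 n59887 = n58683 := d30_1 D59887 (iv D58683) (iv D57519) (iv F258067) D58680
theorem F267636 : act 6 n59887 = n58727 := d35_2 (iv F262758) D59887 (iv D58727) F258285 D58145
theorem F267637 : act 7 n59887 = n58784 := d36_2 F267536 D59887 (iv F267534)
theorem F267638 : act 9 n59887 = n58776 := d38_2 (iv F262759) D59887 F263130
def n59888 : Q := act 0 n58681
theorem D59888 : act 0 n58681 = n59888 := rfl
theorem F267639 : act 1 n59888 = n58773 := d0_2 D58681 D59888 (iv D58773) (iv D57601) (iv F258068)
theorem F267640 : act 3 n59888 = n58686 := d2_2 (iv F262760) D59888 (iv D58686)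
theorem F267641 : act 6 n59888 = n59329 := d5_2 (iv F262761) D59888 (iv D59329)
def n59889 : Q := act 4 n58681
theorem D59889 : act 4 n58681 = n59889 := rfl
theorem F267642 : act 1 n59889 = n58682 := d11_1 D59889 (iv D58682) D58681
theorem F267643 : act 6 n59889 = n59330 := d31_2 (iv F262761) D59889 (iv D59330)
def n59890 : Q := act 5 n58682
theorem D59890 : act 5 n58682 = n59890 := rfl
theorem F267644 : act 0 n59890 = n58775 := d4_1 D59890 (iv D58775) (iv F262762)
theorem F267645 : act 2 n59890 = n58683 := d19_1 D59890 (iv D58683) (iv F262763)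
theorem F267646 : act 3 n59890 = n58747 := d25_1 D59890 (iv F267201) F267200
theorem F267647 : act 7 n59890 = n58782 := d36_2 F267411 D59890 (iv F267409)
def n59891 : Q := act 0 n58684
theorem D59891 : act 0 n58684 = n59891 := rfl
theorem F267648 : act 1 n59891 = n58780 := d0_2 D58684 D59891 (iv D58780) (iv D57608) (iv F258079)
theorem F267649 : act 5 n59891 = n58686 := d4_2 (iv F262768) D59891 (iv D58686)
theorem F267650 : act 8 n59891 = n58902 := d7_2 (iv F262769) D59891 (iv D58902)
def n59892 : Q := act 4 n58684
theorem D59892 : act 4 n58684 = n59892 := rfl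
theorem F267651 : act 1 n59892 = n58685 := d11_1 D59892 (iv D58685) D58684
theorem F267652 : act 8 n59892 = n58903 := d33_2 (iv F262769) D59892 (iv D58903)
def n59893 : Q := act 3 n58685
theorem D59893 : act 3 n58685 = n59893 := rfl
theorem F267653 : act 0 n59893 = n58782 := d2_1 D59893 (iv D58782) (iv F262770)
theorem F267654 : act 2 n59893 = n58689 := d17_1 D59893 (iv D58689) F258117 (iv F258083) (iv F262771)
theorem F267655 : act 5 n59893 = n58745 := d25_2 F267214 D59893 (iv F267213)
theorem F267656 : act 7 n59893 = n58775 := d27_2 F267387 D59893 (iv F267385)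
def n59894 : Q := act 3 n58687
theorem D59894 : act 3 n58687 = n59894 := rfl
theorem F267657 : act 0 n59894 = n58784 := d2_1 D59894 (iv D58784) (iv F262776)
theorem F267658 : act 1 n59894 = n59315 := d10_1 D59894 F265099 (iv F262777)
theorem F267659 : act 4 n59894 = n58689 := d24_2 D58687 D59894 (iv D58689) (iv D57528) (iv F258097)
theorem F267660 : act 5 n59894 = n58743 := d25_2 (iv F262779) D59894 F263021
theorem F267661 : act 6 n59894 = n59302 := d26_2 (iv F262780) D59894 F265069
theorem F267662 : act 7 n59894 = n58772 := d27_2 (iv F262781) D59894 F263121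
theorem F267663 : act 9 n59894 = n59319 := d29_2 (iv F262783) D59894 F265106
def n59895 : Q := act 8 n58689
theorem D59895 : act 8 n58689 = n59895 := rfl
theorem F267664 : act 0 n59895 = n58785 := d7_1 D59895 (iv D58785) (iv F262792)
theorem F267665 : act 1 n59895 = n59312 := d15_1 D59895 F265095 (iv F262793)
theorem F267666 : act 3 n59895 = n58690 := d28_1 D59895 (iv D58690) (iv D57529) (iv F258120) D58689
theorem F267667 : act 5 n59895 = n58741 := d37_1 D59895 F263016 (iv F262794)
theorem F267668 : act 7 n59895 = n58767 := d42_1 D59895 F263109 (iv F262795)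
def n59896 : Q := act 9 n58690
theorem D59896 : act 9 n58690 = n59896 := rfl
theorem F267669 : act 0 n59896 = n58789 := d8_1 D59896 (iv D58789) (iv F262796)
theorem F267670 : act 1 n59896 = n59321 := d16_1 D59896 F265112 (iv F262797)
theorem F267671 : act 2 n59896 = n58914 := d23_1 D59896 (iv D58914) (iv F262798)
theorem F267672 : act 4 n59896 = n59896 := d34_1 D59896 (iv D59896) F262799
theorem F267673 : act 5 n59896 = n58790 := d38_1 D59896 F263186 (iv F262800)
theorem F267674 : act 7 n59896 = n58793 := d43_1 D59896 F263201 (iv F262801)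
theorem F267675 : act 8 n59896 = n59896 := d44_1 D59896 (iv D59896) (iv D58690) F258127 D58690
def n59897 : Q := act 3 n58691
theorem D59897 : act 3 n58691 = n59897 := rfl
theorem F267676 : act 0 n59897 = n58992 := d2_1 D59897 (iv D58992) (iv F262802)
theorem F267677 : act 1 n59897 = n59039 := d10_1 D59897 (iv D59039) (iv F262803)
theorem F267678 : act 5 n59897 = n58882 := d25_2 (iv F262806) D59897 (iv D58882)
theorem F267679 : act 6 n59897 = n58875 := d26_2 (iv F262807) D59897 (iv D58875)
theorem F267680 : act 7 n59897 = n58700 := d27_2 (iv F262808) D59897 (iv D58700)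
theorem F267681 : act 8 n59897 = n58693 := d28_2 D58691 D59897 (iv D58693) (iv D57534) (iv F258146)
theorem F267682 : act 9 n59897 = n59029 := d29_2 (iv F262809) D59897 (iv D59029)
def n59898 : Q := act 3 n58692
theorem D59898 : act 3 n58692 = n59898 := rfl
theorem F267683 : act 0 n59898 = n59007 := d2_1 D59898 (iv D59007) (iv F262810)
theorem F267684 : act 1 n59898 = n59453 := d10_1 D59898 (iv D59453) (iv F262811)
theorem F267685 : act 5 n59898 = n58693 := d25_2 (iv F262814) D59898 (iv D58693)
theorem F267686 : act 6 n59898 = n58880 := d26_2 (iv F262815) D59898 (iv D58880)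
theorem F267687 : act 7 n59898 = n58701 := d27_2 (iv F262816) D59898 (iv D58701)
theorem F267688 : act 8 n59898 = n58882 := d28_2 D58692 D59898 (iv D58882) (iv D57710) (iv F258154)
theorem F267689 : act 9 n59898 = n58917 := d29_2 (iv F262817) D59898 (iv D58917)
def n59899 : Q := act 2 n58693
theorem D59899 : act 2 n58693 = n59899 := rfl
theorem F267690 : act 0 n59899 = n59257 := d1_1 D59899 (iv D59257) (iv F262818)
theorem F267691 : act 3 n59899 = n58695 := d17_2 D58693 D59899 (iv D58695) (iv D57537) (iv F258160)
theorem F267692 : act 6 n59899 = n59278 := d20_2 (iv F262819) D59899 (iv D59278)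
theorem F267693 : act 7 n59899 = n58702 := d21_2 (iv F262820) D59899 (iv D58702)
theorem F267694 : act 9 n59899 = n58918 := d23_2 (iv F262821) D59899 (iv D58918)
def n59900 : Q := act 2 n58694
theorem D59900 : act 2 n58694 = n59900 := rfl
theorem F267695 : act 5 n59900 = n58695 := d19_2 (iv F262823) D59900 (iv D58695)
theorem F267696 : act 7 n59900 = n58705 := d21_2 (iv F262824) D59900 (iv D58705)
theorem F267697 : act 8 n59900 = n58713 := d22_2 (iv F262825) D59900 (iv D58713)
theorem F267698 : act 9 n59900 = n58920 := d23_2 (iv F262826) D59900 (iv D58920)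
def n59901 : Q := act 4 n58694
theorem D59901 : act 4 n58694 = n59901 := rfl
theorem F267699 : act 1 n59901 = n59323 := d11_1 D59901 (iv D59323) (iv F262822)
theorem F267700 : act 3 n59901 = n59901 := d24_1 D59901 (iv D59901) (iv D58694) F258172 D58694
theorem F267701 : act 7 n59901 = n58706 := d32_2 (iv F262824) D59901 (iv D58706)
theorem F267702 : act 8 n59901 = n58714 := d33_2 (iv F262825) D59901 (iv D58714)
theorem F267703 : act 9 n59901 = n58921 := d34_2 (iv F262826) D59901 (iv D58921)
def n59902 : Q := act 1 n58695
theorem D59902 : act 1 n58695 = n59902 := rfl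
theorem F267704 : act 2 n59902 = n59490 := d9_2 D58695 D59902 (iv D59490) (iv D58299) (iv F258176)
theorem F267705 : act 6 n59902 = n59286 := d13_2 (iv F262827) D59902 (iv D59286)
theorem F267706 : act 7 n59902 = n58707 := d14_2 (iv F262828) D59902 (iv D58707)
theorem F267707 : act 8 n59902 = n58715 := d15_2 (iv F262829) D59902 (iv D58715)
theorem F267708 : act 9 n59902 = n58922 := d16_2 (iv F262830) D59902 (iv D58922)
def n59903 : Q := act 2 n58696
theorem D59903 : act 2 n58696 = n59903 := rfl
theorem F267709 : act 3 n59903 = n59168 := d17_2 D58696 D59903 (iv D59168) (iv D57974) (iv F258182)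
theorem F267710 : act 6 n59903 = n59233 := d20_2 (iv F262832) D59903 (iv D59233)
theorem F267711 : act 9 n59903 = n58928 := d23_2 (iv F262833) D59903 (iv D58928)
def n59904 : Q := act 4 n58696
theorem D59904 : act 4 n58696 = n59904 := rfl
theorem F267712 : act 1 n59904 = n58703 := d11_1 D59904 (iv D58703) (iv F262831)
theorem F267713 : act 3 n59904 = n58698 := d24_1 D59904 (iv D58698) (iv D57539) (iv F258183) D58696
theorem F267714 : act 6 n59904 = n59234 := d31_2 (iv F262832) D59904 (iv D59234)
theorem F267715 : act 9 n59904 = n58929 := d34_2 (iv F262833) D59904 (iv D58929)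
def n59905 : Q := act 4 n58697
theorem D59905 : act 4 n58697 = n59905 := rfl
theorem F267716 : act 2 n59905 = n58698 := d18_1 D59905 (iv D58698) D58697
theorem F267717 : act 6 n59905 = n59083 := d31_2 (iv F262836) D59905 F264317
theorem F267718 : act 8 n59905 = n59905 := d33_2 F262837 D59905 (iv D59905)
theorem F267719 : act 9 n59905 = n58930 := d34_2 (iv F262838) D59905 (iv D58930)
def n59906 : Q := act 5 n58698
theorem D59906 : act 5 n58698 = n59906 := rfl
theorem F267720 : act 1 n59906 = n58704 := d12_1 D59906 (iv D58704) (iv F262839)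
theorem F267721 : act 4 n59906 = n59906 := d30_1 D59906 (iv D59906) (iv D58698) F258187 D58698
theorem F267722 : act 8 n59906 = n59906 := d37_2 F262841 D59906 (iv D59906)
theorem F267723 : act 9 n59906 = n58931 := d38_2 (iv F262842) D59906 (iv D58931)
def n59907 : Q := act 3 n58699
theorem D59907 : act 3 n58699 = n59907 := rfl
theorem F267724 : act 0 n59907 = n59201 := d2_1 D59907 (iv D59201) (iv F262843)
theorem F267725 : act 1 n59907 = n59038 := d10_1 D59907 (iv D59038) (iv F262844)
theorem F267726 : act 5 n59907 = n59146 := d25_2 (iv F262847) D59907 (iv D59146)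
theorem F267727 : act 6 n59907 = n59237 := d26_2 (iv F262848) D59907 (iv D59237)
theorem F267728 : act 7 n59907 = n59029 := d27_2 (iv F262849) D59907 (iv D59029)
theorem F267729 : act 8 n59907 = n58933 := d28_2 D58699 D59907 (iv D58933) (iv D57757) (iv F258194)
theorem F267730 : act 9 n59907 = n58700 := d29_2 (iv F262850) D59907 (iv D58700)
def n59908 : Q := act 2 n58700
theorem D59908 : act 2 n58700 = n59908 := rfl
theorem F267731 : act 3 n59908 = n58721 := d17_2 D58700 D59908 (iv D58721) (iv D57558) (iv F258199)
theorem F267732 : act 6 n59908 = n59238 := d20_2 (iv F262851) D59908 (iv D59238)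
theorem F267733 : act 8 n59908 = n58702 := d22_2 (iv F262852) D59908 (iv D58702)
def n59909 : Q := act 4 n58700
theorem D59909 : act 4 n58700 = n59909 := rfl
theorem F267734 : act 3 n59909 = n59909 := d24_1 D59909 (iv D59909) (iv D58700) F258200 D58700
theorem F267735 : act 6 n59909 = n59239 := d31_2 (iv F262851) D59909 (iv D59239)
theorem F267736 : act 8 n59909 = n58703 := d33_2 (iv F262852) D59909 (iv D58703)
def n59910 : Q := act 2 n58701
theorem D59910 : act 2 n58701 = n59910 := rfl
theorem F267737 : act 3 n59910 = n58705 := d17_2 D58701 D59910 (iv D58705) (iv D57545) (iv F258202)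
theorem F267738 : act 5 n59910 = n58702 := d19_2 (iv F262853) D59910 (iv D58702)
theorem F267739 : act 6 n59910 = n59225 := d20_2 (iv F262854) D59910 (iv D59225)
theorem F267740 : act 9 n59910 = n58936 := d23_2 (iv F262855) D59910 (iv D58936)
def n59911 : Q := act 4 n58701
theorem D59911 : act 4 n58701 = n59911 := rfl
theorem F267741 : act 3 n59911 = n59911 := d24_1 D59911 (iv D59911) (iv D58701) F258203 D58701
theorem F267742 : act 6 n59911 = n59226 := d31_2 (iv F262854) D59911 (iv D59226)
theorem F267743 : act 9 n59911 = n58937 := d34_2 (iv F262855) D59911 (iv D58937)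
def n59912 : Q := act 1 n58702
theorem D59912 : act 1 n58702 = n59912 := rfl
theorem F267744 : act 3 n59912 = n58707 := d10_2 (iv F262856) D59912 (iv D58707)
theorem F267745 : act 6 n59912 = n59245 := d13_2 (iv F262857) D59912 (iv D59245)
theorem F267746 : act 9 n59912 = n58938 := d16_2 (iv F262858) D59912 (iv D58938)
def n59913 : Q := act 4 n58702
theorem D59913 : act 4 n58702 = n59913 := rfl
theorem F267747 : act 2 n59913 = n58703 := d18_1 D59913 (iv D58703) D58702
theorem F267748 : act 6 n59913 = n59246 := d31_2 (iv F262857) D59913 (iv D59246)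
theorem F267749 : act 9 n59913 = n58939 := d34_2 (iv F262858) D59913 (iv D58939)
def n59914 : Q := act 5 n58703
theorem D59914 : act 5 n58703 = n59914 := rfl
theorem F267750 : act 3 n59914 = n58704 := d25_1 D59914 (iv D58704) (iv F262859)
theorem F267751 : act 9 n59914 = n58940 := d38_2 (iv F262861) D59914 (iv D58940)
def n59915 : Q := act 6 n58704
theorem D59915 : act 6 n58704 = n59915 := rfl
theorem F267752 : act 2 n59915 = n58983 := d20_1 D59915 (iv F267247) F267245
theorem F267753 : act 4 n59915 = n59915 := d31_1 D59915 (iv D59915) F262862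
theorem F267754 : act 5 n59915 = n58982 := d35_1 D59915 F263988 F259296 (iv F258209) D58704
theorem F267755 : act 8 n59915 = n59915 := d40_2 F262863 D59915 (iv D59915)
theorem F267756 : act 9 n59915 = n58941 := d41_2 (iv F262864) D59915 (iv D58941)
def n59916 : Q := act 1 n58705
theorem D59916 : act 1 n58705 = n59916 := rfl
theorem F267757 : act 2 n59916 = n59474 := d9_2 D58705 D59916 (iv D59474) (iv D58283) (iv F258212)
theorem F267758 : act 5 n59916 = n58707 := d12_2 (iv F262865) D59916 (iv D58707)
theorem F267759 : act 6 n59916 = n59230 := d13_2 (iv F262866) D59916 (iv D59230)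
theorem F267760 : act 8 n59916 = n58730 := d15_2 (iv F262867) D59916 (iv D58730)
theorem F267761 : act 9 n59916 = n58944 := d16_2 (iv F262868) D59916 (iv D58944)
def n59917 : Q := act 4 n58705
theorem D59917 : act 4 n58705 = n59917 := rfl
theorem F267762 : act 2 n59917 = n58706 := d18_1 D59917 (iv D58706) D58705
theorem F267763 : act 6 n59917 = n59231 := d31_2 (iv F262866) D59917 (iv D59231)
theorem F267764 : act 8 n59917 = n58731 := d33_2 (iv F262867) D59917 (iv D58731)
theorem F267765 : act 9 n59917 = n58945 := d34_2 (iv F262868) D59917 (iv D58945)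
def n59918 : Q := act 0 n58707
theorem D59918 : act 0 n58707 = n59918 := rfl
theorem F267766 : act 2 n59918 = n59491 := d1_2 (iv F262874) D59918 (iv D59491)
theorem F267767 : act 6 n59918 = n59251 := d5_2 (iv F262875) D59918 (iv D59251)
theorem F267768 : act 8 n59918 = n58732 := d7_2 (iv F262876) D59918 (iv D58732)
theorem F267769 : act 9 n59918 = n58946 := d8_2 (iv F262877) D59918 (iv D58946)
def n59919 : Q := act 1 n58708
theorem D59919 : act 1 n58708 = n59919 := rfl
theorem F267770 : act 2 n59919 = n59364 := d9_2 D58708 D59919 F265199 F260465 (iv F258220)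
theorem F267771 : act 4 n59919 = n59354 := d11_2 (iv F262878) D59919 (iv D59354)
theorem F267772 : act 6 n59919 = n58715 := d13_2 (iv F262879) D59919 (iv D58715)
theorem F267773 : act 7 n59919 = n59126 := d14_2 (iv F262880) D59919 (iv D59126)
theorem F267774 : act 8 n59919 = n59286 := d15_2 (iv F262881) D59919 (iv D59286)
theorem F267775 : act 9 n59919 = n58736 := d16_2 (iv F262882) D59919 (iv D58736)
def n59920 : Q := act 3 n58709
theorem D59920 : act 3 n58709 = n59920 := rfl
theorem F267776 : act 0 n59920 = n58948 := d2_1 D59920 (iv D58948) (iv F262883)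
theorem F267777 : act 1 n59920 = n59297 := d10_1 D59920 (iv D59297) (iv F262884)
theorem F267778 : act 5 n59920 = n58864 := d25_2 (iv F262887) D59920 (iv D58864)
theorem F267779 : act 6 n59920 = n58862 := d26_2 (iv F262888) D59920 (iv D58862)
theorem F267780 : act 7 n59920 = n58720 := d27_2 (iv F262889) D59920 (iv D58720)
theorem F267781 : act 8 n59920 = n58739 := d28_2 D58709 D59920 (iv D58739) (iv D57576) (iv F258229)
theorem F267782 : act 9 n59920 = n58710 := d29_2 (iv F262890) D59920 (iv D58710)
def n59921 : Q := act 2 n58710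
theorem D59921 : act 2 n58710 = n59921 := rfl
theorem F267783 : act 0 n59921 = n58998 := d1_1 D59921 (iv D58998) (iv F262891)
theorem F267784 : act 5 n59921 = n58886 := d19_2 (iv F262893) D59921 (iv D58886)
theorem F267785 : act 6 n59921 = n58877 := d20_2 (iv F262894) D59921 (iv D58877)
theorem F267786 : act 7 n59921 = n58721 := d21_2 (iv F262895) D59921 (iv D58721)
theorem F267787 : act 8 n59921 = n58711 := d22_2 (iv F262896) D59921 (iv D58711)
def n59922 : Q := act 4 n58710
theorem D59922 : act 4 n58710 = n59922 := rfl
theorem F267788 : act 0 n59922 = n58999 := d3_1 D59922 (iv D58999) (iv F262891)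
theorem F267789 : act 1 n59922 = n59299 := d11_1 D59922 (iv D59299) (iv F262892)
theorem F267790 : act 3 n59922 = n59922 := d24_1 D59922 (iv D59922) (iv D58710) F258236 D58710
theorem F267791 : act 6 n59922 = n58878 := d31_2 (iv F262894) D59922 (iv D58878)
theorem F267792 : act 7 n59922 = n58722 := d32_2 (iv F262895) D59922 (iv D58722)
theorem F267793 : act 8 n59922 = n58712 := d33_2 (iv F262896) D59922 (iv D58712)
def n59923 : Q := act 1 n58711
theorem D59923 : act 1 n58711 = n59923 := rfl
theorem F267794 : act 2 n59923 = n59300 := d9_2 D58711 D59923 (iv D59300) (iv D58106) (iv F258240)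
theorem F267795 : act 3 n59923 = n58715 := d10_2 (iv F262897) D59923 (iv D58715)
theorem F267796 : act 7 n59923 = n58725 := d14_2 (iv F262898) D59923 (iv D58725)
theorem F267797 : act 9 n59923 = n58744 := d16_2 (iv F262899) D59923 (iv D58744)
def n59924 : Q := act 4 n58711
theorem D59924 : act 4 n58711 = n59924 := rfl
theorem F267798 : act 2 n59924 = n58712 := d18_1 D59924 (iv D58712) D58711
theorem F267799 : act 7 n59924 = n58726 := d32_2 (iv F262898) D59924 (iv D58726)
theorem F267800 : act 9 n59924 = n58745 := d34_2 (iv F262899) D59924 (iv D58745)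
def n59925 : Q := act 1 n58713
theorem D59925 : act 1 n58713 = n59925 := rfl
theorem F267801 : act 2 n59925 = n59324 := d9_2 D58713 D59925 (iv D59324) (iv D58128) (iv F258247)
theorem F267802 : act 5 n59925 = n58715 := d12_2 (iv F262904) D59925 (iv D58715)
theorem F267803 : act 7 n59925 = n58730 := d14_2 (iv F262905) D59925 (iv D58730)
theorem F267804 : act 9 n59925 = n58746 := d16_2 (iv F262906) D59925 (iv D58746)
def n59926 : Q := act 4 n58713
theorem D59926 : act 4 n58713 = n59926 := rfl
theorem F267805 : act 2 n59926 = n58714 := d18_1 D59926 (iv D58714) D58713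
theorem F267806 : act 7 n59926 = n58731 := d32_2 (iv F262905) D59926 (iv D58731)
theorem F267807 : act 9 n59926 = n58747 := d34_2 (iv F262906) D59926 (iv D58747)
def n59927 : Q := act 0 n58715
theorem D59927 : act 0 n58715 = n59927 := rfl
theorem F267808 : act 7 n59927 = n58732 := d6_2 (iv F262911) D59927 (iv D58732)
theorem F267809 : act 9 n59927 = n58748 := d8_2 (iv F262912) D59927 (iv D58748)
def n59928 : Q := act 2 n58716
theorem D59928 : act 2 n58716 = n59928 := rfl
theorem F267810 : act 0 n59928 = n59306 := d1_1 D59928 (iv D59306) (iv F262913)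
theorem F267811 : act 3 n59928 = n58810 := d17_2 D58716 D59928 (iv D58810) (iv D57644) (iv F258255)
theorem F267812 : act 5 n59928 = n58807 := d19_2 (iv F262915) D59928 (iv D58807)
theorem F267813 : act 6 n59928 = n58822 := d20_2 (iv F262916) D59928 (iv D58822)
theorem F267814 : act 7 n59928 = n59298 := d21_2 (iv F262917) D59928 (iv D59298)
theorem F267815 : act 8 n59928 = n58717 := d22_2 (iv F262918) D59928 (iv D58717)
def n59929 : Q := act 4 n58716
theorem D59929 : act 4 n58716 = n59929 := rfl
theorem F267816 : act 0 n59929 = n59307 := d3_1 D59929 (iv D59307) (iv F262913)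
theorem F267817 : act 1 n59929 = n58722 := d11_1 D59929 (iv D58722) (iv F262914)
theorem F267818 : act 3 n59929 = n59929 := d24_1 D59929 (iv D59929) (iv D58716) F258256 D58716
theorem F267819 : act 6 n59929 = n58823 := d31_2 (iv F262916) D59929 (iv D58823)
theorem F267820 : act 7 n59929 = n59299 := d32_2 (iv F262917) D59929 (iv D59299)
theorem F267821 : act 8 n59929 = n58718 := d33_2 (iv F262918) D59929 (iv D58718)
def n59930 : Q := act 1 n58717
theorem D59930 : act 1 n58717 = n59930 := rfl
theorem F267822 : act 2 n59930 = n58725 := d9_2 D58717 D59930 (iv D58725) (iv D57560) (iv F258261)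
theorem F267823 : act 3 n59930 = n59108 := d10_2 (iv F262920) D59930 (iv D59108)
theorem F267824 : act 5 n59930 = n59293 := d12_2 (iv F262921) D59930 (iv D59293)
theorem F267825 : act 6 n59930 = n59332 := d13_2 (iv F262922) D59930 (iv D59332)
theorem F267826 : act 7 n59930 = n59300 := d14_2 (iv F262923) D59930 (iv D59300)
theorem F267827 : act 9 n59930 = n58757 := d16_2 (iv F262924) D59930 (iv D58757)
def n59931 : Q := act 4 n58717
theorem D59931 : act 4 n58717 = n59931 := rfl
theorem F267828 : act 0 n59931 = n59314 := d3_1 D59931 (iv D59314) (iv F262919)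
theorem F267829 : act 2 n59931 = n58718 := d18_1 D59931 (iv D58718) D58717
theorem F267830 : act 3 n59931 = n59124 := d24_1 D59931 (iv D59124) F259780 (iv F259724) (iv F262920)
theorem F267831 : act 6 n59931 = n59333 := d31_2 (iv F262922) D59931 (iv D59333)
theorem F267832 : act 7 n59931 = n59301 := d32_2 (iv F262923) D59931 (iv D59301)
theorem F267833 : act 9 n59931 = n58758 := d34_2 (iv F262924) D59931 (iv D58758)
def n59932 : Q := act 5 n58718
theorem D59932 : act 5 n58718 = n59932 := rfl
theorem F267834 : act 0 n59932 = n59315 := d4_1 D59932 (iv D59315) (iv F262925)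
theorem F267835 : act 1 n59932 = n58727 := d12_1 D59932 (iv D58727) (iv F262926)
theorem F267836 : act 3 n59932 = n58719 := d25_1 D59932 (iv D58719) (iv F262927)
theorem F267837 : act 4 n59932 = n59295 := d30_1 D59932 (iv D59295) (iv D58101) (iv F258262) D58718
theorem F267838 : act 6 n59932 = n58733 := d35_2 (iv F262928) D59932 (iv F267338) F267339 F262986
theorem F267839 : act 7 n59932 = n59302 := d36_2 (iv F262929) D59932 (iv D59302)
theorem F267840 : act 9 n59932 = n58759 := d38_2 (iv F262930) D59932 (iv D58759)
def n59933 : Q := act 2 n58720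
theorem D59933 : act 2 n58720 = n59933 := rfl
theorem F267841 : act 6 n59933 = n59334 := d20_2 (iv F262939) D59933 (iv D59334)
theorem F267842 : act 8 n59933 = n58763 := d22_2 (iv F262940) D59933 (iv D58763)
theorem F267843 : act 9 n59933 = n58721 := d23_2 (iv F262941) D59933 (iv D58721)
def n59934 : Q := act 4 n58720
theorem D59934 : act 4 n58720 = n59934 := rfl
theorem F267844 : act 3 n59934 = n59934 := d24_1 D59934 (iv D59934) (iv D58720) F258273 D58720
theorem F267845 : act 6 n59934 = n59335 := d31_2 (iv F262939) D59934 (iv D59335)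
theorem F267846 : act 8 n59934 = n58764 := d33_2 (iv F262940) D59934 (iv D58764)
theorem F267847 : act 9 n59934 = n58722 := d34_2 (iv F262941) D59934 (iv D58722)
def n59935 : Q := act 1 n58721
theorem D59935 : act 1 n58721 = n59935 := rfl
theorem F267848 : act 6 n59935 = n59336 := d13_2 (iv F262942) D59935 (iv D59336)
theorem F267849 : act 8 n59935 = n58725 := d15_2 (iv F262943) D59935 (iv D58725)
def n59936 : Q := act 4 n58721
theorem D59936 : act 4 n58721 = n59936 := rfl
theorem F267850 : act 2 n59936 = n58722 := d18_1 D59936 (iv D58722) D58721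
theorem F267851 : act 6 n59936 = n59337 := d31_2 (iv F262942) D59936 (iv D59337)
theorem F267852 : act 8 n59936 = n58726 := d33_2 (iv F262943) D59936 (iv D58726)
def n59937 : Q := act 5 n58722
theorem D59937 : act 5 n58722 = n59937 := rfl
theorem F267853 : act 3 n59937 = n59937 := d25_1 D59937 (iv D59937) F262944
theorem F267854 : act 8 n59937 = n58727 := d37_2 (iv F262946) D59937 (iv D58727)
def n59938 : Q := act 1 n58723
theorem D59938 : act 1 n58723 = n59938 := rfl
theorem F267855 : act 2 n59938 = n59293 := d9_2 D58723 D59938 (iv D59293) (iv D58100) (iv F258278)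
theorem F267856 : act 3 n59938 = n58730 := d10_2 (iv F262947) D59938 (iv D58730)
theorem F267857 : act 5 n59938 = n58725 := d12_2 (iv F262948) D59938 (iv D58725)
theorem F267858 : act 9 n59938 = n58770 := d16_2 (iv F262949) D59938 (iv D58770)
def n59939 : Q := act 4 n58723
theorem D59939 : act 4 n58723 = n59939 := rfl
theorem F267859 : act 0 n59939 = n59367 := d3_1 D59939 (iv F267550) F267548
theorem F267860 : act 2 n59939 = n58724 := d18_1 D59939 (iv D58724) D58723
theorem F267861 : act 6 n59939 = n59331 := d31_2 F265565 D59939 (iv F265563)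
theorem F267862 : act 9 n59939 = n58771 := d34_2 (iv F262949) D59939 (iv D58771)
def n59940 : Q := act 0 n58725
theorem D59940 : act 0 n58725 = n59940 := rfl
theorem F267863 : act 3 n59940 = n58732 := d2_2 (iv F262955) D59940 (iv D58732)
theorem F267864 : act 6 n59940 = n59338 := d5_2 (iv F262956) D59940 (iv D59338)
theorem F267865 : act 9 n59940 = n58773 := d8_2 (iv F262957) D59940 (iv D58773)
def n59941 : Q := act 4 n58725
theorem D59941 : act 4 n58725 = n59941 := rfl
theorem F267866 : act 1 n59941 = n58726 := d11_1 D59941 (iv D58726) D58725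
theorem F267867 : act 6 n59941 = n59339 := d31_2 (iv F262956) D59941 (iv D59339)
theorem F267868 : act 9 n59941 = n58774 := d34_2 (iv F262957) D59941 (iv D58774)
def n59942 : Q := act 5 n58726
theorem D59942 : act 5 n58726 = n59942 := rfl
theorem F267869 : act 2 n59942 = n58727 := d19_1 D59942 (iv D58727) (iv F262958)
theorem F267870 : act 9 n59942 = n58775 := d38_2 (iv F262960) D59942 (iv D58775)
def n59943 : Q := act 1 n58728
theorem D59943 : act 1 n58728 = n59943 := rfl
theorem F267871 : act 2 n59943 = n59343 := d9_2 D58728 D59943 (iv D59343) (iv D58149) (iv F258290)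
theorem F267872 : act 5 n59943 = n59112 := d12_2 (iv F262963) D59943 (iv D59112)
theorem F267873 : act 6 n59943 = n58730 := d13_2 (iv F262964) D59943 (iv D58730)
theorem F267874 : act 8 n59943 = n59230 := d15_2 (iv F262965) D59943 (iv D59230)
theorem F267875 : act 9 n59943 = n58778 := d16_2 (iv F262966) D59943 (iv D58778)
def n59944 : Q := act 4 n58728
theorem D59944 : act 4 n58728 = n59944 := rfl
theorem F267876 : act 2 n59944 = n58729 := d18_1 D59944 (iv D58729) D58728
theorem F267877 : act 5 n59944 = n59124 := d30_2 (iv F262963) D59944 (iv D59124) F259781 (iv F259742)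
theorem F267878 : act 6 n59944 = n58731 := d31_2 (iv F262964) D59944 (iv D58731)
theorem F267879 : act 7 n59944 = n59340 := d32_2 F265581 D59944 (iv F265578)
theorem F267880 : act 8 n59944 = n59231 := d33_2 (iv F262965) D59944 (iv D59231)
theorem F267881 : act 9 n59944 = n58779 := d34_2 (iv F262966) D59944 (iv D58779)
def n59945 : Q := act 0 n58730
theorem D59945 : act 0 n58730 = n59945 := rfl
theorem F267882 : act 5 n59945 = n58732 := d4_2 (iv F262974) D59945 (iv D58732)
theorem F267883 : act 9 n59945 = n58780 := d8_2 (iv F262975) D59945 (iv D58780)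
def n59946 : Q := act 4 n58730
theorem D59946 : act 4 n58730 = n59946 := rfl
theorem F267884 : act 1 n59946 = n58731 := d11_1 D59946 (iv D58731) D58730
theorem F267885 : act 9 n59946 = n58781 := d34_2 (iv F262975) D59946 (iv D58781)
def n59947 : Q := act 3 n58731
theorem D59947 : act 3 n58731 = n59947 := rfl
theorem F267886 : act 2 n59947 = n58733 := d17_1 D59947 (iv D58733) F258323 (iv F258297) (iv F262976)
theorem F267887 : act 9 n59947 = n58782 := d29_2 (iv F262977) D59947 (iv D58782)
def n59948 : Q := act 8 n58733
theorem D59948 : act 8 n58733 = n59948 := rfl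
theorem F267888 : act 3 n59948 = n59948 := d28_1 D59948 (iv D59948) (iv D58733) F258324 D58733
theorem F267889 : act 4 n59948 = n59024 := d33_1 D59948 (iv F267617) F267614
theorem F267890 : act 5 n59948 = n58999 := d37_1 D59948 F267342 F267338
def n59949 : Q := act 1 n58734
theorem D59949 : act 1 n58734 = n59949 := rfl
theorem F267891 : act 5 n59949 = n58736 := d12_2 (iv F262981) D59949 (iv D58736)
theorem F267892 : act 7 n59949 = n59343 := d14_2 (iv F262982) D59949 (iv D59343)
theorem F267893 : act 8 n59949 = n59000 := d15_2 (iv F262983) D59949 (iv D59000)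
def n59950 : Q := act 4 n58734
theorem D59950 : act 4 n58734 = n59950 := rfl
theorem F267894 : act 2 n59950 = n58735 := d18_1 D59950 (iv D58735) D58734
theorem F267895 : act 5 n59950 = n59333 := d30_2 (iv F262981) D59950 (iv D59333) (iv F262486) F262485
theorem F267896 : act 7 n59950 = n59344 := d32_2 (iv F262982) D59950 (iv D59344)
theorem F267897 : act 8 n59950 = n59001 := d33_2 (iv F262983) D59950 (iv D59001)
theorem F267898 : act 9 n59950 = n59357 := d34_2 F265686 D59950 (iv F265681)
def n59951 : Q := act 0 n58736
theorem D59951 : act 0 n58736 = n59951 := rfl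
theorem F267899 : act 6 n59951 = n58748 := d5_2 (iv F262990) D59951 (iv D58748)
theorem F267900 : act 7 n59951 = n59345 := d6_2 (iv F262991) D59951 (iv D59345)
theorem F267901 : act 8 n59951 = n59002 := d7_2 (iv F262992) D59951 (iv D59002)
def n59952 : Q := act 3 n58737
theorem D59952 : act 3 n58737 = n59952 := rfl
theorem F267902 : act 0 n59952 = n58919 := d2_1 D59952 (iv D58919) (iv F262993)
theorem F267903 : act 1 n59952 = n59305 := d10_1 D59952 (iv D59305) (iv F262994)
theorem F267904 : act 5 n59952 = n58739 := d25_2 (iv F262997) D59952 (iv D58739)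
theorem F267905 : act 6 n59952 = n58853 := d26_2 (iv F262998) D59952 (iv D58853)
theorem F267906 : act 7 n59952 = n58760 := d27_2 (iv F262999) D59952 (iv D58760)
theorem F267907 : act 8 n59952 = n58864 := d28_2 D58737 D59952 (iv D58864) (iv D57694) (iv F258335)
theorem F267908 : act 9 n59952 = n58738 := d29_2 (iv F263000) D59952 (iv D58738)
def n59953 : Q := act 2 n58738
theorem D59953 : act 2 n58738 = n59953 := rfl
theorem F267909 : act 3 n59953 = n59009 := d17_2 D58738 D59953 (iv D59009) (iv D57824) (iv F258341)
theorem F267910 : act 5 n59953 = n58740 := d19_2 (iv F263002) D59953 (iv D58740)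
theorem F267911 : act 7 n59953 = n58761 := d21_2 (iv F263003) D59953 (iv D58761)
theorem F267912 : act 8 n59953 = n58742 := d22_2 (iv F263004) D59953 (iv D58742)
def n59954 : Q := act 4 n58738
theorem D59954 : act 4 n58738 = n59954 := rfl
theorem F267913 : act 1 n59954 = n59307 := d11_1 D59954 (iv D59307) (iv F263001)
theorem F267914 : act 3 n59954 = n59954 := d24_1 D59954 (iv D59954) (iv D58738) F258342 D58738
theorem F267915 : act 7 n59954 = n58762 := d32_2 (iv F263003) D59954 (iv D58762)
theorem F267916 : act 8 n59954 = n58743 := d33_2 (iv F263004) D59954 (iv D58743)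
def n59955 : Q := act 2 n58739
theorem D59955 : act 2 n58739 = n59955 := rfl
theorem F267917 : act 0 n59955 = n59445 := d1_1 D59955 (iv D59445) (iv F263005)
theorem F267918 : act 3 n59955 = n59011 := d17_2 D58739 D59955 (iv D59011) (iv D57825) (iv F258347)
theorem F267919 : act 6 n59955 = n59385 := d20_2 (iv F263007) D59955 (iv D59385)
theorem F267920 : act 7 n59955 = n58763 := d21_2 (iv F263008) D59955 (iv D58763)
theorem F267921 : act 9 n59955 = n58740 := d23_2 (iv F263009) D59955 (iv D58740)
def n59956 : Q := act 4 n58739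
theorem D59956 : act 4 n58739 = n59956 := rfl
theorem F267922 : act 0 n59956 = n59446 := d3_1 D59956 (iv D59446) (iv F263005)
theorem F267923 : act 1 n59956 = n59309 := d11_1 D59956 (iv D59309) (iv F263006)
theorem F267924 : act 3 n59956 = n58790 := d24_1 D59956 (iv D58790) (iv D57621) (iv F258348) D58739
theorem F267925 : act 6 n59956 = n59386 := d31_2 (iv F263007) D59956 (iv D59386)
theorem F267926 : act 7 n59956 = n58764 := d32_2 (iv F263008) D59956 (iv D58764)
theorem F267927 : act 9 n59956 = n58741 := d34_2 (iv F263009) D59956 (iv D58741)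
def n59957 : Q := act 1 n58740
theorem D59957 : act 1 n58740 = n59957 := rfl
theorem F267928 : act 2 n59957 = n59310 := d9_2 D58740 D59957 (iv D59310) (iv D58114) (iv F258352)
theorem F267929 : act 3 n59957 = n59012 := d10_2 (iv F263010) D59957 (iv D59012)
theorem F267930 : act 7 n59957 = n58765 := d14_2 (iv F263011) D59957 (iv D58765)
theorem F267931 : act 8 n59957 = n58744 := d15_2 (iv F263012) D59957 (iv D58744)
def n59958 : Q := act 4 n58740
theorem D59958 : act 4 n58740 = n59958 := rfl
theorem F267932 : act 2 n59958 = n58741 := d18_1 D59958 (iv D58741) D58740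
theorem F267933 : act 7 n59958 = n58766 := d32_2 (iv F263011) D59958 (iv D58766)
theorem F267934 : act 8 n59958 = n58745 := d33_2 (iv F263012) D59958 (iv D58745)
def n59959 : Q := act 1 n58742
theorem D59959 : act 1 n58742 = n59959 := rfl
theorem F267935 : act 2 n59959 = n59313 := d9_2 D58742 D59959 (iv D59313) (iv D58116) (iv F258355)
theorem F267936 : act 3 n59959 = n58746 := d10_2 (iv F263017) D59959 (iv D58746)
theorem F267937 : act 5 n59959 = n58744 := d12_2 (iv F263018) D59959 (iv D58744)
theorem F267938 : act 7 n59959 = n58770 := d14_2 (iv F263019) D59959 (iv D58770)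
def n59960 : Q := act 4 n58742
theorem D59960 : act 4 n58742 = n59960 := rfl
theorem F267939 : act 2 n59960 = n58743 := d18_1 D59960 (iv D58743) D58742
theorem F267940 : act 7 n59960 = n58771 := d32_2 (iv F263019) D59960 (iv D58771)
def n59961 : Q := act 0 n58744
theorem D59961 : act 0 n58744 = n59961 := rfl
theorem F267941 : act 2 n59961 = n59316 := d1_2 (iv F263023) D59961 (iv D59316)
theorem F267942 : act 3 n59961 = n58748 := d2_2 (iv F263024) D59961 (iv D58748)
theorem F267943 : act 7 n59961 = n58773 := d6_2 (iv F263025) D59961 (iv D58773)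
def n59962 : Q := act 4 n58744
theorem D59962 : act 4 n58744 = n59962 := rfl
theorem F267944 : act 1 n59962 = n58745 := d11_1 D59962 (iv D58745) D58744
theorem F267945 : act 2 n59962 = n59317 := d18_1 D59962 (iv D59317) (iv F263023)
theorem F267946 : act 7 n59962 = n58774 := d32_2 (iv F263025) D59962 (iv D58774)
def n59963 : Q := act 0 n58746
theorem D59963 : act 0 n58746 = n59963 := rfl
theorem F267947 : act 2 n59963 = n59329 := d1_2 (iv F263028) D59963 (iv D59329)
theorem F267948 : act 5 n59963 = n58748 := d4_2 (iv F263029) D59963 (iv D58748)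
theorem F267949 : act 7 n59963 = n58780 := d6_2 (iv F263030) D59963 (iv D58780)
theorem F267950 : act 8 n59963 = n59025 := d7_2 (iv F263031) D59963 (iv D59025)
def n59964 : Q := act 4 n58746
theorem D59964 : act 4 n58746 = n59964 := rfl
theorem F267951 : act 1 n59964 = n58747 := d11_1 D59964 (iv D58747) D58746
theorem F267952 : act 2 n59964 = n59330 := d18_1 D59964 (iv D59330) (iv F263028)
theorem F267953 : act 7 n59964 = n58781 := d32_2 (iv F263030) D59964 (iv D58781)
theorem F267954 : act 8 n59964 = n59026 := d33_2 (iv F263031) D59964 (iv D59026)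
def n59965 : Q := act 2 n58749
theorem D59965 : act 2 n58749 = n59965 := rfl
theorem F267955 : act 0 n59965 = n58753 := d1_1 D59965 (iv D58753) (iv F263037)
theorem F267956 : act 3 n59965 = n58806 := d17_2 D58749 D59965 (iv D58806) (iv D57641) (iv F258374)
theorem F267957 : act 5 n59965 = n59298 := d19_2 (iv F263039) D59965 (iv D59298)
theorem F267958 : act 6 n59965 = n58833 := d20_2 (iv F263040) D59965 (iv D58833)
theorem F267959 : act 7 n59965 = n58807 := d21_2 (iv F263041) D59965 (iv D58807)
theorem F267960 : act 8 n59965 = n58750 := d22_2 (iv F263042) D59965 (iv D58750)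
def n59966 : Q := act 1 n58750
theorem D59966 : act 1 n58750 = n59966 := rfl
theorem F267961 : act 3 n59966 = n59292 := d10_2 (iv F263044) D59966 (iv D59292)
theorem F267962 : act 5 n59966 = n59300 := d12_2 (iv F263045) D59966 (iv D59300)
theorem F267963 : act 6 n59966 = n59350 := d13_2 (iv F263046) D59966 (iv D59350)
theorem F267964 : act 7 n59966 = n59293 := d14_2 (iv F263047) D59966 (iv D59293)
theorem F267965 : act 9 n59966 = n59313 := d16_2 (iv F263048) D59966 (iv D59313)
def n59967 : Q := act 2 n58751
theorem D59967 : act 2 n58751 = n59967 := rfl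
theorem F267966 : act 0 n59967 = n59298 := d1_1 D59967 (iv D59298) (iv F263049)
theorem F267967 : act 3 n59967 = n59388 := d17_2 D58751 D59967 (iv D59388) (iv D58195) (iv F258386)
theorem F267968 : act 5 n59967 = n58753 := d19_2 (iv F263051) D59967 (iv D58753)
theorem F267969 : act 7 n59967 = n59306 := d21_2 (iv F263052) D59967 (iv D59306)
theorem F267970 : act 8 n59967 = n58755 := d22_2 (iv F263053) D59967 (iv D58755)
def n59968 : Q := act 4 n58751
theorem D59968 : act 4 n58751 = n59968 := rfl
theorem F267971 : act 0 n59968 = n59299 := d3_1 D59968 (iv D59299) (iv F263049)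
theorem F267972 : act 1 n59968 = n58762 := d11_1 D59968 (iv D58762) (iv F263050)
theorem F267973 : act 3 n59968 = n59968 := d24_1 D59968 (iv D59968) (iv D58751) F258387 D58751
theorem F267974 : act 7 n59968 = n59307 := d32_2 (iv F263052) D59968 (iv D59307)
theorem F267975 : act 8 n59968 = n58756 := d33_2 (iv F263053) D59968 (iv D58756)
def n59969 : Q := act 2 n58752
theorem D59969 : act 2 n58752 = n59969 := rfl
theorem F267976 : act 3 n59969 = n58844 := d17_2 D58752 D59969 (iv D58844) (iv D57677) (iv F258391)
theorem F267977 : act 6 n59969 = n58845 := d20_2 (iv F263055) D59969 (iv D58845)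
theorem F267978 : act 7 n59969 = n59308 := d21_2 (iv F263056) D59969 (iv D59308)
theorem F267979 : act 9 n59969 = n58753 := d23_2 (iv F263057) D59969 (iv D58753)
def n59970 : Q := act 4 n58752
theorem D59970 : act 4 n58752 = n59970 := rfl
theorem F267980 : act 1 n59970 = n58764 := d11_1 D59970 (iv D58764) (iv F263054)
theorem F267981 : act 3 n59970 = n58791 := d24_1 D59970 (iv D58791) (iv D57624) (iv F258392) D58752
theorem F267982 : act 6 n59970 = n58846 := d31_2 (iv F263055) D59970 (iv D58846)
theorem F267983 : act 7 n59970 = n59309 := d32_2 (iv F263056) D59970 (iv D59309)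
theorem F267984 : act 9 n59970 = n58754 := d34_2 (iv F263057) D59970 (iv D58754)
def n59971 : Q := act 1 n58753
theorem D59971 : act 1 n58753 = n59971 := rfl
theorem F267985 : act 2 n59971 = n58765 := d9_2 D58753 D59971 (iv D58765) (iv D57596) (iv F258396)
theorem F267986 : act 3 n59971 = n59390 := d10_2 (iv F263058) D59971 (iv D59390)
theorem F267987 : act 6 n59971 = n59352 := d13_2 (iv F263059) D59971 (iv D59352)
theorem F267988 : act 7 n59971 = n59310 := d14_2 (iv F263060) D59971 (iv D59310)
theorem F267989 : act 8 n59971 = n58757 := d15_2 (iv F263061) D59971 (iv D58757)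
def n59972 : Q := act 4 n58753
theorem D59972 : act 4 n58753 = n59972 := rfl
theorem F267990 : act 2 n59972 = n58754 := d18_1 D59972 (iv D58754) D58753
theorem F267991 : act 3 n59972 = n59260 := d24_1 D59972 (iv D59260) (iv F263462) F263463 (iv F263058)
theorem F267992 : act 6 n59972 = n59353 := d31_2 (iv F263059) D59972 (iv D59353)
theorem F267993 : act 7 n59972 = n59311 := d32_2 (iv F263060) D59972 (iv D59311)
theorem F267994 : act 8 n59972 = n58758 := d33_2 (iv F263061) D59972 (iv D58758)
def n59973 : Q := act 5 n58754
theorem D59973 : act 5 n58754 = n59973 := rfl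
theorem F267995 : act 1 n59973 = n58767 := d12_1 D59973 (iv D58767) (iv F263062)
theorem F267996 : act 3 n59973 = n58786 := d25_1 D59973 F263161 (iv F263063)
theorem F267997 : act 6 n59973 = n58785 := d35_2 (iv F263064) D59973 F266921 F266917 F262207
theorem F267998 : act 7 n59973 = n59312 := d36_2 (iv F263065) D59973 (iv D59312)
theorem F267999 : act 8 n59973 = n58759 := d37_2 (iv F263066) D59973 (iv D58759)
def n59974 : Q := act 1 n58755
theorem D59974 : act 1 n58755 = n59974 := rfl
theorem F268000 : act 2 n59974 = n58770 := d9_2 D58755 D59974 (iv D58770) (iv D57599) (iv F258401)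
theorem F268001 : act 3 n59974 = n59291 := d10_2 (iv F263068) D59974 (iv D59291)
theorem F268002 : act 5 n59974 = n58757 := d12_2 (iv F263069) D59974 (iv D58757)
theorem F268003 : act 7 n59974 = n59313 := d14_2 (iv F263070) D59974 (iv D59313)
theorem F268004 : act 9 n59974 = n59293 := d16_2 (iv F263071) D59974 (iv D59293)
def n59975 : Q := act 4 n58755
theorem D59975 : act 4 n58755 = n59975 := rfl
theorem F268005 : act 0 n59975 = n59301 := d3_1 D59975 (iv D59301) (iv F263067)
theorem F268006 : act 2 n59975 = n58756 := d18_1 D59975 (iv D58756) D58755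
theorem F268007 : act 3 n59975 = n59325 := d24_1 D59975 (iv D59325) F260384 (iv F260306) (iv F263068)
theorem F268008 : act 7 n59975 = n59314 := d32_2 (iv F263070) D59975 (iv D59314)
theorem F268009 : act 9 n59975 = n59294 := d34_2 (iv F263071) D59975 (iv D59294)
def n59976 : Q := act 5 n58756
theorem D59976 : act 5 n58756 = n59976 := rfl
theorem F268010 : act 0 n59976 = n59302 := d4_1 D59976 (iv D59302) (iv F263072)
theorem F268011 : act 1 n59976 = n58772 := d12_1 D59976 (iv D58772) (iv F263073)
theorem F268012 : act 3 n59976 = n58783 := d25_1 D59976 (iv D58783) (iv F263074)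
theorem F268013 : act 4 n59976 = n58759 := d30_1 D59976 (iv D58759) (iv D57591) (iv F258402) D58756
theorem F268014 : act 6 n59976 = n58784 := d35_2 F267157 D59976 (iv F267534) F267535 (iv F267156)
theorem F268015 : act 7 n59976 = n59315 := d36_2 (iv F263075) D59976 (iv D59315)
theorem F268016 : act 9 n59976 = n59295 := d38_2 (iv F263076) D59976 (iv D59295)
def n59977 : Q := act 0 n58757
theorem D59977 : act 0 n58757 = n59977 := rfl
theorem F268017 : act 2 n59977 = n58773 := d1_2 (iv F263077) D59977 (iv D58773)
theorem F268018 : act 3 n59977 = n59304 := d2_2 (iv F263078) D59977 (iv D59304)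
theorem F268019 : act 6 n59977 = n59355 := d5_2 (iv F263079) D59977 (iv D59355)
theorem F268020 : act 7 n59977 = n59316 := d6_2 (iv F263080) D59977 (iv D59316)
def n59978 : Q := act 4 n58757
theorem D59978 : act 4 n58757 = n59978 := rfl
theorem F268021 : act 1 n59978 = n58758 := d11_1 D59978 (iv D58758) D58757
theorem F268022 : act 2 n59978 = n58774 := d18_1 D59978 (iv D58774) (iv F263077)
theorem F268023 : act 3 n59978 = n59349 := d24_1 D59978 (iv D59349) F260435 (iv F260341) (iv F263078)
theorem F268024 : act 6 n59978 = n59356 := d31_2 (iv F263079) D59978 (iv D59356)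
theorem F268025 : act 7 n59978 = n59317 := d32_2 (iv F263080) D59978 (iv D59317)
def n59979 : Q := act 5 n58758
theorem D59979 : act 5 n58758 = n59979 := rfl
theorem F268026 : act 2 n59979 = n58759 := d19_1 D59979 (iv D58759) (iv F263081)
theorem F268027 : act 3 n59979 = n58779 := d25_1 D59979 F263139 (iv F263082)
theorem F268028 : act 6 n59979 = n58782 := d35_2 (iv F263083) D59979 (iv F267409) F267410 (iv D59357)
theorem F268029 : act 7 n59979 = n59318 := d36_2 (iv F263084) D59979 (iv D59318)
def n59980 : Q := act 2 n58760
theorem D59980 : act 2 n58760 = n59980 := rfl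
theorem F268030 : act 3 n59980 = n59042 := d17_2 D58760 D59980 (iv D59042) (iv D57851) (iv F258418)
theorem F268031 : act 5 n59980 = n58763 := d19_2 (iv F263089) D59980 (iv D58763)
theorem F268032 : act 9 n59980 = n58761 := d23_2 (iv F263090) D59980 (iv D58761)
def n59981 : Q := act 4 n58760
theorem D59981 : act 4 n58760 = n59981 := rfl
theorem F268033 : act 3 n59981 = n59981 := d24_1 D59981 (iv D59981) (iv D58760) F258419 D58760
theorem F268034 : act 9 n59981 = n58762 := d34_2 (iv F263090) D59981 (iv D58762)
def n59982 : Q := act 1 n58761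
theorem D59982 : act 1 n58761 = n59982 := rfl
theorem F268035 : act 3 n59982 = n59044 := d10_2 (iv F263091) D59982 (iv D59044)
theorem F268036 : act 5 n59982 = n58765 := d12_2 (iv F263092) D59982 (iv D58765)
theorem F268037 : act 8 n59982 = n58770 := d15_2 (iv F263093) D59982 (iv D58770)
def n59983 : Q := act 4 n58761
theorem D59983 : act 4 n58761 = n59983 := rfl
theorem F268038 : act 2 n59983 = n58762 := d18_1 D59983 (iv D58762) D58761
theorem F268039 : act 8 n59983 = n58771 := d33_2 (iv F263093) D59983 (iv D58771)
def n59984 : Q := act 5 n58762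
theorem D59984 : act 5 n58762 = n59984 := rfl
theorem F268040 : act 3 n59984 = n59984 := d25_1 D59984 (iv D59984) F263094
theorem F268041 : act 4 n59984 = n58767 := d30_1 D59984 (iv D58767) (iv D57597) (iv F258422) D58762
theorem F268042 : act 8 n59984 = n58772 := d37_2 (iv F263095) D59984 (iv D58772)
def n59985 : Q := act 1 n58763
theorem D59985 : act 1 n58763 = n59985 := rfl
theorem F268043 : act 3 n59985 = n59047 := d10_2 (iv F263096) D59985 (iv D59047)
theorem F268044 : act 6 n59985 = n59358 := d13_2 (iv F263097) D59985 (iv D59358)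
theorem F268045 : act 9 n59985 = n58765 := d16_2 (iv F263098) D59985 (iv D58765)
def n59986 : Q := act 4 n58763
theorem D59986 : act 4 n58763 = n59986 := rfl
theorem F268046 : act 2 n59986 = n58764 := d18_1 D59986 (iv D58764) D58763
theorem F268047 : act 6 n59986 = n59359 := d31_2 (iv F263097) D59986 (iv D59359)
theorem F268048 : act 9 n59986 = n58766 := d34_2 (iv F263098) D59986 (iv D58766)
def n59987 : Q := act 5 n58764
theorem D59987 : act 5 n58764 = n59987 := rfl
theorem F268049 : act 3 n59987 = n58793 := d25_1 D59987 (iv D58793) (iv F263099)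
theorem F268050 : act 9 n59987 = n58767 := d38_2 (iv F263101) D59987 (iv D58767)
def n59988 : Q := act 0 n58765
theorem D59988 : act 0 n58765 = n59988 := rfl
theorem F268051 : act 3 n59988 = n59049 := d2_2 (iv F263102) D59988 (iv D59049)
theorem F268052 : act 6 n59988 = n59360 := d5_2 (iv F263103) D59988 (iv D59360)
theorem F268053 : act 8 n59988 = n58773 := d7_2 (iv F263104) D59988 (iv D58773)
def n59989 : Q := act 4 n58765
theorem D59989 : act 4 n58765 = n59989 := rfl
theorem F268054 : act 1 n59989 = n58766 := d11_1 D59989 (iv D58766) D58765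
theorem F268055 : act 6 n59989 = n59361 := d31_2 (iv F263103) D59989 (iv D59361)
theorem F268056 : act 8 n59989 = n58774 := d33_2 (iv F263104) D59989 (iv D58774)
def n59990 : Q := act 3 n58766
theorem D59990 : act 3 n58766 = n59990 := rfl
theorem F268057 : act 0 n59990 = n59432 := d2_1 D59990 (iv F266928) F266926
theorem F268058 : act 2 n59990 = n58794 := d17_1 D59990 (iv D58794) F258546 (iv F258429) (iv F263105)
theorem F268059 : act 4 n59990 = n59051 := d24_2 D58766 D59990 (iv D59051) (iv D57857) (iv F258426)
theorem F268060 : act 6 n59990 = n59236 := d26_2 (iv F263106) D59990 F264900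
theorem F268061 : act 8 n59990 = n59408 := d28_2 (iv F263107) D59990 (iv F267372) F267376 F262520
def n59991 : Q := act 5 n58766
theorem D59991 : act 5 n58766 = n59991 := rfl
theorem F268062 : act 2 n59991 = n58767 := d19_1 D59991 (iv D58767) (iv F263105)
theorem F268063 : act 8 n59991 = n58775 := d37_2 (iv F263107) D59991 (iv D58775)
def n59992 : Q := act 6 n58767
theorem D59992 : act 6 n58767 = n59992 := rfl
theorem F268064 : act 1 n59992 = n58785 := d13_1 D59992 (iv F267997) F267995
theorem F268065 : act 3 n59992 = n58788 := d26_1 D59992 F263175 (iv F263108)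
theorem F268066 : act 5 n59992 = n59021 := d35_1 D59992 F264130 F259523 (iv F258430) D58767
theorem F268067 : act 8 n59992 = n58776 := d40_2 (iv F263109) D59992 (iv D58776)
theorem F268068 : act 7 n59024 = n59992 := d42_3 F268067 (iv F267616) F267617
def n59993 : Q := act 1 n58768
theorem D59993 : act 1 n58768 = n59993 := rfl
theorem F268069 : act 3 n59993 = n58778 := d10_2 (iv F263110) D59993 (iv D58778)
theorem F268070 : act 5 n59993 = n59362 := d12_2 (iv F263111) D59993 (iv D59362)
theorem F268071 : act 6 n59993 = n58770 := d13_2 (iv F263112) D59993 (iv D58770)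
def n59994 : Q := act 4 n58768
theorem D59994 : act 4 n58768 = n59994 := rfl
theorem F268072 : act 0 n59994 = n59340 := d3_1 D59994 (iv F265578) F265576
theorem F268073 : act 2 n59994 = n58769 := d18_1 D59994 (iv D58769) D58768
theorem F268074 : act 5 n59994 = n59325 := d30_2 (iv F263111) D59994 (iv D59325) (iv F260908) F260907
theorem F268075 : act 6 n59994 = n58771 := d31_2 (iv F263112) D59994 (iv D58771)
theorem F268076 : act 9 n59994 = n59331 := d34_2 F265568 D59994 (iv F265563)
def n59995 : Q := act 0 n58770
theorem D59995 : act 0 n58770 = n59995 := rfl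
theorem F268077 : act 3 n59995 = n58780 := d2_2 (iv F263118) D59995 (iv D58780)
theorem F268078 : act 5 n59995 = n58773 := d4_2 (iv F263119) D59995 (iv D58773)
def n59996 : Q := act 4 n58770
theorem D59996 : act 4 n58770 = n59996 := rfl
theorem F268079 : act 1 n59996 = n58771 := d11_1 D59996 (iv D58771) D58770
def n59997 : Q := act 3 n58771
theorem D59997 : act 3 n58771 = n59997 := rfl
theorem F268080 : act 2 n59997 = n58784 := d17_1 D59997 (iv D58784) F258486 (iv F258436) (iv F263120)
theorem F268081 : act 4 n59997 = n58782 := d24_2 D58771 D59997 (iv D58782) (iv D57609) (iv F258434)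
def n59998 : Q := act 5 n58771
theorem D59998 : act 5 n58771 = n59998 := rfl
theorem F268082 : act 2 n59998 = n58772 := d19_1 D59998 (iv D58772) (iv F263120)
theorem F268083 : act 4 n59998 = n58775 := d30_1 D59998 (iv D58775) (iv D57602) (iv F258435) D58771
def n59999 : Q := act 4 n58773
theorem D59999 : act 4 n58773 = n59999 := rfl
theorem F268084 : act 0 n59999 = n58774 := d3_1 D59999 (iv D58774) D58773
theorem F268085 : act 6 n59999 = n59365 := d31_2 (iv F263124) D59999 (iv D59365)
def n60000 : Q := act 5 n58774
theorem D60000 : act 5 n58774 = n60000 := rfl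
theorem F268086 : act 1 n60000 = n58775 := d12_1 D60000 (iv D58775) (iv F263125)
def n60001 : Q := act 6 n58775
theorem D60001 : act 6 n58775 = n60001 := rfl
theorem F268087 : act 2 n60001 = n58776 := d20_1 D60001 (iv D58776) (iv F263127)
theorem F268088 : act 5 n60001 = n59367 := d35_1 D60001 (iv D59367) (iv D58174) (iv F258440) D58775
def n60002 : Q := act 1 n58777
theorem D60002 : act 1 n58777 = n60002 := rfl
theorem F268089 : act 4 n60002 = n59366 := d11_2 (iv F263131) D60002 F265203
theorem F268090 : act 5 n60002 = n59364 := d12_2 (iv F263132) D60002 F265199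
theorem F268091 : act 7 n60002 = n58778 := d14_2 (iv F263133) D60002 (iv D58778)
theorem F268092 : act 8 n60002 = n59064 := d15_2 (iv F263134) D60002 (iv D59064)
def n60003 : Q := act 0 n58778
theorem D60003 : act 0 n58778 = n60003 := rfl
theorem F268093 : act 5 n60003 = n59368 := d4_2 (iv F263135) D60003 (iv D59368)
theorem F268094 : act 6 n60003 = n58780 := d5_2 (iv F263136) D60003 (iv D58780)
theorem F268095 : act 8 n60003 = n59066 := d7_2 (iv F263137) D60003 (iv D59066)
def n60004 : Q := act 4 n58778
theorem D60004 : act 4 n58778 = n60004 := rfl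
theorem F268096 : act 1 n60004 = n58779 := d11_1 D60004 (iv D58779) D58778
theorem F268097 : act 5 n60004 = n59349 := d30_2 (iv F263135) D60004 (iv D59349) (iv F260900) F260899
theorem F268098 : act 6 n60004 = n58781 := d31_2 (iv F263136) D60004 (iv D58781)
theorem F268099 : act 7 n60004 = n59366 := d32_2 F268091 D60004 (iv F268089)
theorem F268100 : act 8 n60004 = n59067 := d33_2 (iv F263137) D60004 (iv D59067)
def n60005 : Q := act 4 n58780
theorem D60005 : act 4 n58780 = n60005 := rfl
theorem F268101 : act 0 n60005 = n58781 := d3_1 D60005 (iv D58781) D58780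
theorem F268102 : act 8 n60005 = n59069 := d33_2 (iv F263144) D60005 (iv D59069)
def n60006 : Q := act 3 n58781
theorem D60006 : act 3 n58781 = n60006 := rfl
theorem F268103 : act 1 n60006 = n58782 := d10_1 D60006 (iv D58782) (iv F263145)
def n60007 : Q := act 8 n58782
theorem D60007 : act 8 n58782 = n60007 := rfl
theorem F268104 : act 2 n60007 = n58785 := d22_1 D60007 (iv D58785) (iv F263147)
theorem F268105 : act 3 n60007 = n59071 := d28_1 D60007 (iv D59071) (iv D57874) (iv F258461) D58782
def n60008 : Q := act 8 n58784
theorem D60008 : act 8 n58784 = n60008 := rfl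
theorem F268106 : act 3 n60008 = n60008 := d28_1 D60008 (iv D60008) (iv D58784) F258487 D58784
theorem F268107 : act 4 n60008 = n58785 := d33_1 D60008 (iv D58785) (iv F263156)
def n60009 : Q := act 9 n58785
theorem D60009 : act 9 n58785 = n60009 := rfl
theorem F268108 : act 3 n60009 = n58789 := d29_1 D60009 (iv D58789) (iv F263157)
theorem F268109 : act 5 n60009 = n59446 := d38_1 D60009 (iv F266920) (iv F266921)
def n60010 : Q := act 9 n58786
theorem D60010 : act 9 n58786 = n60010 := rfl
theorem F268110 : act 1 n60010 = n58793 := d16_1 D60010 F263201 (iv F263158)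
theorem F268111 : act 2 n60010 = n59098 := d23_1 D60010 (iv D59098) (iv F263159)
theorem F268112 : act 4 n60010 = n60010 := d34_1 D60010 (iv D60010) F263160
theorem F268113 : act 5 n60010 = n58791 := d38_1 D60010 F263192 (iv F263161)
theorem F268114 : act 6 n60010 = n58789 := d41_1 D60010 (iv D58789) (iv F263162)
theorem F268115 : act 7 n60010 = n59321 := d43_1 D60010 F265112 (iv F263163)
theorem F268116 : act 8 n60010 = n60010 := d44_1 D60010 (iv D60010) (iv D58786) F258496 D58786
def n60011 : Q := act 8 n58787
theorem D60011 : act 8 n58787 = n60011 := rfl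
theorem F268117 : act 0 n60011 = n59094 := d7_1 D60011 (iv D59094) (iv F263164)
theorem F268118 : act 1 n60011 = n59101 := d15_1 D60011 (iv D59101) (iv F263165)
theorem F268119 : act 2 n60011 = n58788 := d22_1 D60011 (iv D58788) D58787
theorem F268120 : act 4 n60011 = n60011 := d33_1 D60011 (iv D60011) F263167
theorem F268121 : act 5 n60011 = n59076 := d37_1 D60011 F264291 (iv F263168)
theorem F268122 : act 6 n60011 = n58795 := d40_1 D60011 F263212 (iv F263169)
theorem F268123 : act 7 n60011 = n58941 := d42_1 D60011 F263824 (iv F263170)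
def n60012 : Q := act 9 n58788
theorem D60012 : act 9 n58788 = n60012 := rfl
theorem F268124 : act 1 n60012 = n58789 := d16_1 D60012 (iv D58789) (iv F263172)
theorem F268125 : act 4 n60012 = n60012 := d34_1 D60012 (iv D60012) F263173
theorem F268126 : act 5 n60012 = n58980 := d38_1 D60012 F263979 (iv F263174)
theorem F268127 : act 6 n60012 = n58793 := d41_1 D60012 F263201 (iv F263175)
theorem F268128 : act 7 n60012 = n58983 := d43_1 D60012 F263993 (iv F263176)
theorem F268129 : act 8 n60012 = n60012 := d44_1 D60012 (iv D60012) (iv D58788) F258502 D58788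
def n60013 : Q := act 3 n58792
theorem D60013 : act 3 n58792 = n60013 := rfl
theorem F268130 : act 0 n60013 = n59430 := d2_1 D60013 F265341 (iv F263193)
theorem F268131 : act 1 n60013 = n59198 := d10_1 D60013 F264784 (iv F263194)
theorem F268132 : act 4 n60013 = n59102 := d24_2 D58792 D60013 (iv D59102) (iv D57911) (iv F258536)
theorem F268133 : act 6 n60013 = n59203 := d26_2 (iv F263196) D60013 F264804
theorem F268134 : act 9 n60013 = n58794 := d29_2 (iv F263198) D60013 (iv D58794)
def n60014 : Q := act 5 n58792
theorem D60014 : act 5 n58792 = n60014 := rfl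
theorem F268135 : act 0 n60014 = n59097 := d4_1 D60014 F264373 (iv F263193)
theorem F268136 : act 1 n60014 = n59199 := d12_1 D60014 (iv D59199) (iv F263194)
theorem F268137 : act 2 n60014 = n58793 := d19_1 D60014 (iv D58793) (iv F263195)
theorem F268138 : act 4 n60014 = n60014 := d30_1 D60014 (iv D60014) (iv D58792) F258537 D58792
theorem F268139 : act 7 n60014 = n58914 := d36_2 F266212 D60014 F266215
theorem F268140 : act 8 n60014 = n60014 := d37_2 F263197 D60014 (iv D60014)
theorem F268141 : act 9 n60014 = n58795 := d38_2 (iv F263198) D60014 (iv D58795)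
def n60015 : Q := act 5 n58794
theorem D60015 : act 5 n58794 = n60015 := rfl
theorem F268142 : act 0 n60015 = n59082 := d4_1 D60015 F264314 (iv F263202)
theorem F268143 : act 1 n60015 = n59229 := d12_1 D60015 (iv D59229) (iv F263203)
theorem F268144 : act 3 n60015 = n58795 := d25_1 D60015 (iv D58795) D58794
theorem F268145 : act 7 n60015 = n58912 := d36_2 F266040 D60015 F266042
theorem F268146 : act 8 n60015 = n58910 := d37_2 (iv F263206) D60015 F263705
def n60016 : Q := act 1 n58796
theorem D60016 : act 1 n58796 = n60016 := rfl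
theorem F268147 : act 2 n60016 = n58801 := d9_2 D58796 D60016 (iv D58801) (iv D57636) (iv F258559)
theorem F268148 : act 4 n60016 = n58847 := d11_2 (iv F263214) D60016 (iv D58847)
theorem F268149 : act 7 n60016 = n58799 := d14_2 (iv F263215) D60016 (iv D58799)
theorem F268150 : act 9 n60016 = n59387 := d16_2 (iv F263216) D60016 (iv D59387)
def n60017 : Q := act 1 n58797
theorem D60017 : act 1 n58797 = n60017 := rfl
theorem F268151 : act 2 n60017 = n59063 := d9_2 D58797 D60017 F264250 F259517 (iv F258564)
theorem F268152 : act 3 n60017 = n58799 := d10_2 (iv F263218) D60017 (iv D58799)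
theorem F268153 : act 5 n60017 = n59037 := d12_2 (iv F263219) D60017 F264170
theorem F268154 : act 6 n60017 = n59178 := d13_2 (iv F263220) D60017 (iv D59178)
theorem F268155 : act 8 n60017 = n59471 := d15_2 (iv F263221) D60017 (iv D59471)
theorem F268156 : act 9 n60017 = n59135 := d16_2 (iv F263222) D60017 (iv D59135)
def n60018 : Q := act 4 n58797
theorem D60018 : act 4 n58797 = n60018 := rfl
theorem F268157 : act 0 n60018 = n59281 := d3_1 D60018 (iv D59281) (iv F263217)
theorem F268158 : act 2 n60018 = n58798 := d18_1 D60018 (iv D58798) D58797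
theorem F268159 : act 3 n60018 = n58851 := d24_1 D60018 (iv D58851) F258775 (iv F258577) (iv F263218)
theorem F268160 : act 5 n60018 = n59035 := d30_2 (iv F263219) D60018 (iv D59035) F259451 D57847
theorem F268161 : act 6 n60018 = n59179 := d31_2 (iv F263220) D60018 (iv D59179)
theorem F268162 : act 8 n60018 = n59472 := d33_2 (iv F263221) D60018 (iv D59472)
theorem F268163 : act 9 n60018 = n59136 := d34_2 (iv F263222) D60018 (iv D59136)
def n60019 : Q := act 0 n58799
theorem D60019 : act 0 n58799 = n60019 := rfl
theorem F268164 : act 1 n60019 = n59287 := d0_2 D58799 D60019 (iv D59287) (iv D58087) (iv F258576)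
theorem F268165 : act 2 n60019 = n58804 := d1_2 (iv F263230) D60019 (iv D58804)
theorem F268166 : act 4 n60019 = n58852 := d3_2 (iv F263231) D60019 (iv D58852)
theorem F268167 : act 6 n60019 = n59183 := d5_2 (iv F263232) D60019 (iv D59183)
theorem F268168 : act 9 n60019 = n59401 := d8_2 (iv F263233) D60019 (iv D59401)
def n60020 : Q := act 1 n58800
theorem D60020 : act 1 n58800 = n60020 := rfl
theorem F268169 : act 3 n60020 = n59374 := d10_2 (iv F263235) D60020 (iv D59374)
theorem F268170 : act 4 n60020 = n58879 := d11_2 (iv F263236) D60020 (iv D58879)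
theorem F268171 : act 6 n60020 = n58801 := d13_2 (iv F263237) D60020 (iv D58801)
theorem F268172 : act 7 n60020 = n59371 := d14_2 (iv F263238) D60020 (iv D59371)
theorem F268173 : act 9 n60020 = n59379 := d16_2 (iv F263239) D60020 (iv D59379)
def n60021 : Q := act 0 n58801
theorem D60021 : act 0 n58801 = n60021 := rfl
theorem F268174 : act 1 n60021 = n58828 := d0_2 D58801 D60021 (iv D58828) (iv D57660) (iv F258585)
theorem F268175 : act 3 n60021 = n59375 := d2_2 (iv F263240) D60021 (iv D59375)
theorem F268176 : act 4 n60021 = n58890 := d3_2 (iv F263241) D60021 (iv D58890)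
theorem F268177 : act 7 n60021 = n58804 := d6_2 (iv F263242) D60021 (iv D58804)
theorem F268178 : act 9 n60021 = n59393 := d8_2 (iv F263243) D60021 (iv D59393)
def n60022 : Q := act 0 n58802
theorem D60022 : act 0 n58802 = n60022 := rfl
theorem F268179 : act 1 n60022 = n58837 := d0_2 D58802 D60022 (iv D58837) (iv D57668) (iv F258590)
theorem F268180 : act 3 n60022 = n59376 := d2_2 (iv F263244) D60022 (iv D59376)
theorem F268181 : act 5 n60022 = n58804 := d4_2 (iv F263245) D60022 (iv D58804)
theorem F268182 : act 9 n60022 = n59405 := d8_2 (iv F263246) D60022 (iv D59405)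
def n60023 : Q := act 4 n58802
theorem D60023 : act 4 n58802 = n60023 := rfl
theorem F268183 : act 1 n60023 = n58803 := d11_1 D60023 (iv D58803) D58802
theorem F268184 : act 5 n60023 = n58903 := d30_2 (iv F263245) D60023 (iv D58903) F258983 (iv F258599)
theorem F268185 : act 9 n60023 = n59406 := d34_2 (iv F263246) D60023 (iv D59406)
def n60024 : Q := act 2 n58805
theorem D60024 : act 2 n58805 = n60024 := rfl
theorem F268186 : act 0 n60024 = n59388 := d1_1 D60024 (iv D59388) (iv F263256)
theorem F268187 : act 3 n60024 = n59298 := d17_2 D58805 D60024 (iv D59298) (iv D58105) (iv F258603)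
theorem F268188 : act 5 n60024 = n58806 := d19_2 (iv F263257) D60024 (iv D58806)
theorem F268189 : act 7 n60024 = n58810 := d21_2 (iv F263258) D60024 (iv D58810)
theorem F268190 : act 8 n60024 = n58815 := d22_2 (iv F263259) D60024 (iv D58815)
def n60025 : Q := act 4 n58805
theorem D60025 : act 4 n58805 = n60025 := rfl
theorem F268191 : act 0 n60025 = n59389 := d3_1 D60025 (iv D59389) (iv F263256)
theorem F268192 : act 3 n60025 = n60025 := d24_1 D60025 (iv D60025) (iv D58805) F258604 D58805
theorem F268193 : act 5 n60025 = n58921 := d30_2 (iv F263257) D60025 (iv D58921) F259068 (iv F258608)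
theorem F268194 : act 7 n60025 = n58811 := d32_2 (iv F263258) D60025 (iv D58811)
theorem F268195 : act 8 n60025 = n58816 := d33_2 (iv F263259) D60025 (iv D58816)
def n60026 : Q := act 1 n58806
theorem D60026 : act 1 n58806 = n60026 := rfl
theorem F268196 : act 4 n60026 = n58922 := d11_2 (iv F263261) D60026 (iv D58922)
theorem F268197 : act 7 n60026 = n58812 := d14_2 (iv F263262) D60026 (iv D58812)
theorem F268198 : act 8 n60026 = n58817 := d15_2 (iv F263263) D60026 (iv D58817)
def n60027 : Q := act 1 n58807
theorem D60027 : act 1 n58807 = n60027 := rfl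
theorem F268199 : act 3 n60027 = n58812 := d10_2 (iv F263265) D60027 (iv D58812)
theorem F268200 : act 6 n60027 = n58826 := d13_2 (iv F263266) D60027 (iv D58826)
theorem F268201 : act 8 n60027 = n59293 := d15_2 (iv F263267) D60027 (iv D59293)
def n60028 : Q := act 4 n58807
theorem D60028 : act 4 n58807 = n60028 := rfl
theorem F268202 : act 0 n60028 = n59311 := d3_1 D60028 (iv D59311) (iv F263264)
theorem F268203 : act 2 n60028 = n58808 := d18_1 D60028 (iv D58808) D58807
theorem F268204 : act 3 n60028 = n58939 := d24_1 D60028 (iv D58939) F259129 (iv F258622) (iv F263265)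
theorem F268205 : act 6 n60028 = n58827 := d31_2 (iv F263266) D60028 (iv D58827)
theorem F268206 : act 8 n60028 = n59294 := d33_2 (iv F263267) D60028 (iv D59294)
def n60029 : Q := act 5 n58808
theorem D60029 : act 5 n58808 = n60029 := rfl
theorem F268207 : act 0 n60029 = n59312 := d4_1 D60029 (iv D59312) (iv F263268)
theorem F268208 : act 3 n60029 = n58809 := d25_1 D60029 (iv D58809) (iv F263269)
theorem F268209 : act 6 n60029 = n59024 := d35_2 (iv F263270) D60029 (iv D59024) F259427 (iv F258689)
theorem F268210 : act 8 n60029 = n59295 := d37_2 (iv F263271) D60029 (iv D59295)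
def n60030 : Q := act 1 n58810
theorem D60030 : act 1 n58810 = n60030 := rfl
theorem F268211 : act 5 n60030 = n58812 := d12_2 (iv F263278) D60030 (iv D58812)
theorem F268212 : act 8 n60030 = n58818 := d15_2 (iv F263279) D60030 (iv D58818)
def n60031 : Q := act 4 n58810
theorem D60031 : act 4 n58810 = n60031 := rfl
theorem F268213 : act 0 n60031 = n59403 := d3_1 D60031 (iv D59403) (iv F263277)
theorem F268214 : act 2 n60031 = n58811 := d18_1 D60031 (iv D58811) D58810
theorem F268215 : act 5 n60031 = n58945 := d30_2 (iv F263278) D60031 (iv D58945) F259140 (iv F258622)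
theorem F268216 : act 8 n60031 = n58819 := d33_2 (iv F263279) D60031 (iv D58819)
def n60032 : Q := act 0 n58812
theorem D60032 : act 0 n58812 = n60032 := rfl
theorem F268217 : act 1 n60032 = n59404 := d0_2 D58812 D60032 (iv D59404) (iv D58210) (iv F258621)
theorem F268218 : act 4 n60032 = n58946 := d3_2 (iv F263284) D60032 (iv D58946)
theorem F268219 : act 6 n60032 = n59373 := d5_2 (iv F263285) D60032 (iv D59373)
theorem F268220 : act 8 n60032 = n58820 := d7_2 (iv F263286) D60032 (iv D58820)
def n60033 : Q := act 2 n58813
theorem D60033 : act 2 n58813 = n60033 := rfl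
theorem F268221 : act 0 n60033 = n59377 := d1_1 D60033 (iv D59377) (iv F263287)
theorem F268222 : act 3 n60033 = n59369 := d17_2 D58813 D60033 (iv D59369) (iv D58178) (iv F258627)
theorem F268223 : act 5 n60033 = n58814 := d19_2 (iv F263289) D60033 (iv D58814)
theorem F268224 : act 7 n60033 = n58848 := d21_2 (iv F263290) D60033 (iv D58848)
theorem F268225 : act 8 n60033 = n58845 := d22_2 (iv F263291) D60033 (iv D58845)
theorem F268226 : act 9 n60033 = n58822 := d23_2 (iv F263292) D60033 (iv D58822)
def n60034 : Q := act 4 n58813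
theorem D60034 : act 4 n58813 = n60034 := rfl
theorem F268227 : act 0 n60034 = n59378 := d3_1 D60034 (iv D59378) (iv F263287)
theorem F268228 : act 1 n60034 = n59335 := d11_1 D60034 (iv D59335) (iv F263288)
theorem F268229 : act 3 n60034 = n60034 := d24_1 D60034 (iv D60034) (iv D58813) F258628 D58813
theorem F268230 : act 5 n60034 = n58950 := d30_2 (iv F263289) D60034 (iv D58950) F259157 (iv F258633)
theorem F268231 : act 7 n60034 = n58849 := d32_2 (iv F263290) D60034 (iv D58849)
theorem F268232 : act 8 n60034 = n58846 := d33_2 (iv F263291) D60034 (iv D58846)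
theorem F268233 : act 9 n60034 = n58823 := d34_2 (iv F263292) D60034 (iv D58823)
def n60035 : Q := act 1 n58814
theorem D60035 : act 1 n58814 = n60035 := rfl
theorem F268234 : act 3 n60035 = n59371 := d10_2 (iv F263294) D60035 (iv D59371)
theorem F268235 : act 4 n60035 = n58951 := d11_2 (iv F263295) D60035 (iv D58951)
theorem F268236 : act 6 n60035 = n58817 := d13_2 (iv F263296) D60035 (iv D58817)
theorem F268237 : act 7 n60035 = n59374 := d14_2 (iv F263297) D60035 (iv D59374)
theorem F268238 : act 9 n60035 = n58824 := d16_2 (iv F263298) D60035 (iv D58824)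
def n60036 : Q := act 1 n58815
theorem D60036 : act 1 n58815 = n60036 := rfl
theorem F268239 : act 3 n60036 = n59139 := d10_2 (iv F263300) D60036 (iv D59139)
theorem F268240 : act 5 n60036 = n58817 := d12_2 (iv F263301) D60036 (iv D58817)
theorem F268241 : act 7 n60036 = n58818 := d14_2 (iv F263302) D60036 (iv D58818)
theorem F268242 : act 9 n60036 = n58826 := d16_2 (iv F263303) D60036 (iv D58826)
def n60037 : Q := act 4 n58815
theorem D60037 : act 4 n58815 = n60037 := rfl
theorem F268243 : act 0 n60037 = n59392 := d3_1 D60037 (iv D59392) (iv F263299)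
theorem F268244 : act 2 n60037 = n58816 := d18_1 D60037 (iv D58816) D58815
theorem F268245 : act 3 n60037 = n59246 := d24_1 D60037 (iv D59246) F260189 (iv F259854) (iv F263300)
theorem F268246 : act 5 n60037 = n58960 := d30_2 (iv F263301) D60037 (iv D58960) F259196 (iv F258643)
theorem F268247 : act 7 n60037 = n58819 := d32_2 (iv F263302) D60037 (iv D58819)
theorem F268248 : act 9 n60037 = n58827 := d34_2 (iv F263303) D60037 (iv D58827)
def n60038 : Q := act 0 n58817
theorem D60038 : act 0 n58817 = n60038 := rfl
theorem F268249 : act 1 n60038 = n59393 := d0_2 D58817 D60038 (iv D59393) (iv D58199) (iv F258641)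
theorem F268250 : act 3 n60038 = n59372 := d2_2 (iv F263309) D60038 (iv D59372)
theorem F268251 : act 4 n60038 = n58961 := d3_2 (iv F263310) D60038 (iv D58961)
theorem F268252 : act 7 n60038 = n58820 := d6_2 (iv F263311) D60038 (iv D58820)
theorem F268253 : act 9 n60038 = n58828 := d8_2 (iv F263312) D60038 (iv D58828)
def n60039 : Q := act 0 n58818
theorem D60039 : act 0 n58818 = n60039 := rfl
theorem F268254 : act 1 n60039 = n59405 := d0_2 D58818 D60039 (iv D59405) (iv D58211) (iv F258646)
theorem F268255 : act 3 n60039 = n59140 := d2_2 (iv F263313) D60039 (iv D59140)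
theorem F268256 : act 5 n60039 = n58820 := d4_2 (iv F263314) D60039 (iv D58820)
theorem F268257 : act 9 n60039 = n58837 := d8_2 (iv F263315) D60039 (iv D58837)
def n60040 : Q := act 4 n58818
theorem D60040 : act 4 n58818 = n60040 := rfl
theorem F268258 : act 1 n60040 = n58819 := d11_1 D60040 (iv D58819) D58818
theorem F268259 : act 3 n60040 = n59283 := d24_1 D60040 (iv D59283) F260262 (iv F259860) (iv F263313)
theorem F268260 : act 5 n60040 = n58977 := d30_2 (iv F263314) D60040 (iv D58977) F259261 (iv F258655)
theorem F268261 : act 9 n60040 = n58838 := d34_2 (iv F263315) D60040 (iv D58838)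
def n60041 : Q := act 1 n58821
theorem D60041 : act 1 n58821 = n60041 := rfl
theorem F268262 : act 2 n60041 = n58861 := d9_2 D58821 D60041 (iv D58861) (iv D57691) (iv F258665)
theorem F268263 : act 3 n60041 = n58824 := d10_2 (iv F263327) D60041 (iv D58824)
theorem F268264 : act 4 n60041 = n59398 := d11_2 (iv F263328) D60041 (iv D59398)
theorem F268265 : act 6 n60041 = n58825 := d13_2 (iv F263329) D60041 (iv D58825)
theorem F268266 : act 7 n60041 = n59379 := d14_2 (iv F263330) D60041 (iv D59379)
theorem F268267 : act 8 n60041 = n58843 := d15_2 (iv F263331) D60041 (iv D58843)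
theorem F268268 : act 9 n60041 = n59371 := d16_2 (iv F263332) D60041 (iv D59371)
def n60042 : Q := act 1 n58822
theorem D60042 : act 1 n58822 = n60042 := rfl
theorem F268269 : act 2 n60042 = n59336 := d9_2 D58822 D60042 (iv D59336) (iv D58141) (iv F258671)
theorem F268270 : act 5 n60042 = n58824 := d12_2 (iv F263333) D60042 (iv D58824)
theorem F268271 : act 7 n60042 = n59382 := d14_2 (iv F263334) D60042 (iv D59382)
theorem F268272 : act 8 n60042 = n59332 := d15_2 (iv F263335) D60042 (iv D59332)
def n60043 : Q := act 4 n58822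
theorem D60043 : act 4 n58822 = n60043 := rfl
theorem F268273 : act 2 n60043 = n58823 := d18_1 D60043 (iv D58823) D58822
theorem F268274 : act 5 n60043 = n59001 := d30_2 (iv F263333) D60043 (iv D59001) F259365 (iv F258675)
theorem F268275 : act 7 n60043 = n59383 := d32_2 (iv F263334) D60043 (iv D59383)
theorem F268276 : act 8 n60043 = n59333 := d33_2 (iv F263335) D60043 (iv D59333)
def n60044 : Q := act 0 n58824
theorem D60044 : act 0 n58824 = n60044 := rfl
theorem F268277 : act 4 n60044 = n59002 := d3_2 (iv F263341) D60044 (iv D59002)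
theorem F268278 : act 6 n60044 = n58828 := d5_2 (iv F263342) D60044 (iv D58828)
theorem F268279 : act 7 n60044 = n59384 := d6_2 (iv F263343) D60044 (iv D59384)
def n60045 : Q := act 0 n58825
theorem D60045 : act 0 n58825 = n60045 := rfl
theorem F268280 : act 1 n60045 = n59375 := d0_2 D58825 D60045 (iv D59375) (iv D58184) (iv F258678)
theorem F268281 : act 2 n60045 = n59409 := d1_2 (iv F263344) D60045 (iv D59409)
theorem F268282 : act 3 n60045 = n58828 := d2_2 (iv F263345) D60045 (iv D58828)
theorem F268283 : act 4 n60045 = n59410 := d3_2 (iv F263346) D60045 (iv D59410)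
theorem F268284 : act 5 n60045 = n59373 := d4_2 (iv F263347) D60045 (iv D59373)
theorem F268285 : act 7 n60045 = n58832 := d6_2 (iv F263348) D60045 (iv D58832)
theorem F268286 : act 8 n60045 = n59376 := d7_2 (iv F263349) D60045 (iv D59376)
theorem F268287 : act 9 n60045 = n59372 := d8_2 (iv F263350) D60045 (iv D59372)
def n60046 : Q := act 0 n58826
theorem D60046 : act 0 n58826 = n60046 := rfl
theorem F268288 : act 3 n60046 = n59373 := d2_2 (iv F263351) D60046 (iv D59373)
theorem F268289 : act 5 n60046 = n58828 := d4_2 (iv F263352) D60046 (iv D58828)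
theorem F268290 : act 7 n60046 = n58837 := d6_2 (iv F263353) D60046 (iv D58837)
def n60047 : Q := act 4 n58826
theorem D60047 : act 4 n58826 = n60047 := rfl
theorem F268291 : act 1 n60047 = n58827 := d11_1 D60047 (iv D58827) D58826
theorem F268292 : act 3 n60047 = n59434 := d24_1 D60047 (iv D59434) F260609 (iv F260485) (iv F263351)
theorem F268293 : act 5 n60047 = n59026 := d30_2 (iv F263352) D60047 (iv D59026) F259428 (iv F258691)
theorem F268294 : act 7 n60047 = n58838 := d32_2 (iv F263353) D60047 (iv D58838)
def n60048 : Q := act 0 n58829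
theorem D60048 : act 0 n58829 = n60048 := rfl
theorem F268295 : act 1 n60048 = n59224 := d0_2 D58829 D60048 (iv D59224) (iv D58033) (iv F258693)
theorem F268296 : act 2 n60048 = n58832 := d1_2 (iv F263360) D60048 (iv D58832)
theorem F268297 : act 4 n60048 = n59376 := d3_2 (iv F263361) D60048 (iv D59376)
theorem F268298 : act 5 n60048 = n59145 := d4_2 (iv F263362) D60048 (iv D59145)
theorem F268299 : act 6 n60048 = n59401 := d5_2 (iv F263363) D60048 (iv D59401)
theorem F268300 : act 7 n60048 = n59409 := d6_2 (iv F263364) D60048 (iv D59409)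
theorem F268301 : act 8 n60048 = n59410 := d7_2 (iv F263365) D60048 (iv D59410)
theorem F268302 : act 9 n60048 = n59183 := d8_2 (iv F263366) D60048 (iv D59183)
def n60049 : Q := act 0 n58830
theorem D60049 : act 0 n58830 = n60049 := rfl
theorem F268303 : act 1 n60049 = n59373 := d0_2 D58830 D60049 (iv D59373) (iv D58182) (iv F258700)
theorem F268304 : act 2 n60049 = n59410 := d1_2 (iv F263367) D60049 (iv D59410)
theorem F268305 : act 4 n60049 = n59409 := d3_2 (iv F263368) D60049 (iv D59409)
theorem F268306 : act 5 n60049 = n59375 := d4_2 (iv F263369) D60049 (iv D59375)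
theorem F268307 : act 6 n60049 = n59404 := d5_2 (iv F263370) D60049 (iv D59404)
theorem F268308 : act 7 n60049 = n59376 := d6_2 (iv F263371) D60049 (iv D59376)
theorem F268309 : act 8 n60049 = n58832 := d7_2 (iv F263372) D60049 (iv D58832)
theorem F268310 : act 9 n60049 = n59395 := d8_2 (iv F263373) D60049 (iv D59395)
def n60050 : Q := act 0 n58831
theorem D60050 : act 0 n58831 = n60050 := rfl
theorem F268311 : act 1 n60050 = n59376 := d0_2 D58831 D60050 (iv D59376) (iv D58185) (iv F258707)
theorem F268312 : act 2 n60050 = n59145 := d1_2 (iv F263374) D60050 (iv D59145)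
theorem F268313 : act 3 n60050 = n58837 := d2_2 (iv F263375) D60050 (iv D58837)
theorem F268314 : act 4 n60050 = n59224 := d3_2 (iv F263376) D60050 (iv D59224)
theorem F268315 : act 5 n60050 = n58832 := d4_2 (iv F263377) D60050 (iv D58832)
theorem F268316 : act 7 n60050 = n59373 := d6_2 (iv F263378) D60050 (iv D59373)
theorem F268317 : act 8 n60050 = n59375 := d7_2 (iv F263379) D60050 (iv D59375)
theorem F268318 : act 9 n60050 = n59140 := d8_2 (iv F263380) D60050 (iv D59140)
def n60051 : Q := act 1 n58833
theorem D60051 : act 1 n58833 = n60051 := rfl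
theorem F268319 : act 2 n60051 = n58888 := d9_2 D58833 D60051 (iv D58888) (iv D57714) (iv F258719)
theorem F268320 : act 5 n60051 = n58847 := d12_2 (iv F263387) D60051 (iv D58847)
theorem F268321 : act 7 n60051 = n58835 := d14_2 (iv F263388) D60051 (iv D58835)
theorem F268322 : act 8 n60051 = n59350 := d15_2 (iv F263389) D60051 (iv D59350)
def n60052 : Q := act 4 n58833
theorem D60052 : act 4 n58833 = n60052 := rfl
theorem F268323 : act 0 n60052 = n59353 := d3_1 D60052 (iv D59353) (iv F263386)
theorem F268324 : act 2 n60052 = n58834 := d18_1 D60052 (iv D58834) D58833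
theorem F268325 : act 7 n60052 = n58836 := d32_2 (iv F263388) D60052 (iv D58836)
theorem F268326 : act 8 n60052 = n59351 := d33_2 (iv F263389) D60052 (iv D59351)
def n60053 : Q := act 0 n58835
theorem D60053 : act 0 n58835 = n60053 := rfl
theorem F268327 : act 2 n60053 = n58902 := d1_2 (iv F263395) D60053 (iv D58902)
theorem F268328 : act 5 n60053 = n58852 := d4_2 (iv F263396) D60053 (iv D58852)
theorem F268329 : act 6 n60053 = n58837 := d5_2 (iv F263397) D60053 (iv D58837)
def n60054 : Q := act 4 n58835
theorem D60054 : act 4 n58835 = n60054 := rfl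
theorem F268330 : act 1 n60054 = n58836 := d11_1 D60054 (iv D58836) D58835
theorem F268331 : act 2 n60054 = n58903 := d18_1 D60054 (iv D58903) (iv F263395)
theorem F268332 : act 6 n60054 = n58838 := d31_2 (iv F263397) D60054 (iv D58838)
def n60055 : Q := act 4 n58837
theorem D60055 : act 4 n58837 = n60055 := rfl
theorem F268333 : act 0 n60055 = n58838 := d3_1 D60055 (iv D58838) D58837
theorem F268334 : act 5 n60055 = n59069 := d30_2 (iv F263400) D60055 (iv D59069) F259530 (iv F258731)
def n60056 : Q := act 3 n58838
theorem D60056 : act 3 n58838 = n60056 := rfl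
theorem F268335 : act 1 n60056 = n58839 := d10_1 D60056 (iv D58839) (iv F263401)
theorem F268336 : act 4 n60056 = n59220 := d24_2 D58838 D60056 F264857 (iv F263376) F263375
theorem F268337 : act 5 n60056 = n59070 := d25_2 (iv F263402) D60056 (iv D59070)
theorem F268338 : act 7 n60056 = n59434 := d27_2 F268294 D60056 (iv F268292)
theorem F268339 : act 9 n60056 = n59283 := d29_2 F268261 D60056 (iv F268259)
def n60057 : Q := act 8 n58839
theorem D60057 : act 8 n58839 = n60057 := rfl
theorem F268340 : act 2 n60057 = n58840 := d22_1 D60057 (iv D58840) (iv F263403)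
theorem F268341 : act 4 n60057 = n59215 := d33_1 D60057 F264848 (iv F263404)
theorem F268342 : act 5 n60057 = n59071 := d37_1 D60057 (iv D59071) (iv F263405)
theorem F268343 : act 7 n60057 = n59432 := d42_1 D60057 F265346 (iv F263406)
def n60058 : Q := act 9 n58840
theorem D60058 : act 9 n58840 = n60058 := rfl
theorem F268344 : act 1 n60058 = n59015 := d16_1 D60058 (iv F267052) F267047
theorem F268345 : act 3 n60058 = n58841 := d29_1 D60058 (iv D58841) (iv F263408)
theorem F268346 : act 4 n60058 = n58891 := d34_1 D60058 F263629 (iv F263409)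
theorem F268347 : act 5 n60058 = n59090 := d38_1 D60058 (iv D59090) (iv F263410)
theorem F268348 : act 6 n60058 = n59005 := d41_1 D60058 (iv F266872) F266869
theorem F268349 : act 7 n60058 = n59430 := d43_1 D60058 F265342 (iv F263411)
theorem F268350 : act 8 n60058 = n59269 := d44_1 D60058 F264994 F260248 (iv F258740) D58840
def n60059 : Q := act 1 n58842
theorem D60059 : act 1 n58842 = n60059 := rfl
theorem F268351 : act 2 n60059 = n58867 := d9_2 D58842 D60059 (iv D58867) (iv D57696) (iv F258750)
theorem F268352 : act 3 n60059 = n59352 := d10_2 (iv F263419) D60059 (iv D59352)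
theorem F268353 : act 4 n60059 = n59387 := d11_2 (iv F263420) D60059 (iv D59387)
theorem F268354 : act 6 n60059 = n59390 := d13_2 (iv F263421) D60059 (iv D59390)
theorem F268355 : act 7 n60059 = n58843 := d14_2 (iv F263422) D60059 (iv D58843)
theorem F268356 : act 8 n60059 = n59379 := d15_2 (iv F263423) D60059 (iv D59379)
theorem F268357 : act 9 n60059 = n58847 := d16_2 (iv F263424) D60059 (iv D58847)
def n60060 : Q := act 0 n58843
theorem D60060 : act 0 n58843 = n60060 := rfl
theorem F268358 : act 2 n60060 = n58870 := d1_2 (iv F263425) D60060 (iv D58870)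
theorem F268359 : act 4 n60060 = n59401 := d3_2 (iv F263426) D60060 (iv D59401)
theorem F268360 : act 6 n60060 = n59376 := d5_2 (iv F263427) D60060 (iv D59376)
theorem F268361 : act 9 n60060 = n58852 := d8_2 (iv F263428) D60060 (iv D58852)
def n60061 : Q := act 1 n58844
theorem D60061 : act 1 n58844 = n60061 := rfl
theorem F268362 : act 2 n60061 = n58879 := d9_2 D58844 D60061 (iv D58879) (iv D57707) (iv F258759)
theorem F268363 : act 6 n60061 = n58847 := d13_2 (iv F263429) D60061 (iv D58847)
theorem F268364 : act 7 n60061 = n59394 := d14_2 (iv F263430) D60061 (iv D59394)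
theorem F268365 : act 9 n60061 = n59390 := d16_2 (iv F263431) D60061 (iv D59390)
def n60062 : Q := act 1 n58845
theorem D60062 : act 1 n58845 = n60062 := rfl
theorem F268366 : act 2 n60062 = n59358 := d9_2 D58845 D60062 (iv D59358) (iv D58165) (iv F258763)
theorem F268367 : act 3 n60062 = n58847 := d10_2 (iv F263432) D60062 (iv D58847)
theorem F268368 : act 7 n60062 = n58850 := d14_2 (iv F263433) D60062 (iv D58850)
theorem F268369 : act 9 n60062 = n59352 := d16_2 (iv F263434) D60062 (iv D59352)
def n60063 : Q := act 4 n58845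
theorem D60063 : act 4 n58845 = n60063 := rfl
theorem F268370 : act 2 n60063 = n58846 := d18_1 D60063 (iv D58846) D58845
theorem F268371 : act 7 n60063 = n58851 := d32_2 (iv F263433) D60063 (iv D58851)
theorem F268372 : act 9 n60063 = n59353 := d34_2 (iv F263434) D60063 (iv D59353)
def n60064 : Q := act 0 n58847
theorem D60064 : act 0 n58847 = n60064 := rfl
theorem F268373 : act 2 n60064 = n58890 := d1_2 (iv F263439) D60064 (iv D58890)
theorem F268374 : act 7 n60064 = n58852 := d6_2 (iv F263440) D60064 (iv D58852)
def n60065 : Q := act 1 n58848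
theorem D60065 : act 1 n58848 = n60065 := rfl
theorem F268375 : act 5 n60065 = n59374 := d12_2 (iv F263441) D60065 (iv D59374)
theorem F268376 : act 6 n60065 = n59402 := d13_2 (iv F263442) D60065 (iv D59402)
theorem F268377 : act 8 n60065 = n58850 := d15_2 (iv F263443) D60065 (iv D58850)
theorem F268378 : act 9 n60065 = n59382 := d16_2 (iv F263444) D60065 (iv D59382)
def n60066 : Q := act 4 n58848
theorem D60066 : act 4 n58848 = n60066 := rfl
theorem F268379 : act 2 n60066 = n58849 := d18_1 D60066 (iv D58849) D58848
theorem F268380 : act 5 n60066 = n59439 := d30_2 (iv F263441) D60066 (iv D59439) F260617 (iv F260487)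
theorem F268381 : act 6 n60066 = n59403 := d31_2 (iv F263442) D60066 (iv D59403)
theorem F268382 : act 8 n60066 = n58851 := d33_2 (iv F263443) D60066 (iv D58851)
theorem F268383 : act 9 n60066 = n59383 := d34_2 (iv F263444) D60066 (iv D59383)
def n60067 : Q := act 0 n58850
theorem D60067 : act 0 n58850 = n60067 := rfl
theorem F268384 : act 3 n60067 = n58852 := d2_2 (iv F263450) D60067 (iv D58852)
theorem F268385 : act 6 n60067 = n59405 := d5_2 (iv F263451) D60067 (iv D59405)
def n60068 : Q := act 4 n58850
theorem D60068 : act 4 n58850 = n60068 := rfl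
theorem F268386 : act 1 n60068 = n58851 := d11_1 D60068 (iv D58851) D58850
theorem F268387 : act 6 n60068 = n59406 := d31_2 (iv F263451) D60068 (iv D59406)
def n60069 : Q := act 2 n58853
theorem D60069 : act 2 n58853 = n60069 := rfl
theorem F268388 : act 0 n60069 = n58920 := d1_1 D60069 (iv D58920) (iv F263456)
theorem F268389 : act 3 n60069 = n59255 := d17_2 D58853 D60069 (iv D59255) (iv D58060) (iv F258783)
theorem F268390 : act 5 n60069 = n58854 := d19_2 (iv F263458) D60069 (iv D58854)
theorem F268391 : act 7 n60069 = n58859 := d21_2 (iv F263459) D60069 (iv D58859)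
theorem F268392 : act 8 n60069 = n58865 := d22_2 (iv F263460) D60069 (iv D58865)
def n60070 : Q := act 4 n58853
theorem D60070 : act 4 n58853 = n60070 := rfl
theorem F268393 : act 0 n60070 = n58921 := d3_1 D60070 (iv D58921) (iv F263456)
theorem F268394 : act 1 n60070 = n59378 := d11_1 D60070 (iv D59378) (iv F263457)
theorem F268395 : act 3 n60070 = n60070 := d24_1 D60070 (iv D60070) (iv D58853) F258784 D58853
theorem F268396 : act 5 n60070 = n59389 := d30_2 (iv F263458) D60070 (iv D59389) F260514 (iv F258789)
theorem F268397 : act 7 n60070 = n58860 := d32_2 (iv F263459) D60070 (iv D58860)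
theorem F268398 : act 8 n60070 = n58866 := d33_2 (iv F263460) D60070 (iv D58866)
def n60071 : Q := act 1 n58854
theorem D60071 : act 1 n58854 = n60071 := rfl
theorem F268399 : act 2 n60071 = n59379 := d9_2 D58854 D60071 (iv D59379) (iv D58188) (iv F258788)
theorem F268400 : act 3 n60071 = n59259 := d10_2 (iv F263462) D60071 (iv D59259)
theorem F268401 : act 4 n60071 = n59390 := d11_2 (iv F263463) D60071 (iv D59390)
theorem F268402 : act 6 n60071 = n59387 := d13_2 (iv F263464) D60071 (iv D59387)
theorem F268403 : act 7 n60071 = n58861 := d14_2 (iv F263465) D60071 (iv D58861)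
theorem F268404 : act 8 n60071 = n58867 := d15_2 (iv F263466) D60071 (iv D58867)
def n60072 : Q := act 2 n58855
theorem D60072 : act 2 n58855 = n60072 := rfl
theorem F268405 : act 0 n60072 = n58936 := d1_1 D60072 (iv D58936) (iv F263467)
theorem F268406 : act 3 n60072 = n58859 := d17_2 D58855 D60072 (iv D58859) (iv D57690) (iv F258795)
theorem F268407 : act 5 n60072 = n58856 := d19_2 (iv F263469) D60072 (iv D58856)
theorem F268408 : act 7 n60072 = n59255 := d21_2 (iv F263470) D60072 (iv D59255)
theorem F268409 : act 8 n60072 = n59233 := d22_2 (iv F263471) D60072 (iv D59233)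
def n60073 : Q := act 4 n58855
theorem D60073 : act 4 n58855 = n60073 := rfl
theorem F268410 : act 0 n60073 = n58937 := d3_1 D60073 (iv D58937) (iv F263467)
theorem F268411 : act 1 n60073 = n59239 := d11_1 D60073 (iv D59239) (iv F263468)
theorem F268412 : act 3 n60073 = n60073 := d24_1 D60073 (iv D60073) (iv D58855) F258796 D58855
theorem F268413 : act 7 n60073 = n59256 := d32_2 (iv F263470) D60073 (iv D59256)
theorem F268414 : act 8 n60073 = n59234 := d33_2 (iv F263471) D60073 (iv D59234)
def n60074 : Q := act 1 n58856
theorem D60074 : act 1 n58856 = n60074 := rfl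
theorem F268415 : act 2 n60074 = n59242 := d9_2 D58856 D60074 (iv D59242) (iv D58048) (iv F258800)
theorem F268416 : act 3 n60074 = n58861 := d10_2 (iv F263473) D60074 (iv D58861)
theorem F268417 : act 6 n60074 = n59407 := d13_2 (iv F263474) D60074 (iv D59407)
theorem F268418 : act 7 n60074 = n59259 := d14_2 (iv F263475) D60074 (iv D59259)
theorem F268419 : act 8 n60074 = n59235 := d15_2 (iv F263476) D60074 (iv D59235)
def n60075 : Q := act 4 n58856
theorem D60075 : act 4 n58856 = n60075 := rfl
theorem F268420 : act 0 n60075 = n58939 := d3_1 D60075 (iv D58939) (iv F263472)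
theorem F268421 : act 2 n60075 = n58857 := d18_1 D60075 (iv D58857) D58856
theorem F268422 : act 3 n60075 = n59311 := d24_1 D60075 (iv D59311) F260353 (iv F258814) (iv F263473)
theorem F268423 : act 6 n60075 = n59408 := d31_2 (iv F263474) D60075 (iv D59408)
theorem F268424 : act 7 n60075 = n59260 := d32_2 (iv F263475) D60075 (iv D59260)
theorem F268425 : act 8 n60075 = n59236 := d33_2 (iv F263476) D60075 (iv D59236)
def n60076 : Q := act 5 n58857
theorem D60076 : act 5 n58857 = n60076 := rfl
theorem F268426 : act 0 n60076 = n58940 := d4_1 D60076 (iv D58940) (iv F263477)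
theorem F268427 : act 1 n60076 = n59244 := d12_1 D60076 (iv D59244) (iv F263478)
theorem F268428 : act 3 n60076 = n58858 := d25_1 D60076 (iv D58858) (iv F263479)
theorem F268429 : act 7 n60076 = n59086 := d36_2 (iv F263481) D60076 F264329
theorem F268430 : act 8 n60076 = n59085 := d37_2 (iv F263482) D60076 F264325
def n60077 : Q := act 6 n58858
theorem D60077 : act 6 n58858 = n60077 := rfl
theorem F268431 : act 0 n60077 = n58941 := d5_1 D60077 (iv D58941) (iv F263483)
theorem F268432 : act 1 n60077 = n59290 := d13_1 D60077 (iv D59290) (iv F263484)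
theorem F268433 : act 2 n60077 = n58909 := d20_1 D60077 F263702 (iv F263485)
theorem F268434 : act 4 n60077 = n60077 := d31_1 D60077 (iv D60077) F263486
theorem F268435 : act 5 n60077 = n58908 := d35_1 D60077 F263698 F259015 (iv F258807) D58858
theorem F268436 : act 7 n60077 = n59094 := d39_2 (iv F263487) D60077 F264361 F259650 (iv F259661)
theorem F268437 : act 8 n60077 = n58913 := d40_2 (iv F263488) D60077 F263718
def n60078 : Q := act 1 n58859
theorem D60078 : act 1 n58859 = n60078 := rfl
theorem F268438 : act 5 n60078 = n58861 := d12_2 (iv F263490) D60078 (iv D58861)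
theorem F268439 : act 8 n60078 = n58868 := d15_2 (iv F263491) D60078 (iv D58868)
def n60079 : Q := act 4 n58859
theorem D60079 : act 4 n58859 = n60079 := rfl
theorem F268440 : act 0 n60079 = n58945 := d3_1 D60079 (iv D58945) (iv F263489)
theorem F268441 : act 2 n60079 = n58860 := d18_1 D60079 (iv D58860) D58859
theorem F268442 : act 5 n60079 = n59403 := d30_2 (iv F263490) D60079 (iv D59403) F260547 (iv F258814)
theorem F268443 : act 8 n60079 = n58869 := d33_2 (iv F263491) D60079 (iv D58869)
def n60080 : Q := act 0 n58861
theorem D60080 : act 0 n58861 = n60080 := rfl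
theorem F268444 : act 1 n60080 = n58946 := d0_2 D58861 D60080 (iv D58946) (iv D57767) (iv F258813)
theorem F268445 : act 4 n60080 = n59404 := d3_2 (iv F263496) D60080 (iv D59404)
theorem F268446 : act 6 n60080 = n59409 := d5_2 (iv F263497) D60080 (iv D59409)
theorem F268447 : act 8 n60080 = n58870 := d7_2 (iv F263498) D60080 (iv D58870)
def n60081 : Q := act 2 n58862
theorem D60081 : act 2 n58862 = n60081 := rfl
theorem F268448 : act 0 n60081 = n58949 := d1_1 D60081 (iv D58949) (iv F263499)
theorem F268449 : act 3 n60081 = n59030 := d17_2 D58862 D60081 (iv D59030) (iv D57841) (iv F258819)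
theorem F268450 : act 5 n60081 = n58863 := d19_2 (iv F263501) D60081 (iv D58863)
theorem F268451 : act 7 n60081 = n59396 := d21_2 (iv F263502) D60081 (iv D59396)
theorem F268452 : act 8 n60081 = n59385 := d22_2 (iv F263503) D60081 (iv D59385)
theorem F268453 : act 9 n60081 = n58877 := d23_2 (iv F263504) D60081 (iv D58877)
def n60082 : Q := act 4 n58862
theorem D60082 : act 4 n58862 = n60082 := rfl
theorem F268454 : act 0 n60082 = n58950 := d3_1 D60082 (iv D58950) (iv F263499)
theorem F268455 : act 1 n60082 = n59389 := d11_1 D60082 (iv D59389) (iv F263500)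
theorem F268456 : act 3 n60082 = n60082 := d24_1 D60082 (iv D60082) (iv D58862) F258820 D58862
theorem F268457 : act 5 n60082 = n59378 := d30_2 (iv F263501) D60082 (iv D59378) F260498 (iv F258826)
theorem F268458 : act 7 n60082 = n59397 := d32_2 (iv F263502) D60082 (iv D59397)
theorem F268459 : act 8 n60082 = n59386 := d33_2 (iv F263503) D60082 (iv D59386)
theorem F268460 : act 9 n60082 = n58878 := d34_2 (iv F263504) D60082 (iv D58878)
def n60083 : Q := act 1 n58863
theorem D60083 : act 1 n58863 = n60083 := rfl
theorem F268461 : act 2 n60083 = n59390 := d9_2 D58863 D60083 (iv D59390) (iv D58196) (iv F258825)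
theorem F268462 : act 3 n60083 = n59032 := d10_2 (iv F263506) D60083 (iv D59032)
theorem F268463 : act 4 n60083 = n59379 := d11_2 (iv F263507) D60083 (iv D59379)
theorem F268464 : act 6 n60083 = n58867 := d13_2 (iv F263508) D60083 (iv D58867)
theorem F268465 : act 7 n60083 = n59398 := d14_2 (iv F263509) D60083 (iv D59398)
theorem F268466 : act 8 n60083 = n59387 := d15_2 (iv F263510) D60083 (iv D59387)
theorem F268467 : act 9 n60083 = n58879 := d16_2 (iv F263511) D60083 (iv D58879)
def n60084 : Q := act 2 n58864
theorem D60084 : act 2 n58864 = n60084 := rfl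
theorem F268468 : act 0 n60084 = n58957 := d1_1 D60084 (iv D58957) (iv F263512)
theorem F268469 : act 3 n60084 = n59489 := d17_2 D58864 D60084 F265482 F260738 (iv F258832)
theorem F268470 : act 6 n60084 = n58865 := d20_2 (iv F263513) D60084 (iv D58865)
theorem F268471 : act 9 n60084 = n58886 := d23_2 (iv F263514) D60084 (iv D58886)
def n60085 : Q := act 4 n58864
theorem D60085 : act 4 n58864 = n60085 := rfl
theorem F268472 : act 0 n60085 = n58958 := d3_1 D60085 (iv D58958) (iv F263512)
theorem F268473 : act 3 n60085 = n58872 := d24_1 D60085 (iv D58872) (iv D57700) (iv F258833) D58864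
theorem F268474 : act 6 n60085 = n58866 := d31_2 (iv F263513) D60085 (iv D58866)
theorem F268475 : act 9 n60085 = n58887 := d34_2 (iv F263514) D60085 (iv D58887)
def n60086 : Q := act 1 n58865
theorem D60086 : act 1 n58865 = n60086 := rfl
theorem F268476 : act 3 n60086 = n59488 := d10_2 (iv F263516) D60086 F265478
theorem F268477 : act 5 n60086 = n58867 := d12_2 (iv F263517) D60086 (iv D58867)
theorem F268478 : act 7 n60086 = n58868 := d14_2 (iv F263518) D60086 (iv D58868)
theorem F268479 : act 9 n60086 = n58888 := d16_2 (iv F263519) D60086 (iv D58888)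
def n60087 : Q := act 4 n58865
theorem D60087 : act 4 n58865 = n60087 := rfl
theorem F268480 : act 0 n60087 = n58960 := d3_1 D60087 (iv D58960) (iv F263515)
theorem F268481 : act 2 n60087 = n58866 := d18_1 D60087 (iv D58866) D58865
theorem F268482 : act 5 n60087 = n59392 := d30_2 (iv F263517) D60087 (iv D59392) F260520 (iv F258842)
theorem F268483 : act 7 n60087 = n58869 := d32_2 (iv F263518) D60087 (iv D58869)
theorem F268484 : act 9 n60087 = n58889 := d34_2 (iv F263519) D60087 (iv D58889)
def n60088 : Q := act 0 n58867
theorem D60088 : act 0 n58867 = n60088 := rfl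
theorem F268485 : act 1 n60088 = n58961 := d0_2 D58867 D60088 (iv D58961) (iv D57780) (iv F258840)
theorem F268486 : act 3 n60088 = n59487 := d2_2 (iv F263525) D60088 F265474
theorem F268487 : act 4 n60088 = n59393 := d3_2 (iv F263526) D60088 (iv D59393)
theorem F268488 : act 7 n60088 = n58870 := d6_2 (iv F263527) D60088 (iv D58870)
theorem F268489 : act 9 n60088 = n58890 := d8_2 (iv F263528) D60088 (iv D58890)
def n60089 : Q := act 0 n58868
theorem D60089 : act 0 n58868 = n60089 := rfl
theorem F268490 : act 1 n60089 = n58976 := d0_2 D58868 D60089 (iv D58976) (iv D57794) (iv F258845)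
theorem F268491 : act 3 n60089 = n59516 := d2_2 (iv F263529) D60089 F265534
theorem F268492 : act 5 n60089 = n58870 := d4_2 (iv F263530) D60089 (iv D58870)
theorem F268493 : act 9 n60089 = n58902 := d8_2 (iv F263531) D60089 (iv D58902)
def n60090 : Q := act 4 n58868
theorem D60090 : act 4 n58868 = n60090 := rfl
theorem F268494 : act 1 n60090 = n58869 := d11_1 D60090 (iv D58869) D58868
theorem F268495 : act 5 n60090 = n59406 := d30_2 (iv F263530) D60090 (iv D59406) F260553 (iv F258854)
theorem F268496 : act 9 n60090 = n58903 := d34_2 (iv F263531) D60090 (iv D58903)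
def n60091 : Q := act 3 n58869
theorem D60091 : act 3 n58869 = n60091 := rfl
theorem F268497 : act 0 n60091 = n58978 := d2_1 D60091 (iv D58978) (iv F263532)
theorem F268498 : act 2 n60091 = n58874 := d17_1 D60091 (iv D58874) F258874 (iv F258850) (iv F263533)
theorem F268499 : act 4 n60091 = n59182 := d24_2 D58869 D60091 F264723 F260785 (iv F258846)
theorem F268500 : act 5 n60091 = n59179 := d25_2 (iv F263534) D60091 F264716
theorem F268501 : act 9 n60091 = n58904 := d29_2 (iv F263535) D60091 (iv D58904)
def n60092 : Q := act 4 n58871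
theorem D60092 : act 4 n58871 = n60092 := rfl
theorem F268502 : act 0 n60092 = n58982 := d3_1 D60092 (iv D58982) (iv F263541)
theorem F268503 : act 2 n60092 = n58872 := d18_1 D60092 (iv D58872) D58871
theorem F268504 : act 6 n60092 = n58873 := d31_2 (iv F263544) D60092 (iv D58873)
theorem F268505 : act 8 n60092 = n60092 := d33_2 F263545 D60092 (iv D60092)
theorem F268506 : act 9 n60092 = n58908 := d34_2 (iv F263546) D60092 (iv D58908)
def n60093 : Q := act 5 n58872
theorem D60093 : act 5 n58872 = n60093 := rfl
theorem F268507 : act 0 n60093 = n58983 := d4_1 D60093 (iv D58983) (iv F263547)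
theorem F268508 : act 4 n60093 = n60093 := d30_1 D60093 (iv D60093) (iv D58872) F258858 D58872
theorem F268509 : act 6 n60093 = n59321 := d35_2 (iv F263548) D60093 (iv D59321) F260374 (iv F258869)
theorem F268510 : act 8 n60093 = n60093 := d37_2 F263549 D60093 (iv D60093)
theorem F268511 : act 9 n60093 = n58909 := d38_2 (iv F263550) D60093 (iv D58909)
def n60094 : Q := act 3 n58873
theorem D60094 : act 3 n58873 = n60094 := rfl
theorem F268512 : act 0 n60094 = n58985 := d2_1 D60094 (iv D58985) (iv F263551)
theorem F268513 : act 4 n60094 = n59164 := d24_2 D58873 D60094 F264665 F259923 (iv F258863)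
theorem F268514 : act 5 n60094 = n59161 := d25_2 (iv F263553) D60094 F264655
theorem F268515 : act 7 n60094 = n58874 := d27_2 (iv F263554) D60094 (iv D58874)
theorem F268516 : act 9 n60094 = n58910 := d29_2 (iv F263556) D60094 (iv D58910)
def n60095 : Q := act 8 n58874
theorem D60095 : act 8 n58874 = n60095 := rfl
theorem F268517 : act 0 n60095 = n58989 := d7_1 D60095 (iv D58989) (iv F263557)
theorem F268518 : act 3 n60095 = n60095 := d28_1 D60095 (iv D60095) (iv D58874) F258876 D58874
theorem F268519 : act 4 n60095 = n59177 := d33_1 D60095 F264711 (iv F263558)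
theorem F268520 : act 5 n60095 = n59174 := d37_1 D60095 F264701 (iv F263559)
def n60096 : Q := act 2 n58875
theorem D60096 : act 2 n58875 = n60096 := rfl
theorem F268521 : act 0 n60096 = n58993 := d1_1 D60096 (iv D58993) (iv F263561)
theorem F268522 : act 3 n60096 = n58877 := d17_2 D58875 D60096 (iv D58877) (iv D57706) (iv F258880)
theorem F268523 : act 5 n60096 = n58876 := d19_2 (iv F263563) D60096 (iv D58876)
theorem F268524 : act 7 n60096 = n59266 := d21_2 (iv F263564) D60096 (iv D59266)
theorem F268525 : act 8 n60096 = n59278 := d22_2 (iv F263565) D60096 (iv D59278)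
theorem F268526 : act 9 n60096 = n59030 := d23_2 (iv F263566) D60096 (iv D59030)
def n60097 : Q := act 4 n58875
theorem D60097 : act 4 n58875 = n60097 := rfl
theorem F268527 : act 0 n60097 = n58994 := d3_1 D60097 (iv D58994) (iv F263561)
theorem F268528 : act 1 n60097 = n59043 := d11_1 D60097 (iv D59043) (iv F263562)
theorem F268529 : act 3 n60097 = n60097 := d24_1 D60097 (iv D60097) (iv D58875) F258881 D58875
theorem F268530 : act 5 n60097 = n59436 := d30_2 (iv F263563) D60097 (iv D59436) F260612 (iv F258887)
theorem F268531 : act 7 n60097 = n59267 := d32_2 (iv F263564) D60097 (iv D59267)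
theorem F268532 : act 8 n60097 = n59279 := d33_2 (iv F263565) D60097 (iv D59279)
theorem F268533 : act 9 n60097 = n59031 := d34_2 (iv F263566) D60097 (iv D59031)
def n60098 : Q := act 1 n58876
theorem D60098 : act 1 n58876 = n60098 := rfl
theorem F268534 : act 2 n60098 = n59047 := d9_2 D58876 D60098 (iv D59047) (iv D57854) (iv F258886)
theorem F268535 : act 3 n60098 = n58879 := d10_2 (iv F263568) D60098 (iv D58879)
theorem F268536 : act 4 n60098 = n59437 := d11_2 (iv F263569) D60098 (iv D59437)
theorem F268537 : act 6 n60098 = n58885 := d13_2 (iv F263570) D60098 (iv D58885)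
theorem F268538 : act 7 n60098 = n59411 := d14_2 (iv F263571) D60098 (iv D59411)
theorem F268539 : act 9 n60098 = n59032 := d16_2 (iv F263572) D60098 (iv D59032)
def n60099 : Q := act 1 n58877
theorem D60099 : act 1 n58877 = n60099 := rfl
theorem F268540 : act 5 n60099 = n58879 := d12_2 (iv F263574) D60099 (iv D58879)
theorem F268541 : act 7 n60099 = n59412 := d14_2 (iv F263575) D60099 (iv D59412)
def n60100 : Q := act 4 n58877
theorem D60100 : act 4 n58877 = n60100 := rfl
theorem F268542 : act 0 n60100 = n59001 := d3_1 D60100 (iv D59001) (iv F263573)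
theorem F268543 : act 2 n60100 = n58878 := d18_1 D60100 (iv D58878) D58877
theorem F268544 : act 7 n60100 = n59413 := d32_2 (iv F263575) D60100 (iv D59413)
def n60101 : Q := act 0 n58879
theorem D60101 : act 0 n58879 = n60101 := rfl
theorem F268545 : act 1 n60101 = n59002 := d0_2 D58879 D60101 (iv D59002) (iv D57818) (iv F258894)
theorem F268546 : act 6 n60101 = n58890 := d5_2 (iv F263579) D60101 (iv D58890)
theorem F268547 : act 7 n60101 = n59414 := d6_2 (iv F263580) D60101 (iv D59414)
def n60102 : Q := act 2 n58880
theorem D60102 : act 2 n58880 = n60102 := rfl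
theorem F268548 : act 0 n60102 = n59009 := d1_1 D60102 (iv D59009) (iv F263581)
theorem F268549 : act 5 n60102 = n58881 := d19_2 (iv F263583) D60102 (iv D58881)
theorem F268550 : act 7 n60102 = n58895 := d21_2 (iv F263584) D60102 (iv D58895)
theorem F268551 : act 8 n60102 = n58883 := d22_2 (iv F263585) D60102 (iv D58883)
theorem F268552 : act 9 n60102 = n59447 := d23_2 (iv F263586) D60102 (iv D59447)
def n60103 : Q := act 4 n58880
theorem D60103 : act 4 n58880 = n60103 := rfl
theorem F268553 : act 0 n60103 = n59010 := d3_1 D60103 (iv D59010) (iv F263581)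
theorem F268554 : act 1 n60103 = n59457 := d11_1 D60103 (iv D59457) (iv F263582)
theorem F268555 : act 3 n60103 = n60103 := d24_1 D60103 (iv D60103) (iv D58880) F258899 D58880
theorem F268556 : act 5 n60103 = n59192 := d30_2 (iv F263583) D60103 (iv D59192) F260052 (iv F258905)
theorem F268557 : act 7 n60103 = n58896 := d32_2 (iv F263584) D60103 (iv D58896)
theorem F268558 : act 8 n60103 = n58884 := d33_2 (iv F263585) D60103 (iv D58884)
theorem F268559 : act 9 n60103 = n59448 := d34_2 (iv F263586) D60103 (iv D59448)
def n60104 : Q := act 1 n58881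
theorem D60104 : act 1 n58881 = n60104 := rfl
theorem F268560 : act 2 n60104 = n59460 := d9_2 D58881 D60104 (iv D59460) (iv D58267) (iv F258904)
theorem F268561 : act 4 n60104 = n59442 := d11_2 (iv F263588) D60104 (iv D59442)
theorem F268562 : act 7 n60104 = n58898 := d14_2 (iv F263589) D60104 (iv D58898)
theorem F268563 : act 8 n60104 = n58885 := d15_2 (iv F263590) D60104 (iv D58885)
theorem F268564 : act 9 n60104 = n59449 := d16_2 (iv F263591) D60104 (iv D59449)
def n60105 : Q := act 2 n58882
theorem D60105 : act 2 n58882 = n60105 := rfl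
theorem F268565 : act 0 n60105 = n59014 := d1_1 D60105 (iv D59014) (iv F263592)
theorem F268566 : act 3 n60105 = n58886 := d17_2 D58882 D60105 (iv D58886) (iv D57713) (iv F258911)
theorem F268567 : act 6 n60105 = n58883 := d20_2 (iv F263594) D60105 (iv D58883)
theorem F268568 : act 9 n60105 = n59489 := d23_2 (iv F263595) D60105 F265482
def n60106 : Q := act 4 n58882
theorem D60106 : act 4 n58882 = n60106 := rfl
theorem F268569 : act 0 n60106 = n59015 := d3_1 D60106 (iv D59015) (iv F263592)
theorem F268570 : act 1 n60106 = n59500 := d11_1 D60106 (iv D59500) (iv F263593)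
theorem F268571 : act 3 n60106 = n58906 := d24_1 D60106 (iv D58906) (iv D57730) (iv F258912) D58882
theorem F268572 : act 6 n60106 = n58884 := d31_2 (iv F263594) D60106 (iv D58884)
theorem F268573 : act 9 n60106 = n59486 := d34_2 (iv F263595) D60106 F265472
def n60107 : Q := act 1 n58883
theorem D60107 : act 1 n58883 = n60107 := rfl
theorem F268574 : act 2 n60107 = n59504 := d9_2 D58883 D60107 (iv D59504) (iv D58312) (iv F258916)
theorem F268575 : act 3 n60107 = n58888 := d10_2 (iv F263597) D60107 (iv D58888)
theorem F268576 : act 5 n60107 = n58885 := d12_2 (iv F263598) D60107 (iv D58885)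
theorem F268577 : act 7 n60107 = n58899 := d14_2 (iv F263599) D60107 (iv D58899)
theorem F268578 : act 9 n60107 = n59488 := d16_2 (iv F263600) D60107 F265478
def n60108 : Q := act 4 n58883
theorem D60108 : act 4 n58883 = n60108 := rfl
theorem F268579 : act 0 n60108 = n59017 := d3_1 D60108 (iv D59017) (iv F263596)
theorem F268580 : act 2 n60108 = n58884 := d18_1 D60108 (iv D58884) D58883
theorem F268581 : act 5 n60108 = n59194 := d30_2 (iv F263598) D60108 (iv D59194) F260056 (iv F258922)
theorem F268582 : act 7 n60108 = n58900 := d32_2 (iv F263599) D60108 (iv D58900)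
theorem F268583 : act 9 n60108 = n59485 := d34_2 (iv F263600) D60108 F265467
def n60109 : Q := act 0 n58885
theorem D60109 : act 0 n58885 = n60109 := rfl
theorem F268584 : act 1 n60109 = n59018 := d0_2 D58885 D60109 (iv D59018) (iv D57831) (iv F258920)
theorem F268585 : act 2 n60109 = n59509 := d1_2 (iv F263607) D60109 (iv D59509)
theorem F268586 : act 3 n60109 = n58890 := d2_2 (iv F263608) D60109 (iv D58890)
theorem F268587 : act 4 n60109 = n59443 := d3_2 (iv F263609) D60109 (iv D59443)
theorem F268588 : act 7 n60109 = n58901 := d6_2 (iv F263610) D60109 (iv D58901)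
theorem F268589 : act 9 n60109 = n59487 := d8_2 (iv F263611) D60109 F265474
def n60110 : Q := act 1 n58886
theorem D60110 : act 1 n58886 = n60110 := rfl
theorem F268590 : act 6 n60110 = n58888 := d13_2 (iv F263613) D60110 (iv D58888)
def n60111 : Q := act 4 n58886
theorem D60111 : act 4 n58886 = n60111 := rfl
theorem F268591 : act 0 n60111 = n59023 := d3_1 D60111 (iv D59023) (iv F263612)
theorem F268592 : act 2 n60111 = n58887 := d18_1 D60111 (iv D58887) D58886
theorem F268593 : act 6 n60111 = n58889 := d31_2 (iv F263613) D60111 (iv D58889)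
def n60112 : Q := act 5 n58887
theorem D60112 : act 5 n58887 = n60112 := rfl
theorem F268594 : act 0 n60112 = n59024 := d4_1 D60112 (iv D59024) (iv F263614)
theorem F268595 : act 3 n60112 = n58909 := d25_1 D60112 (iv D58909) (iv F263615)
theorem F268596 : act 6 n60112 = n59312 := d35_2 (iv F263616) D60112 (iv D59312) (iv F262513) F262512
theorem F268597 : act 8 n60112 = n59319 := d37_2 F265723 D60112 (iv F265720)
def n60113 : Q := act 0 n58888
theorem D60113 : act 0 n58888 = n60113 := rfl
theorem F268598 : act 1 n60113 = n59025 := d0_2 D58888 D60113 (iv D59025) (iv D57836) (iv F258927)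
theorem F268599 : act 5 n60113 = n58890 := d4_2 (iv F263617) D60113 (iv D58890)
theorem F268600 : act 7 n60113 = n58902 := d6_2 (iv F263618) D60113 (iv D58902)
def n60114 : Q := act 4 n58888
theorem D60114 : act 4 n58888 = n60114 := rfl
theorem F268601 : act 1 n60114 = n58889 := d11_1 D60114 (iv D58889) D58888
theorem F268602 : act 7 n60114 = n58903 := d32_2 (iv F263618) D60114 (iv D58903)
def n60115 : Q := act 3 n58889
theorem D60115 : act 3 n58889 = n60115 := rfl
theorem F268603 : act 0 n60115 = n59027 := d2_1 D60115 (iv D59027) (iv F263619)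
theorem F268604 : act 2 n60115 = n58910 := d17_1 D60115 (iv D58910) F259014 (iv F258931) (iv F263620)
theorem F268605 : act 5 n60115 = n59408 := d25_2 F267373 D60115 (iv F267372)
theorem F268606 : act 7 n60115 = n58904 := d27_2 (iv F263621) D60115 (iv D58904)
def n60116 : Q := act 2 n58891
theorem D60116 : act 2 n58891 = n60116 := rfl
theorem F268607 : act 3 n60116 = n58892 := d17_2 D58891 D60116 (iv D58892) (iv D57718) (iv F258935)
theorem F268608 : act 5 n60116 = n59216 := d19_2 (iv F263625) D60116 (iv D59216)
theorem F268609 : act 6 n60116 = n59004 := d20_2 (iv F263626) D60116 (iv D59004)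
theorem F268610 : act 7 n60116 = n59429 := d21_2 (iv F263627) D60116 (iv D59429)
theorem F268611 : act 8 n60116 = n59268 := d22_2 (iv F263628) D60116 (iv D59268)
theorem F268612 : act 9 n60116 = n59215 := d23_2 (iv F263629) D60116 (iv D59215)
def n60117 : Q := act 1 n58892
theorem D60117 : act 1 n58892 = n60117 := rfl
theorem F268613 : act 2 n60117 = n58898 := d9_2 D58892 D60117 (iv D58898) (iv D57723) (iv F258941)
theorem F268614 : act 4 n60117 = n59449 := d11_2 (iv F263630) D60117 (iv D59449)
theorem F268615 : act 6 n60117 = n59418 := d13_2 (iv F263631) D60117 (iv D59418)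
theorem F268616 : act 7 n60117 = n59460 := d14_2 (iv F263632) D60117 (iv D59460)
theorem F268617 : act 8 n60117 = n58893 := d15_2 (iv F263633) D60117 (iv D58893)
theorem F268618 : act 9 n60117 = n59442 := d16_2 (iv F263634) D60117 (iv D59442)
def n60118 : Q := act 0 n58893
theorem D60118 : act 0 n58893 = n60118 := rfl
theorem F268619 : act 2 n60118 = n58901 := d1_2 (iv F263635) D60118 (iv D58901)
theorem F268620 : act 4 n60118 = n59452 := d3_2 (iv F263636) D60118 (iv D59452)
theorem F268621 : act 6 n60118 = n59419 := d5_2 (iv F263637) D60118 (iv D59419)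
theorem F268622 : act 7 n60118 = n59509 := d6_2 (iv F263638) D60118 (iv D59509)
theorem F268623 : act 9 n60118 = n59482 := d8_2 (iv F263639) D60118 (iv D59482)
def n60119 : Q := act 2 n58894
theorem D60119 : act 2 n58894 = n60119 := rfl
theorem F268624 : act 0 n60119 = n59042 := d1_1 D60119 (iv D59042) (iv F263640)
theorem F268625 : act 5 n60119 = n58897 := d19_2 (iv F263642) D60119 (iv D58897)
theorem F268626 : act 7 n60119 = n59447 := d21_2 (iv F263643) D60119 (iv D59447)
theorem F268627 : act 8 n60119 = n59188 := d22_2 (iv F263644) D60119 (iv D59188)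
theorem F268628 : act 9 n60119 = n58895 := d23_2 (iv F263645) D60119 (iv D58895)
def n60120 : Q := act 4 n58894
theorem D60120 : act 4 n58894 = n60120 := rfl
theorem F268629 : act 0 n60120 = n59043 := d3_1 D60120 (iv D59043) (iv F263640)
theorem F268630 : act 1 n60120 = n59192 := d11_1 D60120 (iv D59192) (iv F263641)
theorem F268631 : act 3 n60120 = n60120 := d24_1 D60120 (iv D60120) (iv D58894) F258953 D58894
theorem F268632 : act 5 n60120 = n59457 := d30_2 (iv F263642) D60120 (iv D59457) F260651 (iv F258962)
theorem F268633 : act 7 n60120 = n59448 := d32_2 (iv F263643) D60120 (iv D59448)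
theorem F268634 : act 8 n60120 = n59189 := d33_2 (iv F263644) D60120 (iv D59189)
theorem F268635 : act 9 n60120 = n58896 := d34_2 (iv F263645) D60120 (iv D58896)
def n60121 : Q := act 1 n58895
theorem D60121 : act 1 n58895 = n60121 := rfl
theorem F268636 : act 5 n60121 = n58898 := d12_2 (iv F263647) D60121 (iv D58898)
theorem F268637 : act 8 n60121 = n58899 := d15_2 (iv F263648) D60121 (iv D58899)
def n60122 : Q := act 4 n58895
theorem D60122 : act 4 n58895 = n60122 := rfl
theorem F268638 : act 0 n60122 = n59045 := d3_1 D60122 (iv D59045) (iv F263646)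
theorem F268639 : act 2 n60122 = n58896 := d18_1 D60122 (iv D58896) D58895
theorem F268640 : act 5 n60122 = n59459 := d30_2 (iv F263647) D60122 (iv D59459) F260654 (iv F258968)
theorem F268641 : act 8 n60122 = n58900 := d33_2 (iv F263648) D60122 (iv D58900)
def n60123 : Q := act 1 n58897
theorem D60123 : act 1 n58897 = n60123 := rfl
theorem F268642 : act 2 n60123 = n59442 := d9_2 D58897 D60123 (iv D59442) (iv D58252) (iv F258961)
theorem F268643 : act 4 n60123 = n59460 := d11_2 (iv F263654) D60123 (iv D59460)
theorem F268644 : act 6 n60123 = n59420 := d13_2 (iv F263655) D60123 (iv D59420)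
theorem F268645 : act 7 n60123 = n59449 := d14_2 (iv F263656) D60123 (iv D59449)
theorem F268646 : act 8 n60123 = n59441 := d15_2 (iv F263657) D60123 (iv D59441)
theorem F268647 : act 9 n60123 = n58898 := d16_2 (iv F263658) D60123 (iv D58898)
def n60124 : Q := act 0 n58898
theorem D60124 : act 0 n58898 = n60124 := rfl
theorem F268648 : act 1 n60124 = n59049 := d0_2 D58898 D60124 (iv D59049) (iv D57856) (iv F258967)
theorem F268649 : act 4 n60124 = n59461 := d3_2 (iv F263659) D60124 (iv D59461)
theorem F268650 : act 6 n60124 = n59421 := d5_2 (iv F263660) D60124 (iv D59421)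
theorem F268651 : act 8 n60124 = n58901 := d7_2 (iv F263661) D60124 (iv D58901)
def n60125 : Q := act 0 n58899
theorem D60125 : act 0 n58899 = n60125 := rfl
theorem F268652 : act 1 n60125 = n59058 := d0_2 D58899 D60125 (iv D59058) (iv D57862) (iv F258971)
theorem F268653 : act 3 n60125 = n58902 := d2_2 (iv F263662) D60125 (iv D58902)
theorem F268654 : act 5 n60125 = n58901 := d4_2 (iv F263663) D60125 (iv D58901)
theorem F268655 : act 9 n60125 = n59516 := d8_2 (iv F263664) D60125 F265534
def n60126 : Q := act 4 n58899
theorem D60126 : act 4 n58899 = n60126 := rfl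
theorem F268656 : act 1 n60126 = n58900 := d11_1 D60126 (iv D58900) D58899
theorem F268657 : act 5 n60126 = n59468 := d30_2 (iv F263663) D60126 (iv D59468) F260670 (iv F258980)
theorem F268658 : act 9 n60126 = n59515 := d34_2 (iv F263664) D60126 F265533
def n60127 : Q := act 3 n58900
theorem D60127 : act 3 n58900 = n60127 := rfl
theorem F268659 : act 0 n60127 = n59060 := d2_1 D60127 (iv D59060) (iv F263665)
theorem F268660 : act 2 n60127 = n58911 := d17_1 D60127 (iv D58911) F259019 (iv F258976) (iv F263666)
theorem F268661 : act 4 n60127 = n58904 := d24_2 D58900 D60127 (iv D58904) (iv D57728) (iv F258972)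
theorem F268662 : act 5 n60127 = n59144 := d25_2 (iv F263667) D60127 F264588
theorem F268663 : act 9 n60127 = n59182 := d29_2 (iv F263668) D60127 F264723
def n60128 : Q := act 4 n58902
theorem D60128 : act 4 n58902 = n60128 := rfl
theorem F268664 : act 0 n60128 = n58903 := d3_1 D60128 (iv D58903) D58902
theorem F268665 : act 1 n60128 = n59069 := d11_1 D60128 (iv D59069) (iv F263674)
def n60129 : Q := act 3 n58903
theorem D60129 : act 3 n58903 = n60129 := rfl
theorem F268666 : act 1 n60129 = n58904 := d10_1 D60129 (iv D58904) (iv F263676)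
def n60130 : Q := act 8 n58904
theorem D60130 : act 8 n58904 = n60130 := rfl
theorem F268667 : act 0 n60130 = n59071 := d7_1 D60130 (iv D59071) (iv F263677)
theorem F268668 : act 2 n60130 = n58912 := d22_1 D60130 (iv D58912) (iv F263678)
def n60131 : Q := act 4 n58905
theorem D60131 : act 4 n58905 = n60131 := rfl
theorem F268669 : act 0 n60131 = n59073 := d3_1 D60131 (iv D59073) (iv F263679)
theorem F268670 : act 2 n60131 = n58906 := d18_1 D60131 (iv D58906) D58905
theorem F268671 : act 6 n60131 = n58907 := d31_2 (iv F263682) D60131 (iv D58907)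
theorem F268672 : act 8 n60131 = n60131 := d33_2 F263683 D60131 (iv D60131)
theorem F268673 : act 9 n60131 = n59165 := d34_2 (iv F263684) D60131 F264669
def n60132 : Q := act 3 n58907
theorem D60132 : act 3 n58907 = n60132 := rfl
theorem F268674 : act 0 n60132 = n59075 := d2_1 D60132 (iv D59075) (iv F263690)
theorem F268675 : act 4 n60132 = n58910 := d24_2 D58907 D60132 (iv D58910) (iv D57735) (iv F258995)
theorem F268676 : act 5 n60132 = n59129 := d25_2 (iv F263692) D60132 F264530
theorem F268677 : act 7 n60132 = n58911 := d27_2 (iv F263693) D60132 (iv D58911)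
theorem F268678 : act 9 n60132 = n59164 := d29_2 (iv F263695) D60132 F264665
def n60133 : Q := act 3 n58908
theorem D60133 : act 3 n58908 = n60133 := rfl
theorem F268679 : act 0 n60133 = n59079 := d2_1 D60133 (iv D59079) (iv F263696)
theorem F268680 : act 6 n60133 = n58910 := d26_2 (iv F263698) D60133 (iv D58910)
def n60134 : Q := act 8 n58911
theorem D60134 : act 8 n58911 = n60134 := rfl
theorem F268681 : act 0 n60134 = n59084 := d7_1 D60134 (iv D59084) (iv F263707)
theorem F268682 : act 3 n60134 = n60134 := d28_1 D60134 (iv D60134) (iv D58911) F259021 D58911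
theorem F268683 : act 4 n60134 = n58912 := d33_1 D60134 (iv D58912) (iv F263708)
theorem F268684 : act 5 n60134 = n59142 := d37_1 D60134 F264583 (iv F263709)
def n60135 : Q := act 9 n58912
theorem D60135 : act 9 n58912 = n60135 := rfl
theorem F268685 : act 0 n60135 = n59090 := d8_1 D60135 (iv D59090) (iv F263711)
theorem F268686 : act 3 n60135 = n58914 := d29_1 D60135 (iv D58914) (iv F263712)
def n60136 : Q := act 1 n58915
theorem D60136 : act 1 n58915 = n60136 := rfl
theorem F268687 : act 2 n60136 = n59469 := d9_2 D58915 D60136 (iv D59469) (iv D58275) (iv F259043)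
theorem F268688 : act 6 n60136 = n58922 := d13_2 (iv F263725) D60136 (iv D58922)
theorem F268689 : act 7 n60136 = n59223 := d14_2 (iv F263726) D60136 (iv D59223)
theorem F268690 : act 8 n60136 = n58951 := d15_2 (iv F263727) D60136 (iv D58951)
theorem F268691 : act 9 n60136 = n59286 := d16_2 (iv F263728) D60136 (iv D59286)
def n60137 : Q := act 2 n58916
theorem D60137 : act 2 n58916 = n60137 := rfl
theorem F268692 : act 0 n60137 = n59168 := d1_1 D60137 (iv D59168) (iv F263729)
theorem F268693 : act 5 n60137 = n59454 := d19_2 (iv F263731) D60137 (iv D59454)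
theorem F268694 : act 6 n60137 = n58965 := d20_2 (iv F263732) D60137 (iv D58965)
theorem F268695 : act 7 n60137 = n58928 := d21_2 (iv F263733) D60137 (iv D58928)
theorem F268696 : act 8 n60137 = n58968 := d22_2 (iv F263734) D60137 (iv D58968)
def n60138 : Q := act 2 n58917
theorem D60138 : act 2 n58917 = n60138 := rfl
theorem F268697 : act 0 n60138 = n59255 := d1_1 D60138 (iv D59255) (iv F263735)
theorem F268698 : act 3 n60138 = n58920 := d17_2 D58917 D60138 (iv D58920) (iv D57747) (iv F259056)
theorem F268699 : act 5 n60138 = n58918 := d19_2 (iv F263737) D60138 (iv D58918)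
theorem F268700 : act 6 n60138 = n59447 := d20_2 (iv F263738) D60138 (iv D59447)
theorem F268701 : act 7 n60138 = n58936 := d21_2 (iv F263739) D60138 (iv D58936)
theorem F268702 : act 8 n60138 = n59252 := d22_2 (iv F263740) D60138 (iv D59252)
def n60139 : Q := act 4 n58917
theorem D60139 : act 4 n58917 = n60139 := rfl
theorem F268703 : act 0 n60139 = n59256 := d3_1 D60139 (iv D59256) (iv F263735)
theorem F268704 : act 1 n60139 = n59455 := d11_1 D60139 (iv D59455) (iv F263736)
theorem F268705 : act 3 n60139 = n60139 := d24_1 D60139 (iv D60139) (iv D58917) F259057 D58917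
theorem F268706 : act 6 n60139 = n59448 := d31_2 (iv F263738) D60139 (iv D59448)
theorem F268707 : act 7 n60139 = n58937 := d32_2 (iv F263739) D60139 (iv D58937)
theorem F268708 : act 8 n60139 = n59253 := d33_2 (iv F263740) D60139 (iv D59253)
def n60140 : Q := act 1 n58918
theorem D60140 : act 1 n58918 = n60140 := rfl
theorem F268709 : act 3 n60140 = n58922 := d10_2 (iv F263742) D60140 (iv D58922)
theorem F268710 : act 7 n60140 = n58938 := d14_2 (iv F263743) D60140 (iv D58938)
theorem F268711 : act 8 n60140 = n59254 := d15_2 (iv F263744) D60140 (iv D59254)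
def n60141 : Q := act 2 n58919
theorem D60141 : act 2 n58919 = n60141 := rfl
theorem F268712 : act 3 n60141 = n59447 := d17_2 D58919 D60141 (iv D59447) (iv D58257) (iv F259064)
theorem F268713 : act 5 n60141 = n59445 := d19_2 (iv F263745) D60141 (iv D59445)
theorem F268714 : act 6 n60141 = n58920 := d20_2 (iv F263746) D60141 (iv D58920)
theorem F268715 : act 8 n60141 = n58957 := d22_2 (iv F263747) D60141 (iv D58957)
def n60142 : Q := act 4 n58919
theorem D60142 : act 4 n58919 = n60142 := rfl
theorem F268716 : act 3 n60142 = n60142 := d24_1 D60142 (iv D60142) (iv D58919) F259065 D58919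
theorem F268717 : act 6 n60142 = n58921 := d31_2 (iv F263746) D60142 (iv D58921)
theorem F268718 : act 8 n60142 = n58958 := d33_2 (iv F263747) D60142 (iv D58958)
def n60143 : Q := act 1 n58920
theorem D60143 : act 1 n58920 = n60143 := rfl
theorem F268719 : act 5 n60143 = n58922 := d12_2 (iv F263748) D60143 (iv D58922)
theorem F268720 : act 7 n60143 = n58944 := d14_2 (iv F263749) D60143 (iv D58944)
theorem F268721 : act 8 n60143 = n58959 := d15_2 (iv F263750) D60143 (iv D58959)
def n60144 : Q := act 4 n58920
theorem D60144 : act 4 n58920 = n60144 := rfl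
theorem F268722 : act 2 n60144 = n58921 := d18_1 D60144 (iv D58921) D58920
theorem F268723 : act 7 n60144 = n58945 := d32_2 (iv F263749) D60144 (iv D58945)
theorem F268724 : act 8 n60144 = n58960 := d33_2 (iv F263750) D60144 (iv D58960)
def n60145 : Q := act 0 n58922
theorem D60145 : act 0 n58922 = n60145 := rfl
theorem F268725 : act 7 n60145 = n58946 := d6_2 (iv F263754) D60145 (iv D58946)
theorem F268726 : act 8 n60145 = n58961 := d7_2 (iv F263755) D60145 (iv D58961)
def n60146 : Q := act 2 n58923
theorem D60146 : act 2 n58923 = n60146 := rfl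
theorem F268727 : act 0 n60146 = n58928 := d1_1 D60146 (iv D58928) (iv F263756)
theorem F268728 : act 6 n60146 = n59422 := d20_2 (iv F263758) D60146 (iv D59422)
theorem F268729 : act 7 n60146 = n59168 := d21_2 (iv F263759) D60146 (iv D59168)
theorem F268730 : act 8 n60146 = n59154 := d22_2 (iv F263760) D60146 (iv D59154)
def n60147 : Q := act 4 n58923
theorem D60147 : act 4 n58923 = n60147 := rfl
theorem F268731 : act 0 n60147 = n58929 := d3_1 D60147 (iv D58929) (iv F263756)
theorem F268732 : act 1 n60147 = n59159 := d11_1 D60147 (iv D59159) (iv F263757)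
theorem F268733 : act 3 n60147 = n58925 := d24_1 D60147 (iv D58925) (iv D57750) (iv F259075) D58923
theorem F268734 : act 6 n60147 = n59423 := d31_2 (iv F263758) D60147 (iv D59423)
theorem F268735 : act 7 n60147 = n59169 := d32_2 (iv F263759) D60147 (iv D59169)
theorem F268736 : act 8 n60147 = n59155 := d33_2 (iv F263760) D60147 (iv D59155)
def n60148 : Q := act 4 n58924
theorem D60148 : act 4 n58924 = n60148 := rfl
theorem F268737 : act 0 n60148 = n58930 := d3_1 D60148 (iv D58930) (iv F263761)
theorem F268738 : act 1 n60148 = n59165 := d11_1 D60148 F264669 (iv F263762)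
theorem F268739 : act 2 n60148 = n58925 := d18_1 D60148 (iv D58925) D58924
theorem F268740 : act 6 n60148 = n59156 := d31_2 (iv F263764) D60148 F264632
theorem F268741 : act 7 n60148 = n59186 := d32_2 (iv F263765) D60148 (iv D59186)
theorem F268742 : act 8 n60148 = n59104 := d33_2 (iv F263766) D60148 (iv D59104)
def n60149 : Q := act 5 n58925
theorem D60149 : act 5 n58925 = n60149 := rfl
theorem F268743 : act 0 n60149 = n58931 := d4_1 D60149 (iv D58931) (iv F263767)
theorem F268744 : act 1 n60149 = n59184 := d12_1 D60149 (iv D59184) (iv F263768)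
theorem F268745 : act 4 n60149 = n60149 := d30_1 D60149 (iv D60149) (iv D58925) F259080 D58925
theorem F268746 : act 7 n60149 = n59187 := d36_2 (iv F263770) D60149 (iv D59187)
theorem F268747 : act 8 n60149 = n59105 := d37_2 (iv F263771) D60149 (iv D59105)
def n60150 : Q := act 2 n58926
theorem D60150 : act 2 n58926 = n60150 := rfl
theorem F268748 : act 0 n60150 = n59154 := d1_1 D60150 (iv D59154) (iv F263772)
theorem F268749 : act 3 n60150 = n58972 := d17_2 D58926 D60150 (iv D58972) (iv D57791) (iv F259086)
theorem F268750 : act 5 n60150 = n59462 := d19_2 (iv F263774) D60150 (iv D59462)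
theorem F268751 : act 6 n60150 = n59424 := d20_2 (iv F263775) D60150 (iv D59424)
theorem F268752 : act 7 n60150 = n58968 := d21_2 (iv F263776) D60150 (iv D58968)
theorem F268753 : act 8 n60150 = n58928 := d22_2 (iv F263777) D60150 (iv D58928)
theorem F268754 : act 9 n60150 = n59053 := d23_2 (iv F263778) D60150 (iv D59053)
def n60151 : Q := act 2 n58927
theorem D60151 : act 2 n58927 = n60151 := rfl
theorem F268755 : act 5 n60151 = n58928 := d19_2 (iv F263780) D60151 (iv D58928)
theorem F268756 : act 7 n60151 = n59454 := d21_2 (iv F263781) D60151 (iv D59454)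
theorem F268757 : act 8 n60151 = n59462 := d22_2 (iv F263782) D60151 (iv D59462)
def n60152 : Q := act 4 n58927
theorem D60152 : act 4 n58927 = n60152 := rfl
theorem F268758 : act 1 n60152 = n58937 := d11_1 D60152 (iv D58937) (iv F263779)
theorem F268759 : act 3 n60152 = n60152 := d24_1 D60152 (iv D60152) (iv D58927) F259093 D58927
theorem F268760 : act 7 n60152 = n59455 := d32_2 (iv F263781) D60152 (iv D59455)
theorem F268761 : act 8 n60152 = n59463 := d33_2 (iv F263782) D60152 (iv D59463)
def n60153 : Q := act 1 n58928
theorem D60153 : act 1 n58928 = n60153 := rfl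
theorem F268762 : act 2 n60153 = n58938 := d9_2 D58928 D60153 (iv D58938) (iv D57761) (iv F259096)
theorem F268763 : act 6 n60153 = n59426 := d13_2 (iv F263783) D60153 (iv D59426)
def n60154 : Q := act 4 n58928
theorem D60154 : act 4 n58928 = n60154 := rfl
theorem F268764 : act 2 n60154 = n58929 := d18_1 D60154 (iv D58929) D58928
theorem F268765 : act 6 n60154 = n59427 := d31_2 (iv F263783) D60154 (iv D59427)
def n60155 : Q := act 5 n58929
theorem D60155 : act 5 n58929 = n60155 := rfl
theorem F268766 : act 1 n60155 = n58940 := d12_1 D60155 (iv D58940) (iv F263784)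
theorem F268767 : act 3 n60155 = n58931 := d25_1 D60155 (iv D58931) (iv F263785)
theorem F268768 : act 8 n60155 = n59428 := d37_2 F267112 D60155 (iv F267109)
def n60156 : Q := act 3 n58930
theorem D60156 : act 3 n58930 = n60156 := rfl
theorem F268769 : act 6 n60156 = n59428 := d26_2 (iv F263788) D60156 (iv D59428)
def n60157 : Q := act 5 n58930
theorem D60157 : act 5 n58930 = n60157 := rfl
theorem F268770 : act 1 n60157 = n59094 := d12_1 D60157 F266171 F266166
theorem F268771 : act 2 n60157 = n58931 := d19_1 D60157 (iv D58931) (iv F263787)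
theorem F268772 : act 4 n60157 = n60157 := d30_1 D60157 (iv D60157) (iv D58930) F259098 D58930
theorem F268773 : act 6 n60157 = n59096 := d35_2 (iv F263788) D60157 F264370 (iv F262240) F262239
theorem F268774 : act 7 n60157 = n59290 := d36_2 F265998 D60157 (iv F265997)
theorem F268775 : act 8 n60157 = n59092 := d37_2 (iv F263789) D60157 (iv F264352)
def n60158 : Q := act 6 n58931
theorem D60158 : act 6 n58931 = n60158 := rfl
theorem F268776 : act 1 n60158 = n58941 := d13_1 D60158 (iv D58941) (iv F263790)
theorem F268777 : act 2 n60158 = n59096 := d20_1 D60158 (iv F268773) F268771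
theorem F268778 : act 4 n60158 = n60158 := d31_1 D60158 (iv D60158) F263791
theorem F268779 : act 5 n60158 = n59078 := d35_1 D60158 F264300 F259578 (iv F259102) D58931
theorem F268780 : act 7 n60158 = n59101 := d39_2 F266201 D60158 F264395 (iv F261461) (iv F266200)
theorem F268781 : act 8 n60158 = n59093 := d40_2 (iv F263792) D60158 F264357
def n60159 : Q := act 2 n58932
theorem D60159 : act 2 n58932 = n60159 := rfl
theorem F268782 : act 0 n60159 = n59233 := d1_1 D60159 (iv D59233) (iv F263793)
theorem F268783 : act 3 n60159 = n58965 := d17_2 D58932 D60159 (iv D58965) (iv D57784) (iv F259106)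
theorem F268784 : act 5 n60159 = n58934 := d19_2 (iv F263795) D60159 (iv D58934)
theorem F268785 : act 7 n60159 = n59252 := d21_2 (iv F263796) D60159 (iv D59252)
theorem F268786 : act 8 n60159 = n58936 := d22_2 (iv F263797) D60159 (iv D58936)
theorem F268787 : act 9 n60159 = n59422 := d23_2 (iv F263798) D60159 (iv D59422)
def n60160 : Q := act 4 n58932
theorem D60160 : act 4 n58932 = n60160 := rfl
theorem F268788 : act 0 n60160 = n59234 := d3_1 D60160 (iv D59234) (iv F263793)
theorem F268789 : act 1 n60160 = n59463 := d11_1 D60160 (iv D59463) (iv F263794)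
theorem F268790 : act 3 n60160 = n59288 := d24_1 D60160 (iv D59288) (iv D58089) (iv F259107) D58932
theorem F268791 : act 7 n60160 = n59253 := d32_2 (iv F263796) D60160 (iv D59253)
theorem F268792 : act 8 n60160 = n58937 := d33_2 (iv F263797) D60160 (iv D58937)
theorem F268793 : act 9 n60160 = n59423 := d34_2 (iv F263798) D60160 (iv D59423)
def n60161 : Q := act 2 n58933
theorem D60161 : act 2 n58933 = n60161 := rfl
theorem F268794 : act 0 n60161 = n59202 := d1_1 D60161 (iv D59202) (iv F263799)
theorem F268795 : act 3 n60161 = n58966 := d17_2 D58933 D60161 (iv D58966) (iv D57785) (iv F259113)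
theorem F268796 : act 5 n60161 = n59422 := d19_2 (iv F263801) D60161 (iv D59422)
theorem F268797 : act 6 n60161 = n59429 := d20_2 (iv F263802) D60161 (iv D59429)
theorem F268798 : act 7 n60161 = n59033 := d21_2 (iv F263803) D60161 (iv D59033)
theorem F268799 : act 9 n60161 = n58934 := d23_2 (iv F263804) D60161 (iv D58934)
def n60162 : Q := act 1 n58934
theorem D60162 : act 1 n58934 = n60162 := rfl
theorem F268800 : act 3 n60162 = n58967 := d10_2 (iv F263806) D60162 (iv D58967)
theorem F268801 : act 6 n60162 = n59431 := d13_2 (iv F263807) D60162 (iv D59431)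
theorem F268802 : act 7 n60162 = n59254 := d14_2 (iv F263808) D60162 (iv D59254)
theorem F268803 : act 8 n60162 = n58938 := d15_2 (iv F263809) D60162 (iv D58938)
def n60163 : Q := act 2 n58935
theorem D60163 : act 2 n58935 = n60163 := rfl
theorem F268804 : act 3 n60163 = n58942 := d17_2 D58935 D60163 (iv D58942) (iv D57764) (iv F259123)
theorem F268805 : act 5 n60163 = n59197 := d19_2 (iv F263810) D60163 (iv D59197)
theorem F268806 : act 6 n60163 = n58936 := d20_2 (iv F263811) D60163 (iv D58936)
theorem F268807 : act 9 n60163 = n59225 := d23_2 (iv F263812) D60163 (iv D59225)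
def n60164 : Q := act 4 n58935
theorem D60164 : act 4 n58935 = n60164 := rfl
theorem F268808 : act 3 n60164 = n60164 := d24_1 D60164 (iv D60164) (iv D58935) F259124 D58935
theorem F268809 : act 6 n60164 = n58937 := d31_2 (iv F263811) D60164 (iv D58937)
theorem F268810 : act 9 n60164 = n59226 := d34_2 (iv F263812) D60164 (iv D59226)
def n60165 : Q := act 1 n58936
theorem D60165 : act 1 n58936 = n60165 := rfl
theorem F268811 : act 3 n60165 = n58944 := d10_2 (iv F263813) D60165 (iv D58944)
theorem F268812 : act 5 n60165 = n58938 := d12_2 (iv F263814) D60165 (iv D58938)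
def n60166 : Q := act 4 n58936
theorem D60166 : act 4 n58936 = n60166 := rfl
theorem F268813 : act 2 n60166 = n58937 := d18_1 D60166 (iv D58937) D58936
def n60167 : Q := act 5 n58937
theorem D60167 : act 5 n58937 = n60167 := rfl
theorem F268814 : act 3 n60167 = n60167 := d25_1 D60167 (iv D60167) F263815
theorem F268815 : act 4 n60167 = n58940 := d30_1 D60167 (iv D58940) (iv D57762) (iv F259128) D58937
def n60168 : Q := act 0 n58938
theorem D60168 : act 0 n58938 = n60168 := rfl
theorem F268816 : act 3 n60168 = n58946 := d2_2 (iv F263816) D60168 (iv D58946)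
theorem F268817 : act 6 n60168 = n59433 := d5_2 (iv F263817) D60168 (iv D59433)
def n60169 : Q := act 4 n58938
theorem D60169 : act 4 n58938 = n60169 := rfl
theorem F268818 : act 1 n60169 = n58939 := d11_1 D60169 (iv D58939) D58938
theorem F268819 : act 6 n60169 = n59434 := d31_2 (iv F263817) D60169 (iv D59434)
def n60170 : Q := act 5 n58939
theorem D60170 : act 5 n58939 = n60170 := rfl
theorem F268820 : act 2 n60170 = n58940 := d19_1 D60170 (iv D58940) (iv F263818)
def n60171 : Q := act 6 n58940
theorem D60171 : act 6 n58940 = n60171 := rfl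
theorem F268821 : act 3 n60171 = n58941 := d26_1 D60171 (iv D58941) (iv F263820)
theorem F268822 : act 5 n60171 = n59079 := d35_1 D60171 F264303 F259581 (iv F259132) D58940
def n60172 : Q := act 1 n58942
theorem D60172 : act 1 n58942 = n60172 := rfl
theorem F268823 : act 2 n60172 = n59438 := d9_2 D58942 D60172 (iv D59438) (iv D58248) (iv F259135)
theorem F268824 : act 5 n60172 = n59200 := d12_2 (iv F263825) D60172 (iv D59200)
theorem F268825 : act 6 n60172 = n58944 := d13_2 (iv F263826) D60172 (iv D58944)
theorem F268826 : act 8 n60172 = n58974 := d15_2 (iv F263827) D60172 (iv D58974)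
theorem F268827 : act 9 n60172 = n59230 := d16_2 (iv F263828) D60172 (iv D59230)
def n60173 : Q := act 4 n58942
theorem D60173 : act 4 n58942 = n60173 := rfl
theorem F268828 : act 2 n60173 = n58943 := d18_1 D60173 (iv D58943) D58942
theorem F268829 : act 6 n60173 = n58945 := d31_2 (iv F263826) D60173 (iv D58945)
theorem F268830 : act 8 n60173 = n58975 := d33_2 (iv F263827) D60173 (iv D58975)
theorem F268831 : act 9 n60173 = n59231 := d34_2 (iv F263828) D60173 (iv D59231)
def n60174 : Q := act 0 n58944
theorem D60174 : act 0 n58944 = n60174 := rfl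
theorem F268832 : act 5 n60174 = n58946 := d4_2 (iv F263834) D60174 (iv D58946)
theorem F268833 : act 8 n60174 = n58976 := d7_2 (iv F263835) D60174 (iv D58976)
def n60175 : Q := act 4 n58944
theorem D60175 : act 4 n58944 = n60175 := rfl
theorem F268834 : act 1 n60175 = n58945 := d11_1 D60175 (iv D58945) D58944
theorem F268835 : act 8 n60175 = n58977 := d33_2 (iv F263835) D60175 (iv D58977)
def n60176 : Q := act 3 n58945
theorem D60176 : act 3 n58945 = n60176 := rfl
theorem F268836 : act 2 n60176 = n60176 := d17_1 D60176 (iv D60176) F263836 F259142 (iv F263836)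
def n60177 : Q := act 1 n58947
theorem D60177 : act 1 n58947 = n60177 := rfl
theorem F268837 : act 3 n60177 = n58951 := d10_2 (iv F263841) D60177 (iv D58951)
theorem F268838 : act 4 n60177 = n59411 := d11_2 (iv F263842) D60177 (iv D59411)
theorem F268839 : act 6 n60177 = n58955 := d13_2 (iv F263843) D60177 (iv D58955)
theorem F268840 : act 7 n60177 = n59437 := d14_2 (iv F263844) D60177 (iv D59437)
theorem F268841 : act 8 n60177 = n59028 := d15_2 (iv F263845) D60177 (iv D59028)
theorem F268842 : act 9 n60177 = n58995 := d16_2 (iv F263846) D60177 (iv D58995)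
def n60178 : Q := act 2 n58948
theorem D60178 : act 2 n58948 = n60178 := rfl
theorem F268843 : act 3 n60178 = n59210 := d17_2 D58948 D60178 (iv D59210) (iv D58021) (iv F259152)
theorem F268844 : act 5 n60178 = n58957 := d19_2 (iv F263847) D60178 (iv D58957)
theorem F268845 : act 6 n60178 = n58949 := d20_2 (iv F263848) D60178 (iv D58949)
theorem F268846 : act 8 n60178 = n59445 := d22_2 (iv F263849) D60178 (iv D59445)
theorem F268847 : act 9 n60178 = n58998 := d23_2 (iv F263850) D60178 (iv D58998)
def n60179 : Q := act 4 n58948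
theorem D60179 : act 4 n58948 = n60179 := rfl
theorem F268848 : act 3 n60179 = n60179 := d24_1 D60179 (iv D60179) (iv D58948) F259153 D58948
theorem F268849 : act 6 n60179 = n58950 := d31_2 (iv F263848) D60179 (iv D58950)
theorem F268850 : act 8 n60179 = n59446 := d33_2 (iv F263849) D60179 (iv D59446)
theorem F268851 : act 9 n60179 = n58999 := d34_2 (iv F263850) D60179 (iv D58999)
def n60180 : Q := act 1 n58949
theorem D60180 : act 1 n58949 = n60180 := rfl
theorem F268852 : act 5 n60180 = n58951 := d12_2 (iv F263851) D60180 (iv D58951)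
theorem F268853 : act 7 n60180 = n59438 := d14_2 (iv F263852) D60180 (iv D59438)
theorem F268854 : act 9 n60180 = n59000 := d16_2 (iv F263853) D60180 (iv D59000)
def n60181 : Q := act 4 n58949
theorem D60181 : act 4 n58949 = n60181 := rfl
theorem F268855 : act 2 n60181 = n58950 := d18_1 D60181 (iv D58950) D58949
theorem F268856 : act 7 n60181 = n59439 := d32_2 (iv F263852) D60181 (iv D59439)
theorem F268857 : act 9 n60181 = n59001 := d34_2 (iv F263853) D60181 (iv D59001)
def n60182 : Q := act 0 n58951
theorem D60182 : act 0 n58951 = n60182 := rfl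
theorem F268858 : act 6 n60182 = n58961 := d5_2 (iv F263857) D60182 (iv D58961)
theorem F268859 : act 7 n60182 = n59440 := d6_2 (iv F263858) D60182 (iv D59440)
theorem F268860 : act 9 n60182 = n59002 := d8_2 (iv F263859) D60182 (iv D59002)
def n60183 : Q := act 1 n58952
theorem D60183 : act 1 n58952 = n60183 := rfl
theorem F268861 : act 2 n60183 = n58955 := d9_2 D58952 D60183 (iv D58955) (iv D57775) (iv F259164)
theorem F268862 : act 4 n60183 = n59415 := d11_2 (iv F263861) D60183 (iv D59415)
theorem F268863 : act 7 n60183 = n58963 := d14_2 (iv F263862) D60183 (iv D58963)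
theorem F268864 : act 8 n60183 = n59417 := d15_2 (iv F263863) D60183 (iv D59417)
theorem F268865 : act 9 n60183 = n59006 := d16_2 (iv F263864) D60183 (iv D59006)
def n60184 : Q := act 2 n58953
theorem D60184 : act 2 n58953 = n60184 := rfl
theorem F268866 : act 0 n60184 = n59489 := d1_1 D60184 F265482 (iv F263865)
theorem F268867 : act 3 n60184 = n58957 := d17_2 D58953 D60184 (iv D58957) (iv D57777) (iv F259171)
theorem F268868 : act 5 n60184 = n59210 := d19_2 (iv F263867) D60184 (iv D59210)
theorem F268869 : act 6 n60184 = n58954 := d20_2 (iv F263868) D60184 (iv D58954)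
theorem F268870 : act 7 n60184 = n59424 := d21_2 (iv F263869) D60184 (iv D59424)
theorem F268871 : act 8 n60184 = n59212 := d22_2 (iv F263870) D60184 (iv D59212)
theorem F268872 : act 9 n60184 = n59014 := d23_2 (iv F263871) D60184 (iv D59014)
def n60185 : Q := act 1 n58954
theorem D60185 : act 1 n58954 = n60185 := rfl
theorem F268873 : act 3 n60185 = n58959 := d10_2 (iv F263873) D60185 (iv D58959)
theorem F268874 : act 5 n60185 = n58955 := d12_2 (iv F263874) D60185 (iv D58955)
theorem F268875 : act 7 n60185 = n58969 := d14_2 (iv F263875) D60185 (iv D58969)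
theorem F268876 : act 8 n60185 = n59492 := d15_2 (iv F263876) D60185 (iv D59492)
theorem F268877 : act 9 n60185 = n59016 := d16_2 (iv F263877) D60185 (iv D59016)
def n60186 : Q := act 0 n58955
theorem D60186 : act 0 n58955 = n60186 := rfl
theorem F268878 : act 1 n60186 = n59487 := d0_2 D58955 D60186 F265474 F260730 (iv F259182)
theorem F268879 : act 3 n60186 = n58961 := d2_2 (iv F263878) D60186 (iv D58961)
theorem F268880 : act 4 n60186 = n59416 := d3_2 (iv F263879) D60186 (iv D59416)
theorem F268881 : act 7 n60186 = n58971 := d6_2 (iv F263880) D60186 (iv D58971)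
theorem F268882 : act 8 n60186 = n59493 := d7_2 (iv F263881) D60186 (iv D59493)
theorem F268883 : act 9 n60186 = n59018 := d8_2 (iv F263882) D60186 (iv D59018)
def n60187 : Q := act 2 n58956
theorem D60187 : act 2 n58956 = n60187 := rfl
theorem F268884 : act 3 n60187 = n59424 := d17_2 D58956 D60187 (iv D59424) (iv D58236) (iv F259189)
theorem F268885 : act 6 n60187 = n58972 := d20_2 (iv F263884) D60187 (iv D58972)
theorem F268886 : act 7 n60187 = n58957 := d21_2 (iv F263885) D60187 (iv D58957)
theorem F268887 : act 9 n60187 = n59020 := d23_2 (iv F263886) D60187 (iv D59020)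
def n60188 : Q := act 4 n58956
theorem D60188 : act 4 n58956 = n60188 := rfl
theorem F268888 : act 1 n60188 = n59446 := d11_1 D60188 (iv D59446) (iv F263883)
theorem F268889 : act 3 n60188 = n58980 := d24_1 D60188 (iv D58980) (iv D57798) (iv F259190) D58956
theorem F268890 : act 6 n60188 = n58973 := d31_2 (iv F263884) D60188 (iv D58973)
theorem F268891 : act 7 n60188 = n58958 := d32_2 (iv F263885) D60188 (iv D58958)
theorem F268892 : act 9 n60188 = n59021 := d34_2 (iv F263886) D60188 (iv D59021)
def n60189 : Q := act 1 n58957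
theorem D60189 : act 1 n58957 = n60189 := rfl
theorem F268893 : act 6 n60189 = n58959 := d13_2 (iv F263887) D60189 (iv D58959)
theorem F268894 : act 9 n60189 = n59022 := d16_2 (iv F263888) D60189 (iv D59022)
def n60190 : Q := act 4 n58957
theorem D60190 : act 4 n58957 = n60190 := rfl
theorem F268895 : act 2 n60190 = n58958 := d18_1 D60190 (iv D58958) D58957
theorem F268896 : act 6 n60190 = n58960 := d31_2 (iv F263887) D60190 (iv D58960)
theorem F268897 : act 9 n60190 = n59023 := d34_2 (iv F263888) D60190 (iv D59023)
def n60191 : Q := act 5 n58958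
theorem D60191 : act 5 n58958 = n60191 := rfl
theorem F268898 : act 3 n60191 = n58983 := d25_1 D60191 (iv D58983) (iv F263889)
theorem F268899 : act 9 n60191 = n59024 := d38_2 (iv F263891) D60191 (iv D59024)
def n60192 : Q := act 0 n58959
theorem D60192 : act 0 n58959 = n60192 := rfl
theorem F268900 : act 5 n60192 = n58961 := d4_2 (iv F263892) D60192 (iv D58961)
theorem F268901 : act 7 n60192 = n58976 := d6_2 (iv F263893) D60192 (iv D58976)
theorem F268902 : act 9 n60192 = n59025 := d8_2 (iv F263894) D60192 (iv D59025)
def n60193 : Q := act 4 n58959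
theorem D60193 : act 4 n58959 = n60193 := rfl
theorem F268903 : act 1 n60193 = n58960 := d11_1 D60193 (iv D58960) D58959
theorem F268904 : act 7 n60193 = n58977 := d32_2 (iv F263893) D60193 (iv D58977)
theorem F268905 : act 9 n60193 = n59026 := d34_2 (iv F263894) D60193 (iv D59026)
def n60194 : Q := act 3 n58960
theorem D60194 : act 3 n58960 = n60194 := rfl
theorem F268906 : act 2 n60194 = n58985 := d17_1 D60194 (iv D58985) F259295 (iv F259199) (iv F263895)
theorem F268907 : act 4 n60194 = n59249 := d24_2 D58960 D60194 (iv F267041) F267042 F263873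
theorem F268908 : act 5 n60194 = n59246 := d25_2 F268246 D60194 (iv F268245)
theorem F268909 : act 7 n60194 = n58978 := d27_2 (iv F263896) D60194 (iv D58978)
theorem F268910 : act 9 n60194 = n59027 := d29_2 (iv F263897) D60194 (iv D59027)
def n60195 : Q := act 1 n58962
theorem D60195 : act 1 n58962 = n60195 := rfl
theorem F268911 : act 2 n60195 = n58967 := d9_2 D58962 D60195 (iv D58967) (iv D57786) (iv F259205)
theorem F268912 : act 4 n60195 = n59418 := d11_2 (iv F263901) D60195 (iv D59418)
theorem F268913 : act 6 n60195 = n59449 := d13_2 (iv F263902) D60195 (iv D59449)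
theorem F268914 : act 7 n60195 = n59417 := d14_2 (iv F263903) D60195 (iv D59417)
theorem F268915 : act 8 n60195 = n58963 := d15_2 (iv F263904) D60195 (iv D58963)
def n60196 : Q := act 0 n58963
theorem D60196 : act 0 n58963 = n60196 := rfl
theorem F268916 : act 2 n60196 = n58971 := d1_2 (iv F263905) D60196 (iv D58971)
theorem F268917 : act 4 n60196 = n59419 := d3_2 (iv F263906) D60196 (iv D59419)
theorem F268918 : act 6 n60196 = n59452 := d5_2 (iv F263907) D60196 (iv D59452)
theorem F268919 : act 9 n60196 = n59036 := d8_2 (iv F263908) D60196 (iv D59036)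
def n60197 : Q := act 2 n58964
theorem D60197 : act 2 n58964 = n60197 := rfl
theorem F268920 : act 0 n60197 = n59188 := d1_1 D60197 (iv D59188) (iv F263909)
theorem F268921 : act 3 n60197 = n59422 := d17_2 D58964 D60197 (iv D59422) (iv D58234) (iv F259215)
theorem F268922 : act 5 n60197 = n58966 := d19_2 (iv F263911) D60197 (iv D58966)
theorem F268923 : act 7 n60197 = n59261 := d21_2 (iv F263912) D60197 (iv D59261)
theorem F268924 : act 8 n60197 = n59042 := d22_2 (iv F263913) D60197 (iv D59042)
theorem F268925 : act 9 n60197 = n58965 := d23_2 (iv F263914) D60197 (iv D58965)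
def n60198 : Q := act 1 n58965
theorem D60198 : act 1 n58965 = n60198 := rfl
theorem F268926 : act 5 n60198 = n58967 := d12_2 (iv F263916) D60198 (iv D58967)
theorem F268927 : act 7 n60198 = n59492 := d14_2 (iv F263917) D60198 (iv D59492)
theorem F268928 : act 8 n60198 = n58969 := d15_2 (iv F263918) D60198 (iv D58969)
def n60199 : Q := act 1 n58966
theorem D60199 : act 1 n58966 = n60199 := rfl
theorem F268929 : act 4 n60199 = n59420 := d11_2 (iv F263920) D60199 (iv D59420)
theorem F268930 : act 6 n60199 = n59460 := d13_2 (iv F263921) D60199 (iv D59460)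
theorem F268931 : act 7 n60199 = n59444 := d14_2 (iv F263922) D60199 (iv D59444)
theorem F268932 : act 8 n60199 = n59047 := d15_2 (iv F263923) D60199 (iv D59047)
theorem F268933 : act 9 n60199 = n58967 := d16_2 (iv F263924) D60199 (iv D58967)
def n60200 : Q := act 0 n58967
theorem D60200 : act 0 n58967 = n60200 := rfl
theorem F268934 : act 1 n60200 = n59481 := d0_2 D58967 D60200 (iv D59481) (iv D58290) (iv F259230)
theorem F268935 : act 4 n60200 = n59421 := d3_2 (iv F263925) D60200 (iv D59421)
theorem F268936 : act 6 n60200 = n59461 := d5_2 (iv F263926) D60200 (iv D59461)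
theorem F268937 : act 7 n60200 = n59493 := d6_2 (iv F263927) D60200 (iv D59493)
theorem F268938 : act 8 n60200 = n58971 := d7_2 (iv F263928) D60200 (iv D58971)
def n60201 : Q := act 1 n58968
theorem D60201 : act 1 n58968 = n60201 := rfl
theorem F268939 : act 2 n60201 = n59254 := d9_2 D58968 D60201 (iv D59254) (iv D58059) (iv F259236)
theorem F268940 : act 3 n60201 = n58974 := d10_2 (iv F263930) D60201 (iv D58974)
theorem F268941 : act 5 n60201 = n59464 := d12_2 (iv F263931) D60201 (iv D59464)
theorem F268942 : act 6 n60201 = n58969 := d13_2 (iv F263932) D60201 (iv D58969)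
theorem F268943 : act 9 n60201 = n59055 := d16_2 (iv F263933) D60201 (iv D59055)
def n60202 : Q := act 0 n58969
theorem D60202 : act 0 n58969 = n60202 := rfl
theorem F268944 : act 1 n60202 = n59516 := d0_2 D58969 D60202 F265534 F260787 (iv F259240)
theorem F268945 : act 3 n60202 = n58976 := d2_2 (iv F263934) D60202 (iv D58976)
theorem F268946 : act 5 n60202 = n58971 := d4_2 (iv F263935) D60202 (iv D58971)
theorem F268947 : act 9 n60202 = n59058 := d8_2 (iv F263936) D60202 (iv D59058)
def n60203 : Q := act 4 n58969
theorem D60203 : act 4 n58969 = n60203 := rfl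
theorem F268948 : act 1 n60203 = n58970 := d11_1 D60203 (iv D58970) D58969
theorem F268949 : act 5 n60203 = n59138 := d30_2 (iv F263935) D60203 (iv D59138) F259845 (iv F259249)
theorem F268950 : act 9 n60203 = n59059 := d34_2 (iv F263936) D60203 (iv D59059)
theorem F268951 : act 3 n59285 = n60203 := d25_3 F268949 F264568 D59285
def n60204 : Q := act 1 n58972
theorem D60204 : act 1 n58972 = n60204 := rfl
theorem F268952 : act 5 n60204 = n59469 := d12_2 (iv F263947) D60204 (iv D59469)
theorem F268953 : act 7 n60204 = n58974 := d14_2 (iv F263948) D60204 (iv D58974)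
theorem F268954 : act 9 n60204 = n59064 := d16_2 (iv F263949) D60204 (iv D59064)
def n60205 : Q := act 4 n58972
theorem D60205 : act 4 n58972 = n60205 := rfl
theorem F268955 : act 2 n60205 = n58973 := d18_1 D60205 (iv D58973) D58972
theorem F268956 : act 5 n60205 = n59359 := d30_2 (iv F263947) D60205 (iv D59359) (iv F261579) F261578
theorem F268957 : act 7 n60205 = n58975 := d32_2 (iv F263948) D60205 (iv D58975)
theorem F268958 : act 9 n60205 = n59065 := d34_2 (iv F263949) D60205 (iv D59065)
def n60206 : Q := act 0 n58974
theorem D60206 : act 0 n58974 = n60206 := rfl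
theorem F268959 : act 5 n60206 = n59470 := d4_2 (iv F263954) D60206 (iv D59470)
theorem F268960 : act 6 n60206 = n58976 := d5_2 (iv F263955) D60206 (iv D58976)
theorem F268961 : act 9 n60206 = n59066 := d8_2 (iv F263956) D60206 (iv D59066)
def n60207 : Q := act 4 n58974
theorem D60207 : act 4 n58974 = n60207 := rfl
theorem F268962 : act 1 n60207 = n58975 := d11_1 D60207 (iv D58975) D58974
theorem F268963 : act 6 n60207 = n58977 := d31_2 (iv F263955) D60207 (iv D58977)
theorem F268964 : act 9 n60207 = n59067 := d34_2 (iv F263956) D60207 (iv D59067)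
def n60208 : Q := act 3 n58975
theorem D60208 : act 3 n58975 = n60208 := rfl
theorem F268965 : act 2 n60208 = n58987 := d17_1 D60208 (iv D58987) F259311 (iv F259258) (iv F263957)
theorem F268966 : act 4 n60208 = n59088 := d24_2 D58975 D60208 (iv F267115) F267116 F263930
theorem F268967 : act 5 n60208 = n59214 := d25_2 F266384 D60208 (iv F266383)
theorem F268968 : act 6 n60208 = n58978 := d26_2 (iv F263958) D60208 (iv D58978)
theorem F268969 : act 9 n60208 = n59068 := d29_2 (iv F263959) D60208 (iv D59068)
def n60209 : Q := act 4 n58976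
theorem D60209 : act 4 n58976 = n60209 := rfl
theorem F268970 : act 0 n60209 = n58977 := d3_1 D60209 (iv D58977) D58976
theorem F268971 : act 9 n60209 = n59069 := d34_2 (iv F263961) D60209 (iv D59069)
def n60210 : Q := act 3 n58977
theorem D60210 : act 3 n58977 = n60210 := rfl
theorem F268972 : act 1 n60210 = n58978 := d10_1 D60210 (iv D58978) (iv F263962)
theorem F268973 : act 4 n60210 = n59285 := d24_2 D58977 D60210 F268951 (iv D60203) F263934
theorem F268974 : act 5 n60210 = n59283 := d25_2 F268260 D60210 (iv F268259)
theorem F268975 : act 9 n60210 = n59070 := d29_2 (iv F263963) D60210 (iv D59070)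
def n60211 : Q := act 8 n58978
theorem D60211 : act 8 n58978 = n60211 := rfl
theorem F268976 : act 2 n60211 = n58989 := d22_1 D60211 (iv D58989) (iv F263964)
theorem F268977 : act 4 n60211 = n59277 := d33_1 D60211 F265008 (iv F263965)
theorem F268978 : act 5 n60211 = n59271 := d37_1 D60211 F264998 (iv F263966)
def n60212 : Q := act 4 n58979
theorem D60212 : act 4 n58979 = n60212 := rfl
theorem F268979 : act 1 n60212 = n59073 := d11_1 D60212 (iv D59073) (iv F263968)
theorem F268980 : act 2 n60212 = n58980 := d18_1 D60212 (iv D58980) D58979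
theorem F268981 : act 6 n60212 = n58986 := d31_2 (iv F263971) D60212 (iv D58986)
theorem F268982 : act 7 n60212 = n58982 := d32_2 (iv F263972) D60212 (iv D58982)
theorem F268983 : act 8 n60212 = n60212 := d33_2 F263973 D60212 (iv D60212)
theorem F268984 : act 9 n60212 = n59076 := d34_2 (iv F263974) D60212 (iv D59076)
def n60213 : Q := act 4 n58981
theorem D60213 : act 4 n58981 = n60213 := rfl
theorem F268985 : act 1 n60213 = n58982 := d11_1 D60213 (iv D58982) D58981
theorem F268986 : act 2 n60213 = n59072 := d18_1 D60213 (iv D59072) (iv F263980)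
theorem F268987 : act 6 n60213 = n58984 := d31_2 (iv F263983) D60213 (iv D58984)
theorem F268988 : act 7 n60213 = n59073 := d32_2 (iv F263984) D60213 (iv D59073)
theorem F268989 : act 8 n60213 = n60213 := d33_2 F263985 D60213 (iv D60213)
theorem F268990 : act 9 n60213 = n59078 := d34_2 (iv F263986) D60213 (iv D59078)
def n60214 : Q := act 3 n58982
theorem D60214 : act 3 n58982 = n60214 := rfl
theorem F268991 : act 4 n60214 = n59250 := d24_2 D58982 D60214 F264939 F260202 (iv F259281)
theorem F268992 : act 6 n60214 = n58985 := d26_2 (iv F263988) D60214 (iv D58985)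
theorem F268993 : act 9 n60214 = n59079 := d29_2 (iv F263990) D60214 (iv D59079)
def n60215 : Q := act 3 n58984
theorem D60215 : act 3 n58984 = n60215 := rfl
theorem F268994 : act 1 n60215 = n58985 := d10_1 D60215 (iv D58985) (iv F263994)
theorem F268995 : act 4 n60215 = n59085 := d24_2 D58984 D60215 (iv D59085) (iv D57891) (iv F259290)
theorem F268996 : act 5 n60215 = n59234 := d25_2 (iv F263996) D60215 F264893
theorem F268997 : act 7 n60215 = n58988 := d27_2 (iv F263997) D60215 (iv D58988)
theorem F268998 : act 9 n60215 = n59081 := d29_2 (iv F263999) D60215 (iv D59081)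
def n60216 : Q := act 8 n58985
theorem D60216 : act 8 n58985 = n60216 := rfl
theorem F268999 : act 3 n60216 = n60216 := d28_1 D60216 (iv D60216) (iv D58985) F259298 D58985
theorem F269000 : act 4 n60216 = n59244 := d33_1 D60216 F264925 (iv F264000)
theorem F269001 : act 5 n60216 = n59239 := d37_1 D60216 F264912 (iv F264001)
theorem F269002 : act 7 n60216 = n58989 := d42_1 D60216 (iv D58989) (iv F264002)
def n60217 : Q := act 3 n58986
theorem D60217 : act 3 n58986 = n60217 := rfl
theorem F269003 : act 1 n60217 = n59075 := d10_1 D60217 (iv D59075) (iv F264004)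
theorem F269004 : act 4 n60217 = n59081 := d24_2 D58986 D60217 (iv D59081) (iv D57886) (iv F259301)
theorem F269005 : act 5 n60217 = n59203 := d25_2 (iv F264006) D60217 F264804
theorem F269006 : act 7 n60217 = n58987 := d27_2 (iv F264007) D60217 (iv D58987)
theorem F269007 : act 9 n60217 = n59085 := d29_2 (iv F264009) D60217 (iv D59085)
def n60218 : Q := act 8 n58987
theorem D60218 : act 8 n58987 = n60218 := rfl
theorem F269008 : act 1 n60218 = n59084 := d15_1 D60218 (iv D59084) (iv F264010)
theorem F269009 : act 3 n60218 = n60218 := d28_1 D60218 (iv D60218) (iv D58987) F259314 D58987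
theorem F269010 : act 4 n60218 = n59089 := d33_1 D60218 (iv D59089) (iv F264011)
theorem F269011 : act 5 n60218 = n59211 := d37_1 D60218 F264833 (iv F264012)
theorem F269012 : act 6 n60218 = n58989 := d40_1 D60218 (iv D58989) (iv F264013)
def n60219 : Q := act 2 n58988
theorem D60219 : act 2 n58988 = n60219 := rfl
theorem F269013 : act 3 n60219 = n59056 := d17_2 D58988 D60219 F264229 F259501 (iv F259317)
theorem F269014 : act 4 n60219 = n59068 := d18_2 (iv F264016) D60219 F264263
theorem F269015 : act 5 n60219 = n59263 := d19_2 (iv F264017) D60219 F264977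
theorem F269016 : act 6 n60219 = n59060 := d20_2 (iv F264018) D60219 F264236
theorem F269017 : act 9 n60219 = n59088 := d23_2 (iv F264019) D60219 (iv D59088)
def n60220 : Q := act 8 n58988
theorem D60220 : act 8 n58988 = n60220 := rfl
theorem F269018 : act 1 n60220 = n58989 := d15_1 D60220 (iv D58989) (iv F264015)
theorem F269019 : act 3 n60220 = n60220 := d28_1 D60220 (iv D60220) (iv D58988) F259320 D58988
theorem F269020 : act 4 n60220 = n59086 := d33_1 D60220 (iv D59086) (iv F264016)
theorem F269021 : act 5 n60220 = n59256 := d37_1 D60220 F264960 (iv F264017)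
theorem F269022 : act 6 n60220 = n59084 := d40_1 D60220 (iv D59084) (iv F264018)
def n60221 : Q := act 9 n58989
theorem D60221 : act 9 n58989 = n60221 := rfl
theorem F269023 : act 3 n60221 = n60221 := d29_1 D60221 (iv D60221) F264020
theorem F269024 : act 4 n60221 = n59274 := d34_1 D60221 F265003 (iv F264021)
theorem F269025 : act 5 n60221 = n59269 := d38_1 D60221 F264994 (iv F264022)
theorem F269026 : act 8 n60221 = n59090 := d44_1 D60221 (iv D59090) (iv D57895) (iv F259324) D58989
def n60222 : Q := act 1 n58990
theorem D60222 : act 1 n58990 = n60222 := rfl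
theorem F269027 : act 2 n60222 = n58995 := d9_2 D58990 D60222 (iv D58995) (iv D57812) (iv F259326)
theorem F269028 : act 4 n60222 = n59012 := d11_2 (iv F264024) D60222 (iv D59012)
theorem F269029 : act 6 n60222 = n59006 := d13_2 (iv F264025) D60222 (iv D59006)
theorem F269030 : act 7 n60222 = n59050 := d14_2 (iv F264026) D60222 F264210
theorem F269031 : act 8 n60222 = n59019 := d15_2 (iv F264027) D60222 F264123
def n60223 : Q := act 1 n58991
theorem D60223 : act 1 n58991 = n60223 := rfl
theorem F269032 : act 2 n60223 = n59019 := d9_2 D58991 D60223 F264123 F259419 (iv F259331)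
theorem F269033 : act 4 n60223 = n59006 := d11_2 (iv F264028) D60223 (iv D59006)
theorem F269034 : act 6 n60223 = n59012 := d13_2 (iv F264029) D60223 (iv D59012)
theorem F269035 : act 7 n60223 = n59037 := d14_2 (iv F264030) D60223 F264170
theorem F269036 : act 8 n60223 = n58995 := d15_2 (iv F264031) D60223 (iv D58995)
theorem F269037 : act 9 n60223 = n59415 := d16_2 (iv F264032) D60223 (iv D59415)
def n60224 : Q := act 2 n58992
theorem D60224 : act 2 n58992 = n60224 := rfl
theorem F269038 : act 3 n60224 = n58998 := d17_2 D58992 D60224 (iv D58998) (iv D57815) (iv F259338)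
theorem F269039 : act 5 n60224 = n59014 := d19_2 (iv F264034) D60224 (iv D59014)
theorem F269040 : act 6 n60224 = n58993 := d20_2 (iv F264035) D60224 (iv D58993)
theorem F269041 : act 8 n60224 = n59257 := d22_2 (iv F264036) D60224 (iv D59257)
theorem F269042 : act 9 n60224 = n59210 := d23_2 (iv F264037) D60224 (iv D59210)
def n60225 : Q := act 4 n58992
theorem D60225 : act 4 n58992 = n60225 := rfl
theorem F269043 : act 1 n60225 = n59217 := d11_1 D60225 (iv D59217) (iv F264033)
theorem F269044 : act 3 n60225 = n60225 := d24_1 D60225 (iv D60225) (iv D58992) F259339 D58992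
theorem F269045 : act 6 n60225 = n58994 := d31_2 (iv F264035) D60225 (iv D58994)
theorem F269046 : act 8 n60225 = n59258 := d33_2 (iv F264036) D60225 (iv D59258)
theorem F269047 : act 9 n60225 = n59211 := d34_2 (iv F264037) D60225 (iv D59211)
def n60226 : Q := act 1 n58993
theorem D60226 : act 1 n58993 = n60226 := rfl
theorem F269048 : act 3 n60226 = n59000 := d10_2 (iv F264038) D60226 (iv D59000)
theorem F269049 : act 5 n60226 = n58995 := d12_2 (iv F264039) D60226 (iv D58995)
theorem F269050 : act 7 n60226 = n59471 := d14_2 (iv F264040) D60226 (iv D59471)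
def n60227 : Q := act 4 n58993
theorem D60227 : act 4 n58993 = n60227 := rfl
theorem F269051 : act 2 n60227 = n58994 := d18_1 D60227 (iv D58994) D58993
theorem F269052 : act 7 n60227 = n59472 := d32_2 (iv F264040) D60227 (iv D59472)
def n60228 : Q := act 5 n58994
theorem D60228 : act 5 n58994 = n60228 := rfl
theorem F269053 : act 0 n60228 = n59436 := d4_1 D60228 (iv F268530) F268527
theorem F269054 : act 1 n60228 = n59010 := d12_1 D60228 (iv F266738) F266736
theorem F269055 : act 3 n60228 = n60228 := d25_1 D60228 (iv D60228) F264041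
theorem F269056 : act 4 n60228 = n58997 := d30_1 D60228 (iv D58997) (iv D57813) (iv F259343) D58994
theorem F269057 : act 7 n60228 = n59031 := d36_2 (iv F264042) D60228 F264154
theorem F269058 : act 8 n60228 = n59005 := d37_2 F266983 D60228 (iv F266980)
theorem F269059 : act 9 n60228 = n59267 := d38_2 F266709 D60228 (iv F266705)
theorem F269060 : act 6 n59269 = n60228 := d41_3 F269059 F264989 (iv F264994)
def n60229 : Q := act 0 n58995
theorem D60229 : act 0 n58995 = n60229 := rfl
theorem F269061 : act 3 n60229 = n59002 := d2_2 (iv F264043) D60229 (iv D59002)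
theorem F269062 : act 6 n60229 = n59018 := d5_2 (iv F264044) D60229 (iv D59018)
theorem F269063 : act 7 n60229 = n59473 := d6_2 (iv F264045) D60229 (iv D59473)
def n60230 : Q := act 4 n58995
theorem D60230 : act 4 n58995 = n60230 := rfl
theorem F269064 : act 1 n60230 = n58996 := d11_1 D60230 (iv D58996) D58995
theorem F269065 : act 2 n60230 = n59012 := d18_1 D60230 (iv F269028) F269027
theorem F269066 : act 3 n60230 = n59398 := d24_1 D60230 (iv F268264) F268263 F263341 (iv F264043)
theorem F269067 : act 6 n60230 = n59019 := d31_2 (iv F264044) D60230 (iv D59019)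
theorem F269068 : act 7 n60230 = n59032 := d32_2 (iv F264045) D60230 F264157
theorem F269069 : act 8 n60230 = n59006 := d33_2 F269036 D60230 (iv F269033)
theorem F269070 : act 9 n60230 = n59411 := d34_2 F268842 D60230 (iv F268838)
def n60231 : Q := act 5 n58996
theorem D60231 : act 5 n58996 = n60231 := rfl
theorem F269071 : act 0 n60231 = n59435 := d4_1 D60231 F265350 (iv F264046)
theorem F269072 : act 2 n60231 = n58997 := d19_1 D60231 (iv D58997) (iv F264047)
theorem F269073 : act 3 n60231 = n59396 := d25_1 D60231 F265275 (iv F264048)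
theorem F269074 : act 6 n60231 = n59268 := d35_2 (iv F264049) D60231 F264991 (iv F262143) F262142
theorem F269075 : act 7 n60231 = n59030 := d36_2 (iv F264050) D60231 F264150
theorem F269076 : act 8 n60231 = n59004 := d37_2 (iv F264051) D60231 F264076
theorem F269077 : act 9 n60231 = n59266 := d38_2 (iv F264052) D60231 F264984
def n60232 : Q := act 1 n58998
theorem D60232 : act 1 n58998 = n60232 := rfl
theorem F269078 : act 5 n60232 = n59022 := d12_2 (iv F264060) D60232 (iv D59022)
theorem F269079 : act 6 n60232 = n59000 := d13_2 (iv F264061) D60232 (iv D59000)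
def n60233 : Q := act 4 n58998
theorem D60233 : act 4 n58998 = n60233 := rfl
theorem F269080 : act 2 n60233 = n58999 := d18_1 D60233 (iv D58999) D58998
theorem F269081 : act 6 n60233 = n59001 := d31_2 (iv F264061) D60233 (iv D59001)
def n60234 : Q := act 0 n59000
theorem D60234 : act 0 n59000 = n60234 := rfl
theorem F269082 : act 5 n60234 = n59002 := d4_2 (iv F264064) D60234 (iv D59002)
theorem F269083 : act 7 n60234 = n59476 := d6_2 (iv F264065) D60234 (iv D59476)
def n60235 : Q := act 4 n59000
theorem D60235 : act 4 n59000 = n60235 := rfl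
theorem F269084 : act 1 n60235 = n59001 := d11_1 D60235 (iv D59001) D59000
theorem F269085 : act 7 n60235 = n59477 := d32_2 (iv F264065) D60235 (iv D59477)
def n60236 : Q := act 3 n59001
theorem D60236 : act 3 n59001 = n60236 := rfl
theorem F269086 : act 2 n60236 = n60236 := d17_1 D60236 (iv D60236) F264066 F259367 (iv F264066)
theorem F269087 : act 7 n60236 = n59478 := d27_2 (iv F264067) D60236 (iv D59478)
def n60237 : Q := act 1 n59003
theorem D60237 : act 1 n59003 = n60237 := rfl
theorem F269088 : act 2 n60237 = n59420 := d9_2 D59003 D60237 (iv D59420) (iv D58231) (iv F259372)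
theorem F269089 : act 6 n60237 = n59442 := d13_2 (iv F264071) D60237 (iv D59442)
theorem F269090 : act 7 n60237 = n59028 := d14_2 (iv F264072) D60237 (iv D59028)
theorem F269091 : act 8 n60237 = n59437 := d15_2 (iv F264073) D60237 (iv D59437)
theorem F269092 : act 9 n60237 = n59418 := d16_2 (iv F264074) D60237 (iv D59418)
def n60238 : Q := act 1 n59004
theorem D60238 : act 1 n59004 = n60238 := rfl
theorem F269093 : act 2 n60238 = n59016 := d9_2 D59004 D60238 (iv D59016) (iv D57829) (iv F259377)
theorem F269094 : act 3 n60238 = n59418 := d10_2 (iv F264075) D60238 (iv D59418)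
theorem F269095 : act 5 n60238 = n59006 := d12_2 (iv F264076) D60238 (iv D59006)
theorem F269096 : act 7 n60238 = n59034 := d14_2 (iv F264077) D60238 (iv D59034)
def n60239 : Q := act 4 n59004
theorem D60239 : act 4 n59004 = n60239 := rfl
theorem F269097 : act 2 n60239 = n59005 := d18_1 D60239 (iv D59005) D59004
theorem F269098 : act 7 n60239 = n59035 := d32_2 (iv F264077) D60239 (iv D59035)
def n60240 : Q := act 0 n59006
theorem D60240 : act 0 n59006 = n60240 := rfl
theorem F269099 : act 2 n60240 = n59018 := d1_2 (iv F264081) D60240 (iv D59018)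
theorem F269100 : act 7 n60240 = n59036 := d6_2 (iv F264082) D60240 (iv D59036)
def n60241 : Q := act 2 n59007
theorem D60241 : act 2 n59007 = n60241 := rfl
theorem F269101 : act 5 n60241 = n59257 := d19_2 (iv F264084) D60241 (iv D59257)
theorem F269102 : act 6 n60241 = n59009 := d20_2 (iv F264085) D60241 (iv D59009)
theorem F269103 : act 8 n60241 = n59014 := d22_2 (iv F264086) D60241 (iv D59014)
theorem F269104 : act 9 n60241 = n59255 := d23_2 (iv F264087) D60241 (iv D59255)
def n60242 : Q := act 4 n59007
theorem D60242 : act 4 n59007 = n60242 := rfl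
theorem F269105 : act 1 n60242 = n59269 := d11_1 D60242 (iv D59269) (iv F264083)
theorem F269106 : act 3 n60242 = n60242 := d24_1 D60242 (iv D60242) (iv D59007) F259382 D59007
theorem F269107 : act 6 n60242 = n59010 := d31_2 (iv F264085) D60242 (iv D59010)
theorem F269108 : act 8 n60242 = n59015 := d33_2 (iv F264086) D60242 (iv D59015)
theorem F269109 : act 9 n60242 = n59256 := d34_2 (iv F264087) D60242 (iv D59256)
def n60243 : Q := act 2 n59008
theorem D60243 : act 2 n59008 = n60243 := rfl
theorem F269110 : act 0 n60243 = n59447 := d1_1 D60243 (iv D59447) (iv F264088)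
theorem F269111 : act 5 n60243 = n59011 := d19_2 (iv F264090) D60243 (iv D59011)
theorem F269112 : act 6 n60243 = n59255 := d20_2 (iv F264091) D60243 (iv D59255)
theorem F269113 : act 7 n60243 = n59042 := d21_2 (iv F264092) D60243 (iv D59042)
theorem F269114 : act 8 n60243 = n59261 := d22_2 (iv F264093) D60243 (iv D59261)
theorem F269115 : act 9 n60243 = n59009 := d23_2 (iv F264094) D60243 (iv D59009)
def n60244 : Q := act 1 n59009
theorem D60244 : act 1 n59009 = n60244 := rfl
theorem F269116 : act 5 n60244 = n59012 := d12_2 (iv F264095) D60244 (iv D59012)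
theorem F269117 : act 7 n60244 = n59044 := d14_2 (iv F264096) D60244 (iv D59044)
theorem F269118 : act 8 n60244 = n59016 := d15_2 (iv F264097) D60244 (iv D59016)
def n60245 : Q := act 4 n59009
theorem D60245 : act 4 n59009 = n60245 := rfl
theorem F269119 : act 2 n60245 = n59010 := d18_1 D60245 (iv D59010) D59009
theorem F269120 : act 7 n60245 = n59045 := d32_2 (iv F264096) D60245 (iv D59045)
theorem F269121 : act 8 n60245 = n59017 := d33_2 (iv F264097) D60245 (iv D59017)
def n60246 : Q := act 1 n59011
theorem D60246 : act 1 n59011 = n60246 := rfl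
theorem F269122 : act 2 n60246 = n59411 := d9_2 D59011 D60246 (iv D59411) (iv D58221) (iv F259397)
theorem F269123 : act 6 n60246 = n59415 := d13_2 (iv F264102) D60246 (iv D59415)
theorem F269124 : act 7 n60246 = n59047 := d14_2 (iv F264103) D60246 (iv D59047)
theorem F269125 : act 8 n60246 = n59444 := d15_2 (iv F264104) D60246 (iv D59444)
theorem F269126 : act 9 n60246 = n59012 := d16_2 (iv F264105) D60246 (iv D59012)
def n60247 : Q := act 0 n59012
theorem D60247 : act 0 n59012 = n60247 := rfl
theorem F269127 : act 7 n60247 = n59049 := d6_2 (iv F264106) D60247 (iv D59049)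
theorem F269128 : act 8 n60247 = n59018 := d7_2 (iv F264107) D60247 (iv D59018)
def n60248 : Q := act 2 n59013
theorem D60248 : act 2 n59013 = n60248 := rfl
theorem F269129 : act 3 n60248 = n59020 := d17_2 D59013 D60248 (iv D59020) (iv D57833) (iv F259405)
theorem F269130 : act 6 n60248 = n59053 := d20_2 (iv F264109) D60248 (iv D59053)
theorem F269131 : act 7 n60248 = n59014 := d21_2 (iv F264110) D60248 (iv D59014)
theorem F269132 : act 9 n60248 = n59424 := d23_2 (iv F264111) D60248 (iv D59424)
def n60249 : Q := act 4 n59013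
theorem D60249 : act 4 n59013 = n60249 := rfl
theorem F269133 : act 1 n60249 = n59430 := d11_1 D60249 (iv D59430) (iv F264108)
theorem F269134 : act 3 n60249 = n59072 := d24_1 D60249 (iv D59072) (iv D57876) (iv F259406) D59013
theorem F269135 : act 6 n60249 = n59054 := d31_2 (iv F264109) D60249 (iv D59054)
theorem F269136 : act 7 n60249 = n59015 := d32_2 (iv F264110) D60249 (iv D59015)
theorem F269137 : act 9 n60249 = n59425 := d34_2 (iv F264111) D60249 (iv D59425)
def n60250 : Q := act 1 n59014
theorem D60250 : act 1 n59014 = n60250 := rfl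
theorem F269138 : act 3 n60250 = n59022 := d10_2 (iv F264112) D60250 (iv D59022)
theorem F269139 : act 6 n60250 = n59016 := d13_2 (iv F264113) D60250 (iv D59016)
def n60251 : Q := act 4 n59014
theorem D60251 : act 4 n59014 = n60251 := rfl
theorem F269140 : act 2 n60251 = n59015 := d18_1 D60251 (iv D59015) D59014
theorem F269141 : act 6 n60251 = n59017 := d31_2 (iv F264113) D60251 (iv D59017)
def n60252 : Q := act 5 n59015
theorem D60252 : act 5 n59015 = n60252 := rfl
theorem F269142 : act 1 n60252 = n59090 := d12_1 D60252 (iv F268347) F268344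
theorem F269143 : act 3 n60252 = n59074 := d25_1 D60252 (iv D59074) (iv F264114)
theorem F269144 : act 6 n60252 = n59274 := d35_2 (iv F264115) D60252 (iv D59274) (iv F262149) F262148
theorem F269145 : act 9 n60252 = n59089 := d38_2 F267052 D60252 (iv F267050)
def n60253 : Q := act 0 n59016
theorem D60253 : act 0 n59016 = n60253 := rfl
theorem F269146 : act 3 n60253 = n59025 := d2_2 (iv F264116) D60253 (iv D59025)
theorem F269147 : act 5 n60253 = n59018 := d4_2 (iv F264117) D60253 (iv D59018)
theorem F269148 : act 7 n60253 = n59058 := d6_2 (iv F264118) D60253 (iv D59058)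
def n60254 : Q := act 4 n59016
theorem D60254 : act 4 n59016 = n60254 := rfl
theorem F269149 : act 1 n60254 = n59017 := d11_1 D60254 (iv D59017) D59016
theorem F269150 : act 7 n60254 = n59059 := d32_2 (iv F264118) D60254 (iv D59059)
def n60255 : Q := act 3 n59017
theorem D60255 : act 3 n59017 = n60255 := rfl
theorem F269151 : act 2 n60255 = n59075 := d17_1 D60255 (iv D59075) F259549 (iv F259414) (iv F264119)
theorem F269152 : act 4 n60255 = n59027 := d24_2 D59017 D60255 (iv D59027) (iv D57837) (iv F259411)
theorem F269153 : act 5 n60255 = n59208 := d25_2 F267024 D60255 (iv F267023)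
theorem F269154 : act 7 n60255 = n59060 := d27_2 (iv F264120) D60255 (iv D59060)
theorem F269155 : act 9 n60255 = n59249 := d29_2 F267045 D60255 (iv F267041)
def n60256 : Q := act 4 n59018
theorem D60256 : act 4 n59018 = n60256 := rfl
theorem F269156 : act 0 n60256 = n59019 := d3_1 D60256 (iv D59019) D59018
theorem F269157 : act 1 n60256 = n59443 := d11_1 D60256 (iv F268587) F268584
theorem F269158 : act 3 n60256 = n59410 := d24_1 D60256 (iv F268283) F268282 F263358 (iv F264121)
theorem F269159 : act 7 n60256 = n59062 := d32_2 (iv F264122) D60256 (iv D59062)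
theorem F269160 : act 9 n60256 = n59416 := d34_2 F268883 D60256 (iv F268880)
def n60257 : Q := act 1 n59020
theorem D60257 : act 1 n59020 = n60257 := rfl
theorem F269161 : act 6 n60257 = n59064 := d13_2 (iv F264127) D60257 (iv D59064)
theorem F269162 : act 7 n60257 = n59022 := d14_2 (iv F264128) D60257 (iv D59022)
def n60258 : Q := act 4 n59020
theorem D60258 : act 4 n59020 = n60258 := rfl
theorem F269163 : act 2 n60258 = n59021 := d18_1 D60258 (iv D59021) D59020
theorem F269164 : act 6 n60258 = n59065 := d31_2 (iv F264127) D60258 (iv D59065)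
theorem F269165 : act 7 n60258 = n59023 := d32_2 (iv F264128) D60258 (iv D59023)
theorem F269166 : act 8 n60258 = n59367 := d33_2 F267554 D60258 (iv F267550)
def n60259 : Q := act 0 n59022
theorem D60259 : act 0 n59022 = n60259 := rfl
theorem F269167 : act 6 n60259 = n59025 := d5_2 (iv F264133) D60259 (iv D59025)
def n60260 : Q := act 4 n59022
theorem D60260 : act 4 n59022 = n60260 := rfl
theorem F269168 : act 1 n60260 = n59023 := d11_1 D60260 (iv D59023) D59022
theorem F269169 : act 6 n60260 = n59026 := d31_2 (iv F264133) D60260 (iv D59026)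
def n60261 : Q := act 3 n59023
theorem D60261 : act 3 n59023 = n60261 := rfl
theorem F269170 : act 2 n60261 = n59079 := d17_1 D60261 (iv D59079) F259567 (iv F259426) (iv F264134)
theorem F269171 : act 6 n60261 = n59027 := d26_2 (iv F264135) D60261 (iv D59027)
def n60262 : Q := act 5 n59023
theorem D60262 : act 5 n59023 = n60262 := rfl
theorem F269172 : act 2 n60262 = n59024 := d19_1 D60262 (iv D59024) (iv F264134)
def n60263 : Q := act 4 n59025
theorem D60263 : act 4 n59025 = n60263 := rfl
theorem F269173 : act 0 n60263 = n59026 := d3_1 D60263 (iv D59026) D59025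
theorem F269174 : act 7 n60263 = n59069 := d32_2 (iv F264138) D60263 (iv D59069)
def n60264 : Q := act 3 n59026
theorem D60264 : act 3 n59026 = n60264 := rfl
theorem F269175 : act 1 n60264 = n59027 := d10_1 D60264 (iv D59027) (iv F264139)
theorem F269176 : act 5 n60264 = n59434 := d25_2 F268293 D60264 (iv F268292)
theorem F269177 : act 7 n60264 = n59070 := d27_2 (iv F264140) D60264 (iv D59070)
def n60265 : Q := act 8 n59027
theorem D60265 : act 8 n59027 = n60265 := rfl
theorem F269178 : act 2 n60265 = n59082 := d22_1 D60265 (iv D59082) (iv F264141)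
theorem F269179 : act 5 n60265 = n59432 := d37_1 D60265 F265346 (iv F264142)
theorem F269180 : act 7 n60265 = n59071 := d42_1 D60265 (iv D59071) (iv F264143)
def n60266 : Q := act 0 n59028
theorem D60266 : act 0 n59028 = n60266 := rfl
theorem F269181 : act 1 n60266 = n59036 := d0_2 D59028 D60266 (iv D59036) (iv D57846) (iv F259433)
theorem F269182 : act 6 n60266 = n59493 := d5_2 (iv F264144) D60266 (iv D59493)
def n60267 : Q := act 2 n59029
theorem D60267 : act 2 n59029 = n60267 := rfl
theorem F269183 : act 0 n60267 = n59210 := d1_1 D60267 (iv D59210) (iv F264145)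
theorem F269184 : act 5 n60267 = n59489 := d19_2 (iv F264147) D60267 F265482
theorem F269185 : act 6 n60267 = n59030 := d20_2 (iv F264148) D60267 (iv D59030)
theorem F269186 : act 8 n60267 = n59033 := d22_2 (iv F264149) D60267 (iv D59033)
def n60268 : Q := act 1 n59030
theorem D60268 : act 1 n59030 = n60268 := rfl
theorem F269187 : act 2 n60268 = n59044 := d9_2 D59030 D60268 (iv D59044) (iv D57852) (iv F259440)
theorem F269188 : act 5 n60268 = n59032 := d12_2 (iv F264150) D60268 (iv D59032)
theorem F269189 : act 8 n60268 = n59034 := d15_2 (iv F264151) D60268 (iv D59034)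
def n60269 : Q := act 4 n59030
theorem D60269 : act 4 n59030 = n60269 := rfl
theorem F269190 : act 2 n60269 = n59031 := d18_1 D60269 (iv D59031) D59030
theorem F269191 : act 5 n60269 = n59472 := d30_2 (iv F264150) D60269 (iv D59472) F260691 (iv F259443)
theorem F269192 : act 8 n60269 = n59035 := d33_2 (iv F264151) D60269 (iv D59035)
def n60270 : Q := act 0 n59032
theorem D60270 : act 0 n59032 = n60270 := rfl
theorem F269193 : act 2 n60270 = n59049 := d1_2 (iv F264156) D60270 (iv D59049)
theorem F269194 : act 4 n60270 = n59473 := d3_2 (iv F264157) D60270 (iv D59473)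
theorem F269195 : act 6 n60270 = n59487 := d5_2 (iv F264158) D60270 F265474
theorem F269196 : act 8 n60270 = n59036 := d7_2 (iv F264159) D60270 (iv D59036)
def n60271 : Q := act 1 n59033
theorem D60271 : act 1 n59033 = n60271 := rfl
theorem F269197 : act 2 n60271 = n59055 := d9_2 D59033 D60271 (iv D59055) (iv D57860) (iv F259447)
theorem F269198 : act 3 n60271 = n59444 := d10_2 (iv F264161) D60271 (iv D59444)
theorem F269199 : act 5 n60271 = n59494 := d12_2 (iv F264162) D60271 (iv D59494)
theorem F269200 : act 6 n60271 = n59034 := d13_2 (iv F264163) D60271 (iv D59034)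
theorem F269201 : act 9 n60271 = n59254 := d16_2 (iv F264164) D60271 (iv D59254)
def n60272 : Q := act 0 n59034
theorem D60272 : act 0 n59034 = n60272 := rfl
theorem F269202 : act 2 n60272 = n59058 := d1_2 (iv F264165) D60272 (iv D59058)
theorem F269203 : act 5 n60272 = n59036 := d4_2 (iv F264166) D60272 (iv D59036)
def n60273 : Q := act 4 n59034
theorem D60273 : act 4 n59034 = n60273 := rfl
theorem F269204 : act 1 n60273 = n59035 := d11_1 D60273 (iv D59035) D59034
theorem F269205 : act 2 n60273 = n59059 := d18_1 D60273 (iv D59059) (iv F264165)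
def n60274 : Q := act 4 n59036
theorem D60274 : act 4 n59036 = n60274 := rfl
theorem F269206 : act 0 n60274 = n59037 := d3_1 D60274 (iv D59037) D59036
theorem F269207 : act 2 n60274 = n59062 := d18_1 D60274 (iv D59062) (iv F264168)
theorem F269208 : act 6 n60274 = n59482 := d31_2 (iv F264169) D60274 F265458
theorem F269209 : act 8 n60274 = n59473 := d33_2 F269196 D60274 (iv F269194)
theorem F269210 : act 9 n60274 = n59419 := d34_2 F268919 D60274 (iv F268917)
def n60275 : Q := act 2 n59038
theorem D60275 : act 2 n59038 = n60275 := rfl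
theorem F269211 : act 0 n60275 = n59225 := d1_1 D60275 (iv D59225) (iv F264175)
theorem F269212 : act 3 n60275 = n59151 := d17_2 D59038 D60275 (iv D59151) (iv D57962) (iv F259461)
theorem F269213 : act 5 n60275 = n59148 := d19_2 (iv F264176) D60275 (iv D59148)
theorem F269214 : act 7 n60275 = n59040 := d21_2 (iv F264177) D60275 (iv D59040)
theorem F269215 : act 8 n60275 = n59053 := d22_2 (iv F264178) D60275 (iv D59053)
def n60276 : Q := act 4 n59038
theorem D60276 : act 4 n59038 = n60276 := rfl
theorem F269216 : act 0 n60276 = n59226 := d3_1 D60276 (iv D59226) (iv F264175)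
theorem F269217 : act 3 n60276 = n60276 := d24_1 D60276 (iv D60276) (iv D59038) F259462 D59038
theorem F269218 : act 7 n60276 = n59041 := d32_2 (iv F264177) D60276 (iv D59041)
theorem F269219 : act 8 n60276 = n59054 := d33_2 (iv F264178) D60276 (iv D59054)
def n60277 : Q := act 2 n59039
theorem D60277 : act 2 n59039 = n60277 := rfl
theorem F269220 : act 5 n60277 = n59499 := d19_2 (iv F264179) D60277 (iv D59499)
theorem F269221 : act 6 n60277 = n59042 := d20_2 (iv F264180) D60277 (iv D59042)
theorem F269222 : act 9 n60277 = n59040 := d23_2 (iv F264181) D60277 (iv D59040)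
def n60278 : Q := act 4 n59039
theorem D60278 : act 4 n59039 = n60278 := rfl
theorem F269223 : act 3 n60278 = n60278 := d24_1 D60278 (iv D60278) (iv D59039) F259465 D59039
theorem F269224 : act 6 n60278 = n59043 := d31_2 (iv F264180) D60278 (iv D59043)
theorem F269225 : act 9 n60278 = n59041 := d34_2 (iv F264181) D60278 (iv D59041)
def n60279 : Q := act 1 n59040
theorem D60279 : act 1 n59040 = n60279 := rfl
theorem F269226 : act 5 n60279 = n59501 := d12_2 (iv F264182) D60279 (iv D59501)
theorem F269227 : act 6 n60279 = n59044 := d13_2 (iv F264183) D60279 (iv D59044)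
theorem F269228 : act 8 n60279 = n59055 := d15_2 (iv F264184) D60279 (iv D59055)
def n60280 : Q := act 4 n59040
theorem D60280 : act 4 n59040 = n60280 := rfl
theorem F269229 : act 2 n60280 = n59041 := d18_1 D60280 (iv D59041) D59040
theorem F269230 : act 6 n60280 = n59045 := d31_2 (iv F264183) D60280 (iv D59045)
theorem F269231 : act 8 n60280 = n59056 := d33_2 (iv F264184) D60280 (iv D59056)
def n60281 : Q := act 5 n59041
theorem D60281 : act 5 n59041 = n60281 := rfl
theorem F269232 : act 3 n60281 = n60281 := d25_1 D60281 (iv D60281) F264185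
theorem F269233 : act 4 n60281 = n59503 := d30_1 D60281 (iv D59503) (iv D58311) (iv F259469) D59041
theorem F269234 : act 8 n60281 = n59057 := d37_2 (iv F264187) D60281 (iv D59057)
def n60282 : Q := act 1 n59042
theorem D60282 : act 1 n59042 = n60282 := rfl
theorem F269235 : act 5 n60282 = n59047 := d12_2 (iv F264188) D60282 (iv D59047)
theorem F269236 : act 9 n60282 = n59044 := d16_2 (iv F264189) D60282 (iv D59044)
def n60283 : Q := act 4 n59042
theorem D60283 : act 4 n59042 = n60283 := rfl
theorem F269237 : act 2 n60283 = n59043 := d18_1 D60283 (iv D59043) D59042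
theorem F269238 : act 9 n60283 = n59045 := d34_2 (iv F264189) D60283 (iv D59045)
def n60284 : Q := act 0 n59044
theorem D60284 : act 0 n59044 = n60284 := rfl
theorem F269239 : act 5 n60284 = n59049 := d4_2 (iv F264192) D60284 (iv D59049)
theorem F269240 : act 8 n60284 = n59058 := d7_2 (iv F264193) D60284 (iv D59058)
def n60285 : Q := act 4 n59044
theorem D60285 : act 4 n59044 = n60285 := rfl
theorem F269241 : act 1 n60285 = n59045 := d11_1 D60285 (iv D59045) D59044
theorem F269242 : act 8 n60285 = n59059 := d33_2 (iv F264193) D60285 (iv D59059)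
def n60286 : Q := act 3 n59045
theorem D60286 : act 3 n59045 = n60286 := rfl
theorem F269243 : act 2 n60286 = n60286 := d17_1 D60286 (iv D60286) F264194 F259476 (iv F264194)
def n60287 : Q := act 5 n59045
theorem D60287 : act 5 n59045 = n60287 := rfl
theorem F269244 : act 0 n60287 = n59459 := d4_1 D60287 (iv F268640) F268638
theorem F269245 : act 2 n60287 = n59046 := d19_1 D60287 (iv D59046) (iv F264194)
theorem F269246 : act 4 n60287 = n59052 := d30_1 D60287 (iv D59052) (iv D57857) (iv F259474) D59045
theorem F269247 : act 8 n60287 = n59061 := d37_2 (iv F264195) D60287 (iv D59061)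
def n60288 : Q := act 0 n59047
theorem D60288 : act 0 n59047 = n60288 := rfl
theorem F269248 : act 6 n60288 = n59509 := d5_2 (iv F264201) D60288 (iv D59509)
theorem F269249 : act 9 n60288 = n59049 := d8_2 (iv F264202) D60288 (iv D59049)
def n60289 : Q := act 4 n59047
theorem D60289 : act 4 n59047 = n60289 := rfl
theorem F269250 : act 1 n60289 = n59048 := d11_1 D60289 (iv D59048) D59047
theorem F269251 : act 2 n60289 = n59437 := d18_1 D60289 (iv F268536) F268534
theorem F269252 : act 6 n60289 = n59441 := d31_2 (iv F264201) D60289 F265364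
theorem F269253 : act 8 n60289 = n59420 := d33_2 F268932 D60289 (iv F268929)
theorem F269254 : act 9 n60289 = n59050 := d34_2 (iv F264202) D60289 (iv D59050)
def n60290 : Q := act 3 n59048
theorem D60290 : act 3 n59048 = n60290 := rfl
theorem F269255 : act 0 n60290 = n59429 := d2_1 D60290 F265339 (iv F264203)
theorem F269256 : act 2 n60290 = n59102 := d17_1 D60290 (iv D59102) F259679 (iv F259482) (iv F264204)
theorem F269257 : act 6 n60290 = n59202 := d26_2 (iv F264205) D60290 F264799
theorem F269258 : act 9 n60290 = n59051 := d29_2 (iv F264207) D60290 (iv D59051)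
def n60291 : Q := act 4 n59049
theorem D60291 : act 4 n59049 = n60291 := rfl
theorem F269259 : act 0 n60291 = n59050 := d3_1 D60291 (iv D59050) D59049
theorem F269260 : act 1 n60291 = n59461 := d11_1 D60291 (iv F268649) F268648
theorem F269261 : act 2 n60291 = n59473 := d18_1 D60291 (iv F269194) F269193
theorem F269262 : act 6 n60291 = n59481 := d31_2 (iv F264208) D60291 F265454
theorem F269263 : act 8 n60291 = n59062 := d33_2 (iv F264209) D60291 (iv D59062)
def n60292 : Q := act 3 n59050
theorem D60292 : act 3 n59050 = n60292 := rfl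
theorem F269264 : act 1 n60292 = n59051 := d10_1 D60292 (iv D59051) (iv F264210)
theorem F269265 : act 2 n60292 = n59227 := d17_1 D60292 F264877 F260163 (iv F260693) (iv F264211)
theorem F269266 : act 6 n60292 = n59235 := d26_2 (iv F264212) D60292 F264897
theorem F269267 : act 8 n60292 = n59407 := d28_2 (iv F264213) D60292 F265300 F260565 (iv F259513)
def n60293 : Q := act 5 n59050
theorem D60293 : act 5 n59050 = n60293 := rfl
theorem F269268 : act 1 n60293 = n59052 := d12_1 D60293 (iv D59052) (iv F264210)
theorem F269269 : act 2 n60293 = n59471 := d19_1 D60293 F265434 (iv F264211)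
theorem F269270 : act 8 n60293 = n59063 := d37_2 (iv F264213) D60293 (iv D59063)
def n60294 : Q := act 5 n59051
theorem D60294 : act 5 n59051 = n60294 := rfl
theorem F269271 : act 0 n60294 = n59205 := d4_1 D60294 F264812 (iv F264214)
theorem F269272 : act 2 n60294 = n59103 := d19_1 D60294 (iv D59103) (iv F264215)
theorem F269273 : act 3 n60294 = n59052 := d25_1 D60294 (iv D59052) D59051
theorem F269274 : act 7 n60294 = n59141 := d36_2 F266034 D60294 (iv F266032)
theorem F269275 : act 8 n60294 = n59128 := d37_2 (iv F264217) D60294 F264526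
def n60295 : Q := act 1 n59053
theorem D60295 : act 1 n59053 = n60295 := rfl
theorem F269276 : act 3 n60295 = n59064 := d10_2 (iv F264221) D60295 (iv D59064)
theorem F269277 : act 5 n60295 = n59510 := d12_2 (iv F264222) D60295 (iv D59510)
theorem F269278 : act 7 n60295 = n59055 := d14_2 (iv F264223) D60295 (iv D59055)
def n60296 : Q := act 4 n59053
theorem D60296 : act 4 n59053 = n60296 := rfl
theorem F269279 : act 2 n60296 = n59054 := d18_1 D60296 (iv D59054) D59053
theorem F269280 : act 7 n60296 = n59056 := d32_2 (iv F264223) D60296 (iv D59056)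
def n60297 : Q := act 5 n59054
theorem D60297 : act 5 n59054 = n60297 := rfl
theorem F269281 : act 3 n60297 = n59083 := d25_1 D60297 (iv D59083) (iv F264224)
theorem F269282 : act 4 n60297 = n59511 := d30_1 D60297 (iv D59511) (iv D58319) (iv F259496) D59054
theorem F269283 : act 7 n60297 = n59057 := d36_2 (iv F264225) D60297 (iv D59057)
theorem F269284 : act 9 n60297 = n59428 := d38_2 F267113 D60297 (iv F267109)
def n60298 : Q := act 0 n59055
theorem D60298 : act 0 n59055 = n60298 := rfl
theorem F269285 : act 3 n60298 = n59066 := d2_2 (iv F264226) D60298 (iv D59066)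
theorem F269286 : act 5 n60298 = n59512 := d4_2 (iv F264227) D60298 (iv D59512)
theorem F269287 : act 6 n60298 = n59058 := d5_2 (iv F264228) D60298 (iv D59058)
def n60299 : Q := act 4 n59055
theorem D60299 : act 4 n59055 = n60299 := rfl
theorem F269288 : act 1 n60299 = n59056 := d11_1 D60299 (iv D59056) D59055
theorem F269289 : act 6 n60299 = n59059 := d31_2 (iv F264228) D60299 (iv D59059)
def n60300 : Q := act 5 n59056
theorem D60300 : act 5 n59056 = n60300 := rfl
theorem F269290 : act 2 n60300 = n59057 := d19_1 D60300 (iv D59057) (iv F264229)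
theorem F269291 : act 3 n60300 = n59263 := d25_1 D60300 (iv F269015) F269013
theorem F269292 : act 4 n60300 = n59498 := d30_1 D60300 F265498 (iv D58321) (iv F259499) D59056
def n60301 : Q := act 4 n59058
theorem D60301 : act 4 n59058 = n60301 := rfl
theorem F269293 : act 0 n60301 = n59059 := d3_1 D60301 (iv D59059) D59058
def n60302 : Q := act 3 n59059
theorem D60302 : act 3 n59059 = n60302 := rfl
theorem F269294 : act 1 n60302 = n59060 := d10_1 D60302 (iv D59060) (iv F264235)
theorem F269295 : act 4 n60302 = n59070 := d24_2 D59059 D60302 (iv D59070) (iv D57873) (iv F259503)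
theorem F269296 : act 9 n60302 = n59285 := d29_2 F268950 D60302 F268951
theorem F269297 : act 5 n59222 = n60302 := d38_3 F269296 (iv D59285) (iv F264864)
def n60303 : Q := act 5 n59059
theorem D60303 : act 5 n59059 = n60303 := rfl
theorem F269298 : act 1 n60303 = n59061 := d12_1 D60303 (iv D59061) (iv F264235)
theorem F269299 : act 3 n60303 = n59222 := d25_1 D60303 F269297 (iv D60302)
theorem F269300 : act 4 n60303 = n59063 := d30_1 D60303 (iv D59063) (iv D57866) (iv F259504) D59059
theorem F269301 : act 9 n60303 = n59138 := d38_2 F268950 D60303 (iv F268949)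
def n60304 : Q := act 8 n59060
theorem D60304 : act 8 n59060 = n60304 := rfl
theorem F269302 : act 2 n60304 = n59084 := d22_1 D60304 (iv D59084) (iv F264236)
theorem F269303 : act 4 n60304 = n59071 := d33_1 D60304 (iv D59071) (iv F264237)
theorem F269304 : act 5 n60304 = n59219 := d37_1 D60304 F264856 F264239
def n60305 : Q := act 5 n59062
theorem D60305 : act 5 n59062 = n60305 := rfl
theorem F269305 : act 0 n60305 = n59063 := d4_1 D60305 (iv D59063) (iv F264245)
theorem F269306 : act 1 n60305 = n59467 := d12_1 D60305 F265425 (iv F264246)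
theorem F269307 : act 3 n60305 = n59132 := d25_1 D60305 F264548 (iv F264247)
theorem F269308 : act 9 n60305 = n59137 := d38_2 (iv F264249) D60305 F264566
def n60306 : Q := act 0 n59064
theorem D60306 : act 0 n59064 = n60306 := rfl
theorem F269309 : act 5 n60306 = n59517 := d4_2 (iv F264253) D60306 (iv D59517)
theorem F269310 : act 7 n60306 = n59066 := d6_2 (iv F264254) D60306 (iv D59066)
def n60307 : Q := act 4 n59064
theorem D60307 : act 4 n59064 = n60307 := rfl
theorem F269311 : act 1 n60307 = n59065 := d11_1 D60307 (iv D59065) D59064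
theorem F269312 : act 5 n60307 = n59361 := d30_2 (iv F264253) D60307 (iv D59361) (iv F261631) F261630
theorem F269313 : act 7 n60307 = n59067 := d32_2 (iv F264254) D60307 (iv D59067)
theorem F269314 : act 8 n60307 = n59366 := d33_2 F268092 D60307 (iv F268089)
def n60308 : Q := act 3 n59065
theorem D60308 : act 3 n59065 = n60308 := rfl
theorem F269315 : act 2 n60308 = n59085 := d17_1 D60308 (iv D59085) F259592 (iv F259522) (iv F264255)
theorem F269316 : act 5 n60308 = n59236 := d25_2 (iv F264256) D60308 F264900
theorem F269317 : act 7 n60308 = n59068 := d27_2 (iv F264257) D60308 (iv D59068)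
def n60309 : Q := act 4 n59066
theorem D60309 : act 4 n59066 = n60309 := rfl
theorem F269318 : act 0 n60309 = n59067 := d3_1 D60309 (iv D59067) D59066
theorem F269319 : act 6 n60309 = n59069 := d31_2 (iv F264260) D60309 (iv D59069)
def n60310 : Q := act 3 n59067
theorem D60310 : act 3 n59067 = n60310 := rfl
theorem F269320 : act 1 n60310 = n59068 := d10_1 D60310 (iv D59068) (iv F264261)
theorem F269321 : act 5 n60310 = n59265 := d25_2 F266464 D60310 (iv F266463)
theorem F269322 : act 6 n60310 = n59070 := d26_2 (iv F264262) D60310 (iv D59070)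
theorem F269323 : act 2 n59285 = n60310 := d19_3 F269321 F264981 D59285
def n60311 : Q := act 8 n59068
theorem D60311 : act 8 n59068 = n60311 := rfl
theorem F269324 : act 2 n60311 = n59086 := d22_1 D60311 (iv D59086) (iv F264263)
theorem F269325 : act 5 n60311 = n59260 := d37_1 D60311 F264968 (iv F264264)
theorem F269326 : act 6 n60311 = n59071 := d40_1 D60311 (iv D59071) (iv F264265)
def n60312 : Q := act 3 n59069
theorem D60312 : act 3 n59069 = n60312 := rfl
theorem F269327 : act 0 n60312 = n59070 := d2_1 D60312 (iv D59070) (iv F264266)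
def n60313 : Q := act 2 n59070
theorem D60313 : act 2 n59070 = n60313 := rfl
theorem F269328 : act 1 n60313 = n59088 := d9_1 D60313 (iv D59088) F259605 (iv F259532) (iv F264267)
theorem F269329 : act 6 n60313 = n59285 := d20_2 F269322 D60313 F269323
def n60314 : Q := act 8 n59070
theorem D60314 : act 8 n59070 = n60314 := rfl
theorem F269330 : act 1 n60314 = n59071 := d15_1 D60314 (iv D59071) (iv F264267)
def n60315 : Q := act 9 n59071
theorem D60315 : act 9 n59071 = n60315 := rfl
theorem F269331 : act 2 n60315 = n59090 := d23_1 D60315 (iv D59090) (iv F264268)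
def n60316 : Q := act 5 n59072
theorem D60316 : act 5 n59072 = n60316 := rfl
theorem F269332 : act 1 n60316 = n59097 := d12_1 D60316 F264373 (iv F264269)
theorem F269333 : act 4 n60316 = n60316 := d30_1 D60316 (iv D60316) (iv D59072) F259537 D59072
theorem F269334 : act 7 n60316 = n59074 := d36_2 (iv F264271) D60316 (iv D59074)
theorem F269335 : act 8 n60316 = n60316 := d37_2 F264272 D60316 (iv D60316)
theorem F269336 : act 9 n60316 = n59096 := d38_2 (iv F264273) D60316 F264370
def n60317 : Q := act 3 n59073
theorem D60317 : act 3 n59073 = n60317 := rfl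
theorem F269337 : act 4 n60317 = n59079 := d24_2 D59073 D60317 (iv D59079) (iv D57883) (iv F259542)
theorem F269338 : act 6 n60317 = n59075 := d26_2 (iv F264275) D60317 (iv D59075)
theorem F269339 : act 9 n60317 = n59250 := d29_2 (iv F264277) D60317 F264939
def n60318 : Q := act 5 n59073
theorem D60318 : act 5 n59073 = n60318 := rfl
theorem F269340 : act 2 n60318 = n59074 := d19_1 D60318 (iv D59074) (iv F264274)
theorem F269341 : act 4 n60318 = n60318 := d30_1 D60318 (iv D60318) (iv D59073) F259543 D59073
theorem F269342 : act 6 n60318 = n59199 := d35_2 (iv F264275) D60318 (iv D59199) F260073 (iv F259550)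
theorem F269343 : act 8 n60318 = n60318 := d37_2 F264276 D60318 (iv D60318)
theorem F269344 : act 9 n60318 = n59101 := d38_2 (iv F264277) D60318 F264394
def n60319 : Q := act 8 n59075
theorem D60319 : act 8 n59075 = n60319 := rfl
theorem F269345 : act 3 n60319 = n60319 := d28_1 D60319 (iv D60319) (iv D59075) F259552 D59075
theorem F269346 : act 4 n60319 = n59082 := d33_1 D60319 (iv D59082) (iv F264283)
theorem F269347 : act 5 n60319 = n59206 := d37_1 D60319 F264817 (iv F264284)
theorem F269348 : act 7 n60319 = n59084 := d42_1 D60319 (iv D59084) (iv F264285)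
def n60320 : Q := act 3 n59076
theorem D60320 : act 3 n59076 = n60320 := rfl
theorem F269349 : act 1 n60320 = n59250 := d10_1 D60320 F264939 (iv F264287)
theorem F269350 : act 6 n60320 = n59085 := d26_2 (iv F264289) D60320 (iv D59085)
theorem F269351 : act 7 n60320 = n59079 := d27_2 (iv F264290) D60320 (iv D59079)
def n60321 : Q := act 4 n59077
theorem D60321 : act 4 n59077 = n60321 := rfl
theorem F269352 : act 0 n60321 = n59078 := d3_1 D60321 (iv D59078) D59077
theorem F269353 : act 1 n60321 = n59186 := d11_1 D60321 (iv D59186) (iv F264292)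
theorem F269354 : act 2 n60321 = n59147 := d18_1 D60321 (iv D59147) (iv F264293)
theorem F269355 : act 6 n60321 = n59080 := d31_2 (iv F264295) D60321 (iv D59080)
theorem F269356 : act 7 n60321 = n59165 := d32_2 (iv F264296) D60321 F264669
theorem F269357 : act 8 n60321 = n59091 := d33_2 (iv F264297) D60321 (iv D59091)
def n60322 : Q := act 3 n59078
theorem D60322 : act 3 n59078 = n60322 := rfl
theorem F269358 : act 1 n60322 = n59079 := d10_1 D60322 (iv D59079) (iv F264298)
theorem F269359 : act 6 n60322 = n59081 := d26_2 (iv F264300) D60322 (iv D59081)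
theorem F269360 : act 7 n60322 = n59250 := d27_2 (iv F264301) D60322 F264939
def n60323 : Q := act 8 n59079
theorem D60323 : act 8 n59079 = n60323 := rfl
theorem F269361 : act 3 n60323 = n59094 := d28_1 D60323 (iv D59094) (iv D57900) (iv F259569) D59079
theorem F269362 : act 6 n60323 = n59082 := d40_1 D60323 (iv D59082) (iv F264303)
def n60324 : Q := act 3 n59080
theorem D60324 : act 3 n59080 = n60324 := rfl
theorem F269363 : act 0 n60324 = n59081 := d2_1 D60324 (iv D59081) (iv F264304)
theorem F269364 : act 1 n60324 = n59511 := d10_1 D60324 F265525 (iv F264305)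
theorem F269365 : act 5 n60324 = n59423 := d25_2 (iv F264307) D60324 F265331
theorem F269366 : act 7 n60324 = n59087 := d27_2 (iv F264308) D60324 (iv D59087)
def n60325 : Q := act 2 n59081
theorem D60325 : act 2 n59081 = n60325 := rfl
theorem F269367 : act 5 n60325 = n59427 := d19_2 (iv F264311) D60325 F265338
theorem F269368 : act 7 n60325 = n59088 := d21_2 (iv F264312) D60325 (iv D59088)
def n60326 : Q := act 8 n59081
theorem D60326 : act 8 n59081 = n60326 := rfl
theorem F269369 : act 1 n60326 = n59082 := d15_1 D60326 (iv D59082) (iv F264310)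
theorem F269370 : act 3 n60326 = n59096 := d28_1 D60326 (iv D59096) (iv D57903) (iv F259580) D59081
theorem F269371 : act 5 n60326 = n59425 := d37_1 D60326 F265336 (iv F264311)
theorem F269372 : act 7 n60326 = n59089 := d42_1 D60326 (iv D59089) (iv F264312)
def n60327 : Q := act 9 n59082
theorem D60327 : act 9 n59082 = n60327 := rfl
theorem F269373 : act 3 n60327 = n59097 := d29_1 D60327 (iv D59097) (iv F264313)
theorem F269374 : act 5 n60327 = n59430 := d38_1 D60327 F265342 (iv F264314)
theorem F269375 : act 7 n60327 = n59090 := d43_1 D60327 (iv D59090) (iv F264315)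
def n60328 : Q := act 9 n59084
theorem D60328 : act 9 n59084 = n60328 := rfl
theorem F269376 : act 3 n60328 = n60328 := d29_1 D60328 (iv D60328) F264321
theorem F269377 : act 4 n60328 = n59090 := d34_1 D60328 (iv D59090) (iv F264322)
theorem F269378 : act 5 n60328 = n59217 := d38_1 D60328 F264853 (iv F264323)
theorem F269379 : act 8 n60328 = n59274 := d44_1 D60328 F265003 F260256 (iv F259590) D59084
def n60329 : Q := act 9 n59086
theorem D60329 : act 9 n59086 = n60329 := rfl
theorem F269380 : act 1 n60329 = n59274 := d16_1 D60329 F265003 (iv F264327)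
theorem F269381 : act 3 n60329 = n59098 := d29_1 D60329 (iv D59098) (iv F264328)
theorem F269382 : act 5 n60329 = n59258 := d38_1 D60329 F264964 (iv F264329)
theorem F269383 : act 6 n60329 = n59090 := d41_1 D60329 (iv D59090) (iv F264330)
def n60330 : Q := act 2 n59087
theorem D60330 : act 2 n59087 = n60330 := rfl
theorem F269384 : act 0 n60330 = n59088 := d1_1 D60330 (iv D59088) (iv F264331)
theorem F269385 : act 3 n60330 = n59171 := d17_2 D59087 D60330 F264688 F259939 (iv F259601)
theorem F269386 : act 5 n60330 = n59495 := d19_2 (iv F264333) D60330 F265491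
theorem F269387 : act 6 n60330 = n59182 := d20_2 (iv F264334) D60330 F264722
def n60331 : Q := act 8 n59087
theorem D60331 : act 8 n59087 = n60331 := rfl
theorem F269388 : act 0 n60331 = n59089 := d7_1 D60331 (iv D59089) (iv F264331)
theorem F269389 : act 1 n60331 = n59503 := d15_1 D60331 F265510 (iv F264332)
theorem F269390 : act 3 n60331 = n59100 := d28_1 D60331 (iv D59100) (iv D57907) (iv F259604) D59087
theorem F269391 : act 5 n60331 = n59486 := d37_1 D60331 F265473 (iv F264333)
theorem F269392 : act 6 n60331 = n59177 := d40_1 D60331 F264711 (iv F264334)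
def n60332 : Q := act 8 n59088
theorem D60332 : act 8 n59088 = n60332 := rfl
theorem F269393 : act 2 n60332 = n59089 := d22_1 D60332 (iv D59089) D59088
theorem F269394 : act 6 n60332 = n59277 := d40_1 D60332 F265008 (iv F264335)
def n60333 : Q := act 3 n59091
theorem D60333 : act 3 n59091 = n60333 := rfl
theorem F269395 : act 0 n60333 = n59092 := d2_1 D60333 (iv D59092) (iv F264340)
theorem F269396 : act 1 n60333 = n59099 := d10_1 D60333 F264382 (iv F264341)
theorem F269397 : act 2 n60333 = n59105 := d17_1 D60333 F264413 F260002 (iv F259990) (iv F264342)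
theorem F269398 : act 4 n60333 = n60333 := d24_2 D59091 D60333 (iv D60333) (iv D59091) F259620
theorem F269399 : act 6 n60333 = n59095 := d26_2 (iv F264343) D60333 (iv D59095)
theorem F269400 : act 7 n60333 = n59185 := d27_2 (iv F264344) D60333 F264735
theorem F269401 : act 9 n60333 = n60333 := d29_2 F264345 D60333 (iv D60333)
theorem F269402 : act 5 n59104 = n60333 := d36_3 F269400 F264737 (iv F264409)
def n60334 : Q := act 5 n59091
theorem D60334 : act 5 n59091 = n60334 := rfl
theorem F269403 : act 0 n60334 = n59093 := d4_1 D60334 (iv D59093) (iv F264340)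
theorem F269404 : act 1 n60334 = n59185 := d12_1 D60334 F264737 (iv F264341)
theorem F269405 : act 2 n60334 = n59095 := d19_1 D60334 F264365 (iv F264342)
theorem F269406 : act 3 n60334 = n59104 := d25_1 D60334 F269402 (iv D60333)
theorem F269407 : act 4 n60334 = n60334 := d30_1 D60334 (iv D60334) (iv D59091) F259621 D59091
theorem F269408 : act 6 n60334 = n59105 := d35_2 (iv F264343) D60334 (iv D59105) F259703 (iv F259640)
theorem F269409 : act 7 n60334 = n59099 := d36_2 (iv F264344) D60334 F264384
theorem F269410 : act 9 n60334 = n60334 := d38_2 F264345 D60334 (iv D60334)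
def n60335 : Q := act 9 n59094
theorem D60335 : act 9 n59094 = n60335 := rfl
theorem F269411 : act 4 n60335 = n60335 := d34_1 D60335 (iv D60335) F264360
theorem F269412 : act 6 n60335 = n59097 := d41_1 D60335 (iv D59097) (iv F264361)
theorem F269413 : act 8 n60335 = n60335 := d44_1 D60335 (iv D60335) (iv D59094) F259632 D59094
def n60336 : Q := act 8 n59095
theorem D60336 : act 8 n59095 = n60336 := rfl
theorem F269414 : act 0 n60336 = n59096 := d7_1 D60336 (iv D59096) (iv F264362)
theorem F269415 : act 1 n60336 = n59150 := d15_1 D60336 F264617 (iv F264363)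
theorem F269416 : act 4 n60336 = n60336 := d33_1 D60336 (iv D60336) F264364
theorem F269417 : act 5 n60336 = n59147 := d37_1 D60336 F264602 (iv F264365)
theorem F269418 : act 7 n60336 = n59100 := d42_1 D60336 (iv D59100) (iv F264366)
def n60337 : Q := act 8 n59099
theorem D60337 : act 8 n59099 = n60337 := rfl
theorem F269419 : act 0 n60337 = n59101 := d7_1 D60337 (iv D59101) (iv F264381)
theorem F269420 : act 2 n60337 = n59100 := d22_1 D60337 (iv D59100) D59099
theorem F269421 : act 4 n60337 = n60337 := d33_1 D60337 (iv D60337) F264383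
theorem F269422 : act 5 n60337 = n59165 := d37_1 D60337 F264670 (iv F264384)
theorem F269423 : act 6 n60337 = n59150 := d40_1 D60337 F264617 (iv F264385)
def n60338 : Q := act 3 n59101
theorem D60338 : act 3 n59101 = n60338 := rfl
theorem F269424 : act 5 n60338 = n59250 := d25_2 (iv F264394) D60338 F264939
theorem F269425 : act 6 n60338 = n59229 := d26_2 (iv F264395) D60338 F264882
def n60339 : Q := act 4 n59103
theorem D60339 : act 4 n59103 = n60339 := rfl
theorem F269426 : act 0 n60339 = n59206 := d3_1 D60339 (iv D59206) (iv F264400)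
theorem F269427 : act 1 n60339 = n59226 := d11_1 D60339 (iv D59226) (iv F264401)
theorem F269428 : act 3 n60339 = n60339 := d24_1 D60339 (iv D60339) F264402 F259690 (iv F264402)
theorem F269429 : act 7 n60339 = n59142 := d32_2 (iv F264403) D60339 (iv D59142)
theorem F269430 : act 8 n60339 = n59129 := d33_2 (iv F264404) D60339 (iv D59129)
def n60340 : Q := act 0 n59106
theorem D60340 : act 0 n59106 = n60340 := rfl
theorem F269431 : act 1 n60340 = n59114 := d0_2 D59106 D60340 (iv D59114) (iv D57926) (iv F259713)
theorem F269432 : act 2 n60340 = n59303 := d1_2 (iv F264417) D60340 (iv D59303)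
theorem F269433 : act 4 n60340 = n59111 := d3_2 (iv F264418) D60340 (iv D59111)
theorem F269434 : act 5 n60340 = n59326 := d4_2 (iv F264419) D60340 (iv D59326)
theorem F269435 : act 7 n60340 = n59110 := d6_2 (iv F264420) D60340 (iv D59110)
theorem F269436 : act 8 n60340 = n59167 := d7_2 (iv F264421) D60340 (iv D59167)
theorem F269437 : act 9 n60340 = n59107 := d8_2 (iv F264422) D60340 (iv D59107)
def n60341 : Q := act 0 n59108
theorem D60341 : act 0 n59108 = n60341 := rfl
theorem F269438 : act 1 n60341 = n59320 := d0_2 D59108 D60341 (iv D59320) (iv D58122) (iv F259723)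
theorem F269439 : act 2 n60341 = n59110 := d1_2 (iv F264428) D60341 (iv D59110)
theorem F269440 : act 4 n60341 = n59127 := d3_2 (iv F264429) D60341 (iv D59127)
theorem F269441 : act 5 n60341 = n59296 := d4_2 (iv F264430) D60341 (iv D59296)
theorem F269442 : act 7 n60341 = n59303 := d6_2 (iv F264431) D60341 (iv D59303)
theorem F269443 : act 8 n60341 = n59140 := d7_2 (iv F264432) D60341 (iv D59140)
theorem F269444 : act 9 n60341 = n59304 := d8_2 (iv F264433) D60341 (iv D59304)
def n60342 : Q := act 0 n59109
theorem D60342 : act 0 n59109 = n60342 := rfl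
theorem F269445 : act 1 n60342 = n59127 := d0_2 D59109 D60342 (iv D59127) (iv D57936) (iv F259729)
theorem F269446 : act 2 n60342 = n59296 := d1_2 (iv F264434) D60342 (iv D59296)
theorem F269447 : act 4 n60342 = n59320 := d3_2 (iv F264435) D60342 (iv D59320)
theorem F269448 : act 5 n60342 = n59110 := d4_2 (iv F264436) D60342 (iv D59110)
theorem F269449 : act 7 n60342 = n59326 := d6_2 (iv F264437) D60342 (iv D59326)
theorem F269450 : act 8 n60342 = n59183 := d7_2 (iv F264438) D60342 (iv D59183)
theorem F269451 : act 9 n60342 = n59328 := d8_2 (iv F264439) D60342 (iv D59328)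
def n60343 : Q := act 0 n59112
theorem D60343 : act 0 n59112 = n60343 := rfl
theorem F269452 : act 2 n60343 = n59345 := d1_2 (iv F264448) D60343 (iv D59345)
theorem F269453 : act 4 n60343 = n59125 := d3_2 (iv F264449) D60343 (iv D59125)
theorem F269454 : act 6 n60343 = n59114 := d5_2 (iv F264450) D60343 (iv D59114)
theorem F269455 : act 8 n60343 = n59232 := d7_2 (iv F264451) D60343 (iv D59232)
theorem F269456 : act 9 n60343 = n59368 := d8_2 (iv F264452) D60343 (iv D59368)
def n60344 : Q := act 0 n59113
theorem D60344 : act 0 n59113 = n60344 := rfl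
theorem F269457 : act 3 n60344 = n59114 := d2_2 (iv F264453) D60344 (iv D59114)
theorem F269458 : act 5 n60344 = n59338 := d4_2 (iv F264454) D60344 (iv D59338)
theorem F269459 : act 7 n60344 = n59125 := d6_2 (iv F264455) D60344 (iv D59125)
theorem F269460 : act 9 n60344 = n59363 := d8_2 (iv F264456) D60344 (iv D59363)
def n60345 : Q := act 1 n59115
theorem D60345 : act 1 n59115 = n60345 := rfl
theorem F269461 : act 2 n60345 = n59123 := d9_2 D59115 D60345 (iv D59123) (iv D57932) (iv F259755)
theorem F269462 : act 3 n60345 = n59354 := d10_2 (iv F264462) D60345 (iv D59354)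
theorem F269463 : act 5 n60345 = n59117 := d12_2 (iv F264463) D60345 (iv D59117)
theorem F269464 : act 7 n60345 = n59332 := d14_2 (iv F264464) D60345 (iv D59332)
theorem F269465 : act 8 n60345 = n59382 := d15_2 (iv F264465) D60345 (iv D59382)
theorem F269466 : act 9 n60345 = n59346 := d16_2 (iv F264466) D60345 (iv D59346)
def n60346 : Q := act 4 n59115
theorem D60346 : act 4 n59115 = n60346 := rfl
theorem F269467 : act 2 n60346 = n59116 := d18_1 D60346 (iv D59116) D59115
theorem F269468 : act 5 n60346 = n59344 := d30_2 (iv F264463) D60346 (iv D59344) F260426 (iv F259761)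
theorem F269469 : act 7 n60346 = n59333 := d32_2 (iv F264464) D60346 (iv D59333)
theorem F269470 : act 8 n60346 = n59383 := d33_2 (iv F264465) D60346 (iv D59383)
theorem F269471 : act 9 n60346 = n59347 := d34_2 (iv F264466) D60346 (iv D59347)
def n60347 : Q := act 0 n59117
theorem D60347 : act 0 n59117 = n60347 := rfl
theorem F269472 : act 2 n60347 = n59125 := d1_2 (iv F264473) D60347 (iv D59125)
theorem F269473 : act 3 n60347 = n59355 := d2_2 (iv F264474) D60347 (iv D59355)
theorem F269474 : act 4 n60347 = n59345 := d3_2 (iv F264475) D60347 (iv D59345)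
theorem F269475 : act 6 n60347 = n59304 := d5_2 (iv F264476) D60347 (iv D59304)
theorem F269476 : act 8 n60347 = n59384 := d7_2 (iv F264477) D60347 (iv D59384)
def n60348 : Q := act 1 n59118
theorem D60348 : act 1 n59118 = n60348 := rfl
theorem F269477 : act 2 n60348 = n59382 := d9_2 D59118 D60348 (iv D59382) (iv D58190) (iv F259765)
theorem F269478 : act 3 n60348 = n59270 := d10_2 (iv F264479) D60348 (iv D59270)
theorem F269479 : act 5 n60348 = n59120 := d12_2 (iv F264480) D60348 (iv D59120)
theorem F269480 : act 6 n60348 = n59412 := d13_2 (iv F264481) D60348 (iv D59412)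
theorem F269481 : act 7 n60348 = n59336 := d14_2 (iv F264482) D60348 (iv D59336)
theorem F269482 : act 8 n60348 = n59123 := d15_2 (iv F264483) D60348 (iv D59123)
def n60349 : Q := act 4 n59118
theorem D60349 : act 4 n59118 = n60349 := rfl
theorem F269483 : act 0 n60349 = n59475 := d3_1 D60349 (iv D59475) (iv F264478)
theorem F269484 : act 2 n60349 = n59119 := d18_1 D60349 (iv D59119) D59118
theorem F269485 : act 5 n60349 = n59231 := d30_2 (iv F264480) D60349 (iv D59231) F260160 (iv F259772)
theorem F269486 : act 6 n60349 = n59413 := d31_2 (iv F264481) D60349 (iv D59413)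
theorem F269487 : act 7 n60349 = n59337 := d32_2 (iv F264482) D60349 (iv D59337)
theorem F269488 : act 8 n60349 = n59124 := d33_2 (iv F264483) D60349 (iv D59124)
def n60350 : Q := act 0 n59120
theorem D60350 : act 0 n59120 = n60350 := rfl
theorem F269489 : act 1 n60350 = n59491 := d0_2 D59120 D60350 (iv D59491) (iv D58300) (iv F259770)
theorem F269490 : act 2 n60350 = n59384 := d1_2 (iv F264491) D60350 (iv D59384)
theorem F269491 : act 3 n60350 = n59275 := d2_2 (iv F264492) D60350 (iv D59275)
theorem F269492 : act 4 n60350 = n59232 := d3_2 (iv F264493) D60350 (iv D59232)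
theorem F269493 : act 6 n60350 = n59133 := d5_2 (iv F264494) D60350 (iv D59133)
theorem F269494 : act 8 n60350 = n59125 := d7_2 (iv F264495) D60350 (iv D59125)
def n60351 : Q := act 1 n59121
theorem D60351 : act 1 n59121 = n60351 := rfl
theorem F269495 : act 3 n60351 = n59126 := d10_2 (iv F264497) D60351 (iv D59126)
theorem F269496 : act 5 n60351 = n59327 := d12_2 (iv F264498) D60351 (iv D59327)
theorem F269497 : act 6 n60351 = n59123 := d13_2 (iv F264499) D60351 (iv D59123)
theorem F269498 : act 8 n60351 = n59412 := d15_2 (iv F264500) D60351 (iv D59412)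
theorem F269499 : act 9 n60351 = n59341 := d16_2 (iv F264501) D60351 (iv D59341)
def n60352 : Q := act 4 n59121
theorem D60352 : act 4 n59121 = n60352 := rfl
theorem F269500 : act 0 n60352 = n59344 := d3_1 D60352 (iv D59344) (iv F264496)
theorem F269501 : act 2 n60352 = n59122 := d18_1 D60352 (iv D59122) D59121
theorem F269502 : act 3 n60352 = n59333 := d24_1 D60352 (iv D59333) (iv F260891) F260892 (iv F264497)
theorem F269503 : act 6 n60352 = n59124 := d31_2 (iv F264499) D60352 (iv D59124)
theorem F269504 : act 8 n60352 = n59413 := d33_2 (iv F264500) D60352 (iv D59413)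
theorem F269505 : act 9 n60352 = n59342 := d34_2 (iv F264501) D60352 (iv D59342)
def n60353 : Q := act 0 n59123
theorem D60353 : act 0 n59123 = n60353 := rfl
theorem F269506 : act 3 n60353 = n59127 := d2_2 (iv F264507) D60353 (iv D59127)
theorem F269507 : act 5 n60353 = n59125 := d4_2 (iv F264508) D60353 (iv D59125)
theorem F269508 : act 7 n60353 = n59338 := d6_2 (iv F264509) D60353 (iv D59338)
theorem F269509 : act 9 n60353 = n59348 := d8_2 (iv F264510) D60353 (iv D59348)
def n60354 : Q := act 4 n59123
theorem D60354 : act 4 n59123 = n60354 := rfl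
theorem F269510 : act 1 n60354 = n59124 := d11_1 D60354 (iv D59124) D59123
theorem F269511 : act 7 n60354 = n59339 := d32_2 (iv F264509) D60354 (iv D59339)
theorem F269512 : act 9 n60354 = n59349 := d34_2 (iv F264510) D60354 (iv D59349)
def n60355 : Q := act 0 n59126
theorem D60355 : act 0 n59126 = n60355 := rfl
theorem F269513 : act 2 n60355 = n59368 := d1_2 (iv F264515) D60355 (iv D59368)
theorem F269514 : act 6 n60355 = n59127 := d5_2 (iv F264516) D60355 (iv D59127)
theorem F269515 : act 8 n60355 = n59287 := d7_2 (iv F264517) D60355 (iv D59287)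
theorem F269516 : act 9 n60355 = n59345 := d8_2 (iv F264518) D60355 (iv D59345)
def n60356 : Q := act 1 n59128
theorem D60356 : act 1 n59128 = n60356 := rfl
theorem F269517 : act 3 n60356 = n59130 := d10_2 (iv F264525) D60356 (iv D59130)
theorem F269518 : act 5 n60356 = n59407 := d12_2 (iv F264526) D60356 (iv D59407)
theorem F269519 : act 7 n60356 = n59143 := d14_2 (iv F264527) D60356 (iv D59143)
theorem F269520 : act 9 n60356 = n59162 := d16_2 (iv F264528) D60356 (iv D59162)
def n60357 : Q := act 4 n59128
theorem D60357 : act 4 n59128 = n60357 := rfl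
theorem F269521 : act 0 n60357 = n59208 := d3_1 D60357 (iv D59208) (iv F264524)
theorem F269522 : act 2 n60357 = n59129 := d18_1 D60357 (iv D59129) D59128
theorem F269523 : act 3 n60357 = n59194 := d24_1 D60357 (iv D59194) F260055 (iv F259816) (iv F264525)
theorem F269524 : act 7 n60357 = n59144 := d32_2 (iv F264527) D60357 (iv D59144)
theorem F269525 : act 9 n60357 = n59163 := d34_2 (iv F264528) D60357 (iv D59163)
def n60358 : Q := act 0 n59130
theorem D60358 : act 0 n59130 = n60358 := rfl
theorem F269526 : act 1 n60358 = n59209 := d0_2 D59130 D60358 (iv D59209) (iv D58020) (iv F259815)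
theorem F269527 : act 2 n60358 = n59373 := d1_2 (iv F264533) D60358 (iv D59373)
theorem F269528 : act 4 n60358 = n59195 := d3_2 (iv F264534) D60358 (iv D59195)
theorem F269529 : act 5 n60358 = n59409 := d4_2 (iv F264535) D60358 (iv D59409)
theorem F269530 : act 7 n60358 = n59145 := d6_2 (iv F264536) D60358 (iv D59145)
theorem F269531 : act 8 n60358 = n59132 := d7_2 (iv F264537) D60358 (iv D59132)
theorem F269532 : act 9 n60358 = n59167 := d8_2 (iv F264538) D60358 (iv D59167)
def n60359 : Q := act 0 n59131
theorem D60359 : act 0 n59131 = n60359 := rfl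
theorem F269533 : act 1 n60359 = n59195 := d0_2 D59131 D60359 (iv D59195) (iv D58008) (iv F259821)
theorem F269534 : act 2 n60359 = n59375 := d1_2 (iv F264539) D60359 (iv D59375)
theorem F269535 : act 4 n60359 = n59209 := d3_2 (iv F264540) D60359 (iv D59209)
theorem F269536 : act 5 n60359 = n59410 := d4_2 (iv F264541) D60359 (iv D59410)
theorem F269537 : act 7 n60359 = n59132 := d6_2 (iv F264542) D60359 (iv D59132)
theorem F269538 : act 8 n60359 = n59145 := d7_2 (iv F264543) D60359 (iv D59145)
theorem F269539 : act 9 n60359 = n59133 := d8_2 (iv F264544) D60359 (iv D59133)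
def n60360 : Q := act 1 n59134
theorem D60360 : act 1 n59134 = n60360 := rfl
theorem F269540 : act 2 n60360 = n59492 := d9_2 D59134 D60360 (iv D59492) (iv D58302) (iv F259836)
theorem F269541 : act 3 n60360 = n59223 := d10_2 (iv F264556) D60360 (iv D59223)
theorem F269542 : act 5 n60360 = n59417 := d12_2 (iv F264557) D60360 (iv D59417)
theorem F269543 : act 6 n60360 = n59220 := d13_2 (iv F264558) D60360 (iv D59220)
theorem F269544 : act 9 n60360 = n59280 := d16_2 (iv F264559) D60360 (iv D59280)
def n60361 : Q := act 0 n59135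
theorem D60361 : act 0 n59135 = n60361 := rfl
theorem F269545 : act 2 n60361 = n59137 := d1_2 (iv F264560) D60361 (iv D59137)
theorem F269546 : act 3 n60361 = n59401 := d2_2 (iv F264561) D60361 (iv D59401)
theorem F269547 : act 5 n60361 = n59419 := d4_2 (iv F264562) D60361 (iv D59419)
def n60362 : Q := act 4 n59135
theorem D60362 : act 4 n59135 = n60362 := rfl
theorem F269548 : act 1 n60362 = n59136 := d11_1 D60362 (iv D59136) D59135
theorem F269549 : act 2 n60362 = n59138 := d18_1 D60362 (iv D59138) (iv F264560)
def n60363 : Q := act 4 n59137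
theorem D60363 : act 4 n59137 = n60363 := rfl
theorem F269550 : act 0 n60363 = n59138 := d3_1 D60363 (iv D59138) D59137
theorem F269551 : act 1 n60363 = n59514 := d11_1 D60363 (iv D59514) (iv F264564)
theorem F269552 : act 3 n60363 = n59284 := d24_1 D60363 (iv D59284) F260265 (iv F259851) (iv F264565)
def n60364 : Q := act 0 n59139
theorem D60364 : act 0 n59139 = n60364 := rfl
theorem F269553 : act 1 n60364 = n59395 := d0_2 D59139 D60364 (iv D59395) (iv D58201) (iv F259853)
theorem F269554 : act 2 n60364 = n59167 := d1_2 (iv F264569) D60364 (iv D59167)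
theorem F269555 : act 4 n60364 = n59251 := d3_2 (iv F264570) D60364 (iv D59251)
theorem F269556 : act 5 n60364 = n59372 := d4_2 (iv F264571) D60364 (iv D59372)
theorem F269557 : act 7 n60364 = n59140 := d6_2 (iv F264572) D60364 (iv D59140)
theorem F269558 : act 8 n60364 = n59303 := d7_2 (iv F264573) D60364 (iv D59303)
theorem F269559 : act 9 n60364 = n59373 := d8_2 (iv F264574) D60364 (iv D59373)
def n60365 : Q := act 1 n59141
theorem D60365 : act 1 n59141 = n60365 := rfl
theorem F269560 : act 8 n60365 = n59143 := d15_2 (iv F264580) D60365 (iv D59143)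
def n60366 : Q := act 4 n59141
theorem D60366 : act 4 n59141 = n60366 := rfl
theorem F269561 : act 0 n60366 = n59219 := d3_1 D60366 (iv D59219) (iv F264579)
theorem F269562 : act 2 n60366 = n59142 := d18_1 D60366 (iv D59142) D59141
theorem F269563 : act 8 n60366 = n59144 := d33_2 (iv F264580) D60366 (iv D59144)
def n60367 : Q := act 0 n59143
theorem D60367 : act 0 n59143 = n60367 := rfl
theorem F269564 : act 1 n60367 = n59221 := d0_2 D59143 D60367 (iv D59221) (iv D58030) (iv F259864)
theorem F269565 : act 3 n60367 = n59145 := d2_2 (iv F264584) D60367 (iv D59145)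
theorem F269566 : act 9 n60367 = n59180 := d8_2 (iv F264585) D60367 (iv D59180)
def n60368 : Q := act 4 n59143
theorem D60368 : act 4 n59143 = n60368 := rfl
theorem F269567 : act 1 n60368 = n59144 := d11_1 D60368 (iv D59144) D59143
theorem F269568 : act 3 n60368 = n59468 := d24_1 D60368 (iv D59468) F260669 (iv F259870) (iv F264584)
theorem F269569 : act 9 n60368 = n59181 := d34_2 (iv F264585) D60368 (iv D59181)
def n60369 : Q := act 2 n59146
theorem D60369 : act 2 n59146 = n60369 := rfl
theorem F269570 : act 0 n60369 = n59424 := d1_1 D60369 (iv D59424) (iv F264593)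
theorem F269571 : act 6 n60369 = n59154 := d20_2 (iv F264595) D60369 (iv D59154)
theorem F269572 : act 7 n60369 = n59489 := d21_2 (iv F264596) D60369 F265482
theorem F269573 : act 8 n60369 = n59422 := d22_2 (iv F264597) D60369 (iv D59422)
def n60370 : Q := act 4 n59146
theorem D60370 : act 4 n59146 = n60370 := rfl
theorem F269574 : act 0 n60370 = n59425 := d3_1 D60370 (iv D59425) (iv F264593)
theorem F269575 : act 1 n60370 = n59149 := d11_1 D60370 (iv D59149) (iv F264594)
theorem F269576 : act 3 n60370 = n59147 := d24_1 D60370 (iv D59147) (iv D57959) (iv F259874) D59146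
theorem F269577 : act 6 n60370 = n59155 := d31_2 (iv F264595) D60370 (iv D59155)
theorem F269578 : act 7 n60370 = n59486 := d32_2 (iv F264596) D60370 F265472
theorem F269579 : act 8 n60370 = n59423 := d33_2 (iv F264597) D60370 (iv D59423)
def n60371 : Q := act 1 n59148
theorem D60371 : act 1 n59148 = n60371 := rfl
theorem F269580 : act 3 n60371 = n59153 := d10_2 (iv F264604) D60371 (iv D59153)
theorem F269581 : act 6 n60371 = n59162 := d13_2 (iv F264605) D60371 (iv D59162)
theorem F269582 : act 7 n60371 = n59501 := d14_2 (iv F264606) D60371 (iv D59501)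
theorem F269583 : act 8 n60371 = n59510 := d15_2 (iv F264607) D60371 (iv D59510)
def n60372 : Q := act 4 n59148
theorem D60372 : act 4 n59148 = n60372 := rfl
theorem F269584 : act 0 n60372 = n59228 := d3_1 D60372 (iv D59228) (iv F264603)
theorem F269585 : act 2 n60372 = n59149 := d18_1 D60372 (iv D59149) D59148
theorem F269586 : act 3 n60372 = n59176 := d24_1 D60372 (iv D59176) F259951 (iv F259895) (iv F264604)
theorem F269587 : act 6 n60372 = n59163 := d31_2 (iv F264605) D60372 (iv D59163)
theorem F269588 : act 7 n60372 = n59502 := d32_2 (iv F264606) D60372 (iv D59502)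
theorem F269589 : act 8 n60372 = n59508 := d33_2 (iv F264607) D60372 F265520
def n60373 : Q := act 5 n59149
theorem D60373 : act 5 n59149 = n60373 := rfl
theorem F269590 : act 0 n60373 = n59229 := d4_1 D60373 (iv D59229) (iv F264608)
theorem F269591 : act 3 n60373 = n59150 := d25_1 D60373 (iv D59150) (iv F264609)
theorem F269592 : act 7 n60373 = n59503 := d36_2 (iv F264611) D60373 (iv D59503)
theorem F269593 : act 8 n60373 = n59511 := d37_2 (iv F264612) D60373 (iv D59511)
def n60374 : Q := act 1 n59151
theorem D60374 : act 1 n59151 = n60374 := rfl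
theorem F269594 : act 5 n60374 = n59153 := d12_2 (iv F264619) D60374 (iv D59153)
def n60375 : Q := act 4 n59151
theorem D60375 : act 4 n59151 = n60375 := rfl
theorem F269595 : act 0 n60375 = n59231 := d3_1 D60375 (iv D59231) (iv F264618)
theorem F269596 : act 2 n60375 = n59152 := d18_1 D60375 (iv D59152) D59151
theorem F269597 : act 5 n60375 = n59475 := d30_2 (iv F264619) D60375 (iv D59475) F260695 (iv F259895)
def n60376 : Q := act 0 n59153
theorem D60376 : act 0 n59153 = n60376 := rfl
theorem F269598 : act 1 n60376 = n59232 := d0_2 D59153 D60376 (iv D59232) (iv D58041) (iv F259894)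
theorem F269599 : act 4 n60376 = n59491 := d3_2 (iv F264623) D60376 (iv D59491)
theorem F269600 : act 6 n60376 = n59167 := d5_2 (iv F264624) D60376 (iv D59167)
def n60377 : Q := act 1 n59154
theorem D60377 : act 1 n59154 = n60377 := rfl
theorem F269601 : act 2 n60377 = n59162 := d9_2 D59154 D60377 (iv D59162) (iv D57969) (iv F259897)
theorem F269602 : act 7 n60377 = n59170 := d14_2 (iv F264625) D60377 (iv D59170)
def n60378 : Q := act 4 n59154
theorem D60378 : act 4 n59154 = n60378 := rfl
theorem F269603 : act 2 n60378 = n59155 := d18_1 D60378 (iv D59155) D59154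
theorem F269604 : act 7 n60378 = n59171 := d32_2 (iv F264625) D60378 (iv D59171)
def n60379 : Q := act 5 n59155
theorem D60379 : act 5 n59155 = n60379 := rfl
theorem F269605 : act 0 n60379 = n59428 := d4_1 D60379 (iv F267109) F267106
theorem F269606 : act 1 n60379 = n59164 := d12_1 D60379 (iv D59164) (iv F264626)
theorem F269607 : act 3 n60379 = n59156 := d25_1 D60379 (iv D59156) (iv F264627)
theorem F269608 : act 7 n60379 = n59172 := d36_2 (iv F264628) D60379 (iv D59172)
def n60380 : Q := act 2 n59157
theorem D60380 : act 2 n59157 = n60380 := rfl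
theorem F269609 : act 0 n60380 = n59238 := d1_1 D60380 (iv D59238) (iv F264635)
theorem F269610 : act 3 n60380 = n59322 := d17_2 D59157 D60380 (iv D59322) (iv D58127) (iv F259903)
theorem F269611 : act 5 n60380 = n59158 := d19_2 (iv F264636) D60380 (iv D59158)
theorem F269612 : act 7 n60380 = n59173 := d21_2 (iv F264637) D60380 (iv D59173)
theorem F269613 : act 8 n60380 = n59160 := d22_2 (iv F264638) D60380 (iv D59160)
def n60381 : Q := act 4 n59157
theorem D60381 : act 4 n59157 = n60381 := rfl
theorem F269614 : act 0 n60381 = n59239 := d3_1 D60381 (iv D59239) (iv F264635)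
theorem F269615 : act 3 n60381 = n60381 := d24_1 D60381 (iv D60381) (iv D59157) F259904 D59157
theorem F269616 : act 7 n60381 = n59174 := d32_2 (iv F264637) D60381 (iv D59174)
theorem F269617 : act 8 n60381 = n59161 := d33_2 (iv F264638) D60381 (iv D59161)
def n60382 : Q := act 1 n59158
theorem D60382 : act 1 n59158 = n60382 := rfl
theorem F269618 : act 3 n60382 = n59490 := d10_2 (iv F264640) D60382 (iv D59490)
theorem F269619 : act 6 n60382 = n59510 := d13_2 (iv F264641) D60382 (iv D59510)
theorem F269620 : act 7 n60382 = n59175 := d14_2 (iv F264642) D60382 (iv D59175)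
theorem F269621 : act 8 n60382 = n59162 := d15_2 (iv F264643) D60382 (iv D59162)
def n60383 : Q := act 4 n59158
theorem D60383 : act 4 n59158 = n60383 := rfl
theorem F269622 : act 0 n60383 = n59243 := d3_1 D60383 (iv D59243) (iv F264639)
theorem F269623 : act 2 n60383 = n59159 := d18_1 D60383 (iv D59159) D59158
theorem F269624 : act 3 n60383 = n59502 := d24_1 D60383 (iv D59502) (iv F261624) F261625 (iv F264640)
theorem F269625 : act 6 n60383 = n59508 := d31_2 (iv F264641) D60383 F265520
theorem F269626 : act 7 n60383 = n59176 := d32_2 (iv F264642) D60383 (iv D59176)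
theorem F269627 : act 8 n60383 = n59163 := d33_2 (iv F264643) D60383 (iv D59163)
def n60384 : Q := act 5 n59159
theorem D60384 : act 5 n59159 = n60384 := rfl
theorem F269628 : act 0 n60384 = n59244 := d4_1 D60384 (iv D59244) (iv F264644)
theorem F269629 : act 3 n60384 = n59184 := d25_1 D60384 (iv D59184) (iv F264645)
theorem F269630 : act 7 n60384 = n59177 := d36_2 (iv F264647) D60384 (iv D59177)
theorem F269631 : act 8 n60384 = n59164 := d37_2 (iv F264648) D60384 (iv D59164)
def n60385 : Q := act 1 n59160
theorem D60385 : act 1 n59160 = n60385 := rfl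
theorem F269632 : act 3 n60385 = n59166 := d10_2 (iv F264650) D60385 (iv D59166)
theorem F269633 : act 5 n60385 = n59162 := d12_2 (iv F264651) D60385 (iv D59162)
theorem F269634 : act 7 n60385 = n59178 := d14_2 (iv F264652) D60385 (iv D59178)
theorem F269635 : act 9 n60385 = n59407 := d16_2 (iv F264653) D60385 (iv D59407)
def n60386 : Q := act 4 n59160
theorem D60386 : act 4 n59160 = n60386 := rfl
theorem F269636 : act 0 n60386 = n59246 := d3_1 D60386 (iv D59246) (iv F264649)
theorem F269637 : act 2 n60386 = n59161 := d18_1 D60386 (iv D59161) D59160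
theorem F269638 : act 3 n60386 = n59392 := d24_1 D60386 (iv D59392) F260519 (iv F259927) (iv F264650)
theorem F269639 : act 7 n60386 = n59179 := d32_2 (iv F264652) D60386 (iv D59179)
theorem F269640 : act 9 n60386 = n59408 := d34_2 (iv F264653) D60386 (iv D59408)
def n60387 : Q := act 0 n59162
theorem D60387 : act 0 n59162 = n60387 := rfl
theorem F269641 : act 1 n60387 = n59247 := d0_2 D59162 D60387 (iv D59247) (iv D58052) (iv F259915)
theorem F269642 : act 3 n60387 = n59167 := d2_2 (iv F264658) D60387 (iv D59167)
theorem F269643 : act 7 n60387 = n59180 := d6_2 (iv F264659) D60387 (iv D59180)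
def n60388 : Q := act 4 n59162
theorem D60388 : act 4 n59162 = n60388 := rfl
theorem F269644 : act 1 n60388 = n59163 := d11_1 D60388 (iv D59163) D59162
theorem F269645 : act 3 n60388 = n59484 := d24_1 D60388 (iv D59484) F260718 (iv F259932) (iv F264658)
theorem F269646 : act 7 n60388 = n59181 := d32_2 (iv F264659) D60388 (iv D59181)
def n60389 : Q := act 5 n59163
theorem D60389 : act 5 n59163 = n60389 := rfl
theorem F269647 : act 0 n60389 = n59249 := d4_1 D60389 (iv D59249) (iv F264660)
theorem F269648 : act 2 n60389 = n59164 := d19_1 D60389 (iv D59164) (iv F264661)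
theorem F269649 : act 3 n60389 = n59485 := d25_1 D60389 (iv D59485) (iv F264662)
theorem F269650 : act 7 n60389 = n59182 := d36_2 (iv F264663) D60389 (iv D59182)
def n60390 : Q := act 6 n59164
theorem D60390 : act 6 n59164 = n60390 := rfl
theorem F269651 : act 0 n60390 = n59250 := d5_1 D60390 (iv D59250) (iv F264664)
theorem F269652 : act 3 n60390 = n59165 := d26_1 D60390 (iv D59165) (iv F264665)
def n60391 : Q := act 0 n59166
theorem D60391 : act 0 n59166 = n60391 := rfl
theorem F269653 : act 1 n60391 = n59251 := d0_2 D59166 D60391 (iv D59251) (iv D58056) (iv F259926)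
theorem F269654 : act 2 n60391 = n59372 := d1_2 (iv F264671) D60391 (iv D59372)
theorem F269655 : act 4 n60391 = n59395 := d3_2 (iv F264672) D60391 (iv D59395)
theorem F269656 : act 5 n60391 = n59167 := d4_2 (iv F264673) D60391 (iv D59167)
theorem F269657 : act 7 n60391 = n59183 := d6_2 (iv F264674) D60391 (iv D59183)
theorem F269658 : act 8 n60391 = n59326 := d7_2 (iv F264675) D60391 (iv D59326)
theorem F269659 : act 9 n60391 = n59409 := d8_2 (iv F264676) D60391 (iv D59409)
def n60392 : Q := act 1 n59168
theorem D60392 : act 1 n59168 = n60392 := rfl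
theorem F269660 : act 2 n60392 = n59175 := d9_2 D59168 D60392 (iv D59175) (iv D57979) (iv F259934)
theorem F269661 : act 6 n60392 = n59479 := d13_2 (iv F264680) D60392 (iv D59479)
theorem F269662 : act 8 n60392 = n59170 := d15_2 (iv F264681) D60392 (iv D59170)
def n60393 : Q := act 4 n59168
theorem D60393 : act 4 n59168 = n60393 := rfl
theorem F269663 : act 2 n60393 = n59169 := d18_1 D60393 (iv D59169) D59168
theorem F269664 : act 6 n60393 = n59480 := d31_2 (iv F264680) D60393 (iv D59480)
theorem F269665 : act 8 n60393 = n59171 := d33_2 (iv F264681) D60393 (iv D59171)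
def n60394 : Q := act 5 n59169
theorem D60394 : act 5 n59169 = n60394 := rfl
theorem F269666 : act 1 n60394 = n59177 := d12_1 D60394 (iv D59177) (iv F264682)
theorem F269667 : act 3 n60394 = n59187 := d25_1 D60394 (iv D59187) (iv F264683)
theorem F269668 : act 6 n60394 = n59503 := d35_2 (iv F264684) D60394 (iv D59503) F260760 (iv F260707)
theorem F269669 : act 8 n60394 = n59172 := d37_2 (iv F264685) D60394 (iv D59172)
def n60395 : Q := act 0 n59170
theorem D60395 : act 0 n59170 = n60395 := rfl
theorem F269670 : act 2 n60395 = n59180 := d1_2 (iv F264686) D60395 (iv D59180)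
theorem F269671 : act 6 n60395 = n59516 := d5_2 (iv F264687) D60395 F265534
def n60396 : Q := act 4 n59170
theorem D60396 : act 4 n59170 = n60396 := rfl
theorem F269672 : act 1 n60396 = n59171 := d11_1 D60396 (iv D59171) D59170
theorem F269673 : act 2 n60396 = n59181 := d18_1 D60396 (iv D59181) (iv F264686)
theorem F269674 : act 6 n60396 = n59515 := d31_2 (iv F264687) D60396 F265533
def n60397 : Q := act 5 n59171
theorem D60397 : act 5 n59171 = n60397 := rfl
theorem F269675 : act 2 n60397 = n59172 := d19_1 D60397 (iv D59172) (iv F264688)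
theorem F269676 : act 3 n60397 = n59495 := d25_1 D60397 (iv F269386) F269385
theorem F269677 : act 6 n60397 = n59498 := d35_2 (iv F264689) D60397 F265498 F260779 D58325
def n60398 : Q := act 1 n59173
theorem D60398 : act 1 n59173 = n60398 := rfl
theorem F269678 : act 3 n60398 = n59474 := d10_2 (iv F264694) D60398 (iv D59474)
theorem F269679 : act 5 n60398 = n59175 := d12_2 (iv F264695) D60398 (iv D59175)
theorem F269680 : act 6 n60398 = n59471 := d13_2 (iv F264696) D60398 (iv D59471)
theorem F269681 : act 8 n60398 = n59178 := d15_2 (iv F264697) D60398 (iv D59178)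
def n60399 : Q := act 4 n59173
theorem D60399 : act 4 n59173 = n60399 := rfl
theorem F269682 : act 0 n60399 = n59271 := d3_1 D60399 (iv D59271) (iv F264693)
theorem F269683 : act 2 n60399 = n59174 := d18_1 D60399 (iv D59174) D59173
theorem F269684 : act 6 n60399 = n59472 := d31_2 (iv F264696) D60399 (iv D59472)
theorem F269685 : act 8 n60399 = n59179 := d33_2 (iv F264697) D60399 (iv D59179)
def n60400 : Q := act 0 n59175
theorem D60400 : act 0 n59175 = n60400 := rfl
theorem F269686 : act 1 n60400 = n59275 := d0_2 D59175 D60400 (iv D59275) (iv D58075) (iv F259950)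
theorem F269687 : act 3 n60400 = n59491 := d2_2 (iv F264702) D60400 (iv D59491)
theorem F269688 : act 6 n60400 = n59483 := d5_2 (iv F264703) D60400 (iv D59483)
theorem F269689 : act 8 n60400 = n59180 := d7_2 (iv F264704) D60400 (iv D59180)
def n60401 : Q := act 4 n59175
theorem D60401 : act 4 n59175 = n60401 := rfl
theorem F269690 : act 1 n60401 = n59176 := d11_1 D60401 (iv D59176) D59175
theorem F269691 : act 6 n60401 = n59484 := d31_2 (iv F264703) D60401 (iv D59484)
theorem F269692 : act 8 n60401 = n59181 := d33_2 (iv F264704) D60401 (iv D59181)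
def n60402 : Q := act 5 n59176
theorem D60402 : act 5 n59176 = n60402 := rfl
theorem F269693 : act 0 n60402 = n59277 := d4_1 D60402 (iv D59277) (iv F264705)
theorem F269694 : act 2 n60402 = n59177 := d19_1 D60402 (iv D59177) (iv F264706)
theorem F269695 : act 8 n60402 = n59182 := d37_2 (iv F264708) D60402 (iv D59182)
def n60403 : Q := act 0 n59178
theorem D60403 : act 0 n59178 = n60403 := rfl
theorem F269696 : act 1 n60403 = n59282 := d0_2 D59178 D60403 (iv D59282) (iv D58081) (iv F259958)
theorem F269697 : act 3 n60403 = n59183 := d2_2 (iv F264712) D60403 (iv D59183)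
theorem F269698 : act 5 n60403 = n59180 := d4_2 (iv F264713) D60403 (iv D59180)
def n60404 : Q := act 4 n59178
theorem D60404 : act 4 n59178 = n60404 := rfl
theorem F269699 : act 1 n60404 = n59179 := d11_1 D60404 (iv D59179) D59178
theorem F269700 : act 3 n60404 = n59406 := d24_1 D60404 (iv D59406) F260552 (iv F259970) (iv F264712)
def n60405 : Q := act 4 n59180
theorem D60405 : act 4 n59180 = n60405 := rfl
theorem F269701 : act 0 n60405 = n59181 := d3_1 D60405 (iv D59181) D59180
theorem F269702 : act 1 n60405 = n59284 := d11_1 D60405 (iv D59284) (iv F264717)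
theorem F269703 : act 3 n60405 = n59514 := d24_1 D60405 (iv D59514) F260781 (iv F259973) (iv F264718)
def n60406 : Q := act 5 n59181
theorem D60406 : act 5 n59181 = n60406 := rfl
theorem F269704 : act 1 n60406 = n59182 := d12_1 D60406 (iv D59182) (iv F264719)
theorem F269705 : act 3 n60406 = n59515 := d25_1 D60406 (iv D59515) (iv F264720)
def n60407 : Q := act 6 n59184
theorem D60407 : act 6 n59184 = n60407 := rfl
theorem F269706 : act 0 n60407 = n59290 := d5_1 D60407 (iv D59290) (iv F264728)
theorem F269707 : act 2 n60407 = n59187 := d20_1 D60407 F264744 (iv F264729)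
theorem F269708 : act 4 n60407 = n60407 := d31_1 D60407 (iv D60407) F264730
theorem F269709 : act 5 n60407 = n59186 := d35_1 D60407 F264740 F260791 (iv F260008) D59184
theorem F269710 : act 8 n60407 = n59185 := d40_2 (iv F264732) D60407 (iv D59185)
def n60408 : Q := act 3 n59186
theorem D60408 : act 3 n59186 = n60408 := rfl
theorem F269711 : act 6 n60408 = n59511 := d26_2 (iv F264740) D60408 F265525
def n60409 : Q := act 1 n59188
theorem D60409 : act 1 n59188 = n60409 := rfl
theorem F269712 : act 2 n60409 = n59193 := d9_2 D59188 D60409 (iv D59193) (iv D58006) (iv F260038)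
theorem F269713 : act 3 n60409 = n59426 := d10_2 (iv F264746) D60409 (iv D59426)
theorem F269714 : act 5 n60409 = n59441 := d12_2 (iv F264747) D60409 (iv D59441)
theorem F269715 : act 7 n60409 = n59450 := d14_2 (iv F264748) D60409 (iv D59450)
theorem F269716 : act 9 n60409 = n59479 := d16_2 (iv F264749) D60409 (iv D59479)
def n60410 : Q := act 4 n59188
theorem D60410 : act 4 n59188 = n60410 := rfl
theorem F269717 : act 2 n60410 = n59189 := d18_1 D60410 (iv D59189) D59188
theorem F269718 : act 5 n60410 = n59505 := d30_2 (iv F264747) D60410 (iv D59505) F260762 (iv F260623)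
theorem F269719 : act 7 n60410 = n59451 := d32_2 (iv F264748) D60410 (iv D59451)
theorem F269720 : act 9 n60410 = n59480 := d34_2 (iv F264749) D60410 (iv D59480)
def n60411 : Q := act 3 n59190
theorem D60411 : act 3 n59190 = n60411 := rfl
theorem F269721 : act 4 n60411 = n59428 := d24_2 D59190 D60411 (iv D59428) (iv D58239) (iv F260042)
theorem F269722 : act 5 n60411 = n59463 := d25_2 (iv F264756) D60411 F265413
theorem F269723 : act 7 n60411 = n59466 := d27_2 (iv F264757) D60411 F265422
theorem F269724 : act 9 n60411 = n59511 := d29_2 (iv F264759) D60411 F265525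
def n60412 : Q := act 1 n59191
theorem D60412 : act 1 n59191 = n60412 := rfl
theorem F269725 : act 3 n60412 = n59218 := d10_2 (iv F264760) D60412 (iv D59218)
theorem F269726 : act 5 n60412 = n59442 := d12_2 (iv F264761) D60412 (iv D59442)
theorem F269727 : act 7 n60412 = n59458 := d14_2 (iv F264762) D60412 (iv D59458)
theorem F269728 : act 8 n60412 = n59193 := d15_2 (iv F264763) D60412 (iv D59193)
def n60413 : Q := act 4 n59191
theorem D60413 : act 4 n59191 = n60413 := rfl
theorem F269729 : act 2 n60413 = n59192 := d18_1 D60413 (iv D59192) D59191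
theorem F269730 : act 7 n60413 = n59459 := d32_2 (iv F264762) D60413 (iv D59459)
theorem F269731 : act 8 n60413 = n59194 := d33_2 (iv F264763) D60413 (iv D59194)
def n60414 : Q := act 0 n59193
theorem D60414 : act 0 n59193 = n60414 := rfl
theorem F269732 : act 3 n60414 = n59195 := d2_2 (iv F264767) D60414 (iv D59195)
theorem F269733 : act 5 n60414 = n59443 := d4_2 (iv F264768) D60414 (iv D59443)
theorem F269734 : act 7 n60414 = n59467 := d6_2 (iv F264769) D60414 (iv D59467)
theorem F269735 : act 9 n60414 = n59483 := d8_2 (iv F264770) D60414 (iv D59483)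
def n60415 : Q := act 4 n59193
theorem D60415 : act 4 n59193 = n60415 := rfl
theorem F269736 : act 1 n60415 = n59194 := d11_1 D60415 (iv D59194) D59193
theorem F269737 : act 7 n60415 = n59468 := d32_2 (iv F264769) D60415 (iv D59468)
theorem F269738 : act 9 n60415 = n59484 := d34_2 (iv F264770) D60415 (iv D59484)
def n60416 : Q := act 2 n59196
theorem D60416 : act 2 n59196 = n60416 := rfl
theorem F269739 : act 3 n60416 = n59454 := d17_2 D59196 D60416 (iv D59454) (iv D58263) (iv F260067)
theorem F269740 : act 6 n60416 = n59205 := d20_2 (iv F264779) D60416 (iv D59205)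
theorem F269741 : act 8 n60416 = n59197 := d22_2 (iv F264780) D60416 (iv D59197)
def n60417 : Q := act 4 n59196
theorem D60417 : act 4 n59196 = n60417 := rfl
theorem F269742 : act 3 n60417 = n60417 := d24_1 D60417 (iv D60417) (iv D59196) F260068 D59196
theorem F269743 : act 6 n60417 = n59206 := d31_2 (iv F264779) D60417 (iv D59206)
theorem F269744 : act 8 n60417 = n59198 := d33_2 (iv F264780) D60417 (iv D59198)
def n60418 : Q := act 1 n59197
theorem D60418 : act 1 n59197 = n60418 := rfl
theorem F269745 : act 3 n60418 = n59200 := d10_2 (iv F264781) D60418 (iv D59200)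
theorem F269746 : act 6 n60418 = n59207 := d13_2 (iv F264782) D60418 (iv D59207)
theorem F269747 : act 9 n60418 = n59227 := d16_2 (iv F264783) D60418 (iv D59227)
def n60419 : Q := act 4 n59197
theorem D60419 : act 4 n59197 = n60419 := rfl
theorem F269748 : act 2 n60419 = n59198 := d18_1 D60419 (iv D59198) D59197
theorem F269749 : act 3 n60419 = n59273 := d24_1 D60419 (iv D59273) (iv F261571) F261572 (iv F264781)
theorem F269750 : act 6 n60419 = n59208 := d31_2 (iv F264782) D60419 (iv D59208)
theorem F269751 : act 9 n60419 = n59228 := d34_2 (iv F264783) D60419 (iv D59228)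
def n60420 : Q := act 5 n59198
theorem D60420 : act 5 n59198 = n60420 := rfl
theorem F269752 : act 3 n60420 = n59199 := d25_1 D60420 (iv D59199) (iv F264784)
theorem F269753 : act 9 n60420 = n59229 := d38_2 (iv F264786) D60420 (iv D59229)
def n60421 : Q := act 0 n59200
theorem D60421 : act 0 n59200 = n60421 := rfl
theorem F269754 : act 2 n60421 = n59440 := d1_2 (iv F264791) D60421 (iv D59440)
theorem F269755 : act 6 n60421 = n59209 := d5_2 (iv F264792) D60421 (iv D59209)
theorem F269756 : act 8 n60421 = n59470 := d7_2 (iv F264793) D60421 (iv D59470)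
theorem F269757 : act 9 n60421 = n59232 := d8_2 (iv F264794) D60421 (iv D59232)
def n60422 : Q := act 2 n59201
theorem D60422 : act 2 n59201 = n60422 := rfl
theorem F269758 : act 5 n60422 = n59424 := d19_2 (iv F264796) D60422 (iv D59424)
theorem F269759 : act 7 n60422 = n59210 := d21_2 (iv F264797) D60422 (iv D59210)
theorem F269760 : act 8 n60422 = n59202 := d22_2 (iv F264798) D60422 (iv D59202)
def n60423 : Q := act 4 n59201
theorem D60423 : act 4 n59201 = n60423 := rfl
theorem F269761 : act 1 n60423 = n59206 := d11_1 D60423 (iv D59206) (iv F264795)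
theorem F269762 : act 3 n60423 = n60423 := d24_1 D60423 (iv D60423) (iv D59201) F260080 D59201
theorem F269763 : act 7 n60423 = n59211 := d32_2 (iv F264797) D60423 (iv D59211)
theorem F269764 : act 8 n60423 = n59203 := d33_2 (iv F264798) D60423 (iv D59203)
def n60424 : Q := act 1 n59202
theorem D60424 : act 1 n59202 = n60424 := rfl
theorem F269765 : act 2 n60424 = n59207 := d9_2 D59202 D60424 (iv D59207) (iv D58018) (iv F260083)
theorem F269766 : act 3 n60424 = n59441 := d10_2 (iv F264799) D60424 (iv D59441)
theorem F269767 : act 5 n60424 = n59426 := d12_2 (iv F264800) D60424 (iv D59426)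
theorem F269768 : act 7 n60424 = n59213 := d14_2 (iv F264801) D60424 (iv D59213)
theorem F269769 : act 9 n60424 = n59235 := d16_2 (iv F264802) D60424 (iv D59235)
def n60425 : Q := act 4 n59202
theorem D60425 : act 4 n59202 = n60425 := rfl
theorem F269770 : act 2 n60425 = n59203 := d18_1 D60425 (iv D59203) D59202
theorem F269771 : act 3 n60425 = n59359 := d24_1 D60425 (iv D59359) F260453 (iv F260623) (iv F264799)
theorem F269772 : act 7 n60425 = n59214 := d32_2 (iv F264801) D60425 (iv D59214)
theorem F269773 : act 9 n60425 = n59236 := d34_2 (iv F264802) D60425 (iv D59236)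
def n60426 : Q := act 2 n59204
theorem D60426 : act 2 n59204 = n60426 := rfl
theorem F269774 : act 3 n60426 = n59456 := d17_2 D59204 D60426 (iv D59456) (iv D58264) (iv F260092)
theorem F269775 : act 5 n60426 = n59429 := d19_2 (iv F264807) D60426 (iv D59429)
theorem F269776 : act 7 n60426 = n59216 := d21_2 (iv F264808) D60426 (iv D59216)
theorem F269777 : act 8 n60426 = n59240 := d22_2 (iv F264809) D60426 (iv D59240)
theorem F269778 : act 9 n60426 = n59205 := d23_2 (iv F264810) D60426 (iv D59205)
def n60427 : Q := act 4 n59204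
theorem D60427 : act 4 n59204 = n60427 := rfl
theorem F269779 : act 3 n60427 = n60427 := d24_1 D60427 (iv D60427) (iv D59204) F260093 D59204
theorem F269780 : act 7 n60427 = n59217 := d32_2 (iv F264808) D60427 (iv D59217)
theorem F269781 : act 8 n60427 = n59241 := d33_2 (iv F264809) D60427 (iv D59241)
theorem F269782 : act 9 n60427 = n59206 := d34_2 (iv F264810) D60427 (iv D59206)
def n60428 : Q := act 1 n59205
theorem D60428 : act 1 n59205 = n60428 := rfl
theorem F269783 : act 3 n60428 = n59458 := d10_2 (iv F264811) D60428 (iv D59458)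
theorem F269784 : act 5 n60428 = n59431 := d12_2 (iv F264812) D60428 (iv D59431)
theorem F269785 : act 7 n60428 = n59218 := d14_2 (iv F264813) D60428 (iv D59218)
theorem F269786 : act 8 n60428 = n59207 := d15_2 (iv F264814) D60428 (iv D59207)
def n60429 : Q := act 4 n59205
theorem D60429 : act 4 n59205 = n60429 := rfl
theorem F269787 : act 2 n60429 = n59206 := d18_1 D60429 (iv D59206) D59205
theorem F269788 : act 7 n60429 = n59219 := d32_2 (iv F264813) D60429 (iv D59219)
theorem F269789 : act 8 n60429 = n59208 := d33_2 (iv F264814) D60429 (iv D59208)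
def n60430 : Q := act 0 n59207
theorem D60430 : act 0 n59207 = n60430 := rfl
theorem F269790 : act 3 n60430 = n59209 := d2_2 (iv F264818) D60430 (iv D59209)
theorem F269791 : act 5 n60430 = n59433 := d4_2 (iv F264819) D60430 (iv D59433)
theorem F269792 : act 7 n60430 = n59221 := d6_2 (iv F264820) D60430 (iv D59221)
theorem F269793 : act 9 n60430 = n59247 := d8_2 (iv F264821) D60430 (iv D59247)
def n60431 : Q := act 4 n59207
theorem D60431 : act 4 n59207 = n60431 := rfl
theorem F269794 : act 1 n60431 = n59208 := d11_1 D60431 (iv D59208) D59207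
theorem F269795 : act 7 n60431 = n59222 := d32_2 (iv F264820) D60431 (iv D59222)
theorem F269796 : act 9 n60431 = n59248 := d34_2 (iv F264821) D60431 (iv D59248)
def n60432 : Q := act 1 n59210
theorem D60432 : act 1 n59210 = n60432 := rfl
theorem F269797 : act 2 n60432 = n59218 := d9_2 D59210 D60432 (iv D59218) (iv D58027) (iv F260112)
theorem F269798 : act 8 n60432 = n59213 := d15_2 (iv F264830) D60432 (iv D59213)
def n60433 : Q := act 4 n59210
theorem D60433 : act 4 n59210 = n60433 := rfl
theorem F269799 : act 2 n60433 = n59211 := d18_1 D60433 (iv D59211) D59210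
theorem F269800 : act 8 n60433 = n59214 := d33_2 (iv F264830) D60433 (iv D59214)
def n60434 : Q := act 1 n59212
theorem D60434 : act 1 n59212 = n60434 := rfl
theorem F269801 : act 2 n60434 = n59220 := d9_2 D59212 D60434 (iv D59220) (iv D58029) (iv F260115)
theorem F269802 : act 3 n60434 = n59450 := d10_2 (iv F264835) D60434 (iv D59450)
theorem F269803 : act 5 n60434 = n59213 := d12_2 (iv F264836) D60434 (iv D59213)
theorem F269804 : act 6 n60434 = n59492 := d13_2 (iv F264837) D60434 (iv D59492)
theorem F269805 : act 7 n60434 = n59426 := d14_2 (iv F264838) D60434 (iv D59426)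
theorem F269806 : act 9 n60434 = n59262 := d16_2 (iv F264839) D60434 (iv D59262)
def n60435 : Q := act 0 n59213
theorem D60435 : act 0 n59213 = n60435 := rfl
theorem F269807 : act 2 n60435 = n59221 := d1_2 (iv F264840) D60435 (iv D59221)
theorem F269808 : act 3 n60435 = n59452 := d2_2 (iv F264841) D60435 (iv D59452)
theorem F269809 : act 9 n60435 = n59264 := d8_2 (iv F264842) D60435 (iv D59264)
def n60436 : Q := act 4 n59213
theorem D60436 : act 4 n59213 = n60436 := rfl
theorem F269810 : act 1 n60436 = n59214 := d11_1 D60436 (iv D59214) D59213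
theorem F269811 : act 2 n60436 = n59222 := d18_1 D60436 (iv D59222) (iv F264840)
theorem F269812 : act 9 n60436 = n59265 := d34_2 (iv F264842) D60436 (iv D59265)
def n60437 : Q := act 1 n59215
theorem D60437 : act 1 n59215 = n60437 := rfl
theorem F269813 : act 3 n60437 = n59442 := d10_2 (iv F264845) D60437 (iv D59442)
theorem F269814 : act 5 n60437 = n59218 := d12_2 (iv F264846) D60437 (iv D59218)
theorem F269815 : act 7 n60437 = n59431 := d14_2 (iv F264847) D60437 (iv D59431)
theorem F269816 : act 8 n60437 = n59220 := d15_2 (iv F264848) D60437 (iv D59220)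
def n60438 : Q := act 1 n59216
theorem D60438 : act 1 n59216 = n60438 := rfl
theorem F269817 : act 8 n60438 = n59272 := d15_2 (iv F264849) D60438 (iv D59272)
theorem F269818 : act 9 n60438 = n59218 := d16_2 (iv F264850) D60438 (iv D59218)
def n60439 : Q := act 4 n59216
theorem D60439 : act 4 n59216 = n60439 := rfl
theorem F269819 : act 2 n60439 = n59217 := d18_1 D60439 (iv D59217) D59216
theorem F269820 : act 8 n60439 = n59273 := d33_2 (iv F264849) D60439 (iv D59273)
theorem F269821 : act 9 n60439 = n59219 := d34_2 (iv F264850) D60439 (iv D59219)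
def n60440 : Q := act 0 n59218
theorem D60440 : act 0 n59218 = n60440 := rfl
theorem F269822 : act 8 n60440 = n59221 := d7_2 (iv F264854) D60440 (iv D59221)
def n60441 : Q := act 4 n59218
theorem D60441 : act 4 n59218 = n60441 := rfl
theorem F269823 : act 1 n60441 = n59219 := d11_1 D60441 (iv D59219) D59218
theorem F269824 : act 8 n60441 = n59222 := d33_2 (iv F264854) D60441 (iv D59222)
def n60442 : Q := act 3 n59219
theorem D60442 : act 3 n59219 = n60442 := rfl
theorem F269825 : act 2 n60442 = n60442 := d17_1 D60442 (iv D60442) F264855 F260131 (iv F264855)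
def n60443 : Q := act 0 n59220
theorem D60443 : act 0 n59220 = n60443 := rfl
theorem F269826 : act 3 n60443 = n59224 := d2_2 (iv F264857) D60443 (iv D59224)
theorem F269827 : act 5 n60443 = n59221 := d4_2 (iv F264858) D60443 (iv D59221)
theorem F269828 : act 7 n60443 = n59433 := d6_2 (iv F264859) D60443 (iv D59433)
theorem F269829 : act 9 n60443 = n59282 := d8_2 (iv F264860) D60443 (iv D59282)
def n60444 : Q := act 4 n59221
theorem D60444 : act 4 n59221 = n60444 := rfl
theorem F269830 : act 0 n60444 = n59222 := d3_1 D60444 (iv D59222) D59221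
theorem F269831 : act 9 n60444 = n59284 := d34_2 (iv F264862) D60444 (iv D59284)
def n60445 : Q := act 0 n59223
theorem D60445 : act 0 n59223 = n60445 := rfl
theorem F269832 : act 1 n60445 = n59401 := d0_2 D59223 D60445 (iv D59401) (iv D58207) (iv F260141)
theorem F269833 : act 2 n60445 = n59470 := d1_2 (iv F264865) D60445 (iv D59470)
theorem F269834 : act 6 n60445 = n59224 := d5_2 (iv F264866) D60445 (iv D59224)
theorem F269835 : act 8 n60445 = n59440 := d7_2 (iv F264867) D60445 (iv D59440)
theorem F269836 : act 9 n60445 = n59287 := d8_2 (iv F264868) D60445 (iv D59287)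
def n60446 : Q := act 1 n59225
theorem D60446 : act 1 n59225 = n60446 := rfl
theorem F269837 : act 3 n60446 = n59230 := d10_2 (iv F264874) D60446 (iv D59230)
theorem F269838 : act 5 n60446 = n59227 := d12_2 (iv F264875) D60446 (iv D59227)
def n60447 : Q := act 4 n59225
theorem D60447 : act 4 n59225 = n60447 := rfl
theorem F269839 : act 2 n60447 = n59226 := d18_1 D60447 (iv D59226) D59225
def n60448 : Q := act 5 n59226
theorem D60448 : act 5 n59226 = n60448 := rfl
theorem F269840 : act 3 n60448 = n60448 := d25_1 D60448 (iv D60448) F264876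
theorem F269841 : act 4 n60448 = n59229 := d30_1 D60448 (iv D59229) (iv D58037) (iv F260152) D59226
def n60449 : Q := act 0 n59227
theorem D60449 : act 0 n59227 = n60449 := rfl
theorem F269842 : act 3 n60449 = n59232 := d2_2 (iv F264877) D60449 (iv D59232)
theorem F269843 : act 6 n60449 = n59247 := d5_2 (iv F264878) D60449 (iv D59247)
def n60450 : Q := act 4 n59227
theorem D60450 : act 4 n59227 = n60450 := rfl
theorem F269844 : act 1 n60450 = n59228 := d11_1 D60450 (iv D59228) D59227
theorem F269845 : act 3 n60450 = n59276 := d24_1 D60450 (iv D59276) (iv F264492) F264493 (iv F264877)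
theorem F269846 : act 6 n60450 = n59248 := d31_2 (iv F264878) D60450 (iv D59248)
def n60451 : Q := act 5 n59228
theorem D60451 : act 5 n59228 = n60451 := rfl
theorem F269847 : act 2 n60451 = n59229 := d19_1 D60451 (iv D59229) (iv F264879)
theorem F269848 : act 3 n60451 = n59277 := d25_1 D60451 (iv D59277) (iv F264880)
def n60452 : Q := act 0 n59230
theorem D60452 : act 0 n59230 = n60452 := rfl
theorem F269849 : act 2 n60452 = n59476 := d1_2 (iv F264883) D60452 (iv D59476)
theorem F269850 : act 5 n60452 = n59232 := d4_2 (iv F264884) D60452 (iv D59232)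
def n60453 : Q := act 4 n59230
theorem D60453 : act 4 n59230 = n60453 := rfl
theorem F269851 : act 1 n60453 = n59231 := d11_1 D60453 (iv D59231) D59230
theorem F269852 : act 2 n60453 = n59477 := d18_1 D60453 (iv D59477) (iv F264883)
def n60454 : Q := act 3 n59231
theorem D60454 : act 3 n59231 = n60454 := rfl
theorem F269853 : act 2 n60454 = n60454 := d17_1 D60454 (iv D60454) F264885 F260162 (iv F264885)
def n60455 : Q := act 1 n59233
theorem D60455 : act 1 n59233 = n60455 := rfl
theorem F269854 : act 2 n60455 = n59245 := d9_2 D59233 D60455 (iv D59245) (iv D58050) (iv F260165)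
theorem F269855 : act 3 n60455 = n59479 := d10_2 (iv F264888) D60455 (iv D59479)
theorem F269856 : act 5 n60455 = n59235 := d12_2 (iv F264889) D60455 (iv D59235)
theorem F269857 : act 7 n60455 = n59262 := d14_2 (iv F264890) D60455 (iv D59262)
theorem F269858 : act 9 n60455 = n59426 := d16_2 (iv F264891) D60455 (iv D59426)
def n60456 : Q := act 4 n59233
theorem D60456 : act 4 n59233 = n60456 := rfl
theorem F269859 : act 2 n60456 = n59234 := d18_1 D60456 (iv D59234) D59233
theorem F269860 : act 7 n60456 = n59263 := d32_2 (iv F264890) D60456 (iv D59263)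
theorem F269861 : act 9 n60456 = n59427 := d34_2 (iv F264891) D60456 (iv D59427)
def n60457 : Q := act 0 n59235
theorem D60457 : act 0 n59235 = n60457 := rfl
theorem F269862 : act 2 n60457 = n59247 := d1_2 (iv F264896) D60457 (iv D59247)
theorem F269863 : act 3 n60457 = n59481 := d2_2 (iv F264897) D60457 (iv D59481)
theorem F269864 : act 7 n60457 = n59264 := d6_2 (iv F264898) D60457 (iv D59264)
def n60458 : Q := act 4 n59235
theorem D60458 : act 4 n59235 = n60458 := rfl
theorem F269865 : act 1 n60458 = n59236 := d11_1 D60458 (iv D59236) D59235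
theorem F269866 : act 2 n60458 = n59248 := d18_1 D60458 (iv D59248) (iv F264896)
theorem F269867 : act 3 n60458 = n59361 := d24_1 D60458 (iv D59361) F260457 (iv F260711) (iv F264897)
theorem F269868 : act 7 n60458 = n59265 := d32_2 (iv F264898) D60458 (iv D59265)
def n60459 : Q := act 2 n59237
theorem D60459 : act 2 n59237 = n60459 := rfl
theorem F269869 : act 3 n60459 = n59334 := d17_2 D59237 D60459 (iv D59334) (iv D58140) (iv F260174)
theorem F269870 : act 5 n60459 = n59240 := d19_2 (iv F264902) D60459 (iv D59240)
theorem F269871 : act 7 n60459 = n59268 := d21_2 (iv F264903) D60459 (iv D59268)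
theorem F269872 : act 8 n60459 = n59429 := d22_2 (iv F264904) D60459 (iv D59429)
theorem F269873 : act 9 n60459 = n59238 := d23_2 (iv F264905) D60459 (iv D59238)
def n60460 : Q := act 4 n59237
theorem D60460 : act 4 n59237 = n60460 := rfl
theorem F269874 : act 3 n60460 = n60460 := d24_1 D60460 (iv D60460) (iv D59237) F260175 D59237
theorem F269875 : act 7 n60460 = n59269 := d32_2 (iv F264903) D60460 (iv D59269)
theorem F269876 : act 8 n60460 = n59430 := d33_2 (iv F264904) D60460 (iv D59430)
theorem F269877 : act 9 n60460 = n59239 := d34_2 (iv F264905) D60460 (iv D59239)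
def n60461 : Q := act 1 n59238
theorem D60461 : act 1 n59238 = n60461 := rfl
theorem F269878 : act 3 n60461 = n59336 := d10_2 (iv F264906) D60461 (iv D59336)
theorem F269879 : act 5 n60461 = n59242 := d12_2 (iv F264907) D60461 (iv D59242)
theorem F269880 : act 7 n60461 = n59270 := d14_2 (iv F264908) D60461 (iv D59270)
theorem F269881 : act 8 n60461 = n59245 := d15_2 (iv F264909) D60461 (iv D59245)
def n60462 : Q := act 4 n59238
theorem D60462 : act 4 n59238 = n60462 := rfl
theorem F269882 : act 2 n60462 = n59239 := d18_1 D60462 (iv D59239) D59238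
theorem F269883 : act 7 n60462 = n59271 := d32_2 (iv F264908) D60462 (iv D59271)
theorem F269884 : act 8 n60462 = n59246 := d33_2 (iv F264909) D60462 (iv D59246)
def n60463 : Q := act 1 n59240
theorem D60463 : act 1 n59240 = n60463 := rfl
theorem F269885 : act 7 n60463 = n59272 := d14_2 (iv F264913) D60463 (iv D59272)
theorem F269886 : act 9 n60463 = n59242 := d16_2 (iv F264914) D60463 (iv D59242)
def n60464 : Q := act 4 n59240
theorem D60464 : act 4 n59240 = n60464 := rfl
theorem F269887 : act 2 n60464 = n59241 := d18_1 D60464 (iv D59241) D59240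
theorem F269888 : act 7 n60464 = n59273 := d32_2 (iv F264913) D60464 (iv D59273)
theorem F269889 : act 9 n60464 = n59243 := d34_2 (iv F264914) D60464 (iv D59243)
def n60465 : Q := act 5 n59241
theorem D60465 : act 5 n59241 = n60465 := rfl
theorem F269890 : act 3 n60465 = n59289 := d25_1 D60465 (iv D59289) (iv F264915)
theorem F269891 : act 7 n60465 = n59274 := d36_2 (iv F264916) D60465 (iv D59274)
theorem F269892 : act 9 n60465 = n59244 := d38_2 (iv F264917) D60465 (iv D59244)
def n60466 : Q := act 0 n59242
theorem D60466 : act 0 n59242 = n60466 := rfl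
theorem F269893 : act 7 n60466 = n59275 := d6_2 (iv F264918) D60466 (iv D59275)
theorem F269894 : act 8 n60466 = n59247 := d7_2 (iv F264919) D60466 (iv D59247)
def n60467 : Q := act 4 n59242
theorem D60467 : act 4 n59242 = n60467 := rfl
theorem F269895 : act 1 n60467 = n59243 := d11_1 D60467 (iv D59243) D59242
theorem F269896 : act 7 n60467 = n59276 := d32_2 (iv F264918) D60467 (iv D59276)
theorem F269897 : act 8 n60467 = n59248 := d33_2 (iv F264919) D60467 (iv D59248)
def n60468 : Q := act 5 n59243
theorem D60468 : act 5 n59243 = n60468 := rfl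
theorem F269898 : act 2 n60468 = n59244 := d19_1 D60468 (iv D59244) (iv F264920)
theorem F269899 : act 7 n60468 = n59277 := d36_2 (iv F264921) D60468 (iv D59277)
theorem F269900 : act 8 n60468 = n59249 := d37_2 (iv F264922) D60468 (iv D59249)
def n60469 : Q := act 6 n59244
theorem D60469 : act 6 n59244 = n60469 := rfl
theorem F269901 : act 3 n60469 = n59290 := d26_1 D60469 (iv D59290) (iv F264923)
theorem F269902 : act 8 n60469 = n59250 := d40_2 (iv F264925) D60469 (iv D59250)
def n60470 : Q := act 0 n59245
theorem D60470 : act 0 n59245 = n60470 := rfl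
theorem F269903 : act 3 n60470 = n59251 := d2_2 (iv F264926) D60470 (iv D59251)
theorem F269904 : act 5 n60470 = n59247 := d4_2 (iv F264927) D60470 (iv D59247)
theorem F269905 : act 7 n60470 = n59282 := d6_2 (iv F264928) D60470 (iv D59282)
theorem F269906 : act 9 n60470 = n59433 := d8_2 (iv F264929) D60470 (iv D59433)
def n60471 : Q := act 4 n59245
theorem D60471 : act 4 n59245 = n60471 := rfl
theorem F269907 : act 1 n60471 = n59246 := d11_1 D60471 (iv D59246) D59245
theorem F269908 : act 7 n60471 = n59283 := d32_2 (iv F264928) D60471 (iv D59283)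
theorem F269909 : act 9 n60471 = n59434 := d34_2 (iv F264929) D60471 (iv D59434)
def n60472 : Q := act 4 n59247
theorem D60472 : act 4 n59247 = n60472 := rfl
theorem F269910 : act 0 n60472 = n59248 := d3_1 D60472 (iv D59248) D59247
theorem F269911 : act 7 n60472 = n59284 := d32_2 (iv F264934) D60472 (iv D59284)
def n60473 : Q := act 5 n59248
theorem D60473 : act 5 n59248 = n60473 := rfl
theorem F269912 : act 1 n60473 = n59249 := d12_1 D60473 (iv D59249) (iv F264935)
theorem F269913 : act 7 n60473 = n59285 := d36_2 (iv F264936) D60473 (iv D59285)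
def n60474 : Q := act 6 n59249
theorem D60474 : act 6 n59249 = n60474 := rfl
theorem F269914 : act 2 n60474 = n59250 := d20_1 D60474 (iv D59250) (iv F264937)
def n60475 : Q := act 1 n59252
theorem D60475 : act 1 n59252 = n60475 := rfl
theorem F269915 : act 2 n60475 = n59464 := d9_2 D59252 D60475 (iv D59464) (iv D58270) (iv F260212)
theorem F269916 : act 3 n60475 = n59492 := d10_2 (iv F264946) D60475 (iv D59492)
theorem F269917 : act 5 n60475 = n59254 := d12_2 (iv F264947) D60475 (iv D59254)
theorem F269918 : act 6 n60475 = n59450 := d13_2 (iv F264948) D60475 (iv D59450)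
theorem F269919 : act 9 n60475 = n59494 := d16_2 (iv F264949) D60475 (iv D59494)
def n60476 : Q := act 4 n59252
theorem D60476 : act 4 n59252 = n60476 := rfl
theorem F269920 : act 0 n60476 = n59263 := d3_1 D60476 (iv D59263) (iv F264945)
theorem F269921 : act 2 n60476 = n59253 := d18_1 D60476 (iv D59253) D59252
theorem F269922 : act 6 n60476 = n59451 := d31_2 (iv F264948) D60476 (iv D59451)
theorem F269923 : act 9 n60476 = n59495 := d34_2 (iv F264949) D60476 (iv D59495)
def n60477 : Q := act 0 n59254
theorem D60477 : act 0 n59254 = n60477 := rfl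
theorem F269924 : act 1 n60477 = n59264 := d0_2 D59254 D60477 (iv D59264) (iv D58067) (iv F260216)
theorem F269925 : act 3 n60477 = n59493 := d2_2 (iv F264955) D60477 (iv D59493)
def n60478 : Q := act 1 n59255
theorem D60478 : act 1 n59255 = n60478 := rfl
theorem F269926 : act 2 n60478 = n59270 := d9_2 D59255 D60478 (iv D59270) (iv D58071) (iv F260218)
theorem F269927 : act 5 n60478 = n59259 := d12_2 (iv F264956) D60478 (iv D59259)
theorem F269928 : act 8 n60478 = n59262 := d15_2 (iv F264957) D60478 (iv D59262)
def n60479 : Q := act 4 n59255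
theorem D60479 : act 4 n59255 = n60479 := rfl
theorem F269929 : act 2 n60479 = n59256 := d18_1 D60479 (iv D59256) D59255
theorem F269930 : act 8 n60479 = n59263 := d33_2 (iv F264957) D60479 (iv D59263)
def n60480 : Q := act 1 n59257
theorem D60480 : act 1 n59257 = n60480 := rfl
theorem F269931 : act 2 n60480 = n59272 := d9_2 D59257 D60480 (iv D59272) (iv D58073) (iv F260221)
theorem F269932 : act 9 n60480 = n59259 := d16_2 (iv F264961) D60480 (iv D59259)
def n60481 : Q := act 4 n59257
theorem D60481 : act 4 n59257 = n60481 := rfl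
theorem F269933 : act 2 n60481 = n59258 := d18_1 D60481 (iv D59258) D59257
theorem F269934 : act 9 n60481 = n59260 := d34_2 (iv F264961) D60481 (iv D59260)
def n60482 : Q := act 0 n59259
theorem D60482 : act 0 n59259 = n60482 := rfl
theorem F269935 : act 2 n60482 = n59275 := d1_2 (iv F264965) D60482 (iv D59275)
theorem F269936 : act 8 n60482 = n59264 := d7_2 (iv F264966) D60482 (iv D59264)
def n60483 : Q := act 4 n59259
theorem D60483 : act 4 n59259 = n60483 := rfl
theorem F269937 : act 1 n60483 = n59260 := d11_1 D60483 (iv D59260) D59259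
theorem F269938 : act 2 n60483 = n59276 := d18_1 D60483 (iv D59276) (iv F264965)
theorem F269939 : act 8 n60483 = n59265 := d33_2 (iv F264966) D60483 (iv D59265)
def n60484 : Q := act 1 n59261
theorem D60484 : act 1 n59261 = n60484 := rfl
theorem F269940 : act 2 n60484 = n59280 := d9_2 D59261 D60484 (iv D59280) (iv D58079) (iv F260228)
theorem F269941 : act 3 n60484 = n59494 := d10_2 (iv F264970) D60484 (iv D59494)
theorem F269942 : act 5 n60484 = n59444 := d12_2 (iv F264971) D60484 (iv D59444)
theorem F269943 : act 6 n60484 = n59262 := d13_2 (iv F264972) D60484 (iv D59262)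
theorem F269944 : act 9 n60484 = n59492 := d16_2 (iv F264973) D60484 (iv D59492)
def n60485 : Q := act 0 n59262
theorem D60485 : act 0 n59262 = n60485 := rfl
theorem F269945 : act 2 n60485 = n59282 := d1_2 (iv F264974) D60485 (iv D59282)
theorem F269946 : act 3 n60485 = n59496 := d2_2 (iv F264975) D60485 (iv D59496)
theorem F269947 : act 5 n60485 = n59264 := d4_2 (iv F264976) D60485 (iv D59264)
def n60486 : Q := act 4 n59262
theorem D60486 : act 4 n59262 = n60486 := rfl
theorem F269948 : act 1 n60486 = n59263 := d11_1 D60486 (iv D59263) D59262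
theorem F269949 : act 2 n60486 = n59283 := d18_1 D60486 (iv D59283) (iv F264974)
def n60487 : Q := act 4 n59264
theorem D60487 : act 4 n59264 = n60487 := rfl
theorem F269950 : act 0 n60487 = n59265 := d3_1 D60487 (iv D59265) D59264
theorem F269951 : act 2 n60487 = n59284 := d18_1 D60487 (iv D59284) (iv F264978)
def n60488 : Q := act 1 n59266
theorem D60488 : act 1 n59266 = n60488 := rfl
theorem F269952 : act 3 n60488 = n59412 := d10_2 (iv F264983) D60488 (iv D59412)
theorem F269953 : act 5 n60488 = n59411 := d12_2 (iv F264984) D60488 (iv D59411)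
theorem F269954 : act 6 n60488 = n59270 := d13_2 (iv F264985) D60488 (iv D59270)
theorem F269955 : act 8 n60488 = n59280 := d15_2 (iv F264986) D60488 (iv D59280)
def n60489 : Q := act 4 n59266
theorem D60489 : act 4 n59266 = n60489 := rfl
theorem F269956 : act 0 n60489 = n59472 := d3_1 D60489 (iv D59472) (iv F264982)
theorem F269957 : act 2 n60489 = n59267 := d18_1 D60489 (iv D59267) D59266
theorem F269958 : act 6 n60489 = n59271 := d31_2 (iv F264985) D60489 (iv D59271)
theorem F269959 : act 8 n60489 = n59281 := d33_2 (iv F264986) D60489 (iv D59281)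
def n60490 : Q := act 1 n59268
theorem D60490 : act 1 n59268 = n60490 := rfl
theorem F269960 : act 5 n60490 = n59272 := d12_2 (iv F264991) D60490 (iv D59272)
theorem F269961 : act 9 n60490 = n59270 := d16_2 (iv F264992) D60490 (iv D59270)
def n60491 : Q := act 4 n59268
theorem D60491 : act 4 n59268 = n60491 := rfl
theorem F269962 : act 2 n60491 = n59269 := d18_1 D60491 (iv D59269) D59268
theorem F269963 : act 9 n60491 = n59271 := d34_2 (iv F264992) D60491 (iv D59271)
def n60492 : Q := act 0 n59270
theorem D60492 : act 0 n59270 = n60492 := rfl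
theorem F269964 : act 5 n60492 = n59275 := d4_2 (iv F264995) D60492 (iv D59275)
theorem F269965 : act 8 n60492 = n59282 := d7_2 (iv F264996) D60492 (iv D59282)
def n60493 : Q := act 4 n59270
theorem D60493 : act 4 n59270 = n60493 := rfl
theorem F269966 : act 1 n60493 = n59271 := d11_1 D60493 (iv D59271) D59270
theorem F269967 : act 8 n60493 = n59283 := d33_2 (iv F264996) D60493 (iv D59283)
def n60494 : Q := act 3 n59271
theorem D60494 : act 3 n59271 = n60494 := rfl
theorem F269968 : act 2 n60494 = n60494 := d17_1 D60494 (iv D60494) F264997 F260247 (iv F264997)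
def n60495 : Q := act 0 n59272
theorem D60495 : act 0 n59272 = n60495 := rfl
theorem F269969 : act 9 n60495 = n59275 := d8_2 (iv F264999) D60495 (iv D59275)
def n60496 : Q := act 4 n59272
theorem D60496 : act 4 n59272 = n60496 := rfl
theorem F269970 : act 1 n60496 = n59273 := d11_1 D60496 (iv D59273) D59272
theorem F269971 : act 9 n60496 = n59276 := d34_2 (iv F264999) D60496 (iv D59276)
def n60497 : Q := act 5 n59273
theorem D60497 : act 5 n59273 = n60497 := rfl
theorem F269972 : act 2 n60497 = n59274 := d19_1 D60497 (iv D59274) (iv F265000)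
theorem F269973 : act 9 n60497 = n59277 := d38_2 (iv F265001) D60497 (iv D59277)
def n60498 : Q := act 4 n59275
theorem D60498 : act 4 n59275 = n60498 := rfl
theorem F269974 : act 0 n60498 = n59276 := d3_1 D60498 (iv D59276) D59275
theorem F269975 : act 8 n60498 = n59284 := d33_2 (iv F265004) D60498 (iv D59284)
def n60499 : Q := act 5 n59276
theorem D60499 : act 5 n59276 = n60499 := rfl
theorem F269976 : act 1 n60499 = n59277 := d12_1 D60499 (iv D59277) (iv F265005)
theorem F269977 : act 8 n60499 = n59285 := d37_2 (iv F265006) D60499 (iv D59285)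
def n60500 : Q := act 1 n59278
theorem D60500 : act 1 n59278 = n60500 := rfl
theorem F269978 : act 3 n60500 = n59286 := d10_2 (iv F265009) D60500 (iv D59286)
theorem F269979 : act 7 n60500 = n59280 := d14_2 (iv F265010) D60500 (iv D59280)
def n60501 : Q := act 4 n59278
theorem D60501 : act 4 n59278 = n60501 := rfl
theorem F269980 : act 2 n60501 = n59279 := d18_1 D60501 (iv D59279) D59278
theorem F269981 : act 7 n60501 = n59281 := d32_2 (iv F265010) D60501 (iv D59281)
def n60502 : Q := act 0 n59280
theorem D60502 : act 0 n59280 = n60502 := rfl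
theorem F269982 : act 3 n60502 = n59287 := d2_2 (iv F265013) D60502 (iv D59287)
theorem F269983 : act 6 n60502 = n59282 := d5_2 (iv F265014) D60502 (iv D59282)
def n60503 : Q := act 4 n59280
theorem D60503 : act 4 n59280 = n60503 := rfl
theorem F269984 : act 1 n60503 = n59281 := d11_1 D60503 (iv D59281) D59280
theorem F269985 : act 6 n60503 = n59283 := d31_2 (iv F265014) D60503 (iv D59283)
def n60504 : Q := act 4 n59282
theorem D60504 : act 4 n59282 = n60504 := rfl
theorem F269986 : act 0 n60504 = n59283 := d3_1 D60504 (iv D59283) D59282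
def n60505 : Q := act 5 n59284
theorem D60505 : act 5 n59284 = n60505 := rfl
theorem F269987 : act 0 n60505 = n59285 := d4_1 D60505 (iv D59285) (iv F265020)
def n60506 : Q := act 0 n59286
theorem D60506 : act 0 n59286 = n60506 := rfl
theorem F269988 : act 2 n60506 = n59517 := d1_2 (iv F265022) D60506 (iv D59517)
theorem F269989 : act 7 n60506 = n59287 := d6_2 (iv F265023) D60506 (iv D59287)
def n60507 : Q := act 6 n59289
theorem D60507 : act 6 n59289 = n60507 := rfl
theorem F269990 : act 4 n60507 = n60507 := d31_1 D60507 (iv D60507) F265031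
theorem F269991 : act 8 n60507 = n60507 := d40_2 F265033 D60507 (iv D60507)
theorem F269992 : act 9 n60507 = n59290 := d41_2 (iv F265034) D60507 (iv D59290)
def n60508 : Q := act 0 n59291
theorem D60508 : act 0 n59291 = n60508 := rfl
theorem F269993 : act 1 n60508 = n59303 := d0_2 D59291 D60508 (iv D59303) (iv D58109) (iv F260305)
theorem F269994 : act 2 n60508 = n59328 := d1_2 (iv F265037) D60508 (iv D59328)
theorem F269995 : act 4 n60508 = n59326 := d3_2 (iv F265038) D60508 (iv D59326)
theorem F269996 : act 5 n60508 = n59304 := d4_2 (iv F265039) D60508 (iv D59304)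
theorem F269997 : act 7 n60508 = n59320 := d6_2 (iv F265040) D60508 (iv D59320)
theorem F269998 : act 8 n60508 = n59395 := d7_2 (iv F265041) D60508 (iv D59395)
theorem F269999 : act 9 n60508 = n59296 := d8_2 (iv F265042) D60508 (iv D59296)
def n60509 : Q := act 0 n59292
theorem D60509 : act 0 n59292 = n60509 := rfl
theorem F270000 : act 1 n60509 = n59304 := d0_2 D59292 D60509 (iv D59304) (iv D58110) (iv F260311)
theorem F270001 : act 2 n60509 = n59326 := d1_2 (iv F265043) D60509 (iv D59326)
theorem F270002 : act 4 n60509 = n59328 := d3_2 (iv F265044) D60509 (iv D59328)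
theorem F270003 : act 5 n60509 = n59303 := d4_2 (iv F265045) D60509 (iv D59303)
theorem F270004 : act 7 n60509 = n59296 := d6_2 (iv F265046) D60509 (iv D59296)
theorem F270005 : act 8 n60509 = n59372 := d7_2 (iv F265047) D60509 (iv D59372)
theorem F270006 : act 9 n60509 = n59320 := d8_2 (iv F265048) D60509 (iv D59320)
def n60510 : Q := act 0 n59293
theorem D60510 : act 0 n59293 = n60510 := rfl
theorem F270007 : act 1 n60510 = n59316 := d0_2 D59293 D60510 (iv D59316) (iv D58118) (iv F260317)
theorem F270008 : act 3 n60510 = n59296 := d2_2 (iv F265049) D60510 (iv D59296)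
def n60511 : Q := act 4 n59293
theorem D60511 : act 4 n59293 = n60511 := rfl
theorem F270009 : act 1 n60511 = n59294 := d11_1 D60511 (iv D59294) D59293
theorem F270010 : act 3 n60511 = n59330 := d24_1 D60511 (iv D59330) F260395 (iv F260325) (iv F265049)
def n60512 : Q := act 5 n59294
theorem D60512 : act 5 n59294 = n60512 := rfl
theorem F270011 : act 0 n60512 = n59318 := d4_1 D60512 (iv D59318) (iv F265050)
theorem F270012 : act 2 n60512 = n59295 := d19_1 D60512 (iv D59295) (iv F265051)
theorem F270013 : act 3 n60512 = n59331 := d25_1 D60512 (iv D59331) (iv F265052)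
def n60513 : Q := act 2 n59297
theorem D60513 : act 2 n59297 = n60513 := rfl
theorem F270014 : act 6 n60513 = n59388 := d20_2 (iv F265058) D60513 (iv D59388)
theorem F270015 : act 8 n60513 = n59308 := d22_2 (iv F265059) D60513 (iv D59308)
theorem F270016 : act 9 n60513 = n59298 := d23_2 (iv F265060) D60513 (iv D59298)
def n60514 : Q := act 4 n59297
theorem D60514 : act 4 n59297 = n60514 := rfl
theorem F270017 : act 3 n60514 = n60514 := d24_1 D60514 (iv D60514) (iv D59297) F260327 D59297
theorem F270018 : act 6 n60514 = n59389 := d31_2 (iv F265058) D60514 (iv D59389)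
theorem F270019 : act 8 n60514 = n59309 := d33_2 (iv F265059) D60514 (iv D59309)
theorem F270020 : act 9 n60514 = n59299 := d34_2 (iv F265060) D60514 (iv D59299)
def n60515 : Q := act 1 n59298
theorem D60515 : act 1 n59298 = n60515 := rfl
theorem F270021 : act 8 n60515 = n59300 := d15_2 (iv F265061) D60515 (iv D59300)
def n60516 : Q := act 4 n59298
theorem D60516 : act 4 n59298 = n60516 := rfl
theorem F270022 : act 2 n60516 = n59299 := d18_1 D60516 (iv D59299) D59298
theorem F270023 : act 8 n60516 = n59301 := d33_2 (iv F265061) D60516 (iv D59301)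
def n60517 : Q := act 5 n59299
theorem D60517 : act 5 n59299 = n60517 := rfl
theorem F270024 : act 3 n60517 = n60517 := d25_1 D60517 (iv D60517) F265062
theorem F270025 : act 8 n60517 = n59302 := d37_2 (iv F265063) D60517 (iv D59302)
def n60518 : Q := act 0 n59300
theorem D60518 : act 0 n59300 = n60518 := rfl
theorem F270026 : act 3 n60518 = n59303 := d2_2 (iv F265064) D60518 (iv D59303)
theorem F270027 : act 9 n60518 = n59316 := d8_2 (iv F265065) D60518 (iv D59316)
def n60519 : Q := act 4 n59300
theorem D60519 : act 4 n59300 = n60519 := rfl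
theorem F270028 : act 1 n60519 = n59301 := d11_1 D60519 (iv D59301) D59300
theorem F270029 : act 3 n60519 = n59339 := d24_1 D60519 (iv D59339) F260415 (iv F260339) (iv F265064)
theorem F270030 : act 9 n60519 = n59317 := d34_2 (iv F265065) D60519 (iv D59317)
def n60520 : Q := act 5 n59301
theorem D60520 : act 5 n59301 = n60520 := rfl
theorem F270031 : act 2 n60520 = n59302 := d19_1 D60520 (iv D59302) (iv F265066)
theorem F270032 : act 3 n60520 = n59340 := d25_1 D60520 (iv D59340) (iv F265067)
theorem F270033 : act 9 n60520 = n59318 := d38_2 (iv F265068) D60520 (iv D59318)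
def n60521 : Q := act 2 n59305
theorem D60521 : act 2 n59305 = n60521 := rfl
theorem F270034 : act 3 n60521 = n59380 := d17_2 D59305 D60521 (iv D59380) (iv D58189) (iv F260344)
theorem F270035 : act 5 n60521 = n59308 := d19_2 (iv F265076) D60521 (iv D59308)
theorem F270036 : act 6 n60521 = n59377 := d20_2 (iv F265077) D60521 (iv D59377)
theorem F270037 : act 9 n60521 = n59306 := d23_2 (iv F265078) D60521 (iv D59306)
def n60522 : Q := act 4 n59305
theorem D60522 : act 4 n59305 = n60522 := rfl
theorem F270038 : act 3 n60522 = n60522 := d24_1 D60522 (iv D60522) (iv D59305) F260345 D59305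
theorem F270039 : act 6 n60522 = n59378 := d31_2 (iv F265077) D60522 (iv D59378)
theorem F270040 : act 9 n60522 = n59307 := d34_2 (iv F265078) D60522 (iv D59307)
def n60523 : Q := act 1 n59306
theorem D60523 : act 1 n59306 = n60523 := rfl
theorem F270041 : act 3 n60523 = n59402 := d10_2 (iv F265079) D60523 (iv D59402)
theorem F270042 : act 5 n60523 = n59310 := d12_2 (iv F265080) D60523 (iv D59310)
theorem F270043 : act 8 n60523 = n59313 := d15_2 (iv F265081) D60523 (iv D59313)
def n60524 : Q := act 4 n59306
theorem D60524 : act 4 n59306 = n60524 := rfl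
theorem F270044 : act 2 n60524 = n59307 := d18_1 D60524 (iv D59307) D59306
theorem F270045 : act 8 n60524 = n59314 := d33_2 (iv F265081) D60524 (iv D59314)
def n60525 : Q := act 5 n59307
theorem D60525 : act 5 n59307 = n60525 := rfl
theorem F270046 : act 3 n60525 = n60525 := d25_1 D60525 (iv D60525) F265082
theorem F270047 : act 4 n60525 = n59312 := d30_1 D60525 (iv D59312) (iv D58115) (iv F260349) D59307
theorem F270048 : act 8 n60525 = n59315 := d37_2 (iv F265083) D60525 (iv D59315)
def n60526 : Q := act 1 n59308
theorem D60526 : act 1 n59308 = n60526 := rfl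
theorem F270049 : act 3 n60526 = n59394 := d10_2 (iv F265084) D60526 (iv D59394)
theorem F270050 : act 6 n60526 = n59391 := d13_2 (iv F265085) D60526 (iv D59391)
theorem F270051 : act 9 n60526 = n59310 := d16_2 (iv F265086) D60526 (iv D59310)
def n60527 : Q := act 4 n59308
theorem D60527 : act 4 n59308 = n60527 := rfl
theorem F270052 : act 2 n60527 = n59309 := d18_1 D60527 (iv D59309) D59308
theorem F270053 : act 6 n60527 = n59392 := d31_2 (iv F265085) D60527 (iv D59392)
theorem F270054 : act 9 n60527 = n59311 := d34_2 (iv F265086) D60527 (iv D59311)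
def n60528 : Q := act 5 n59309
theorem D60528 : act 5 n59309 = n60528 := rfl
theorem F270055 : act 3 n60528 = n59321 := d25_1 D60528 (iv D59321) (iv F265087)
theorem F270056 : act 9 n60528 = n59312 := d38_2 (iv F265089) D60528 (iv D59312)
def n60529 : Q := act 0 n59310
theorem D60529 : act 0 n59310 = n60529 := rfl
theorem F270057 : act 3 n60529 = n59404 := d2_2 (iv F265090) D60529 (iv D59404)
theorem F270058 : act 8 n60529 = n59316 := d7_2 (iv F265091) D60529 (iv D59316)
def n60530 : Q := act 4 n59310
theorem D60530 : act 4 n59310 = n60530 := rfl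
theorem F270059 : act 1 n60530 = n59311 := d11_1 D60530 (iv D59311) D59310
theorem F270060 : act 8 n60530 = n59317 := d33_2 (iv F265091) D60530 (iv D59317)
def n60531 : Q := act 5 n59311
theorem D60531 : act 5 n59311 = n60531 := rfl
theorem F270061 : act 2 n60531 = n59312 := d19_1 D60531 (iv D59312) (iv F265092)
theorem F270062 : act 8 n60531 = n59318 := d37_2 (iv F265093) D60531 (iv D59318)
def n60532 : Q := act 0 n59313
theorem D60532 : act 0 n59313 = n60532 := rfl
theorem F270063 : act 3 n60532 = n59320 := d2_2 (iv F265096) D60532 (iv D59320)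
theorem F270064 : act 5 n60532 = n59316 := d4_2 (iv F265097) D60532 (iv D59316)
def n60533 : Q := act 4 n59313
theorem D60533 : act 4 n59313 = n60533 := rfl
theorem F270065 : act 1 n60533 = n59314 := d11_1 D60533 (iv D59314) D59313
def n60534 : Q := act 5 n59314
theorem D60534 : act 5 n59314 = n60534 := rfl
theorem F270066 : act 2 n60534 = n59315 := d19_1 D60534 (iv D59315) (iv F265098)
theorem F270067 : act 4 n60534 = n59318 := d30_1 D60534 (iv D59318) (iv D58119) (iv F260358) D59314
def n60535 : Q := act 4 n59316
theorem D60535 : act 4 n59316 = n60535 := rfl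
theorem F270068 : act 0 n60535 = n59317 := d3_1 D60535 (iv D59317) D59316
theorem F270069 : act 3 n60535 = n59365 := d24_1 D60535 (iv D59365) F260468 (iv F260370) (iv F265101)
def n60536 : Q := act 5 n59317
theorem D60536 : act 5 n59317 = n60536 := rfl
theorem F270070 : act 1 n60536 = n59318 := d12_1 D60536 (iv D59318) (iv F265102)
theorem F270071 : act 3 n60536 = n59366 := d25_1 D60536 (iv D59366) (iv F265103)
def n60537 : Q := act 6 n59318
theorem D60537 : act 6 n59318 = n60537 := rfl
theorem F270072 : act 2 n60537 = n59319 := d20_1 D60537 (iv D59319) (iv F265104)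
theorem F270073 : act 3 n60537 = n59367 := d26_1 D60537 (iv D59367) (iv F265105)
def n60538 : Q := act 1 n59322
theorem D60538 : act 1 n59322 = n60538 := rfl
theorem F270074 : act 5 n60538 = n59490 := d12_2 (iv F265114) D60538 (iv D59490)
theorem F270075 : act 7 n60538 = n59474 := d14_2 (iv F265115) D60538 (iv D59474)
theorem F270076 : act 8 n60538 = n59324 := d15_2 (iv F265116) D60538 (iv D59324)
def n60539 : Q := act 4 n59322
theorem D60539 : act 4 n59322 = n60539 := rfl
theorem F270077 : act 0 n60539 = n59337 := d3_1 D60539 (iv D59337) (iv F265113)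
theorem F270078 : act 2 n60539 = n59323 := d18_1 D60539 (iv D59323) D59322
theorem F270079 : act 7 n60539 = n59475 := d32_2 (iv F265115) D60539 (iv D59475)
theorem F270080 : act 8 n60539 = n59325 := d33_2 (iv F265116) D60539 (iv D59325)
def n60540 : Q := act 0 n59324
theorem D60540 : act 0 n59324 = n60540 := rfl
theorem F270081 : act 1 n60540 = n59338 := d0_2 D59324 D60540 (iv D59338) (iv D58143) (iv F260383)
theorem F270082 : act 3 n60540 = n59326 := d2_2 (iv F265121) D60540 (iv D59326)
theorem F270083 : act 9 n60540 = n59329 := d8_2 (iv F265122) D60540 (iv D59329)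
def n60541 : Q := act 4 n59324
theorem D60541 : act 4 n59324 = n60541 := rfl
theorem F270084 : act 1 n60541 = n59325 := d11_1 D60541 (iv D59325) D59324
theorem F270085 : act 9 n60541 = n59330 := d34_2 (iv F265122) D60541 (iv D59330)
def n60542 : Q := act 0 n59327
theorem D60542 : act 0 n59327 = n60542 := rfl
theorem F270086 : act 1 n60542 = n59345 := d0_2 D59327 D60542 (iv D59345) (iv D58151) (iv F260390)
theorem F270087 : act 6 n60542 = n59328 := d5_2 (iv F265128) D60542 (iv D59328)
theorem F270088 : act 8 n60542 = n59414 := d7_2 (iv F265129) D60542 (iv D59414)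
def n60543 : Q := act 4 n59329
theorem D60543 : act 4 n59329 = n60543 := rfl
theorem F270089 : act 0 n60543 = n59330 := d3_1 D60543 (iv D59330) D59329
theorem F270090 : act 1 n60543 = n59365 := d11_1 D60543 (iv D59365) (iv F265133)
def n60544 : Q := act 5 n59330
theorem D60544 : act 5 n59330 = n60544 := rfl
theorem F270091 : act 1 n60544 = n59331 := d12_1 D60544 (iv D59331) (iv F265135)
def n60545 : Q := act 0 n59332
theorem D60545 : act 0 n59332 = n60545 := rfl
theorem F270092 : act 2 n60545 = n59338 := d1_2 (iv F265138) D60545 (iv D59338)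
theorem F270093 : act 9 n60545 = n59355 := d8_2 (iv F265139) D60545 (iv D59355)
def n60546 : Q := act 4 n59332
theorem D60546 : act 4 n59332 = n60546 := rfl
theorem F270094 : act 1 n60546 = n59333 := d11_1 D60546 (iv D59333) D59332
theorem F270095 : act 2 n60546 = n59339 := d18_1 D60546 (iv D59339) (iv F265138)
theorem F270096 : act 9 n60546 = n59356 := d34_2 (iv F265139) D60546 (iv D59356)
def n60547 : Q := act 1 n59334
theorem D60547 : act 1 n59334 = n60547 := rfl
theorem F270097 : act 8 n60547 = n59358 := d15_2 (iv F265142) D60547 (iv D59358)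
theorem F270098 : act 9 n60547 = n59336 := d16_2 (iv F265143) D60547 (iv D59336)
def n60548 : Q := act 4 n59334
theorem D60548 : act 4 n59334 = n60548 := rfl
theorem F270099 : act 2 n60548 = n59335 := d18_1 D60548 (iv D59335) D59334
theorem F270100 : act 8 n60548 = n59359 := d33_2 (iv F265142) D60548 (iv D59359)
theorem F270101 : act 9 n60548 = n59337 := d34_2 (iv F265143) D60548 (iv D59337)
def n60549 : Q := act 0 n59336
theorem D60549 : act 0 n59336 = n60549 := rfl
theorem F270102 : act 8 n60549 = n59338 := d7_2 (iv F265147) D60549 (iv D59338)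
def n60550 : Q := act 4 n59336
theorem D60550 : act 4 n59336 = n60550 := rfl
theorem F270103 : act 1 n60550 = n59337 := d11_1 D60550 (iv D59337) D59336
theorem F270104 : act 8 n60550 = n59339 := d33_2 (iv F265147) D60550 (iv D59339)
def n60551 : Q := act 3 n59337
theorem D60551 : act 3 n59337 = n60551 := rfl
theorem F270105 : act 2 n60551 = n60551 := d17_1 D60551 (iv D60551) F265148 F260413 (iv F265148)
def n60552 : Q := act 4 n59338
theorem D60552 : act 4 n59338 = n60552 := rfl
theorem F270106 : act 0 n60552 = n59339 := d3_1 D60552 (iv D59339) D59338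
theorem F270107 : act 9 n60552 = n59365 := d34_2 (iv F265151) D60552 (iv D59365)
def n60553 : Q := act 5 n59339
theorem D60553 : act 5 n59339 = n60553 := rfl
theorem F270108 : act 1 n60553 = n59340 := d12_1 D60553 (iv D59340) (iv F265152)
theorem F270109 : act 9 n60553 = n59366 := d38_2 (iv F265153) D60553 (iv D59366)
def n60554 : Q := act 0 n59341
theorem D60554 : act 0 n59341 = n60554 := rfl
theorem F270110 : act 3 n60554 = n59345 := d2_2 (iv F265156) D60554 (iv D59345)
theorem F270111 : act 6 n60554 = n59348 := d5_2 (iv F265157) D60554 (iv D59348)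
def n60555 : Q := act 4 n59341
theorem D60555 : act 4 n59341 = n60555 := rfl
theorem F270112 : act 1 n60555 = n59342 := d11_1 D60555 (iv D59342) D59341
theorem F270113 : act 3 n60555 = n59356 := d24_1 D60555 (iv D59356) (iv F264474) F264475 (iv F265156)
theorem F270114 : act 6 n60555 = n59349 := d31_2 (iv F265157) D60555 (iv D59349)
def n60556 : Q := act 0 n59343
theorem D60556 : act 0 n59343 = n60556 := rfl
theorem F270115 : act 5 n60556 = n59345 := d4_2 (iv F265161) D60556 (iv D59345)
theorem F270116 : act 8 n60556 = n59476 := d7_2 (iv F265162) D60556 (iv D59476)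
def n60557 : Q := act 4 n59343
theorem D60557 : act 4 n59343 = n60557 := rfl
theorem F270117 : act 1 n60557 = n59344 := d11_1 D60557 (iv D59344) D59343
theorem F270118 : act 8 n60557 = n59477 := d33_2 (iv F265162) D60557 (iv D59477)
def n60558 : Q := act 0 n59346
theorem D60558 : act 0 n59346 = n60558 := rfl
theorem F270119 : act 2 n60558 = n59348 := d1_2 (iv F265167) D60558 (iv D59348)
theorem F270120 : act 7 n60558 = n59355 := d6_2 (iv F265168) D60558 (iv D59355)
def n60559 : Q := act 4 n59346
theorem D60559 : act 4 n59346 = n60559 := rfl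
theorem F270121 : act 1 n60559 = n59347 := d11_1 D60559 (iv D59347) D59346
theorem F270122 : act 2 n60559 = n59349 := d18_1 D60559 (iv D59349) (iv F265167)
theorem F270123 : act 7 n60559 = n59356 := d32_2 (iv F265168) D60559 (iv D59356)
def n60560 : Q := act 4 n59348
theorem D60560 : act 4 n59348 = n60560 := rfl
theorem F270124 : act 0 n60560 = n59349 := d3_1 D60560 (iv D59349) D59348
theorem F270125 : act 7 n60560 = n59365 := d32_2 (iv F265172) D60560 (iv D59365)
def n60561 : Q := act 0 n59350
theorem D60561 : act 0 n59350 = n60561 := rfl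
theorem F270126 : act 1 n60561 = n59355 := d0_2 D59350 D60561 (iv D59355) (iv D58162) (iv F260441)
def n60562 : Q := act 4 n59350
theorem D60562 : act 4 n59350 = n60562 := rfl
theorem F270127 : act 1 n60562 = n59351 := d11_1 D60562 (iv D59351) D59350
def n60563 : Q := act 0 n59352
theorem D60563 : act 0 n59352 = n60563 := rfl
theorem F270128 : act 2 n60563 = n59360 := d1_2 (iv F265177) D60563 (iv D59360)
theorem F270129 : act 8 n60563 = n59355 := d7_2 (iv F265178) D60563 (iv D59355)
def n60564 : Q := act 4 n59352
theorem D60564 : act 4 n59352 = n60564 := rfl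
theorem F270130 : act 1 n60564 = n59353 := d11_1 D60564 (iv D59353) D59352
theorem F270131 : act 2 n60564 = n59361 := d18_1 D60564 (iv D59361) (iv F265177)
theorem F270132 : act 8 n60564 = n59356 := d33_2 (iv F265178) D60564 (iv D59356)
def n60565 : Q := act 0 n59354
theorem D60565 : act 0 n59354 = n60565 := rfl
theorem F270133 : act 2 n60565 = n59363 := d1_2 (iv F265181) D60565 (iv D59363)
theorem F270134 : act 5 n60565 = n59355 := d4_2 (iv F265182) D60565 (iv D59355)
def n60566 : Q := act 4 n59355
theorem D60566 : act 4 n59355 = n60566 := rfl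
theorem F270135 : act 0 n60566 = n59356 := d3_1 D60566 (iv D59356) D59355
theorem F270136 : act 2 n60566 = n59365 := d18_1 D60566 (iv D59365) (iv F265183)
def n60567 : Q := act 5 n59356
theorem D60567 : act 5 n59356 = n60567 := rfl
theorem F270137 : act 1 n60567 = n59357 := d12_1 D60567 (iv D59357) (iv F265184)
theorem F270138 : act 2 n60567 = n59366 := d19_1 D60567 (iv D59366) (iv F265185)
def n60568 : Q := act 0 n59358
theorem D60568 : act 0 n59358 = n60568 := rfl
theorem F270139 : act 3 n60568 = n59509 := d2_2 (iv F265187) D60568 (iv D59509)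
theorem F270140 : act 9 n60568 = n59360 := d8_2 (iv F265188) D60568 (iv D59360)
def n60569 : Q := act 4 n59358
theorem D60569 : act 4 n59358 = n60569 := rfl
theorem F270141 : act 1 n60569 = n59359 := d11_1 D60569 (iv D59359) D59358
theorem F270142 : act 9 n60569 = n59361 := d34_2 (iv F265188) D60569 (iv D59361)
def n60570 : Q := act 4 n59360
theorem D60570 : act 4 n59360 = n60570 := rfl
theorem F270143 : act 0 n60570 = n59361 := d3_1 D60570 (iv D59361) D59360
theorem F270144 : act 8 n60570 = n59365 := d33_2 (iv F265192) D60570 (iv D59365)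
def n60571 : Q := act 0 n59362
theorem D60571 : act 0 n59362 = n60571 := rfl
theorem F270145 : act 3 n60571 = n59368 := d2_2 (iv F265195) D60571 (iv D59368)
theorem F270146 : act 6 n60571 = n59363 := d5_2 (iv F265196) D60571 (iv D59363)
def n60572 : Q := act 4 n59363
theorem D60572 : act 4 n59363 = n60572 := rfl
theorem F270147 : act 0 n60572 = n59364 := d3_1 D60572 (iv D59364) D59363
theorem F270148 : act 7 n60572 = n59368 := d32_2 F265633 D60572 (iv F265630)
theorem F270149 : act 8 n60572 = n59517 := d33_2 F266414 D60572 (iv F266411)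
def n60573 : Q := act 5 n59365
theorem D60573 : act 5 n59365 = n60573 := rfl
theorem F270150 : act 0 n60573 = n59366 := d4_1 D60573 (iv D59366) (iv F265202)
def n60574 : Q := act 6 n59366
theorem D60574 : act 6 n59366 = n60574 := rfl
theorem F270151 : act 1 n60574 = n59367 := d13_1 D60574 (iv D59367) (iv F265203)
def n60575 : Q := act 1 n59369
theorem D60575 : act 1 n59369 = n60575 := rfl
theorem F270152 : act 5 n60575 = n59371 := d12_2 (iv F265208) D60575 (iv D59371)
def n60576 : Q := act 4 n59369
theorem D60576 : act 4 n59369 = n60576 := rfl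
theorem F270153 : act 0 n60576 = n59383 := d3_1 D60576 (iv D59383) (iv F265207)
theorem F270154 : act 2 n60576 = n59370 := d18_1 D60576 (iv D59370) D59369
theorem F270155 : act 5 n60576 = n59413 := d30_2 (iv F265208) D60576 (iv D59413) F260574 (iv F260479)
def n60577 : Q := act 0 n59371
theorem D60577 : act 0 n59371 = n60577 := rfl
theorem F270156 : act 1 n60577 = n59384 := d0_2 D59371 D60577 (iv D59384) (iv D58192) (iv F260478)
theorem F270157 : act 4 n60577 = n59414 := d3_2 (iv F265212) D60577 (iv D59414)
theorem F270158 : act 6 n60577 = n59372 := d5_2 (iv F265213) D60577 (iv D59372)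
def n60578 : Q := act 0 n59374
theorem D60578 : act 0 n59374 = n60578 := rfl
theorem F270159 : act 4 n60578 = n59440 := d3_2 (iv F265219) D60578 (iv D59440)
theorem F270160 : act 6 n60578 = n59375 := d5_2 (iv F265220) D60578 (iv D59375)
theorem F270161 : act 9 n60578 = n59384 := d8_2 (iv F265221) D60578 (iv D59384)
def n60579 : Q := act 1 n59377
theorem D60579 : act 1 n59377 = n60579 := rfl
theorem F270162 : act 3 n60579 = n59382 := d10_2 (iv F265228) D60579 (iv D59382)
theorem F270163 : act 5 n60579 = n59379 := d12_2 (iv F265229) D60579 (iv D59379)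
def n60580 : Q := act 4 n59377
theorem D60580 : act 4 n59377 = n60580 := rfl
theorem F270164 : act 2 n60580 = n59378 := d18_1 D60580 (iv D59378) D59377
def n60581 : Q := act 0 n59379
theorem D60581 : act 0 n59379 = n60581 := rfl
theorem F270165 : act 3 n60581 = n59384 := d2_2 (iv F265231) D60581 (iv D59384)
theorem F270166 : act 6 n60581 = n59393 := d5_2 (iv F265232) D60581 (iv D59393)
def n60582 : Q := act 1 n59380
theorem D60582 : act 1 n59380 = n60582 := rfl
theorem F270167 : act 2 n60582 = n59412 := d9_2 D59380 D60582 (iv D59412) (iv D58222) (iv F260501)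
theorem F270168 : act 5 n60582 = n59394 := d12_2 (iv F265233) D60582 (iv D59394)
theorem F270169 : act 6 n60582 = n59382 := d13_2 (iv F265234) D60582 (iv D59382)
theorem F270170 : act 9 n60582 = n59402 := d16_2 (iv F265235) D60582 (iv D59402)
def n60583 : Q := act 4 n59380
theorem D60583 : act 4 n59380 = n60583 := rfl
theorem F270171 : act 2 n60583 = n59381 := d18_1 D60583 (iv D59381) D59380
theorem F270172 : act 6 n60583 = n59383 := d31_2 (iv F265234) D60583 (iv D59383)
theorem F270173 : act 9 n60583 = n59403 := d34_2 (iv F265235) D60583 (iv D59403)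
def n60584 : Q := act 0 n59382
theorem D60584 : act 0 n59382 = n60584 := rfl
theorem F270174 : act 5 n60584 = n59384 := d4_2 (iv F265240) D60584 (iv D59384)
def n60585 : Q := act 4 n59382
theorem D60585 : act 4 n59382 = n60585 := rfl
theorem F270175 : act 1 n60585 = n59383 := d11_1 D60585 (iv D59383) D59382
theorem F270176 : act 5 n60585 = n59477 := d30_2 (iv F265240) D60585 (iv D59477) F260699 (iv F260508)
def n60586 : Q := act 3 n59383
theorem D60586 : act 3 n59383 = n60586 := rfl
theorem F270177 : act 2 n60586 = n60586 := d17_1 D60586 (iv D60586) F265241 F260506 (iv F265241)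
theorem F270178 : act 5 n60586 = n59478 := d25_2 (iv F265242) D60586 (iv D59478)
def n60587 : Q := act 1 n59385
theorem D60587 : act 1 n59385 = n60587 := rfl
theorem F270179 : act 2 n60587 = n59391 := d9_2 D59385 D60587 (iv D59391) (iv D58197) (iv F260510)
theorem F270180 : act 3 n60587 = n59415 := d10_2 (iv F265245) D60587 (iv D59415)
theorem F270181 : act 5 n60587 = n59387 := d12_2 (iv F265246) D60587 (iv D59387)
theorem F270182 : act 7 n60587 = n59399 := d14_2 (iv F265247) D60587 (iv D59399)
def n60588 : Q := act 4 n59385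
theorem D60588 : act 4 n59385 = n60588 := rfl
theorem F270183 : act 2 n60588 = n59386 := d18_1 D60588 (iv D59386) D59385
theorem F270184 : act 7 n60588 = n59400 := d32_2 (iv F265247) D60588 (iv D59400)
def n60589 : Q := act 0 n59387
theorem D60589 : act 0 n59387 = n60589 := rfl
theorem F270185 : act 2 n60589 = n59393 := d1_2 (iv F265251) D60589 (iv D59393)
theorem F270186 : act 7 n60589 = n59401 := d6_2 (iv F265252) D60589 (iv D59401)
def n60590 : Q := act 1 n59388
theorem D60590 : act 1 n59388 = n60590 := rfl
theorem F270187 : act 5 n60590 = n59390 := d12_2 (iv F265253) D60590 (iv D59390)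
theorem F270188 : act 7 n60590 = n59402 := d14_2 (iv F265254) D60590 (iv D59402)
theorem F270189 : act 8 n60590 = n59391 := d15_2 (iv F265255) D60590 (iv D59391)
def n60591 : Q := act 4 n59388
theorem D60591 : act 4 n59388 = n60591 := rfl
theorem F270190 : act 2 n60591 = n59389 := d18_1 D60591 (iv D59389) D59388
theorem F270191 : act 7 n60591 = n59403 := d32_2 (iv F265254) D60591 (iv D59403)
theorem F270192 : act 8 n60591 = n59392 := d33_2 (iv F265255) D60591 (iv D59392)
def n60592 : Q := act 0 n59390
theorem D60592 : act 0 n59390 = n60592 := rfl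
theorem F270193 : act 7 n60592 = n59404 := d6_2 (iv F265259) D60592 (iv D59404)
theorem F270194 : act 8 n60592 = n59393 := d7_2 (iv F265260) D60592 (iv D59393)
def n60593 : Q := act 0 n59391
theorem D60593 : act 0 n59391 = n60593 := rfl
theorem F270195 : act 3 n60593 = n59395 := d2_2 (iv F265261) D60593 (iv D59395)
theorem F270196 : act 5 n60593 = n59393 := d4_2 (iv F265262) D60593 (iv D59393)
theorem F270197 : act 7 n60593 = n59405 := d6_2 (iv F265263) D60593 (iv D59405)
def n60594 : Q := act 4 n59391
theorem D60594 : act 4 n59391 = n60594 := rfl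
theorem F270198 : act 1 n60594 = n59392 := d11_1 D60594 (iv D59392) D59391
theorem F270199 : act 7 n60594 = n59406 := d32_2 (iv F265263) D60594 (iv D59406)
def n60595 : Q := act 0 n59394
theorem D60595 : act 0 n59394 = n60595 := rfl
theorem F270200 : act 2 n60595 = n59414 := d1_2 (iv F265268) D60595 (iv D59414)
theorem F270201 : act 6 n60595 = n59395 := d5_2 (iv F265269) D60595 (iv D59395)
theorem F270202 : act 9 n60595 = n59404 := d8_2 (iv F265270) D60595 (iv D59404)
def n60596 : Q := act 1 n59396
theorem D60596 : act 1 n59396 = n60596 := rfl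
theorem F270203 : act 2 n60596 = n59402 := d9_2 D59396 D60596 (iv D59402) (iv D58208) (iv F260534)
theorem F270204 : act 5 n60596 = n59398 := d12_2 (iv F265275) D60596 (iv D59398)
theorem F270205 : act 8 n60596 = n59399 := d15_2 (iv F265276) D60596 (iv D59399)
theorem F270206 : act 9 n60596 = n59412 := d16_2 (iv F265277) D60596 (iv D59412)
def n60597 : Q := act 4 n59396
theorem D60597 : act 4 n59396 = n60597 := rfl
theorem F270207 : act 0 n60597 = n59439 := d3_1 D60597 (iv D59439) (iv F265274)
theorem F270208 : act 2 n60597 = n59397 := d18_1 D60597 (iv D59397) D59396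
theorem F270209 : act 8 n60597 = n59400 := d33_2 (iv F265276) D60597 (iv D59400)
theorem F270210 : act 9 n60597 = n59413 := d34_2 (iv F265277) D60597 (iv D59413)
def n60598 : Q := act 0 n59398
theorem D60598 : act 0 n59398 = n60598 := rfl
theorem F270211 : act 1 n60598 = n59440 := d0_2 D59398 D60598 (iv D59440) (iv D58250) (iv F260538)
theorem F270212 : act 2 n60598 = n59404 := d1_2 (iv F265283) D60598 (iv D59404)
theorem F270213 : act 6 n60598 = n59410 := d5_2 (iv F265284) D60598 (iv D59410)
theorem F270214 : act 8 n60598 = n59401 := d7_2 (iv F265285) D60598 (iv D59401)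
theorem F270215 : act 9 n60598 = n59414 := d8_2 (iv F265286) D60598 (iv D59414)
def n60599 : Q := act 0 n59399
theorem D60599 : act 0 n59399 = n60599 := rfl
theorem F270216 : act 2 n60599 = n59405 := d1_2 (iv F265287) D60599 (iv D59405)
theorem F270217 : act 3 n60599 = n59419 := d2_2 (iv F265288) D60599 (iv D59419)
theorem F270218 : act 5 n60599 = n59401 := d4_2 (iv F265289) D60599 (iv D59401)
def n60600 : Q := act 4 n59399
theorem D60600 : act 4 n59399 = n60600 := rfl
theorem F270219 : act 1 n60600 = n59400 := d11_1 D60600 (iv D59400) D59399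
theorem F270220 : act 2 n60600 = n59406 := d18_1 D60600 (iv D59406) (iv F265287)
def n60601 : Q := act 0 n59402
theorem D60601 : act 0 n59402 = n60601 := rfl
theorem F270221 : act 5 n60601 = n59404 := d4_2 (iv F265292) D60601 (iv D59404)
theorem F270222 : act 8 n60601 = n59405 := d7_2 (iv F265293) D60601 (iv D59405)
def n60602 : Q := act 4 n59402
theorem D60602 : act 4 n59402 = n60602 := rfl
theorem F270223 : act 1 n60602 = n59403 := d11_1 D60602 (iv D59403) D59402
theorem F270224 : act 8 n60602 = n59406 := d33_2 (iv F265293) D60602 (iv D59406)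
def n60603 : Q := act 3 n59403
theorem D60603 : act 3 n59403 = n60603 := rfl
theorem F270225 : act 2 n60603 = n60603 := d17_1 D60603 (iv D60603) F265294 F260549 (iv F265294)
def n60604 : Q := act 4 n59405
theorem D60604 : act 4 n59405 = n60604 := rfl
theorem F270226 : act 0 n60604 = n59406 := d3_1 D60604 (iv D59406) D59405
def n60605 : Q := act 0 n59407
theorem D60605 : act 0 n59407 = n60605 := rfl
theorem F270227 : act 1 n60605 = n59433 := d0_2 D59407 D60605 (iv D59433) (iv D58243) (iv F260561)
theorem F270228 : act 3 n60605 = n59409 := d2_2 (iv F265300) D60605 (iv D59409)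
def n60606 : Q := act 4 n59407
theorem D60606 : act 4 n59407 = n60606 := rfl
theorem F270229 : act 1 n60606 = n59408 := d11_1 D60606 (iv D59408) D59407
def n60607 : Q := act 0 n59411
theorem D60607 : act 0 n59411 = n60607 := rfl
theorem F270230 : act 1 n60607 = n59473 := d0_2 D59411 D60607 (iv D59473) (iv D58282) (iv F260570)
theorem F270231 : act 3 n60607 = n59414 := d2_2 (iv F265308) D60607 (iv D59414)
theorem F270232 : act 6 n60607 = n59416 := d5_2 (iv F265309) D60607 (iv D59416)
def n60608 : Q := act 0 n59412
theorem D60608 : act 0 n59412 = n60608 := rfl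
theorem F270233 : act 1 n60608 = n59476 := d0_2 D59412 D60608 (iv D59476) (iv D58285) (iv F260573)
theorem F270234 : act 5 n60608 = n59414 := d4_2 (iv F265310) D60608 (iv D59414)
def n60609 : Q := act 4 n59412
theorem D60609 : act 4 n59412 = n60609 := rfl
theorem F270235 : act 1 n60609 = n59413 := d11_1 D60609 (iv D59413) D59412
def n60610 : Q := act 3 n59413
theorem D60610 : act 3 n59413 = n60610 := rfl
theorem F270236 : act 0 n60610 = n59478 := d2_1 D60610 (iv D59478) (iv F265311)
theorem F270237 : act 2 n60610 = n60610 := d17_1 D60610 (iv D60610) F265312 F260576 (iv F265312)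
def n60611 : Q := act 0 n59415
theorem D60611 : act 0 n59415 = n60611 := rfl
theorem F270238 : act 2 n60611 = n59416 := d1_2 (iv F265315) D60611 (iv D59416)
theorem F270239 : act 7 n60611 = n59419 := d6_2 (iv F265316) D60611 (iv D59419)
def n60612 : Q := act 0 n59417
theorem D60612 : act 0 n59417 = n60612 := rfl
theorem F270240 : act 1 n60612 = n59419 := d0_2 D59417 D60612 (iv D59419) (iv D58230) (iv F260583)
theorem F270241 : act 2 n60612 = n59493 := d1_2 (iv F265320) D60612 (iv D59493)
def n60613 : Q := act 0 n59418
theorem D60613 : act 0 n59418 = n60613 := rfl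
theorem F270242 : act 2 n60613 = n59421 := d1_2 (iv F265321) D60613 (iv D59421)
theorem F270243 : act 8 n60613 = n59419 := d7_2 (iv F265322) D60613 (iv D59419)
def n60614 : Q := act 0 n59420
theorem D60614 : act 0 n59420 = n60614 := rfl
theorem F270244 : act 1 n60614 = n59509 := d0_2 D59420 D60614 (iv D59509) (iv D58316) (iv F260586)
theorem F270245 : act 9 n60614 = n59421 := d8_2 (iv F265324) D60614 (iv D59421)
def n60615 : Q := act 1 n59422
theorem D60615 : act 1 n59422 = n60615 := rfl
theorem F270246 : act 2 n60615 = n59510 := d9_2 D59422 D60615 (iv D59510) (iv D58318) (iv F260592)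
theorem F270247 : act 7 n60615 = n59494 := d14_2 (iv F265328) D60615 (iv D59494)
def n60616 : Q := act 4 n59422
theorem D60616 : act 4 n59422 = n60616 := rfl
theorem F270248 : act 0 n60616 = n59427 := d3_1 D60616 (iv D59427) (iv F265327)
theorem F270249 : act 2 n60616 = n59423 := d18_1 D60616 (iv D59423) D59422
theorem F270250 : act 7 n60616 = n59495 := d32_2 (iv F265328) D60616 (iv D59495)
def n60617 : Q := act 1 n59424
theorem D60617 : act 1 n59424 = n60617 := rfl
theorem F270251 : act 2 n60617 = n59431 := d9_2 D59424 D60617 (iv D59431) (iv D58241) (iv F260598)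
theorem F270252 : act 8 n60617 = n59426 := d15_2 (iv F265333) D60617 (iv D59426)
def n60618 : Q := act 4 n59424
theorem D60618 : act 4 n59424 = n60618 := rfl
theorem F270253 : act 2 n60618 = n59425 := d18_1 D60618 (iv D59425) D59424
theorem F270254 : act 8 n60618 = n59427 := d33_2 (iv F265333) D60618 (iv D59427)
def n60619 : Q := act 0 n59426
theorem D60619 : act 0 n59426 = n60619 := rfl
theorem F270255 : act 2 n60619 = n59433 := d1_2 (iv F265337) D60619 (iv D59433)
def n60620 : Q := act 4 n59426
theorem D60620 : act 4 n59426 = n60620 := rfl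
theorem F270256 : act 1 n60620 = n59427 := d11_1 D60620 (iv D59427) D59426
theorem F270257 : act 2 n60620 = n59434 := d18_1 D60620 (iv D59434) (iv F265337)
def n60621 : Q := act 3 n59427
theorem D60621 : act 3 n59427 = n60621 := rfl
theorem F270258 : act 2 n60621 = n59428 := d17_1 D60621 (iv D59428) F260602 (iv F260601) (iv F265338)
def n60622 : Q := act 1 n59429
theorem D60622 : act 1 n59429 = n60622 := rfl
theorem F270259 : act 3 n60622 = n59460 := d10_2 (iv F265339) D60622 (iv D59460)
theorem F270260 : act 9 n60622 = n59431 := d16_2 (iv F265340) D60622 (iv D59431)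
def n60623 : Q := act 4 n59429
theorem D60623 : act 4 n59429 = n60623 := rfl
theorem F270261 : act 2 n60623 = n59430 := d18_1 D60623 (iv D59430) D59429
theorem F270262 : act 9 n60623 = n59432 := d34_2 (iv F265340) D60623 (iv D59432)
def n60624 : Q := act 0 n59431
theorem D60624 : act 0 n59431 = n60624 := rfl
theorem F270263 : act 3 n60624 = n59461 := d2_2 (iv F265343) D60624 (iv D59461)
theorem F270264 : act 8 n60624 = n59433 := d7_2 (iv F265344) D60624 (iv D59433)
def n60625 : Q := act 4 n59431
theorem D60625 : act 4 n59431 = n60625 := rfl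
theorem F270265 : act 1 n60625 = n59432 := d11_1 D60625 (iv D59432) D59431
theorem F270266 : act 8 n60625 = n59434 := d33_2 (iv F265344) D60625 (iv D59434)
def n60626 : Q := act 4 n59433
theorem D60626 : act 4 n59433 = n60626 := rfl
theorem F270267 : act 0 n60626 = n59434 := d3_1 D60626 (iv D59434) D59433
def n60627 : Q := act 1 n59435
theorem D60627 : act 1 n59435 = n60627 := rfl
theorem F270268 : act 3 n60627 = n59438 := d10_2 (iv F265349) D60627 (iv D59438)
theorem F270269 : act 5 n60627 = n59437 := d12_2 (iv F265350) D60627 (iv D59437)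
theorem F270270 : act 9 n60627 = n59471 := d16_2 (iv F265351) D60627 (iv D59471)
def n60628 : Q := act 4 n59435
theorem D60628 : act 4 n59435 = n60628 := rfl
theorem F270271 : act 2 n60628 = n59436 := d18_1 D60628 (iv D59436) D59435
theorem F270272 : act 9 n60628 = n59472 := d34_2 (iv F265351) D60628 (iv D59472)
def n60629 : Q := act 0 n59437
theorem D60629 : act 0 n59437 = n60629 := rfl
theorem F270273 : act 3 n60629 = n59440 := d2_2 (iv F265354) D60629 (iv D59440)
theorem F270274 : act 6 n60629 = n59443 := d5_2 (iv F265355) D60629 (iv D59443)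
theorem F270275 : act 9 n60629 = n59473 := d8_2 (iv F265356) D60629 (iv D59473)
def n60630 : Q := act 0 n59438
theorem D60630 : act 0 n59438 = n60630 := rfl
theorem F270276 : act 5 n60630 = n59440 := d4_2 (iv F265357) D60630 (iv D59440)
theorem F270277 : act 9 n60630 = n59476 := d8_2 (iv F265358) D60630 (iv D59476)
def n60631 : Q := act 4 n59438
theorem D60631 : act 4 n59438 = n60631 := rfl
theorem F270278 : act 1 n60631 = n59439 := d11_1 D60631 (iv D59439) D59438
theorem F270279 : act 9 n60631 = n59477 := d34_2 (iv F265358) D60631 (iv D59477)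
def n60632 : Q := act 3 n59439
theorem D60632 : act 3 n59439 = n60632 := rfl
theorem F270280 : act 2 n60632 = n60632 := d17_1 D60632 (iv D60632) F265359 F260619 (iv F265359)
theorem F270281 : act 9 n60632 = n59478 := d29_2 (iv F265360) D60632 (iv D59478)
def n60633 : Q := act 0 n59441
theorem D60633 : act 0 n59441 = n60633 := rfl
theorem F270282 : act 2 n60633 = n59443 := d1_2 (iv F265363) D60633 (iv D59443)
theorem F270283 : act 4 n60633 = n59509 := d3_2 (iv F265364) D60633 (iv D59509)
theorem F270284 : act 7 n60633 = n59452 := d6_2 (iv F265365) D60633 (iv D59452)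
theorem F270285 : act 9 n60633 = n59481 := d8_2 (iv F265366) D60633 (iv D59481)
def n60634 : Q := act 0 n59442
theorem D60634 : act 0 n59442 = n60634 := rfl
theorem F270286 : act 7 n60634 = n59461 := d6_2 (iv F265367) D60634 (iv D59461)
theorem F270287 : act 8 n60634 = n59443 := d7_2 (iv F265368) D60634 (iv D59443)
def n60635 : Q := act 0 n59444
theorem D60635 : act 0 n59444 = n60635 := rfl
theorem F270288 : act 1 n60635 = n59452 := d0_2 D59444 D60635 (iv D59452) (iv D58261) (iv F260633)
theorem F270289 : act 9 n60635 = n59493 := d8_2 (iv F265372) D60635 (iv D59493)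
def n60636 : Q := act 1 n59445
theorem D60636 : act 1 n59445 = n60636 := rfl
theorem F270290 : act 3 n60636 = n59449 := d10_2 (iv F265373) D60636 (iv D59449)
def n60637 : Q := act 4 n59445
theorem D60637 : act 4 n59445 = n60637 := rfl
theorem F270291 : act 2 n60637 = n59446 := d18_1 D60637 (iv D59446) D59445
def n60638 : Q := act 1 n59447
theorem D60638 : act 1 n59447 = n60638 := rfl
theorem F270292 : act 2 n60638 = n59458 := d9_2 D59447 D60638 (iv D59458) (iv D58265) (iv F260635)
theorem F270293 : act 5 n60638 = n59449 := d12_2 (iv F265375) D60638 (iv D59449)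
theorem F270294 : act 8 n60638 = n59450 := d15_2 (iv F265376) D60638 (iv D59450)
def n60639 : Q := act 4 n59447
theorem D60639 : act 4 n59447 = n60639 := rfl
theorem F270295 : act 2 n60639 = n59448 := d18_1 D60639 (iv D59448) D59447
theorem F270296 : act 8 n60639 = n59451 := d33_2 (iv F265376) D60639 (iv D59451)
def n60640 : Q := act 0 n59449
theorem D60640 : act 0 n59449 = n60640 := rfl
theorem F270297 : act 2 n60640 = n59461 := d1_2 (iv F265380) D60640 (iv D59461)
theorem F270298 : act 8 n60640 = n59452 := d7_2 (iv F265381) D60640 (iv D59452)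
def n60641 : Q := act 0 n59450
theorem D60641 : act 0 n59450 = n60641 := rfl
theorem F270299 : act 2 n60641 = n59467 := d1_2 (iv F265382) D60641 (iv D59467)
theorem F270300 : act 5 n60641 = n59452 := d4_2 (iv F265383) D60641 (iv D59452)
theorem F270301 : act 9 n60641 = n59496 := d8_2 (iv F265384) D60641 (iv D59496)
def n60642 : Q := act 4 n59450
theorem D60642 : act 4 n59450 = n60642 := rfl
theorem F270302 : act 1 n60642 = n59451 := d11_1 D60642 (iv D59451) D59450
theorem F270303 : act 2 n60642 = n59468 := d18_1 D60642 (iv D59468) (iv F265382)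
theorem F270304 : act 9 n60642 = n59497 := d34_2 (iv F265384) D60642 (iv D59497)
def n60643 : Q := act 3 n59451
theorem D60643 : act 3 n59451 = n60643 := rfl
theorem F270305 : act 2 n60643 = n59466 := d17_1 D60643 F265422 F260682 (iv F260642) (iv F265385)
theorem F270306 : act 5 n60643 = n59465 := d25_2 F266371 D60643 (iv F266370)
theorem F270307 : act 9 n60643 = n59498 := d29_2 (iv F265386) D60643 (iv D59498)
def n60644 : Q := act 2 n59453
theorem D60644 : act 2 n59453 = n60644 := rfl
theorem F270308 : act 6 n60644 = n59456 := d20_2 (iv F265389) D60644 (iv D59456)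
theorem F270309 : act 8 n60644 = n59499 := d22_2 (iv F265390) D60644 (iv D59499)
theorem F270310 : act 9 n60644 = n59454 := d23_2 (iv F265391) D60644 (iv D59454)
def n60645 : Q := act 4 n59453
theorem D60645 : act 4 n59453 = n60645 := rfl
theorem F270311 : act 3 n60645 = n60645 := d24_1 D60645 (iv D60645) (iv D59453) F260646 D59453
theorem F270312 : act 6 n60645 = n59457 := d31_2 (iv F265389) D60645 (iv D59457)
theorem F270313 : act 8 n60645 = n59500 := d33_2 (iv F265390) D60645 (iv D59500)
theorem F270314 : act 9 n60645 = n59455 := d34_2 (iv F265391) D60645 (iv D59455)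
def n60646 : Q := act 1 n59454
theorem D60646 : act 1 n59454 = n60646 := rfl
theorem F270315 : act 6 n60646 = n59458 := d13_2 (iv F265392) D60646 (iv D59458)
theorem F270316 : act 8 n60646 = n59464 := d15_2 (iv F265393) D60646 (iv D59464)
def n60647 : Q := act 4 n59454
theorem D60647 : act 4 n59454 = n60647 := rfl
theorem F270317 : act 2 n60647 = n59455 := d18_1 D60647 (iv D59455) D59454
theorem F270318 : act 6 n60647 = n59459 := d31_2 (iv F265392) D60647 (iv D59459)
theorem F270319 : act 8 n60647 = n59465 := d33_2 (iv F265393) D60647 (iv D59465)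
def n60648 : Q := act 5 n59455
theorem D60648 : act 5 n59455 = n60648 := rfl
theorem F270320 : act 3 n60648 = n60648 := d25_1 D60648 (iv D60648) F265394
theorem F270321 : act 8 n60648 = n59466 := d37_2 (iv F265396) D60648 (iv D59466)
def n60649 : Q := act 1 n59456
theorem D60649 : act 1 n59456 = n60649 := rfl
theorem F270322 : act 5 n60649 = n59460 := d12_2 (iv F265397) D60649 (iv D59460)
theorem F270323 : act 8 n60649 = n59504 := d15_2 (iv F265398) D60649 (iv D59504)
theorem F270324 : act 9 n60649 = n59458 := d16_2 (iv F265399) D60649 (iv D59458)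
def n60650 : Q := act 4 n59456
theorem D60650 : act 4 n59456 = n60650 := rfl
theorem F270325 : act 2 n60650 = n59457 := d18_1 D60650 (iv D59457) D59456
theorem F270326 : act 8 n60650 = n59505 := d33_2 (iv F265398) D60650 (iv D59505)
theorem F270327 : act 9 n60650 = n59459 := d34_2 (iv F265399) D60650 (iv D59459)
def n60651 : Q := act 0 n59458
theorem D60651 : act 0 n59458 = n60651 := rfl
theorem F270328 : act 5 n60651 = n59461 := d4_2 (iv F265403) D60651 (iv D59461)
theorem F270329 : act 8 n60651 = n59467 := d7_2 (iv F265404) D60651 (iv D59467)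
def n60652 : Q := act 4 n59458
theorem D60652 : act 4 n59458 = n60652 := rfl
theorem F270330 : act 1 n60652 = n59459 := d11_1 D60652 (iv D59459) D59458
theorem F270331 : act 8 n60652 = n59468 := d33_2 (iv F265404) D60652 (iv D59468)
def n60653 : Q := act 3 n59459
theorem D60653 : act 3 n59459 = n60653 := rfl
theorem F270332 : act 2 n60653 = n60653 := d17_1 D60653 (iv D60653) F265405 F260656 (iv F265405)
def n60654 : Q := act 0 n59460
theorem D60654 : act 0 n59460 = n60654 := rfl
theorem F270333 : act 8 n60654 = n59509 := d7_2 (iv F265407) D60654 (iv D59509)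
theorem F270334 : act 9 n60654 = n59461 := d8_2 (iv F265408) D60654 (iv D59461)
def n60655 : Q := act 1 n59462
theorem D60655 : act 1 n59462 = n60655 := rfl
theorem F270335 : act 3 n60655 = n59469 := d10_2 (iv F265410) D60655 (iv D59469)
theorem F270336 : act 7 n60655 = n59464 := d14_2 (iv F265411) D60655 (iv D59464)
theorem F270337 : act 9 n60655 = n59510 := d16_2 (iv F265412) D60655 (iv D59510)
def n60656 : Q := act 4 n59462
theorem D60656 : act 4 n59462 = n60656 := rfl
theorem F270338 : act 2 n60656 = n59463 := d18_1 D60656 (iv D59463) D59462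
theorem F270339 : act 3 n60656 = n59505 := d24_1 D60656 (iv D59505) (iv F261577) F261578 (iv F265410)
theorem F270340 : act 7 n60656 = n59465 := d32_2 (iv F265411) D60656 (iv D59465)
theorem F270341 : act 9 n60656 = n59508 := d34_2 (iv F265412) D60656 F265520
def n60657 : Q := act 0 n59464
theorem D60657 : act 0 n59464 = n60657 := rfl
theorem F270342 : act 3 n60657 = n59470 := d2_2 (iv F265416) D60657 (iv D59470)
theorem F270343 : act 6 n60657 = n59467 := d5_2 (iv F265417) D60657 (iv D59467)
theorem F270344 : act 9 n60657 = n59512 := d8_2 (iv F265418) D60657 (iv D59512)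
def n60658 : Q := act 4 n59464
theorem D60658 : act 4 n59464 = n60658 := rfl
theorem F270345 : act 1 n60658 = n59465 := d11_1 D60658 (iv D59465) D59464
theorem F270346 : act 6 n60658 = n59468 := d31_2 (iv F265417) D60658 (iv D59468)
theorem F270347 : act 9 n60658 = n59513 := d34_2 (iv F265418) D60658 (iv D59513)
def n60659 : Q := act 4 n59467
theorem D60659 : act 4 n59467 = n60659 := rfl
theorem F270348 : act 0 n60659 = n59468 := d3_1 D60659 (iv D59468) D59467
theorem F270349 : act 9 n60659 = n59514 := d34_2 (iv F265426) D60659 (iv D59514)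
def n60660 : Q := act 0 n59469
theorem D60660 : act 0 n59469 = n60660 := rfl
theorem F270350 : act 7 n60660 = n59470 := d6_2 (iv F265429) D60660 (iv D59470)
theorem F270351 : act 9 n60660 = n59517 := d8_2 (iv F265430) D60660 (iv D59517)
def n60661 : Q := act 0 n59471
theorem D60661 : act 0 n59471 = n60661 := rfl
theorem F270352 : act 3 n60661 = n59476 := d2_2 (iv F265433) D60661 (iv D59476)
theorem F270353 : act 5 n60661 = n59473 := d4_2 (iv F265434) D60661 (iv D59473)
def n60662 : Q := act 4 n59471
theorem D60662 : act 4 n59471 = n60662 := rfl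
theorem F270354 : act 1 n60662 = n59472 := d11_1 D60662 (iv D59472) D59471
def n60663 : Q := act 3 n59472
theorem D60663 : act 3 n59472 = n60663 := rfl
theorem F270355 : act 2 n60663 = n60663 := d17_1 D60663 (iv D60663) F265435 F260692 (iv F265435)
theorem F270356 : act 4 n60663 = n59478 := d24_2 D59472 D60663 (iv D59478) (iv D58286) (iv F260690)
def n60664 : Q := act 0 n59474
theorem D60664 : act 0 n59474 = n60664 := rfl
theorem F270357 : act 5 n60664 = n59491 := d4_2 (iv F265438) D60664 (iv D59491)
theorem F270358 : act 6 n60664 = n59476 := d5_2 (iv F265439) D60664 (iv D59476)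
def n60665 : Q := act 4 n59474
theorem D60665 : act 4 n59474 = n60665 := rfl
theorem F270359 : act 1 n60665 = n59475 := d11_1 D60665 (iv D59475) D59474
theorem F270360 : act 6 n60665 = n59477 := d31_2 (iv F265439) D60665 (iv D59477)
def n60666 : Q := act 3 n59475
theorem D60666 : act 3 n59475 = n60666 := rfl
theorem F270361 : act 2 n60666 = n60666 := d17_1 D60666 (iv D60666) F265440 F260697 (iv F265440)
theorem F270362 : act 6 n60666 = n59478 := d26_2 (iv F265441) D60666 (iv D59478)
def n60667 : Q := act 4 n59476
theorem D60667 : act 4 n59476 = n60667 := rfl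
theorem F270363 : act 0 n60667 = n59477 := d3_1 D60667 (iv D59477) D59476
def n60668 : Q := act 3 n59477
theorem D60668 : act 3 n59477 = n60668 := rfl
theorem F270364 : act 1 n60668 = n59478 := d10_1 D60668 (iv D59478) (iv F265443)
def n60669 : Q := act 8 n59478
theorem D60669 : act 8 n59478 = n60669 := rfl
theorem F270365 : act 2 n60669 = n60669 := d22_1 D60669 (iv D60669) F265444
def n60670 : Q := act 0 n59479
theorem D60670 : act 0 n59479 = n60670 := rfl
theorem F270366 : act 2 n60670 = n59483 := d1_2 (iv F265445) D60670 (iv D59483)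
theorem F270367 : act 5 n60670 = n59481 := d4_2 (iv F265446) D60670 (iv D59481)
theorem F270368 : act 7 n60670 = n59496 := d6_2 (iv F265447) D60670 (iv D59496)
theorem F270369 : act 8 n60670 = n59516 := d7_2 (iv F265448) D60670 F265534
def n60671 : Q := act 4 n59479
theorem D60671 : act 4 n59479 = n60671 := rfl
theorem F270370 : act 1 n60671 = n59480 := d11_1 D60671 (iv D59480) D59479
theorem F270371 : act 2 n60671 = n59484 := d18_1 D60671 (iv D59484) (iv F265445)
theorem F270372 : act 5 n60671 = n59507 := d30_2 (iv F265446) D60671 (iv D59507) F260766 (iv F260711)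
theorem F270373 : act 7 n60671 = n59497 := d32_2 (iv F265447) D60671 (iv D59497)
theorem F270374 : act 8 n60671 = n59515 := d33_2 (iv F265448) D60671 F265533
def n60672 : Q := act 3 n59480
theorem D60672 : act 3 n59480 = n60672 := rfl
theorem F270375 : act 2 n60672 = n59511 := d17_1 D60672 F265525 F260790 (iv F260706) (iv F265449)
theorem F270376 : act 5 n60672 = n59508 := d25_2 (iv F265450) D60672 (iv D59508)
theorem F270377 : act 7 n60672 = n59498 := d27_2 (iv F265451) D60672 (iv D59498)
def n60673 : Q := act 4 n59483
theorem D60673 : act 4 n59483 = n60673 := rfl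
theorem F270378 : act 0 n60673 = n59484 := d3_1 D60673 (iv D59484) D59483
theorem F270379 : act 7 n60673 = n59514 := d32_2 (iv F265463) D60673 (iv D59514)
def n60674 : Q := act 5 n59484
theorem D60674 : act 5 n59484 = n60674 := rfl
theorem F270380 : act 1 n60674 = n59485 := d12_1 D60674 (iv D59485) (iv F265464)
theorem F270381 : act 2 n60674 = n59507 := d19_1 D60674 (iv F270372) F270371
theorem F270382 : act 4 n60674 = n59488 := d30_1 D60674 (iv D59488) (iv D58296) (iv F260719) D59484
theorem F270383 : act 7 n60674 = n59515 := d36_2 (iv F265465) D60674 (iv D59515)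
theorem F270384 : act 8 n60674 = n59497 := d37_2 F266428 D60674 (iv F266425)
def n60675 : Q := act 6 n59485
theorem D60675 : act 6 n59485 = n60675 := rfl
theorem F270385 : act 2 n60675 = n59486 := d20_1 D60675 (iv D59486) (iv F265466)
theorem F270386 : act 4 n60675 = n59489 := d31_1 D60675 (iv D59489) (iv F265467)
theorem F270387 : act 8 n60675 = n59495 := d40_2 (iv F265469) D60675 F265492
def n60676 : Q := act 5 n59487
theorem D60676 : act 5 n59487 = n60676 := rfl
theorem F270388 : act 0 n60676 = n59488 := d4_1 D60676 (iv D59488) (iv F265474)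
theorem F270389 : act 2 n60676 = n59506 := d19_1 D60676 F265515 (iv F265475)
theorem F270390 : act 7 n60676 = n59516 := d36_2 (iv F265476) D60676 (iv D59516)
theorem F270391 : act 8 n60676 = n59496 := d37_2 (iv F265477) D60676 F265494
def n60677 : Q := act 6 n59488
theorem D60677 : act 6 n59488 = n60677 := rfl
theorem F270392 : act 1 n60677 = n59489 := d13_1 D60677 (iv D59489) (iv F265478)
theorem F270393 : act 2 n60677 = n59501 := d20_1 D60677 F265504 (iv F265479)
theorem F270394 : act 8 n60677 = n59494 := d40_2 (iv F265481) D60677 F265490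
def n60678 : Q := act 0 n59490
theorem D60678 : act 0 n59490 = n60678 := rfl
theorem F270395 : act 6 n60678 = n59517 := d5_2 (iv F265484) D60678 (iv D59517)
theorem F270396 : act 7 n60678 = n59491 := d6_2 (iv F265485) D60678 (iv D59491)
def n60679 : Q := act 0 n59492
theorem D60679 : act 0 n59492 = n60679 := rfl
theorem F270397 : act 1 n60679 = n59496 := d0_2 D59492 D60679 (iv D59496) (iv D58306) (iv F260745)
theorem F270398 : act 5 n60679 = n59493 := d4_2 (iv F265487) D60679 (iv D59493)
def n60680 : Q := act 0 n59494
theorem D60680 : act 0 n59494 = n60680 := rfl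
theorem F270399 : act 2 n60680 = n59512 := d1_2 (iv F265489) D60680 (iv D59512)
theorem F270400 : act 6 n60680 = n59496 := d5_2 (iv F265490) D60680 (iv D59496)
def n60681 : Q := act 4 n59494
theorem D60681 : act 4 n59494 = n60681 := rfl
theorem F270401 : act 1 n60681 = n59495 := d11_1 D60681 (iv D59495) D59494
theorem F270402 : act 2 n60681 = n59513 := d18_1 D60681 (iv D59513) (iv F265489)
theorem F270403 : act 6 n60681 = n59497 := d31_2 (iv F265490) D60681 (iv D59497)
def n60682 : Q := act 4 n59496
theorem D60682 : act 4 n59496 = n60682 := rfl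
theorem F270404 : act 0 n60682 = n59497 := d3_1 D60682 (iv D59497) D59496
theorem F270405 : act 2 n60682 = n59514 := d18_1 D60682 (iv D59514) (iv F265493)
def n60683 : Q := act 3 n59497
theorem D60683 : act 3 n59497 = n60683 := rfl
theorem F270406 : act 1 n60683 = n59498 := d10_1 D60683 (iv D59498) (iv F265495)
theorem F270407 : act 5 n60683 = n59513 := d25_2 F266425 D60683 (iv F266424)
def n60684 : Q := act 8 n59498
theorem D60684 : act 8 n59498 = n60684 := rfl
theorem F270408 : act 2 n60684 = n59503 := d22_1 D60684 F265510 (iv F265497)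
theorem F270409 : act 5 n60684 = n59502 := d37_1 D60684 F265508 (iv F265498)
def n60685 : Q := act 1 n59499
theorem D60685 : act 1 n59499 = n60685 := rfl
theorem F270410 : act 6 n60685 = n59504 := d13_2 (iv F265499) D60685 (iv D59504)
theorem F270411 : act 9 n60685 = n59501 := d16_2 (iv F265500) D60685 (iv D59501)
def n60686 : Q := act 4 n59499
theorem D60686 : act 4 n59499 = n60686 := rfl
theorem F270412 : act 2 n60686 = n59500 := d18_1 D60686 (iv D59500) D59499
theorem F270413 : act 6 n60686 = n59505 := d31_2 (iv F265499) D60686 (iv D59505)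
theorem F270414 : act 9 n60686 = n59502 := d34_2 (iv F265500) D60686 (iv D59502)
def n60687 : Q := act 5 n59500
theorem D60687 : act 5 n59500 = n60687 := rfl
theorem F270415 : act 3 n60687 = n59518 := d25_1 D60687 (iv D59518) (iv F265501)
theorem F270416 : act 9 n60687 = n59503 := d38_2 (iv F265503) D60687 (iv D59503)
def n60688 : Q := act 0 n59501
theorem D60688 : act 0 n59501 = n60688 := rfl
theorem F270417 : act 6 n60688 = n59506 := d5_2 (iv F265504) D60688 (iv D59506)
theorem F270418 : act 8 n60688 = n59512 := d7_2 (iv F265505) D60688 (iv D59512)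
def n60689 : Q := act 4 n59501
theorem D60689 : act 4 n59501 = n60689 := rfl
theorem F270419 : act 1 n60689 = n59502 := d11_1 D60689 (iv D59502) D59501
theorem F270420 : act 6 n60689 = n59507 := d31_2 (iv F265504) D60689 (iv D59507)
theorem F270421 : act 8 n60689 = n59513 := d33_2 (iv F265505) D60689 (iv D59513)
def n60690 : Q := act 0 n59504
theorem D60690 : act 0 n59504 = n60690 := rfl
theorem F270422 : act 5 n60690 = n59509 := d4_2 (iv F265511) D60690 (iv D59509)
theorem F270423 : act 9 n60690 = n59506 := d8_2 (iv F265512) D60690 (iv D59506)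
def n60691 : Q := act 4 n59504
theorem D60691 : act 4 n59504 = n60691 := rfl
theorem F270424 : act 1 n60691 = n59505 := d11_1 D60691 (iv D59505) D59504
theorem F270425 : act 9 n60691 = n59507 := d34_2 (iv F265512) D60691 (iv D59507)
def n60692 : Q := act 4 n59506
theorem D60692 : act 4 n59506 = n60692 := rfl
theorem F270426 : act 0 n60692 = n59507 := d3_1 D60692 (iv D59507) D59506
theorem F270427 : act 8 n60692 = n59514 := d33_2 (iv F265516) D60692 (iv D59514)
def n60693 : Q := act 3 n59507
theorem D60693 : act 3 n59507 = n60693 := rfl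
theorem F270428 : act 1 n60693 = n59508 := d10_1 D60693 (iv D59508) (iv F265517)
theorem F270429 : act 4 n60693 = n59510 := d24_2 D59507 D60693 F265523 (iv F261630) F261629
theorem F270430 : act 7 n60693 = n59513 := d27_2 F266427 D60693 (iv F266424)
def n60694 : Q := act 0 n59510
theorem D60694 : act 0 n59510 = n60694 := rfl
theorem F270431 : act 3 n60694 = n59517 := d2_2 (iv F265523) D60694 (iv D59517)
theorem F270432 : act 7 n60694 = n59512 := d6_2 (iv F265524) D60694 (iv D59512)
def n60695 : Q := act 4 n59512
theorem D60695 : act 4 n59512 = n60695 := rfl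
theorem F270433 : act 0 n60695 = n59513 := d3_1 D60695 (iv D59513) D59512
theorem F270434 : act 6 n60695 = n59514 := d31_2 (iv F265528) D60695 (iv D59514)
def n60696 : Q := act 5 n59514
theorem D60696 : act 5 n59514 = n60696 := rfl
theorem F270435 : act 0 n60696 = n59515 := d4_1 D60696 (iv D59515) (iv F265531)
theorem F270436 : act 4 n60696 = n59516 := d30_1 D60696 (iv D59516) (iv D58326) (iv F260782) D59514
def n60697 : Q := act 1 n59519
theorem D60697 : act 1 n59519 = n60697 := rfl
theorem F270437 : act 2 n60697 = n59826 := d9_2 D59519 D60697 (iv D59826) (iv D58622) (iv F260808)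
theorem F270438 : act 3 n60697 = n60002 := d10_2 (iv F265540) D60697 (iv D60002)
theorem F270439 : act 5 n60697 = n59521 := d12_2 (iv F265541) D60697 (iv D59521)
theorem F270440 : act 6 n60697 = n59872 := d13_2 (iv F265542) D60697 (iv D59872)
theorem F270441 : act 7 n60697 = n59993 := d14_2 (iv F265543) D60697 (iv D59993)
theorem F270442 : act 8 n60697 = n60374 := d15_2 (iv F265544) D60697 (iv D60374)
theorem F270443 : act 9 n60697 = n59526 := d16_2 (iv F265545) D60697 (iv D59526)
def n60698 : Q := act 4 n59519
theorem D60698 : act 4 n59519 = n60698 := rfl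
theorem F270444 : act 0 n60698 = n59944 := d3_1 D60698 (iv D59944) (iv F265539)
theorem F270445 : act 2 n60698 = n59520 := d18_1 D60698 (iv D59520) D59519
theorem F270446 : act 3 n60698 = n60534 := d24_1 D60698 F270067 F265105 (iv F263131) (iv F265540)
theorem F270447 : act 5 n60698 = n59535 := d30_2 (iv F265541) D60698 (iv D59535) F260915 (iv F260816)
theorem F270448 : act 6 n60698 = n59873 := d31_2 (iv F265542) D60698 (iv D59873)
theorem F270449 : act 7 n60698 = n59994 := d32_2 (iv F265543) D60698 (iv D59994)
theorem F270450 : act 8 n60698 = n60375 := d33_2 (iv F265544) D60698 (iv D60375)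
theorem F270451 : act 9 n60698 = n59527 := d34_2 (iv F265545) D60698 (iv D59527)
def n60699 : Q := act 0 n59521
theorem D60699 : act 0 n59521 = n60699 := rfl
theorem F270452 : act 1 n60699 = n60343 := d0_2 D59521 D60699 (iv D60343) (iv D59112) (iv F260814)
theorem F270453 : act 2 n60699 = n59828 := d1_2 (iv F265554) D60699 (iv D59828)
theorem F270454 : act 3 n60699 = n60572 := d2_2 (iv F265555) D60699 F270147
theorem F270455 : act 4 n60699 = n59536 := d3_2 (iv F265556) D60699 (iv D59536)
theorem F270456 : act 6 n60699 = n60340 := d5_2 (iv F265557) D60699 (iv D60340)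
theorem F270457 : act 7 n60699 = n60571 := d6_2 (iv F265558) D60699 (iv D60571)
theorem F270458 : act 8 n60699 = n60376 := d7_2 (iv F265559) D60699 (iv D60376)
theorem F270459 : act 9 n60699 = n59528 := d8_2 (iv F265560) D60699 (iv D59528)
def n60700 : Q := act 1 n59522
theorem D60700 : act 1 n59522 = n60700 := rfl
theorem F270460 : act 2 n60700 = n59803 := d9_2 D59522 D60700 (iv D59803) (iv D58603) (iv F260830)
theorem F270461 : act 3 n60700 = n59943 := d10_2 (iv F265562) D60700 (iv D59943)
theorem F270462 : act 4 n60700 = n60544 := d11_2 (iv F265563) D60700 F270091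
theorem F270463 : act 5 n60700 = n59523 := d12_2 (iv F265564) D60700 (iv D59523)
theorem F270464 : act 6 n60700 = n59938 := d13_2 (iv F265565) D60700 (iv D59938)
theorem F270465 : act 7 n60700 = n59526 := d14_2 (iv F265566) D60700 (iv D59526)
theorem F270466 : act 8 n60700 = n59593 := d15_2 (iv F265567) D60700 (iv D59593)
theorem F270467 : act 9 n60700 = n59993 := d16_2 (iv F265568) D60700 (iv D59993)
def n60701 : Q := act 0 n59523
theorem D60701 : act 0 n59523 = n60701 := rfl
theorem F270468 : act 1 n60701 = n60572 := d0_2 D59523 D60701 F270147 F265199 (iv F260837)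
theorem F270469 : act 2 n60701 = n59831 := d1_2 (iv F265569) D60701 (iv D59831)
theorem F270470 : act 3 n60701 = n60343 := d2_2 (iv F265570) D60701 (iv D60343)
theorem F270471 : act 4 n60701 = n59537 := d3_2 (iv F265571) D60701 (iv D59537)
theorem F270472 : act 6 n60701 = n60344 := d5_2 (iv F265572) D60701 (iv D60344)
theorem F270473 : act 7 n60701 = n59528 := d6_2 (iv F265573) D60701 (iv D59528)
theorem F270474 : act 8 n60701 = n59595 := d7_2 (iv F265574) D60701 (iv D59595)
theorem F270475 : act 9 n60701 = n60571 := d8_2 (iv F265575) D60701 (iv D60571)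
def n60702 : Q := act 1 n59524
theorem D60702 : act 1 n59524 = n60702 := rfl
theorem F270476 : act 2 n60702 = n59949 := d9_2 D59524 D60702 (iv D59949) (iv D58734) (iv F260845)
theorem F270477 : act 3 n60702 = n59526 := d10_2 (iv F265577) D60702 (iv D59526)
theorem F270478 : act 4 n60702 = n60553 := d11_2 (iv F265578) D60702 F270108
theorem F270479 : act 5 n60702 = n59525 := d12_2 (iv F265579) D60702 (iv D59525)
theorem F270480 : act 6 n60702 = n59885 := d13_2 (iv F265580) D60702 (iv D59885)
theorem F270481 : act 7 n60702 = n59943 := d14_2 (iv F265581) D60702 (iv D59943)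
theorem F270482 : act 8 n60702 = n59740 := d15_2 (iv F265582) D60702 (iv D59740)
theorem F270483 : act 9 n60702 = n60002 := d16_2 (iv F265583) D60702 (iv D60002)
def n60703 : Q := act 0 n59525
theorem D60703 : act 0 n59525 = n60703 := rfl
theorem F270484 : act 1 n60703 = n60571 := d0_2 D59525 D60703 (iv D60571) (iv D59362) (iv F260852)
theorem F270485 : act 2 n60703 = n59951 := d1_2 (iv F265584) D60703 (iv D59951)
theorem F270486 : act 3 n60703 = n59528 := d2_2 (iv F265585) D60703 (iv D59528)
theorem F270487 : act 4 n60703 = n60344 := d3_2 (iv F265586) D60703 (iv D60344)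
theorem F270488 : act 6 n60703 = n59537 := d5_2 (iv F265587) D60703 (iv D59537)
theorem F270489 : act 7 n60703 = n60343 := d6_2 (iv F265588) D60703 (iv D60343)
theorem F270490 : act 8 n60703 = n59742 := d7_2 (iv F265589) D60703 (iv D59742)
theorem F270491 : act 9 n60703 = n60572 := d8_2 (iv F265590) D60703 F270147
def n60704 : Q := act 0 n59526
theorem D60704 : act 0 n59526 = n60704 := rfl
theorem F270492 : act 1 n60704 = n60003 := d0_2 D59526 D60704 (iv D60003) (iv D58778) (iv F260859)
theorem F270493 : act 2 n60704 = n59841 := d1_2 (iv F265591) D60704 (iv D59841)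
theorem F270494 : act 5 n60704 = n59528 := d4_2 (iv F265592) D60704 (iv D59528)
theorem F270495 : act 6 n60704 = n59891 := d5_2 (iv F265593) D60704 (iv D59891)
theorem F270496 : act 8 n60704 = n59616 := d7_2 (iv F265594) D60704 (iv D59616)
def n60705 : Q := act 4 n59526
theorem D60705 : act 4 n59526 = n60705 := rfl
theorem F270497 : act 1 n60705 = n59527 := d11_1 D60705 (iv D59527) D59526
theorem F270498 : act 2 n60705 = n59842 := d18_1 D60705 (iv D59842) (iv F265591)
theorem F270499 : act 5 n60705 = n59543 := d30_2 (iv F265592) D60705 (iv D59543) F260978 (iv F260871)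
theorem F270500 : act 6 n60705 = n59892 := d31_2 (iv F265593) D60705 (iv D59892)
theorem F270501 : act 7 n60705 = n60544 := d32_2 F270465 D60705 (iv F270462)
theorem F270502 : act 8 n60705 = n59617 := d33_2 (iv F265594) D60705 (iv D59617)
def n60706 : Q := act 3 n59527
theorem D60706 : act 3 n59527 = n60706 := rfl
theorem F270503 : act 0 n60706 = n59979 := d2_1 D60706 F268027 (iv F265595)
theorem F270504 : act 2 n60706 = n59529 := d17_1 D60706 (iv D59529) F260876 (iv F260865) (iv F265596)
theorem F270505 : act 4 n60706 = n60520 := d24_2 D59527 D60706 F270032 (iv F265578) F265577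
theorem F270506 : act 5 n60706 = n59544 := d25_2 (iv F265597) D60706 (iv D59544)
theorem F270507 : act 6 n60706 = n59893 := d26_2 (iv F265598) D60706 (iv D59893)
theorem F270508 : act 7 n60706 = n60512 := d27_2 (iv F265599) D60706 F270013
theorem F270509 : act 9 n60706 = n60534 := d29_2 F270451 D60706 (iv F270446)
def n60707 : Q := act 8 n59529
theorem D60707 : act 8 n59529 = n60707 := rfl
theorem F270510 : act 0 n60707 = n59973 := d7_1 D60707 F267999 (iv F265606)
theorem F270511 : act 1 n60707 = n60112 := d15_1 D60707 F268597 (iv F265607)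
theorem F270512 : act 3 n60707 = n59530 := d28_1 D60707 (iv D59530) (iv D58348) (iv F260880) D59529
theorem F270513 : act 4 n60707 = n60517 := d33_1 D60707 F270025 (iv F265608)
theorem F270514 : act 5 n60707 = n59546 := d37_1 D60707 (iv D59546) (iv F265609)
theorem F270515 : act 6 n60707 = n59895 := d40_1 D60707 (iv D59895) (iv F265610)
theorem F270516 : act 7 n60707 = n60029 := d42_1 D60707 F268210 (iv F265611)
def n60708 : Q := act 9 n59530
theorem D60708 : act 9 n59530 = n60708 := rfl
theorem F270517 : act 0 n60708 = n60010 := d8_1 D60708 (iv D60010) (iv F265613)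
theorem F270518 : act 1 n60708 = n60093 := d16_1 D60708 F268511 (iv F265614)
theorem F270519 : act 2 n60708 = n59628 := d23_1 D60708 (iv D59628) (iv F265615)
theorem F270520 : act 4 n60708 = n60708 := d34_1 D60708 (iv D60708) F265616
theorem F270521 : act 5 n60708 = n59547 := d38_1 D60708 (iv D59547) (iv F265617)
theorem F270522 : act 6 n60708 = n59896 := d41_1 D60708 (iv D59896) (iv F265618)
theorem F270523 : act 7 n60708 = n59812 := d43_1 D60708 F267249 (iv F265619)
theorem F270524 : act 8 n60708 = n60708 := d44_1 D60708 (iv D60708) (iv D59530) F260889 D59530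
def n60709 : Q := act 0 n59531
theorem D60709 : act 0 n59531 = n60709 := rfl
theorem F270525 : act 1 n60709 = n59852 := d0_2 D59531 D60709 (iv D59852) (iv D58649) (iv F260890)
theorem F270526 : act 2 n60709 = n59532 := d1_2 (iv F265620) D60709 (iv D59532)
theorem F270527 : act 3 n60709 = n60545 := d2_2 (iv F265621) D60709 (iv D60545)
theorem F270528 : act 4 n60709 = n60355 := d3_2 (iv F265622) D60709 (iv D60355)
theorem F270529 : act 5 n60709 = n60558 := d4_2 (iv F265623) D60709 (iv D60558)
theorem F270530 : act 6 n60709 = n60341 := d5_2 (iv F265624) D60709 (iv D60341)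
theorem F270531 : act 7 n60709 = n60565 := d6_2 (iv F265625) D60709 (iv D60565)
theorem F270532 : act 8 n60709 = n59645 := d7_2 (iv F265626) D60709 (iv D59645)
theorem F270533 : act 9 n60709 = n60347 := d8_2 (iv F265627) D60709 (iv D60347)
def n60710 : Q := act 0 n59533
theorem D60710 : act 0 n59533 = n60710 := rfl
theorem F270534 : act 1 n60710 = n60344 := d0_2 D59533 D60710 (iv D60344) (iv D59113) (iv F260905)
theorem F270535 : act 2 n60710 = n59927 := d1_2 (iv F265636) D60710 (iv D59927)
theorem F270536 : act 3 n60710 = n60340 := d2_2 (iv F265637) D60710 (iv D60340)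
theorem F270537 : act 4 n60710 = n60571 := d3_2 (iv F265638) D60710 (iv D60571)
theorem F270538 : act 5 n60710 = n60540 := d4_2 (iv F265639) D60710 (iv D60540)
theorem F270539 : act 6 n60710 = n60572 := d5_2 (iv F265640) D60710 F270147
theorem F270540 : act 7 n60710 = n59536 := d6_2 (iv F265641) D60710 (iv D59536)
theorem F270541 : act 8 n60710 = n60678 := d7_2 (iv F265642) D60710 (iv D60678)
theorem F270542 : act 9 n60710 = n59537 := d8_2 (iv F265643) D60710 (iv D59537)
def n60711 : Q := act 0 n59534
theorem D60711 : act 0 n59534 = n60711 := rfl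
theorem F270543 : act 1 n60711 = n60353 := d0_2 D59534 D60711 (iv D60353) (iv D59123) (iv F260913)
theorem F270544 : act 2 n60711 = n59945 := d1_2 (iv F265644) D60711 (iv D59945)
theorem F270545 : act 3 n60711 = n60342 := d2_2 (iv F265645) D60711 (iv D60342)
theorem F270546 : act 5 n60711 = n59536 := d4_2 (iv F265646) D60711 (iv D59536)
theorem F270547 : act 6 n60711 = n60556 := d5_2 (iv F265647) D60711 (iv D60556)
theorem F270548 : act 7 n60711 = n60540 := d6_2 (iv F265648) D60711 (iv D60540)
theorem F270549 : act 8 n60711 = n60664 := d7_2 (iv F265649) D60711 (iv D60664)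
theorem F270550 : act 9 n60711 = n59542 := d8_2 (iv F265650) D60711 (iv D59542)
def n60712 : Q := act 4 n59534
theorem D60712 : act 4 n59534 = n60712 := rfl
theorem F270551 : act 1 n60712 = n59535 := d11_1 D60712 (iv D59535) D59534
theorem F270552 : act 2 n60712 = n59946 := d18_1 D60712 (iv D59946) (iv F265644)
theorem F270553 : act 3 n60712 = n60533 := d24_1 D60712 (iv D60533) F265096 (iv F264435) (iv F265645)
theorem F270554 : act 6 n60712 = n60557 := d31_2 (iv F265647) D60712 (iv D60557)
theorem F270555 : act 7 n60712 = n60541 := d32_2 (iv F265648) D60712 (iv D60541)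
theorem F270556 : act 8 n60712 = n60665 := d33_2 (iv F265649) D60712 (iv D60665)
theorem F270557 : act 9 n60712 = n59543 := d34_2 (iv F265650) D60712 (iv D59543)
def n60713 : Q := act 1 n59539
theorem D60713 : act 1 n59539 = n60713 := rfl
theorem F270558 : act 2 n60713 = n60002 := d9_2 D59539 D60713 (iv D60002) (iv D58777) (iv F260955)
theorem F270559 : act 3 n60713 = n59876 := d10_2 (iv F265680) D60713 (iv D59876)
theorem F270560 : act 4 n60713 = n60567 := d11_2 (iv F265681) D60713 F270137
theorem F270561 : act 5 n60713 = n59919 := d12_2 (iv F265682) D60713 (iv D59919)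
theorem F270562 : act 6 n60713 = n59877 := d13_2 (iv F265683) D60713 (iv D59877)
theorem F270563 : act 7 n60713 = n59540 := d14_2 (iv F265684) D60713 (iv D59540)
theorem F270564 : act 8 n60713 = n59783 := d15_2 (iv F265685) D60713 (iv D59783)
theorem F270565 : act 9 n60713 = n59949 := d16_2 (iv F265686) D60713 (iv D59949)
def n60714 : Q := act 0 n59540
theorem D60714 : act 0 n59540 = n60714 := rfl
theorem F270566 : act 1 n60714 = n60554 := d0_2 D59540 D60714 (iv D60554) (iv D59341) (iv F260962)
theorem F270567 : act 2 n60714 = n60003 := d1_2 (iv F265687) D60714 (iv D60003)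
theorem F270568 : act 3 n60714 = n60542 := d2_2 (iv F265688) D60714 (iv D60542)
theorem F270569 : act 5 n60714 = n60355 := d4_2 (iv F265689) D60714 (iv D60355)
theorem F270570 : act 6 n60714 = n59542 := d5_2 (iv F265690) D60714 (iv D59542)
theorem F270571 : act 8 n60714 = n59785 := d7_2 (iv F265691) D60714 (iv D59785)
theorem F270572 : act 9 n60714 = n60556 := d8_2 (iv F265692) D60714 (iv D60556)
def n60715 : Q := act 4 n59540
theorem D60715 : act 4 n59540 = n60715 := rfl
theorem F270573 : act 1 n60715 = n59541 := d11_1 D60715 (iv D59541) D59540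
theorem F270574 : act 2 n60715 = n60004 := d18_1 D60715 (iv D60004) (iv F265687)
theorem F270575 : act 3 n60715 = n60562 := d24_1 D60715 (iv D60562) (iv F267413) F267414 (iv F265688)
theorem F270576 : act 5 n60715 = n60559 := d30_2 (iv F265689) D60715 (iv D60559) (iv F265623) F265622
theorem F270577 : act 6 n60715 = n59543 := d31_2 (iv F265690) D60715 (iv D59543)
theorem F270578 : act 7 n60715 = n60567 := d32_2 F270563 D60715 (iv F270560)
theorem F270579 : act 8 n60715 = n59786 := d33_2 (iv F265691) D60715 (iv D59786)
theorem F270580 : act 9 n60715 = n60557 := d34_2 (iv F265692) D60715 (iv D60557)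
def n60716 : Q := act 4 n59542
theorem D60716 : act 4 n59542 = n60716 := rfl
theorem F270581 : act 0 n60716 = n59543 := d3_1 D60716 (iv D59543) D59542
theorem F270582 : act 1 n60716 = n60560 := d11_1 D60716 (iv D60560) (iv F265701)
theorem F270583 : act 2 n60716 = n60005 := d18_1 D60716 (iv D60005) (iv F265702)
theorem F270584 : act 7 n60716 = n60543 := d32_2 (iv F265705) D60716 (iv D60543)
theorem F270585 : act 8 n60716 = n59787 := d33_2 (iv F265706) D60716 (iv D59787)
def n60717 : Q := act 3 n59543
theorem D60717 : act 3 n59543 = n60717 := rfl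
theorem F270586 : act 1 n60717 = n59544 := d10_1 D60717 (iv D59544) (iv F265707)
theorem F270587 : act 4 n60717 = n59966 := d24_2 D59543 D60717 F267961 F265044 (iv F260977)
theorem F270588 : act 6 n60717 = n60562 := d26_2 F270577 D60717 (iv F270575)
theorem F270589 : act 7 n60717 = n60511 := d27_2 (iv F265709) D60717 F270010
theorem F270590 : act 9 n60717 = n60533 := d29_2 F270557 D60717 (iv F270553)
def n60718 : Q := act 8 n59544
theorem D60718 : act 8 n59544 = n60718 := rfl
theorem F270591 : act 0 n60718 = n59972 := d7_1 D60718 F267994 (iv F265711)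
theorem F270592 : act 2 n60718 = n59546 := d22_1 D60718 (iv D59546) (iv F265712)
theorem F270593 : act 3 n60718 = n59789 := d28_1 D60718 (iv D59789) (iv D58583) (iv F260984) D59544
theorem F270594 : act 4 n60718 = n59965 := d33_1 D60718 F267960 (iv F265713)
theorem F270595 : act 6 n60718 = n60052 := d40_1 D60718 F268326 (iv F265714)
theorem F270596 : act 7 n60718 = n60028 := d42_1 D60718 F268206 (iv F265715)
def n60719 : Q := act 2 n59545
theorem D60719 : act 2 n59545 = n60719 := rfl
theorem F270597 : act 0 n60719 = n59882 := d1_1 D60719 F267607 (iv F265717)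
theorem F270598 : act 3 n60719 = n60001 := d17_2 D59545 D60719 F268087 F263129 (iv F260990)
theorem F270599 : act 4 n60719 = n59878 := d18_2 (iv F265719) D60719 (iv D59878)
theorem F270600 : act 5 n60719 = n60537 := d19_2 (iv F265720) D60719 F270072
theorem F270601 : act 6 n60719 = n59838 := d20_2 (iv F265721) D60719 F267384
theorem F270602 : act 7 n60719 = n59939 := d21_2 (iv F265722) D60719 F267860
theorem F270603 : act 8 n60719 = n60111 := d22_2 (iv F265723) D60719 F268592
theorem F270604 : act 9 n60719 = n59960 := d23_2 (iv F265724) D60719 F267939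
def n60720 : Q := act 9 n59546
theorem D60720 : act 9 n59546 = n60720 := rfl
theorem F270605 : act 0 n60720 = n59970 := d8_1 D60720 F267984 (iv F265725)
theorem F270606 : act 1 n60720 = n60085 := d16_1 D60720 F268475 (iv F265726)
theorem F270607 : act 3 n60720 = n59547 := d29_1 D60720 (iv D59547) (iv F265727)
theorem F270608 : act 4 n60720 = n59633 := d34_1 D60720 F266244 (iv F265728)
theorem F270609 : act 6 n60720 = n59637 := d41_1 D60720 F266270 (iv F265729)
theorem F270610 : act 7 n60720 = n59811 := d43_1 D60720 F267243 (iv F265730)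
theorem F270611 : act 8 n60720 = n60522 := d44_1 D60720 F270040 F265083 (iv F261000) D59546
def n60721 : Q := act 2 n59548
theorem D60721 : act 2 n59548 = n60721 := rfl
theorem F270612 : act 0 n60721 = n59698 := d1_1 D60721 (iv D59698) (iv F265738)
theorem F270613 : act 3 n60721 = n60277 := d17_2 D59548 D60721 (iv D60277) (iv D59039) (iv F261009)
theorem F270614 : act 5 n60721 = n59549 := d19_2 (iv F265740) D60721 (iv D59549)
theorem F270615 : act 6 n60721 = n59980 := d20_2 (iv F265741) D60721 (iv D59980)
theorem F270616 : act 7 n60721 = n59558 := d21_2 (iv F265742) D60721 (iv D59558)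
theorem F270617 : act 8 n60721 = n59567 := d22_2 (iv F265743) D60721 (iv D59567)
theorem F270618 : act 9 n60721 = n59657 := d23_2 (iv F265744) D60721 (iv D59657)
def n60722 : Q := act 4 n59548
theorem D60722 : act 4 n59548 = n60722 := rfl
theorem F270619 : act 0 n60722 = n59699 := d3_1 D60722 (iv D59699) (iv F265738)
theorem F270620 : act 1 n60722 = n60025 := d11_1 D60722 (iv D60025) (iv F265739)
theorem F270621 : act 3 n60722 = n60722 := d24_1 D60722 (iv D60722) (iv D59548) F261010 D59548
theorem F270622 : act 5 n60722 = n59678 := d30_2 (iv F265740) D60722 (iv D59678) F261739 (iv F261017)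
theorem F270623 : act 6 n60722 = n59981 := d31_2 (iv F265741) D60722 (iv D59981)
theorem F270624 : act 7 n60722 = n59559 := d32_2 (iv F265742) D60722 (iv D59559)
theorem F270625 : act 8 n60722 = n59568 := d33_2 (iv F265743) D60722 (iv D59568)
theorem F270626 : act 9 n60722 = n59658 := d34_2 (iv F265744) D60722 (iv D59658)
def n60723 : Q := act 1 n59549
theorem D60723 : act 1 n59549 = n60723 := rfl
theorem F270627 : act 2 n60723 = n60026 := d9_2 D59549 D60723 (iv D60026) (iv D58806) (iv F261016)
theorem F270628 : act 3 n60723 = n60685 := d10_2 (iv F265746) D60723 (iv D60685)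
theorem F270629 : act 4 n60723 = n59679 := d11_2 (iv F265747) D60723 (iv D59679)
theorem F270630 : act 6 n60723 = n59649 := d13_2 (iv F265748) D60723 (iv D59649)
theorem F270631 : act 7 n60723 = n59560 := d14_2 (iv F265749) D60723 (iv D59560)
theorem F270632 : act 8 n60723 = n59569 := d15_2 (iv F265750) D60723 (iv D59569)
theorem F270633 : act 9 n60723 = n59659 := d16_2 (iv F265751) D60723 (iv D59659)
def n60724 : Q := act 2 n59550
theorem D60724 : act 2 n59550 = n60724 := rfl
theorem F270634 : act 0 n60724 = n60248 := d1_1 D60724 (iv D60248) (iv F265752)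
theorem F270635 : act 3 n60724 = n59591 := d17_2 D59550 D60724 (iv D59591) (iv D58402) (iv F261024)
theorem F270636 : act 5 n60724 = n59908 := d19_2 (iv F265754) D60724 (iv D59908)
theorem F270637 : act 6 n60724 = n59585 := d20_2 (iv F265755) D60724 (iv D59585)
theorem F270638 : act 7 n60724 = n60105 := d21_2 (iv F265756) D60724 (iv D60105)
theorem F270639 : act 8 n60724 = n59910 := d22_2 (iv F265757) D60724 (iv D59910)
theorem F270640 : act 9 n60724 = n60369 := d23_2 (iv F265758) D60724 (iv D60369)
def n60725 : Q := act 4 n59550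
theorem D60725 : act 4 n59550 = n60725 := rfl
theorem F270641 : act 0 n60725 = n60249 := d3_1 D60725 (iv D60249) (iv F265752)
theorem F270642 : act 1 n60725 = n59556 := d11_1 D60725 (iv D59556) (iv F265753)
theorem F270643 : act 3 n60725 = n59552 := d24_1 D60725 (iv D59552) (iv D58370) (iv F261025) D59550
theorem F270644 : act 6 n60725 = n59586 := d31_2 (iv F265755) D60725 (iv D59586)
theorem F270645 : act 7 n60725 = n60106 := d32_2 (iv F265756) D60725 (iv D60106)
theorem F270646 : act 8 n60725 = n59911 := d33_2 (iv F265757) D60725 (iv D59911)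
theorem F270647 : act 9 n60725 = n60370 := d34_2 (iv F265758) D60725 (iv D60370)
def n60726 : Q := act 4 n59551
theorem D60726 : act 4 n59551 = n60726 := rfl
theorem F270648 : act 0 n60726 = n60213 := d3_1 D60726 (iv D60213) (iv F265759)
theorem F270649 : act 1 n60726 = n59684 := d11_1 D60726 (iv D59684) (iv F265760)
theorem F270650 : act 2 n60726 = n59552 := d18_1 D60726 (iv D59552) D59551
theorem F270651 : act 6 n60726 = n59619 := d31_2 (iv F265763) D60726 (iv D59619)
theorem F270652 : act 7 n60726 = n60131 := d32_2 (iv F265764) D60726 (iv D60131)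
theorem F270653 : act 8 n60726 = n60726 := d33_2 F265765 D60726 (iv D60726)
theorem F270654 : act 9 n60726 = n60321 := d34_2 (iv F265766) D60726 (iv D60321)
def n60727 : Q := act 5 n59552
theorem D60727 : act 5 n59552 = n60727 := rfl
theorem F270655 : act 0 n60727 = n60316 := d4_1 D60727 (iv D60316) (iv F265767)
theorem F270656 : act 1 n60727 = n59557 := d12_1 D60727 (iv D59557) (iv F265768)
theorem F270657 : act 4 n60727 = n60727 := d30_1 D60727 (iv D60727) (iv D59552) F261032 D59552
theorem F270658 : act 7 n60727 = n59693 := d36_2 (iv F265770) D60727 F266594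
theorem F270659 : act 8 n60727 = n60727 := d37_2 F265771 D60727 (iv D60727)
theorem F270660 : act 9 n60727 = n60336 := d38_2 (iv F265772) D60727 F269417
def n60728 : Q := act 2 n59553
theorem D60728 : act 2 n59553 = n60728 := rfl
theorem F270661 : act 0 n60728 = n60416 := d1_1 D60728 (iv D60416) (iv F265773)
theorem F270662 : act 3 n60728 = n59571 := d17_2 D59553 D60728 (iv D59571) (iv D58385) (iv F261039)
theorem F270663 : act 5 n60728 = n59903 := d19_2 (iv F265775) D60728 (iv D59903)
theorem F270664 : act 6 n60728 = n60294 := d20_2 (iv F265776) D60728 F269272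
theorem F270665 : act 7 n60728 = n60644 := d21_2 (iv F265777) D60728 (iv D60644)
theorem F270666 : act 8 n60728 = n59555 := d22_2 (iv F265778) D60728 (iv D59555)
theorem F270667 : act 9 n60728 = n60151 := d23_2 (iv F265779) D60728 (iv D60151)
def n60729 : Q := act 4 n59553
theorem D60729 : act 4 n59553 = n60729 := rfl
theorem F270668 : act 0 n60729 = n60417 := d3_1 D60729 (iv D60417) (iv F265773)
theorem F270669 : act 1 n60729 = n59911 := d11_1 D60729 (iv D59911) (iv F265774)
theorem F270670 : act 3 n60729 = n60729 := d24_1 D60729 (iv D60729) (iv D59553) F261040 D59553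
theorem F270671 : act 6 n60729 = n60339 := d31_2 (iv F265776) D60729 (iv D60339)
theorem F270672 : act 7 n60729 = n60645 := d32_2 (iv F265777) D60729 (iv D60645)
theorem F270673 : act 8 n60729 = n59556 := d33_2 (iv F265778) D60729 (iv D59556)
theorem F270674 : act 9 n60729 = n60152 := d34_2 (iv F265779) D60729 (iv D60152)
def n60730 : Q := act 2 n59554
theorem D60730 : act 2 n59554 = n60730 := rfl
theorem F270675 : act 0 n60730 = n60163 := d1_1 D60730 (iv D60163) (iv F265780)
theorem F270676 : act 3 n60730 = n59558 := d17_2 D59554 D60730 (iv D59558) (iv D58375) (iv F261047)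
theorem F270677 : act 5 n60730 = n59555 := d19_2 (iv F265782) D60730 (iv D59555)
theorem F270678 : act 6 n60730 = n60072 := d20_2 (iv F265783) D60730 (iv D60072)
theorem F270679 : act 7 n60730 = n60277 := d21_2 (iv F265784) D60730 (iv D60277)
theorem F270680 : act 8 n60730 = n59903 := d22_2 (iv F265785) D60730 (iv D59903)
theorem F270681 : act 9 n60730 = n60275 := d23_2 (iv F265786) D60730 (iv D60275)
def n60731 : Q := act 4 n59554
theorem D60731 : act 4 n59554 = n60731 := rfl
theorem F270682 : act 0 n60731 = n60164 := d3_1 D60731 (iv D60164) (iv F265780)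
theorem F270683 : act 1 n60731 = n59909 := d11_1 D60731 (iv D59909) (iv F265781)
theorem F270684 : act 3 n60731 = n60731 := d24_1 D60731 (iv D60731) (iv D59554) F261048 D59554
theorem F270685 : act 6 n60731 = n60073 := d31_2 (iv F265783) D60731 (iv D60073)
theorem F270686 : act 7 n60731 = n60278 := d32_2 (iv F265784) D60731 (iv D60278)
theorem F270687 : act 8 n60731 = n59904 := d33_2 (iv F265785) D60731 (iv D59904)
theorem F270688 : act 9 n60731 = n60276 := d34_2 (iv F265786) D60731 (iv D60276)
def n60732 : Q := act 1 n59555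
theorem D60732 : act 1 n59555 = n60732 := rfl
theorem F270689 : act 3 n60732 = n59560 := d10_2 (iv F265788) D60732 (iv D59560)
theorem F270690 : act 6 n60732 = n60356 := d13_2 (iv F265789) D60732 (iv D60356)
theorem F270691 : act 7 n60732 = n60685 := d14_2 (iv F265790) D60732 (iv D60685)
theorem F270692 : act 9 n60732 = n60371 := d16_2 (iv F265791) D60732 (iv D60371)
def n60733 : Q := act 4 n59555
theorem D60733 : act 4 n59555 = n60733 := rfl
theorem F270693 : act 0 n60733 = n60419 := d3_1 D60733 (iv D60419) (iv F265787)
theorem F270694 : act 2 n60733 = n59556 := d18_1 D60733 (iv D59556) D59555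
theorem F270695 : act 3 n60733 = n59691 := d24_1 D60733 (iv D59691) F261783 (iv F261070) (iv F265788)
theorem F270696 : act 6 n60733 = n60357 := d31_2 (iv F265789) D60733 (iv D60357)
theorem F270697 : act 7 n60733 = n60686 := d32_2 (iv F265790) D60733 (iv D60686)
theorem F270698 : act 9 n60733 = n60372 := d34_2 (iv F265791) D60733 (iv D60372)
def n60734 : Q := act 5 n59556
theorem D60734 : act 5 n59556 = n60734 := rfl
theorem F270699 : act 0 n60734 = n60420 := d4_1 D60734 (iv D60420) (iv F265792)
theorem F270700 : act 3 n60734 = n59557 := d25_1 D60734 (iv D59557) (iv F265793)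
theorem F270701 : act 7 n60734 = n60687 := d36_2 (iv F265795) D60734 (iv D60687)
theorem F270702 : act 9 n60734 = n60373 := d38_2 (iv F265796) D60734 (iv D60373)
def n60735 : Q := act 6 n59557
theorem D60735 : act 6 n59557 = n60735 := rfl
theorem F270703 : act 0 n60735 = n60318 := d5_1 D60735 F269342 (iv F265797)
theorem F270704 : act 2 n60735 = n59693 := d20_1 D60735 (iv D59693) (iv F265798)
theorem F270705 : act 4 n60735 = n60735 := d31_1 D60735 (iv D60735) F265799
theorem F270706 : act 5 n60735 = n60131 := d35_1 D60735 F268671 F263692 (iv F261059) D59557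
theorem F270707 : act 8 n60735 = n60735 := d40_2 F265801 D60735 (iv D60735)
theorem F270708 : act 9 n60735 = n60337 := d41_2 (iv F265802) D60735 F269423
def n60736 : Q := act 1 n59558
theorem D60736 : act 1 n59558 = n60736 := rfl
theorem F270709 : act 2 n60736 = n60030 := d9_2 D59558 D60736 (iv D60030) (iv D58810) (iv F261064)
theorem F270710 : act 5 n60736 = n59560 := d12_2 (iv F265804) D60736 (iv D59560)
theorem F270711 : act 6 n60736 = n60078 := d13_2 (iv F265805) D60736 (iv D60078)
theorem F270712 : act 8 n60736 = n59576 := d15_2 (iv F265806) D60736 (iv D59576)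
theorem F270713 : act 9 n60736 = n60374 := d16_2 (iv F265807) D60736 (iv D60374)
def n60737 : Q := act 4 n59558
theorem D60737 : act 4 n59558 = n60737 := rfl
theorem F270714 : act 0 n60737 = n60173 := d3_1 D60737 (iv D60173) (iv F265803)
theorem F270715 : act 2 n60737 = n59559 := d18_1 D60737 (iv D59559) D59558
theorem F270716 : act 5 n60737 = n59695 := d30_2 (iv F265804) D60737 (iv D59695) F261794 (iv F261070)
theorem F270717 : act 6 n60737 = n60079 := d31_2 (iv F265805) D60737 (iv D60079)
theorem F270718 : act 8 n60737 = n59577 := d33_2 (iv F265806) D60737 (iv D59577)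
theorem F270719 : act 9 n60737 = n60375 := d34_2 (iv F265807) D60737 (iv D60375)
def n60738 : Q := act 0 n59560
theorem D60738 : act 0 n59560 = n60738 := rfl
theorem F270720 : act 1 n60738 = n60421 := d0_2 D59560 D60738 (iv D60421) (iv D59200) (iv F261069)
theorem F270721 : act 2 n60738 = n60032 := d1_2 (iv F265815) D60738 (iv D60032)
theorem F270722 : act 4 n60738 = n59696 := d3_2 (iv F265816) D60738 (iv D59696)
theorem F270723 : act 6 n60738 = n60358 := d5_2 (iv F265817) D60738 (iv D60358)
theorem F270724 : act 8 n60738 = n59578 := d7_2 (iv F265818) D60738 (iv D59578)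
theorem F270725 : act 9 n60738 = n60376 := d8_2 (iv F265819) D60738 (iv D60376)
def n60739 : Q := act 1 n59561
theorem D60739 : act 1 n59561 = n60739 := rfl
theorem F270726 : act 2 n60739 = n60035 := d9_2 D59561 D60739 (iv D60035) (iv D58814) (iv F261075)
theorem F270727 : act 3 n60739 = n60463 := d10_2 (iv F265821) D60739 (iv D60463)
theorem F270728 : act 4 n60739 = n59700 := d11_2 (iv F265822) D60739 (iv D59700)
theorem F270729 : act 5 n60739 = n60547 := d12_2 (iv F265823) D60739 (iv D60547)
theorem F270730 : act 6 n60739 = n59569 := d13_2 (iv F265824) D60739 (iv D59569)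
theorem F270731 : act 7 n60739 = n59648 := d14_2 (iv F265825) D60739 (iv D59648)
theorem F270732 : act 8 n60739 = n59649 := d15_2 (iv F265826) D60739 (iv D59649)
theorem F270733 : act 9 n60739 = n59584 := d16_2 (iv F265827) D60739 (iv D59584)
def n60740 : Q := act 2 n59562
theorem D60740 : act 2 n59562 = n60740 := rfl
theorem F270734 : act 0 n60740 = n60151 := d1_1 D60740 (iv D60151) (iv F265828)
theorem F270735 : act 3 n60740 = n60644 := d17_2 D59562 D60740 (iv D60644) (iv D59453) (iv F261084)
theorem F270736 : act 5 n60740 = n60146 := d19_2 (iv F265830) D60740 (iv D60146)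
theorem F270737 : act 6 n60740 = n60426 := d20_2 (iv F265831) D60740 (iv D60426)
theorem F270738 : act 7 n60740 = n59571 := d21_2 (iv F265832) D60740 (iv D59571)
theorem F270739 : act 8 n60740 = n59563 := d22_2 (iv F265833) D60740 (iv D59563)
theorem F270740 : act 9 n60740 = n60416 := d23_2 (iv F265834) D60740 (iv D60416)
def n60741 : Q := act 4 n59562
theorem D60741 : act 4 n59562 = n60741 := rfl
theorem F270741 : act 0 n60741 = n60152 := d3_1 D60741 (iv D60152) (iv F265828)
theorem F270742 : act 1 n60741 = n60381 := d11_1 D60741 (iv D60381) (iv F265829)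
theorem F270743 : act 3 n60741 = n60741 := d24_1 D60741 (iv D60741) (iv D59562) F261085 D59562
theorem F270744 : act 6 n60741 = n60427 := d31_2 (iv F265831) D60741 (iv D60427)
theorem F270745 : act 7 n60741 = n59572 := d32_2 (iv F265832) D60741 (iv D59572)
theorem F270746 : act 8 n60741 = n59564 := d33_2 (iv F265833) D60741 (iv D59564)
theorem F270747 : act 9 n60741 = n60417 := d34_2 (iv F265834) D60741 (iv D60417)
def n60742 : Q := act 1 n59563
theorem D60742 : act 1 n59563 = n60742 := rfl
theorem F270748 : act 2 n60742 = n60385 := d9_2 D59563 D60742 (iv D60385) (iv D59160) (iv F261091)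
theorem F270749 : act 3 n60742 = n59569 := d10_2 (iv F265836) D60742 (iv D59569)
theorem F270750 : act 5 n60742 = n60377 := d12_2 (iv F265837) D60742 (iv D60377)
theorem F270751 : act 6 n60742 = n60463 := d13_2 (iv F265838) D60742 (iv D60463)
theorem F270752 : act 7 n60742 = n59573 := d14_2 (iv F265839) D60742 (iv D59573)
theorem F270753 : act 9 n60742 = n59587 := d16_2 (iv F265840) D60742 (iv D59587)
def n60743 : Q := act 4 n59563
theorem D60743 : act 4 n59563 = n60743 := rfl
theorem F270754 : act 0 n60743 = n60656 := d3_1 D60743 (iv D60656) (iv F265835)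
theorem F270755 : act 2 n60743 = n59564 := d18_1 D60743 (iv D59564) D59563
theorem F270756 : act 3 n60743 = n59706 := d24_1 D60743 (iv D59706) F261844 (iv F261117) (iv F265836)
theorem F270757 : act 6 n60743 = n60464 := d31_2 (iv F265838) D60743 (iv D60464)
theorem F270758 : act 7 n60743 = n59574 := d32_2 (iv F265839) D60743 (iv D59574)
theorem F270759 : act 9 n60743 = n59588 := d34_2 (iv F265840) D60743 (iv D59588)
def n60744 : Q := act 5 n59564
theorem D60744 : act 5 n59564 = n60744 := rfl
theorem F270760 : act 0 n60744 = n60411 := d4_1 D60744 F269722 (iv F265841)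
theorem F270761 : act 1 n60744 = n60094 := d12_1 D60744 F268514 (iv F265842)
theorem F270762 : act 3 n60744 = n59565 := d25_1 D60744 (iv D59565) (iv F265843)
theorem F270763 : act 4 n60744 = n60379 := d30_1 D60744 (iv D60379) (iv D59155) (iv F261092) D59564
theorem F270764 : act 7 n60744 = n59575 := d36_2 (iv F265845) D60744 (iv D59575)
theorem F270765 : act 9 n60744 = n59589 := d38_2 (iv F265846) D60744 (iv D59589)
def n60745 : Q := act 6 n59565
theorem D60745 : act 6 n59565 = n60745 := rfl
theorem F270766 : act 0 n60745 = n59684 := d5_1 D60745 F266554 (iv F265847)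
theorem F270767 : act 1 n60745 = n60092 := d13_1 D60745 F268504 (iv F265848)
theorem F270768 : act 2 n60745 = n59681 := d20_1 D60745 F266542 (iv F265849)
theorem F270769 : act 4 n60745 = n59579 := d31_1 D60745 (iv D59579) (iv F265850)
theorem F270770 : act 5 n60745 = n60507 := d35_1 D60745 (iv D60507) (iv D59289) (iv F261099) D59565
theorem F270771 : act 7 n60745 = n59905 := d39_2 (iv F265851) D60745 F267717 F264318 (iv F261147)
theorem F270772 : act 8 n60745 = n60745 := d40_2 F265852 D60745 (iv D60745)
theorem F270773 : act 9 n60745 = n59590 := d41_2 (iv F265853) D60745 (iv D59590)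
def n60746 : Q := act 2 n59566
theorem D60746 : act 2 n59566 = n60746 := rfl
theorem F270774 : act 0 n60746 = n60187 := d1_1 D60746 (iv D60187) (iv F265854)
theorem F270775 : act 3 n60746 = n60369 := d17_2 D59566 D60746 (iv D60369) (iv D59146) (iv F261105)
theorem F270776 : act 5 n60746 = n59933 := d19_2 (iv F265856) D60746 (iv D59933)
theorem F270777 : act 6 n60746 = n59567 := d20_2 (iv F265857) D60746 (iv D59567)
theorem F270778 : act 7 n60746 = n60084 := d21_2 (iv F265858) D60746 (iv D60084)
theorem F270779 : act 8 n60746 = n59980 := d22_2 (iv F265859) D60746 (iv D59980)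
theorem F270780 : act 9 n60746 = n59591 := d23_2 (iv F265860) D60746 (iv D59591)
def n60747 : Q := act 4 n59566
theorem D60747 : act 4 n59566 = n60747 := rfl
theorem F270781 : act 0 n60747 = n60188 := d3_1 D60747 (iv D60188) (iv F265854)
theorem F270782 : act 1 n60747 = n59811 := d11_1 D60747 (iv D59811) (iv F265855)
theorem F270783 : act 3 n60747 = n59581 := d24_1 D60747 (iv D59581) (iv D58393) (iv F261106) D59566
theorem F270784 : act 6 n60747 = n59568 := d31_2 (iv F265857) D60747 (iv D59568)
theorem F270785 : act 7 n60747 = n60085 := d32_2 (iv F265858) D60747 (iv D60085)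
theorem F270786 : act 8 n60747 = n59981 := d33_2 (iv F265859) D60747 (iv D59981)
theorem F270787 : act 9 n60747 = n59592 := d34_2 (iv F265860) D60747 (iv D59592)
def n60748 : Q := act 1 n59567
theorem D60748 : act 1 n59567 = n60748 := rfl
theorem F270788 : act 2 n60748 = n60036 := d9_2 D59567 D60748 (iv D60036) (iv D58815) (iv F261112)
theorem F270789 : act 3 n60748 = n60377 := d10_2 (iv F265862) D60748 (iv D60377)
theorem F270790 : act 5 n60748 = n59569 := d12_2 (iv F265863) D60748 (iv D59569)
theorem F270791 : act 7 n60748 = n59576 := d14_2 (iv F265864) D60748 (iv D59576)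
theorem F270792 : act 9 n60748 = n59593 := d16_2 (iv F265865) D60748 (iv D59593)
def n60749 : Q := act 4 n59567
theorem D60749 : act 4 n59567 = n60749 := rfl
theorem F270793 : act 0 n60749 = n60205 := d3_1 D60749 (iv D60205) (iv F265861)
theorem F270794 : act 2 n60749 = n59568 := d18_1 D60749 (iv D59568) D59567
theorem F270795 : act 5 n60749 = n59711 := d30_2 (iv F265863) D60749 (iv D59711) F261865 (iv F261117)
theorem F270796 : act 7 n60749 = n59577 := d32_2 (iv F265864) D60749 (iv D59577)
theorem F270797 : act 9 n60749 = n59594 := d34_2 (iv F265865) D60749 (iv D59594)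
def n60750 : Q := act 0 n59569
theorem D60750 : act 0 n59569 = n60750 := rfl
theorem F270798 : act 1 n60750 = n60660 := d0_2 D59569 D60750 (iv D60660) (iv D59469) (iv F261116)
theorem F270799 : act 2 n60750 = n60038 := d1_2 (iv F265872) D60750 (iv D60038)
theorem F270800 : act 4 n60750 = n59712 := d3_2 (iv F265873) D60750 (iv D59712)
theorem F270801 : act 7 n60750 = n59578 := d6_2 (iv F265874) D60750 (iv D59578)
theorem F270802 : act 9 n60750 = n59595 := d8_2 (iv F265875) D60750 (iv D59595)
def n60751 : Q := act 2 n59570
theorem D60751 : act 2 n59570 = n60751 := rfl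
theorem F270803 : act 0 n60751 = n60644 := d1_1 D60751 (iv D60644) (iv F265876)
theorem F270804 : act 3 n60751 = n60151 := d17_2 D59570 D60751 (iv D60151) (iv D58927) (iv F261122)
theorem F270805 : act 5 n60751 = n59682 := d19_2 (iv F265878) D60751 (iv D59682)
theorem F270806 : act 6 n60751 = n59703 := d20_2 (iv F265879) D60751 (iv D59703)
theorem F270807 : act 7 n60751 = n60416 := d21_2 (iv F265880) D60751 (iv D60416)
theorem F270808 : act 8 n60751 = n59604 := d22_2 (iv F265881) D60751 (iv D59604)
theorem F270809 : act 9 n60751 = n59571 := d23_2 (iv F265882) D60751 (iv D59571)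
def n60752 : Q := act 4 n59570
theorem D60752 : act 4 n59570 = n60752 := rfl
theorem F270810 : act 0 n60752 = n60645 := d3_1 D60752 (iv D60645) (iv F265876)
theorem F270811 : act 1 n60752 = n59689 := d11_1 D60752 (iv D59689) (iv F265877)
theorem F270812 : act 3 n60752 = n60752 := d24_1 D60752 (iv D60752) (iv D59570) F261123 D59570
theorem F270813 : act 6 n60752 = n59704 := d31_2 (iv F265879) D60752 (iv D59704)
theorem F270814 : act 7 n60752 = n60417 := d32_2 (iv F265880) D60752 (iv D60417)
theorem F270815 : act 8 n60752 = n59605 := d33_2 (iv F265881) D60752 (iv D59605)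
theorem F270816 : act 9 n60752 = n59572 := d34_2 (iv F265882) D60752 (iv D59572)
def n60753 : Q := act 1 n59571
theorem D60753 : act 1 n59571 = n60753 := rfl
theorem F270817 : act 2 n60753 = n60398 := d9_2 D59571 D60753 (iv D60398) (iv D59173) (iv F261129)
theorem F270818 : act 5 n60753 = n60392 := d12_2 (iv F265884) D60753 (iv D60392)
theorem F270819 : act 6 n60753 = n60293 := d13_2 (iv F265885) D60753 F269268
theorem F270820 : act 8 n60753 = n59573 := d15_2 (iv F265886) D60753 (iv D59573)
def n60754 : Q := act 4 n59571
theorem D60754 : act 4 n59571 = n60754 := rfl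
theorem F270821 : act 0 n60754 = n60647 := d3_1 D60754 (iv D60647) (iv F265883)
theorem F270822 : act 2 n60754 = n59572 := d18_1 D60754 (iv D59572) D59571
theorem F270823 : act 6 n60754 = n60287 := d31_2 (iv F265885) D60754 F269246
theorem F270824 : act 8 n60754 = n59574 := d33_2 (iv F265886) D60754 (iv D59574)
def n60755 : Q := act 5 n59572
theorem D60755 : act 5 n59572 = n60755 := rfl
theorem F270825 : act 0 n60755 = n60648 := d4_1 D60755 (iv D60648) (iv F265887)
theorem F270826 : act 1 n60755 = n60095 := d12_1 D60755 F268520 (iv F265888)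
theorem F270827 : act 3 n60755 = n60755 := d25_1 D60755 (iv D60755) F265889
theorem F270828 : act 4 n60755 = n60394 := d30_1 D60755 (iv D60394) (iv D59169) (iv F261130) D59572
theorem F270829 : act 6 n60755 = n60281 := d35_2 (iv F265890) D60755 (iv D60281) F264186 D59046
theorem F270830 : act 8 n60755 = n59575 := d37_2 (iv F265891) D60755 (iv D59575)
def n60756 : Q := act 0 n59573
theorem D60756 : act 0 n59573 = n60756 := rfl
theorem F270831 : act 1 n60756 = n60657 := d0_2 D59573 D60756 (iv D60657) (iv D59464) (iv F261133)
theorem F270832 : act 2 n60756 = n60403 := d1_2 (iv F265892) D60756 (iv D60403)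
theorem F270833 : act 3 n60756 = n59578 := d2_2 (iv F265893) D60756 (iv D59578)
theorem F270834 : act 5 n60756 = n60395 := d4_2 (iv F265894) D60756 (iv D60395)
theorem F270835 : act 6 n60756 = n60305 := d5_2 (iv F265895) D60756 F269305
theorem F270836 : act 9 n60756 = n59612 := d8_2 (iv F265896) D60756 (iv D59612)
def n60757 : Q := act 4 n59573
theorem D60757 : act 4 n59573 = n60757 := rfl
theorem F270837 : act 1 n60757 = n59574 := d11_1 D60757 (iv D59574) D59573
theorem F270838 : act 2 n60757 = n60404 := d18_1 D60757 (iv D60404) (iv F265892)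
theorem F270839 : act 3 n60757 = n59725 := d24_1 D60757 (iv D59725) F261921 (iv F261162) (iv F265893)
theorem F270840 : act 6 n60757 = n60303 := d31_2 (iv F265895) D60757 F269300
theorem F270841 : act 9 n60757 = n59613 := d34_2 (iv F265896) D60757 (iv D59613)
def n60758 : Q := act 5 n59574
theorem D60758 : act 5 n59574 = n60758 := rfl
theorem F270842 : act 0 n60758 = n60643 := d4_1 D60758 F270306 (iv F265897)
theorem F270843 : act 2 n60758 = n59575 := d19_1 D60758 (iv D59575) (iv F265898)
theorem F270844 : act 3 n60758 = n59726 := d25_1 D60758 (iv D59726) (iv F265899)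
theorem F270845 : act 4 n60758 = n60397 := d30_1 D60758 (iv D60397) (iv D59171) (iv F261135) D59574
theorem F270846 : act 6 n60758 = n60300 := d35_2 (iv F265900) D60758 (iv D60300) F264230 D59061
theorem F270847 : act 9 n60758 = n59614 := d38_2 (iv F265901) D60758 (iv D59614)
def n60759 : Q := act 0 n59576
theorem D60759 : act 0 n59576 = n60759 := rfl
theorem F270848 : act 1 n60759 = n60206 := d0_2 D59576 D60759 (iv D60206) (iv D58974) (iv F261150)
theorem F270849 : act 2 n60759 = n60039 := d1_2 (iv F265908) D60759 (iv D60039)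
theorem F270850 : act 3 n60759 = n60395 := d2_2 (iv F265909) D60759 (iv D60395)
theorem F270851 : act 5 n60759 = n59578 := d4_2 (iv F265910) D60759 (iv D59578)
theorem F270852 : act 6 n60759 = n60089 := d5_2 (iv F265911) D60759 (iv D60089)
theorem F270853 : act 9 n60759 = n59616 := d8_2 (iv F265912) D60759 (iv D59616)
def n60760 : Q := act 4 n59576
theorem D60760 : act 4 n59576 = n60760 := rfl
theorem F270854 : act 1 n60760 = n59577 := d11_1 D60760 (iv D59577) D59576
theorem F270855 : act 2 n60760 = n60040 := d18_1 D60760 (iv D60040) (iv F265908)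
theorem F270856 : act 5 n60760 = n59732 := d30_2 (iv F265910) D60760 (iv D59732) F261954 (iv F261162)
theorem F270857 : act 6 n60760 = n60090 := d31_2 (iv F265911) D60760 (iv D60090)
theorem F270858 : act 9 n60760 = n59617 := d34_2 (iv F265912) D60760 (iv D59617)
def n60761 : Q := act 3 n59577
theorem D60761 : act 3 n59577 = n60761 := rfl
theorem F270859 : act 0 n60761 = n60208 := d2_1 D60761 (iv D60208) (iv F265913)
theorem F270860 : act 2 n60761 = n59583 := d17_1 D60761 (iv D59583) F261194 (iv F261157) (iv F265914)
theorem F270861 : act 4 n60761 = n60330 := d24_2 D59577 D60761 F269385 (iv D59171) (iv F261151)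
theorem F270862 : act 5 n60761 = n59733 := d25_2 (iv F265915) D60761 (iv D59733)
theorem F270863 : act 6 n60761 = n60091 := d26_2 (iv F265916) D60761 (iv D60091)
theorem F270864 : act 9 n60761 = n59618 := d29_2 (iv F265917) D60761 (iv D59618)
def n60762 : Q := act 4 n59580
theorem D60762 : act 4 n59580 = n60762 := rfl
theorem F270865 : act 0 n60762 = n60212 := d3_1 D60762 (iv D60212) (iv F265931)
theorem F270866 : act 1 n60762 = n59905 := d11_1 D60762 (iv D59905) (iv F265932)
theorem F270867 : act 2 n60762 = n59581 := d18_1 D60762 (iv D59581) D59580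
theorem F270868 : act 6 n60762 = n59582 := d31_2 (iv F265935) D60762 (iv D59582)
theorem F270869 : act 7 n60762 = n60092 := d32_2 (iv F265936) D60762 (iv D60092)
theorem F270870 : act 8 n60762 = n60762 := d33_2 F265937 D60762 (iv D60762)
theorem F270871 : act 9 n60762 = n59622 := d34_2 (iv F265938) D60762 (iv D59622)
theorem F270872 : act 5 n60335 = n60762 := d38_3 F270871 (iv F266171) D60335
def n60763 : Q := act 5 n59581
theorem D60763 : act 5 n59581 = n60763 := rfl
theorem F270873 : act 0 n60763 = n60012 := d4_1 D60763 F268126 (iv F265939)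
theorem F270874 : act 1 n60763 = n59812 := d12_1 D60763 (iv D59812) (iv F265940)
theorem F270875 : act 2 n60763 = n60335 := d19_1 D60763 F270872 F270867
theorem F270876 : act 4 n60763 = n60763 := d30_1 D60763 (iv D60763) (iv D59581) F261174 D59581
theorem F270877 : act 6 n60763 = n59734 := d35_2 (iv F265941) D60763 (iv D59734) F261964 (iv F261188)
theorem F270878 : act 7 n60763 = n60093 := d36_2 (iv F265942) D60763 (iv D60093)
theorem F270879 : act 8 n60763 = n60763 := d37_2 F265943 D60763 (iv D60763)
theorem F270880 : act 9 n60763 = n59623 := d38_2 (iv F265944) D60763 (iv D59623)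
def n60764 : Q := act 3 n59582
theorem D60764 : act 3 n59582 = n60764 := rfl
theorem F270881 : act 0 n60764 = n60217 := d2_1 D60764 (iv D60217) (iv F265945)
theorem F270882 : act 1 n60764 = n60297 := d10_1 D60764 F269281 (iv F265946)
theorem F270883 : act 4 n60764 = n60324 := d24_2 D59582 D60764 (iv D60324) (iv D59080) (iv F261181)
theorem F270884 : act 5 n60764 = n59735 := d25_2 (iv F265948) D60764 (iv D59735)
theorem F270885 : act 7 n60764 = n59583 := d27_2 (iv F265949) D60764 (iv D59583)
theorem F270886 : act 9 n60764 = n59624 := d29_2 (iv F265951) D60764 (iv D59624)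
def n60765 : Q := act 8 n59583
theorem D60765 : act 8 n59583 = n60765 := rfl
theorem F270887 : act 0 n60765 = n60218 := d7_1 D60765 (iv D60218) (iv F265952)
theorem F270888 : act 1 n60765 = n60281 := d15_1 D60765 F269234 (iv F265953)
theorem F270889 : act 3 n60765 = n60765 := d28_1 D60765 (iv D60765) (iv D59583) F261197 D59583
theorem F270890 : act 4 n60765 = n60331 := d33_1 D60765 (iv D60331) (iv F265954)
theorem F270891 : act 5 n60765 = n59736 := d37_1 D60765 (iv D59736) (iv F265955)
theorem F270892 : act 6 n60765 = n60095 := d40_1 D60765 (iv D60095) (iv F265956)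
def n60766 : Q := act 0 n59584
theorem D60766 : act 0 n59584 = n60766 := rfl
theorem F270893 : act 1 n60766 = n60678 := d0_2 D59584 D60766 (iv D60678) (iv D59490) (iv F261199)
theorem F270894 : act 2 n60766 = n60044 := d1_2 (iv F265958) D60766 (iv D60044)
theorem F270895 : act 3 n60766 = n60466 := d2_2 (iv F265959) D60766 (iv D60466)
theorem F270896 : act 4 n60766 = n59742 := d3_2 (iv F265960) D60766 (iv D59742)
theorem F270897 : act 5 n60766 = n60549 := d4_2 (iv F265961) D60766 (iv D60549)
theorem F270898 : act 6 n60766 = n59595 := d5_2 (iv F265962) D60766 (iv D59595)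
theorem F270899 : act 7 n60766 = n60350 := d6_2 (iv F265963) D60766 (iv D60350)
theorem F270900 : act 8 n60766 = n60344 := d7_2 (iv F265964) D60766 (iv D60344)
def n60767 : Q := act 1 n59585
theorem D60767 : act 1 n59585 = n60767 := rfl
theorem F270901 : act 2 n60767 = n60356 := d9_2 D59585 D60767 (iv D60356) (iv D59128) (iv F261207)
theorem F270902 : act 3 n60767 = n59593 := d10_2 (iv F265966) D60767 (iv D59593)
theorem F270903 : act 5 n60767 = n59587 := d12_2 (iv F265967) D60767 (iv D59587)
theorem F270904 : act 7 n60767 = n59609 := d14_2 (iv F265968) D60767 (iv D59609)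
theorem F270905 : act 8 n60767 = n60446 := d15_2 (iv F265969) D60767 (iv D60446)
theorem F270906 : act 9 n60767 = n60377 := d16_2 (iv F265970) D60767 (iv D60377)
def n60768 : Q := act 4 n59585
theorem D60768 : act 4 n59585 = n60768 := rfl
theorem F270907 : act 0 n60768 = n60296 := d3_1 D60768 (iv D60296) (iv F265965)
theorem F270908 : act 2 n60768 = n59586 := d18_1 D60768 (iv D59586) D59585
theorem F270909 : act 7 n60768 = n59610 := d32_2 (iv F265968) D60768 (iv D59610)
theorem F270910 : act 8 n60768 = n60447 := d33_2 (iv F265969) D60768 (iv D60447)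
theorem F270911 : act 9 n60768 = n60378 := d34_2 (iv F265970) D60768 (iv D60378)
def n60769 : Q := act 5 n59586
theorem D60769 : act 5 n59586 = n60769 := rfl
theorem F270912 : act 0 n60769 = n60297 := d4_1 D60769 (iv D60297) (iv F265971)
theorem F270913 : act 1 n60769 = n60132 := d12_1 D60769 F268676 (iv F265972)
theorem F270914 : act 3 n60769 = n59620 := d25_1 D60769 (iv D59620) (iv F265973)
theorem F270915 : act 4 n60769 = n59589 := d30_1 D60769 (iv D59589) (iv D58400) (iv F261208) D59586
theorem F270916 : act 7 n60769 = n59611 := d36_2 (iv F265974) D60769 (iv D59611)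
theorem F270917 : act 8 n60769 = n60448 := d37_2 (iv F265975) D60769 (iv D60448)
theorem F270918 : act 9 n60769 = n60379 := d38_2 (iv F265976) D60769 (iv D60379)
def n60770 : Q := act 0 n59587
theorem D60770 : act 0 n59587 = n60770 := rfl
theorem F270919 : act 1 n60770 = n60694 := d0_2 D59587 D60770 (iv D60694) (iv D59510) (iv F261212)
theorem F270920 : act 2 n60770 = n60605 := d1_2 (iv F265977) D60770 (iv D60605)
theorem F270921 : act 3 n60770 = n59595 := d2_2 (iv F265978) D60770 (iv D59595)
theorem F270922 : act 6 n60770 = n60466 := d5_2 (iv F265979) D60770 (iv D60466)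
theorem F270923 : act 7 n60770 = n59612 := d6_2 (iv F265980) D60770 (iv D59612)
theorem F270924 : act 8 n60770 = n60449 := d7_2 (iv F265981) D60770 (iv D60449)
def n60771 : Q := act 4 n59587
theorem D60771 : act 4 n59587 = n60771 := rfl
theorem F270925 : act 1 n60771 = n59588 := d11_1 D60771 (iv D59588) D59587
theorem F270926 : act 2 n60771 = n60606 := d18_1 D60771 (iv D60606) (iv F265977)
theorem F270927 : act 3 n60771 = n59749 := d24_1 D60771 (iv D59749) F262042 (iv F261245) (iv F265978)
theorem F270928 : act 6 n60771 = n60467 := d31_2 (iv F265979) D60771 (iv D60467)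
theorem F270929 : act 7 n60771 = n59613 := d32_2 (iv F265980) D60771 (iv D59613)
theorem F270930 : act 8 n60771 = n60450 := d33_2 (iv F265981) D60771 (iv D60450)
def n60772 : Q := act 5 n59588
theorem D60772 : act 5 n59588 = n60772 := rfl
theorem F270931 : act 0 n60772 = n60672 := d4_1 D60772 F270376 (iv F265982)
theorem F270932 : act 2 n60772 = n59589 := d19_1 D60772 (iv D59589) (iv F265983)
theorem F270933 : act 3 n60772 = n59750 := d25_1 D60772 (iv D59750) (iv F265984)
theorem F270934 : act 7 n60772 = n59614 := d36_2 (iv F265986) D60772 (iv D59614)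
theorem F270935 : act 8 n60772 = n60451 := d37_2 (iv F265987) D60772 (iv D60451)
def n60773 : Q := act 6 n59589
theorem D60773 : act 6 n59589 = n60773 := rfl
theorem F270936 : act 0 n60773 = n60408 := d5_1 D60773 F269711 (iv F265988)
theorem F270937 : act 1 n60773 = n60133 := d13_1 D60773 F268680 (iv F265989)
theorem F270938 : act 3 n60773 = n59590 := d26_1 D60773 (iv D59590) (iv F265990)
theorem F270939 : act 5 n60773 = n60469 := d35_1 D60773 (iv D60469) (iv D59244) (iv F261220) D59589
theorem F270940 : act 7 n60773 = n60156 := d39_2 (iv F265991) D60773 F268769 F266130 (iv D59615)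
theorem F270941 : act 8 n60773 = n60338 := d40_2 (iv F265992) D60773 F269425
def n60774 : Q := act 1 n59591
theorem D60774 : act 1 n59591 = n60774 := rfl
theorem F270942 : act 2 n60774 = n60027 := d9_2 D59591 D60774 (iv D60027) (iv D58807) (iv F261230)
theorem F270943 : act 5 n60774 = n59935 := d12_2 (iv F266001) D60774 (iv D59935)
theorem F270944 : act 6 n60774 = n59593 := d13_2 (iv F266002) D60774 (iv D59593)
theorem F270945 : act 7 n60774 = n60110 := d14_2 (iv F266003) D60774 (iv D60110)
theorem F270946 : act 8 n60774 = n59938 := d15_2 (iv F266004) D60774 (iv D59938)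
def n60775 : Q := act 4 n59591
theorem D60775 : act 4 n59591 = n60775 := rfl
theorem F270947 : act 0 n60775 = n60258 := d3_1 D60775 (iv D60258) (iv F266000)
theorem F270948 : act 2 n60775 = n59592 := d18_1 D60775 (iv D59592) D59591
theorem F270949 : act 6 n60775 = n59594 := d31_2 (iv F266002) D60775 (iv D59594)
theorem F270950 : act 7 n60775 = n60111 := d32_2 (iv F266003) D60775 (iv D60111)
theorem F270951 : act 8 n60775 = n59939 := d33_2 (iv F266004) D60775 (iv D59939)
def n60776 : Q := act 5 n59592
theorem D60776 : act 5 n59592 = n60776 := rfl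
theorem F270952 : act 0 n60776 = n59992 := d4_1 D60776 F268066 (iv F266005)
theorem F270953 : act 1 n60776 = n60029 := d12_1 D60776 (iv D60029) (iv F266006)
theorem F270954 : act 3 n60776 = n59623 := d25_1 D60776 (iv D59623) (iv F266007)
theorem F270955 : act 4 n60776 = n59937 := d30_1 D60776 (iv D59937) (iv D58722) (iv F261231) D59592
theorem F270956 : act 6 n60776 = n59756 := d35_2 (iv F266008) D60776 (iv D59756) F262073 (iv F261241)
theorem F270957 : act 7 n60776 = n60112 := d36_2 (iv F266009) D60776 (iv D60112)
theorem F270958 : act 8 n60776 = n59884 := d37_2 (iv F266010) D60776 F267622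
def n60777 : Q := act 0 n59593
theorem D60777 : act 0 n59593 = n60777 := rfl
theorem F270959 : act 1 n60777 = n60306 := d0_2 D59593 D60777 (iv D60306) (iv D59064) (iv F261235)
theorem F270960 : act 2 n60777 = n60046 := d1_2 (iv F266011) D60777 (iv D60046)
theorem F270961 : act 5 n60777 = n59595 := d4_2 (iv F266012) D60777 (iv D59595)
theorem F270962 : act 7 n60777 = n59616 := d6_2 (iv F266013) D60777 (iv D59616)
def n60778 : Q := act 4 n59593
theorem D60778 : act 4 n59593 = n60778 := rfl
theorem F270963 : act 1 n60778 = n59594 := d11_1 D60778 (iv D59594) D59593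
theorem F270964 : act 2 n60778 = n60047 := d18_1 D60778 (iv D60047) (iv F266011)
theorem F270965 : act 5 n60778 = n59758 := d30_2 (iv F266012) D60778 (iv D59758) F262077 (iv F261245)
theorem F270966 : act 7 n60778 = n59617 := d32_2 (iv F266013) D60778 (iv D59617)
theorem F270967 : act 8 n60778 = n60544 := d33_2 F270466 D60778 (iv F270462)
def n60779 : Q := act 3 n59594
theorem D60779 : act 3 n59594 = n60779 := rfl
theorem F270968 : act 0 n60779 = n60308 := d2_1 D60779 (iv D60308) (iv F266014)
theorem F270969 : act 2 n60779 = n59624 := d17_1 D60779 (iv D59624) F261378 (iv F261240) (iv F266015)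
theorem F270970 : act 5 n60779 = n59759 := d25_2 (iv F266016) D60779 (iv D59759)
theorem F270971 : act 7 n60779 = n59618 := d27_2 (iv F266017) D60779 (iv D59618)
theorem F270972 : act 8 n60170 = n60779 := d37_0 F270970 (iv F266951) D60170
def n60780 : Q := act 2 n59596
theorem D60780 : act 2 n59596 = n60780 := rfl
theorem F270973 : act 0 n60780 = n60116 := d1_1 D60780 (iv D60116) (iv F266023)
theorem F270974 : act 3 n60780 = n59717 := d17_2 D59596 D60780 (iv D59717) (iv D58517) (iv F261249)
theorem F270975 : act 5 n60780 = n59686 := d19_2 (iv F266025) D60780 (iv D59686)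
theorem F270976 : act 6 n60780 = n59701 := d20_2 (iv F266026) D60780 (iv D59701)
theorem F270977 : act 7 n60780 = n60290 := d21_2 (iv F266027) D60780 F269256
theorem F270978 : act 8 n60780 = n59688 := d22_2 (iv F266028) D60780 (iv D59688)
theorem F270979 : act 9 n60780 = n59597 := d23_2 (iv F266029) D60780 (iv D59597)
def n60781 : Q := act 4 n59596
theorem D60781 : act 4 n59596 = n60781 := rfl
theorem F270980 : act 0 n60781 = n60058 := d3_1 D60781 F268346 (iv F266023)
theorem F270981 : act 1 n60781 = n59605 := d11_1 D60781 (iv D59605) (iv F266024)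
theorem F270982 : act 3 n60781 = n59629 := d24_1 D60781 (iv D59629) (iv D58439) (iv F261250) D59596
theorem F270983 : act 6 n60781 = n59702 := d31_2 (iv F266026) D60781 (iv D59702)
theorem F270984 : act 7 n60781 = n60013 := d32_2 (iv F266027) D60781 F268132
theorem F270985 : act 8 n60781 = n59689 := d33_2 (iv F266028) D60781 (iv D59689)
theorem F270986 : act 9 n60781 = n59598 := d34_2 (iv F266029) D60781 (iv D59598)
theorem F270987 : act 5 n60135 = n60781 := d38_3 F270986 (iv F266042) D60135
def n60782 : Q := act 1 n59597
theorem D60782 : act 1 n59597 = n60782 := rfl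
theorem F270988 : act 2 n60782 = n59606 := d9_2 D59597 D60782 (iv D59606) (iv D58413) (iv F261256)
theorem F270989 : act 3 n60782 = n60222 := d10_2 (iv F266031) D60782 (iv D60222)
theorem F270990 : act 5 n60782 = n60365 := d12_2 (iv F266032) D60782 (iv D60365)
theorem F270991 : act 6 n60782 = n59745 := d13_2 (iv F266033) D60782 (iv D59745)
theorem F270992 : act 7 n60782 = n60292 := d14_2 (iv F266034) D60782 F269264
theorem F270993 : act 8 n60782 = n59599 := d15_2 (iv F266035) D60782 (iv D59599)
def n60783 : Q := act 4 n59597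
theorem D60783 : act 4 n59597 = n60783 := rfl
theorem F270994 : act 0 n60783 = n60057 := d3_1 D60783 F268341 (iv F266030)
theorem F270995 : act 2 n60783 = n59598 := d18_1 D60783 (iv D59598) D59597
theorem F270996 : act 3 n60783 = n59958 := d24_1 D60783 (iv D59958) F263010 (iv F264024) (iv F266031)
theorem F270997 : act 6 n60783 = n59746 := d31_2 (iv F266033) D60783 (iv D59746)
theorem F270998 : act 7 n60783 = n59990 := d32_2 (iv F266034) D60783 F268059
theorem F270999 : act 8 n60783 = n59600 := d33_2 (iv F266035) D60783 (iv D59600)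
theorem F271000 : act 5 n60130 = n60783 := d37_3 F270999 (iv F266055) D60130
def n60784 : Q := act 0 n59599
theorem D60784 : act 0 n59599 = n60784 := rfl
theorem F271001 : act 1 n60784 = n60443 := d0_2 D59599 D60784 (iv D60443) (iv D59220) (iv F261261)
theorem F271002 : act 2 n60784 = n59612 := d1_2 (iv F266043) D60784 (iv D59612)
theorem F271003 : act 3 n60784 = n60048 := d2_2 (iv F266044) D60784 (iv D60048)
theorem F271004 : act 5 n60784 = n60367 := d4_2 (iv F266045) D60784 (iv D60367)
theorem F271005 : act 6 n60784 = n60361 := d5_2 (iv F266046) D60784 (iv D60361)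
theorem F271006 : act 7 n60784 = n60605 := d6_2 (iv F266047) D60784 (iv D60605)
theorem F271007 : act 9 n60784 = n60403 := d8_2 (iv F266048) D60784 (iv D60403)
def n60785 : Q := act 4 n59599
theorem D60785 : act 4 n59599 = n60785 := rfl
theorem F271008 : act 1 n60785 = n59600 := d11_1 D60785 (iv D59600) D59599
theorem F271009 : act 2 n60785 = n59613 := d18_1 D60785 (iv D59613) (iv F266043)
theorem F271010 : act 3 n60785 = n60023 := d24_1 D60785 (iv D60023) F263244 (iv F263361) (iv F266044)
theorem F271011 : act 6 n60785 = n60362 := d31_2 (iv F266046) D60785 (iv D60362)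
theorem F271012 : act 7 n60785 = n60606 := d32_2 (iv F266047) D60785 (iv D60606)
theorem F271013 : act 9 n60785 = n60404 := d34_2 (iv F266048) D60785 (iv D60404)
theorem F271014 : act 5 n60129 = n60785 := d25_0 F271010 F268184 D60129
def n60786 : Q := act 2 n59601
theorem D60786 : act 2 n59601 = n60786 := rfl
theorem F271015 : act 0 n60786 = n60277 := d1_1 D60786 (iv D60277) (iv F266056)
theorem F271016 : act 3 n60786 = n59698 := d17_2 D59601 D60786 (iv D59698) (iv D58502) (iv F261276)
theorem F271017 : act 5 n60786 = n59604 := d19_2 (iv F266058) D60786 (iv D59604)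
theorem F271018 : act 6 n60786 = n60119 := d20_2 (iv F266059) D60786 (iv D60119)
theorem F271019 : act 7 n60786 = n60163 := d21_2 (iv F266060) D60786 (iv D60163)
theorem F271020 : act 8 n60786 = n59682 := d22_2 (iv F266061) D60786 (iv D59682)
theorem F271021 : act 9 n60786 = n59602 := d23_2 (iv F266062) D60786 (iv D59602)
def n60787 : Q := act 4 n59601
theorem D60787 : act 4 n59601 = n60787 := rfl
theorem F271022 : act 0 n60787 = n60278 := d3_1 D60787 (iv D60278) (iv F266056)
theorem F271023 : act 1 n60787 = n59687 := d11_1 D60787 (iv D59687) (iv F266057)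
theorem F271024 : act 3 n60787 = n60787 := d24_1 D60787 (iv D60787) (iv D59601) F261277 D59601
theorem F271025 : act 6 n60787 = n60120 := d31_2 (iv F266059) D60787 (iv D60120)
theorem F271026 : act 7 n60787 = n60164 := d32_2 (iv F266060) D60787 (iv D60164)
theorem F271027 : act 8 n60787 = n59683 := d33_2 (iv F266061) D60787 (iv D59683)
theorem F271028 : act 9 n60787 = n59603 := d34_2 (iv F266062) D60787 (iv D59603)
def n60788 : Q := act 1 n59602
theorem D60788 : act 1 n59602 = n60788 := rfl
theorem F271029 : act 2 n60788 = n60365 := d9_2 D59602 D60788 (iv D60365) (iv D59141) (iv F261283)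
theorem F271030 : act 3 n60788 = n59740 := d10_2 (iv F266064) D60788 (iv D59740)
theorem F271031 : act 5 n60788 = n59606 := d12_2 (iv F266065) D60788 (iv D59606)
theorem F271032 : act 6 n60788 = n60121 := d13_2 (iv F266066) D60788 (iv D60121)
theorem F271033 : act 7 n60788 = n60446 := d14_2 (iv F266067) D60788 (iv D60446)
theorem F271034 : act 8 n60788 = n59609 := d15_2 (iv F266068) D60788 (iv D59609)
def n60789 : Q := act 4 n59602
theorem D60789 : act 4 n59602 = n60789 := rfl
theorem F271035 : act 0 n60789 = n60280 := d3_1 D60789 (iv D60280) (iv F266063)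
theorem F271036 : act 2 n60789 = n59603 := d18_1 D60789 (iv D59603) D59602
theorem F271037 : act 6 n60789 = n60122 := d31_2 (iv F266066) D60789 (iv D60122)
theorem F271038 : act 7 n60789 = n60447 := d32_2 (iv F266067) D60789 (iv D60447)
theorem F271039 : act 8 n60789 = n59610 := d33_2 (iv F266068) D60789 (iv D59610)
def n60790 : Q := act 5 n59603
theorem D60790 : act 5 n59603 = n60790 := rfl
theorem F271040 : act 0 n60790 = n60281 := d4_1 D60790 (iv D60281) (iv F266069)
theorem F271041 : act 1 n60790 = n60134 := d12_1 D60790 F268684 (iv F266070)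
theorem F271042 : act 3 n60790 = n60790 := d25_1 D60790 (iv D60790) F266071
theorem F271043 : act 4 n60790 = n59608 := d30_1 D60790 (iv D59608) (iv D58414) (iv F261284) D59603
theorem F271044 : act 6 n60790 = n60648 := d35_2 (iv F266072) D60790 (iv D60648) F265395 (iv F263651)
theorem F271045 : act 7 n60790 = n60448 := d36_2 (iv F266073) D60790 (iv D60448)
theorem F271046 : act 8 n60790 = n59611 := d37_2 (iv F266074) D60790 (iv D59611)
def n60791 : Q := act 1 n59604
theorem D60791 : act 1 n59604 = n60791 := rfl
theorem F271047 : act 3 n60791 = n59700 := d10_2 (iv F266076) D60791 (iv D59700)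
theorem F271048 : act 6 n60791 = n59705 := d13_2 (iv F266077) D60791 (iv D59705)
theorem F271049 : act 7 n60791 = n60418 := d14_2 (iv F266078) D60791 (iv D60418)
theorem F271050 : act 9 n60791 = n59606 := d16_2 (iv F266079) D60791 (iv D59606)
def n60792 : Q := act 4 n59604
theorem D60792 : act 4 n59604 = n60792 := rfl
theorem F271051 : act 0 n60792 = n60686 := d3_1 D60792 (iv D60686) (iv F266075)
theorem F271052 : act 2 n60792 = n59605 := d18_1 D60792 (iv D59605) D59604
theorem F271053 : act 3 n60792 = n60464 := d24_1 D60792 (iv D60464) (iv F265821) F265822 (iv F266076)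
theorem F271054 : act 6 n60792 = n59706 := d31_2 (iv F266077) D60792 (iv D59706)
theorem F271055 : act 7 n60792 = n60419 := d32_2 (iv F266078) D60792 (iv D60419)
theorem F271056 : act 9 n60792 = n59607 := d34_2 (iv F266079) D60792 (iv D59607)
def n60793 : Q := act 5 n59605
theorem D60793 : act 5 n59605 = n60793 := rfl
theorem F271057 : act 0 n60793 = n60687 := d4_1 D60793 (iv D60687) (iv F266080)
theorem F271058 : act 1 n60793 = n60135 := d12_1 D60793 F270987 F270981
theorem F271059 : act 3 n60793 = n59630 := d25_1 D60793 (iv D59630) (iv F266081)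
theorem F271060 : act 7 n60793 = n60420 := d36_2 (iv F266083) D60793 (iv D60420)
theorem F271061 : act 9 n60793 = n59608 := d38_2 (iv F266084) D60793 (iv D59608)
def n60794 : Q := act 0 n59606
theorem D60794 : act 0 n59606 = n60794 := rfl
theorem F271062 : act 1 n60794 = n60688 := d0_2 D59606 D60794 (iv D60688) (iv D59501) (iv F261292)
theorem F271063 : act 3 n60794 = n59742 := d2_2 (iv F266085) D60794 (iv D59742)
theorem F271064 : act 6 n60794 = n59748 := d5_2 (iv F266086) D60794 (iv D59748)
theorem F271065 : act 7 n60794 = n60449 := d6_2 (iv F266087) D60794 (iv D60449)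
theorem F271066 : act 8 n60794 = n59612 := d7_2 (iv F266088) D60794 (iv D59612)
def n60795 : Q := act 4 n59606
theorem D60795 : act 4 n59606 = n60795 := rfl
theorem F271067 : act 1 n60795 = n59607 := d11_1 D60795 (iv D59607) D59606
theorem F271068 : act 3 n60795 = n60467 := d24_1 D60795 (iv D60467) (iv F265959) F265960 (iv F266085)
theorem F271069 : act 6 n60795 = n59749 := d31_2 (iv F266086) D60795 (iv D59749)
theorem F271070 : act 7 n60795 = n60450 := d32_2 (iv F266087) D60795 (iv D60450)
theorem F271071 : act 8 n60795 = n59613 := d33_2 (iv F266088) D60795 (iv D59613)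
def n60796 : Q := act 5 n59607
theorem D60796 : act 5 n59607 = n60796 := rfl
theorem F271072 : act 0 n60796 = n60684 := d4_1 D60796 F270409 (iv F266089)
theorem F271073 : act 2 n60796 = n59608 := d19_1 D60796 (iv D59608) (iv F266090)
theorem F271074 : act 3 n60796 = n60468 := d25_1 D60796 (iv D60468) (iv F266091)
theorem F271075 : act 7 n60796 = n60451 := d36_2 (iv F266093) D60796 (iv D60451)
theorem F271076 : act 8 n60796 = n59614 := d37_2 (iv F266094) D60796 (iv D59614)
def n60797 : Q := act 6 n59608
theorem D60797 : act 6 n59608 = n60797 := rfl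
theorem F271077 : act 0 n60797 = n60394 := d5_1 D60797 F269668 (iv F266095)
theorem F271078 : act 1 n60797 = n59626 := d13_1 D60797 F266193 (iv F266096)
theorem F271079 : act 3 n60797 = n59627 := d26_1 D60797 F266200 (iv F266097)
theorem F271080 : act 4 n60797 = n60648 := d31_1 D60797 (iv F271044) F271043
theorem F271081 : act 5 n60797 = n59751 := d35_1 D60797 (iv D59751) (iv D58547) (iv F261299) D59608
theorem F271082 : act 8 n60797 = n59615 := d40_2 (iv F266099) D60797 (iv D59615)
theorem F271083 : act 7 n60155 = n60797 := d42_3 F271082 (iv F266130) (iv F268768)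
def n60798 : Q := act 0 n59609
theorem D60798 : act 0 n59609 = n60798 := rfl
theorem F271084 : act 1 n60798 = n60298 := d0_2 D59609 D60798 (iv D60298) (iv D59055) (iv F261302)
theorem F271085 : act 2 n60798 = n60367 := d1_2 (iv F266100) D60798 (iv D60367)
theorem F271086 : act 3 n60798 = n59616 := d2_2 (iv F266101) D60798 (iv D59616)
theorem F271087 : act 5 n60798 = n59612 := d4_2 (iv F266102) D60798 (iv D59612)
theorem F271088 : act 6 n60798 = n60125 := d5_2 (iv F266103) D60798 (iv D60125)
theorem F271089 : act 9 n60798 = n60395 := d8_2 (iv F266104) D60798 (iv D60395)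
def n60799 : Q := act 4 n59609
theorem D60799 : act 4 n59609 = n60799 := rfl
theorem F271090 : act 1 n60799 = n59610 := d11_1 D60799 (iv D59610) D59609
theorem F271091 : act 2 n60799 = n60368 := d18_1 D60799 (iv D60368) (iv F266100)
theorem F271092 : act 6 n60799 = n60126 := d31_2 (iv F266103) D60799 (iv D60126)
theorem F271093 : act 9 n60799 = n60396 := d34_2 (iv F266104) D60799 (iv D60396)
def n60800 : Q := act 3 n59610
theorem D60800 : act 3 n59610 = n60800 := rfl
theorem F271094 : act 0 n60800 = n60219 := d2_1 D60800 F269013 (iv F266105)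
theorem F271095 : act 2 n60800 = n59625 := d17_1 D60800 (iv D59625) F261384 (iv F261309) (iv F266106)
theorem F271096 : act 4 n60800 = n59618 := d24_2 D59610 D60800 (iv D59618) (iv D58422) (iv F261303)
theorem F271097 : act 6 n60800 = n60127 := d26_2 (iv F266107) D60800 (iv D60127)
theorem F271098 : act 9 n60800 = n60330 := d29_2 (iv F266108) D60800 F269385
theorem F271099 : act 5 n60476 = n60800 := d38_3 F271098 F269386 (iv F269923)
def n60801 : Q := act 5 n59610
theorem D60801 : act 5 n59610 = n60801 := rfl
theorem F271100 : act 0 n60801 = n60300 := d4_1 D60801 (iv D60300) (iv F266105)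
theorem F271101 : act 2 n60801 = n59611 := d19_1 D60801 (iv D59611) (iv F266106)
theorem F271102 : act 3 n60801 = n60476 := d25_1 D60801 F271099 (iv D60800)
theorem F271103 : act 4 n60801 = n59614 := d30_1 D60801 (iv D59614) (iv D58418) (iv F261304) D59610
theorem F271104 : act 6 n60801 = n60643 := d35_2 (iv F266107) D60801 F270306 F265420 (iv F263667)
theorem F271105 : act 9 n60801 = n60397 := d38_2 (iv F266108) D60801 (iv D60397)
def n60802 : Q := act 4 n59612
theorem D60802 : act 4 n59612 = n60802 := rfl
theorem F271106 : act 0 n60802 = n59613 := d3_1 D60802 (iv D59613) D59612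
theorem F271107 : act 1 n60802 = n60695 := d11_1 D60802 (iv D60695) (iv F266115)
theorem F271108 : act 3 n60802 = n59780 := d24_1 D60802 (iv D59780) F262189 (iv F261338) (iv F266116)
theorem F271109 : act 6 n60802 = n60363 := d31_2 (iv F266117) D60802 (iv D60363)
def n60803 : Q := act 5 n59613
theorem D60803 : act 5 n59613 = n60803 := rfl
theorem F271110 : act 1 n60803 = n59614 := d12_1 D60803 (iv D59614) (iv F266118)
theorem F271111 : act 2 n60803 = n60129 := d19_1 D60803 F271014 F271009
theorem F271112 : act 3 n60803 = n59781 := d25_1 D60803 (iv D59781) (iv F266119)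
def n60804 : Q := act 6 n59614
theorem D60804 : act 6 n59614 = n60804 := rfl
theorem F271113 : act 0 n60804 = n60397 := d5_1 D60804 F269677 (iv F266121)
theorem F271114 : act 2 n60804 = n59615 := d20_1 D60804 (iv D59615) (iv F266122)
theorem F271115 : act 3 n60804 = n59782 := d26_1 D60804 (iv D59782) (iv F266123)
theorem F271116 : act 4 n60804 = n60643 := d31_1 D60804 (iv F271104) F271103
theorem F271117 : act 5 n60804 = n59791 := d35_1 D60804 F267117 F263939 (iv F261317) D59614
theorem F271118 : act 9 n60804 = n60300 := d41_2 F270847 D60804 (iv F270846)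
theorem F271119 : act 7 n60621 = n60804 := d27_0 F271115 (iv F267084) D60621
def n60805 : Q := act 4 n59616
theorem D60805 : act 4 n59616 = n60805 := rfl
theorem F271120 : act 0 n60805 = n59617 := d3_1 D60805 (iv D59617) D59616
theorem F271121 : act 1 n60805 = n60309 := d11_1 D60805 (iv D60309) (iv F266131)
theorem F271122 : act 2 n60805 = n60055 := d18_1 D60805 (iv D60055) (iv F266132)
theorem F271123 : act 5 n60805 = n59787 := d30_2 (iv F266133) D60805 (iv D59787) F262216 (iv F261338)
theorem F271124 : act 6 n60805 = n60128 := d31_2 (iv F266134) D60805 (iv D60128)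
def n60806 : Q := act 3 n59617
theorem D60806 : act 3 n59617 = n60806 := rfl
theorem F271125 : act 1 n60806 = n59618 := d10_1 D60806 (iv D59618) (iv F266135)
theorem F271126 : act 5 n60806 = n59788 := d25_2 (iv F266137) D60806 (iv D59788)
theorem F271127 : act 6 n60806 = n60129 := d26_2 (iv F266138) D60806 (iv D60129)
def n60807 : Q := act 8 n59618
theorem D60807 : act 8 n59618 = n60807 := rfl
theorem F271128 : act 0 n60807 = n60311 := d7_1 D60807 (iv D60311) (iv F266139)
theorem F271129 : act 2 n60807 = n59626 := d22_1 D60807 (iv D59626) (iv F266140)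
theorem F271130 : act 5 n60807 = n59789 := d37_1 D60807 (iv D59789) (iv F266141)
theorem F271131 : act 6 n60807 = n60130 := d40_1 D60807 (iv D60130) (iv F266142)
theorem F271132 : act 7 n60807 = n60170 := d42_1 D60807 F270972 F270971
def n60808 : Q := act 3 n59619
theorem D60808 : act 3 n59619 = n60808 := rfl
theorem F271133 : act 0 n60808 = n60215 := d2_1 D60808 (iv D60215) (iv F266143)
theorem F271134 : act 1 n60808 = n60411 := d10_1 D60808 (iv D60411) (iv F266144)
theorem F271135 : act 4 n60808 = n59624 := d24_2 D59619 D60808 (iv D59624) (iv D58430) (iv F261342)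
theorem F271136 : act 5 n60808 = n60160 := d25_2 (iv F266146) D60808 F268790
theorem F271137 : act 7 n60808 = n59625 := d27_2 (iv F266147) D60808 (iv D59625)
theorem F271138 : act 9 n60808 = n60324 := d29_2 (iv F266149) D60808 (iv D60324)
theorem F271139 : act 8 n60808 = n60167 := d45_1 (iv F271138) F268814 (iv D60167) (iv D58937) (iv D57760) (iv F259092) (iv F261122) D59570 F265882 F261132 (iv D57223) F250874 F249192 D55521 F249194 F242009 (iv D52687) (iv F235365) (iv D52621) F226316 F226317 F216523 F190521 (iv F192329) F192330 (iv F216516) (iv D48458) F190515 F132689 (iv F132790) D45871 D48536 F216737 (iv F215918) (iv D48288) D48289 D50470 D52482 F234955 (iv F232939) (iv D51978) (iv F229402) (iv F235875) F235876 F229582 (iv D51257) F220004 (iv F223576) F223575 F216832 F192283 (iv F216462) (iv F226228) (iv D50602) F216461 (iv D45807) F132669 (iv F189112) D48241 (iv F224076) (iv F227572) (iv D50911) D50912 F227584 (iv F227958) F227959 F218629 F215718 (iv F211891) F211892 (iv F221997) (iv D49556) (iv F221904) F221901 D51583 (iv F239572) (iv F246912)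 F246911 (iv F249154) F249155 D55514 D56796 D57968 F259912 D57970 F259919 (iv F259899) (iv F264306) D60324
def n60809 : Q := act 6 n59620
theorem D60809 : act 6 n59620 = n60809 := rfl
theorem F271140 : act 0 n60809 = n59905 := d5_1 D60809 F267717 (iv F266150)
theorem F271141 : act 1 n60809 = n60131 := d13_1 D60809 F268671 (iv F266151)
theorem F271142 : act 2 n60809 = n59670 := d20_1 D60809 F266476 (iv F266152)
theorem F271143 : act 4 n60809 = n59621 := d31_1 D60809 (iv D59621) (iv F266153)
theorem F271144 : act 7 n60809 = n59684 := d39_2 (iv F266154) D60809 F266554 F264757 (iv F261393)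
theorem F271145 : act 8 n60809 = n60809 := d40_2 F266155 D60809 (iv D60809)
theorem F271146 : act 9 n60809 = n60148 := d41_2 (iv F266156) D60809 F268740
def n60810 : Q := act 3 n59622
theorem D60810 : act 3 n59622 = n60810 := rfl
theorem F271147 : act 0 n60810 = n60320 := d2_1 D60810 (iv D60320) (iv F266165)
theorem F271148 : act 1 n60810 = n60156 := d10_1 D60810 (iv D60156) (iv F266166)
theorem F271149 : act 5 n60810 = n60323 := d25_2 F266171 D60810 F269361
theorem F271150 : act 6 n60810 = n59624 := d26_2 (iv F266168) D60810 (iv D59624)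
theorem F271151 : act 7 n60810 = n60133 := d27_2 (iv F266169) D60810 (iv D60133)
theorem F271152 : act 8 n60810 = n60171 := d28_2 (iv F266170) D60810 F268821 F263824 (iv F261405)
def n60811 : Q := act 8 n59625
theorem D60811 : act 8 n59625 = n60811 := rfl
theorem F271153 : act 0 n60811 = n60220 := d7_1 D60811 (iv D60220) (iv F266184)
theorem F271154 : act 1 n60811 = n60648 := d15_1 D60811 F270321 (iv F266185)
theorem F271155 : act 3 n60811 = n60811 := d28_1 D60811 (iv D60811) (iv D59625) F261387 D59625
theorem F271156 : act 4 n60811 = n59626 := d33_1 D60811 (iv D59626) (iv F266186)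
theorem F271157 : act 5 n60811 = n60139 := d37_1 D60811 F268708 (iv F266187)
theorem F271158 : act 6 n60811 = n60134 := d40_1 D60811 (iv D60134) (iv F266188)
theorem F271159 : act 7 n60811 = n60167 := d42_1 D60811 (iv F271139) F271137
def n60812 : Q := act 9 n59626
theorem D60812 : act 9 n59626 = n60812 := rfl
theorem F271160 : act 0 n60812 = n60329 := d8_1 D60812 (iv D60329) (iv F266190)
theorem F271161 : act 3 n60812 = n59628 := d29_1 D60812 (iv D59628) (iv F266191)
theorem F271162 : act 5 n60812 = n59792 := d38_1 D60812 (iv D59792) (iv F266192)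
theorem F271163 : act 6 n60812 = n60135 := d41_1 D60812 (iv D60135) (iv F266193)
theorem F271164 : act 7 n60812 = n59914 := d43_1 D60812 F267751 (iv F266194)
def n60813 : Q := act 9 n59627
theorem D60813 : act 9 n59627 = n60813 := rfl
theorem F271165 : act 0 n60813 = n59685 := d8_1 D60813 F266561 (iv F266195)
theorem F271166 : act 1 n60813 = n59628 := d16_1 D60813 (iv D59628) (iv F266196)
theorem F271167 : act 2 n60813 = n60507 := d23_1 D60813 F269992 (iv F266197)
theorem F271168 : act 4 n60813 = n60813 := d34_1 D60813 (iv D60813) F266198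
theorem F271169 : act 5 n60813 = n59681 := d38_1 D60813 F266545 (iv F266199)
theorem F271170 : act 6 n60813 = n59630 := d41_1 D60813 F266222 (iv F266200)
theorem F271171 : act 7 n60813 = n59906 := d43_1 D60813 F267723 (iv F266201)
theorem F271172 : act 8 n60813 = n60813 := d44_1 D60813 (iv D60813) (iv D59627) F261422 D59627
def n60814 : Q := act 1 n59631
theorem D60814 : act 1 n59631 = n60814 := rfl
theorem F271173 : act 2 n60814 = n59649 := d9_2 D59631 D60814 (iv D59649) (iv D58460) (iv F261464)
theorem F271174 : act 3 n60814 = n60051 := d10_2 (iv F266224) D60814 (iv D60051)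
theorem F271175 : act 4 n60814 = n60136 := d11_2 (iv F266225) D60814 (iv D60136)
theorem F271176 : act 5 n60814 = n60062 := d12_2 (iv F266226) D60814 (iv D60062)
theorem F271177 : act 6 n60814 = n60026 := d13_2 (iv F266227) D60814 (iv D60026)
theorem F271178 : act 7 n60814 = n59632 := d14_2 (iv F266228) D60814 (iv D59632)
theorem F271179 : act 8 n60814 = n60035 := d15_2 (iv F266229) D60814 (iv D60035)
theorem F271180 : act 9 n60814 = n59638 := d16_2 (iv F266230) D60814 (iv D59638)
def n60815 : Q := act 0 n59632
theorem D60815 : act 0 n59632 = n60815 := rfl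
theorem F271181 : act 1 n60815 = n60060 := d0_2 D59632 D60815 (iv D60060) (iv D58843) (iv F261471)
theorem F271182 : act 2 n60815 = n59656 := d1_2 (iv F266231) D60815 (iv D59656)
theorem F271183 : act 3 n60815 = n60053 := d2_2 (iv F266232) D60815 (iv D60053)
theorem F271184 : act 4 n60815 = n60445 := d3_2 (iv F266233) D60815 (iv D60445)
theorem F271185 : act 5 n60815 = n60067 := d4_2 (iv F266234) D60815 (iv D60067)
theorem F271186 : act 6 n60815 = n60050 := d5_2 (iv F266235) D60815 (iv D60050)
theorem F271187 : act 8 n60815 = n60578 := d7_2 (iv F266236) D60815 (iv D60578)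
theorem F271188 : act 9 n60815 = n59645 := d8_2 (iv F266237) D60815 (iv D59645)
def n60816 : Q := act 2 n59633
theorem D60816 : act 2 n59633 = n60816 := rfl
theorem F271189 : act 0 n60816 = n59969 := d1_1 D60816 (iv D59969) (iv F266238)
theorem F271190 : act 3 n60816 = n59635 := d17_2 D59633 D60816 (iv D59635) (iv D58448) (iv F261480)
theorem F271191 : act 5 n60816 = n60513 := d19_2 (iv F266240) D60816 (iv D60513)
theorem F271192 : act 6 n60816 = n59636 := d20_2 (iv F266241) D60816 (iv D59636)
theorem F271193 : act 7 n60816 = n59810 := d21_2 (iv F266242) D60816 (iv D59810)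
theorem F271194 : act 8 n60816 = n60521 := d22_2 (iv F266243) D60816 (iv D60521)
theorem F271195 : act 9 n60816 = n59965 := d23_2 (iv F266244) D60816 (iv D59965)
def n60817 : Q := act 2 n59634
theorem D60817 : act 2 n59634 = n60817 := rfl
theorem F271196 : act 0 n60817 = n59819 := d1_1 D60817 (iv D59819) (iv F266245)
theorem F271197 : act 3 n60817 = n60513 := d17_2 D59634 D60817 (iv D60513) (iv D59297) (iv F261496)
theorem F271198 : act 5 n60817 = n59635 := d19_2 (iv F266247) D60817 (iv D59635)
theorem F271199 : act 6 n60817 = n59967 := d20_2 (iv F266248) D60817 (iv D59967)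
theorem F271200 : act 7 n60817 = n59813 := d21_2 (iv F266249) D60817 (iv D59813)
theorem F271201 : act 8 n60817 = n59796 := d22_2 (iv F266250) D60817 (iv D59796)
theorem F271202 : act 9 n60817 = n60024 := d23_2 (iv F266251) D60817 (iv D60024)
def n60818 : Q := act 4 n59634
theorem D60818 : act 4 n59634 = n60818 := rfl
theorem F271203 : act 0 n60818 = n59820 := d3_1 D60818 (iv D59820) (iv F266245)
theorem F271204 : act 1 n60818 = n59658 := d11_1 D60818 (iv D59658) (iv F266246)
theorem F271205 : act 3 n60818 = n60818 := d24_1 D60818 (iv D60818) (iv D59634) F261497 D59634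
theorem F271206 : act 5 n60818 = n59901 := d30_2 (iv F266247) D60818 (iv D59901) F262823 (iv F261504)
theorem F271207 : act 6 n60818 = n59968 := d31_2 (iv F266248) D60818 (iv D59968)
theorem F271208 : act 7 n60818 = n59814 := d32_2 (iv F266249) D60818 (iv D59814)
theorem F271209 : act 8 n60818 = n59797 := d33_2 (iv F266250) D60818 (iv D59797)
theorem F271210 : act 9 n60818 = n60025 := d34_2 (iv F266251) D60818 (iv D60025)
def n60819 : Q := act 1 n59635
theorem D60819 : act 1 n59635 = n60819 := rfl
theorem F271211 : act 2 n60819 = n59659 := d9_2 D59635 D60819 (iv D59659) (iv D58468) (iv F261503)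
theorem F271212 : act 4 n60819 = n59902 := d11_2 (iv F266253) D60819 (iv D59902)
theorem F271213 : act 6 n60819 = n59638 := d13_2 (iv F266254) D60819 (iv D59638)
theorem F271214 : act 7 n60819 = n59815 := d14_2 (iv F266255) D60819 (iv D59815)
theorem F271215 : act 8 n60819 = n59816 := d15_2 (iv F266256) D60819 (iv D59816)
theorem F271216 : act 9 n60819 = n60026 := d16_2 (iv F266257) D60819 (iv D60026)
def n60820 : Q := act 1 n59636
theorem D60820 : act 1 n59636 = n60820 := rfl
theorem F271217 : act 2 n60820 = n60086 := d9_2 D59636 D60820 (iv D60086) (iv D58865) (iv F261510)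
theorem F271218 : act 3 n60820 = n59638 := d10_2 (iv F266259) D60820 (iv D59638)
theorem F271219 : act 5 n60820 = n60059 := d12_2 (iv F266260) D60820 (iv D60059)
theorem F271220 : act 7 n60820 = n59641 := d14_2 (iv F266261) D60820 (iv D59641)
theorem F271221 : act 8 n60820 = n60579 := d15_2 (iv F266262) D60820 (iv D60579)
theorem F271222 : act 9 n60820 = n60051 := d16_2 (iv F266263) D60820 (iv D60051)
def n60821 : Q := act 4 n59636
theorem D60821 : act 4 n59636 = n60821 := rfl
theorem F271223 : act 0 n60821 = n60063 := d3_1 D60821 (iv D60063) (iv F266258)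
theorem F271224 : act 2 n60821 = n59637 := d18_1 D60821 (iv D59637) D59636
theorem F271225 : act 3 n60821 = n60501 := d24_1 D60821 (iv D60501) F265009 (iv F261523) (iv F266259)
theorem F271226 : act 5 n60821 = n60588 := d30_2 (iv F266260) D60821 (iv D60588) F265246 (iv F263420)
theorem F271227 : act 7 n60821 = n59642 := d32_2 (iv F266261) D60821 (iv D59642)
theorem F271228 : act 8 n60821 = n60580 := d33_2 (iv F266262) D60821 (iv D60580)
theorem F271229 : act 9 n60821 = n60052 := d34_2 (iv F266263) D60821 (iv D60052)
def n60822 : Q := act 0 n59638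
theorem D60822 : act 0 n59638 = n60822 := rfl
theorem F271230 : act 1 n60822 = n60064 := d0_2 D59638 D60822 (iv D60064) (iv D58847) (iv F261522)
theorem F271231 : act 2 n60822 = n59660 := d1_2 (iv F266271) D60822 (iv D59660)
theorem F271232 : act 4 n60822 = n60506 := d3_2 (iv F266272) D60822 (iv D60506)
theorem F271233 : act 5 n60822 = n60563 := d4_2 (iv F266273) D60822 (iv D60563)
theorem F271234 : act 7 n60822 = n59645 := d6_2 (iv F266274) D60822 (iv D59645)
theorem F271235 : act 8 n60822 = n60565 := d7_2 (iv F266275) D60822 (iv D60565)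
def n60823 : Q := act 1 n59639
theorem D60823 : act 1 n59639 = n60823 := rfl
theorem F271236 : act 2 n60823 = n60078 := d9_2 D59639 D60823 (iv D60078) (iv D58859) (iv F261528)
theorem F271237 : act 3 n60823 = n60042 := d10_2 (iv F266277) D60823 (iv D60042)
theorem F271238 : act 5 n60823 = n60041 := d12_2 (iv F266278) D60823 (iv D60041)
theorem F271239 : act 6 n60823 = n60030 := d13_2 (iv F266279) D60823 (iv D60030)
theorem F271240 : act 7 n60823 = n60579 := d14_2 (iv F266280) D60823 (iv D60579)
theorem F271241 : act 8 n60823 = n59641 := d15_2 (iv F266281) D60823 (iv D59641)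
theorem F271242 : act 9 n60823 = n60575 := d16_2 (iv F266282) D60823 (iv D60575)
def n60824 : Q := act 4 n59639
theorem D60824 : act 4 n59639 = n60824 := rfl
theorem F271243 : act 0 n60824 = n60066 := d3_1 D60824 (iv D60066) (iv F266276)
theorem F271244 : act 2 n60824 = n59640 := d18_1 D60824 (iv D59640) D59639
theorem F271245 : act 5 n60824 = n60597 := d30_2 (iv F266278) D60824 (iv D60597) F265275 (iv F263328)
theorem F271246 : act 6 n60824 = n60031 := d31_2 (iv F266279) D60824 (iv D60031)
theorem F271247 : act 7 n60824 = n60580 := d32_2 (iv F266280) D60824 (iv D60580)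
theorem F271248 : act 8 n60824 = n59642 := d33_2 (iv F266281) D60824 (iv D59642)
theorem F271249 : act 9 n60824 = n60576 := d34_2 (iv F266282) D60824 (iv D60576)
def n60825 : Q := act 0 n59641
theorem D60825 : act 0 n59641 = n60825 := rfl
theorem F271250 : act 1 n60825 = n60067 := d0_2 D59641 D60825 (iv D60067) (iv D58850) (iv F261534)
theorem F271251 : act 2 n60825 = n60089 := d1_2 (iv F266291) D60825 (iv D60089)
theorem F271252 : act 3 n60825 = n59645 := d2_2 (iv F266292) D60825 (iv D59645)
theorem F271253 : act 5 n60825 = n60060 := d4_2 (iv F266293) D60825 (iv D60060)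
theorem F271254 : act 6 n60825 = n60039 := d5_2 (iv F266294) D60825 (iv D60039)
theorem F271255 : act 9 n60825 = n60053 := d8_2 (iv F266295) D60825 (iv D60053)
def n60826 : Q := act 4 n59641
theorem D60826 : act 4 n59641 = n60826 := rfl
theorem F271256 : act 1 n60826 = n59642 := d11_1 D60826 (iv D59642) D59641
theorem F271257 : act 2 n60826 = n60090 := d18_1 D60826 (iv D60090) (iv F266291)
theorem F271258 : act 3 n60826 = n60503 := d24_1 D60826 (iv D60503) F265013 (iv F261561) (iv F266292)
theorem F271259 : act 5 n60826 = n60600 := d30_2 (iv F266293) D60826 (iv D60600) F265289 (iv F263426)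
theorem F271260 : act 6 n60826 = n60040 := d31_2 (iv F266294) D60826 (iv D60040)
theorem F271261 : act 9 n60826 = n60054 := d34_2 (iv F266295) D60826 (iv D60054)
def n60827 : Q := act 0 n59643
theorem D60827 : act 0 n59643 = n60827 := rfl
theorem F271262 : act 1 n60827 = n60053 := d0_2 D59643 D60827 (iv D60053) (iv D58835) (iv F261545)
theorem F271263 : act 2 n60827 = n59667 := d1_2 (iv F266302) D60827 (iv D59667)
theorem F271264 : act 3 n60827 = n60060 := d2_2 (iv F266303) D60827 (iv D60060)
theorem F271265 : act 5 n60827 = n59645 := d4_2 (iv F266304) D60827 (iv D59645)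
theorem F271266 : act 6 n60827 = n60022 := d5_2 (iv F266305) D60827 (iv D60022)
theorem F271267 : act 7 n60827 = n60563 := d6_2 (iv F266306) D60827 (iv D60563)
theorem F271268 : act 8 n60827 = n60558 := d7_2 (iv F266307) D60827 (iv D60558)
theorem F271269 : act 9 n60827 = n60067 := d8_2 (iv F266308) D60827 (iv D60067)
def n60828 : Q := act 4 n59643
theorem D60828 : act 4 n59643 = n60828 := rfl
theorem F271270 : act 1 n60828 = n59644 := d11_1 D60828 (iv D59644) D59643
theorem F271271 : act 2 n60828 = n59668 := d18_1 D60828 (iv D59668) (iv F266302)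
theorem F271272 : act 3 n60828 = n60362 := d24_1 D60828 (iv D60362) F264561 (iv F263426) (iv F266303)
theorem F271273 : act 5 n60828 = n59786 := d30_2 (iv F266304) D60828 (iv D59786) F262211 (iv F261561)
theorem F271274 : act 6 n60828 = n60023 := d31_2 (iv F266305) D60828 (iv D60023)
theorem F271275 : act 7 n60828 = n60564 := d32_2 (iv F266306) D60828 (iv D60564)
theorem F271276 : act 8 n60828 = n60559 := d33_2 (iv F266307) D60828 (iv D60559)
theorem F271277 : act 9 n60828 = n60068 := d34_2 (iv F266308) D60828 (iv D60068)
def n60829 : Q := act 1 n59646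
theorem D60829 : act 1 n59646 = n60829 := rfl
theorem F271278 : act 2 n60829 = n60065 := d9_2 D59646 D60829 (iv D60065) (iv D58848) (iv F261564)
theorem F271279 : act 3 n60829 = n60490 := d10_2 (iv F266322) D60829 (iv D60490)
theorem F271280 : act 5 n60829 = n59648 := d12_2 (iv F266323) D60829 (iv D59648)
theorem F271281 : act 6 n60829 = n60596 := d13_2 (iv F266324) D60829 (iv D60596)
theorem F271282 : act 7 n60829 = n60547 := d14_2 (iv F266325) D60829 (iv D60547)
theorem F271283 : act 8 n60829 = n59654 := d15_2 (iv F266326) D60829 (iv D59654)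
theorem F271284 : act 9 n60829 = n60348 := d16_2 (iv F266327) D60829 (iv D60348)
def n60830 : Q := act 4 n59646
theorem D60830 : act 4 n59646 = n60830 := rfl
theorem F271285 : act 0 n60830 = n59695 := d3_1 D60830 (iv D59695) (iv F266321)
theorem F271286 : act 2 n60830 = n59647 := d18_1 D60830 (iv D59647) D59646
theorem F271287 : act 5 n60830 = n60173 := d30_2 (iv F266323) D60830 (iv D60173) F263825 (iv F261572)
theorem F271288 : act 6 n60830 = n60597 := d31_2 (iv F266324) D60830 (iv D60597)
theorem F271289 : act 7 n60830 = n60548 := d32_2 (iv F266325) D60830 (iv D60548)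
theorem F271290 : act 8 n60830 = n59655 := d33_2 (iv F266326) D60830 (iv D59655)
theorem F271291 : act 9 n60830 = n60349 := d34_2 (iv F266327) D60830 (iv D60349)
def n60831 : Q := act 0 n59648
theorem D60831 : act 0 n59648 = n60831 := rfl
theorem F271292 : act 1 n60831 = n59696 := d0_2 D59648 D60831 (iv D59696) (iv D58500) (iv F261570)
theorem F271293 : act 2 n60831 = n60578 := d1_2 (iv F266336) D60831 (iv D60578)
theorem F271294 : act 3 n60831 = n60495 := d2_2 (iv F266337) D60831 (iv D60495)
theorem F271295 : act 4 n60831 = n60421 := d3_2 (iv F266338) D60831 (iv D60421)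
theorem F271296 : act 6 n60831 = n60359 := d5_2 (iv F266339) D60831 (iv D60359)
theorem F271297 : act 8 n60831 = n59656 := d7_2 (iv F266340) D60831 (iv D59656)
theorem F271298 : act 9 n60831 = n60350 := d8_2 (iv F266341) D60831 (iv D60350)
def n60832 : Q := act 0 n59649
theorem D60832 : act 0 n59649 = n60832 := rfl
theorem F271299 : act 1 n60832 = n59712 := d0_2 D59649 D60832 (iv D59712) (iv D58513) (iv F261576)
theorem F271300 : act 3 n60832 = n60690 := d2_2 (iv F266342) D60832 (iv D60690)
theorem F271301 : act 4 n60832 = n60660 := d3_2 (iv F266343) D60832 (iv D60660)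
theorem F271302 : act 5 n60832 = n60568 := d4_2 (iv F266344) D60832 (iv D60568)
theorem F271303 : act 7 n60832 = n59656 := d6_2 (iv F266345) D60832 (iv D59656)
theorem F271304 : act 9 n60832 = n59660 := d8_2 (iv F266346) D60832 (iv D59660)
def n60833 : Q := act 1 n59650
theorem D60833 : act 1 n59650 = n60833 := rfl
theorem F271305 : act 2 n60833 = n60121 := d9_2 D59650 D60833 (iv D60121) (iv D58895) (iv F261583)
theorem F271306 : act 3 n60833 = n60438 := d10_2 (iv F266348) D60833 (iv D60438)
theorem F271307 : act 5 n60833 = n60117 := d12_2 (iv F266349) D60833 (iv D60117)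
theorem F271308 : act 6 n60833 = n60365 := d13_2 (iv F266350) D60833 (iv D60365)
theorem F271309 : act 7 n60833 = n60649 := d14_2 (iv F266351) D60833 (iv D60649)
theorem F271310 : act 8 n60833 = n59652 := d15_2 (iv F266352) D60833 (iv D59652)
theorem F271311 : act 9 n60833 = n60412 := d16_2 (iv F266353) D60833 (iv D60412)
def n60834 : Q := act 4 n59650
theorem D60834 : act 4 n59650 = n60834 := rfl
theorem F271312 : act 0 n60834 = n59721 := d3_1 D60834 (iv D59721) (iv F266347)
theorem F271313 : act 2 n60834 = n59651 := d18_1 D60834 (iv D59651) D59650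
theorem F271314 : act 5 n60834 = n60639 := d30_2 (iv F266349) D60834 (iv D60639) F265375 (iv F263630)
theorem F271315 : act 6 n60834 = n60366 := d31_2 (iv F266350) D60834 (iv D60366)
theorem F271316 : act 7 n60834 = n60650 := d32_2 (iv F266351) D60834 (iv D60650)
theorem F271317 : act 8 n60834 = n59653 := d33_2 (iv F266352) D60834 (iv D59653)
theorem F271318 : act 9 n60834 = n60413 := d34_2 (iv F266353) D60834 (iv D60413)
def n60835 : Q := act 0 n59652
theorem D60835 : act 0 n59652 = n60835 := rfl
theorem F271319 : act 1 n60835 = n59724 := d0_2 D59652 D60835 (iv D59724) (iv D58522) (iv F261589)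
theorem F271320 : act 2 n60835 = n60125 := d1_2 (iv F266362) D60835 (iv D60125)
theorem F271321 : act 3 n60835 = n59656 := d2_2 (iv F266363) D60835 (iv D59656)
theorem F271322 : act 5 n60835 = n60118 := d4_2 (iv F266364) D60835 (iv D60118)
theorem F271323 : act 6 n60835 = n60367 := d5_2 (iv F266365) D60835 (iv D60367)
theorem F271324 : act 7 n60835 = n60690 := d6_2 (iv F266366) D60835 (iv D60690)
theorem F271325 : act 9 n60835 = n59661 := d8_2 (iv F266367) D60835 (iv D59661)
def n60836 : Q := act 4 n59652
theorem D60836 : act 4 n59652 = n60836 := rfl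
theorem F271326 : act 1 n60836 = n59653 := d11_1 D60836 (iv D59653) D59652
theorem F271327 : act 2 n60836 = n60126 := d18_1 D60836 (iv D60126) (iv F266362)
theorem F271328 : act 3 n60836 = n60658 := d24_1 D60836 (iv D60658) F265416 (iv F261615) (iv F266363)
theorem F271329 : act 5 n60836 = n60642 := d30_2 (iv F266364) D60836 (iv D60642) F265383 (iv F263636)
theorem F271330 : act 6 n60836 = n60368 := d31_2 (iv F266365) D60836 (iv D60368)
theorem F271331 : act 7 n60836 = n60691 := d32_2 (iv F266366) D60836 (iv D60691)
theorem F271332 : act 9 n60836 = n59662 := d34_2 (iv F266367) D60836 (iv D59662)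
def n60837 : Q := act 0 n59654
theorem D60837 : act 0 n59654 = n60837 := rfl
theorem F271333 : act 1 n60837 = n59731 := d0_2 D59654 D60837 (iv D59731) (iv D58528) (iv F261602)
theorem F271334 : act 2 n60837 = n60067 := d1_2 (iv F266375) D60837 (iv D60067)
theorem F271335 : act 3 n60837 = n60118 := d2_2 (iv F266376) D60837 (iv D60118)
theorem F271336 : act 5 n60837 = n59656 := d4_2 (iv F266377) D60837 (iv D59656)
theorem F271337 : act 6 n60837 = n60599 := d5_2 (iv F266378) D60837 (iv D60599)
theorem F271338 : act 7 n60837 = n60568 := d6_2 (iv F266379) D60837 (iv D60568)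
theorem F271339 : act 9 n60837 = n59667 := d8_2 (iv F266380) D60837 (iv D59667)
def n60838 : Q := act 4 n59654
theorem D60838 : act 4 n59654 = n60838 := rfl
theorem F271340 : act 1 n60838 = n59655 := d11_1 D60838 (iv D59655) D59654
theorem F271341 : act 2 n60838 = n60068 := d18_1 D60838 (iv D60068) (iv F266375)
theorem F271342 : act 3 n60838 = n60436 := d24_1 D60838 (iv D60436) F264841 (iv F263636) (iv F266376)
theorem F271343 : act 5 n60838 = n60207 := d30_2 (iv F266377) D60838 (iv D60207) F263954 (iv F261615)
theorem F271344 : act 6 n60838 = n60600 := d31_2 (iv F266378) D60838 (iv D60600)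
theorem F271345 : act 7 n60838 = n60569 := d32_2 (iv F266379) D60838 (iv D60569)
theorem F271346 : act 9 n60838 = n59668 := d34_2 (iv F266380) D60838 (iv D59668)
def n60839 : Q := act 1 n59657
theorem D60839 : act 1 n59657 = n60839 := rfl
theorem F271347 : act 3 n60839 = n60279 := d10_2 (iv F266393) D60839 (iv D60279)
theorem F271348 : act 5 n60839 = n59659 := d12_2 (iv F266394) D60839 (iv D59659)
theorem F271349 : act 6 n60839 = n59982 := d13_2 (iv F266395) D60839 (iv D59982)
theorem F271350 : act 7 n60839 = n60374 := d14_2 (iv F266396) D60839 (iv D60374)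
theorem F271351 : act 8 n60839 = n59993 := d15_2 (iv F266397) D60839 (iv D59993)
def n60840 : Q := act 4 n59657
theorem D60840 : act 4 n59657 = n60840 := rfl
theorem F271352 : act 0 n60840 = n59741 := d3_1 D60840 (iv D59741) (iv F266392)
theorem F271353 : act 2 n60840 = n59658 := d18_1 D60840 (iv D59658) D59657
theorem F271354 : act 5 n60840 = n60539 := d30_2 (iv F266394) D60840 (iv D60539) F265114 (iv F261625)
theorem F271355 : act 6 n60840 = n59983 := d31_2 (iv F266395) D60840 (iv D59983)
theorem F271356 : act 7 n60840 = n60375 := d32_2 (iv F266396) D60840 (iv D60375)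
theorem F271357 : act 8 n60840 = n59994 := d33_2 (iv F266397) D60840 (iv D59994)
def n60841 : Q := act 0 n59659
theorem D60841 : act 0 n59659 = n60841 := rfl
theorem F271358 : act 1 n60841 = n59742 := d0_2 D59659 D60841 (iv D59742) (iv D58539) (iv F261623)
theorem F271359 : act 3 n60841 = n60688 := d2_2 (iv F266404) D60841 (iv D60688)
theorem F271360 : act 4 n60841 = n60678 := d3_2 (iv F266405) D60841 (iv D60678)
theorem F271361 : act 6 n60841 = n59660 := d5_2 (iv F266406) D60841 (iv D59660)
theorem F271362 : act 7 n60841 = n60376 := d6_2 (iv F266407) D60841 (iv D60376)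
theorem F271363 : act 8 n60841 = n60571 := d7_2 (iv F266408) D60841 (iv D60571)
def n60842 : Q := act 4 n59661
theorem D60842 : act 4 n59661 = n60842 := rfl
theorem F271364 : act 0 n60842 = n59662 := d3_1 D60842 (iv D59662) D59661
theorem F271365 : act 1 n60842 = n59780 := d11_1 D60842 (iv D59780) (iv F266415)
theorem F271366 : act 2 n60842 = n60696 := d18_1 D60842 F270436 (iv F266416)
theorem F271367 : act 3 n60842 = n60695 := d24_1 D60842 (iv D60695) F265527 (iv F261678) (iv F266417)
theorem F271368 : act 5 n60842 = n60682 := d30_2 (iv F266418) D60842 (iv D60682) F265494 (iv F265458)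
theorem F271369 : act 6 n60842 = n60405 := d31_2 (iv F266419) D60842 (iv D60405)
theorem F271370 : act 7 n60842 = n60692 := d32_2 (iv F266420) D60842 (iv D60692)
theorem F271371 : act 8 n60842 = n60673 := d33_2 (iv F266421) D60842 (iv D60673)
def n60843 : Q := act 1 n59663
theorem D60843 : act 1 n59663 = n60843 := rfl
theorem F271372 : act 2 n60843 = n59834 := d9_2 D59663 D60843 (iv D59834) (iv D58631) (iv F261648)
theorem F271373 : act 3 n60843 = n60223 := d10_2 (iv F266430) D60843 (iv D60223)
theorem F271374 : act 5 n60843 = n60016 := d12_2 (iv F266431) D60843 (iv D60016)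
theorem F271375 : act 6 n60843 = n59957 := d13_2 (iv F266432) D60843 (iv D59957)
theorem F271376 : act 7 n60843 = n59665 := d14_2 (iv F266433) D60843 (iv D59665)
theorem F271377 : act 8 n60843 = n59832 := d15_2 (iv F266434) D60843 (iv D59832)
theorem F271378 : act 9 n60843 = n60587 := d16_2 (iv F266435) D60843 (iv D60587)
def n60844 : Q := act 4 n59663
theorem D60844 : act 4 n59663 = n60844 := rfl
theorem F271379 : act 0 n60844 = n59784 := d3_1 D60844 (iv D59784) (iv F266429)
theorem F271380 : act 2 n60844 = n59664 := d18_1 D60844 (iv D59664) D59663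
theorem F271381 : act 3 n60844 = n59746 := d24_1 D60844 (iv D59746) F262026 (iv F264028) (iv F266430)
theorem F271382 : act 5 n60844 = n60052 := d30_2 (iv F266431) D60844 (iv D60052) F263387 (iv F263214)
theorem F271383 : act 6 n60844 = n59958 := d31_2 (iv F266432) D60844 (iv D59958)
theorem F271384 : act 7 n60844 = n59666 := d32_2 (iv F266433) D60844 (iv D59666)
theorem F271385 : act 8 n60844 = n59833 := d33_2 (iv F266434) D60844 (iv D59833)
theorem F271386 : act 9 n60844 = n60588 := d34_2 (iv F266435) D60844 (iv D60588)
def n60845 : Q := act 0 n59665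
theorem D60845 : act 0 n59665 = n60845 := rfl
theorem F271387 : act 1 n60845 = n59785 := d0_2 D59665 D60845 (iv D59785) (iv D58579) (iv F261654)
theorem F271388 : act 2 n60845 = n60022 := d1_2 (iv F266444) D60845 (iv D60022)
theorem F271389 : act 3 n60845 = n60274 := d2_2 (iv F266445) D60845 F269206
theorem F271390 : act 5 n60845 = n60019 := d4_2 (iv F266446) D60845 (iv D60019)
theorem F271391 : act 6 n60845 = n59667 := d5_2 (iv F266447) D60845 (iv D59667)
theorem F271392 : act 8 n60845 = n60554 := d7_2 (iv F266448) D60845 (iv D60554)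
theorem F271393 : act 9 n60845 = n60599 := d8_2 (iv F266449) D60845 (iv D60599)
def n60846 : Q := act 4 n59665
theorem D60846 : act 4 n59665 = n60846 := rfl
theorem F271394 : act 1 n60846 = n59666 := d11_1 D60846 (iv D59666) D59665
theorem F271395 : act 2 n60846 = n60023 := d18_1 D60846 (iv D60023) (iv F266444)
theorem F271396 : act 3 n60846 = n59769 := d24_1 D60846 (iv D59769) F262130 D59037 (iv F266445)
theorem F271397 : act 5 n60846 = n60054 := d30_2 (iv F266446) D60846 (iv D60054) F263396 (iv F263231)
theorem F271398 : act 6 n60846 = n59668 := d31_2 (iv F266447) D60846 (iv D59668)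
theorem F271399 : act 8 n60846 = n60555 := d33_2 (iv F266448) D60846 (iv D60555)
theorem F271400 : act 9 n60846 = n60600 := d34_2 (iv F266449) D60846 (iv D60600)
def n60847 : Q := act 4 n59667
theorem D60847 : act 4 n59667 = n60847 := rfl
theorem F271401 : act 0 n60847 = n59668 := d3_1 D60847 (iv D59668) D59667
theorem F271402 : act 1 n60847 = n59787 := d11_1 D60847 (iv D59787) (iv F266457)
theorem F271403 : act 3 n60847 = n60487 := d24_1 D60847 (iv D60487) F264979 (iv F265458) (iv F266458)
theorem F271404 : act 5 n60847 = n60309 := d30_2 (iv F266459) D60847 (iv D60309) F264259 (iv F261678)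
theorem F271405 : act 7 n60847 = n60570 := d32_2 (iv F266460) D60847 (iv D60570)
theorem F271406 : act 8 n60847 = n60560 := d33_2 (iv F266461) D60847 (iv D60560)
def n60848 : Q := act 2 n59669
theorem D60848 : act 2 n59669 = n60848 := rfl
theorem F271407 : act 0 n60848 = n59903 := d1_1 D60848 (iv D59903) (iv F266467)
theorem F271408 : act 3 n60848 = n60137 := d17_2 D59669 D60848 (iv D60137) (iv D58916) (iv F261690)
theorem F271409 : act 5 n60848 = n60416 := d19_2 (iv F266469) D60848 (iv D60416)
theorem F271410 : act 6 n60848 = n60159 := d20_2 (iv F266470) D60848 (iv D60159)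
theorem F271411 : act 7 n60848 = n59682 := d21_2 (iv F266471) D60848 (iv D59682)
theorem F271412 : act 8 n60848 = n60163 := d22_2 (iv F266472) D60848 (iv D60163)
theorem F271413 : act 9 n60848 = n60146 := d23_2 (iv F266473) D60848 (iv D60146)
def n60849 : Q := act 4 n59669
theorem D60849 : act 4 n59669 = n60849 := rfl
theorem F271414 : act 0 n60849 = n59904 := d3_1 D60849 (iv D59904) (iv F266467)
theorem F271415 : act 1 n60849 = n59674 := d11_1 D60849 (iv D59674) (iv F266468)
theorem F271416 : act 3 n60849 = n59670 := d24_1 D60849 (iv D59670) (iv D58480) (iv F261691) D59669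
theorem F271417 : act 6 n60849 = n60160 := d31_2 (iv F266470) D60849 (iv D60160)
theorem F271418 : act 7 n60849 = n59683 := d32_2 (iv F266471) D60849 (iv D59683)
theorem F271419 : act 8 n60849 = n60164 := d33_2 (iv F266472) D60849 (iv D60164)
theorem F271420 : act 9 n60849 = n60147 := d34_2 (iv F266473) D60849 (iv D60147)
def n60850 : Q := act 5 n59670
theorem D60850 : act 5 n59670 = n60850 := rfl
theorem F271421 : act 0 n60850 = n59906 := d4_1 D60850 (iv D59906) (iv F266474)
theorem F271422 : act 1 n60850 = n59675 := d12_1 D60850 (iv D59675) (iv F266475)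
theorem F271423 : act 4 n60850 = n60850 := d30_1 D60850 (iv D60850) (iv D59670) F261698 D59670
theorem F271424 : act 7 n60850 = n59685 := d36_2 (iv F266477) D60850 (iv D59685)
theorem F271425 : act 8 n60850 = n60850 := d37_2 F266478 D60850 (iv D60850)
theorem F271426 : act 9 n60850 = n60149 := d38_2 (iv F266479) D60850 (iv D60149)
def n60851 : Q := act 2 n59671
theorem D60851 : act 2 n59671 = n60851 := rfl
theorem F271427 : act 0 n60851 = n60426 := d1_1 D60851 (iv D60426) (iv F266480)
theorem F271428 : act 3 n60851 = n59703 := d17_2 D59671 D60851 (iv D59703) (iv D58506) (iv F261705)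
theorem F271429 : act 5 n60851 = n60290 := d19_2 (iv F266482) D60851 F269256
theorem F271430 : act 6 n60851 = n60151 := d20_2 (iv F266483) D60851 (iv D60151)
theorem F271431 : act 7 n60851 = n59686 := d21_2 (iv F266484) D60851 (iv D59686)
theorem F271432 : act 8 n60851 = n59673 := d22_2 (iv F266485) D60851 (iv D59673)
theorem F271433 : act 9 n60851 = n60294 := d23_2 (iv F266486) D60851 F269272
def n60852 : Q := act 4 n59671
theorem D60852 : act 4 n59671 = n60852 := rfl
theorem F271434 : act 0 n60852 = n60427 := d3_1 D60852 (iv D60427) (iv F266480)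
theorem F271435 : act 1 n60852 = n60164 := d11_1 D60852 (iv D60164) (iv F266481)
theorem F271436 : act 3 n60852 = n60852 := d24_1 D60852 (iv D60852) (iv D59671) F261706 D59671
theorem F271437 : act 6 n60852 = n60152 := d31_2 (iv F266483) D60852 (iv D60152)
theorem F271438 : act 7 n60852 = n59687 := d32_2 (iv F266484) D60852 (iv D59687)
theorem F271439 : act 8 n60852 = n59674 := d33_2 (iv F266485) D60852 (iv D59674)
theorem F271440 : act 9 n60852 = n60339 := d34_2 (iv F266486) D60852 (iv D60339)
def n60853 : Q := act 2 n59672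
theorem D60853 : act 2 n59672 = n60853 := rfl
theorem F271441 : act 0 n60853 = n60459 := d1_1 D60853 (iv D60459) (iv F266487)
theorem F271442 : act 3 n60853 = n59677 := d17_2 D59672 D60853 (iv D59677) (iv D58486) (iv F261713)
theorem F271443 : act 5 n60853 = n59673 := d19_2 (iv F266489) D60853 (iv D59673)
theorem F271444 : act 6 n60853 = n60422 := d20_2 (iv F266490) D60853 (iv D60422)
theorem F271445 : act 7 n60853 = n59688 := d21_2 (iv F266491) D60853 (iv D59688)
theorem F271446 : act 8 n60853 = n60290 := d22_2 (iv F266492) D60853 F269256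
theorem F271447 : act 9 n60853 = n60380 := d23_2 (iv F266493) D60853 (iv D60380)
def n60854 : Q := act 4 n59672
theorem D60854 : act 4 n59672 = n60854 := rfl
theorem F271448 : act 0 n60854 = n60460 := d3_1 D60854 (iv D60460) (iv F266487)
theorem F271449 : act 1 n60854 = n60417 := d11_1 D60854 (iv D60417) (iv F266488)
theorem F271450 : act 3 n60854 = n60854 := d24_1 D60854 (iv D60854) (iv D59672) F261714 D59672
theorem F271451 : act 6 n60854 = n60423 := d31_2 (iv F266490) D60854 (iv D60423)
theorem F271452 : act 7 n60854 = n59689 := d32_2 (iv F266491) D60854 (iv D59689)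
theorem F271453 : act 8 n60854 = n60013 := d33_2 (iv F266492) D60854 F268132
theorem F271454 : act 9 n60854 = n60381 := d34_2 (iv F266493) D60854 (iv D60381)
def n60855 : Q := act 1 n59673
theorem D60855 : act 1 n59673 = n60855 := rfl
theorem F271455 : act 3 n60855 = n59679 := d10_2 (iv F266495) D60855 (iv D59679)
theorem F271456 : act 6 n60855 = n60655 := d13_2 (iv F266496) D60855 (iv D60655)
theorem F271457 : act 7 n60855 = n59690 := d14_2 (iv F266497) D60855 (iv D59690)
theorem F271458 : act 9 n60855 = n60382 := d16_2 (iv F266498) D60855 (iv D60382)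
def n60856 : Q := act 4 n59673
theorem D60856 : act 4 n59673 = n60856 := rfl
theorem F271459 : act 0 n60856 = n60464 := d3_1 D60856 (iv D60464) (iv F266494)
theorem F271460 : act 2 n60856 = n59674 := d18_1 D60856 (iv D59674) D59673
theorem F271461 : act 3 n60856 = n60686 := d24_1 D60856 (iv D60686) (iv F265746) F265747 (iv F266495)
theorem F271462 : act 6 n60856 = n60656 := d31_2 (iv F266496) D60856 (iv D60656)
theorem F271463 : act 7 n60856 = n59691 := d32_2 (iv F266497) D60856 (iv D59691)
theorem F271464 : act 9 n60856 = n60383 := d34_2 (iv F266498) D60856 (iv D60383)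
def n60857 : Q := act 5 n59674
theorem D60857 : act 5 n59674 = n60857 := rfl
theorem F271465 : act 0 n60857 = n60465 := d4_1 D60857 (iv D60465) (iv F266499)
theorem F271466 : act 3 n60857 = n59675 := d25_1 D60857 (iv D59675) (iv F266500)
theorem F271467 : act 7 n60857 = n59692 := d36_2 (iv F266502) D60857 (iv D59692)
theorem F271468 : act 9 n60857 = n60384 := d38_2 (iv F266503) D60857 (iv D60384)
def n60858 : Q := act 6 n59675
theorem D60858 : act 6 n59675 = n60858 := rfl
theorem F271469 : act 0 n60858 = n60507 := d5_1 D60858 (iv D60507) (iv F266504)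
theorem F271470 : act 2 n60858 = n59685 := d20_1 D60858 F266559 (iv F266505)
theorem F271471 : act 4 n60858 = n60858 := d31_1 D60858 (iv D60858) F266506
theorem F271472 : act 5 n60858 = n59684 := d35_1 D60858 F266554 F264756 (iv F261725) D59675
theorem F271473 : act 8 n60858 = n60858 := d40_2 F266508 D60858 (iv D60858)
theorem F271474 : act 9 n60858 = n60407 := d41_2 (iv F266509) D60858 (iv D60407)
def n60859 : Q := act 2 n59676
theorem D60859 : act 2 n59676 = n60859 := rfl
theorem F271475 : act 0 n60859 = n59933 := d1_1 D60859 (iv D59933) (iv F266510)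
theorem F271476 : act 3 n60859 = n60422 := d17_2 D59676 D60859 (iv D60422) (iv D59201) (iv F261731)
theorem F271477 : act 5 n60859 = n60187 := d19_2 (iv F266512) D60859 (iv D60187)
theorem F271478 : act 6 n60859 = n59677 := d20_2 (iv F266513) D60859 (iv D59677)
theorem F271479 : act 7 n60859 = n60178 := d21_2 (iv F266514) D60859 (iv D60178)
theorem F271480 : act 8 n60859 = n59708 := d22_2 (iv F266515) D60859 (iv D59708)
theorem F271481 : act 9 n60859 = n59866 := d23_2 (iv F266516) D60859 (iv D59866)
def n60860 : Q := act 4 n59676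
theorem D60860 : act 4 n59676 = n60860 := rfl
theorem F271482 : act 0 n60860 = n59934 := d3_1 D60860 (iv D59934) (iv F266510)
theorem F271483 : act 1 n60860 = n60142 := d11_1 D60860 (iv D60142) (iv F266511)
theorem F271484 : act 3 n60860 = n60860 := d24_1 D60860 (iv D60860) (iv D59676) F261732 D59676
theorem F271485 : act 6 n60860 = n59678 := d31_2 (iv F266513) D60860 (iv D59678)
theorem F271486 : act 7 n60860 = n60179 := d32_2 (iv F266514) D60860 (iv D60179)
theorem F271487 : act 8 n60860 = n59709 := d33_2 (iv F266515) D60860 (iv D59709)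
theorem F271488 : act 9 n60860 = n59867 := d34_2 (iv F266516) D60860 (iv D59867)
def n60861 : Q := act 1 n59677
theorem D60861 : act 1 n59677 = n60861 := rfl
theorem F271489 : act 2 n60861 = n60143 := d9_2 D59677 D60861 (iv D60143) (iv D58920) (iv F261738)
theorem F271490 : act 5 n60861 = n59679 := d12_2 (iv F266518) D60861 (iv D59679)
theorem F271491 : act 7 n60861 = n59694 := d14_2 (iv F266519) D60861 (iv D59694)
theorem F271492 : act 8 n60861 = n59710 := d15_2 (iv F266520) D60861 (iv D59710)
theorem F271493 : act 9 n60861 = n60538 := d16_2 (iv F266521) D60861 (iv D60538)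
def n60862 : Q := act 4 n59677
theorem D60862 : act 4 n59677 = n60862 := rfl
theorem F271494 : act 0 n60862 = n60548 := d3_1 D60862 (iv D60548) (iv F266517)
theorem F271495 : act 2 n60862 = n59678 := d18_1 D60862 (iv D59678) D59677
theorem F271496 : act 7 n60862 = n59695 := d32_2 (iv F266519) D60862 (iv D59695)
theorem F271497 : act 8 n60862 = n59711 := d33_2 (iv F266520) D60862 (iv D59711)
theorem F271498 : act 9 n60862 = n60539 := d34_2 (iv F266521) D60862 (iv D60539)
def n60863 : Q := act 0 n59679
theorem D60863 : act 0 n59679 = n60863 := rfl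
theorem F271499 : act 2 n60863 = n60145 := d1_2 (iv F266528) D60863 (iv D60145)
theorem F271500 : act 6 n60863 = n60660 := d5_2 (iv F266529) D60863 (iv D60660)
theorem F271501 : act 7 n60863 = n59696 := d6_2 (iv F266530) D60863 (iv D59696)
theorem F271502 : act 8 n60863 = n59712 := d7_2 (iv F266531) D60863 (iv D59712)
theorem F271503 : act 9 n60863 = n60678 := d8_2 (iv F266532) D60863 (iv D60678)
def n60864 : Q := act 2 n59680
theorem D60864 : act 2 n59680 = n60864 := rfl
theorem F271504 : act 0 n60864 = n59682 := d1_1 D60864 (iv D59682) (iv F266533)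
theorem F271505 : act 3 n60864 = n60146 := d17_2 D59680 D60864 (iv D60146) (iv D58923) (iv F261749)
theorem F271506 : act 5 n60864 = n60644 := d19_2 (iv F266535) D60864 (iv D60644)
theorem F271507 : act 6 n60864 = n60197 := d20_2 (iv F266536) D60864 (iv D60197)
theorem F271508 : act 7 n60864 = n59903 := d21_2 (iv F266537) D60864 (iv D59903)
theorem F271509 : act 8 n60864 = n60277 := d22_2 (iv F266538) D60864 (iv D60277)
theorem F271510 : act 9 n60864 = n60137 := d23_2 (iv F266539) D60864 (iv D60137)
def n60865 : Q := act 4 n59680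
theorem D60865 : act 4 n59680 = n60865 := rfl
theorem F271511 : act 0 n60865 = n59683 := d3_1 D60865 (iv D59683) (iv F266533)
theorem F271512 : act 1 n60865 = n59792 := d11_1 D60865 F267121 (iv F266534)
theorem F271513 : act 3 n60865 = n59681 := d24_1 D60865 (iv D59681) (iv D58489) (iv F261750) D59680
theorem F271514 : act 6 n60865 = n59707 := d31_2 (iv F266536) D60865 F266668
theorem F271515 : act 7 n60865 = n59904 := d32_2 (iv F266537) D60865 (iv D59904)
theorem F271516 : act 8 n60865 = n60278 := d33_2 (iv F266538) D60865 (iv D60278)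
theorem F271517 : act 9 n60865 = n59751 := d34_2 (iv F266539) D60865 F266905
def n60866 : Q := act 1 n59682
theorem D60866 : act 1 n59682 = n60866 := rfl
theorem F271518 : act 2 n60866 = n59690 := d9_2 D59682 D60866 (iv D59690) (iv D58495) (iv F261762)
theorem F271519 : act 3 n60866 = n60153 := d10_2 (iv F266546) D60866 (iv D60153)
theorem F271520 : act 6 n60866 = n60409 := d13_2 (iv F266547) D60866 (iv D60409)
theorem F271521 : act 9 n60866 = n60392 := d16_2 (iv F266548) D60866 (iv D60392)
def n60867 : Q := act 4 n59682
theorem D60867 : act 4 n59682 = n60867 := rfl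
theorem F271522 : act 2 n60867 = n59683 := d18_1 D60867 (iv D59683) D59682
theorem F271523 : act 6 n60867 = n60410 := d31_2 (iv F266547) D60867 (iv D60410)
theorem F271524 : act 9 n60867 = n60393 := d34_2 (iv F266548) D60867 (iv D60393)
def n60868 : Q := act 5 n59683
theorem D60868 : act 5 n59683 = n60868 := rfl
theorem F271525 : act 1 n60868 = n59692 := d12_1 D60868 (iv D59692) (iv F266549)
theorem F271526 : act 3 n60868 = n59685 := d25_1 D60868 (iv D59685) (iv F266550)
theorem F271527 : act 6 n60868 = n60687 := d35_2 (iv F266551) D60868 (iv D60687) F265502 (iv F264752)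
theorem F271528 : act 9 n60868 = n60394 := d38_2 (iv F266552) D60868 (iv D60394)
def n60869 : Q := act 3 n59684
theorem D60869 : act 3 n59684 = n60869 := rfl
theorem F271529 : act 4 n60869 = n60156 := d24_2 D59684 D60869 (iv D60156) (iv D58930) (iv F261765)
theorem F271530 : act 6 n60869 = n60411 := d26_2 (iv F266554) D60869 (iv D60411)
theorem F271531 : act 9 n60869 = n60408 := d29_2 (iv F266556) D60869 (iv D60408)
def n60870 : Q := act 1 n59686
theorem D60870 : act 1 n59686 = n60870 := rfl
theorem F271532 : act 3 n60870 = n59720 := d10_2 (iv F266563) D60870 (iv D59720)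
theorem F271533 : act 6 n60870 = n60412 := d13_2 (iv F266564) D60870 (iv D60412)
theorem F271534 : act 8 n60870 = n59690 := d15_2 (iv F266565) D60870 (iv D59690)
theorem F271535 : act 9 n60870 = n60365 := d16_2 (iv F266566) D60870 (iv D60365)
def n60871 : Q := act 4 n59686
theorem D60871 : act 4 n59686 = n60871 := rfl
theorem F271536 : act 0 n60871 = n60439 := d3_1 D60871 (iv D60439) (iv F266562)
theorem F271537 : act 2 n60871 = n59687 := d18_1 D60871 (iv D59687) D59686
theorem F271538 : act 6 n60871 = n60413 := d31_2 (iv F266564) D60871 (iv D60413)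
theorem F271539 : act 8 n60871 = n59691 := d33_2 (iv F266565) D60871 (iv D59691)
theorem F271540 : act 9 n60871 = n60366 := d34_2 (iv F266566) D60871 (iv D60366)
def n60872 : Q := act 5 n59687
theorem D60872 : act 5 n59687 = n60872 := rfl
theorem F271541 : act 0 n60872 = n60328 := d4_1 D60872 F269378 (iv F266567)
theorem F271542 : act 3 n60872 = n60872 := d25_1 D60872 (iv D60872) F266568
theorem F271543 : act 4 n60872 = n60135 := d30_1 D60872 F270987 (iv D60781) F266025 D59687
theorem F271544 : act 8 n60872 = n59692 := d37_2 (iv F266570) D60872 (iv D59692)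
theorem F271545 : act 9 n60872 = n60134 := d38_2 (iv F266571) D60872 F268684
def n60873 : Q := act 1 n59688
theorem D60873 : act 1 n59688 = n60873 := rfl
theorem F271546 : act 3 n60873 = n59694 := d10_2 (iv F266573) D60873 (iv D59694)
theorem F271547 : act 5 n60873 = n59690 := d12_2 (iv F266574) D60873 (iv D59690)
theorem F271548 : act 6 n60873 = n60627 := d13_2 (iv F266575) D60873 (iv D60627)
theorem F271549 : act 9 n60873 = n60398 := d16_2 (iv F266576) D60873 (iv D60398)
def n60874 : Q := act 4 n59688
theorem D60874 : act 4 n59688 = n60874 := rfl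
theorem F271550 : act 0 n60874 = n60491 := d3_1 D60874 (iv D60491) (iv F266572)
theorem F271551 : act 2 n60874 = n59689 := d18_1 D60874 (iv D59689) D59688
theorem F271552 : act 6 n60874 = n60628 := d31_2 (iv F266575) D60874 (iv D60628)
theorem F271553 : act 9 n60874 = n60399 := d34_2 (iv F266576) D60874 (iv D60399)
def n60875 : Q := act 5 n59689
theorem D60875 : act 5 n59689 = n60875 := rfl
theorem F271554 : act 0 n60875 = n60221 := d4_1 D60875 F269025 (iv F266577)
theorem F271555 : act 3 n60875 = n60875 := d25_1 D60875 (iv D60875) F266578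
theorem F271556 : act 4 n60875 = n59692 := d30_1 D60875 (iv D59692) (iv D58496) (iv F261779) D59689
theorem F271557 : act 8 n60875 = n60135 := d37_2 F270985 D60875 F270987
theorem F271558 : act 9 n60875 = n60095 := d38_2 (iv F266580) D60875 F268520
def n60876 : Q := act 0 n59690
theorem D60876 : act 0 n59690 = n60876 := rfl
theorem F271559 : act 1 n60876 = n60495 := d0_2 D59690 D60876 (iv D60495) (iv D59272) (iv F261782)
theorem F271560 : act 3 n60876 = n59696 := d2_2 (iv F266581) D60876 (iv D59696)
theorem F271561 : act 6 n60876 = n60414 := d5_2 (iv F266582) D60876 (iv D60414)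
theorem F271562 : act 9 n60876 = n60400 := d8_2 (iv F266583) D60876 (iv D60400)
def n60877 : Q := act 4 n59690
theorem D60877 : act 4 n59690 = n60877 := rfl
theorem F271563 : act 1 n60877 = n59691 := d11_1 D60877 (iv D59691) D59690
theorem F271564 : act 6 n60877 = n60415 := d31_2 (iv F266582) D60877 (iv D60415)
theorem F271565 : act 9 n60877 = n60401 := d34_2 (iv F266583) D60877 (iv D60401)
def n60878 : Q := act 5 n59691
theorem D60878 : act 5 n59691 = n60878 := rfl
theorem F271566 : act 0 n60878 = n60497 := d4_1 D60878 (iv D60497) (iv F266584)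
theorem F271567 : act 2 n60878 = n59692 := d19_1 D60878 (iv D59692) (iv F266585)
theorem F271568 : act 9 n60878 = n60402 := d38_2 (iv F266587) D60878 (iv D60402)
def n60879 : Q := act 6 n59692
theorem D60879 : act 6 n59692 = n60879 := rfl
theorem F271569 : act 0 n60879 = n60252 := d5_1 D60879 F269144 (iv F266588)
theorem F271570 : act 1 n60879 = n60687 := d13_1 D60879 (iv F271527) F271525
theorem F271571 : act 3 n60879 = n59693 := d26_1 D60879 (iv D59693) (iv F266589)
theorem F271572 : act 5 n60879 = n60106 := d35_1 D60879 F268572 F263604 (iv F261788) D59692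
theorem F271573 : act 9 n60879 = n60331 := d41_2 (iv F266590) D60879 F269392
def n60880 : Q := act 0 n59694
theorem D60880 : act 0 n59694 = n60880 := rfl
theorem F271574 : act 2 n60880 = n60174 := d1_2 (iv F266597) D60880 (iv D60174)
theorem F271575 : act 5 n60880 = n59696 := d4_2 (iv F266598) D60880 (iv D59696)
theorem F271576 : act 6 n60880 = n60630 := d5_2 (iv F266599) D60880 (iv D60630)
theorem F271577 : act 8 n60880 = n59731 := d7_2 (iv F266600) D60880 (iv D59731)
theorem F271578 : act 9 n60880 = n60664 := d8_2 (iv F266601) D60880 (iv D60664)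
def n60881 : Q := act 4 n59694
theorem D60881 : act 4 n59694 = n60881 := rfl
theorem F271579 : act 1 n60881 = n59695 := d11_1 D60881 (iv D59695) D59694
theorem F271580 : act 2 n60881 = n60175 := d18_1 D60881 (iv D60175) (iv F266597)
theorem F271581 : act 6 n60881 = n60631 := d31_2 (iv F266599) D60881 (iv D60631)
theorem F271582 : act 8 n60881 = n59732 := d33_2 (iv F266600) D60881 (iv D59732)
theorem F271583 : act 9 n60881 = n60665 := d34_2 (iv F266601) D60881 (iv D60665)
def n60882 : Q := act 3 n59695
theorem D60882 : act 3 n59695 = n60882 := rfl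
theorem F271584 : act 2 n60882 = n60882 := d17_1 D60882 (iv D60882) F266602 F261799 (iv F266602)
theorem F271585 : act 6 n60882 = n60632 := d26_2 (iv F266603) D60882 (iv D60632)
theorem F271586 : act 9 n60882 = n60666 := d29_2 (iv F266605) D60882 (iv D60666)
def n60883 : Q := act 2 n59697
theorem D60883 : act 2 n59697 = n60883 := rfl
theorem F271587 : act 0 n60883 = n59980 := d1_1 D60883 (iv D59980) (iv F266610)
theorem F271588 : act 3 n60883 = n60119 := d17_2 D59697 D60883 (iv D60119) (iv D58894) (iv F261809)
theorem F271589 : act 5 n60883 = n59708 := d19_2 (iv F266612) D60883 (iv D59708)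
theorem F271590 : act 6 n60883 = n59698 := d20_2 (iv F266613) D60883 (iv D59698)
theorem F271591 : act 7 n60883 = n60141 := d21_2 (iv F266614) D60883 (iv D60141)
theorem F271592 : act 8 n60883 = n60187 := d22_2 (iv F266615) D60883 (iv D60187)
theorem F271593 : act 9 n60883 = n59738 := d23_2 (iv F266616) D60883 (iv D59738)
def n60884 : Q := act 4 n59697
theorem D60884 : act 4 n59697 = n60884 := rfl
theorem F271594 : act 0 n60884 = n59981 := d3_1 D60884 (iv D59981) (iv F266610)
theorem F271595 : act 1 n60884 = n60179 := d11_1 D60884 (iv D60179) (iv F266611)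
theorem F271596 : act 3 n60884 = n60884 := d24_1 D60884 (iv D60884) (iv D59697) F261810 D59697
theorem F271597 : act 6 n60884 = n59699 := d31_2 (iv F266613) D60884 (iv D59699)
theorem F271598 : act 7 n60884 = n60142 := d32_2 (iv F266614) D60884 (iv D60142)
theorem F271599 : act 8 n60884 = n60188 := d33_2 (iv F266615) D60884 (iv D60188)
theorem F271600 : act 9 n60884 = n59739 := d34_2 (iv F266616) D60884 (iv D59739)
def n60885 : Q := act 1 n59698
theorem D60885 : act 1 n59698 = n60885 := rfl
theorem F271601 : act 2 n60885 = n60180 := d9_2 D59698 D60885 (iv D60180) (iv D58949) (iv F261815)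
theorem F271602 : act 5 n60885 = n59700 := d12_2 (iv F266617) D60885 (iv D59700)
theorem F271603 : act 7 n60885 = n60172 := d14_2 (iv F266618) D60885 (iv D60172)
theorem F271604 : act 8 n60885 = n60204 := d15_2 (iv F266619) D60885 (iv D60204)
theorem F271605 : act 9 n60885 = n59740 := d16_2 (iv F266620) D60885 (iv D59740)
def n60886 : Q := act 4 n59698
theorem D60886 : act 4 n59698 = n60886 := rfl
theorem F271606 : act 2 n60886 = n59699 := d18_1 D60886 (iv D59699) D59698
theorem F271607 : act 5 n60886 = n60548 := d30_2 (iv F266617) D60886 (iv D60548) (iv F265823) F265822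
theorem F271608 : act 7 n60886 = n60173 := d32_2 (iv F266618) D60886 (iv D60173)
theorem F271609 : act 8 n60886 = n60205 := d33_2 (iv F266619) D60886 (iv D60205)
theorem F271610 : act 9 n60886 = n59741 := d34_2 (iv F266620) D60886 (iv D59741)
def n60887 : Q := act 0 n59700
theorem D60887 : act 0 n59700 = n60887 := rfl
theorem F271611 : act 2 n60887 = n60182 := d1_2 (iv F266627) D60887 (iv D60182)
theorem F271612 : act 6 n60887 = n59712 := d5_2 (iv F266628) D60887 (iv D59712)
theorem F271613 : act 7 n60887 = n60421 := d6_2 (iv F266629) D60887 (iv D60421)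
theorem F271614 : act 8 n60887 = n60660 := d7_2 (iv F266630) D60887 (iv D60660)
theorem F271615 : act 9 n60887 = n59742 := d8_2 (iv F266631) D60887 (iv D59742)
def n60888 : Q := act 1 n59701
theorem D60888 : act 1 n59701 = n60888 := rfl
theorem F271616 : act 2 n60888 = n59705 := d9_2 D59701 D60888 (iv D59705) (iv D58507) (iv F261825)
theorem F271617 : act 3 n60888 = n60183 := d10_2 (iv F266633) D60888 (iv D60183)
theorem F271618 : act 5 n60888 = n60237 := d12_2 (iv F266634) D60888 (iv D60237)
theorem F271619 : act 7 n60888 = n59715 := d14_2 (iv F266635) D60888 (iv D59715)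
theorem F271620 : act 8 n60888 = n60627 := d15_2 (iv F266636) D60888 (iv D60627)
theorem F271621 : act 9 n60888 = n59745 := d16_2 (iv F266637) D60888 (iv D59745)
def n60889 : Q := act 4 n59701
theorem D60889 : act 4 n59701 = n60889 := rfl
theorem F271622 : act 0 n60889 = n60239 := d3_1 D60889 (iv D60239) (iv F266632)
theorem F271623 : act 2 n60889 = n59702 := d18_1 D60889 (iv D59702) D59701
theorem F271624 : act 3 n60889 = n60588 := d24_1 D60889 (iv D60588) F265245 (iv F263861) (iv F266633)
theorem F271625 : act 5 n60889 = n60501 := d30_2 (iv F266634) D60889 (iv D60501) (iv F267057) F267056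
theorem F271626 : act 7 n60889 = n59716 := d32_2 (iv F266635) D60889 (iv D59716)
theorem F271627 : act 8 n60889 = n60628 := d33_2 (iv F266636) D60889 (iv D60628)
theorem F271628 : act 9 n60889 = n59746 := d34_2 (iv F266637) D60889 (iv D59746)
def n60890 : Q := act 1 n59703
theorem D60890 : act 1 n59703 = n60890 := rfl
theorem F271629 : act 2 n60890 = n60627 := d9_2 D59703 D60890 (iv D60627) (iv D59435) (iv F261838)
theorem F271630 : act 5 n60890 = n60289 := d12_2 (iv F266646) D60890 F269250
theorem F271631 : act 7 n60890 = n59720 := d14_2 (iv F266647) D60890 (iv D59720)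
theorem F271632 : act 8 n60890 = n59705 := d15_2 (iv F266648) D60890 (iv D59705)
theorem F271633 : act 9 n60890 = n60293 := d16_2 (iv F266649) D60890 F269268
def n60891 : Q := act 4 n59703
theorem D60891 : act 4 n59703 = n60891 := rfl
theorem F271634 : act 0 n60891 = n60650 := d3_1 D60891 (iv D60650) (iv F266645)
theorem F271635 : act 2 n60891 = n59704 := d18_1 D60891 (iv D59704) D59703
theorem F271636 : act 5 n60891 = n60283 := d30_2 (iv F266646) D60891 (iv D60283) F264188 D59048
theorem F271637 : act 7 n60891 = n59721 := d32_2 (iv F266647) D60891 (iv D59721)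
theorem F271638 : act 8 n60891 = n59706 := d33_2 (iv F266648) D60891 (iv D59706)
theorem F271639 : act 9 n60891 = n60287 := d34_2 (iv F266649) D60891 F269246
def n60892 : Q := act 0 n59705
theorem D60892 : act 0 n59705 = n60892 := rfl
theorem F271640 : act 1 n60892 = n60690 := d0_2 D59705 D60892 (iv D60690) (iv D59504) (iv F261843)
theorem F271641 : act 3 n60892 = n59712 := d2_2 (iv F266657) D60892 (iv D59712)
theorem F271642 : act 5 n60892 = n60614 := d4_2 (iv F266658) D60892 (iv D60614)
theorem F271643 : act 7 n60892 = n59724 := d6_2 (iv F266659) D60892 (iv D59724)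
theorem F271644 : act 9 n60892 = n59748 := d8_2 (iv F266660) D60892 (iv D59748)
def n60893 : Q := act 4 n59705
theorem D60893 : act 4 n59705 = n60893 := rfl
theorem F271645 : act 1 n60893 = n59706 := d11_1 D60893 (iv D59706) D59705
theorem F271646 : act 7 n60893 = n59725 := d32_2 (iv F266659) D60893 (iv D59725)
theorem F271647 : act 9 n60893 = n59749 := d34_2 (iv F266660) D60893 (iv D59749)
def n60894 : Q := act 5 n59706
theorem D60894 : act 5 n59706 = n60894 := rfl
theorem F271648 : act 0 n60894 = n60410 := d4_1 D60894 F269718 (iv F266661)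
theorem F271649 : act 2 n60894 = n59707 := d19_1 D60894 (iv D59707) (iv F266662)
theorem F271650 : act 4 n60894 = n60197 := d30_1 D60894 F268922 F263920 (iv F261845) D59706
theorem F271651 : act 7 n60894 = n59726 := d36_2 (iv F266663) D60894 (iv D59726)
theorem F271652 : act 8 n60894 = n60283 := d37_2 F271638 D60894 (iv F271636)
theorem F271653 : act 9 n60894 = n59750 := d38_2 (iv F266664) D60894 (iv D59750)
def n60895 : Q := act 1 n59708
theorem D60895 : act 1 n59708 = n60895 := rfl
theorem F271654 : act 2 n60895 = n60189 := d9_2 D59708 D60895 (iv D60189) (iv D58957) (iv F261859)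
theorem F271655 : act 3 n60895 = n60123 := d10_2 (iv F266673) D60895 (iv D60123)
theorem F271656 : act 6 n60895 = n59710 := d13_2 (iv F266674) D60895 (iv D59710)
theorem F271657 : act 7 n60895 = n60636 := d14_2 (iv F266675) D60895 (iv D60636)
theorem F271658 : act 9 n60895 = n59754 := d16_2 (iv F266676) D60895 (iv D59754)
def n60896 : Q := act 4 n59708
theorem D60896 : act 4 n59708 = n60896 := rfl
theorem F271659 : act 0 n60896 = n59986 := d3_1 D60896 (iv D59986) (iv F266672)
theorem F271660 : act 2 n60896 = n59709 := d18_1 D60896 (iv D59709) D59708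
theorem F271661 : act 3 n60896 = n60623 := d24_1 D60896 (iv D60623) F265339 (iv F263654) (iv F266673)
theorem F271662 : act 6 n60896 = n59711 := d31_2 (iv F266674) D60896 (iv D59711)
theorem F271663 : act 7 n60896 = n60637 := d32_2 (iv F266675) D60896 (iv D60637)
theorem F271664 : act 9 n60896 = n59755 := d34_2 (iv F266676) D60896 (iv D59755)
def n60897 : Q := act 5 n59709
theorem D60897 : act 5 n59709 = n60897 := rfl
theorem F271665 : act 0 n60897 = n59987 := d4_1 D60897 (iv D59987) (iv F266677)
theorem F271666 : act 1 n60897 = n60191 := d12_1 D60897 (iv D60191) (iv F266678)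
theorem F271667 : act 3 n60897 = n59734 := d25_1 D60897 (iv D59734) (iv F266679)
theorem F271668 : act 7 n60897 = n60009 := d36_2 (iv F266681) D60897 F268109
theorem F271669 : act 9 n60897 = n59756 := d38_2 (iv F266682) D60897 (iv D59756)
def n60898 : Q := act 0 n59710
theorem D60898 : act 0 n59710 = n60898 := rfl
theorem F271670 : act 1 n60898 = n60568 := d0_2 D59710 D60898 (iv D60568) (iv D59358) (iv F261863)
theorem F271671 : act 2 n60898 = n60192 := d1_2 (iv F266683) D60898 (iv D60192)
theorem F271672 : act 3 n60898 = n60614 := d2_2 (iv F266684) D60898 (iv D60614)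
theorem F271673 : act 5 n60898 = n59712 := d4_2 (iv F266685) D60898 (iv D59712)
theorem F271674 : act 7 n60898 = n59731 := d6_2 (iv F266686) D60898 (iv D59731)
theorem F271675 : act 9 n60898 = n59757 := d8_2 (iv F266687) D60898 (iv D59757)
def n60899 : Q := act 4 n59710
theorem D60899 : act 4 n59710 = n60899 := rfl
theorem F271676 : act 1 n60899 = n59711 := d11_1 D60899 (iv D59711) D59710
theorem F271677 : act 2 n60899 = n60193 := d18_1 D60899 (iv D60193) (iv F266683)
theorem F271678 : act 7 n60899 = n59732 := d32_2 (iv F266686) D60899 (iv D59732)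
theorem F271679 : act 9 n60899 = n59758 := d34_2 (iv F266687) D60899 (iv D59758)
def n60900 : Q := act 3 n59711
theorem D60900 : act 3 n59711 = n60900 := rfl
theorem F271680 : act 0 n60900 = n60425 := d2_1 D60900 F269771 (iv F266688)
theorem F271681 : act 2 n60900 = n59735 := d17_1 D60900 (iv D59735) F261970 (iv F261870) (iv F266689)
theorem F271682 : act 4 n60900 = n60161 := d24_2 D59711 D60900 F268795 F263920 (iv F261864)
theorem F271683 : act 6 n60900 = n60623 := d26_2 F271662 D60900 (iv F271661)
theorem F271684 : act 7 n60900 = n59733 := d27_2 (iv F266690) D60900 (iv D59733)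
theorem F271685 : act 9 n60900 = n59759 := d29_2 (iv F266691) D60900 (iv D59759)
def n60901 : Q := act 1 n59713
theorem D60901 : act 1 n59713 = n60901 := rfl
theorem F271686 : act 2 n60901 = n59720 := d9_2 D59713 D60901 (iv D59720) (iv D58519) (iv F261877)
theorem F271687 : act 3 n60901 = n60180 := d10_2 (iv F266696) D60901 (iv D60180)
theorem F271688 : act 5 n60901 = n60177 := d12_2 (iv F266697) D60901 (iv D60177)
theorem F271689 : act 6 n60901 = n60432 := d13_2 (iv F266698) D60901 (iv D60432)
theorem F271690 : act 7 n60901 = n60627 := d14_2 (iv F266699) D60901 (iv D60627)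
theorem F271691 : act 8 n60901 = n59715 := d15_2 (iv F266700) D60901 (iv D59715)
theorem F271692 : act 9 n60901 = n60226 := d16_2 (iv F266701) D60901 (iv D60226)
def n60902 : Q := act 4 n59713
theorem D60902 : act 4 n59713 = n60902 := rfl
theorem F271693 : act 0 n60902 = n60269 := d3_1 D60902 (iv D60269) (iv F266695)
theorem F271694 : act 2 n60902 = n59714 := d18_1 D60902 (iv D59714) D59713
theorem F271695 : act 5 n60902 = n60489 := d30_2 (iv F266697) D60902 (iv D60489) F264984 (iv F263842)
theorem F271696 : act 6 n60902 = n60433 := d31_2 (iv F266698) D60902 (iv D60433)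
theorem F271697 : act 7 n60902 = n60628 := d32_2 (iv F266699) D60902 (iv D60628)
theorem F271698 : act 8 n60902 = n59716 := d33_2 (iv F266700) D60902 (iv D59716)
theorem F271699 : act 9 n60902 = n60227 := d34_2 (iv F266701) D60902 (iv D60227)
def n60903 : Q := act 0 n59715
theorem D60903 : act 0 n59715 = n60903 := rfl
theorem F271700 : act 1 n60903 = n60272 := d0_2 D59715 D60903 (iv D60272) (iv D59034) (iv F261883)
theorem F271701 : act 2 n60903 = n59724 := d1_2 (iv F266710) D60903 (iv D59724)
theorem F271702 : act 3 n60903 = n60196 := d2_2 (iv F266711) D60903 (iv D60196)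
theorem F271703 : act 5 n60903 = n60266 := d4_2 (iv F266712) D60903 (iv D60266)
theorem F271704 : act 6 n60903 = n60435 := d5_2 (iv F266713) D60903 (iv D60435)
theorem F271705 : act 9 n60903 = n59768 := d8_2 (iv F266714) D60903 (iv D59768)
def n60904 : Q := act 4 n59715
theorem D60904 : act 4 n59715 = n60904 := rfl
theorem F271706 : act 1 n60904 = n59716 := d11_1 D60904 (iv D59716) D59715
theorem F271707 : act 2 n60904 = n59725 := d18_1 D60904 (iv D59725) (iv F266710)
theorem F271708 : act 3 n60904 = n60600 := d24_1 D60904 (iv D60600) F265288 (iv F263906) (iv F266711)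
theorem F271709 : act 5 n60904 = n60503 := d30_2 (iv F266712) D60904 (iv D60503) (iv F267065) F267064
theorem F271710 : act 6 n60904 = n60436 := d31_2 (iv F266713) D60904 (iv D60436)
theorem F271711 : act 9 n60904 = n59769 := d34_2 (iv F266714) D60904 (iv D59769)
def n60905 : Q := act 1 n59717
theorem D60905 : act 1 n59717 = n60905 := rfl
theorem F271712 : act 2 n60905 = n60177 := d9_2 D59717 D60905 (iv D60177) (iv D58947) (iv F261895)
theorem F271713 : act 4 n60905 = n60246 := d11_2 (iv F266722) D60905 (iv D60246)
theorem F271714 : act 5 n60905 = n59720 := d12_2 (iv F266723) D60905 (iv D59720)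
theorem F271715 : act 6 n60905 = n60183 := d13_2 (iv F266724) D60905 (iv D60183)
theorem F271716 : act 7 n60905 = n60289 := d14_2 (iv F266725) D60905 F269250
theorem F271717 : act 8 n60905 = n59723 := d15_2 (iv F266726) D60905 (iv D59723)
theorem F271718 : act 9 n60905 = n60222 := d16_2 (iv F266727) D60905 (iv D60222)
def n60906 : Q := act 1 n59718
theorem D60906 : act 1 n59718 = n60906 := rfl
theorem F271719 : act 2 n60906 = n60226 := d9_2 D59718 D60906 (iv D60226) (iv D58993) (iv F261903)
theorem F271720 : act 3 n60906 = n60365 := d10_2 (iv F266729) D60906 (iv D60365)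
theorem F271721 : act 5 n60906 = n60222 := d12_2 (iv F266730) D60906 (iv D60222)
theorem F271722 : act 6 n60906 = n60438 := d13_2 (iv F266731) D60906 (iv D60438)
theorem F271723 : act 7 n60906 = n60293 := d14_2 (iv F266732) D60906 F269268
theorem F271724 : act 8 n60906 = n59771 := d15_2 (iv F266733) D60906 (iv D59771)
theorem F271725 : act 9 n60906 = n59720 := d16_2 (iv F266734) D60906 (iv D59720)
def n60907 : Q := act 4 n59718
theorem D60907 : act 4 n59718 = n60907 := rfl
theorem F271726 : act 0 n60907 = n60413 := d3_1 D60907 (iv D60413) (iv F266728)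
theorem F271727 : act 2 n60907 = n59719 := d18_1 D60907 (iv D59719) D59718
theorem F271728 : act 5 n60907 = n60245 := d30_2 (iv F266730) D60907 (iv D60245) F264095 (iv F264024)
theorem F271729 : act 6 n60907 = n60439 := d31_2 (iv F266731) D60907 (iv D60439)
theorem F271730 : act 7 n60907 = n60287 := d32_2 (iv F266732) D60907 F269246
theorem F271731 : act 8 n60907 = n59772 := d33_2 (iv F266733) D60907 (iv D59772)
theorem F271732 : act 9 n60907 = n59721 := d34_2 (iv F266734) D60907 (iv D59721)
def n60908 : Q := act 0 n59720
theorem D60908 : act 0 n59720 = n60908 := rfl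
theorem F271733 : act 6 n60908 = n60440 := d5_2 (iv F266743) D60908 (iv D60440)
theorem F271734 : act 8 n60908 = n59724 := d7_2 (iv F266744) D60908 (iv D59724)
def n60909 : Q := act 4 n59720
theorem D60909 : act 4 n59720 = n60909 := rfl
theorem F271735 : act 1 n60909 = n59721 := d11_1 D60909 (iv D59721) D59720
theorem F271736 : act 6 n60909 = n60441 := d31_2 (iv F266743) D60909 (iv D60441)
theorem F271737 : act 8 n60909 = n59725 := d33_2 (iv F266744) D60909 (iv D59725)
def n60910 : Q := act 3 n59721
theorem D60910 : act 3 n59721 = n60910 := rfl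
theorem F271738 : act 2 n60910 = n60910 := d17_1 D60910 (iv D60910) F266745 F261911 (iv F266745)
theorem F271739 : act 6 n60910 = n60442 := d26_2 (iv F266746) D60910 (iv D60442)
def n60911 : Q := act 5 n59721
theorem D60911 : act 5 n59721 = n60911 := rfl
theorem F271740 : act 0 n60911 = n60639 := d4_1 D60911 (iv F271314) F271312
theorem F271741 : act 2 n60911 = n59722 := d19_1 D60911 (iv D59722) (iv F266745)
theorem F271742 : act 4 n60911 = n60243 := d30_1 D60911 F269111 (iv F266722) F266723 D59721
theorem F271743 : act 7 n60911 = n60283 := d36_2 F271637 D60911 (iv F271636)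
theorem F271744 : act 8 n60911 = n59726 := d37_2 (iv F266747) D60911 (iv D59726)
theorem F271745 : act 9 n60911 = n60245 := d38_2 F271732 D60911 (iv F271728)
theorem F271746 : act 6 n60479 = n60911 := d40_3 F271744 (iv F266773) (iv F269930)
def n60912 : Q := act 0 n59723
theorem D60912 : act 0 n59723 = n60912 := rfl
theorem F271747 : act 1 n60912 = n60118 := d0_2 D59723 D60912 (iv D60118) (iv D58893) (iv F261914)
theorem F271748 : act 2 n60912 = n60266 := d1_2 (iv F266756) D60912 (iv D60266)
theorem F271749 : act 3 n60912 = n59731 := d2_2 (iv F266757) D60912 (iv D59731)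
theorem F271750 : act 4 n60912 = n60635 := d3_2 (iv F266758) D60912 (iv D60635)
theorem F271751 : act 5 n60912 = n59724 := d4_2 (iv F266759) D60912 (iv D59724)
theorem F271752 : act 6 n60912 = n60612 := d5_2 (iv F266760) D60912 (iv D60612)
theorem F271753 : act 7 n60912 = n60614 := d6_2 (iv F266761) D60912 (iv D60614)
theorem F271754 : act 9 n60912 = n59779 := d8_2 (iv F266762) D60912 (iv D59779)
def n60913 : Q := act 4 n59724
theorem D60913 : act 4 n59724 = n60913 := rfl
theorem F271755 : act 0 n60913 = n59725 := d3_1 D60913 (iv D59725) D59724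
theorem F271756 : act 6 n60913 = n60444 := d31_2 (iv F266764) D60913 (iv D60444)
theorem F271757 : act 9 n60913 = n59780 := d34_2 (iv F266765) D60913 (iv D59780)
def n60914 : Q := act 5 n59725
theorem D60914 : act 5 n59725 = n60914 := rfl
theorem F271758 : act 1 n60914 = n59726 := d12_1 D60914 (iv D59726) (iv F266766)
theorem F271759 : act 2 n60914 = n60503 := d19_1 D60914 (iv F271709) F271707
theorem F271760 : act 4 n60914 = n60484 := d30_1 D60914 F269942 (iv F266758) F266759 D59725
theorem F271761 : act 9 n60914 = n59781 := d38_2 (iv F266768) D60914 (iv D59781)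
theorem F271762 : act 6 n60486 = n60914 := d31_0 F271760 F269943 D60486
def n60915 : Q := act 1 n59727
theorem D60915 : act 1 n59727 = n60915 := rfl
theorem F271763 : act 2 n60915 = n60204 := d9_2 D59727 D60915 (iv D60204) (iv D58972) (iv F261934)
theorem F271764 : act 3 n60915 = n60195 := d10_2 (iv F266775) D60915 (iv D60195)
theorem F271765 : act 5 n60915 = n60136 := d12_2 (iv F266776) D60915 (iv D60136)
theorem F271766 : act 6 n60915 = n60636 := d13_2 (iv F266777) D60915 (iv D60636)
theorem F271767 : act 7 n60915 = n59729 := d14_2 (iv F266778) D60915 (iv D59729)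
theorem F271768 : act 8 n60915 = n60180 := d15_2 (iv F266779) D60915 (iv D60180)
theorem F271769 : act 9 n60915 = n59783 := d16_2 (iv F266780) D60915 (iv D59783)
def n60916 : Q := act 4 n59727
theorem D60916 : act 4 n59727 = n60916 := rfl
theorem F271770 : act 0 n60916 = n60588 := d3_1 D60916 (iv D60588) (iv F266774)
theorem F271771 : act 2 n60916 = n59728 := d18_1 D60916 (iv D59728) D59727
theorem F271772 : act 3 n60916 = n60239 := d24_1 D60916 (iv D60239) F264075 (iv F263901) (iv F266775)
theorem F271773 : act 5 n60916 = n60063 := d30_2 (iv F266776) D60916 (iv D60063) (iv F266226) F266225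
theorem F271774 : act 6 n60916 = n60637 := d31_2 (iv F266777) D60916 (iv D60637)
theorem F271775 : act 7 n60916 = n59730 := d32_2 (iv F266778) D60916 (iv D59730)
theorem F271776 : act 8 n60916 = n60181 := d33_2 (iv F266779) D60916 (iv D60181)
theorem F271777 : act 9 n60916 = n59784 := d34_2 (iv F266780) D60916 (iv D59784)
def n60917 : Q := act 0 n59729
theorem D60917 : act 0 n59729 = n60917 := rfl
theorem F271778 : act 1 n60917 = n60599 := d0_2 D59729 D60917 (iv D60599) (iv D59399) (iv F261940)
theorem F271779 : act 2 n60917 = n60206 := d1_2 (iv F266789) D60917 (iv D60206)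
theorem F271780 : act 3 n60917 = n60612 := d2_2 (iv F266790) D60917 (iv D60612)
theorem F271781 : act 5 n60917 = n60445 := d4_2 (iv F266791) D60917 (iv D60445)
theorem F271782 : act 6 n60917 = n59731 := d5_2 (iv F266792) D60917 (iv D59731)
theorem F271783 : act 8 n60917 = n60630 := d7_2 (iv F266793) D60917 (iv D60630)
theorem F271784 : act 9 n60917 = n59785 := d8_2 (iv F266794) D60917 (iv D59785)
def n60918 : Q := act 4 n59729
theorem D60918 : act 4 n59729 = n60918 := rfl
theorem F271785 : act 1 n60918 = n59730 := d11_1 D60918 (iv D59730) D59729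
theorem F271786 : act 2 n60918 = n60207 := d18_1 D60918 (iv D60207) (iv F266789)
theorem F271787 : act 3 n60918 = n60273 := d24_1 D60918 (iv D60273) (iv F266997) F266998 (iv F266790)
theorem F271788 : act 5 n60918 = n60068 := d30_2 (iv F266791) D60918 (iv D60068) (iv F266234) F266233
theorem F271789 : act 6 n60918 = n59732 := d31_2 (iv F266792) D60918 (iv D59732)
theorem F271790 : act 8 n60918 = n60631 := d33_2 (iv F266793) D60918 (iv D60631)
theorem F271791 : act 9 n60918 = n59786 := d34_2 (iv F266794) D60918 (iv D59786)
def n60919 : Q := act 4 n59731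
theorem D60919 : act 4 n59731 = n60919 := rfl
theorem F271792 : act 0 n60919 = n59732 := d3_1 D60919 (iv D59732) D59731
theorem F271793 : act 2 n60919 = n60209 := d18_1 D60919 (iv D60209) (iv F266802)
theorem F271794 : act 9 n60919 = n59787 := d34_2 (iv F266804) D60919 (iv D59787)
def n60920 : Q := act 3 n59732
theorem D60920 : act 3 n59732 = n60920 := rfl
theorem F271795 : act 1 n60920 = n59733 := d10_1 D60920 (iv D59733) (iv F266805)
theorem F271796 : act 4 n60920 = n60271 := d24_2 D59732 D60920 F269198 (iv F266758) F266757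
theorem F271797 : act 6 n60920 = n60273 := d26_2 F271789 D60920 (iv F271787)
theorem F271798 : act 9 n60920 = n59788 := d29_2 (iv F266807) D60920 (iv D59788)
theorem F271799 : act 2 n60299 = n60920 := d20_3 F271797 F269205 (iv F269289)
def n60921 : Q := act 8 n59733
theorem D60921 : act 8 n59733 = n60921 := rfl
theorem F271800 : act 0 n60921 = n60433 := d7_1 D60921 F269800 (iv F266808)
theorem F271801 : act 2 n60921 = n59736 := d22_1 D60921 (iv D59736) (iv F266809)
theorem F271802 : act 4 n60921 = n60267 := d33_1 D60921 F269186 (iv F266810)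
theorem F271803 : act 6 n60921 = n60269 := d40_1 D60921 F269192 (iv F266811)
def n60922 : Q := act 8 n59735
theorem D60922 : act 8 n59735 = n60922 := rfl
theorem F271804 : act 0 n60922 = n60423 := d7_1 D60922 F269764 (iv F266820)
theorem F271805 : act 1 n60922 = n60276 := d15_1 D60922 F269219 (iv F266821)
theorem F271806 : act 3 n60922 = n60922 := d28_1 D60922 (iv D60922) (iv D59735) F261973 D59735
theorem F271807 : act 4 n60922 = n59907 := d33_1 D60922 F267729 (iv F266822)
theorem F271808 : act 6 n60922 = n60460 := d40_1 D60922 F269876 (iv F266823)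
theorem F271809 : act 7 n60922 = n59736 := d42_1 D60922 (iv D59736) (iv F266824)
theorem F271810 : act 9 n60922 = n59909 := d44_2 (iv F266825) D60922 F267736 F262861 (iv F262248)
def n60923 : Q := act 9 n59736
theorem D60923 : act 9 n59736 = n60923 := rfl
theorem F271811 : act 0 n60923 = n60225 := d8_1 D60923 F269047 (iv F266826)
theorem F271812 : act 1 n60923 = n60278 := d16_1 D60923 F269225 (iv F266827)
theorem F271813 : act 3 n60923 = n60923 := d29_1 D60923 (iv D60923) F266828
theorem F271814 : act 4 n60923 = n59897 := d34_1 D60923 F267682 (iv F266829)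
theorem F271815 : act 6 n60923 = n60097 := d41_1 D60923 F268533 (iv F266830)
theorem F271816 : act 7 n60923 = n59909 := d43_1 D60923 (iv F271810) F271809
theorem F271817 : act 8 n60923 = n59792 := d44_1 D60923 (iv D59792) (iv D58589) (iv F261987) D59736
def n60924 : Q := act 2 n59737
theorem D60924 : act 2 n59737 = n60924 := rfl
theorem F271818 : act 0 n60924 = n59953 := d1_1 D60924 (iv D59953) (iv F266831)
theorem F271819 : act 3 n60924 = n60102 := d17_2 D59737 D60924 (iv D60102) (iv D58880) (iv F261990)
theorem F271820 : act 5 n60924 = n59752 := d19_2 (iv F266833) D60924 (iv D59752)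
theorem F271821 : act 6 n60924 = n59900 := d20_2 (iv F266834) D60924 (iv D59900)
theorem F271822 : act 7 n60924 = n59738 := d21_2 (iv F266835) D60924 (iv D59738)
theorem F271823 : act 8 n60924 = n59864 := d22_2 (iv F266836) D60924 (iv D59864)
theorem F271824 : act 9 n60924 = n60141 := d23_2 (iv F266837) D60924 (iv D60141)
def n60925 : Q := act 4 n59737
theorem D60925 : act 4 n59737 = n60925 := rfl
theorem F271825 : act 0 n60925 = n59954 := d3_1 D60925 (iv D59954) (iv F266831)
theorem F271826 : act 1 n60925 = n59867 := d11_1 D60925 (iv D59867) (iv F266832)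
theorem F271827 : act 3 n60925 = n60925 := d24_1 D60925 (iv D60925) (iv D59737) F261991 D59737
theorem F271828 : act 5 n60925 = n60008 := d30_2 (iv F266833) D60925 F268107 F266921 (iv D59753)
theorem F271829 : act 6 n60925 = n59901 := d31_2 (iv F266834) D60925 (iv D59901)
theorem F271830 : act 7 n60925 = n59739 := d32_2 (iv F266835) D60925 (iv D59739)
theorem F271831 : act 8 n60925 = n59865 := d33_2 (iv F266836) D60925 (iv D59865)
theorem F271832 : act 9 n60925 = n60142 := d34_2 (iv F266837) D60925 (iv D60142)
def n60926 : Q := act 1 n59738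
theorem D60926 : act 1 n59738 = n60926 := rfl
theorem F271833 : act 2 n60926 = n60232 := d9_2 D59738 D60926 (iv D60232) (iv D58998) (iv F261997)
theorem F271834 : act 3 n60926 = n60121 := d10_2 (iv F266839) D60926 (iv D60121)
theorem F271835 : act 5 n60926 = n59754 := d12_2 (iv F266840) D60926 (iv D59754)
theorem F271836 : act 6 n60926 = n59740 := d13_2 (iv F266841) D60926 (iv D59740)
theorem F271837 : act 8 n60926 = n59885 := d15_2 (iv F266842) D60926 (iv D59885)
def n60927 : Q := act 4 n59738
theorem D60927 : act 4 n59738 = n60927 := rfl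
theorem F271838 : act 0 n60927 = n59983 := d3_1 D60927 (iv D59983) (iv F266838)
theorem F271839 : act 2 n60927 = n59739 := d18_1 D60927 (iv D59739) D59738
theorem F271840 : act 6 n60927 = n59741 := d31_2 (iv F266841) D60927 (iv D59741)
theorem F271841 : act 8 n60927 = n59886 := d33_2 (iv F266842) D60927 (iv D59886)
def n60928 : Q := act 5 n59739
theorem D60928 : act 5 n59739 = n60928 := rfl
theorem F271842 : act 0 n60928 = n59984 := d4_1 D60928 (iv D59984) (iv F266843)
theorem F271843 : act 1 n60928 = n59948 := d12_1 D60928 F267890 (iv F266844)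
theorem F271844 : act 3 n60928 = n60928 := d25_1 D60928 (iv D60928) F266845
theorem F271845 : act 4 n60928 = n59756 := d30_1 D60928 (iv D59756) (iv D58551) (iv F261998) D59739
theorem F271846 : act 6 n60928 = n59937 := d35_2 (iv F266846) D60928 (iv D59937) F262945 (iv F262005)
theorem F271847 : act 7 n60928 = n60008 := d36_2 F271830 D60928 (iv F271828)
theorem F271848 : act 8 n60928 = n59887 := d37_2 (iv F266847) D60928 (iv D59887)
def n60929 : Q := act 0 n59740
theorem D60929 : act 0 n59740 = n60929 := rfl
theorem F271849 : act 2 n60929 = n60234 := d1_2 (iv F266848) D60929 (iv D60234)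
theorem F271850 : act 5 n60929 = n59742 := d4_2 (iv F266849) D60929 (iv D59742)
theorem F271851 : act 7 n60929 = n60452 := d6_2 (iv F266850) D60929 (iv D60452)
def n60930 : Q := act 4 n59740
theorem D60930 : act 4 n59740 = n60930 := rfl
theorem F271852 : act 1 n60930 = n59741 := d11_1 D60930 (iv D59741) D59740
theorem F271853 : act 2 n60930 = n60235 := d18_1 D60930 (iv D60235) (iv F266848)
theorem F271854 : act 5 n60930 = n60550 := d30_2 (iv F266849) D60930 (iv D60550) (iv F265961) F265960
theorem F271855 : act 7 n60930 = n60453 := d32_2 (iv F266850) D60930 (iv D60453)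
theorem F271856 : act 8 n60930 = n60553 := d33_2 F270482 D60930 (iv F270478)
def n60931 : Q := act 3 n59741
theorem D60931 : act 3 n59741 = n60931 := rfl
theorem F271857 : act 2 n60931 = n60931 := d17_1 D60931 (iv D60931) F266851 F262004 (iv F266851)
theorem F271858 : act 5 n60931 = n60551 := d25_2 (iv F266852) D60931 (iv D60551)
theorem F271859 : act 7 n60931 = n60454 := d27_2 (iv F266853) D60931 (iv D60454)
def n60932 : Q := act 1 n59743
theorem D60932 : act 1 n59743 = n60932 := rfl
theorem F271860 : act 2 n60932 = n60185 := d9_2 D59743 D60932 (iv D60185) (iv D58954) (iv F262012)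
theorem F271861 : act 3 n60932 = n60237 := d10_2 (iv F266859) D60932 (iv D60237)
theorem F271862 : act 5 n60932 = n60183 := d12_2 (iv F266860) D60932 (iv D60183)
theorem F271863 : act 6 n60932 = n60437 := d13_2 (iv F266861) D60932 (iv D60437)
theorem F271864 : act 7 n60932 = n59761 := d14_2 (iv F266862) D60932 (iv D59761)
theorem F271865 : act 8 n60932 = n60360 := d15_2 (iv F266863) D60932 (iv D60360)
theorem F271866 : act 9 n60932 = n60238 := d16_2 (iv F266864) D60932 (iv D60238)
def n60933 : Q := act 4 n59743
theorem D60933 : act 4 n59743 = n60933 := rfl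
theorem F271867 : act 0 n60933 = n59746 := d3_1 D60933 (iv D59746) (iv F266858)
theorem F271868 : act 2 n60933 = n59744 := d18_1 D60933 (iv D59744) D59743
theorem F271869 : act 3 n60933 = n59784 := d24_1 D60933 (iv D59784) (iv F267055) F267056 (iv F266859)
theorem F271870 : act 5 n60933 = n59766 := d30_2 (iv F266860) D60933 (iv D59766) F262112 (iv F263861)
theorem F271871 : act 6 n60933 = n60057 := d31_2 (iv F266861) D60933 F268341
theorem F271872 : act 7 n60933 = n59762 := d32_2 (iv F266862) D60933 (iv D59762)
theorem F271873 : act 8 n60933 = n59770 := d33_2 (iv F266863) D60933 F267013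
theorem F271874 : act 9 n60933 = n60239 := d34_2 (iv F266864) D60933 (iv D60239)
def n60934 : Q := act 0 n59745
theorem D60934 : act 0 n59745 = n60934 := rfl
theorem F271875 : act 2 n60934 = n59748 := d1_2 (iv F266873) D60934 (iv D59748)
theorem F271876 : act 3 n60934 = n60240 := d2_2 (iv F266874) D60934 (iv D60240)
theorem F271877 : act 5 n60934 = n60613 := d4_2 (iv F266875) D60934 (iv D60613)
theorem F271878 : act 7 n60934 = n59768 := d6_2 (iv F266876) D60934 (iv D59768)
theorem F271879 : act 8 n60934 = n60361 := d7_2 (iv F266877) D60934 (iv D60361)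
def n60935 : Q := act 4 n59745
theorem D60935 : act 4 n59745 = n60935 := rfl
theorem F271880 : act 1 n60935 = n59746 := d11_1 D60935 (iv D59746) D59745
theorem F271881 : act 2 n60935 = n59749 := d18_1 D60935 (iv D59749) (iv F266873)
theorem F271882 : act 7 n60935 = n59769 := d32_2 (iv F266876) D60935 (iv D59769)
theorem F271883 : act 8 n60935 = n60362 := d33_2 (iv F266877) D60935 (iv D60362)
def n60936 : Q := act 5 n59746
theorem D60936 : act 5 n59746 = n60936 := rfl
theorem F271884 : act 0 n60936 = n59766 := d4_1 D60936 (iv F271870) F271867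
theorem F271885 : act 2 n60936 = n59747 := d19_1 D60936 (iv D59747) (iv F266878)
theorem F271886 : act 3 n60936 = n60052 := d25_1 D60936 (iv F271382) F271381
theorem F271887 : act 4 n60936 = n59760 := d30_1 D60936 F266954 F263901 (iv F262027) D59746
theorem F271888 : act 6 n60936 = n59789 := d35_2 F270997 D60936 (iv F271130) F271131 F271000
theorem F271889 : act 7 n60936 = n59770 := d36_2 (iv F266879) D60936 (iv D59770)
theorem F271890 : act 8 n60936 = n59762 := d37_2 (iv F266880) D60936 F266967
theorem F271891 : act 9 n60936 = n60501 := d38_2 F271628 D60936 (iv F271625)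
def n60937 : Q := act 4 n59748
theorem D60937 : act 4 n59748 = n60937 := rfl
theorem F271892 : act 0 n60937 = n59749 := d3_1 D60937 (iv D59749) D59748
theorem F271893 : act 1 n60937 = n60692 := d11_1 D60937 (iv D60692) (iv F266889)
theorem F271894 : act 7 n60937 = n59780 := d32_2 (iv F266892) D60937 (iv D59780)
theorem F271895 : act 8 n60937 = n60363 := d33_2 (iv F266893) D60937 (iv D60363)
def n60938 : Q := act 5 n59749
theorem D60938 : act 5 n59749 = n60938 := rfl
theorem F271896 : act 1 n60938 = n59750 := d12_1 D60938 (iv D59750) (iv F266894)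
theorem F271897 : act 4 n60938 = n60198 := d30_1 D60938 F268926 F263925 (iv F262043) D59749
theorem F271898 : act 7 n60938 = n59781 := d36_2 (iv F266895) D60938 (iv D59781)
theorem F271899 : act 8 n60938 = n60203 := d37_2 (iv F266896) D60938 F268949
def n60939 : Q := act 6 n59750
theorem D60939 : act 6 n59750 = n60939 := rfl
theorem F271900 : act 0 n60939 = n60393 := d5_1 D60939 F269664 (iv F266897)
theorem F271901 : act 2 n60939 = n59751 := d20_1 D60939 (iv D59751) (iv F266898)
theorem F271902 : act 4 n60939 = n60137 := d31_1 D60939 F268694 (iv F266899)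
theorem F271903 : act 7 n60939 = n60154 := d39_2 (iv F266900) D60939 F268765 F267084 (iv D59782)
theorem F271904 : act 8 n60939 = n59791 := d40_2 (iv F266901) D60939 F267117
def n60940 : Q := act 1 n59752
theorem D60940 : act 1 n59752 = n60940 := rfl
theorem F271905 : act 2 n60940 = n60257 := d9_2 D59752 D60940 (iv D60257) (iv D59020) (iv F262061)
theorem F271906 : act 3 n60940 = n60104 := d10_2 (iv F266909) D60940 (iv D60104)
theorem F271907 : act 6 n60940 = n59783 := d13_2 (iv F266910) D60940 (iv D59783)
theorem F271908 : act 7 n60940 = n59754 := d14_2 (iv F266911) D60940 (iv D59754)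
theorem F271909 : act 8 n60940 = n59877 := d15_2 (iv F266912) D60940 (iv D59877)
theorem F271910 : act 9 n60940 = n60636 := d16_2 (iv F266913) D60940 (iv D60636)
def n60941 : Q := act 4 n59752
theorem D60941 : act 4 n59752 = n60941 := rfl
theorem F271911 : act 0 n60941 = n59958 := d3_1 D60941 (iv D59958) (iv F266908)
theorem F271912 : act 2 n60941 = n59753 := d18_1 D60941 (iv D59753) D59752
theorem F271913 : act 3 n60941 = n60057 := d24_1 D60941 F268341 F264845 (iv F263588) (iv F266909)
theorem F271914 : act 6 n60941 = n59784 := d31_2 (iv F266910) D60941 (iv D59784)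
theorem F271915 : act 7 n60941 = n59755 := d32_2 (iv F266911) D60941 (iv D59755)
theorem F271916 : act 8 n60941 = n59843 := d33_2 (iv F266912) D60941 F267408
theorem F271917 : act 9 n60941 = n60637 := d34_2 (iv F266913) D60941 (iv D60637)
theorem F271918 : act 5 n60007 = n60941 := d37_3 F271916 F267409 D60007
def n60942 : Q := act 0 n59754
theorem D60942 : act 0 n59754 = n60942 := rfl
theorem F271919 : act 1 n60942 = n59988 := d0_2 D59754 D60942 (iv D59988) (iv D58765) (iv F262066)
theorem F271920 : act 2 n60942 = n60259 := d1_2 (iv F266922) D60942 (iv D60259)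
theorem F271921 : act 3 n60942 = n60124 := d2_2 (iv F266923) D60942 (iv D60124)
theorem F271922 : act 6 n60942 = n59757 := d5_2 (iv F266924) D60942 (iv D59757)
theorem F271923 : act 8 n60942 = n59888 := d7_2 (iv F266925) D60942 (iv D59888)
def n60943 : Q := act 4 n59754
theorem D60943 : act 4 n59754 = n60943 := rfl
theorem F271924 : act 1 n60943 = n59755 := d11_1 D60943 (iv D59755) D59754
theorem F271925 : act 2 n60943 = n60260 := d18_1 D60943 (iv D60260) (iv F266922)
theorem F271926 : act 3 n60943 = n60625 := d24_1 D60943 (iv D60625) F265343 (iv F263659) (iv F266923)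
theorem F271927 : act 6 n60943 = n59758 := d31_2 (iv F266924) D60943 (iv D59758)
theorem F271928 : act 8 n60943 = n59889 := d33_2 (iv F266925) D60943 (iv D59889)
def n60944 : Q := act 5 n59755
theorem D60944 : act 5 n59755 = n60944 := rfl
theorem F271929 : act 0 n60944 = n59991 := d4_1 D60944 (iv D59991) (iv F266926)
theorem F271930 : act 2 n60944 = n59756 := d19_1 D60944 (iv D59756) (iv F266927)
theorem F271931 : act 3 n60944 = n60265 := d25_1 D60944 F269179 (iv F266928)
theorem F271932 : act 7 n60944 = n60007 := d36_2 F271915 D60944 F271918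
theorem F271933 : act 8 n60944 = n59890 := d37_2 (iv F266930) D60944 (iv D59890)
def n60945 : Q := act 4 n59757
theorem D60945 : act 4 n59757 = n60945 := rfl
theorem F271934 : act 0 n60945 = n59758 := d3_1 D60945 (iv D59758) D59757
theorem F271935 : act 1 n60945 = n60570 := d11_1 D60945 (iv D60570) (iv F266936)
theorem F271936 : act 2 n60945 = n60263 := d18_1 D60945 (iv D60263) (iv F266937)
theorem F271937 : act 7 n60945 = n59787 := d32_2 (iv F266940) D60945 (iv D59787)
theorem F271938 : act 8 n60945 = n60543 := d33_2 (iv F266941) D60945 (iv D60543)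
def n60946 : Q := act 3 n59758
theorem D60946 : act 3 n59758 = n60946 := rfl
theorem F271939 : act 1 n60946 = n59759 := d10_1 D60946 (iv D59759) (iv F266942)
theorem F271940 : act 4 n60946 = n60162 := d24_2 D59758 D60946 F268800 F263925 (iv F262076)
theorem F271941 : act 6 n60946 = n60625 := d26_2 F271927 D60946 (iv F271926)
theorem F271942 : act 7 n60946 = n59788 := d27_2 (iv F266944) D60946 (iv D59788)
theorem F271943 : act 8 n60169 = n60946 := d40_0 F271941 F270266 (iv F268819)
def n60947 : Q := act 1 n59760
theorem D60947 : act 1 n59760 = n60947 := rfl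
theorem F271944 : act 2 n60947 = n60198 := d9_2 D59760 D60947 (iv D60198) (iv D58965) (iv F262087)
theorem F271945 : act 3 n60947 = n60136 := d10_2 (iv F266953) D60947 (iv D60136)
theorem F271946 : act 5 n60947 = n60195 := d12_2 (iv F266954) D60947 (iv D60195)
theorem F271947 : act 6 n60947 = n60140 := d13_2 (iv F266955) D60947 (iv D60140)
theorem F271948 : act 7 n60947 = n60360 := d14_2 (iv F266956) D60947 (iv D60360)
theorem F271949 : act 8 n60947 = n59761 := d15_2 (iv F266957) D60947 (iv D59761)
theorem F271950 : act 9 n60947 = n60500 := d16_2 (iv F266958) D60947 (iv D60500)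
def n60948 : Q := act 0 n59761
theorem D60948 : act 0 n59761 = n60948 := rfl
theorem F271951 : act 1 n60948 = n59768 := d0_2 D59761 D60948 (iv D59768) (iv D58562) (iv F262093)
theorem F271952 : act 2 n60948 = n60202 := d1_2 (iv F266959) D60948 (iv D60202)
theorem F271953 : act 3 n60948 = n60266 := d2_2 (iv F266960) D60948 (iv D60266)
theorem F271954 : act 5 n60948 = n60196 := d4_2 (iv F266961) D60948 (iv D60196)
theorem F271955 : act 6 n60948 = n60477 := d5_2 (iv F266962) D60948 (iv D60477)
theorem F271956 : act 9 n60948 = n60272 := d8_2 (iv F266963) D60948 (iv D60272)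
def n60949 : Q := act 4 n59761
theorem D60949 : act 4 n59761 = n60949 := rfl
theorem F271957 : act 1 n60949 = n59762 := d11_1 D60949 (iv D59762) D59761
theorem F271958 : act 2 n60949 = n60203 := d18_1 D60949 (iv D60203) (iv F266959)
theorem F271959 : act 3 n60949 = n59786 := d24_1 D60949 (iv D59786) (iv F267063) F267064 (iv F266960)
theorem F271960 : act 5 n60949 = n60362 := d30_2 (iv F266961) D60949 (iv D60362) F264562 (iv F263906)
theorem F271961 : act 6 n60949 = n59788 := d31_2 (iv F266962) D60949 F267101
theorem F271962 : act 9 n60949 = n60273 := d34_2 (iv F266963) D60949 (iv D60273)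
def n60950 : Q := act 1 n59763
theorem D60950 : act 1 n59763 = n60950 := rfl
theorem F271963 : act 2 n60950 = n59771 := d9_2 D59763 D60950 (iv D59771) (iv D58565) (iv F262105)
theorem F271964 : act 3 n60950 = n60016 := d10_2 (iv F266971) D60950 (iv D60016)
theorem F271965 : act 5 n60950 = n60223 := d12_2 (iv F266972) D60950 (iv D60223)
theorem F271966 : act 6 n60950 = n60480 := d13_2 (iv F266973) D60950 (iv D60480)
theorem F271967 : act 7 n60950 = n60017 := d14_2 (iv F266974) D60950 (iv D60017)
theorem F271968 : act 8 n60950 = n60226 := d15_2 (iv F266975) D60950 (iv D60226)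
theorem F271969 : act 9 n60950 = n59765 := d16_2 (iv F266976) D60950 (iv D59765)
def n60951 : Q := act 4 n59763
theorem D60951 : act 4 n59763 = n60951 := rfl
theorem F271970 : act 0 n60951 = n60501 := d3_1 D60951 (iv D60501) (iv F266970)
theorem F271971 : act 2 n60951 = n59764 := d18_1 D60951 (iv D59764) D59763
theorem F271972 : act 3 n60951 = n60063 := d24_1 D60951 (iv D60063) F263432 (iv F263214) (iv F266971)
theorem F271973 : act 5 n60951 = n60239 := d30_2 (iv F266972) D60951 (iv D60239) F264076 (iv F264028)
theorem F271974 : act 6 n60951 = n60481 := d31_2 (iv F266973) D60951 (iv D60481)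
theorem F271975 : act 7 n60951 = n60018 := d32_2 (iv F266974) D60951 (iv D60018)
theorem F271976 : act 8 n60951 = n60227 := d33_2 (iv F266975) D60951 (iv D60227)
theorem F271977 : act 9 n60951 = n59766 := d34_2 (iv F266976) D60951 (iv D59766)
def n60952 : Q := act 0 n59765
theorem D60952 : act 0 n59765 = n60952 := rfl
theorem F271978 : act 2 n60952 = n59773 := d1_2 (iv F266985) D60952 (iv D59773)
theorem F271979 : act 3 n60952 = n60589 := d2_2 (iv F266986) D60952 (iv D60589)
theorem F271980 : act 5 n60952 = n60611 := d4_2 (iv F266987) D60952 (iv D60611)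
theorem F271981 : act 6 n60952 = n60482 := d5_2 (iv F266988) D60952 (iv D60482)
theorem F271982 : act 7 n60952 = n60361 := d6_2 (iv F266989) D60952 (iv D60361)
theorem F271983 : act 8 n60952 = n59768 := d7_2 (iv F266990) D60952 (iv D59768)
def n60953 : Q := act 4 n59765
theorem D60953 : act 4 n59765 = n60953 := rfl
theorem F271984 : act 1 n60953 = n59766 := d11_1 D60953 (iv D59766) D59765
theorem F271985 : act 2 n60953 = n59774 := d18_1 D60953 (iv D59774) (iv F266985)
theorem F271986 : act 3 n60953 = n60564 := d24_1 D60953 (iv D60564) (iv F268352) F268353 (iv F266986)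
theorem F271987 : act 6 n60953 = n60483 := d31_2 (iv F266988) D60953 (iv D60483)
theorem F271988 : act 7 n60953 = n60362 := d32_2 (iv F266989) D60953 (iv D60362)
theorem F271989 : act 8 n60953 = n59769 := d33_2 (iv F266990) D60953 (iv D59769)
def n60954 : Q := act 0 n59767
theorem D60954 : act 0 n59767 = n60954 := rfl
theorem F271990 : act 1 n60954 = n60196 := d0_2 D59767 D60954 (iv D60196) (iv D58963) (iv F262121)
theorem F271991 : act 2 n60954 = n59779 := d1_2 (iv F266996) D60954 (iv D59779)
theorem F271992 : act 3 n60954 = n60272 := d2_2 (iv F266997) D60954 (iv D60272)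
theorem F271993 : act 4 n60954 = n60612 := d3_2 (iv F266998) D60954 (iv D60612)
theorem F271994 : act 5 n60954 = n59768 := d4_2 (iv F266999) D60954 (iv D59768)
theorem F271995 : act 6 n60954 = n60635 := d5_2 (iv F267000) D60954 (iv D60635)
theorem F271996 : act 7 n60954 = n60613 := d6_2 (iv F267001) D60954 (iv D60613)
theorem F271997 : act 8 n60954 = n60611 := d7_2 (iv F267002) D60954 (iv D60611)
theorem F271998 : act 9 n60954 = n60266 := d8_2 (iv F267003) D60954 (iv D60266)
def n60955 : Q := act 4 n59768
theorem D60955 : act 4 n59768 = n60955 := rfl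
theorem F271999 : act 0 n60955 = n59769 := d3_1 D60955 (iv D59769) D59768
theorem F272000 : act 2 n60955 = n59780 := d18_1 D60955 (iv D59780) (iv F267004)
theorem F272001 : act 6 n60955 = n60487 := d31_2 (iv F267006) D60955 (iv D60487)
def n60956 : Q := act 5 n59769
theorem D60956 : act 5 n59769 = n60956 := rfl
theorem F272002 : act 1 n60956 = n59770 := d12_1 D60956 (iv D59770) (iv F267007)
theorem F272003 : act 2 n60956 = n59781 := d19_1 D60956 (iv D59781) (iv F267008)
theorem F272004 : act 3 n60956 = n60054 := d25_1 D60956 (iv F271397) F271396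
theorem F272005 : act 4 n60956 = n60360 := d30_1 D60956 F269542 (iv F266998) F266999 D59769
theorem F272006 : act 6 n60956 = n60056 := d35_2 (iv F267009) D60956 F268337 (iv F269322) F269321
theorem F272007 : act 9 n60956 = n60503 := d38_2 F271711 D60956 (iv F271709)
def n60957 : Q := act 0 n59771
theorem D60957 : act 0 n59771 = n60957 := rfl
theorem F272008 : act 1 n60957 = n60414 := d0_2 D59771 D60957 (iv D60414) (iv D59193) (iv F262140)
theorem F272009 : act 3 n60957 = n60359 := d2_2 (iv F267016) D60957 (iv D60359)
theorem F272010 : act 5 n60957 = n60256 := d4_2 (iv F267017) D60957 F269156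
theorem F272011 : act 6 n60957 = n60495 := d5_2 (iv F267018) D60957 (iv D60495)
theorem F272012 : act 7 n60957 = n60305 := d6_2 (iv F267019) D60957 F269305
theorem F272013 : act 9 n60957 = n59773 := d8_2 (iv F267020) D60957 (iv D59773)
def n60958 : Q := act 4 n59771
theorem D60958 : act 4 n59771 = n60958 := rfl
theorem F272014 : act 1 n60958 = n59772 := d11_1 D60958 (iv D59772) D59771
theorem F272015 : act 3 n60958 = n60431 := d24_1 D60958 (iv D60431) F264818 (iv F264540) (iv F267016)
theorem F272016 : act 5 n60958 = n60254 := d30_2 (iv F267017) D60958 (iv D60254) F264117 D59019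
theorem F272017 : act 6 n60958 = n60496 := d31_2 (iv F267018) D60958 (iv D60496)
theorem F272018 : act 7 n60958 = n60303 := d32_2 (iv F267019) D60958 F269300
theorem F272019 : act 9 n60958 = n59774 := d34_2 (iv F267020) D60958 (iv D59774)
def n60959 : Q := act 4 n59773
theorem D60959 : act 4 n59773 = n60959 := rfl
theorem F272020 : act 0 n60959 = n59774 := d3_1 D60959 (iv D59774) D59773
theorem F272021 : act 1 n60959 = n60673 := d11_1 D60959 (iv D60673) (iv F267028)
theorem F272022 : act 3 n60959 = n60472 := d24_1 D60959 (iv D60472) F264933 (iv F264552) (iv F267029)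
theorem F272023 : act 6 n60959 = n60498 := d31_2 (iv F267031) D60959 (iv D60498)
theorem F272024 : act 7 n60959 = n60363 := d32_2 (iv F267032) D60959 (iv D60363)
theorem F272025 : act 8 n60959 = n59780 := d33_2 (iv F267033) D60959 (iv D59780)
def n60960 : Q := act 5 n59774
theorem D60960 : act 5 n59774 = n60960 := rfl
theorem F272026 : act 1 n60960 = n59775 := d12_1 D60960 (iv D59775) (iv F267034)
theorem F272027 : act 3 n60960 = n60473 := d25_1 D60960 (iv D60473) (iv F267035)
theorem F272028 : act 4 n60960 = n60185 := d30_1 D60960 F268874 F263879 (iv F262153) D59774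
theorem F272029 : act 7 n60960 = n60203 := d36_2 (iv F267037) D60960 F268949
theorem F272030 : act 8 n60960 = n59781 := d37_2 (iv F267038) D60960 (iv D59781)
theorem F272031 : act 9 n60960 = n60254 := d38_2 F272019 D60960 (iv F272016)
def n60961 : Q := act 6 n59775
theorem D60961 : act 6 n59775 = n60961 := rfl
theorem F272032 : act 0 n60961 = n60675 := d5_1 D60961 (iv D60675) (iv F267039)
theorem F272033 : act 2 n60961 = n59776 := d20_1 D60961 (iv D59776) (iv F267040)
theorem F272034 : act 3 n60961 = n60474 := d26_1 D60961 (iv D60474) (iv F267041)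
theorem F272035 : act 4 n60961 = n60184 := d31_1 D60961 F268869 (iv F267042)
theorem F272036 : act 5 n60961 = n60332 := d35_1 D60961 F269394 (iv D59277) (iv F262160) D59775
theorem F272037 : act 8 n60961 = n59782 := d40_2 (iv F267044) D60961 (iv D59782)
theorem F272038 : act 9 n60961 = n60251 := d41_2 (iv F267045) D60961 F269141

end Cfsg.Agent.Helper17.Fi23TC
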