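import Cfsg.Agent.Helper17.Fi23TC.Facts16

set_option autoImplicit false
set_option linter.all false

noncomputable section

namespace Cfsg.Agent.Helper17.Fi23TC

theorem F272039 : act 7 n60618 = n60961 := d42_3 F272037 (iv F267084) (iv F270254)
def n60962 : Q := act 1 n59777
theorem D60962 : act 1 n59777 = n60962 := rfl
theorem F272040 : act 2 n60962 = n60199 := d9_2 D59777 D60962 (iv D60199) (iv D58966) (iv F262170)
theorem F272041 : act 3 n60962 = n59783 := d10_2 (iv F267055) D60962 (iv D59783)
theorem F272042 : act 4 n60962 = n60237 := d11_2 (iv F267056) D60962 (iv D60237)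
theorem F272043 : act 5 n60962 = n60500 := d12_2 (iv F267057) D60962 (iv D60500)
theorem F272044 : act 6 n60962 = n60104 := d13_2 (iv F267058) D60962 (iv D60104)
theorem F272045 : act 7 n60962 = n59778 := d14_2 (iv F267059) D60962 (iv D59778)
theorem F272046 : act 8 n60962 = n60098 := d15_2 (iv F267060) D60962 (iv D60098)
theorem F272047 : act 9 n60962 = n60195 := d16_2 (iv F267061) D60962 (iv D60195)
def n60963 : Q := act 0 n59778
theorem D60963 : act 0 n59778 = n60963 := rfl
theorem F272048 : act 1 n60963 = n60274 := d0_2 D59778 D60963 F269206 F264170 (iv F262177)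
theorem F272049 : act 2 n60963 = n60635 := d1_2 (iv F267062) D60963 (iv D60635)
theorem F272050 : act 3 n60963 = n59785 := d2_2 (iv F267063) D60963 (iv D59785)
theorem F272051 : act 4 n60963 = n60266 := d3_2 (iv F267064) D60963 (iv D60266)
theorem F272052 : act 5 n60963 = n60502 := d4_2 (iv F267065) D60963 (iv D60502)
theorem F272053 : act 6 n60963 = n59779 := d5_2 (iv F267066) D60963 (iv D59779)
theorem F272054 : act 8 n60963 = n60607 := d7_2 (iv F267067) D60963 (iv D60607)
theorem F272055 : act 9 n60963 = n60612 := d8_2 (iv F267068) D60963 (iv D60612)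
def n60964 : Q := act 5 n59780
theorem D60964 : act 5 n59780 = n60964 := rfl
theorem F272056 : act 0 n60964 = n59781 := d4_1 D60964 (iv D59781) (iv F267075)
theorem F272057 : act 1 n60964 = n60682 := d12_1 D60964 (iv F271368) F271365
theorem F272058 : act 4 n60964 = n60679 := d30_1 D60964 F270398 (iv F267071) F267072 D59780
def n60965 : Q := act 6 n59781
theorem D60965 : act 6 n59781 = n60965 := rfl
theorem F272059 : act 1 n60965 = n59782 := d13_1 D60965 (iv D59782) (iv F267077)
theorem F272060 : act 2 n60965 = n60056 := d20_1 D60965 (iv F272006) F272003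
theorem F272061 : act 4 n60965 = n60434 := d31_1 D60965 F269804 (iv F267078)
theorem F272062 : act 5 n60965 = n60313 := d35_1 D60965 F269329 (iv D59285) (iv F262192) D59781
theorem F272063 : act 9 n60965 = n60486 := d41_2 F271761 D60965 F271762
theorem F272064 : act 7 n60620 = n60965 := d32_0 F272061 F269805 D60620
def n60966 : Q := act 0 n59783
theorem D60966 : act 0 n59783 = n60966 := rfl
theorem F272065 : act 2 n60966 = n60306 := d1_2 (iv F267085) D60966 (iv D60306)
theorem F272066 : act 5 n60966 = n60506 := d4_2 (iv F267086) D60966 (iv D60506)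
theorem F272067 : act 7 n60966 = n59785 := d6_2 (iv F267087) D60966 (iv D59785)
def n60967 : Q := act 4 n59783
theorem D60967 : act 4 n59783 = n60967 := rfl
theorem F272068 : act 1 n60967 = n59784 := d11_1 D60967 (iv D59784) D59783
theorem F272069 : act 2 n60967 = n60307 := d18_1 D60967 (iv D60307) (iv F267085)
theorem F272070 : act 5 n60967 = n60564 := d30_2 (iv F267086) D60967 (iv D60564) (iv F266273) F266272
theorem F272071 : act 7 n60967 = n59786 := d32_2 (iv F267087) D60967 (iv D59786)
theorem F272072 : act 8 n60967 = n60567 := d33_2 F270564 D60967 (iv F270560)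
def n60968 : Q := act 4 n59785
theorem D60968 : act 4 n59785 = n60968 := rfl
theorem F272073 : act 0 n60968 = n59786 := d3_1 D60968 (iv D59786) D59785
theorem F272074 : act 2 n60968 = n60309 := d18_1 D60968 (iv D60309) (iv F267092)
theorem F272075 : act 6 n60968 = n59787 := d31_2 (iv F267094) D60968 (iv D59787)
def n60969 : Q := act 3 n59787
theorem D60969 : act 3 n59787 = n60969 := rfl
theorem F272076 : act 0 n60969 = n59788 := d2_1 D60969 (iv D59788) (iv F267098)
theorem F272077 : act 1 n60969 = n60487 := d10_1 D60969 (iv F271403) F271402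
theorem F272078 : act 4 n60969 = n60477 := d24_2 D59787 D60969 F269925 (iv F267071) F267070
def n60970 : Q := act 2 n59788
theorem D60970 : act 2 n59788 = n60970 := rfl
theorem F272079 : act 1 n60970 = n59791 := d9_1 D60970 (iv D59791) F262250 (iv F262220) (iv F267100)
theorem F272080 : act 3 n60970 = n60313 := d17_2 D59788 D60970 (iv D60313) (iv D59070) (iv F262218)
theorem F272081 : act 4 n60970 = n60201 := d18_2 (iv F267101) D60970 F268939
theorem F272082 : act 6 n60970 = n60203 := d20_2 F271961 D60970 (iv F271958)
theorem F272083 : act 9 n60970 = n60299 := d23_2 F271798 D60970 F271799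
def n60971 : Q := act 8 n59788
theorem D60971 : act 8 n59788 = n60971 := rfl
theorem F272084 : act 1 n60971 = n59789 := d15_1 D60971 (iv D59789) (iv F267100)
theorem F272085 : act 4 n60971 = n60140 := d33_1 D60971 F268711 (iv F267101)
theorem F272086 : act 7 n60971 = n60169 := d42_1 D60971 F271943 F271942
def n60972 : Q := act 9 n59789
theorem D60972 : act 9 n59789 = n60972 := rfl
theorem F272087 : act 0 n60972 = n60481 := d8_1 D60972 F269934 (iv F267102)
theorem F272088 : act 2 n60972 = n59792 := d23_1 D60972 (iv D59792) (iv F267103)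
theorem F272089 : act 4 n60972 = n59899 := d34_1 D60972 F267694 (iv F267104)
theorem F272090 : act 6 n60972 = n60501 := d41_1 D60972 (iv F271891) F271888
theorem F272091 : act 7 n60972 = n59913 := d43_1 D60972 F267749 (iv F267105)
def n60973 : Q := act 2 n59790
theorem D60973 : act 2 n59790 = n60973 := rfl
theorem F272092 : act 0 n60973 = n60378 := d1_1 D60973 F269603 (iv F267106)
theorem F272093 : act 3 n60973 = n60325 := d17_2 D59790 D60973 (iv D60325) (iv D59081) (iv F262238)
theorem F272094 : act 4 n60973 = n60150 := d18_2 (iv F267108) D60973 (iv D60150)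
theorem F272095 : act 5 n60973 = n60621 := d19_2 (iv F267109) D60973 F270258
theorem F272096 : act 6 n60973 = n60618 := d20_2 (iv F267110) D60973 F270253
theorem F272097 : act 7 n60973 = n59791 := d21_2 (iv F267111) D60973 (iv D59791)
theorem F272098 : act 8 n60973 = n60154 := d22_2 (iv F267112) D60973 F268764
theorem F272099 : act 9 n60973 = n60296 := d23_2 (iv F267113) D60973 F269279
def n60974 : Q := act 1 n59793
theorem D60974 : act 1 n59793 = n60974 := rfl
theorem F272100 : act 2 n60974 = n59802 := d9_2 D59793 D60974 (iv D59802) (iv D58602) (iv F262280)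
theorem F272101 : act 3 n60974 = n59949 := d10_2 (iv F267125) D60974 (iv D59949)
theorem F272102 : act 4 n60974 = n59845 := d11_2 (iv F267126) D60974 (iv D59845)
theorem F272103 : act 5 n60974 = n59832 := d12_2 (iv F267127) D60974 (iv D59832)
theorem F272104 : act 6 n60974 = n59863 := d13_2 (iv F267128) D60974 (iv D59863)
theorem F272105 : act 7 n60974 = n59794 := d14_2 (iv F267129) D60974 (iv D59794)
theorem F272106 : act 8 n60974 = n60016 := d15_2 (iv F267130) D60974 (iv D60016)
theorem F272107 : act 9 n60974 = n59876 := d16_2 (iv F267131) D60974 (iv D59876)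
def n60975 : Q := act 0 n59794
theorem D60975 : act 0 n59794 = n60975 := rfl
theorem F272108 : act 1 n60975 = n60355 := d0_2 D59794 D60975 (iv D60355) (iv D59126) (iv F262287)
theorem F272109 : act 2 n60975 = n59807 := d1_2 (iv F267132) D60975 (iv D59807)
theorem F272110 : act 3 n60975 = n60556 := d2_2 (iv F267133) D60975 (iv D60556)
theorem F272111 : act 4 n60975 = n59852 := d3_2 (iv F267134) D60975 (iv D59852)
theorem F272112 : act 5 n60975 = n60554 := d4_2 (iv F267135) D60975 (iv D60554)
theorem F272113 : act 6 n60975 = n60342 := d5_2 (iv F267136) D60975 (iv D60342)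
theorem F272114 : act 8 n60975 = n60019 := d7_2 (iv F267137) D60975 (iv D60019)
theorem F272115 : act 9 n60975 = n60542 := d8_2 (iv F267138) D60975 (iv D60542)
def n60976 : Q := act 1 n59795
theorem D60976 : act 1 n59795 = n60976 := rfl
theorem F272116 : act 2 n60976 = n59876 := d9_2 D59795 D60976 (iv D59876) (iv D58670) (iv F262295)
theorem F272117 : act 3 n60976 = n59826 := d10_2 (iv F267140) D60976 (iv D59826)
theorem F272118 : act 4 n60976 = n59863 := d11_2 (iv F267141) D60976 (iv D59863)
theorem F272119 : act 5 n60976 = n59821 := d12_2 (iv F267142) D60976 (iv D59821)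
theorem F272120 : act 6 n60976 = n59845 := d13_2 (iv F267143) D60976 (iv D59845)
theorem F272121 : act 7 n60976 = n59800 := d14_2 (iv F267144) D60976 (iv D59800)
theorem F272122 : act 8 n60976 = n60061 := d15_2 (iv F267145) D60976 (iv D60061)
theorem F272123 : act 9 n60976 = n59802 := d16_2 (iv F267146) D60976 (iv D59802)
def n60977 : Q := act 1 n59796
theorem D60977 : act 1 n59796 = n60977 := rfl
theorem F272124 : act 2 n60977 = n59993 := d9_2 D59796 D60977 (iv D59993) (iv D58768) (iv F262303)
theorem F272125 : act 3 n60977 = n59800 := d10_2 (iv F267148) D60977 (iv D59800)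
theorem F272126 : act 5 n60977 = n59816 := d12_2 (iv F267149) D60977 (iv D59816)
theorem F272127 : act 6 n60977 = n59974 := d13_2 (iv F267150) D60977 (iv D59974)
theorem F272128 : act 7 n60977 = n59826 := d14_2 (iv F267151) D60977 (iv D59826)
theorem F272129 : act 9 n60977 = n59803 := d16_2 (iv F267152) D60977 (iv D59803)
def n60978 : Q := act 4 n59796
theorem D60978 : act 4 n59796 = n60978 := rfl
theorem F272130 : act 0 n60978 = n59822 := d3_1 D60978 (iv D59822) (iv F267147)
theorem F272131 : act 2 n60978 = n59797 := d18_1 D60978 (iv D59797) D59796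
theorem F272132 : act 3 n60978 = n59870 := d24_1 D60978 (iv D59870) F262679 (iv F262324) (iv F267148)
theorem F272133 : act 5 n60978 = n59926 := d30_2 (iv F267149) D60978 (iv D59926) F262904 (iv F262414)
theorem F272134 : act 6 n60978 = n59975 := d31_2 (iv F267150) D60978 (iv D59975)
theorem F272135 : act 7 n60978 = n59827 := d32_2 (iv F267151) D60978 (iv D59827)
theorem F272136 : act 9 n60978 = n59804 := d34_2 (iv F267152) D60978 (iv D59804)
def n60979 : Q := act 1 n59798
theorem D60979 : act 1 n59798 = n60979 := rfl
theorem F272137 : act 2 n60979 = n60351 := d9_2 D59798 D60979 (iv D60351) (iv D59121) (iv F262317)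
theorem F272138 : act 3 n60979 = n59816 := d10_2 (iv F267161) D60979 (iv D59816)
theorem F272139 : act 5 n60979 = n59800 := d12_2 (iv F267162) D60979 (iv D59800)
theorem F272140 : act 6 n60979 = n60345 := d13_2 (iv F267163) D60979 (iv D60345)
theorem F272141 : act 7 n60979 = n59821 := d14_2 (iv F267164) D60979 (iv D59821)
theorem F272142 : act 8 n60979 = n60582 := d15_2 (iv F267165) D60979 (iv D60582)
theorem F272143 : act 9 n60979 = n59805 := d16_2 (iv F267166) D60979 (iv D59805)
def n60980 : Q := act 4 n59798
theorem D60980 : act 4 n59798 = n60980 := rfl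
theorem F272144 : act 0 n60980 = n59827 := d3_1 D60980 (iv D59827) (iv F267160)
theorem F272145 : act 2 n60980 = n59799 := d18_1 D60980 (iv D59799) D59798
theorem F272146 : act 3 n60980 = n59924 := d24_1 D60980 (iv D59924) F262897 (iv F262414) (iv F267161)
theorem F272147 : act 5 n60980 = n59873 := d30_2 (iv F267162) D60980 (iv D59873) F262695 (iv F262324)
theorem F272148 : act 6 n60980 = n60346 := d31_2 (iv F267163) D60980 (iv D60346)
theorem F272149 : act 7 n60980 = n59822 := d32_2 (iv F267164) D60980 (iv D59822)
theorem F272150 : act 8 n60980 = n60583 := d33_2 (iv F267165) D60980 (iv D60583)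
theorem F272151 : act 9 n60980 = n59806 := d34_2 (iv F267166) D60980 (iv D59806)
def n60981 : Q := act 0 n59800
theorem D60981 : act 0 n59800 = n60981 := rfl
theorem F272152 : act 1 n60981 = n59828 := d0_2 D59800 D60981 (iv D59828) (iv D58624) (iv F262323)
theorem F272153 : act 2 n60981 = n60542 := d1_2 (iv F267175) D60981 (iv D60542)
theorem F272154 : act 4 n60981 = n59874 := d3_2 (iv F267176) D60981 (iv D59874)
theorem F272155 : act 6 n60981 = n60508 := d5_2 (iv F267177) D60981 (iv D60508)
theorem F272156 : act 8 n60981 = n60595 := d7_2 (iv F267178) D60981 (iv D60595)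
theorem F272157 : act 9 n60981 = n59807 := d8_2 (iv F267179) D60981 (iv D59807)
def n60982 : Q := act 1 n59801
theorem D60982 : act 1 n59801 = n60982 := rfl
theorem F272158 : act 2 n60982 = n59863 := d9_2 D59801 D60982 (iv D59863) (iv D58658) (iv F262337)
theorem F272159 : act 3 n60982 = n59839 := d10_2 (iv F267181) D60982 (iv D59839)
theorem F272160 : act 4 n60982 = n59876 := d11_2 (iv F267182) D60982 (iv D59876)
theorem F272161 : act 5 n60982 = n59850 := d12_2 (iv F267183) D60982 (iv D59850)
theorem F272162 : act 6 n60982 = n59802 := d13_2 (iv F267184) D60982 (iv D59802)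
theorem F272163 : act 7 n60982 = n59844 := d14_2 (iv F267185) D60982 (iv D59844)
theorem F272164 : act 8 n60982 = n60020 := d15_2 (iv F267186) D60982 (iv D60020)
theorem F272165 : act 9 n60982 = n59845 := d16_2 (iv F267187) D60982 (iv D59845)
def n60983 : Q := act 0 n59802
theorem D60983 : act 0 n59802 = n60983 := rfl
theorem F272166 : act 1 n60983 = n59831 := d0_2 D59802 D60983 (iv D59831) (iv D58628) (iv F262344)
theorem F272167 : act 3 n60983 = n59841 := d2_2 (iv F267188) D60983 (iv D59841)
theorem F272168 : act 4 n60983 = n59880 := d3_2 (iv F267189) D60983 (iv D59880)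
theorem F272169 : act 5 n60983 = n59836 := d4_2 (iv F267190) D60983 (iv D59836)
theorem F272170 : act 7 n60983 = n59807 := d6_2 (iv F267191) D60983 (iv D59807)
theorem F272171 : act 8 n60983 = n60021 := d7_2 (iv F267192) D60983 (iv D60021)
def n60984 : Q := act 0 n59803
theorem D60984 : act 0 n59803 = n60984 := rfl
theorem F272172 : act 1 n60984 = n59836 := d0_2 D59803 D60984 (iv D59836) (iv D58633) (iv F262350)
theorem F272173 : act 3 n60984 = n59807 := d2_2 (iv F267193) D60984 (iv D59807)
theorem F272174 : act 5 n60984 = n59831 := d4_2 (iv F267194) D60984 (iv D59831)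
theorem F272175 : act 6 n60984 = n60510 := d5_2 (iv F267195) D60984 (iv D60510)
theorem F272176 : act 7 n60984 = n59841 := d6_2 (iv F267196) D60984 (iv D59841)
theorem F272177 : act 8 n60984 = n60046 := d7_2 (iv F267197) D60984 (iv D60046)
def n60985 : Q := act 4 n59803
theorem D60985 : act 4 n59803 = n60985 := rfl
theorem F272178 : act 1 n60985 = n59804 := d11_1 D60985 (iv D59804) D59803
theorem F272179 : act 2 n60985 = n60544 := d18_1 D60985 (iv F270462) F270460
theorem F272180 : act 3 n60985 = n59889 := d24_1 D60985 (iv D59889) F262760 (iv F262376) (iv F267193)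
theorem F272181 : act 5 n60985 = n59964 := d30_2 (iv F267194) D60985 (iv D59964) F263029 (iv F262491)
theorem F272182 : act 6 n60985 = n60511 := d31_2 (iv F267195) D60985 (iv D60511)
theorem F272183 : act 7 n60985 = n59842 := d32_2 (iv F267196) D60985 (iv D59842)
theorem F272184 : act 8 n60985 = n60047 := d33_2 (iv F267197) D60985 (iv D60047)
def n60986 : Q := act 0 n59805
theorem D60986 : act 0 n59805 = n60986 := rfl
theorem F272185 : act 1 n60986 = n59841 := d0_2 D59805 D60986 (iv D59841) (iv D58638) (iv F262363)
theorem F272186 : act 2 n60986 = n60554 := d1_2 (iv F267205) D60986 (iv D60554)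
theorem F272187 : act 3 n60986 = n59831 := d2_2 (iv F267206) D60986 (iv D59831)
theorem F272188 : act 5 n60986 = n59807 := d4_2 (iv F267207) D60986 (iv D59807)
theorem F272189 : act 6 n60986 = n60558 := d5_2 (iv F267208) D60986 (iv D60558)
theorem F272190 : act 7 n60986 = n59836 := d6_2 (iv F267209) D60986 (iv D59836)
theorem F272191 : act 8 n60986 = n60022 := d7_2 (iv F267210) D60986 (iv D60022)
def n60987 : Q := act 4 n59805
theorem D60987 : act 4 n59805 = n60987 := rfl
theorem F272192 : act 1 n60987 = n59806 := d11_1 D60987 (iv D59806) D59805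
theorem F272193 : act 2 n60987 = n60555 := d18_1 D60987 (iv D60555) (iv F267205)
theorem F272194 : act 3 n60987 = n59962 := d24_1 D60987 (iv D59962) F263024 (iv F262491) (iv F267206)
theorem F272195 : act 5 n60987 = n59892 := d30_2 (iv F267207) D60987 (iv D59892) F262768 (iv F262376)
theorem F272196 : act 6 n60987 = n60559 := d31_2 (iv F267208) D60987 (iv D60559)
theorem F272197 : act 7 n60987 = n59837 := d32_2 (iv F267209) D60987 (iv D59837)
theorem F272198 : act 8 n60987 = n60023 := d33_2 (iv F267210) D60987 (iv D60023)
def n60988 : Q := act 2 n59808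
theorem D60988 : act 2 n59808 = n60988 := rfl
theorem F272199 : act 0 n60988 = n60513 := d1_1 D60988 (iv D60513) (iv F267222)
theorem F272200 : act 3 n60988 = n59819 := d17_2 D59808 D60988 (iv D59819) (iv D58617) (iv F262381)
theorem F272201 : act 5 n60988 = n59969 := d19_2 (iv F267224) D60988 (iv D59969)
theorem F272202 : act 6 n60988 = n60024 := d20_2 (iv F267225) D60988 (iv D60024)
theorem F272203 : act 7 n60988 = n60521 := d21_2 (iv F267226) D60988 (iv D60521)
theorem F272204 : act 8 n60988 = n59810 := d22_2 (iv F267227) D60988 (iv D59810)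
theorem F272205 : act 9 n60988 = n59967 := d23_2 (iv F267228) D60988 (iv D59967)
def n60989 : Q := act 4 n59808
theorem D60989 : act 4 n59808 = n60989 := rfl
theorem F272206 : act 0 n60989 = n60514 := d3_1 D60989 (iv D60514) (iv F267222)
theorem F272207 : act 1 n60989 = n59981 := d11_1 D60989 (iv D59981) (iv F267223)
theorem F272208 : act 3 n60989 = n60989 := d24_1 D60989 (iv D60989) (iv D59808) F262382 D59808
theorem F272209 : act 6 n60989 = n60025 := d31_2 (iv F267225) D60989 (iv D60025)
theorem F272210 : act 7 n60989 = n60522 := d32_2 (iv F267226) D60989 (iv D60522)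
theorem F272211 : act 8 n60989 = n59811 := d33_2 (iv F267227) D60989 (iv D59811)
theorem F272212 : act 9 n60989 = n59968 := d34_2 (iv F267228) D60989 (iv D59968)
def n60990 : Q := act 2 n59809
theorem D60990 : act 2 n59809 = n60990 := rfl
theorem F272213 : act 0 n60990 = n60521 := d1_1 D60990 (iv D60521) (iv F267229)
theorem F272214 : act 3 n60990 = n59813 := d17_2 D59809 D60990 (iv D59813) (iv D58612) (iv F262389)
theorem F272215 : act 5 n60990 = n59810 := d19_2 (iv F267231) D60990 (iv D59810)
theorem F272216 : act 6 n60990 = n60033 := d20_2 (iv F267232) D60990 (iv D60033)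
theorem F272217 : act 7 n60990 = n60513 := d21_2 (iv F267233) D60990 (iv D60513)
theorem F272218 : act 8 n60990 = n59969 := d22_2 (iv F267234) D60990 (iv D59969)
theorem F272219 : act 9 n60990 = n59928 := d23_2 (iv F267235) D60990 (iv D59928)
def n60991 : Q := act 4 n59809
theorem D60991 : act 4 n59809 = n60991 := rfl
theorem F272220 : act 0 n60991 = n60522 := d3_1 D60991 (iv D60522) (iv F267229)
theorem F272221 : act 1 n60991 = n59934 := d11_1 D60991 (iv D59934) (iv F267230)
theorem F272222 : act 3 n60991 = n60991 := d24_1 D60991 (iv D60991) (iv D59809) F262390 D59809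
theorem F272223 : act 6 n60991 = n60034 := d31_2 (iv F267232) D60991 (iv D60034)
theorem F272224 : act 7 n60991 = n60514 := d32_2 (iv F267233) D60991 (iv D60514)
theorem F272225 : act 8 n60991 = n59970 := d33_2 (iv F267234) D60991 (iv D59970)
theorem F272226 : act 9 n60991 = n59929 := d34_2 (iv F267235) D60991 (iv D59929)
def n60992 : Q := act 1 n59810
theorem D60992 : act 1 n59810 = n60992 := rfl
theorem F272227 : act 3 n60992 = n59815 := d10_2 (iv F267237) D60992 (iv D59815)
theorem F272228 : act 6 n60992 = n60036 := d13_2 (iv F267238) D60992 (iv D60036)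
theorem F272229 : act 9 n60992 = n60027 := d16_2 (iv F267239) D60992 (iv D60027)
def n60993 : Q := act 4 n59810
theorem D60993 : act 4 n59810 = n60993 := rfl
theorem F272230 : act 0 n60993 = n60527 := d3_1 D60993 (iv D60527) (iv F267236)
theorem F272231 : act 2 n60993 = n59811 := d18_1 D60993 (iv D59811) D59810
theorem F272232 : act 3 n60993 = n59913 := d24_1 D60993 (iv D59913) F262856 (iv F262410) (iv F267237)
theorem F272233 : act 6 n60993 = n60037 := d31_2 (iv F267238) D60993 (iv D60037)
theorem F272234 : act 9 n60993 = n60028 := d34_2 (iv F267239) D60993 (iv D60028)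
def n60994 : Q := act 5 n59811
theorem D60994 : act 5 n59811 = n60994 := rfl
theorem F272235 : act 0 n60994 = n60528 := d4_1 D60994 (iv D60528) (iv F267240)
theorem F272236 : act 3 n60994 = n59812 := d25_1 D60994 (iv D59812) (iv F267241)
theorem F272237 : act 6 n60994 = n60191 := d35_2 (iv F267242) D60994 (iv D60191) F263890 (iv F263306)
theorem F272238 : act 9 n60994 = n60029 := d38_2 (iv F267243) D60994 (iv D60029)
def n60995 : Q := act 1 n59813
theorem D60995 : act 1 n59813 = n60995 := rfl
theorem F272239 : act 2 n60995 = n60374 := d9_2 D59813 D60995 (iv D60374) (iv D59151) (iv F262404)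
theorem F272240 : act 5 n60995 = n59815 := d12_2 (iv F267251) D60995 (iv D59815)
theorem F272241 : act 6 n60995 = n60575 := d13_2 (iv F267252) D60995 (iv D60575)
theorem F272242 : act 8 n60995 = n59826 := d15_2 (iv F267253) D60995 (iv D59826)
theorem F272243 : act 9 n60995 = n60030 := d16_2 (iv F267254) D60995 (iv D60030)
def n60996 : Q := act 4 n59813
theorem D60996 : act 4 n59813 = n60996 := rfl
theorem F272244 : act 0 n60996 = n60583 := d3_1 D60996 (iv D60583) (iv F267250)
theorem F272245 : act 2 n60996 = n59814 := d18_1 D60996 (iv D59814) D59813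
theorem F272246 : act 5 n60996 = n59917 := d30_2 (iv F267251) D60996 (iv D59917) F262865 (iv F262410)
theorem F272247 : act 6 n60996 = n60576 := d31_2 (iv F267252) D60996 (iv D60576)
theorem F272248 : act 8 n60996 = n59827 := d33_2 (iv F267253) D60996 (iv D59827)
theorem F272249 : act 9 n60996 = n60031 := d34_2 (iv F267254) D60996 (iv D60031)
def n60997 : Q := act 0 n59815
theorem D60997 : act 0 n59815 = n60997 := rfl
theorem F272250 : act 1 n60997 = n60595 := d0_2 D59815 D60997 (iv D60595) (iv D59394) (iv F262409)
theorem F272251 : act 2 n60997 = n60376 := d1_2 (iv F267262) D60997 (iv D60376)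
theorem F272252 : act 4 n60997 = n59918 := d3_2 (iv F267263) D60997 (iv D59918)
theorem F272253 : act 6 n60997 = n60364 := d5_2 (iv F267264) D60997 (iv D60364)
theorem F272254 : act 8 n60997 = n59828 := d7_2 (iv F267265) D60997 (iv D59828)
theorem F272255 : act 9 n60997 = n60032 := d8_2 (iv F267266) D60997 (iv D60032)
def n60998 : Q := act 0 n59816
theorem D60998 : act 0 n59816 = n60998 := rfl
theorem F272256 : act 2 n60998 = n60571 := d1_2 (iv F267267) D60998 (iv D60571)
theorem F272257 : act 4 n60998 = n59927 := d3_2 (iv F267268) D60998 (iv D59927)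
theorem F272258 : act 6 n60998 = n60565 := d5_2 (iv F267269) D60998 (iv D60565)
theorem F272259 : act 7 n60998 = n59828 := d6_2 (iv F267270) D60998 (iv D59828)
theorem F272260 : act 9 n60998 = n59831 := d8_2 (iv F267271) D60998 (iv D59831)
def n60999 : Q := act 1 n59817
theorem D60999 : act 1 n59817 = n60999 := rfl
theorem F272261 : act 2 n60999 = n59821 := d9_2 D59817 D60999 (iv D59821) (iv D58618) (iv F262419)
theorem F272262 : act 3 n60999 = n59919 := d10_2 (iv F267273) D60999 (iv D59919)
theorem F272263 : act 5 n60999 = n59876 := d12_2 (iv F267274) D60999 (iv D59876)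
theorem F272264 : act 6 n60999 = n59923 := d13_2 (iv F267275) D60999 (iv D59923)
theorem F272265 : act 7 n60999 = n60351 := d14_2 (iv F267276) D60999 (iv D60351)
theorem F272266 : act 8 n60999 = n60099 := d15_2 (iv F267277) D60999 (iv D60099)
theorem F272267 : act 9 n60999 = n59832 := d16_2 (iv F267278) D60999 (iv D59832)
def n61000 : Q := act 4 n59817
theorem D61000 : act 4 n59817 = n61000 := rfl
theorem F272268 : act 0 n61000 = n59950 := d3_1 D61000 (iv D59950) (iv F267272)
theorem F272269 : act 2 n61000 = n59818 := d18_1 D61000 (iv D59818) D59817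
theorem F272270 : act 3 n61000 = n60346 := d24_1 D61000 (iv D60346) F264462 (iv F262878) (iv F267273)
theorem F272271 : act 5 n61000 = n59851 := d30_2 (iv F267274) D61000 (iv D59851) (iv F267183) F267182
theorem F272272 : act 6 n61000 = n59924 := d31_2 (iv F267275) D61000 (iv D59924)
theorem F272273 : act 7 n61000 = n60352 := d32_2 (iv F267276) D61000 (iv D60352)
theorem F272274 : act 8 n61000 = n60100 := d33_2 (iv F267277) D61000 (iv D60100)
theorem F272275 : act 9 n61000 = n59833 := d34_2 (iv F267278) D61000 (iv D59833)
def n61001 : Q := act 1 n59819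
theorem D61001 : act 1 n59819 = n61001 := rfl
theorem F272276 : act 2 n61001 = n60099 := d9_2 D59819 D61001 (iv D60099) (iv D58877) (iv F262433)
theorem F272277 : act 5 n61001 = n60061 := d12_2 (iv F267287) D61001 (iv D60061)
theorem F272278 : act 6 n61001 = n60515 := d13_2 (iv F267288) D61001 (iv D60515)
theorem F272279 : act 7 n61001 = n60582 := d14_2 (iv F267289) D61001 (iv D60582)
theorem F272280 : act 8 n61001 = n59821 := d15_2 (iv F267290) D61001 (iv D59821)
theorem F272281 : act 9 n61001 = n60590 := d16_2 (iv F267291) D61001 (iv D60590)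
def n61002 : Q := act 4 n59819
theorem D61002 : act 4 n59819 = n61002 := rfl
theorem F272282 : act 2 n61002 = n59820 := d18_1 D61002 (iv D59820) D59819
theorem F272283 : act 6 n61002 = n60516 := d31_2 (iv F267288) D61002 (iv D60516)
theorem F272284 : act 7 n61002 = n60583 := d32_2 (iv F267289) D61002 (iv D60583)
theorem F272285 : act 8 n61002 = n59822 := d33_2 (iv F267290) D61002 (iv D59822)
theorem F272286 : act 9 n61002 = n60591 := d34_2 (iv F267291) D61002 (iv D60591)
def n61003 : Q := act 5 n59820
theorem D61003 : act 5 n59820 = n61003 := rfl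
theorem F272287 : act 0 n61003 = n59901 := d4_1 D61003 (iv F271206) F271203
theorem F272288 : act 1 n61003 = n59849 := d12_1 D61003 F267444 (iv F267292)
theorem F272289 : act 3 n61003 = n61003 := d25_1 D61003 (iv D61003) F267293
theorem F272290 : act 4 n61003 = n59846 := d30_1 D61003 F267424 F262597 (iv F262434) D59820
theorem F272291 : act 7 n61003 = n59860 := d36_2 (iv F267295) D61003 F267507
theorem F272292 : act 8 n61003 = n59823 := d37_2 (iv F267296) D61003 (iv D59823)
theorem F272293 : act 9 n61003 = n60070 := d38_2 (iv F267297) D61003 F268396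
theorem F272294 : act 6 n59954 = n61003 := d40_3 F272292 (iv F267311) (iv F267916)
def n61004 : Q := act 0 n59821
theorem D61004 : act 0 n59821 = n61004 := rfl
theorem F272295 : act 3 n61004 = n59828 := d2_2 (iv F267298) D61004 (iv D59828)
theorem F272296 : act 6 n61004 = n60518 := d5_2 (iv F267299) D61004 (iv D60518)
theorem F272297 : act 9 n61004 = n59836 := d8_2 (iv F267300) D61004 (iv D59836)
def n61005 : Q := act 4 n59821
theorem D61005 : act 4 n59821 = n61005 := rfl
theorem F272298 : act 1 n61005 = n59822 := d11_1 D61005 (iv D59822) D59821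
theorem F272299 : act 3 n61005 = n59941 := d24_1 D61005 (iv D59941) F262955 (iv F262465) (iv F267298)
theorem F272300 : act 6 n61005 = n60519 := d31_2 (iv F267299) D61005 (iv D60519)
theorem F272301 : act 9 n61005 = n59837 := d34_2 (iv F267300) D61005 (iv D59837)
def n61006 : Q := act 5 n59822
theorem D61006 : act 5 n59822 = n61006 := rfl
theorem F272302 : act 0 n61006 = n59926 := d4_1 D61006 (iv F272133) F272130
theorem F272303 : act 2 n61006 = n59823 := d19_1 D61006 (iv D59823) (iv F267301)
theorem F272304 : act 3 n61006 = n59942 := d25_1 D61006 (iv D59942) (iv F267302)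
theorem F272305 : act 4 n61006 = n59847 := d30_1 D61006 F267431 (iv F267141) F267142 D59822
theorem F272306 : act 7 n61006 = n59873 := d36_2 F272149 D61006 (iv F272147)
theorem F272307 : act 9 n61006 = n59838 := d38_2 (iv F267304) D61006 (iv D59838)
theorem F272308 : act 6 n59960 = n61006 := d41_3 F272307 (iv F270601) F270604
def n61007 : Q := act 1 n59824
theorem D61007 : act 1 n59824 = n61007 := rfl
theorem F272309 : act 2 n61007 = n59872 := d9_2 D59824 D61007 (iv D59872) (iv D58666) (iv F262454)
theorem F272310 : act 3 n61007 = n59845 := d10_2 (iv F267313) D61007 (iv D59845)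
theorem F272311 : act 5 n61007 = n59844 := d12_2 (iv F267314) D61007 (iv D59844)
theorem F272312 : act 6 n61007 = n59826 := d13_2 (iv F267315) D61007 (iv D59826)
theorem F272313 : act 7 n61007 = n59850 := d14_2 (iv F267316) D61007 (iv D59850)
theorem F272314 : act 8 n61007 = n60575 := d15_2 (iv F267317) D61007 (iv D60575)
theorem F272315 : act 9 n61007 = n59839 := d16_2 (iv F267318) D61007 (iv D59839)
def n61008 : Q := act 4 n59824
theorem D61008 : act 4 n59824 = n61008 := rfl
theorem F272316 : act 0 n61008 = n60346 := d3_1 D61008 (iv D60346) (iv F267312)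
theorem F272317 : act 2 n61008 = n59825 := d18_1 D61008 (iv D59825) D59824
theorem F272318 : act 3 n61008 = n59950 := d24_1 D61008 (iv D59950) (iv F267125) F267126 (iv F267313)
theorem F272319 : act 5 n61008 = n60352 := d30_2 (iv F267314) D61008 (iv D60352) F264498 (iv F262556)
theorem F272320 : act 6 n61008 = n59827 := d31_2 (iv F267315) D61008 (iv D59827)
theorem F272321 : act 7 n61008 = n59851 := d32_2 (iv F267316) D61008 (iv D59851)
theorem F272322 : act 8 n61008 = n60576 := d33_2 (iv F267317) D61008 (iv D60576)
theorem F272323 : act 9 n61008 = n59840 := d34_2 (iv F267318) D61008 (iv D59840)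
def n61009 : Q := act 0 n59826
theorem D61009 : act 0 n59826 = n61009 := rfl
theorem F272324 : act 5 n61009 = n59828 := d4_2 (iv F267327) D61009 (iv D59828)
theorem F272325 : act 9 n61009 = n59841 := d8_2 (iv F267328) D61009 (iv D59841)
def n61010 : Q := act 4 n59826
theorem D61010 : act 4 n59826 = n61010 := rfl
theorem F272326 : act 1 n61010 = n59827 := d11_1 D61010 (iv D59827) D59826
theorem F272327 : act 5 n61010 = n59946 := d30_2 (iv F267327) D61010 (iv D59946) F262974 (iv F262465)
theorem F272328 : act 9 n61010 = n59842 := d34_2 (iv F267328) D61010 (iv D59842)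
def n61011 : Q := act 3 n59827
theorem D61011 : act 3 n59827 = n61011 := rfl
theorem F272329 : act 0 n61011 = n59924 := d2_1 D61011 (iv F272146) F272144
theorem F272330 : act 2 n61011 = n59829 := d17_1 D61011 (iv D59829) F262478 (iv F262462) (iv F267329)
theorem F272331 : act 4 n61011 = n59862 := d24_2 D59827 D61011 F267517 (iv F267141) F267140
theorem F272332 : act 5 n61011 = n59947 := d25_2 (iv F267330) D61011 (iv D59947)
theorem F272333 : act 6 n61011 = n59950 := d26_2 F272320 D61011 (iv F272318)
theorem F272334 : act 7 n61011 = n59870 := d27_2 F272135 D61011 (iv F272132)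
theorem F272335 : act 9 n61011 = n59843 := d29_2 (iv F267331) D61011 (iv D59843)
theorem F272336 : act 8 n60233 = n61011 := d40_0 F272333 F267897 (iv F269081)
def n61012 : Q := act 0 n59830
theorem D61012 : act 0 n59830 = n61012 := rfl
theorem F272337 : act 2 n61012 = n60344 := d1_2 (iv F267343) D61012 (iv D60344)
theorem F272338 : act 3 n61012 = n60558 := d2_2 (iv F267344) D61012 (iv D60558)
theorem F272339 : act 4 n61012 = n59951 := d3_2 (iv F267345) D61012 (iv D59951)
theorem F272340 : act 5 n61012 = n60545 := d4_2 (iv F267346) D61012 (iv D60545)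
theorem F272341 : act 6 n61012 = n59831 := d5_2 (iv F267347) D61012 (iv D59831)
theorem F272342 : act 7 n61012 = n60347 := d6_2 (iv F267348) D61012 (iv D60347)
theorem F272343 : act 8 n61012 = n60044 := d7_2 (iv F267349) D61012 (iv D60044)
theorem F272344 : act 9 n61012 = n60565 := d8_2 (iv F267350) D61012 (iv D60565)
def n61013 : Q := act 0 n59832
theorem D61013 : act 0 n59832 = n61013 := rfl
theorem F272345 : act 2 n61013 = n59836 := d1_2 (iv F267354) D61013 (iv D59836)
theorem F272346 : act 3 n61013 = n59951 := d2_2 (iv F267355) D61013 (iv D59951)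
theorem F272347 : act 6 n61013 = n59961 := d5_2 (iv F267356) D61013 (iv D59961)
theorem F272348 : act 7 n61013 = n60554 := d6_2 (iv F267357) D61013 (iv D60554)
def n61014 : Q := act 4 n59832
theorem D61014 : act 4 n59832 = n61014 := rfl
theorem F272349 : act 1 n61014 = n59833 := d11_1 D61014 (iv D59833) D59832
theorem F272350 : act 2 n61014 = n59837 := d18_1 D61014 (iv D59837) (iv F267354)
theorem F272351 : act 3 n61014 = n60559 := d24_1 D61014 (iv D60559) (iv F267344) F267345 (iv F267355)
theorem F272352 : act 5 n61014 = n60562 := d30_2 F272103 D61014 (iv D60562) (iv F267419) (iv F272102)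
theorem F272353 : act 6 n61014 = n59962 := d31_2 (iv F267356) D61014 (iv D59962)
theorem F272354 : act 7 n61014 = n60555 := d32_2 (iv F267357) D61014 (iv D60555)
def n61015 : Q := act 0 n59834
theorem D61015 : act 0 n59834 = n61015 := rfl
theorem F272355 : act 1 n61015 = n60046 := d0_2 D59834 D61015 (iv D60046) (iv D58826) (iv F262503)
theorem F272356 : act 3 n61015 = n60049 := d2_2 (iv F267364) D61015 (iv D60049)
theorem F272357 : act 5 n61015 = n60021 := d4_2 (iv F267365) D61015 (iv D60021)
theorem F272358 : act 6 n61015 = n60529 := d5_2 (iv F267366) D61015 (iv D60529)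
theorem F272359 : act 7 n61015 = n60022 := d6_2 (iv F267367) D61015 (iv D60022)
theorem F272360 : act 8 n61015 = n59836 := d7_2 (iv F267368) D61015 (iv D59836)
theorem F272361 : act 9 n61015 = n60593 := d8_2 (iv F267369) D61015 (iv D60593)
def n61016 : Q := act 4 n59834
theorem D61016 : act 4 n59834 = n61016 := rfl
theorem F272362 : act 1 n61016 = n59835 := d11_1 D61016 (iv D59835) D59834
theorem F272363 : act 3 n61016 = n60606 := d24_1 D61016 (iv D60606) F265300 (iv F263368) (iv F267364)
theorem F272364 : act 5 n61016 = n60114 := d30_2 (iv F267365) D61016 (iv D60114) F263617 (iv F263241)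
theorem F272365 : act 6 n61016 = n60530 := d31_2 (iv F267366) D61016 (iv D60530)
theorem F272366 : act 7 n61016 = n60023 := d32_2 (iv F267367) D61016 (iv D60023)
theorem F272367 : act 8 n61016 = n59837 := d33_2 (iv F267368) D61016 (iv D59837)
theorem F272368 : act 9 n61016 = n60594 := d34_2 (iv F267369) D61016 (iv D60594)
def n61017 : Q := act 4 n59836
theorem D61017 : act 4 n59836 = n61017 := rfl
theorem F272369 : act 0 n61017 = n59837 := d3_1 D61017 (iv D59837) D59836
theorem F272370 : act 3 n61017 = n59999 := d24_1 D61017 (iv D59999) F263123 (iv F262545) (iv F267378)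
theorem F272371 : act 6 n61017 = n60535 := d31_2 (iv F267379) D61017 (iv D60535)
def n61018 : Q := act 5 n59837
theorem D61018 : act 5 n59837 = n61018 := rfl
theorem F272372 : act 1 n61018 = n59838 := d12_1 D61018 (iv D59838) (iv F267380)
theorem F272373 : act 2 n61018 = n60562 := d19_1 D61018 (iv F272352) F272350
theorem F272374 : act 3 n61018 = n60000 := d25_1 D61018 (iv D60000) (iv F267381)
theorem F272375 : act 4 n61018 = n59879 := d30_1 D61018 F267598 (iv F267189) F267190 D59837
theorem F272376 : act 7 n61018 = n59892 := d36_2 F272197 D61018 (iv F272195)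
theorem F272377 : act 8 n61018 = n60114 := d37_2 F272367 D61018 (iv F272364)
def n61019 : Q := act 0 n59839
theorem D61019 : act 0 n59839 = n61019 := rfl
theorem F272378 : act 1 n61019 = n60558 := d0_2 D59839 D61019 (iv D60558) (iv D59346) (iv F262528)
theorem F272379 : act 2 n61019 = n59891 := d1_2 (iv F267389) D61019 (iv D59891)
theorem F272380 : act 5 n61019 = n59852 := d4_2 (iv F267390) D61019 (iv D59852)
theorem F272381 : act 6 n61019 = n59841 := d5_2 (iv F267391) D61019 (iv D59841)
theorem F272382 : act 7 n61019 = n60561 := d6_2 (iv F267392) D61019 (iv D60561)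
theorem F272383 : act 8 n61019 = n60053 := d7_2 (iv F267393) D61019 (iv D60053)
def n61020 : Q := act 4 n59839
theorem D61020 : act 4 n59839 = n61020 := rfl
theorem F272384 : act 1 n61020 = n59840 := d11_1 D61020 (iv D59840) D59839
theorem F272385 : act 2 n61020 = n59892 := d18_1 D61020 (iv D59892) (iv F267389)
theorem F272386 : act 3 n61020 = n60567 := d24_1 D61020 (iv F270560) F270559 (iv F272160) F272159
theorem F272387 : act 5 n61020 = n60555 := d30_2 (iv F267390) D61020 (iv D60555) (iv F267135) F267134
theorem F272388 : act 6 n61020 = n59842 := d31_2 (iv F267391) D61020 (iv D59842)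
theorem F272389 : act 7 n61020 = n60562 := d32_2 (iv F267392) D61020 (iv D60562)
theorem F272390 : act 8 n61020 = n60054 := d33_2 (iv F267393) D61020 (iv D60054)
def n61021 : Q := act 4 n59841
theorem D61021 : act 4 n59841 = n61021 := rfl
theorem F272391 : act 0 n61021 = n59842 := d3_1 D61021 (iv D59842) D59841
theorem F272392 : act 5 n61021 = n60005 := d30_2 (iv F267401) D61021 (iv D60005) F263143 (iv F262545)
theorem F272393 : act 8 n61021 = n60055 := d33_2 (iv F267402) D61021 (iv D60055)
def n61022 : Q := act 3 n59842
theorem D61022 : act 3 n59842 = n61022 := rfl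
theorem F272394 : act 1 n61022 = n59843 := d10_1 D61022 (iv D59843) (iv F267403)
theorem F272395 : act 4 n61022 = n59877 := d24_2 D59842 D61022 F267588 (iv F267189) F267188
theorem F272396 : act 5 n61022 = n60006 := d25_2 (iv F267404) D61022 (iv D60006)
theorem F272397 : act 6 n61022 = n60567 := d26_2 F272388 D61022 (iv F272386)
theorem F272398 : act 7 n61022 = n59889 := d27_2 F272183 D61022 (iv F272180)
theorem F272399 : act 2 n60574 = n61022 := d20_3 F272397 F270138 D60574
def n61023 : Q := act 0 n59844
theorem D61023 : act 0 n59844 = n61023 := rfl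
theorem F272400 : act 1 n61023 = n60347 := d0_2 D59844 D61023 (iv D60347) (iv D59117) (iv F262554)
theorem F272401 : act 2 n61023 = n59874 := d1_2 (iv F267412) D61023 (iv D59874)
theorem F272402 : act 3 n61023 = n60561 := d2_2 (iv F267413) D61023 (iv D60561)
theorem F272403 : act 4 n61023 = n60542 := d3_2 (iv F267414) D61023 (iv D60542)
theorem F272404 : act 6 n61023 = n60509 := d5_2 (iv F267415) D61023 (iv D60509)
theorem F272405 : act 8 n61023 = n60577 := d7_2 (iv F267416) D61023 (iv D60577)
theorem F272406 : act 9 n61023 = n59852 := d8_2 (iv F267417) D61023 (iv D59852)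
def n61024 : Q := act 0 n59845
theorem D61024 : act 0 n59845 = n61024 := rfl
theorem F272407 : act 1 n61024 = n60565 := d0_2 D59845 D61024 (iv D60565) (iv D59354) (iv F262560)
theorem F272408 : act 2 n61024 = n59880 := d1_2 (iv F267418) D61024 (iv D59880)
theorem F272409 : act 5 n61024 = n60561 := d4_2 (iv F267419) D61024 (iv D60561)
theorem F272410 : act 7 n61024 = n59852 := d6_2 (iv F267420) D61024 (iv D59852)
theorem F272411 : act 8 n61024 = n60064 := d7_2 (iv F267421) D61024 (iv D60064)
def n61025 : Q := act 2 n59846
theorem D61025 : act 2 n59846 = n61025 := rfl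
theorem F272412 : act 0 n61025 = n59900 := d1_1 D61025 (iv D59900) (iv F267422)
theorem F272413 : act 3 n61025 = n60241 := d17_2 D59846 D61025 (iv D60241) (iv D59007) (iv F262566)
theorem F272414 : act 5 n61025 = n59853 := d19_2 (iv F267424) D61025 (iv D59853)
theorem F272415 : act 6 n61025 = n59953 := d20_2 (iv F267425) D61025 (iv D59953)
theorem F272416 : act 7 n61025 = n59859 := d21_2 (iv F267426) D61025 (iv D59859)
theorem F272417 : act 8 n61025 = n59847 := d22_2 (iv F267427) D61025 (iv D59847)
theorem F272418 : act 9 n61025 = n60069 := d23_2 (iv F267428) D61025 (iv D60069)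
def n61026 : Q := act 1 n59847
theorem D61026 : act 1 n59847 = n61026 := rfl
theorem F272419 : act 2 n61026 = n59850 := d9_2 D59847 D61026 (iv D59850) (iv D58647) (iv F262573)
theorem F272420 : act 3 n61026 = n59881 := d10_2 (iv F267430) D61026 (iv D59881)
theorem F272421 : act 5 n61026 = n59863 := d12_2 (iv F267431) D61026 (iv D59863)
theorem F272422 : act 6 n61026 = n59959 := d13_2 (iv F267432) D61026 (iv D59959)
theorem F272423 : act 7 n61026 = n59872 := d14_2 (iv F267433) D61026 (iv D59872)
theorem F272424 : act 9 n61026 = n59879 := d16_2 (iv F267434) D61026 (iv D59879)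
def n61027 : Q := act 1 n59848
theorem D61027 : act 1 n59848 = n61027 := rfl
theorem F272425 : act 3 n61027 = n60065 := d10_2 (iv F267436) D61027 (iv D60065)
theorem F272426 : act 5 n61027 = n60020 := d12_2 (iv F267437) D61027 (iv D60020)
theorem F272427 : act 6 n61027 = n60523 := d13_2 (iv F267438) D61027 (iv D60523)
theorem F272428 : act 7 n61027 = n60575 := d14_2 (iv F267439) D61027 (iv D60575)
theorem F272429 : act 8 n61027 = n59850 := d15_2 (iv F267440) D61027 (iv D59850)
theorem F272430 : act 9 n61027 = n60579 := d16_2 (iv F267441) D61027 (iv D60579)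
def n61028 : Q := act 4 n59848
theorem D61028 : act 4 n59848 = n61028 := rfl
theorem F272431 : act 0 n61028 = n60043 := d3_1 D61028 (iv D60043) (iv F267435)
theorem F272432 : act 2 n61028 = n59849 := d18_1 D61028 (iv D59849) D59848
theorem F272433 : act 5 n61028 = n60100 := d30_2 (iv F267437) D61028 (iv D60100) F263574 (iv F263236)
theorem F272434 : act 6 n61028 = n60524 := d31_2 (iv F267438) D61028 (iv D60524)
theorem F272435 : act 7 n61028 = n60576 := d32_2 (iv F267439) D61028 (iv D60576)
theorem F272436 : act 8 n61028 = n59851 := d33_2 (iv F267440) D61028 (iv D59851)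
theorem F272437 : act 9 n61028 = n60580 := d34_2 (iv F267441) D61028 (iv D60580)
theorem F272438 : act 3 n60669 = n61028 := d28_5 F272436 F267454 F265164 D59478 D60669
def n61029 : Q := act 0 n59850
theorem D61029 : act 0 n59850 = n61029 := rfl
theorem F272439 : act 1 n61029 = n60545 := d0_2 D59850 D61029 (iv D60545) (iv D59332) (iv F262584)
theorem F272440 : act 3 n61029 = n59852 := d2_2 (iv F267449) D61029 (iv D59852)
theorem F272441 : act 6 n61029 = n60532 := d5_2 (iv F267450) D61029 (iv D60532)
theorem F272442 : act 9 n61029 = n60561 := d8_2 (iv F267451) D61029 (iv D60561)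
def n61030 : Q := act 4 n59850
theorem D61030 : act 4 n59850 = n61030 := rfl
theorem F272443 : act 1 n61030 = n59851 := d11_1 D61030 (iv D59851) D59850
theorem F272444 : act 3 n61030 = n60557 := d24_1 D61030 (iv D60557) (iv F267133) F267134 (iv F267449)
theorem F272445 : act 6 n61030 = n60533 := d31_2 (iv F267450) D61030 (iv D60533)
theorem F272446 : act 9 n61030 = n60562 := d34_2 (iv F267451) D61030 (iv D60562)
def n61031 : Q := act 1 n59853
theorem D61031 : act 1 n59853 = n61031 := rfl
theorem F272447 : act 2 n61031 = n60020 := d9_2 D59853 D61031 (iv D60020) (iv D58800) (iv F262596)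
theorem F272448 : act 3 n61031 = n60480 := d10_2 (iv F267461) D61031 (iv D60480)
theorem F272449 : act 4 n61031 = n60061 := d11_2 (iv F267462) D61031 (iv D60061)
theorem F272450 : act 6 n61031 = n60016 := d13_2 (iv F267463) D61031 (iv D60016)
theorem F272451 : act 7 n61031 = n59861 := d14_2 (iv F267464) D61031 (iv D59861)
theorem F272452 : act 8 n61031 = n59863 := d15_2 (iv F267465) D61031 (iv D59863)
theorem F272453 : act 9 n61031 = n60071 := d16_2 (iv F267466) D61031 (iv D60071)
def n61032 : Q := act 2 n59854
theorem D61032 : act 2 n59854 = n61032 := rfl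
theorem F272454 : act 0 n61032 = n59908 := d1_1 D61032 (iv D59908) (iv F267467)
theorem F272455 : act 3 n61032 = n59866 := d17_2 D59854 D61032 (iv D59866) (iv D58661) (iv F262604)
theorem F272456 : act 5 n61032 = n60248 := d19_2 (iv F267469) D61032 (iv D60248)
theorem F272457 : act 6 n61032 = n60380 := d20_2 (iv F267470) D61032 (iv D60380)
theorem F272458 : act 7 n61032 = n60224 := d21_2 (iv F267471) D61032 (iv D60224)
theorem F272459 : act 8 n61032 = n59856 := d22_2 (iv F267472) D61032 (iv D59856)
theorem F272460 : act 9 n61032 = n60422 := d23_2 (iv F267473) D61032 (iv D60422)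
def n61033 : Q := act 4 n59854
theorem D61033 : act 4 n59854 = n61033 := rfl
theorem F272461 : act 0 n61033 = n59909 := d3_1 D61033 (iv D59909) (iv F267467)
theorem F272462 : act 1 n61033 = n60427 := d11_1 D61033 (iv D60427) (iv F267468)
theorem F272463 : act 3 n61033 = n61033 := d24_1 D61033 (iv D61033) (iv D59854) F262605 D59854
theorem F272464 : act 6 n61033 = n60381 := d31_2 (iv F267470) D61033 (iv D60381)
theorem F272465 : act 7 n61033 = n60225 := d32_2 (iv F267471) D61033 (iv D60225)
theorem F272466 : act 8 n61033 = n59857 := d33_2 (iv F267472) D61033 (iv D59857)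
theorem F272467 : act 9 n61033 = n60423 := d34_2 (iv F267473) D61033 (iv D60423)
def n61034 : Q := act 2 n59855
theorem D61034 : act 2 n59855 = n61034 := rfl
theorem F272468 : act 0 n61034 = n59910 := d1_1 D61034 (iv D59910) (iv F267474)
theorem F272469 : act 3 n61034 = n59859 := d17_2 D59855 D61034 (iv D59859) (iv D58655) (iv F262612)
theorem F272470 : act 5 n61034 = n59856 := d19_2 (iv F267476) D61034 (iv D59856)
theorem F272471 : act 6 n61034 = n60275 := d20_2 (iv F267477) D61034 (iv D60275)
theorem F272472 : act 7 n61034 = n60241 := d21_2 (iv F267478) D61034 (iv D60241)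
theorem F272473 : act 8 n61034 = n60248 := d22_2 (iv F267479) D61034 (iv D60248)
theorem F272474 : act 9 n61034 = n60072 := d23_2 (iv F267480) D61034 (iv D60072)
def n61035 : Q := act 4 n59855
theorem D61035 : act 4 n59855 = n61035 := rfl
theorem F272475 : act 0 n61035 = n59911 := d3_1 D61035 (iv D59911) (iv F267474)
theorem F272476 : act 1 n61035 = n60460 := d11_1 D61035 (iv D60460) (iv F267475)
theorem F272477 : act 3 n61035 = n61035 := d24_1 D61035 (iv D61035) (iv D59855) F262613 D59855
theorem F272478 : act 6 n61035 = n60276 := d31_2 (iv F267477) D61035 (iv D60276)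
theorem F272479 : act 7 n61035 = n60242 := d32_2 (iv F267478) D61035 (iv D60242)
theorem F272480 : act 8 n61035 = n60249 := d33_2 (iv F267479) D61035 (iv D60249)
theorem F272481 : act 9 n61035 = n60073 := d34_2 (iv F267480) D61035 (iv D60073)
def n61036 : Q := act 1 n59856
theorem D61036 : act 1 n59856 = n61036 := rfl
theorem F272482 : act 2 n61036 = n60463 := d9_2 D59856 D61036 (iv D60463) (iv D59240) (iv F262619)
theorem F272483 : act 3 n61036 = n59861 := d10_2 (iv F267482) D61036 (iv D59861)
theorem F272484 : act 6 n61036 = n60385 := d13_2 (iv F267483) D61036 (iv D60385)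
theorem F272485 : act 7 n61036 = n60480 := d14_2 (iv F267484) D61036 (iv D60480)
theorem F272486 : act 9 n61036 = n60074 := d16_2 (iv F267485) D61036 (iv D60074)
def n61037 : Q := act 4 n59856
theorem D61037 : act 4 n59856 = n61037 := rfl
theorem F272487 : act 0 n61037 = n59913 := d3_1 D61037 (iv D59913) (iv F267481)
theorem F272488 : act 2 n61037 = n59857 := d18_1 D61037 (iv D59857) D59856
theorem F272489 : act 3 n61037 = n60527 := d24_1 D61037 (iv D60527) F265084 (iv F262637) (iv F267482)
theorem F272490 : act 6 n61037 = n60386 := d31_2 (iv F267483) D61037 (iv D60386)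
theorem F272491 : act 7 n61037 = n60481 := d32_2 (iv F267484) D61037 (iv D60481)
theorem F272492 : act 9 n61037 = n60075 := d34_2 (iv F267485) D61037 (iv D60075)
def n61038 : Q := act 5 n59857
theorem D61038 : act 5 n59857 = n61038 := rfl
theorem F272493 : act 0 n61038 = n59914 := d4_1 D61038 (iv D59914) (iv F267486)
theorem F272494 : act 1 n61038 = n60465 := d12_1 D61038 (iv D60465) (iv F267487)
theorem F272495 : act 3 n61038 = n59858 := d25_1 D61038 (iv D59858) (iv F267488)
theorem F272496 : act 7 n61038 = n60329 := d36_2 (iv F267490) D61038 F269382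
theorem F272497 : act 9 n61038 = n60076 := d38_2 (iv F267491) D61038 (iv D60076)
def n61039 : Q := act 6 n59858
theorem D61039 : act 6 n59858 = n61039 := rfl
theorem F272498 : act 0 n61039 = n59915 := d5_1 D61039 (iv D59915) (iv F267492)
theorem F272499 : act 1 n61039 = n60507 := d13_1 D61039 (iv D60507) (iv F267493)
theorem F272500 : act 2 n61039 = n60093 := d20_1 D61039 F268509 (iv F267494)
theorem F272501 : act 4 n61039 = n61039 := d31_1 D61039 (iv D61039) F267495
theorem F272502 : act 5 n61039 = n60092 := d35_1 D61039 F268504 F263553 (iv F262626) D59858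
theorem F272503 : act 7 n61039 = n60335 := d39_2 (iv F267496) D61039 F269412 F264374 (iv F264379)
theorem F272504 : act 8 n61039 = n61039 := d40_2 F267497 D61039 (iv D61039)
theorem F272505 : act 9 n61039 = n60077 := d41_2 (iv F267498) D61039 (iv D60077)
def n61040 : Q := act 1 n59859
theorem D61040 : act 1 n59859 = n61040 := rfl
theorem F272506 : act 2 n61040 = n60575 := d9_2 D59859 D61040 (iv D60575) (iv D59369) (iv F262631)
theorem F272507 : act 5 n61040 = n59861 := d12_2 (iv F267500) D61040 (iv D59861)
theorem F272508 : act 6 n61040 = n60374 := d13_2 (iv F267501) D61040 (iv D60374)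
theorem F272509 : act 8 n61040 = n59872 := d15_2 (iv F267502) D61040 (iv D59872)
theorem F272510 : act 9 n61040 = n60078 := d16_2 (iv F267503) D61040 (iv D60078)
def n61041 : Q := act 4 n59859
theorem D61041 : act 4 n59859 = n61041 := rfl
theorem F272511 : act 0 n61041 = n59917 := d3_1 D61041 (iv D59917) (iv F267499)
theorem F272512 : act 2 n61041 = n59860 := d18_1 D61041 (iv D59860) D59859
theorem F272513 : act 5 n61041 = n60583 := d30_2 (iv F267500) D61041 (iv D60583) F265233 (iv F262637)
theorem F272514 : act 6 n61041 = n60375 := d31_2 (iv F267501) D61041 (iv D60375)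
theorem F272515 : act 8 n61041 = n59873 := d33_2 (iv F267502) D61041 (iv D59873)
theorem F272516 : act 9 n61041 = n60079 := d34_2 (iv F267503) D61041 (iv D60079)
def n61042 : Q := act 0 n59861
theorem D61042 : act 0 n59861 = n61042 := rfl
theorem F272517 : act 1 n61042 = n59918 := d0_2 D59861 D61042 (iv D59918) (iv D58707) (iv F262636)
theorem F272518 : act 2 n61042 = n60577 := d1_2 (iv F267511) D61042 (iv D60577)
theorem F272519 : act 4 n61042 = n60595 := d3_2 (iv F267512) D61042 (iv D60595)
theorem F272520 : act 6 n61042 = n60391 := d5_2 (iv F267513) D61042 (iv D60391)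
theorem F272521 : act 8 n61042 = n59874 := d7_2 (iv F267514) D61042 (iv D59874)
theorem F272522 : act 9 n61042 = n60080 := d8_2 (iv F267515) D61042 (iv D60080)
def n61043 : Q := act 1 n59862
theorem D61043 : act 1 n59862 = n61043 := rfl
theorem F272523 : act 2 n61043 = n59885 := d9_2 D59862 D61043 (iv D59885) (iv D58679) (iv F262642)
theorem F272524 : act 3 n61043 = n59863 := d10_2 (iv F267517) D61043 (iv D59863)
theorem F272525 : act 5 n61043 = n59881 := d12_2 (iv F267518) D61043 (iv D59881)
theorem F272526 : act 6 n61043 = n59949 := d13_2 (iv F267519) D61043 (iv D59949)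
theorem F272527 : act 7 n61043 = n59869 := d14_2 (iv F267520) D61043 (iv D59869)
theorem F272528 : act 8 n61043 = n60232 := d15_2 (iv F267521) D61043 (iv D60232)
theorem F272529 : act 9 n61043 = n59877 := d16_2 (iv F267522) D61043 (iv D59877)
def n61044 : Q := act 0 n59863
theorem D61044 : act 0 n59863 = n61044 := rfl
theorem F272530 : act 1 n61044 = n59927 := d0_2 D59863 D61044 (iv D59927) (iv D58715) (iv F262648)
theorem F272531 : act 7 n61044 = n59874 := d6_2 (iv F267523) D61044 (iv D59874)
theorem F272532 : act 9 n61044 = n59880 := d8_2 (iv F267524) D61044 (iv D59880)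
def n61045 : Q := act 1 n59864
theorem D61045 : act 1 n59864 = n61045 := rfl
theorem F272533 : act 2 n61045 = n59869 := d9_2 D59864 D61045 (iv D59869) (iv D58663) (iv F262652)
theorem F272534 : act 3 n61045 = n59879 := d10_2 (iv F267526) D61045 (iv D59879)
theorem F272535 : act 5 n61045 = n59877 := d12_2 (iv F267527) D61045 (iv D59877)
theorem F272536 : act 6 n61045 = n59925 := d13_2 (iv F267528) D61045 (iv D59925)
theorem F272537 : act 7 n61045 = n59885 := d14_2 (iv F267529) D61045 (iv D59885)
theorem F272538 : act 9 n61045 = n59881 := d16_2 (iv F267530) D61045 (iv D59881)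
def n61046 : Q := act 4 n59864
theorem D61046 : act 4 n59864 = n61046 := rfl
theorem F272539 : act 0 n61046 = n59960 := d3_1 D61046 (iv D59960) (iv F267525)
theorem F272540 : act 2 n61046 = n59865 := d18_1 D61046 (iv D59865) D59864
theorem F272541 : act 3 n61046 = n59998 := d24_1 D61046 F268083 (iv F267385) F267386 (iv F267526)
theorem F272542 : act 5 n61046 = n59997 := d30_2 (iv F267527) D61046 F268081 (iv F267409) F267408
theorem F272543 : act 6 n61046 = n59926 := d31_2 (iv F267528) D61046 (iv D59926)
theorem F272544 : act 7 n61046 = n59886 := d32_2 (iv F267529) D61046 (iv D59886)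
theorem F272545 : act 9 n61046 = n59882 := d34_2 (iv F267530) D61046 (iv D59882)
def n61047 : Q := act 1 n59866
theorem D61047 : act 1 n59866 = n61047 := rfl
theorem F272546 : act 5 n61047 = n60257 := d12_2 (iv F267539) D61047 (iv D60257)
theorem F272547 : act 6 n61047 = n60538 := d13_2 (iv F267540) D61047 (iv D60538)
theorem F272548 : act 7 n61047 = n60232 := d14_2 (iv F267541) D61047 (iv D60232)
theorem F272549 : act 8 n61047 = n59869 := d15_2 (iv F267542) D61047 (iv D59869)
def n61048 : Q := act 4 n59866
theorem D61048 : act 4 n59866 = n61048 := rfl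
theorem F272550 : act 0 n61048 = n59936 := d3_1 D61048 (iv D59936) (iv F267538)
theorem F272551 : act 2 n61048 = n59867 := d18_1 D61048 (iv D59867) D59866
theorem F272552 : act 6 n61048 = n60539 := d31_2 (iv F267540) D61048 (iv D60539)
theorem F272553 : act 7 n61048 = n60233 := d32_2 (iv F267541) D61048 (iv D60233)
theorem F272554 : act 8 n61048 = n59870 := d33_2 (iv F267542) D61048 (iv D59870)
def n61049 : Q := act 5 n59867
theorem D61049 : act 5 n59867 = n61049 := rfl
theorem F272555 : act 0 n61049 = n59937 := d4_1 D61049 (iv D59937) (iv F267543)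
theorem F272556 : act 1 n61049 = n60008 := d12_1 D61049 (iv F271828) F271826
theorem F272557 : act 3 n61049 = n61049 := d25_1 D61049 (iv D61049) F267544
theorem F272558 : act 4 n61049 = n59992 := d30_1 D61049 F268066 (iv D59021) (iv F262666) D59867
theorem F272559 : act 6 n61049 = n59984 := d35_2 (iv F267545) D61049 (iv D59984) (iv F266401) F266400
theorem F272560 : act 7 n61049 = n59948 := d36_2 (iv F267546) D61049 F267890
theorem F272561 : act 8 n61049 = n59871 := d37_2 (iv F267547) D61049 (iv D59871)
def n61050 : Q := act 1 n59868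
theorem D61050 : act 1 n59868 = n61050 := rfl
theorem F272562 : act 2 n61050 = n59877 := d9_2 D59868 D61050 (iv D59877) (iv D58671) (iv F262671)
theorem F272563 : act 3 n61050 = n59872 := d10_2 (iv F267549) D61050 (iv D59872)
theorem F272564 : act 4 n61050 = n60574 := d11_2 (iv F267550) D61050 F270151
theorem F272565 : act 5 n61050 = n59869 := d12_2 (iv F267551) D61050 (iv D59869)
theorem F272566 : act 6 n61050 = n60002 := d13_2 (iv F267552) D61050 (iv D60002)
theorem F272567 : act 7 n61050 = n59881 := d14_2 (iv F267553) D61050 (iv D59881)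
theorem F272568 : act 8 n61050 = n60257 := d15_2 (iv F267554) D61050 (iv D60257)
theorem F272569 : act 9 n61050 = n59885 := d16_2 (iv F267555) D61050 (iv D59885)
def n61051 : Q := act 0 n59869
theorem D61051 : act 0 n59869 = n61051 := rfl
theorem F272570 : act 1 n61051 = n59940 := d0_2 D59869 D61051 (iv D59940) (iv D58725) (iv F262678)
theorem F272571 : act 3 n61051 = n59874 := d2_2 (iv F267556) D61051 (iv D59874)
theorem F272572 : act 6 n61051 = n60540 := d5_2 (iv F267557) D61051 (iv D60540)
theorem F272573 : act 9 n61051 = n59888 := d8_2 (iv F267558) D61051 (iv D59888)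
def n61052 : Q := act 4 n59869
theorem D61052 : act 4 n59869 = n61052 := rfl
theorem F272574 : act 1 n61052 = n59870 := d11_1 D61052 (iv D59870) D59869
theorem F272575 : act 6 n61052 = n60541 := d31_2 (iv F267557) D61052 (iv D60541)
theorem F272576 : act 9 n61052 = n59889 := d34_2 (iv F267558) D61052 (iv D59889)
def n61053 : Q := act 5 n59870
theorem D61053 : act 5 n59870 = n61053 := rfl
theorem F272577 : act 0 n61053 = n59942 := d4_1 D61053 (iv D59942) (iv F267559)
theorem F272578 : act 2 n61053 = n59871 := d19_1 D61053 (iv D59871) (iv F267560)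
theorem F272579 : act 3 n61053 = n59926 := d25_1 D61053 (iv F272133) F272132
theorem F272580 : act 4 n61053 = n60001 := d30_1 D61053 F268088 (iv F267550) F267551 D59870
theorem F272581 : act 6 n61053 = n59998 := d35_2 (iv F267561) D61053 (iv D59998) (iv F268075) F268074
theorem F272582 : act 7 n61053 = n59947 := d36_2 F272334 D61053 (iv F272332)
theorem F272583 : act 9 n61053 = n59890 := d38_2 (iv F267562) D61053 (iv D59890)
def n61054 : Q := act 0 n59872
theorem D61054 : act 0 n59872 = n61054 := rfl
theorem F272584 : act 1 n61054 = n59945 := d0_2 D59872 D61054 (iv D59945) (iv D58730) (iv F262694)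
theorem F272585 : act 5 n61054 = n59874 := d4_2 (iv F267570) D61054 (iv D59874)
theorem F272586 : act 9 n61054 = n59891 := d8_2 (iv F267571) D61054 (iv D59891)
def n61055 : Q := act 4 n59872
theorem D61055 : act 4 n59872 = n61055 := rfl
theorem F272587 : act 1 n61055 = n59873 := d11_1 D61055 (iv D59873) D59872
theorem F272588 : act 9 n61055 = n59892 := d34_2 (iv F267571) D61055 (iv D59892)
def n61056 : Q := act 3 n59873
theorem D61056 : act 3 n59873 = n61056 := rfl
theorem F272589 : act 0 n61056 = n59947 := d2_1 D61056 (iv D59947) (iv F267572)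
theorem F272590 : act 2 n61056 = n59875 := d17_1 D61056 (iv D59875) F262704 (iv F262698) (iv F267573)
theorem F272591 : act 4 n61056 = n60537 := d24_2 D59873 D61056 F270073 (iv F267550) F267549
theorem F272592 : act 5 n61056 = n59924 := d25_2 F272147 D61056 (iv F272146)
theorem F272593 : act 6 n61056 = n60534 := d26_2 F270448 D61056 (iv F270446)
theorem F272594 : act 7 n61056 = n59942 := d27_2 F272306 D61056 (iv F272304)
theorem F272595 : act 9 n61056 = n59893 := d29_2 (iv F267574) D61056 (iv D59893)
def n61057 : Q := act 8 n59875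
theorem D61057 : act 8 n59875 = n61057 := rfl
theorem F272596 : act 0 n61057 = n59948 := d7_1 D61057 (iv D59948) (iv F267578)
theorem F272597 : act 1 n61057 = n60517 := d15_1 D61057 F270025 (iv F267579)
theorem F272598 : act 3 n61057 = n61057 := d28_1 D61057 (iv D61057) (iv D59875) F262708 D59875
theorem F272599 : act 4 n61057 = n60112 := d33_1 D61057 F268597 (iv F267580)
theorem F272600 : act 5 n61057 = n59922 := d37_1 D61057 F267793 (iv F267581)
theorem F272601 : act 6 n61057 = n60525 := d40_1 D61057 F270048 (iv F267582)
theorem F272602 : act 7 n61057 = n59937 := d42_1 D61057 F267854 (iv F267583)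
def n61058 : Q := act 0 n59876
theorem D61058 : act 0 n59876 = n61058 := rfl
theorem F272603 : act 1 n61058 = n59951 := d0_2 D59876 D61058 (iv D59951) (iv D58736) (iv F262710)
theorem F272604 : act 6 n61058 = n59880 := d5_2 (iv F267585) D61058 (iv D59880)
theorem F272605 : act 7 n61058 = n60542 := d6_2 (iv F267586) D61058 (iv D60542)
theorem F272606 : act 8 n61058 = n60101 := d7_2 (iv F267587) D61058 (iv D60101)
def n61059 : Q := act 0 n59877
theorem D61059 : act 0 n59877 = n61059 := rfl
theorem F272607 : act 1 n61059 = n59961 := d0_2 D59877 D61059 (iv D59961) (iv D58744) (iv F262714)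
theorem F272608 : act 3 n61059 = n59880 := d2_2 (iv F267588) D61059 (iv D59880)
theorem F272609 : act 7 n61059 = n59888 := d6_2 (iv F267589) D61059 (iv D59888)
def n61060 : Q := act 1 n59878
theorem D61060 : act 1 n59878 = n61060 := rfl
theorem F272610 : act 2 n61060 = n59966 := d9_2 D59878 D61060 (iv D59966) (iv D58750) (iv F262718)
theorem F272611 : act 3 n61060 = n59925 := d10_2 (iv F267591) D61060 (iv D59925)
theorem F272612 : act 5 n61060 = n59923 := d12_2 (iv F267592) D61060 (iv D59923)
theorem F272613 : act 6 n61060 = n59879 := d13_2 (iv F267593) D61060 (iv D59879)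
theorem F272614 : act 7 n61060 = n59938 := d14_2 (iv F267594) D61060 (iv D59938)
theorem F272615 : act 8 n61060 = n60110 := d15_2 (iv F267595) D61060 (iv D60110)
theorem F272616 : act 9 n61060 = n59959 := d16_2 (iv F267596) D61060 (iv D59959)
def n61061 : Q := act 0 n59879
theorem D61061 : act 0 n59879 = n61061 := rfl
theorem F272617 : act 1 n61061 = n59963 := d0_2 D59879 D61061 (iv D59963) (iv D58746) (iv F262724)
theorem F272618 : act 2 n61061 = n60561 := d1_2 (iv F267597) D61061 (iv D60561)
theorem F272619 : act 5 n61061 = n59880 := d4_2 (iv F267598) D61061 (iv D59880)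
theorem F272620 : act 7 n61061 = n59891 := d6_2 (iv F267599) D61061 (iv D59891)
theorem F272621 : act 8 n61061 = n60113 := d7_2 (iv F267600) D61061 (iv D60113)
def n61062 : Q := act 0 n59881
theorem D61062 : act 0 n59881 = n61062 := rfl
theorem F272622 : act 2 n61062 = n59888 := d1_2 (iv F267604) D61062 (iv D59888)
theorem F272623 : act 6 n61062 = n59963 := d5_2 (iv F267605) D61062 (iv D59963)
theorem F272624 : act 8 n61062 = n60259 := d7_2 (iv F267606) D61062 (iv D60259)
def n61063 : Q := act 4 n59881
theorem D61063 : act 4 n59881 = n61063 := rfl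
theorem F272625 : act 1 n61063 = n59882 := d11_1 D61063 (iv D59882) D59881
theorem F272626 : act 2 n61063 = n59889 := d18_1 D61063 (iv D59889) (iv F267604)
theorem F272627 : act 6 n61063 = n59964 := d31_2 (iv F267605) D61063 (iv D59964)
theorem F272628 : act 7 n61063 = n60574 := d32_2 F272567 D61063 (iv F272564)
theorem F272629 : act 8 n61063 = n60260 := d33_2 (iv F267606) D61063 (iv D60260)
def n61064 : Q := act 3 n59882
theorem D61064 : act 3 n59882 = n61064 := rfl
theorem F272630 : act 0 n61064 = n60001 := d2_1 D61064 (iv F270598) F270597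
theorem F272631 : act 2 n61064 = n59884 := d17_1 D61064 (iv D59884) F262739 (iv F262733) (iv F267607)
theorem F272632 : act 4 n61064 = n59942 := d24_2 D59882 D61064 (iv F272304) F272305 F267430
theorem F272633 : act 6 n61064 = n59890 := d26_2 (iv F267608) D61064 F267646
theorem F272634 : act 7 n61064 = n60537 := d27_2 (iv F267609) D61064 F270073
theorem F272635 : act 9 n61064 = n59998 := d29_2 F272545 D61064 (iv F272541)
theorem F272636 : act 5 n59939 = n61064 := d38_3 F272635 (iv D59998) (iv F267862)
def n61065 : Q := act 5 n59882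
theorem D61065 : act 5 n59882 = n61065 := rfl
theorem F272637 : act 0 n61065 = n60537 := d4_1 D61065 (iv F270600) F270597
theorem F272638 : act 2 n61065 = n59883 := d19_1 D61065 (iv D59883) (iv F267607)
theorem F272639 : act 3 n61065 = n59939 := d25_1 D61065 F272636 (iv D61064)
theorem F272640 : act 4 n61065 = n59947 := d30_1 D61065 (iv F272332) F272331 F267518 D59882
theorem F272641 : act 6 n61065 = n60512 := d35_2 (iv F267608) D61065 (iv D60512) (iv F267202) F267201
theorem F272642 : act 7 n61065 = n60001 := d36_2 (iv F267609) D61065 F268088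
theorem F272643 : act 8 n61065 = n60262 := d37_2 (iv F267610) D61065 (iv D60262)
theorem F272644 : act 9 n61065 = n59997 := d38_2 F272545 D61065 (iv F272542)
def n61066 : Q := act 0 n59885
theorem D61066 : act 0 n59885 = n61066 := rfl
theorem F272645 : act 1 n61066 = n59995 := d0_2 D59885 D61066 (iv D59995) (iv D58770) (iv F262753)
theorem F272646 : act 3 n61066 = n59891 := d2_2 (iv F267626) D61066 (iv D59891)
theorem F272647 : act 5 n61066 = n59888 := d4_2 (iv F267627) D61066 (iv D59888)
def n61067 : Q := act 4 n59885
theorem D61067 : act 4 n59885 = n61067 := rfl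
theorem F272648 : act 1 n61067 = n59886 := d11_1 D61067 (iv D59886) D59885
theorem F272649 : act 6 n61067 = n60553 := d31_2 F270480 D61067 (iv F270478)
theorem F272650 : act 9 n61067 = n60574 := d34_2 F272569 D61067 (iv F272564)
def n61068 : Q := act 3 n59886
theorem D61068 : act 3 n59886 = n61068 := rfl
theorem F272651 : act 0 n61068 = n59997 := d2_1 D61068 (iv D59997) (iv F267628)
theorem F272652 : act 2 n61068 = n59894 := d17_1 D61068 (iv D59894) F262778 (iv F262757) (iv F267629)
theorem F272653 : act 4 n61068 = n59893 := d24_2 D59886 D61068 (iv D59893) (iv D58685) (iv F262754)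
theorem F272654 : act 6 n61068 = n60520 := d26_2 (iv F267630) D61068 F270032
theorem F272655 : act 7 n61068 = n59998 := d27_2 F272544 D61068 (iv F272541)
theorem F272656 : act 9 n61068 = n60537 := d29_2 (iv F267631) D61068 F270073
theorem F272657 : act 5 n59960 = n61068 := d38_3 F272656 (iv F270600) F270604
def n61069 : Q := act 5 n59886
theorem D61069 : act 5 n59886 = n61069 := rfl
theorem F272658 : act 0 n61069 = n59998 := d4_1 D61069 (iv D59998) (iv F267628)
theorem F272659 : act 2 n61069 = n59887 := d19_1 D61069 (iv D59887) (iv F267629)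
theorem F272660 : act 3 n61069 = n59960 := d25_1 D61069 F272657 (iv D61068)
theorem F272661 : act 4 n61069 = n59890 := d30_1 D61069 (iv D59890) (iv D58682) (iv F262755) D59886
theorem F272662 : act 6 n61069 = n59942 := d35_2 (iv F267630) D61069 (iv D59942) F262959 D59340
theorem F272663 : act 7 n61069 = n59997 := d36_2 F272544 D61069 (iv F272542)
theorem F272664 : act 9 n61069 = n60001 := d38_2 (iv F267631) D61069 F268088
def n61070 : Q := act 4 n59888
theorem D61070 : act 4 n59888 = n61070 := rfl
theorem F272665 : act 0 n61070 = n59889 := d3_1 D61070 (iv D59889) D59888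
theorem F272666 : act 1 n61070 = n59999 := d11_1 D61070 (iv D59999) (iv F267639)
theorem F272667 : act 6 n61070 = n60543 := d31_2 (iv F267641) D61070 (iv D60543)
def n61071 : Q := act 5 n59889
theorem D61071 : act 5 n59889 = n61071 := rfl
theorem F272668 : act 1 n61071 = n59890 := d12_1 D61071 (iv D59890) (iv F267642)
theorem F272669 : act 3 n61071 = n59964 := d25_1 D61071 (iv F272181) F272180
theorem F272670 : act 7 n61071 = n60006 := d36_2 F272398 D61071 (iv F272396)
def n61072 : Q := act 4 n59891
theorem D61072 : act 4 n59891 = n61072 := rfl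
theorem F272671 : act 0 n61072 = n59892 := d3_1 D61072 (iv D59892) D59891
theorem F272672 : act 1 n61072 = n60005 := d11_1 D61072 (iv D60005) (iv F267648)
theorem F272673 : act 8 n61072 = n60128 := d33_2 (iv F267650) D61072 (iv D60128)
def n61073 : Q := act 3 n59892
theorem D61073 : act 3 n59892 = n61073 := rfl
theorem F272674 : act 1 n61073 = n59893 := d10_1 D61073 (iv D59893) (iv F267651)
theorem F272675 : act 2 n61073 = n60536 := d17_1 D61073 F270071 (iv F270138) (iv F272386) F272385
theorem F272676 : act 5 n61073 = n59962 := d25_2 F272195 D61073 (iv F272194)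
theorem F272677 : act 7 n61073 = n60000 := d27_2 F272376 D61073 (iv F272374)
def n61074 : Q := act 8 n59893
theorem D61074 : act 8 n59893 = n61074 := rfl
theorem F272678 : act 0 n61074 = n60007 := d7_1 D61074 (iv D60007) (iv F267653)
theorem F272679 : act 2 n61074 = n59895 := d22_1 D61074 (iv D59895) (iv F267654)
theorem F272680 : act 3 n61074 = n60130 := d28_1 D61074 (iv D60130) (iv D58904) (iv F262772) D59893
theorem F272681 : act 5 n61074 = n59958 := d37_1 D61074 F267934 (iv F267655)
theorem F272682 : act 7 n61074 = n59991 := d42_1 D61074 F268063 (iv F267656)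
def n61075 : Q := act 8 n59894
theorem D61075 : act 8 n59894 = n61075 := rfl
theorem F272683 : act 0 n61075 = n60008 := d7_1 D61075 (iv D60008) (iv F267657)
theorem F272684 : act 1 n61075 = n60525 := d15_1 D61075 F270048 (iv F267658)
theorem F272685 : act 3 n61075 = n61075 := d28_1 D61075 (iv D61075) (iv D59894) F262782 D59894
theorem F272686 : act 4 n61075 = n59895 := d33_1 D61075 (iv D59895) (iv F267659)
theorem F272687 : act 5 n61075 = n59954 := d37_1 D61075 F267916 (iv F267660)
theorem F272688 : act 6 n61075 = n60517 := d40_1 D61075 F270025 (iv F267661)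
theorem F272689 : act 7 n61075 = n59984 := d42_1 D61075 F268042 (iv F267662)
def n61076 : Q := act 9 n59895
theorem D61076 : act 9 n59895 = n61076 := rfl
theorem F272690 : act 0 n61076 = n60009 := d8_1 D61076 (iv D60009) (iv F267664)
theorem F272691 : act 1 n61076 = n60528 := d16_1 D61076 F270056 (iv F267665)
theorem F272692 : act 3 n61076 = n59896 := d29_1 D61076 (iv D59896) (iv F267666)
theorem F272693 : act 5 n61076 = n59956 := d38_1 D61076 F267927 (iv F267667)
theorem F272694 : act 7 n61076 = n59987 := d43_1 D61076 F268050 (iv F267668)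
def n61077 : Q := act 2 n59897
theorem D61077 : act 2 n59897 = n61077 := rfl
theorem F272695 : act 0 n61077 = n60224 := d1_1 D61077 (iv D60224) (iv F267676)
theorem F272696 : act 3 n61077 = n59921 := d17_2 D59897 D61077 (iv D59921) (iv D58710) (iv F262804)
theorem F272697 : act 5 n61077 = n60105 := d19_2 (iv F267678) D61077 (iv D60105)
theorem F272698 : act 6 n61077 = n60096 := d20_2 (iv F267679) D61077 (iv D60096)
theorem F272699 : act 7 n61077 = n59908 := d21_2 (iv F267680) D61077 (iv D59908)
theorem F272700 : act 8 n61077 = n59899 := d22_2 (iv F267681) D61077 (iv D59899)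
theorem F272701 : act 9 n61077 = n60267 := d23_2 (iv F267682) D61077 (iv D60267)
def n61078 : Q := act 2 n59898
theorem D61078 : act 2 n59898 = n61078 := rfl
theorem F272702 : act 0 n61078 = n60241 := d1_1 D61078 (iv D60241) (iv F267683)
theorem F272703 : act 3 n61078 = n59900 := d17_2 D59898 D61078 (iv D59900) (iv D58694) (iv F262812)
theorem F272704 : act 5 n61078 = n59899 := d19_2 (iv F267685) D61078 (iv D59899)
theorem F272705 : act 6 n61078 = n60102 := d20_2 (iv F267686) D61078 (iv D60102)
theorem F272706 : act 7 n61078 = n59910 := d21_2 (iv F267687) D61078 (iv D59910)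
theorem F272707 : act 8 n61078 = n60105 := d22_2 (iv F267688) D61078 (iv D60105)
theorem F272708 : act 9 n61078 = n60138 := d23_2 (iv F267689) D61078 (iv D60138)
def n61079 : Q := act 4 n59898
theorem D61079 : act 4 n59898 = n61079 := rfl
theorem F272709 : act 0 n61079 = n60242 := d3_1 D61079 (iv D60242) (iv F267683)
theorem F272710 : act 1 n61079 = n60645 := d11_1 D61079 (iv D60645) (iv F267684)
theorem F272711 : act 3 n61079 = n61079 := d24_1 D61079 (iv D61079) (iv D59898) F262813 D59898
theorem F272712 : act 6 n61079 = n60103 := d31_2 (iv F267686) D61079 (iv D60103)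
theorem F272713 : act 7 n61079 = n59911 := d32_2 (iv F267687) D61079 (iv D59911)
theorem F272714 : act 8 n61079 = n60106 := d33_2 (iv F267688) D61079 (iv D60106)
theorem F272715 : act 9 n61079 = n60139 := d34_2 (iv F267689) D61079 (iv D60139)
def n61080 : Q := act 1 n59899
theorem D61080 : act 1 n59899 = n61080 := rfl
theorem F272716 : act 3 n61080 = n59902 := d10_2 (iv F267691) D61080 (iv D59902)
theorem F272717 : act 6 n61080 = n60500 := d13_2 (iv F267692) D61080 (iv D60500)
theorem F272718 : act 7 n61080 = n59912 := d14_2 (iv F267693) D61080 (iv D59912)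
theorem F272719 : act 9 n61080 = n60140 := d16_2 (iv F267694) D61080 (iv D60140)
def n61081 : Q := act 1 n59900
theorem D61081 : act 1 n59900 = n61081 := rfl
theorem F272720 : act 2 n61081 = n60538 := d9_2 D59900 D61081 (iv D60538) (iv D59322) (iv F262822)
theorem F272721 : act 5 n61081 = n59902 := d12_2 (iv F267695) D61081 (iv D59902)
theorem F272722 : act 7 n61081 = n59916 := d14_2 (iv F267696) D61081 (iv D59916)
theorem F272723 : act 8 n61081 = n59925 := d15_2 (iv F267697) D61081 (iv D59925)
theorem F272724 : act 9 n61081 = n60143 := d16_2 (iv F267698) D61081 (iv D60143)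
def n61082 : Q := act 4 n59900
theorem D61082 : act 4 n59900 = n61082 := rfl
theorem F272725 : act 2 n61082 = n59901 := d18_1 D61082 (iv D59901) D59900
theorem F272726 : act 7 n61082 = n59917 := d32_2 (iv F267696) D61082 (iv D59917)
theorem F272727 : act 8 n61082 = n59926 := d33_2 (iv F267697) D61082 (iv D59926)
theorem F272728 : act 9 n61082 = n60144 := d34_2 (iv F267698) D61082 (iv D60144)
def n61083 : Q := act 0 n59902
theorem D61083 : act 0 n59902 = n61083 := rfl
theorem F272729 : act 2 n61083 = n60678 := d1_2 (iv F267704) D61083 (iv D60678)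
theorem F272730 : act 6 n61083 = n60506 := d5_2 (iv F267705) D61083 (iv D60506)
theorem F272731 : act 7 n61083 = n59918 := d6_2 (iv F267706) D61083 (iv D59918)
theorem F272732 : act 8 n61083 = n59927 := d7_2 (iv F267707) D61083 (iv D59927)
theorem F272733 : act 9 n61083 = n60145 := d8_2 (iv F267708) D61083 (iv D60145)
def n61084 : Q := act 1 n59903
theorem D61084 : act 1 n59903 = n61084 := rfl
theorem F272734 : act 2 n61084 = n59912 := d9_2 D59903 D61084 (iv D59912) (iv D58702) (iv F262831)
theorem F272735 : act 3 n61084 = n60392 := d10_2 (iv F267709) D61084 (iv D60392)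
theorem F272736 : act 6 n61084 = n60455 := d13_2 (iv F267710) D61084 (iv D60455)
theorem F272737 : act 9 n61084 = n60153 := d16_2 (iv F267711) D61084 (iv D60153)
def n61085 : Q := act 4 n59903
theorem D61085 : act 4 n59903 = n61085 := rfl
theorem F272738 : act 2 n61085 = n59904 := d18_1 D61085 (iv D59904) D59903
theorem F272739 : act 6 n61085 = n60456 := d31_2 (iv F267710) D61085 (iv D60456)
theorem F272740 : act 9 n61085 = n60154 := d34_2 (iv F267711) D61085 (iv D60154)
def n61086 : Q := act 5 n59904
theorem D61086 : act 5 n59904 = n61086 := rfl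
theorem F272741 : act 1 n61086 = n59914 := d12_1 D61086 (iv D59914) (iv F267712)
theorem F272742 : act 3 n61086 = n59906 := d25_1 D61086 (iv D59906) (iv F267713)
theorem F272743 : act 9 n61086 = n60155 := d38_2 (iv F267715) D61086 (iv D60155)
def n61087 : Q := act 3 n59905
theorem D61087 : act 3 n59905 = n61087 := rfl
theorem F272744 : act 4 n61087 = n60408 := d24_2 D59905 D61087 (iv D60408) (iv D59186) (iv F262834)
theorem F272745 : act 6 n61087 = n60297 := d26_2 (iv F267717) D61087 F269281
theorem F272746 : act 9 n61087 = n60156 := d29_2 (iv F267719) D61087 (iv D60156)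
def n61088 : Q := act 5 n59905
theorem D61088 : act 5 n59905 = n61088 := rfl
theorem F272747 : act 1 n61088 = n60335 := d12_1 D61088 F270872 F270866
theorem F272748 : act 2 n61088 = n59906 := d19_1 D61088 (iv D59906) (iv F267716)
theorem F272749 : act 4 n61088 = n61088 := d30_1 D61088 (iv D61088) (iv D59905) F262835 D59905
theorem F272750 : act 6 n61088 = n60316 := d35_2 (iv F267717) D61088 (iv D60316) F264270 D59083
theorem F272751 : act 7 n61088 = n60507 := d36_2 F270771 D61088 (iv F270770)
theorem F272752 : act 8 n61088 = n61088 := d37_2 F267718 D61088 (iv D61088)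
theorem F272753 : act 9 n61088 = n60157 := d38_2 (iv F267719) D61088 (iv D60157)
def n61089 : Q := act 6 n59906
theorem D61089 : act 6 n59906 = n61089 := rfl
theorem F272754 : act 1 n61089 = n59915 := d13_1 D61089 (iv D59915) (iv F267720)
theorem F272755 : act 2 n61089 = n60316 := d20_1 D61089 (iv F272750) F272748
theorem F272756 : act 4 n61089 = n61089 := d31_1 D61089 (iv D61089) F267721
theorem F272757 : act 5 n61089 = n60213 := d35_1 D61089 F268987 F263996 (iv F262840) D59906
theorem F272758 : act 7 n61089 = n60318 := d39_2 F271171 D61089 F269342 (iv F266220) (iv F271170)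
theorem F272759 : act 8 n61089 = n61089 := d40_2 F267722 D61089 (iv D61089)
theorem F272760 : act 9 n61089 = n60158 := d41_2 (iv F267723) D61089 (iv D60158)
def n61090 : Q := act 2 n59907
theorem D61090 : act 2 n59907 = n61090 := rfl
theorem F272761 : act 0 n61090 = n60422 := d1_1 D61090 (iv D60422) (iv F267724)
theorem F272762 : act 3 n61090 = n59933 := d17_2 D59907 D61090 (iv D59933) (iv D58720) (iv F262845)
theorem F272763 : act 5 n61090 = n60369 := d19_2 (iv F267726) D61090 (iv D60369)
theorem F272764 : act 6 n61090 = n60459 := d20_2 (iv F267727) D61090 (iv D60459)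
theorem F272765 : act 7 n61090 = n60267 := d21_2 (iv F267728) D61090 (iv D60267)
theorem F272766 : act 8 n61090 = n60161 := d22_2 (iv F267729) D61090 (iv D60161)
theorem F272767 : act 9 n61090 = n59908 := d23_2 (iv F267730) D61090 (iv D59908)
def n61091 : Q := act 1 n59908
theorem D61091 : act 1 n59908 = n61091 := rfl
theorem F272768 : act 3 n61091 = n59935 := d10_2 (iv F267731) D61091 (iv D59935)
theorem F272769 : act 6 n61091 = n60461 := d13_2 (iv F267732) D61091 (iv D60461)
theorem F272770 : act 8 n61091 = n59912 := d15_2 (iv F267733) D61091 (iv D59912)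
def n61092 : Q := act 4 n59908
theorem D61092 : act 4 n59908 = n61092 := rfl
theorem F272771 : act 2 n61092 = n59909 := d18_1 D61092 (iv D59909) D59908
theorem F272772 : act 6 n61092 = n60462 := d31_2 (iv F267732) D61092 (iv D60462)
theorem F272773 : act 8 n61092 = n59913 := d33_2 (iv F267733) D61092 (iv D59913)
def n61093 : Q := act 5 n59909
theorem D61093 : act 5 n59909 = n61093 := rfl
theorem F272774 : act 3 n61093 = n61093 := d25_1 D61093 (iv D61093) F267734
theorem F272775 : act 8 n61093 = n59914 := d37_2 (iv F267736) D61093 (iv D59914)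
def n61094 : Q := act 1 n59910
theorem D61094 : act 1 n59910 = n61094 := rfl
theorem F272776 : act 3 n61094 = n59916 := d10_2 (iv F267737) D61094 (iv D59916)
theorem F272777 : act 5 n61094 = n59912 := d12_2 (iv F267738) D61094 (iv D59912)
theorem F272778 : act 6 n61094 = n60446 := d13_2 (iv F267739) D61094 (iv D60446)
theorem F272779 : act 9 n61094 = n60165 := d16_2 (iv F267740) D61094 (iv D60165)
def n61095 : Q := act 4 n59910
theorem D61095 : act 4 n59910 = n61095 := rfl
theorem F272780 : act 2 n61095 = n59911 := d18_1 D61095 (iv D59911) D59910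
theorem F272781 : act 6 n61095 = n60447 := d31_2 (iv F267739) D61095 (iv D60447)
theorem F272782 : act 9 n61095 = n60166 := d34_2 (iv F267740) D61095 (iv D60166)
def n61096 : Q := act 5 n59911
theorem D61096 : act 5 n59911 = n61096 := rfl
theorem F272783 : act 3 n61096 = n61096 := d25_1 D61096 (iv D61096) F267741
theorem F272784 : act 4 n61096 = n59914 := d30_1 D61096 (iv D59914) (iv D58703) (iv F262853) D59911
theorem F272785 : act 9 n61096 = n60167 := d38_2 (iv F267743) D61096 (iv D60167)
def n61097 : Q := act 0 n59912
theorem D61097 : act 0 n59912 = n61097 := rfl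
theorem F272786 : act 3 n61097 = n59918 := d2_2 (iv F267744) D61097 (iv D59918)
theorem F272787 : act 6 n61097 = n60470 := d5_2 (iv F267745) D61097 (iv D60470)
theorem F272788 : act 9 n61097 = n60168 := d8_2 (iv F267746) D61097 (iv D60168)
def n61098 : Q := act 4 n59912
theorem D61098 : act 4 n59912 = n61098 := rfl
theorem F272789 : act 1 n61098 = n59913 := d11_1 D61098 (iv D59913) D59912
theorem F272790 : act 6 n61098 = n60471 := d31_2 (iv F267745) D61098 (iv D60471)
theorem F272791 : act 9 n61098 = n60169 := d34_2 (iv F267746) D61098 (iv D60169)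
def n61099 : Q := act 5 n59913
theorem D61099 : act 5 n59913 = n61099 := rfl
theorem F272792 : act 2 n61099 = n59914 := d19_1 D61099 (iv D59914) (iv F267747)
theorem F272793 : act 9 n61099 = n60170 := d38_2 (iv F267749) D61099 (iv D60170)
def n61100 : Q := act 6 n59914
theorem D61100 : act 6 n59914 = n61100 := rfl
theorem F272794 : act 3 n61100 = n59915 := d26_1 D61100 (iv D59915) (iv F267750)
theorem F272795 : act 5 n61100 = n60214 := d35_1 D61100 F268992 F264001 (iv F262860) D59914
theorem F272796 : act 9 n61100 = n60171 := d41_2 (iv F267751) D61100 (iv D60171)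
def n61101 : Q := act 7 n59915
theorem D61101 : act 7 n59915 = n61101 := rfl
theorem F272797 : act 0 n61101 = n60335 := d6_1 D61101 (iv F272503) F272498
theorem F272798 : act 1 n61101 = n60318 := d14_1 D61101 (iv F272758) F272754
theorem F272799 : act 2 n61101 = n60012 := d21_1 D61101 F268128 (iv F267752)
theorem F272800 : act 4 n61101 = n61101 := d32_1 D61101 (iv D61101) F267753
theorem F272801 : act 5 n61101 = n60212 := d36_1 D61101 F268982 (iv F267754)
theorem F272802 : act 6 n61101 = n60014 := d39_1 D61101 F268139 (iv F266205) F266206 D59915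
theorem F272803 : act 8 n61101 = n61101 := d42_2 F267755 D61101 (iv D61101)
theorem F272804 : act 9 n61101 = n60011 := d43_2 (iv F267756) D61101 F268123
def n61102 : Q := act 0 n59916
theorem D61102 : act 0 n59916 = n61102 := rfl
theorem F272805 : act 2 n61102 = n60664 := d1_2 (iv F267757) D61102 (iv D60664)
theorem F272806 : act 5 n61102 = n59918 := d4_2 (iv F267758) D61102 (iv D59918)
theorem F272807 : act 6 n61102 = n60452 := d5_2 (iv F267759) D61102 (iv D60452)
theorem F272808 : act 8 n61102 = n59945 := d7_2 (iv F267760) D61102 (iv D59945)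
theorem F272809 : act 9 n61102 = n60174 := d8_2 (iv F267761) D61102 (iv D60174)
def n61103 : Q := act 4 n59916
theorem D61103 : act 4 n59916 = n61103 := rfl
theorem F272810 : act 1 n61103 = n59917 := d11_1 D61103 (iv D59917) D59916
theorem F272811 : act 2 n61103 = n60665 := d18_1 D61103 (iv D60665) (iv F267757)
theorem F272812 : act 6 n61103 = n60453 := d31_2 (iv F267759) D61103 (iv D60453)
theorem F272813 : act 8 n61103 = n59946 := d33_2 (iv F267760) D61103 (iv D59946)
theorem F272814 : act 9 n61103 = n60175 := d34_2 (iv F267761) D61103 (iv D60175)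
def n61104 : Q := act 3 n59917
theorem D61104 : act 3 n59917 = n61104 := rfl
theorem F272815 : act 2 n61104 = n61104 := d17_1 D61104 (iv D61104) F267762 F262870 (iv F267762)
theorem F272816 : act 6 n61104 = n60454 := d26_2 (iv F267763) D61104 (iv D60454)
theorem F272817 : act 9 n61104 = n60176 := d29_2 (iv F267765) D61104 (iv D60176)
def n61105 : Q := act 0 n59919
theorem D61105 : act 0 n59919 = n61105 := rfl
theorem F272818 : act 2 n61105 = n60572 := d1_2 (iv F267770) D61105 F270147
theorem F272819 : act 4 n61105 = n60565 := d3_2 (iv F267771) D61105 (iv D60565)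
theorem F272820 : act 6 n61105 = n59927 := d5_2 (iv F267772) D61105 (iv D59927)
theorem F272821 : act 7 n61105 = n60355 := d6_2 (iv F267773) D61105 (iv D60355)
theorem F272822 : act 8 n61105 = n60506 := d7_2 (iv F267774) D61105 (iv D60506)
theorem F272823 : act 9 n61105 = n59951 := d8_2 (iv F267775) D61105 (iv D59951)
def n61106 : Q := act 2 n59920
theorem D61106 : act 2 n59920 = n61106 := rfl
theorem F272824 : act 0 n61106 = n60178 := d1_1 D61106 (iv D60178) (iv F267776)
theorem F272825 : act 3 n61106 = n60267 := d17_2 D59920 D61106 (iv D60267) (iv D59029) (iv F262885)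
theorem F272826 : act 5 n61106 = n60084 := d19_2 (iv F267778) D61106 (iv D60084)
theorem F272827 : act 6 n61106 = n60081 := d20_2 (iv F267779) D61106 (iv D60081)
theorem F272828 : act 7 n61106 = n59933 := d21_2 (iv F267780) D61106 (iv D59933)
theorem F272829 : act 8 n61106 = n59955 := d22_2 (iv F267781) D61106 (iv D59955)
theorem F272830 : act 9 n61106 = n59921 := d23_2 (iv F267782) D61106 (iv D59921)
def n61107 : Q := act 4 n59920
theorem D61107 : act 4 n59920 = n61107 := rfl
theorem F272831 : act 0 n61107 = n60179 := d3_1 D61107 (iv D60179) (iv F267776)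
theorem F272832 : act 1 n61107 = n60514 := d11_1 D61107 (iv D60514) (iv F267777)
theorem F272833 : act 3 n61107 = n61107 := d24_1 D61107 (iv D61107) (iv D59920) F262886 D59920
theorem F272834 : act 6 n61107 = n60082 := d31_2 (iv F267779) D61107 (iv D60082)
theorem F272835 : act 7 n61107 = n59934 := d32_2 (iv F267780) D61107 (iv D59934)
theorem F272836 : act 8 n61107 = n59956 := d33_2 (iv F267781) D61107 (iv D59956)
theorem F272837 : act 9 n61107 = n59922 := d34_2 (iv F267782) D61107 (iv D59922)
def n61108 : Q := act 1 n59921
theorem D61108 : act 1 n59921 = n61108 := rfl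
theorem F272838 : act 2 n61108 = n60515 := d9_2 D59921 D61108 (iv D60515) (iv D59298) (iv F262892)
theorem F272839 : act 5 n61108 = n60110 := d12_2 (iv F267784) D61108 (iv D60110)
theorem F272840 : act 6 n61108 = n60099 := d13_2 (iv F267785) D61108 (iv D60099)
theorem F272841 : act 7 n61108 = n59935 := d14_2 (iv F267786) D61108 (iv D59935)
theorem F272842 : act 8 n61108 = n59923 := d15_2 (iv F267787) D61108 (iv D59923)
def n61109 : Q := act 4 n59921
theorem D61109 : act 4 n59921 = n61109 := rfl
theorem F272843 : act 0 n61109 = n60233 := d3_1 D61109 (iv D60233) (iv F267783)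
theorem F272844 : act 2 n61109 = n59922 := d18_1 D61109 (iv D59922) D59921
theorem F272845 : act 6 n61109 = n60100 := d31_2 (iv F267785) D61109 (iv D60100)
theorem F272846 : act 7 n61109 = n59936 := d32_2 (iv F267786) D61109 (iv D59936)
theorem F272847 : act 8 n61109 = n59924 := d33_2 (iv F267787) D61109 (iv D59924)
def n61110 : Q := act 0 n59923
theorem D61110 : act 0 n59923 = n61110 := rfl
theorem F272848 : act 2 n61110 = n60518 := d1_2 (iv F267794) D61110 (iv D60518)
theorem F272849 : act 3 n61110 = n59927 := d2_2 (iv F267795) D61110 (iv D59927)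
theorem F272850 : act 7 n61110 = n59940 := d6_2 (iv F267796) D61110 (iv D59940)
theorem F272851 : act 9 n61110 = n59961 := d8_2 (iv F267797) D61110 (iv D59961)
def n61111 : Q := act 4 n59923
theorem D61111 : act 4 n59923 = n61111 := rfl
theorem F272852 : act 1 n61111 = n59924 := d11_1 D61111 (iv D59924) D59923
theorem F272853 : act 2 n61111 = n60519 := d18_1 D61111 (iv D60519) (iv F267794)
theorem F272854 : act 7 n61111 = n59941 := d32_2 (iv F267796) D61111 (iv D59941)
theorem F272855 : act 9 n61111 = n59962 := d34_2 (iv F267797) D61111 (iv D59962)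
def n61112 : Q := act 0 n59925
theorem D61112 : act 0 n59925 = n61112 := rfl
theorem F272856 : act 2 n61112 = n60540 := d1_2 (iv F267801) D61112 (iv D60540)
theorem F272857 : act 5 n61112 = n59927 := d4_2 (iv F267802) D61112 (iv D59927)
theorem F272858 : act 7 n61112 = n59945 := d6_2 (iv F267803) D61112 (iv D59945)
theorem F272859 : act 9 n61112 = n59963 := d8_2 (iv F267804) D61112 (iv D59963)
def n61113 : Q := act 4 n59925
theorem D61113 : act 4 n59925 = n61113 := rfl
theorem F272860 : act 1 n61113 = n59926 := d11_1 D61113 (iv D59926) D59925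
theorem F272861 : act 2 n61113 = n60541 := d18_1 D61113 (iv D60541) (iv F267801)
theorem F272862 : act 7 n61113 = n59946 := d32_2 (iv F267803) D61113 (iv D59946)
theorem F272863 : act 9 n61113 = n59964 := d34_2 (iv F267804) D61113 (iv D59964)
def n61114 : Q := act 1 n59928
theorem D61114 : act 1 n59928 = n61114 := rfl
theorem F272864 : act 2 n61114 = n59935 := d9_2 D59928 D61114 (iv D59935) (iv D58721) (iv F262914)
theorem F272865 : act 3 n61114 = n60030 := d10_2 (iv F267811) D61114 (iv D60030)
theorem F272866 : act 5 n61114 = n60027 := d12_2 (iv F267812) D61114 (iv D60027)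
theorem F272867 : act 6 n61114 = n60042 := d13_2 (iv F267813) D61114 (iv D60042)
theorem F272868 : act 7 n61114 = n60515 := d14_2 (iv F267814) D61114 (iv D60515)
theorem F272869 : act 8 n61114 = n59930 := d15_2 (iv F267815) D61114 (iv D59930)
def n61115 : Q := act 4 n59928
theorem D61115 : act 4 n59928 = n61115 := rfl
theorem F272870 : act 0 n61115 = n60524 := d3_1 D61115 (iv D60524) (iv F267810)
theorem F272871 : act 2 n61115 = n59929 := d18_1 D61115 (iv D59929) D59928
theorem F272872 : act 6 n61115 = n60043 := d31_2 (iv F267813) D61115 (iv D60043)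
theorem F272873 : act 7 n61115 = n60516 := d32_2 (iv F267814) D61115 (iv D60516)
theorem F272874 : act 8 n61115 = n59931 := d33_2 (iv F267815) D61115 (iv D59931)
def n61116 : Q := act 5 n59929
theorem D61116 : act 5 n59929 = n61116 := rfl
theorem F272875 : act 0 n61116 = n60525 := d4_1 D61116 (iv D60525) (iv F267816)
theorem F272876 : act 1 n61116 = n59937 := d12_1 D61116 (iv D59937) (iv F267817)
theorem F272877 : act 3 n61116 = n61116 := d25_1 D61116 (iv D61116) F267818
theorem F272878 : act 4 n61116 = n60029 := d30_1 D61116 (iv D60029) (iv D58808) (iv F262915) D59929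
theorem F272879 : act 6 n61116 = n59948 := d35_2 (iv F267819) D61116 F267890 F264063 (iv F263338)
theorem F272880 : act 7 n61116 = n60517 := d36_2 (iv F267820) D61116 (iv D60517)
theorem F272881 : act 8 n61116 = n59932 := d37_2 (iv F267821) D61116 (iv D59932)
def n61117 : Q := act 0 n59930
theorem D61117 : act 0 n59930 = n61117 := rfl
theorem F272882 : act 1 n61117 = n60532 := d0_2 D59930 D61117 (iv D60532) (iv D59313) (iv F262919)
theorem F272883 : act 2 n61117 = n59940 := d1_2 (iv F267822) D61117 (iv D59940)
theorem F272884 : act 3 n61117 = n60341 := d2_2 (iv F267823) D61117 (iv D60341)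
theorem F272885 : act 5 n61117 = n60510 := d4_2 (iv F267824) D61117 (iv D60510)
theorem F272886 : act 6 n61117 = n60545 := d5_2 (iv F267825) D61117 (iv D60545)
theorem F272887 : act 7 n61117 = n60518 := d6_2 (iv F267826) D61117 (iv D60518)
theorem F272888 : act 9 n61117 = n59977 := d8_2 (iv F267827) D61117 (iv D59977)
def n61118 : Q := act 4 n59930
theorem D61118 : act 4 n59930 = n61118 := rfl
theorem F272889 : act 1 n61118 = n59931 := d11_1 D61118 (iv D59931) D59930
theorem F272890 : act 2 n61118 = n59941 := d18_1 D61118 (iv D59941) (iv F267822)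
theorem F272891 : act 3 n61118 = n60354 := d24_1 D61118 (iv D60354) F264507 (iv F264429) (iv F267823)
theorem F272892 : act 6 n61118 = n60546 := d31_2 (iv F267825) D61118 (iv D60546)
theorem F272893 : act 7 n61118 = n60519 := d32_2 (iv F267826) D61118 (iv D60519)
theorem F272894 : act 9 n61118 = n59978 := d34_2 (iv F267827) D61118 (iv D59978)
def n61119 : Q := act 5 n59931
theorem D61119 : act 5 n59931 = n61119 := rfl
theorem F272895 : act 0 n61119 = n60534 := d4_1 D61119 (iv D60534) (iv F267828)
theorem F272896 : act 2 n61119 = n59932 := d19_1 D61119 (iv D59932) (iv F267829)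
theorem F272897 : act 3 n61119 = n59944 := d25_1 D61119 F267877 (iv F267830)
theorem F272898 : act 4 n61119 = n60512 := d30_1 D61119 (iv D60512) (iv D59294) (iv F262921) D59931
theorem F272899 : act 6 n61119 = n59947 := d35_2 (iv F267831) D61119 (iv F272332) F272333 F267895
theorem F272900 : act 7 n61119 = n60520 := d36_2 (iv F267832) D61119 (iv D60520)
theorem F272901 : act 9 n61119 = n59979 := d38_2 (iv F267833) D61119 (iv D59979)
def n61120 : Q := act 1 n59933
theorem D61120 : act 1 n59933 = n61120 := rfl
theorem F272902 : act 6 n61120 = n60547 := d13_2 (iv F267841) D61120 (iv D60547)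
theorem F272903 : act 8 n61120 = n59985 := d15_2 (iv F267842) D61120 (iv D59985)
theorem F272904 : act 9 n61120 = n59935 := d16_2 (iv F267843) D61120 (iv D59935)
def n61121 : Q := act 4 n59933
theorem D61121 : act 4 n59933 = n61121 := rfl
theorem F272905 : act 2 n61121 = n59934 := d18_1 D61121 (iv D59934) D59933
theorem F272906 : act 6 n61121 = n60548 := d31_2 (iv F267841) D61121 (iv D60548)
theorem F272907 : act 8 n61121 = n59986 := d33_2 (iv F267842) D61121 (iv D59986)
theorem F272908 : act 9 n61121 = n59936 := d34_2 (iv F267843) D61121 (iv D59936)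
def n61122 : Q := act 5 n59934
theorem D61122 : act 5 n59934 = n61122 := rfl
theorem F272909 : act 3 n61122 = n61122 := d25_1 D61122 (iv D61122) F267844
theorem F272910 : act 8 n61122 = n59987 := d37_2 (iv F267846) D61122 (iv D59987)
theorem F272911 : act 9 n61122 = n59937 := d38_2 (iv F267847) D61122 (iv D59937)
def n61123 : Q := act 0 n59935
theorem D61123 : act 0 n59935 = n61123 := rfl
theorem F272912 : act 6 n61123 = n60549 := d5_2 (iv F267848) D61123 (iv D60549)
theorem F272913 : act 8 n61123 = n59940 := d7_2 (iv F267849) D61123 (iv D59940)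
def n61124 : Q := act 4 n59935
theorem D61124 : act 4 n59935 = n61124 := rfl
theorem F272914 : act 1 n61124 = n59936 := d11_1 D61124 (iv D59936) D59935
theorem F272915 : act 6 n61124 = n60550 := d31_2 (iv F267848) D61124 (iv D60550)
theorem F272916 : act 8 n61124 = n59941 := d33_2 (iv F267849) D61124 (iv D59941)
def n61125 : Q := act 3 n59936
theorem D61125 : act 3 n59936 = n61125 := rfl
theorem F272917 : act 2 n61125 = n61125 := d17_1 D61125 (iv D61125) F267850 F262944 (iv F267850)
theorem F272918 : act 6 n61125 = n60551 := d26_2 (iv F267851) D61125 (iv D60551)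
def n61126 : Q := act 5 n59936
theorem D61126 : act 5 n59936 = n61126 := rfl
theorem F272919 : act 2 n61126 = n59937 := d19_1 D61126 (iv D59937) (iv F267850)
theorem F272920 : act 8 n61126 = n59942 := d37_2 (iv F267852) D61126 (iv D59942)
def n61127 : Q := act 0 n59938
theorem D61127 : act 0 n59938 = n61127 := rfl
theorem F272921 : act 2 n61127 = n60510 := d1_2 (iv F267855) D61127 (iv D60510)
theorem F272922 : act 3 n61127 = n59945 := d2_2 (iv F267856) D61127 (iv D59945)
theorem F272923 : act 5 n61127 = n59940 := d4_2 (iv F267857) D61127 (iv D59940)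
theorem F272924 : act 9 n61127 = n59995 := d8_2 (iv F267858) D61127 (iv D59995)
def n61128 : Q := act 4 n59938
theorem D61128 : act 4 n59938 = n61128 := rfl
theorem F272925 : act 1 n61128 = n59939 := d11_1 D61128 (iv D59939) D59938
theorem F272926 : act 2 n61128 = n60511 := d18_1 D61128 (iv D60511) (iv F267855)
theorem F272927 : act 6 n61128 = n60544 := d31_2 F270464 D61128 (iv F270462)
theorem F272928 : act 9 n61128 = n59996 := d34_2 (iv F267858) D61128 (iv D59996)
def n61129 : Q := act 4 n59940
theorem D61129 : act 4 n59940 = n61129 := rfl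
theorem F272929 : act 0 n61129 = n59941 := d3_1 D61129 (iv D59941) D59940
theorem F272930 : act 6 n61129 = n60552 := d31_2 (iv F267864) D61129 (iv D60552)
theorem F272931 : act 9 n61129 = n59999 := d34_2 (iv F267865) D61129 (iv D59999)
def n61130 : Q := act 5 n59941
theorem D61130 : act 5 n59941 = n61130 := rfl
theorem F272932 : act 1 n61130 = n59942 := d12_1 D61130 (iv D59942) (iv F267866)
theorem F272933 : act 9 n61130 = n60000 := d38_2 (iv F267868) D61130 (iv D60000)
def n61131 : Q := act 0 n59943
theorem D61131 : act 0 n59943 = n61131 := rfl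
theorem F272934 : act 2 n61131 = n60556 := d1_2 (iv F267871) D61131 (iv D60556)
theorem F272935 : act 5 n61131 = n60343 := d4_2 (iv F267872) D61131 (iv D60343)
theorem F272936 : act 6 n61131 = n59945 := d5_2 (iv F267873) D61131 (iv D59945)
theorem F272937 : act 8 n61131 = n60452 := d7_2 (iv F267874) D61131 (iv D60452)
theorem F272938 : act 9 n61131 = n60003 := d8_2 (iv F267875) D61131 (iv D60003)
def n61132 : Q := act 4 n59943
theorem D61132 : act 4 n59943 = n61132 := rfl
theorem F272939 : act 1 n61132 = n59944 := d11_1 D61132 (iv D59944) D59943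
theorem F272940 : act 2 n61132 = n60557 := d18_1 D61132 (iv D60557) (iv F267871)
theorem F272941 : act 5 n61132 = n60354 := d30_2 (iv F267872) D61132 (iv D60354) F264508 (iv F264449)
theorem F272942 : act 6 n61132 = n59946 := d31_2 (iv F267873) D61132 (iv D59946)
theorem F272943 : act 7 n61132 = n60553 := d32_2 F270481 D61132 (iv F270478)
theorem F272944 : act 8 n61132 = n60453 := d33_2 (iv F267874) D61132 (iv D60453)
theorem F272945 : act 9 n61132 = n60004 := d34_2 (iv F267875) D61132 (iv D60004)
def n61133 : Q := act 4 n59945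
theorem D61133 : act 4 n59945 = n61133 := rfl
theorem F272946 : act 0 n61133 = n59946 := d3_1 D61133 (iv D59946) D59945
theorem F272947 : act 9 n61133 = n60005 := d34_2 (iv F267883) D61133 (iv D60005)
def n61134 : Q := act 3 n59946
theorem D61134 : act 3 n59946 = n61134 := rfl
theorem F272948 : act 1 n61134 = n59947 := d10_1 D61134 (iv D59947) (iv F267884)
theorem F272949 : act 9 n61134 = n60006 := d29_2 (iv F267885) D61134 (iv D60006)
def n61135 : Q := act 8 n59947
theorem D61135 : act 8 n59947 = n61135 := rfl
theorem F272950 : act 2 n61135 = n59948 := d22_1 D61135 (iv D59948) (iv F267886)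
theorem F272951 : act 4 n61135 = n60262 := d33_1 D61135 (iv F272643) F272640
theorem F272952 : act 5 n61135 = n60233 := d37_1 D61135 F272336 F272332
def n61136 : Q := act 9 n59948
theorem D61136 : act 9 n59948 = n61136 := rfl
theorem F272953 : act 3 n61136 = n61136 := d29_1 D61136 (iv D61136) F267888
theorem F272954 : act 4 n61136 = n60191 := d34_1 D61136 F268899 (iv F267889)
theorem F272955 : act 5 n61136 = n60179 := d38_1 D61136 F268851 (iv F267890)
theorem F272956 : act 8 n61136 = n60009 := d44_1 D61136 (iv D60009) (iv D58785) (iv F262980) D59948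
def n61137 : Q := act 0 n59949
theorem D61137 : act 0 n59949 = n61137 := rfl
theorem F272957 : act 5 n61137 = n59951 := d4_2 (iv F267891) D61137 (iv D59951)
theorem F272958 : act 7 n61137 = n60556 := d6_2 (iv F267892) D61137 (iv D60556)
theorem F272959 : act 8 n61137 = n60234 := d7_2 (iv F267893) D61137 (iv D60234)
def n61138 : Q := act 4 n59949
theorem D61138 : act 4 n59949 = n61138 := rfl
theorem F272960 : act 1 n61138 = n59950 := d11_1 D61138 (iv D59950) D59949
theorem F272961 : act 2 n61138 = n60553 := d18_1 D61138 (iv F270478) F270476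
theorem F272962 : act 5 n61138 = n60546 := d30_2 (iv F267891) D61138 (iv D60546) (iv F267346) F267345
theorem F272963 : act 7 n61138 = n60557 := d32_2 (iv F267892) D61138 (iv D60557)
theorem F272964 : act 8 n61138 = n60235 := d33_2 (iv F267893) D61138 (iv D60235)
theorem F272965 : act 9 n61138 = n60567 := d34_2 F270565 D61138 (iv F270560)
def n61139 : Q := act 2 n59952
theorem D61139 : act 2 n59952 = n61139 := rfl
theorem F272966 : act 0 n61139 = n60141 := d1_1 D61139 (iv D60141) (iv F267902)
theorem F272967 : act 3 n61139 = n60243 := d17_2 D59952 D61139 (iv D60243) (iv D59008) (iv F262995)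
theorem F272968 : act 5 n61139 = n59955 := d19_2 (iv F267904) D61139 (iv D59955)
theorem F272969 : act 6 n61139 = n60069 := d20_2 (iv F267905) D61139 (iv D60069)
theorem F272970 : act 7 n61139 = n59980 := d21_2 (iv F267906) D61139 (iv D59980)
theorem F272971 : act 8 n61139 = n60084 := d22_2 (iv F267907) D61139 (iv D60084)
theorem F272972 : act 9 n61139 = n59953 := d23_2 (iv F267908) D61139 (iv D59953)
def n61140 : Q := act 4 n59952
theorem D61140 : act 4 n59952 = n61140 := rfl
theorem F272973 : act 0 n61140 = n60142 := d3_1 D61140 (iv D60142) (iv F267902)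
theorem F272974 : act 1 n61140 = n60522 := d11_1 D61140 (iv D60522) (iv F267903)
theorem F272975 : act 3 n61140 = n61140 := d24_1 D61140 (iv D61140) (iv D59952) F262996 D59952
theorem F272976 : act 6 n61140 = n60070 := d31_2 (iv F267905) D61140 (iv D60070)
theorem F272977 : act 7 n61140 = n59981 := d32_2 (iv F267906) D61140 (iv D59981)
theorem F272978 : act 8 n61140 = n60085 := d33_2 (iv F267907) D61140 (iv D60085)
theorem F272979 : act 9 n61140 = n59954 := d34_2 (iv F267908) D61140 (iv D59954)
def n61141 : Q := act 1 n59953
theorem D61141 : act 1 n59953 = n61141 := rfl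
theorem F272980 : act 2 n61141 = n60523 := d9_2 D59953 D61141 (iv D60523) (iv D59306) (iv F263001)
theorem F272981 : act 3 n61141 = n60244 := d10_2 (iv F267909) D61141 (iv D60244)
theorem F272982 : act 5 n61141 = n59957 := d12_2 (iv F267910) D61141 (iv D59957)
theorem F272983 : act 7 n61141 = n59982 := d14_2 (iv F267911) D61141 (iv D59982)
theorem F272984 : act 8 n61141 = n59959 := d15_2 (iv F267912) D61141 (iv D59959)
def n61142 : Q := act 4 n59953
theorem D61142 : act 4 n59953 = n61142 := rfl
theorem F272985 : act 2 n61142 = n59954 := d18_1 D61142 (iv D59954) D59953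
theorem F272986 : act 7 n61142 = n59983 := d32_2 (iv F267911) D61142 (iv D59983)
theorem F272987 : act 8 n61142 = n59960 := d33_2 (iv F267912) D61142 (iv D59960)
def n61143 : Q := act 1 n59955
theorem D61143 : act 1 n59955 = n61143 := rfl
theorem F272988 : act 2 n61143 = n60526 := d9_2 D59955 D61143 (iv D60526) (iv D59308) (iv F263006)
theorem F272989 : act 3 n61143 = n60246 := d10_2 (iv F267918) D61143 (iv D60246)
theorem F272990 : act 6 n61143 = n60587 := d13_2 (iv F267919) D61143 (iv D60587)
theorem F272991 : act 7 n61143 = n59985 := d14_2 (iv F267920) D61143 (iv D59985)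
theorem F272992 : act 9 n61143 = n59957 := d16_2 (iv F267921) D61143 (iv D59957)
def n61144 : Q := act 4 n59955
theorem D61144 : act 4 n59955 = n61144 := rfl
theorem F272993 : act 0 n61144 = n60637 := d3_1 D61144 (iv D60637) (iv F267917)
theorem F272994 : act 2 n61144 = n59956 := d18_1 D61144 (iv D59956) D59955
theorem F272995 : act 6 n61144 = n60588 := d31_2 (iv F267919) D61144 (iv D60588)
theorem F272996 : act 7 n61144 = n59986 := d32_2 (iv F267920) D61144 (iv D59986)
theorem F272997 : act 9 n61144 = n59958 := d34_2 (iv F267921) D61144 (iv D59958)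
def n61145 : Q := act 0 n59957
theorem D61145 : act 0 n59957 = n61145 := rfl
theorem F272998 : act 2 n61145 = n60529 := d1_2 (iv F267928) D61145 (iv D60529)
theorem F272999 : act 3 n61145 = n60247 := d2_2 (iv F267929) D61145 (iv D60247)
theorem F273000 : act 7 n61145 = n59988 := d6_2 (iv F267930) D61145 (iv D59988)
theorem F273001 : act 8 n61145 = n59961 := d7_2 (iv F267931) D61145 (iv D59961)
def n61146 : Q := act 4 n59957
theorem D61146 : act 4 n59957 = n61146 := rfl
theorem F273002 : act 1 n61146 = n59958 := d11_1 D61146 (iv D59958) D59957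
theorem F273003 : act 2 n61146 = n60530 := d18_1 D61146 (iv D60530) (iv F267928)
theorem F273004 : act 7 n61146 = n59989 := d32_2 (iv F267930) D61146 (iv D59989)
theorem F273005 : act 8 n61146 = n59962 := d33_2 (iv F267931) D61146 (iv D59962)
def n61147 : Q := act 0 n59959
theorem D61147 : act 0 n59959 = n61147 := rfl
theorem F273006 : act 2 n61147 = n60532 := d1_2 (iv F267935) D61147 (iv D60532)
theorem F273007 : act 3 n61147 = n59963 := d2_2 (iv F267936) D61147 (iv D59963)
theorem F273008 : act 5 n61147 = n59961 := d4_2 (iv F267937) D61147 (iv D59961)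
theorem F273009 : act 7 n61147 = n59995 := d6_2 (iv F267938) D61147 (iv D59995)
def n61148 : Q := act 4 n59959
theorem D61148 : act 4 n59959 = n61148 := rfl
theorem F273010 : act 1 n61148 = n59960 := d11_1 D61148 (iv D59960) D59959
theorem F273011 : act 2 n61148 = n60533 := d18_1 D61148 (iv D60533) (iv F267935)
theorem F273012 : act 7 n61148 = n59996 := d32_2 (iv F267938) D61148 (iv D59996)
def n61149 : Q := act 4 n59961
theorem D61149 : act 4 n59961 = n61149 := rfl
theorem F273013 : act 0 n61149 = n59962 := d3_1 D61149 (iv D59962) D59961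
theorem F273014 : act 2 n61149 = n60535 := d18_1 D61149 (iv D60535) (iv F267941)
theorem F273015 : act 7 n61149 = n59999 := d32_2 (iv F267943) D61149 (iv D59999)
def n61150 : Q := act 4 n59963
theorem D61150 : act 4 n59963 = n61150 := rfl
theorem F273016 : act 0 n61150 = n59964 := d3_1 D61150 (iv D59964) D59963
theorem F273017 : act 2 n61150 = n60543 := d18_1 D61150 (iv D60543) (iv F267947)
theorem F273018 : act 7 n61150 = n60005 := d32_2 (iv F267949) D61150 (iv D60005)
theorem F273019 : act 8 n61150 = n60263 := d33_2 (iv F267950) D61150 (iv D60263)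
def n61151 : Q := act 1 n59965
theorem D61151 : act 1 n59965 = n61151 := rfl
theorem F273020 : act 2 n61151 = n60110 := d9_2 D59965 D61151 (iv D60110) (iv D58886) (iv F263038)
theorem F273021 : act 3 n61151 = n60026 := d10_2 (iv F267956) D61151 (iv D60026)
theorem F273022 : act 5 n61151 = n60515 := d12_2 (iv F267957) D61151 (iv D60515)
theorem F273023 : act 6 n61151 = n60051 := d13_2 (iv F267958) D61151 (iv D60051)
theorem F273024 : act 7 n61151 = n60027 := d14_2 (iv F267959) D61151 (iv D60027)
theorem F273025 : act 8 n61151 = n59966 := d15_2 (iv F267960) D61151 (iv D59966)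
def n61152 : Q := act 0 n59966
theorem D61152 : act 0 n59966 = n61152 := rfl
theorem F273026 : act 1 n61152 = n59977 := d0_2 D59966 D61152 (iv D59977) (iv D58757) (iv F263043)
theorem F273027 : act 3 n61152 = n60509 := d2_2 (iv F267961) D61152 (iv D60509)
theorem F273028 : act 5 n61152 = n60518 := d4_2 (iv F267962) D61152 (iv D60518)
theorem F273029 : act 6 n61152 = n60561 := d5_2 (iv F267963) D61152 (iv D60561)
theorem F273030 : act 7 n61152 = n60510 := d6_2 (iv F267964) D61152 (iv D60510)
theorem F273031 : act 9 n61152 = n60532 := d8_2 (iv F267965) D61152 (iv D60532)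
def n61153 : Q := act 1 n59967
theorem D61153 : act 1 n59967 = n61153 := rfl
theorem F273032 : act 2 n61153 = n59982 := d9_2 D59967 D61153 (iv D59982) (iv D58761) (iv F263050)
theorem F273033 : act 3 n61153 = n60590 := d10_2 (iv F267967) D61153 (iv D60590)
theorem F273034 : act 5 n61153 = n59971 := d12_2 (iv F267968) D61153 (iv D59971)
theorem F273035 : act 7 n61153 = n60523 := d14_2 (iv F267969) D61153 (iv D60523)
theorem F273036 : act 8 n61153 = n59974 := d15_2 (iv F267970) D61153 (iv D59974)
def n61154 : Q := act 4 n59967
theorem D61154 : act 4 n59967 = n61154 := rfl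
theorem F273037 : act 0 n61154 = n60516 := d3_1 D61154 (iv D60516) (iv F267966)
theorem F273038 : act 2 n61154 = n59968 := d18_1 D61154 (iv D59968) D59967
theorem F273039 : act 7 n61154 = n60524 := d32_2 (iv F267969) D61154 (iv D60524)
theorem F273040 : act 8 n61154 = n59975 := d33_2 (iv F267970) D61154 (iv D59975)
def n61155 : Q := act 5 n59968
theorem D61155 : act 5 n59968 = n61155 := rfl
theorem F273041 : act 0 n61155 = n60517 := d4_1 D61155 (iv D60517) (iv F267971)
theorem F273042 : act 1 n61155 = n59984 := d12_1 D61155 (iv D59984) (iv F267972)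
theorem F273043 : act 3 n61155 = n61155 := d25_1 D61155 (iv D61155) F267973
theorem F273044 : act 4 n61155 = n59973 := d30_1 D61155 (iv D59973) (iv D58754) (iv F263051) D59968
theorem F273045 : act 6 n61155 = n60008 := d35_2 F271207 D61155 (iv F271828) F271829 (iv F271206)
theorem F273046 : act 7 n61155 = n60525 := d36_2 (iv F267974) D61155 (iv D60525)
theorem F273047 : act 8 n61155 = n59976 := d37_2 (iv F267975) D61155 (iv D59976)
def n61156 : Q := act 1 n59969
theorem D61156 : act 1 n59969 = n61156 := rfl
theorem F273048 : act 2 n61156 = n59985 := d9_2 D59969 D61156 (iv D59985) (iv D58763) (iv F263054)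
theorem F273049 : act 3 n61156 = n60061 := d10_2 (iv F267976) D61156 (iv D60061)
theorem F273050 : act 6 n61156 = n60062 := d13_2 (iv F267977) D61156 (iv D60062)
theorem F273051 : act 7 n61156 = n60526 := d14_2 (iv F267978) D61156 (iv D60526)
theorem F273052 : act 9 n61156 = n59971 := d16_2 (iv F267979) D61156 (iv D59971)
def n61157 : Q := act 4 n59969
theorem D61157 : act 4 n59969 = n61157 := rfl
theorem F273053 : act 2 n61157 = n59970 := d18_1 D61157 (iv D59970) D59969
theorem F273054 : act 3 n61157 = n60481 := d24_1 D61157 (iv D60481) (iv F267461) F267462 (iv F267976)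
theorem F273055 : act 6 n61157 = n60063 := d31_2 (iv F267977) D61157 (iv D60063)
theorem F273056 : act 7 n61157 = n60527 := d32_2 (iv F267978) D61157 (iv D60527)
theorem F273057 : act 9 n61157 = n59972 := d34_2 (iv F267979) D61157 (iv D59972)
def n61158 : Q := act 5 n59970
theorem D61158 : act 5 n59970 = n61158 := rfl
theorem F273058 : act 1 n61158 = n59987 := d12_1 D61158 (iv D59987) (iv F267980)
theorem F273059 : act 3 n61158 = n60010 := d25_1 D61158 F268113 (iv F267981)
theorem F273060 : act 6 n61158 = n60009 := d35_2 (iv F267982) D61158 F268109 (iv F266785) F266784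
theorem F273061 : act 7 n61158 = n60528 := d36_2 (iv F267983) D61158 (iv D60528)
theorem F273062 : act 9 n61158 = n59973 := d38_2 (iv F267984) D61158 (iv D59973)
def n61159 : Q := act 0 n59971
theorem D61159 : act 0 n59971 = n61159 := rfl
theorem F273063 : act 2 n61159 = n59988 := d1_2 (iv F267985) D61159 (iv D59988)
theorem F273064 : act 3 n61159 = n60592 := d2_2 (iv F267986) D61159 (iv D60592)
theorem F273065 : act 6 n61159 = n60563 := d5_2 (iv F267987) D61159 (iv D60563)
theorem F273066 : act 7 n61159 = n60529 := d6_2 (iv F267988) D61159 (iv D60529)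
theorem F273067 : act 8 n61159 = n59977 := d7_2 (iv F267989) D61159 (iv D59977)
def n61160 : Q := act 4 n59971
theorem D61160 : act 4 n59971 = n61160 := rfl
theorem F273068 : act 1 n61160 = n59972 := d11_1 D61160 (iv D59972) D59971
theorem F273069 : act 2 n61160 = n59989 := d18_1 D61160 (iv D59989) (iv F267985)
theorem F273070 : act 3 n61160 = n60483 := d24_1 D61160 (iv D60483) (iv F268400) F268401 (iv F267986)
theorem F273071 : act 6 n61160 = n60564 := d31_2 (iv F267987) D61160 (iv D60564)
theorem F273072 : act 7 n61160 = n60530 := d32_2 (iv F267988) D61160 (iv D60530)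
theorem F273073 : act 8 n61160 = n59978 := d33_2 (iv F267989) D61160 (iv D59978)
def n61161 : Q := act 5 n59972
theorem D61161 : act 5 n59972 = n61161 := rfl
theorem F273074 : act 2 n61161 = n59973 := d19_1 D61161 (iv D59973) (iv F267990)
theorem F273075 : act 3 n61161 = n60311 := d25_1 D61161 F269325 (iv F267991)
theorem F273076 : act 6 n61161 = n60007 := d35_2 (iv F267992) D61161 F271918 F271914 F267089
theorem F273077 : act 7 n61161 = n60531 := d36_2 (iv F267993) D61161 (iv D60531)
theorem F273078 : act 8 n61161 = n59979 := d37_2 (iv F267994) D61161 (iv D59979)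
def n61162 : Q := act 0 n59974
theorem D61162 : act 0 n59974 = n61162 := rfl
theorem F273079 : act 1 n61162 = n60518 := d0_2 D59974 D61162 (iv D60518) (iv D59300) (iv F263067)
theorem F273080 : act 2 n61162 = n59995 := d1_2 (iv F268000) D61162 (iv D59995)
theorem F273081 : act 3 n61162 = n60508 := d2_2 (iv F268001) D61162 (iv D60508)
theorem F273082 : act 5 n61162 = n59977 := d4_2 (iv F268002) D61162 (iv D59977)
theorem F273083 : act 7 n61162 = n60532 := d6_2 (iv F268003) D61162 (iv D60532)
theorem F273084 : act 9 n61162 = n60510 := d8_2 (iv F268004) D61162 (iv D60510)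
def n61163 : Q := act 4 n59974
theorem D61163 : act 4 n59974 = n61163 := rfl
theorem F273085 : act 1 n61163 = n59975 := d11_1 D61163 (iv D59975) D59974
theorem F273086 : act 2 n61163 = n59996 := d18_1 D61163 (iv D59996) (iv F268000)
theorem F273087 : act 3 n61163 = n60541 := d24_1 D61163 (iv D60541) F265121 (iv F265038) (iv F268001)
theorem F273088 : act 7 n61163 = n60533 := d32_2 (iv F268003) D61163 (iv D60533)
theorem F273089 : act 9 n61163 = n60511 := d34_2 (iv F268004) D61163 (iv D60511)
def n61164 : Q := act 5 n59975
theorem D61164 : act 5 n59975 = n61164 := rfl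
theorem F273090 : act 0 n61164 = n60520 := d4_1 D61164 (iv D60520) (iv F268005)
theorem F273091 : act 2 n61164 = n59976 := d19_1 D61164 (iv D59976) (iv F268006)
theorem F273092 : act 3 n61164 = n59994 := d25_1 D61164 F268074 (iv F268007)
theorem F273093 : act 4 n61164 = n59979 := d30_1 D61164 (iv D59979) (iv D58758) (iv F263069) D59975
theorem F273094 : act 6 n61164 = n59997 := d35_2 F272134 D61164 (iv F272542) F272543 (iv F272133)
theorem F273095 : act 7 n61164 = n60534 := d36_2 (iv F268008) D61164 (iv D60534)
theorem F273096 : act 9 n61164 = n60512 := d38_2 (iv F268009) D61164 (iv D60512)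
def n61165 : Q := act 4 n59977
theorem D61165 : act 4 n59977 = n61165 := rfl
theorem F273097 : act 0 n61165 = n59978 := d3_1 D61165 (iv D59978) D59977
theorem F273098 : act 2 n61165 = n59999 := d18_1 D61165 (iv D59999) (iv F268017)
theorem F273099 : act 3 n61165 = n60560 := d24_1 D61165 (iv D60560) F265171 (iv F265073) (iv F268018)
theorem F273100 : act 6 n61165 = n60566 := d31_2 (iv F268019) D61165 (iv D60566)
theorem F273101 : act 7 n61165 = n60535 := d32_2 (iv F268020) D61165 (iv D60535)
def n61166 : Q := act 5 n59978
theorem D61166 : act 5 n59978 = n61166 := rfl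
theorem F273102 : act 1 n61166 = n59979 := d12_1 D61166 (iv D59979) (iv F268021)
theorem F273103 : act 2 n61166 = n60000 := d19_1 D61166 (iv D60000) (iv F268022)
theorem F273104 : act 3 n61166 = n60004 := d25_1 D61166 F268097 (iv F268023)
theorem F273105 : act 6 n61166 = n60006 := d35_2 (iv F268024) D61166 (iv F272396) F272397 (iv D60567)
theorem F273106 : act 7 n61166 = n60536 := d36_2 (iv F268025) D61166 (iv D60536)
def n61167 : Q := act 1 n59980
theorem D61167 : act 1 n59980 = n61167 := rfl
theorem F273107 : act 3 n61167 = n60282 := d10_2 (iv F268030) D61167 (iv D60282)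
theorem F273108 : act 5 n61167 = n59985 := d12_2 (iv F268031) D61167 (iv D59985)
theorem F273109 : act 9 n61167 = n59982 := d16_2 (iv F268032) D61167 (iv D59982)
def n61168 : Q := act 4 n59980
theorem D61168 : act 4 n59980 = n61168 := rfl
theorem F273110 : act 2 n61168 = n59981 := d18_1 D61168 (iv D59981) D59980
theorem F273111 : act 9 n61168 = n59983 := d34_2 (iv F268032) D61168 (iv D59983)
def n61169 : Q := act 5 n59981
theorem D61169 : act 5 n59981 = n61169 := rfl
theorem F273112 : act 3 n61169 = n61169 := d25_1 D61169 (iv D61169) F268033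
theorem F273113 : act 4 n61169 = n59987 := d30_1 D61169 (iv D59987) (iv D58764) (iv F263089) D59981
theorem F273114 : act 9 n61169 = n59984 := d38_2 (iv F268034) D61169 (iv D59984)
def n61170 : Q := act 0 n59982
theorem D61170 : act 0 n59982 = n61170 := rfl
theorem F273115 : act 3 n61170 = n60284 := d2_2 (iv F268035) D61170 (iv D60284)
theorem F273116 : act 5 n61170 = n59988 := d4_2 (iv F268036) D61170 (iv D59988)
theorem F273117 : act 8 n61170 = n59995 := d7_2 (iv F268037) D61170 (iv D59995)
def n61171 : Q := act 4 n59982
theorem D61171 : act 4 n59982 = n61171 := rfl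
theorem F273118 : act 1 n61171 = n59983 := d11_1 D61171 (iv D59983) D59982
theorem F273119 : act 8 n61171 = n59996 := d33_2 (iv F268037) D61171 (iv D59996)
def n61172 : Q := act 3 n59983
theorem D61172 : act 3 n59983 = n61172 := rfl
theorem F273120 : act 2 n61172 = n61172 := d17_1 D61172 (iv D61172) F268038 F263094 (iv F268038)
theorem F273121 : act 4 n61172 = n60286 := d24_2 D59983 D61172 (iv D60286) (iv D59045) (iv F263091)
def n61173 : Q := act 5 n59983
theorem D61173 : act 5 n59983 = n61173 := rfl
theorem F273122 : act 2 n61173 = n59984 := d19_1 D61173 (iv D59984) (iv F268038)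
theorem F273123 : act 4 n61173 = n59991 := d30_1 D61173 (iv D59991) (iv D58766) (iv F263092) D59983
theorem F273124 : act 8 n61173 = n59998 := d37_2 (iv F268039) D61173 (iv D59998)
def n61174 : Q := act 0 n59985
theorem D61174 : act 0 n59985 = n61174 := rfl
theorem F273125 : act 3 n61174 = n60288 := d2_2 (iv F268043) D61174 (iv D60288)
theorem F273126 : act 6 n61174 = n60568 := d5_2 (iv F268044) D61174 (iv D60568)
theorem F273127 : act 9 n61174 = n59988 := d8_2 (iv F268045) D61174 (iv D59988)
def n61175 : Q := act 4 n59985
theorem D61175 : act 4 n59985 = n61175 := rfl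
theorem F273128 : act 1 n61175 = n59986 := d11_1 D61175 (iv D59986) D59985
theorem F273129 : act 6 n61175 = n60569 := d31_2 (iv F268044) D61175 (iv D60569)
theorem F273130 : act 9 n61175 = n59989 := d34_2 (iv F268045) D61175 (iv D59989)
def n61176 : Q := act 3 n59986
theorem D61176 : act 3 n59986 = n61176 := rfl
theorem F273131 : act 0 n61176 = n60623 := d2_1 D61176 (iv F271661) F271659
theorem F273132 : act 2 n61176 = n60013 := d17_1 D61176 (iv D60013) F263195 (iv F263099) (iv F268046)
theorem F273133 : act 4 n61176 = n60290 := d24_2 D59986 D61176 (iv D60290) (iv D59048) (iv F263096)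
theorem F273134 : act 6 n61176 = n60425 := d26_2 (iv F268047) D61176 F269771
theorem F273135 : act 9 n61176 = n59990 := d29_2 (iv F268048) D61176 (iv D59990)
def n61177 : Q := act 5 n59986
theorem D61177 : act 5 n59986 = n61177 := rfl
theorem F273136 : act 2 n61177 = n59987 := d19_1 D61177 (iv D59987) (iv F268046)
theorem F273137 : act 9 n61177 = n59991 := d38_2 (iv F268048) D61177 (iv D59991)
def n61178 : Q := act 6 n59987
theorem D61178 : act 6 n59987 = n61178 := rfl
theorem F273138 : act 1 n61178 = n60009 := d13_1 D61178 (iv F273060) F273058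
theorem F273139 : act 3 n61178 = n60012 := d26_1 D61178 F268127 (iv F268049)
theorem F273140 : act 5 n61178 = n60188 := d35_1 D61178 F268890 F263951 (iv F263100) D59987
theorem F273141 : act 9 n61178 = n59992 := d41_2 (iv F268050) D61178 (iv D59992)
theorem F273142 : act 7 n60191 = n61178 := d43_3 F273141 (iv F268068) (iv F268899)
def n61179 : Q := act 4 n59988
theorem D61179 : act 4 n59988 = n61179 := rfl
theorem F273143 : act 0 n61179 = n59989 := d3_1 D61179 (iv D59989) D59988
theorem F273144 : act 6 n61179 = n60570 := d31_2 (iv F268052) D61179 (iv D60570)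
theorem F273145 : act 8 n61179 = n59999 := d33_2 (iv F268053) D61179 (iv D59999)
def n61180 : Q := act 3 n59989
theorem D61180 : act 3 n59989 = n61180 := rfl
theorem F273146 : act 1 n61180 = n59990 := d10_1 D61180 (iv D59990) (iv F268054)
theorem F273147 : act 2 n61180 = n60450 := d17_1 D61180 F269845 (iv F269938) (iv F273070) F273069
theorem F273148 : act 4 n61180 = n60292 := d24_2 D59989 D61180 (iv D60292) (iv D59050) (iv F263102)
theorem F273149 : act 6 n61180 = n60458 := d26_2 (iv F268055) D61180 F269867
theorem F273150 : act 8 n61180 = n60606 := d28_2 (iv F268056) D61180 (iv F272363) F272367 F267381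
def n61181 : Q := act 5 n59989
theorem D61181 : act 5 n59989 = n61181 := rfl
theorem F273151 : act 1 n61181 = n59991 := d12_1 D61181 (iv D59991) (iv F268054)
theorem F273152 : act 8 n61181 = n60000 := d37_2 (iv F268056) D61181 (iv D60000)
def n61182 : Q := act 5 n59990
theorem D61182 : act 5 n59990 = n61182 := rfl
theorem F273153 : act 0 n61182 = n60265 := d4_1 D61182 F269179 (iv F268057)
theorem F273154 : act 2 n61182 = n60015 := d19_1 D61182 (iv D60015) (iv F268058)
theorem F273155 : act 3 n61182 = n59991 := d25_1 D61182 (iv D59991) D59990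
theorem F273156 : act 7 n61182 = n60130 := d36_2 F270998 D61182 F271000
theorem F273157 : act 8 n61182 = n60115 := d37_2 (iv F268061) D61182 F268605
def n61183 : Q := act 6 n59991
theorem D61183 : act 6 n59991 = n61183 := rfl
theorem F273158 : act 2 n61183 = n59992 := d20_1 D61183 (iv D59992) (iv F268062)
theorem F273159 : act 5 n61183 = n60258 := d35_1 D61183 F269164 F264256 (iv F263106) D59991
theorem F273160 : act 8 n61183 = n60001 := d40_2 (iv F268063) D61183 (iv D60001)
theorem F273161 : act 7 n60262 = n61183 := d42_3 F273160 (iv F272642) F272643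
def n61184 : Q := act 0 n59993
theorem D61184 : act 0 n59993 = n61184 := rfl
theorem F273162 : act 3 n61184 = n60003 := d2_2 (iv F268069) D61184 (iv D60003)
theorem F273163 : act 5 n61184 = n60571 := d4_2 (iv F268070) D61184 (iv D60571)
theorem F273164 : act 6 n61184 = n59995 := d5_2 (iv F268071) D61184 (iv D59995)
def n61185 : Q := act 4 n59993
theorem D61185 : act 4 n59993 = n61185 := rfl
theorem F273165 : act 1 n61185 = n59994 := d11_1 D61185 (iv D59994) D59993
theorem F273166 : act 5 n61185 = n60541 := d30_2 (iv F268070) D61185 (iv D60541) (iv F265639) F265638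
theorem F273167 : act 6 n61185 = n59996 := d31_2 (iv F268071) D61185 (iv D59996)
theorem F273168 : act 9 n61185 = n60544 := d34_2 F270467 D61185 (iv F270462)
def n61186 : Q := act 4 n59995
theorem D61186 : act 4 n59995 = n61186 := rfl
theorem F273169 : act 0 n61186 = n59996 := d3_1 D61186 (iv D59996) D59995
def n61187 : Q := act 3 n59996
theorem D61187 : act 3 n59996 = n61187 := rfl
theorem F273170 : act 1 n61187 = n59997 := d10_1 D61187 (iv D59997) (iv F268079)
theorem F273171 : act 4 n61187 = n60006 := d24_2 D59996 D61187 (iv D60006) (iv D58781) (iv F263118)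
def n61188 : Q := act 5 n59996
theorem D61188 : act 5 n59996 = n61188 := rfl
theorem F273172 : act 1 n61188 = n59998 := d12_1 D61188 (iv D59998) (iv F268079)
theorem F273173 : act 4 n61188 = n60000 := d30_1 D61188 (iv D60000) (iv D58774) (iv F263119) D59996
def n61189 : Q := act 8 n59997
theorem D61189 : act 8 n59997 = n61189 := rfl
theorem F273174 : act 2 n61189 = n60008 := d22_1 D61189 (iv D60008) (iv F268080)
theorem F273175 : act 4 n61189 = n60007 := d33_1 D61189 (iv D60007) (iv F268081)
def n61190 : Q := act 5 n59999
theorem D61190 : act 5 n59999 = n61190 := rfl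
theorem F273176 : act 0 n61190 = n60000 := d4_1 D61190 (iv D60000) (iv F268084)
def n61191 : Q := act 6 n60000
theorem D61191 : act 6 n60000 = n61191 := rfl
theorem F273177 : act 1 n61191 = n60001 := d13_1 D61191 (iv D60001) (iv F268086)
theorem F273178 : act 2 n61191 = n60006 := d20_1 D61191 (iv F273105) F273103
theorem F273179 : act 5 n61191 = n60574 := d35_1 D61191 (iv D60574) (iv D59366) (iv F263126) D60000
def n61192 : Q := act 0 n60002
theorem D61192 : act 0 n60002 = n61192 := rfl
theorem F273180 : act 4 n61192 = n60573 := d3_2 (iv F268089) D61192 F270150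
theorem F273181 : act 5 n61192 = n60572 := d4_2 (iv F268090) D61192 F270147
theorem F273182 : act 7 n61192 = n60003 := d6_2 (iv F268091) D61192 (iv D60003)
theorem F273183 : act 8 n61192 = n60306 := d7_2 (iv F268092) D61192 (iv D60306)
def n61193 : Q := act 4 n60003
theorem D61193 : act 4 n60003 = n61193 := rfl
theorem F273184 : act 0 n61193 = n60004 := d3_1 D61193 (iv D60004) D60003
theorem F273185 : act 5 n61193 = n60560 := d30_2 (iv F268093) D61193 (iv D60560) (iv F265631) F265630
theorem F273186 : act 6 n61193 = n60005 := d31_2 (iv F268094) D61193 (iv D60005)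
theorem F273187 : act 7 n61193 = n60573 := d32_2 F273182 D61193 (iv F273180)
theorem F273188 : act 8 n61193 = n60309 := d33_2 (iv F268095) D61193 (iv D60309)
def n61194 : Q := act 3 n60005
theorem D61194 : act 3 n60005 = n61194 := rfl
theorem F273189 : act 0 n61194 = n60006 := d2_1 D61194 (iv D60006) (iv F268101)
def n61195 : Q := act 8 n60006
theorem D61195 : act 8 n60006 = n61195 := rfl
theorem F273190 : act 1 n61195 = n60007 := d15_1 D61195 (iv D60007) (iv F268103)
theorem F273191 : act 3 n61195 = n60314 := d28_1 D61195 (iv D60314) (iv D59070) (iv F263146) D60006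
def n61196 : Q := act 9 n60007
theorem D61196 : act 9 n60007 = n61196 := rfl
theorem F273192 : act 2 n61196 = n60009 := d23_1 D61196 (iv D60009) (iv F268104)
theorem F273193 : act 3 n61196 = n60315 := d29_1 D61196 (iv D60315) (iv F268105)
theorem F273194 : act 5 n61196 = n60637 := d38_1 D61196 (iv F271917) (iv F271918)
def n61197 : Q := act 9 n60008
theorem D61197 : act 9 n60008 = n61197 := rfl
theorem F273195 : act 3 n61197 = n61197 := d29_1 D61197 (iv D61197) F268106
theorem F273196 : act 4 n61197 = n60009 := d34_1 D61197 (iv D60009) (iv F268107)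
theorem F273197 : act 5 n61197 = n60142 := d38_1 D61197 (iv F271832) F271828
theorem F273198 : act 8 n61197 = n60191 := d44_1 D61197 F268899 (iv F267617) F267618 D60008
def n61198 : Q := act 3 n60011
theorem D61198 : act 3 n60011 = n61198 := rfl
theorem F273199 : act 0 n61198 = n60323 := d2_1 D61198 F269361 (iv F268117)
theorem F273200 : act 1 n61198 = n60338 := d10_1 D61198 (iv D60338) (iv F268118)
theorem F273201 : act 5 n61198 = n60320 := d25_2 (iv F268121) D61198 (iv D60320)
theorem F273202 : act 6 n61198 = n60015 := d26_2 (iv F268122) D61198 F268144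
theorem F273203 : act 7 n61198 = n60171 := d27_2 (iv F268123) D61198 F268821
theorem F273204 : act 8 n61198 = n60133 := d28_2 D60011 D61198 (iv D60133) F263699 (iv F263166)
def n61199 : Q := act 5 n60013
theorem D61199 : act 5 n60013 = n61199 := rfl
theorem F273205 : act 0 n61199 = n60327 := d4_1 D61199 F269374 (iv F268130)
theorem F273206 : act 1 n61199 = n60420 := d12_1 D61199 (iv D60420) (iv F268131)
theorem F273207 : act 3 n61199 = n60014 := d25_1 D61199 (iv D60014) D60013
theorem F273208 : act 7 n61199 = n60135 := d36_2 F270984 D61199 F270987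
theorem F273209 : act 9 n61199 = n60015 := d38_2 (iv F268134) D61199 (iv D60015)
def n61200 : Q := act 4 n60015
theorem D61200 : act 4 n60015 = n61200 := rfl
theorem F273210 : act 0 n61200 = n60319 := d3_1 D61200 F269346 (iv F268142)
theorem F273211 : act 1 n61200 = n60448 := d11_1 D61200 F269841 (iv F268143)
theorem F273212 : act 3 n61200 = n61200 := d24_1 D61200 (iv D61200) F268144 F263210 (iv F268144)
theorem F273213 : act 5 n61200 = n60339 := d30_2 D60015 D61200 (iv D60339) (iv D59103) (iv F263204)
theorem F273214 : act 7 n61200 = n60134 := d32_2 (iv F268145) D61200 F268683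
theorem F273215 : act 8 n61200 = n60132 := d33_2 (iv F268146) D61200 F268675
def n61201 : Q := act 0 n60016
theorem D61201 : act 0 n60016 = n61201 := rfl
theorem F273216 : act 1 n61201 = n60506 := d0_2 D60016 D61201 (iv D60506) (iv D59286) (iv F263213)
theorem F273217 : act 2 n61201 = n60021 := d1_2 (iv F268147) D61201 (iv D60021)
theorem F273218 : act 4 n61201 = n60064 := d3_2 (iv F268148) D61201 (iv D60064)
theorem F273219 : act 7 n61201 = n60019 := d6_2 (iv F268149) D61201 (iv D60019)
theorem F273220 : act 9 n61201 = n60589 := d8_2 (iv F268150) D61201 (iv D60589)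
def n61202 : Q := act 0 n60017
theorem D61202 : act 0 n60017 = n61202 := rfl
theorem F273221 : act 1 n61202 = n60502 := d0_2 D60017 D61202 (iv D60502) (iv D59280) (iv F263217)
theorem F273222 : act 2 n61202 = n60305 := d1_2 (iv F268151) D61202 F269305
theorem F273223 : act 3 n61202 = n60019 := d2_2 (iv F268152) D61202 (iv D60019)
theorem F273224 : act 5 n61202 = n60274 := d4_2 (iv F268153) D61202 F269206
theorem F273225 : act 6 n61202 = n60403 := d5_2 (iv F268154) D61202 (iv D60403)
theorem F273226 : act 8 n61202 = n60661 := d7_2 (iv F268155) D61202 (iv D60661)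
theorem F273227 : act 9 n61202 = n60361 := d8_2 (iv F268156) D61202 (iv D60361)
def n61203 : Q := act 4 n60017
theorem D61203 : act 4 n60017 = n61203 := rfl
theorem F273228 : act 1 n61203 = n60018 := d11_1 D61203 (iv D60018) D60017
theorem F273229 : act 2 n61203 = n60303 := d18_1 D61203 F269300 (iv F268151)
theorem F273230 : act 3 n61203 = n60068 := d24_1 D61203 (iv D60068) F263450 (iv F263231) (iv F268152)
theorem F273231 : act 5 n61203 = n60273 := d30_2 (iv F268153) D61203 (iv D60273) F264166 D59037
theorem F273232 : act 6 n61203 = n60404 := d31_2 (iv F268154) D61203 (iv D60404)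
theorem F273233 : act 8 n61203 = n60662 := d33_2 (iv F268155) D61203 (iv D60662)
theorem F273234 : act 9 n61203 = n60362 := d34_2 (iv F268156) D61203 (iv D60362)
def n61204 : Q := act 0 n60020
theorem D61204 : act 0 n60020 = n61204 := rfl
theorem F273235 : act 1 n61204 = n60044 := d0_2 D60020 D61204 (iv D60044) (iv D58824) (iv F263234)
theorem F273236 : act 3 n61204 = n60578 := d2_2 (iv F268169) D61204 (iv D60578)
theorem F273237 : act 4 n61204 = n60101 := d3_2 (iv F268170) D61204 (iv D60101)
theorem F273238 : act 6 n61204 = n60021 := d5_2 (iv F268171) D61204 (iv D60021)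
theorem F273239 : act 7 n61204 = n60577 := d6_2 (iv F268172) D61204 (iv D60577)
theorem F273240 : act 9 n61204 = n60581 := d8_2 (iv F268173) D61204 (iv D60581)
def n61205 : Q := act 4 n60022
theorem D61205 : act 4 n60022 = n61205 := rfl
theorem F273241 : act 0 n61205 = n60023 := d3_1 D61205 (iv D60023) D60022
theorem F273242 : act 1 n61205 = n60055 := d11_1 D61205 (iv D60055) (iv F268179)
theorem F273243 : act 5 n61205 = n60128 := d30_2 (iv F268181) D61205 (iv D60128) F263675 (iv F263253)
theorem F273244 : act 9 n61205 = n60604 := d34_2 (iv F268182) D61205 (iv D60604)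
def n61206 : Q := act 1 n60024
theorem D61206 : act 1 n60024 = n61206 := rfl
theorem F273245 : act 3 n61206 = n60515 := d10_2 (iv F268187) D61206 (iv D60515)
theorem F273246 : act 5 n61206 = n60026 := d12_2 (iv F268188) D61206 (iv D60026)
theorem F273247 : act 7 n61206 = n60030 := d14_2 (iv F268189) D61206 (iv D60030)
theorem F273248 : act 8 n61206 = n60036 := d15_2 (iv F268190) D61206 (iv D60036)
def n61207 : Q := act 4 n60024
theorem D61207 : act 4 n60024 = n61207 := rfl
theorem F273249 : act 0 n61207 = n60591 := d3_1 D61207 (iv D60591) (iv F268186)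
theorem F273250 : act 2 n61207 = n60025 := d18_1 D61207 (iv D60025) D60024
theorem F273251 : act 5 n61207 = n60144 := d30_2 (iv F268188) D61207 (iv D60144) F263748 (iv F263261)
theorem F273252 : act 7 n61207 = n60031 := d32_2 (iv F268189) D61207 (iv D60031)
theorem F273253 : act 8 n61207 = n60037 := d33_2 (iv F268190) D61207 (iv D60037)
def n61208 : Q := act 0 n60026
theorem D61208 : act 0 n60026 = n61208 := rfl
theorem F273254 : act 1 n61208 = n60592 := d0_2 D60026 D61208 (iv D60592) (iv D59390) (iv F263260)
theorem F273255 : act 4 n61208 = n60145 := d3_2 (iv F268196) D61208 (iv D60145)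
theorem F273256 : act 7 n61208 = n60032 := d6_2 (iv F268197) D61208 (iv D60032)
theorem F273257 : act 8 n61208 = n60038 := d7_2 (iv F268198) D61208 (iv D60038)
def n61209 : Q := act 0 n60027
theorem D61209 : act 0 n60027 = n61209 := rfl
theorem F273258 : act 1 n61209 = n60529 := d0_2 D60027 D61209 (iv D60529) (iv D59310) (iv F263264)
theorem F273259 : act 3 n61209 = n60032 := d2_2 (iv F268199) D61209 (iv D60032)
theorem F273260 : act 6 n61209 = n60046 := d5_2 (iv F268200) D61209 (iv D60046)
theorem F273261 : act 8 n61209 = n60510 := d7_2 (iv F268201) D61209 (iv D60510)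
def n61210 : Q := act 4 n60027
theorem D61210 : act 4 n60027 = n61210 := rfl
theorem F273262 : act 1 n61210 = n60028 := d11_1 D61210 (iv D60028) D60027
theorem F273263 : act 3 n61210 = n60169 := d24_1 D61210 (iv D60169) F263816 (iv F263284) (iv F268199)
theorem F273264 : act 6 n61210 = n60047 := d31_2 (iv F268200) D61210 (iv D60047)
theorem F273265 : act 8 n61210 = n60511 := d33_2 (iv F268201) D61210 (iv D60511)
def n61211 : Q := act 5 n60028
theorem D61211 : act 5 n60028 = n61211 := rfl
theorem F273266 : act 0 n61211 = n60531 := d4_1 D61211 (iv D60531) (iv F268202)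
theorem F273267 : act 2 n61211 = n60029 := d19_1 D61211 (iv D60029) (iv F268203)
theorem F273268 : act 3 n61211 = n60170 := d25_1 D61211 (iv D60170) (iv F268204)
theorem F273269 : act 6 n61211 = n60262 := d35_2 (iv F268205) D61211 (iv D60262) F264135 (iv F263356)
theorem F273270 : act 8 n61211 = n60512 := d37_2 (iv F268206) D61211 (iv D60512)
def n61212 : Q := act 0 n60030
theorem D61212 : act 0 n60030 = n61212 := rfl
theorem F273271 : act 1 n61212 = n60601 := d0_2 D60030 D61212 (iv D60601) (iv D59402) (iv F263277)
theorem F273272 : act 5 n61212 = n60032 := d4_2 (iv F268211) D61212 (iv D60032)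
theorem F273273 : act 8 n61212 = n60039 := d7_2 (iv F268212) D61212 (iv D60039)
def n61213 : Q := act 4 n60030
theorem D61213 : act 4 n60030 = n61213 := rfl
theorem F273274 : act 1 n61213 = n60031 := d11_1 D61213 (iv D60031) D60030
theorem F273275 : act 5 n61213 = n60175 := d30_2 (iv F268211) D61213 (iv D60175) F263834 (iv F263284)
theorem F273276 : act 8 n61213 = n60040 := d33_2 (iv F268212) D61213 (iv D60040)
def n61214 : Q := act 3 n60031
theorem D61214 : act 3 n60031 = n61214 := rfl
theorem F273277 : act 0 n61214 = n60603 := d2_1 D61214 (iv D60603) (iv F268213)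
theorem F273278 : act 2 n61214 = n61214 := d17_1 D61214 (iv D61214) F268214 F263281 (iv F268214)
theorem F273279 : act 5 n61214 = n60176 := d25_2 (iv F268215) D61214 (iv D60176)
theorem F273280 : act 8 n61214 = n60494 := d28_2 (iv F268216) D61214 (iv D60494) F264998 (iv F263318)
def n61215 : Q := act 1 n60033
theorem D61215 : act 1 n60033 = n61215 := rfl
theorem F273281 : act 2 n61215 = n60547 := d9_2 D60033 D61215 (iv D60547) (iv D59334) (iv F263288)
theorem F273282 : act 3 n61215 = n60575 := d10_2 (iv F268222) D61215 (iv D60575)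
theorem F273283 : act 5 n61215 = n60035 := d12_2 (iv F268223) D61215 (iv D60035)
theorem F273284 : act 7 n61215 = n60065 := d14_2 (iv F268224) D61215 (iv D60065)
theorem F273285 : act 8 n61215 = n60062 := d15_2 (iv F268225) D61215 (iv D60062)
theorem F273286 : act 9 n61215 = n60042 := d16_2 (iv F268226) D61215 (iv D60042)
def n61216 : Q := act 4 n60033
theorem D61216 : act 4 n60033 = n61216 := rfl
theorem F273287 : act 0 n61216 = n60580 := d3_1 D61216 (iv D60580) (iv F268221)
theorem F273288 : act 2 n61216 = n60034 := d18_1 D61216 (iv D60034) D60033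
theorem F273289 : act 5 n61216 = n60181 := d30_2 (iv F268223) D61216 (iv D60181) F263851 (iv F263295)
theorem F273290 : act 7 n61216 = n60066 := d32_2 (iv F268224) D61216 (iv D60066)
theorem F273291 : act 8 n61216 = n60063 := d33_2 (iv F268225) D61216 (iv D60063)
theorem F273292 : act 9 n61216 = n60043 := d34_2 (iv F268226) D61216 (iv D60043)
def n61217 : Q := act 0 n60035
theorem D61217 : act 0 n60035 = n61217 := rfl
theorem F273293 : act 1 n61217 = n60581 := d0_2 D60035 D61217 (iv D60581) (iv D59379) (iv F263293)
theorem F273294 : act 3 n61217 = n60577 := d2_2 (iv F268234) D61217 (iv D60577)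
theorem F273295 : act 4 n61217 = n60182 := d3_2 (iv F268235) D61217 (iv D60182)
theorem F273296 : act 6 n61217 = n60038 := d5_2 (iv F268236) D61217 (iv D60038)
theorem F273297 : act 7 n61217 = n60578 := d6_2 (iv F268237) D61217 (iv D60578)
theorem F273298 : act 9 n61217 = n60044 := d8_2 (iv F268238) D61217 (iv D60044)
def n61218 : Q := act 0 n60036
theorem D61218 : act 0 n60036 = n61218 := rfl
theorem F273299 : act 1 n61218 = n60593 := d0_2 D60036 D61218 (iv D60593) (iv D59391) (iv F263299)
theorem F273300 : act 3 n61218 = n60364 := d2_2 (iv F268239) D61218 (iv D60364)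
theorem F273301 : act 5 n61218 = n60038 := d4_2 (iv F268240) D61218 (iv D60038)
theorem F273302 : act 7 n61218 = n60039 := d6_2 (iv F268241) D61218 (iv D60039)
theorem F273303 : act 9 n61218 = n60046 := d8_2 (iv F268242) D61218 (iv D60046)
def n61219 : Q := act 4 n60036
theorem D61219 : act 4 n60036 = n61219 := rfl
theorem F273304 : act 1 n61219 = n60037 := d11_1 D61219 (iv D60037) D60036
theorem F273305 : act 3 n61219 = n60471 := d24_1 D61219 (iv D60471) F264926 (iv F264570) (iv F268239)
theorem F273306 : act 5 n61219 = n60193 := d30_2 (iv F268240) D61219 (iv D60193) F263892 (iv F263310)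
theorem F273307 : act 7 n61219 = n60040 := d32_2 (iv F268241) D61219 (iv D60040)
theorem F273308 : act 9 n61219 = n60047 := d34_2 (iv F268242) D61219 (iv D60047)
def n61220 : Q := act 4 n60039
theorem D61220 : act 4 n60039 = n61220 := rfl
theorem F273309 : act 0 n61220 = n60040 := d3_1 D61220 (iv D60040) D60039
theorem F273310 : act 1 n61220 = n60604 := d11_1 D61220 (iv D60604) (iv F268254)
theorem F273311 : act 3 n61220 = n60504 := d24_1 D61220 (iv D60504) F265017 (iv F264577) (iv F268255)
theorem F273312 : act 5 n61220 = n60209 := d30_2 (iv F268256) D61220 (iv D60209) F263960 (iv F263323)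
theorem F273313 : act 9 n61220 = n60055 := d34_2 (iv F268257) D61220 (iv D60055)
def n61221 : Q := act 0 n60041
theorem D61221 : act 0 n60041 = n61221 := rfl
theorem F273314 : act 1 n61221 = n60578 := d0_2 D60041 D61221 (iv D60578) (iv D59374) (iv F263326)
theorem F273315 : act 2 n61221 = n60080 := d1_2 (iv F268262) D61221 (iv D60080)
theorem F273316 : act 3 n61221 = n60044 := d2_2 (iv F268263) D61221 (iv D60044)
theorem F273317 : act 4 n61221 = n60598 := d3_2 (iv F268264) D61221 (iv D60598)
theorem F273318 : act 6 n61221 = n60045 := d5_2 (iv F268265) D61221 (iv D60045)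
theorem F273319 : act 7 n61221 = n60581 := d6_2 (iv F268266) D61221 (iv D60581)
theorem F273320 : act 8 n61221 = n60060 := d7_2 (iv F268267) D61221 (iv D60060)
theorem F273321 : act 9 n61221 = n60577 := d8_2 (iv F268268) D61221 (iv D60577)
def n61222 : Q := act 0 n60042
theorem D61222 : act 0 n60042 = n61222 := rfl
theorem F273322 : act 2 n61222 = n60549 := d1_2 (iv F268269) D61222 (iv D60549)
theorem F273323 : act 5 n61222 = n60044 := d4_2 (iv F268270) D61222 (iv D60044)
theorem F273324 : act 7 n61222 = n60584 := d6_2 (iv F268271) D61222 (iv D60584)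
theorem F273325 : act 8 n61222 = n60545 := d7_2 (iv F268272) D61222 (iv D60545)
def n61223 : Q := act 4 n60042
theorem D61223 : act 4 n60042 = n61223 := rfl
theorem F273326 : act 1 n61223 = n60043 := d11_1 D61223 (iv D60043) D60042
theorem F273327 : act 2 n61223 = n60550 := d18_1 D61223 (iv D60550) (iv F268269)
theorem F273328 : act 5 n61223 = n60235 := d30_2 (iv F268270) D61223 (iv D60235) F264064 (iv F263341)
theorem F273329 : act 7 n61223 = n60585 := d32_2 (iv F268271) D61223 (iv D60585)
theorem F273330 : act 8 n61223 = n60546 := d33_2 (iv F268272) D61223 (iv D60546)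
def n61224 : Q := act 3 n60043
theorem D61224 : act 3 n60043 = n61224 := rfl
theorem F273331 : act 0 n61224 = n60669 := d2_1 D61224 F272438 F272431
theorem F273332 : act 2 n61224 = n61224 := d17_1 D61224 (iv D61224) F268273 F263337 (iv F268273)
theorem F273333 : act 5 n61224 = n60236 := d25_2 (iv F268274) D61224 (iv D60236)
theorem F273334 : act 7 n61224 = n60586 := d27_2 (iv F268275) D61224 (iv D60586)
theorem F273335 : act 8 n61224 = n60610 := d28_2 (iv F268276) D61224 (iv D60610) (iv F269504) F269502
def n61225 : Q := act 4 n60046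
theorem D61225 : act 4 n60046 = n61225 := rfl
theorem F273336 : act 0 n61225 = n60047 := d3_1 D61225 (iv D60047) D60046
theorem F273337 : act 3 n61225 = n60626 := d24_1 D61225 (iv D60626) F265347 (iv F265217) (iv F268288)
theorem F273338 : act 5 n61225 = n60263 := d30_2 (iv F268289) D61225 (iv D60263) F264137 (iv F263358)
theorem F273339 : act 7 n61225 = n60055 := d32_2 (iv F268290) D61225 (iv D60055)
def n61226 : Q := act 0 n60051
theorem D61226 : act 0 n60051 = n61226 := rfl
theorem F273340 : act 1 n61226 = n60563 := d0_2 D60051 D61226 (iv D60563) (iv D59352) (iv F263386)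
theorem F273341 : act 2 n61226 = n60113 := d1_2 (iv F268319) D61226 (iv D60113)
theorem F273342 : act 5 n61226 = n60064 := d4_2 (iv F268320) D61226 (iv D60064)
theorem F273343 : act 7 n61226 = n60053 := d6_2 (iv F268321) D61226 (iv D60053)
theorem F273344 : act 8 n61226 = n60561 := d7_2 (iv F268322) D61226 (iv D60561)
def n61227 : Q := act 4 n60051
theorem D61227 : act 4 n60051 = n61227 := rfl
theorem F273345 : act 1 n61227 = n60052 := d11_1 D61227 (iv D60052) D60051
theorem F273346 : act 2 n61227 = n60114 := d18_1 D61227 (iv D60114) (iv F268319)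
theorem F273347 : act 7 n61227 = n60054 := d32_2 (iv F268321) D61227 (iv D60054)
theorem F273348 : act 8 n61227 = n60562 := d33_2 (iv F268322) D61227 (iv D60562)
def n61228 : Q := act 4 n60053
theorem D61228 : act 4 n60053 = n61228 := rfl
theorem F273349 : act 0 n61228 = n60054 := d3_1 D61228 (iv D60054) D60053
theorem F273350 : act 2 n61228 = n60128 := d18_1 D61228 (iv D60128) (iv F268327)
theorem F273351 : act 6 n61228 = n60055 := d31_2 (iv F268329) D61228 (iv D60055)
def n61229 : Q := act 3 n60055
theorem D61229 : act 3 n60055 = n61229 := rfl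
theorem F273352 : act 0 n61229 = n60056 := d2_1 D61229 (iv D60056) (iv F268333)
theorem F273353 : act 4 n61229 = n60443 := d24_2 D60055 D61229 F269826 (iv F268314) F268313
theorem F273354 : act 5 n61229 = n60312 := d25_2 (iv F268334) D61229 (iv D60312)
theorem F273355 : act 7 n61229 = n60626 := d27_2 F273339 D61229 (iv F273337)
theorem F273356 : act 9 n61229 = n60504 := d29_2 F273313 D61229 (iv F273311)
def n61230 : Q := act 8 n60056
theorem D61230 : act 8 n60056 = n61230 := rfl
theorem F273357 : act 1 n61230 = n60057 := d15_1 D61230 (iv D60057) (iv F268335)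
theorem F273358 : act 4 n61230 = n60437 := d33_1 D61230 F269816 (iv F268336)
theorem F273359 : act 5 n61230 = n60314 := d37_1 D61230 (iv D60314) (iv F268337)
theorem F273360 : act 7 n61230 = n60625 := d42_1 D61230 F270266 (iv F268338)
def n61231 : Q := act 9 n60057
theorem D61231 : act 9 n60057 = n61231 := rfl
theorem F273361 : act 2 n61231 = n60058 := d23_1 D61231 (iv D60058) (iv F268340)
theorem F273362 : act 3 n61231 = n60637 := d29_1 D61231 (iv F271917) F271913
theorem F273363 : act 4 n61231 = n60116 := d34_1 D61231 F268612 (iv F268341)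
theorem F273364 : act 5 n61231 = n60315 := d38_1 D61231 (iv D60315) (iv F268342)
theorem F273365 : act 6 n61231 = n60239 := d41_1 D61231 (iv F271874) F271871
theorem F273366 : act 7 n61231 = n60623 := d43_1 D61231 F270262 (iv F268343)
theorem F273367 : act 8 n61231 = n60491 := d44_1 D61231 F269963 F264998 (iv F263407) D60057
def n61232 : Q := act 0 n60059
theorem D61232 : act 0 n60059 = n61232 := rfl
theorem F273368 : act 2 n61232 = n60088 := d1_2 (iv F268351) D61232 (iv D60088)
theorem F273369 : act 3 n61232 = n60563 := d2_2 (iv F268352) D61232 (iv D60563)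
theorem F273370 : act 4 n61232 = n60589 := d3_2 (iv F268353) D61232 (iv D60589)
theorem F273371 : act 6 n61232 = n60592 := d5_2 (iv F268354) D61232 (iv D60592)
theorem F273372 : act 7 n61232 = n60060 := d6_2 (iv F268355) D61232 (iv D60060)
theorem F273373 : act 8 n61232 = n60581 := d7_2 (iv F268356) D61232 (iv D60581)
theorem F273374 : act 9 n61232 = n60064 := d8_2 (iv F268357) D61232 (iv D60064)
def n61233 : Q := act 0 n60061
theorem D61233 : act 0 n60061 = n61233 := rfl
theorem F273375 : act 2 n61233 = n60101 := d1_2 (iv F268362) D61233 (iv D60101)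
theorem F273376 : act 6 n61233 = n60064 := d5_2 (iv F268363) D61233 (iv D60064)
theorem F273377 : act 7 n61233 = n60595 := d6_2 (iv F268364) D61233 (iv D60595)
theorem F273378 : act 9 n61233 = n60592 := d8_2 (iv F268365) D61233 (iv D60592)
def n61234 : Q := act 0 n60062
theorem D61234 : act 0 n60062 = n61234 := rfl
theorem F273379 : act 2 n61234 = n60568 := d1_2 (iv F268366) D61234 (iv D60568)
theorem F273380 : act 3 n61234 = n60064 := d2_2 (iv F268367) D61234 (iv D60064)
theorem F273381 : act 7 n61234 = n60067 := d6_2 (iv F268368) D61234 (iv D60067)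
theorem F273382 : act 9 n61234 = n60563 := d8_2 (iv F268369) D61234 (iv D60563)
def n61235 : Q := act 4 n60062
theorem D61235 : act 4 n60062 = n61235 := rfl
theorem F273383 : act 1 n61235 = n60063 := d11_1 D61235 (iv D60063) D60062
theorem F273384 : act 2 n61235 = n60569 := d18_1 D61235 (iv D60569) (iv F268366)
theorem F273385 : act 7 n61235 = n60068 := d32_2 (iv F268368) D61235 (iv D60068)
theorem F273386 : act 9 n61235 = n60564 := d34_2 (iv F268369) D61235 (iv D60564)
def n61236 : Q := act 0 n60065
theorem D61236 : act 0 n60065 = n61236 := rfl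
theorem F273387 : act 5 n61236 = n60578 := d4_2 (iv F268375) D61236 (iv D60578)
theorem F273388 : act 6 n61236 = n60601 := d5_2 (iv F268376) D61236 (iv D60601)
theorem F273389 : act 8 n61236 = n60067 := d7_2 (iv F268377) D61236 (iv D60067)
theorem F273390 : act 9 n61236 = n60584 := d8_2 (iv F268378) D61236 (iv D60584)
def n61237 : Q := act 4 n60065
theorem D61237 : act 4 n60065 = n61237 := rfl
theorem F273391 : act 1 n61237 = n60066 := d11_1 D61237 (iv D60066) D60065
theorem F273392 : act 5 n61237 = n60631 := d30_2 (iv F268375) D61237 (iv D60631) F265357 (iv F265219)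
theorem F273393 : act 6 n61237 = n60602 := d31_2 (iv F268376) D61237 (iv D60602)
theorem F273394 : act 8 n61237 = n60068 := d33_2 (iv F268377) D61237 (iv D60068)
theorem F273395 : act 9 n61237 = n60585 := d34_2 (iv F268378) D61237 (iv D60585)
def n61238 : Q := act 3 n60066
theorem D61238 : act 3 n60066 = n61238 := rfl
theorem F273396 : act 2 n61238 = n61238 := d17_1 D61238 (iv D61238) F268379 F263445 (iv F268379)
theorem F273397 : act 4 n61238 = n60669 := d24_2 D60066 D61238 F272438 (iv D61028) F267436
theorem F273398 : act 5 n61238 = n60632 := d25_2 (iv F268380) D61238 (iv D60632)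
theorem F273399 : act 6 n61238 = n60603 := d26_2 (iv F268381) D61238 (iv D60603)
theorem F273400 : act 8 n61238 = n60663 := d28_2 (iv F268382) D61238 (iv D60663) (iv F268162) F268159
theorem F273401 : act 9 n61238 = n60586 := d29_2 (iv F268383) D61238 (iv D60586)
def n61239 : Q := act 4 n60067
theorem D61239 : act 4 n60067 = n61239 := rfl
theorem F273402 : act 0 n61239 = n60068 := d3_1 D61239 (iv D60068) D60067
theorem F273403 : act 6 n61239 = n60604 := d31_2 (iv F268385) D61239 (iv D60604)
def n61240 : Q := act 1 n60069
theorem D61240 : act 1 n60069 = n61240 := rfl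
theorem F273404 : act 2 n61240 = n60579 := d9_2 D60069 D61240 (iv D60579) (iv D59377) (iv F263457)
theorem F273405 : act 3 n61240 = n60478 := d10_2 (iv F268389) D61240 (iv D60478)
theorem F273406 : act 5 n61240 = n60071 := d12_2 (iv F268390) D61240 (iv D60071)
theorem F273407 : act 7 n61240 = n60078 := d14_2 (iv F268391) D61240 (iv D60078)
theorem F273408 : act 8 n61240 = n60086 := d15_2 (iv F268392) D61240 (iv D60086)
def n61241 : Q := act 4 n60069
theorem D61241 : act 4 n60069 = n61241 := rfl
theorem F273409 : act 0 n61241 = n60144 := d3_1 D61241 (iv D60144) (iv F268388)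
theorem F273410 : act 2 n61241 = n60070 := d18_1 D61241 (iv D60070) D60069
theorem F273411 : act 5 n61241 = n60591 := d30_2 (iv F268390) D61241 (iv D60591) F265253 (iv F263463)
theorem F273412 : act 7 n61241 = n60079 := d32_2 (iv F268391) D61241 (iv D60079)
theorem F273413 : act 8 n61241 = n60087 := d33_2 (iv F268392) D61241 (iv D60087)
def n61242 : Q := act 0 n60071
theorem D61242 : act 0 n60071 = n61242 := rfl
theorem F273414 : act 1 n61242 = n60145 := d0_2 D60071 D61242 (iv D60145) (iv D58922) (iv F263461)
theorem F273415 : act 2 n61242 = n60581 := d1_2 (iv F268399) D61242 (iv D60581)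
theorem F273416 : act 3 n61242 = n60482 := d2_2 (iv F268400) D61242 (iv D60482)
theorem F273417 : act 4 n61242 = n60592 := d3_2 (iv F268401) D61242 (iv D60592)
theorem F273418 : act 6 n61242 = n60589 := d5_2 (iv F268402) D61242 (iv D60589)
theorem F273419 : act 7 n61242 = n60080 := d6_2 (iv F268403) D61242 (iv D60080)
theorem F273420 : act 8 n61242 = n60088 := d7_2 (iv F268404) D61242 (iv D60088)
def n61243 : Q := act 1 n60072
theorem D61243 : act 1 n60072 = n61243 := rfl
theorem F273421 : act 2 n61243 = n60461 := d9_2 D60072 D61243 (iv D60461) (iv D59238) (iv F263468)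
theorem F273422 : act 3 n61243 = n60078 := d10_2 (iv F268406) D61243 (iv D60078)
theorem F273423 : act 5 n61243 = n60074 := d12_2 (iv F268407) D61243 (iv D60074)
theorem F273424 : act 7 n61243 = n60478 := d14_2 (iv F268408) D61243 (iv D60478)
theorem F273425 : act 8 n61243 = n60455 := d15_2 (iv F268409) D61243 (iv D60455)
def n61244 : Q := act 4 n60072
theorem D61244 : act 4 n60072 = n61244 := rfl
theorem F273426 : act 0 n61244 = n60166 := d3_1 D61244 (iv D60166) (iv F268405)
theorem F273427 : act 2 n61244 = n60073 := d18_1 D61244 (iv D60073) D60072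
theorem F273428 : act 7 n61244 = n60479 := d32_2 (iv F268408) D61244 (iv D60479)
theorem F273429 : act 8 n61244 = n60456 := d33_2 (iv F268409) D61244 (iv D60456)
def n61245 : Q := act 5 n60073
theorem D61245 : act 5 n60073 = n61245 := rfl
theorem F273430 : act 0 n61245 = n60167 := d4_1 D61245 (iv D60167) (iv F268410)
theorem F273431 : act 1 n61245 = n60216 := d12_1 D61245 F269001 (iv F268411)
theorem F273432 : act 3 n61245 = n61245 := d25_1 D61245 (iv D61245) F268412
theorem F273433 : act 4 n61245 = n60076 := d30_1 D61245 (iv D60076) (iv D58857) (iv F263469) D60073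
theorem F273434 : act 7 n61245 = n60220 := d36_2 (iv F268413) D61245 F269021
theorem F273435 : act 8 n61245 = n60215 := d37_2 (iv F268414) D61245 F268996
def n61246 : Q := act 0 n60074
theorem D61246 : act 0 n60074 = n61246 := rfl
theorem F273436 : act 1 n61246 = n60168 := d0_2 D60074 D61246 (iv D60168) (iv D58938) (iv F263472)
theorem F273437 : act 2 n61246 = n60466 := d1_2 (iv F268415) D61246 (iv D60466)
theorem F273438 : act 3 n61246 = n60080 := d2_2 (iv F268416) D61246 (iv D60080)
theorem F273439 : act 6 n61246 = n60605 := d5_2 (iv F268417) D61246 (iv D60605)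
theorem F273440 : act 7 n61246 = n60482 := d6_2 (iv F268418) D61246 (iv D60482)
theorem F273441 : act 8 n61246 = n60457 := d7_2 (iv F268419) D61246 (iv D60457)
def n61247 : Q := act 4 n60074
theorem D61247 : act 4 n60074 = n61247 := rfl
theorem F273442 : act 1 n61247 = n60075 := d11_1 D61247 (iv D60075) D60074
theorem F273443 : act 2 n61247 = n60467 := d18_1 D61247 (iv D60467) (iv F268415)
theorem F273444 : act 3 n61247 = n60530 := d24_1 D61247 (iv D60530) F265090 (iv F263496) (iv F268416)
theorem F273445 : act 6 n61247 = n60606 := d31_2 (iv F268417) D61247 (iv D60606)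
theorem F273446 : act 7 n61247 = n60483 := d32_2 (iv F268418) D61247 (iv D60483)
theorem F273447 : act 8 n61247 = n60458 := d33_2 (iv F268419) D61247 (iv D60458)
def n61248 : Q := act 5 n60075
theorem D61248 : act 5 n60075 = n61248 := rfl
theorem F273448 : act 0 n61248 = n60170 := d4_1 D61248 (iv D60170) (iv F268420)
theorem F273449 : act 2 n61248 = n60076 := d19_1 D61248 (iv D60076) (iv F268421)
theorem F273450 : act 3 n61248 = n60531 := d25_1 D61248 (iv D60531) (iv F268422)
theorem F273451 : act 7 n61248 = n60311 := d36_2 (iv F268424) D61248 F269325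
theorem F273452 : act 8 n61248 = n60308 := d37_2 (iv F268425) D61248 F269316
def n61249 : Q := act 6 n60076
theorem D61249 : act 6 n60076 = n61249 := rfl
theorem F273453 : act 0 n61249 = n60171 := d5_1 D61249 (iv D60171) (iv F268426)
theorem F273454 : act 1 n61249 = n60469 := d13_1 D61249 (iv D60469) (iv F268427)
theorem F273455 : act 3 n61249 = n60077 := d26_1 D61249 (iv D60077) (iv F268428)
theorem F273456 : act 5 n61249 = n60133 := d35_1 D61249 F268680 F263705 (iv F263480) D60076
theorem F273457 : act 7 n61249 = n60323 := d39_2 (iv F268429) D61249 F269362 F264315 (iv F264330)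
theorem F273458 : act 8 n61249 = n60320 := d40_2 (iv F268430) D61249 F269350
def n61250 : Q := act 0 n60078
theorem D61250 : act 0 n60078 = n61250 := rfl
theorem F273459 : act 1 n61250 = n60174 := d0_2 D60078 D61250 (iv D60174) (iv D58944) (iv F263489)
theorem F273460 : act 5 n61250 = n60080 := d4_2 (iv F268438) D61250 (iv D60080)
theorem F273461 : act 8 n61250 = n60089 := d7_2 (iv F268439) D61250 (iv D60089)
def n61251 : Q := act 4 n60078
theorem D61251 : act 4 n60078 = n61251 := rfl
theorem F273462 : act 1 n61251 = n60079 := d11_1 D61251 (iv D60079) D60078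
theorem F273463 : act 5 n61251 = n60602 := d30_2 (iv F268438) D61251 (iv D60602) F265292 (iv F263496)
theorem F273464 : act 8 n61251 = n60090 := d33_2 (iv F268439) D61251 (iv D60090)
def n61252 : Q := act 3 n60079
theorem D61252 : act 3 n60079 = n61252 := rfl
theorem F273465 : act 0 n61252 = n60176 := d2_1 D61252 (iv D60176) (iv F268440)
theorem F273466 : act 2 n61252 = n61252 := d17_1 D61252 (iv D61252) F268441 F263493 (iv F268441)
theorem F273467 : act 5 n61252 = n60603 := d25_2 (iv F268442) D61252 (iv D60603)
def n61253 : Q := act 1 n60081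
theorem D61253 : act 1 n60081 = n61253 := rfl
theorem F273468 : act 2 n61253 = n60590 := d9_2 D60081 D61253 (iv D60590) (iv D59388) (iv F263500)
theorem F273469 : act 3 n61253 = n60268 := d10_2 (iv F268449) D61253 (iv D60268)
theorem F273470 : act 5 n61253 = n60083 := d12_2 (iv F268450) D61253 (iv D60083)
theorem F273471 : act 7 n61253 = n60596 := d14_2 (iv F268451) D61253 (iv D60596)
theorem F273472 : act 8 n61253 = n60587 := d15_2 (iv F268452) D61253 (iv D60587)
theorem F273473 : act 9 n61253 = n60099 := d16_2 (iv F268453) D61253 (iv D60099)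
def n61254 : Q := act 4 n60081
theorem D61254 : act 4 n60081 = n61254 := rfl
theorem F273474 : act 0 n61254 = n60181 := d3_1 D61254 (iv D60181) (iv F268448)
theorem F273475 : act 2 n61254 = n60082 := d18_1 D61254 (iv D60082) D60081
theorem F273476 : act 5 n61254 = n60580 := d30_2 (iv F268450) D61254 (iv D60580) F265229 (iv F263507)
theorem F273477 : act 7 n61254 = n60597 := d32_2 (iv F268451) D61254 (iv D60597)
theorem F273478 : act 8 n61254 = n60588 := d33_2 (iv F268452) D61254 (iv D60588)
theorem F273479 : act 9 n61254 = n60100 := d34_2 (iv F268453) D61254 (iv D60100)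
def n61255 : Q := act 0 n60083
theorem D61255 : act 0 n60083 = n61255 := rfl
theorem F273480 : act 1 n61255 = n60182 := d0_2 D60083 D61255 (iv D60182) (iv D58951) (iv F263505)
theorem F273481 : act 2 n61255 = n60592 := d1_2 (iv F268461) D61255 (iv D60592)
theorem F273482 : act 3 n61255 = n60270 := d2_2 (iv F268462) D61255 (iv D60270)
theorem F273483 : act 4 n61255 = n60581 := d3_2 (iv F268463) D61255 (iv D60581)
theorem F273484 : act 6 n61255 = n60088 := d5_2 (iv F268464) D61255 (iv D60088)
theorem F273485 : act 7 n61255 = n60598 := d6_2 (iv F268465) D61255 (iv D60598)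
theorem F273486 : act 8 n61255 = n60589 := d7_2 (iv F268466) D61255 (iv D60589)
theorem F273487 : act 9 n61255 = n60101 := d8_2 (iv F268467) D61255 (iv D60101)
def n61256 : Q := act 1 n60084
theorem D61256 : act 1 n60084 = n61256 := rfl
theorem F273488 : act 3 n61256 = n60677 := d10_2 (iv F268469) D61256 F270392
theorem F273489 : act 6 n61256 = n60086 := d13_2 (iv F268470) D61256 (iv D60086)
theorem F273490 : act 9 n61256 = n60110 := d16_2 (iv F268471) D61256 (iv D60110)
def n61257 : Q := act 4 n60084
theorem D61257 : act 4 n60084 = n61257 := rfl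
theorem F273491 : act 0 n61257 = n60190 := d3_1 D61257 (iv D60190) (iv F268468)
theorem F273492 : act 2 n61257 = n60085 := d18_1 D61257 (iv D60085) D60084
theorem F273493 : act 6 n61257 = n60087 := d31_2 (iv F268470) D61257 (iv D60087)
theorem F273494 : act 9 n61257 = n60111 := d34_2 (iv F268471) D61257 (iv D60111)
def n61258 : Q := act 5 n60085
theorem D61258 : act 5 n60085 = n61258 := rfl
theorem F273495 : act 0 n61258 = n60191 := d4_1 D61258 (iv D60191) (iv F268472)
theorem F273496 : act 3 n61258 = n60093 := d25_1 D61258 (iv D60093) (iv F268473)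
theorem F273497 : act 6 n61258 = n60528 := d35_2 (iv F268474) D61258 (iv D60528) F265088 (iv F263522)
theorem F273498 : act 9 n61258 = n60112 := d38_2 (iv F268475) D61258 (iv D60112)
def n61259 : Q := act 0 n60086
theorem D61259 : act 0 n60086 = n61259 := rfl
theorem F273499 : act 1 n61259 = n60192 := d0_2 D60086 D61259 (iv D60192) (iv D58959) (iv F263515)
theorem F273500 : act 3 n61259 = n60676 := d2_2 (iv F268476) D61259 F270388
theorem F273501 : act 5 n61259 = n60088 := d4_2 (iv F268477) D61259 (iv D60088)
theorem F273502 : act 7 n61259 = n60089 := d6_2 (iv F268478) D61259 (iv D60089)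
theorem F273503 : act 9 n61259 = n60113 := d8_2 (iv F268479) D61259 (iv D60113)
def n61260 : Q := act 4 n60086
theorem D61260 : act 4 n60086 = n61260 := rfl
theorem F273504 : act 1 n61260 = n60087 := d11_1 D61260 (iv D60087) D60086
theorem F273505 : act 5 n61260 = n60594 := d30_2 (iv F268477) D61260 (iv D60594) F265262 (iv F263526)
theorem F273506 : act 7 n61260 = n60090 := d32_2 (iv F268478) D61260 (iv D60090)
theorem F273507 : act 9 n61260 = n60114 := d34_2 (iv F268479) D61260 (iv D60114)
def n61261 : Q := act 3 n60087
theorem D61261 : act 3 n60087 = n61261 := rfl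
theorem F273508 : act 0 n61261 = n60194 := d2_1 D61261 (iv D60194) (iv F268480)
theorem F273509 : act 2 n61261 = n60094 := d17_1 D61261 (iv D60094) F263552 (iv F263521) (iv F268481)
theorem F273510 : act 4 n61261 = n60389 := d24_2 D60087 D61261 F269649 F265467 (iv F263516)
theorem F273511 : act 5 n61261 = n60386 := d25_2 (iv F268482) D61261 F269638
theorem F273512 : act 7 n61261 = n60091 := d27_2 (iv F268483) D61261 (iv D60091)
theorem F273513 : act 9 n61261 = n60115 := d29_2 (iv F268484) D61261 (iv D60115)
def n61262 : Q := act 4 n60089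
theorem D61262 : act 4 n60089 = n61262 := rfl
theorem F273514 : act 0 n61262 = n60090 := d3_1 D61262 (iv D60090) D60089
theorem F273515 : act 1 n61262 = n60209 := d11_1 D61262 (iv D60209) (iv F268490)
theorem F273516 : act 5 n61262 = n60604 := d30_2 (iv F268492) D61262 (iv D60604) F265298 (iv F263538)
theorem F273517 : act 9 n61262 = n60128 := d34_2 (iv F268493) D61262 (iv D60128)
def n61263 : Q := act 3 n60090
theorem D61263 : act 3 n60090 = n61263 := rfl
theorem F273518 : act 1 n61263 = n60091 := d10_1 D61263 (iv D60091) (iv F268494)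
theorem F273519 : act 4 n61263 = n60406 := d24_2 D60090 D61263 F269705 F265533 (iv F263529)
theorem F273520 : act 5 n61263 = n60404 := d25_2 (iv F268495) D61263 F269700
theorem F273521 : act 9 n61263 = n60129 := d29_2 (iv F268496) D61263 (iv D60129)
def n61264 : Q := act 8 n60091
theorem D61264 : act 8 n60091 = n61264 := rfl
theorem F273522 : act 0 n61264 = n60211 := d7_1 D61264 (iv D60211) (iv F268497)
theorem F273523 : act 2 n61264 = n60095 := d22_1 D61264 (iv D60095) (iv F268498)
theorem F273524 : act 4 n61264 = n60402 := d33_1 D61264 F269695 (iv F268499)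
theorem F273525 : act 5 n61264 = n60399 := d37_1 D61264 F269685 (iv F268500)
def n61265 : Q := act 3 n60092
theorem D61265 : act 3 n60092 = n61265 := rfl
theorem F273526 : act 0 n61265 = n60214 := d2_1 D61265 (iv D60214) (iv F268502)
theorem F273527 : act 4 n61265 = n60390 := d24_2 D60092 D61265 F269652 F264669 (iv F263542)
theorem F273528 : act 6 n61265 = n60094 := d26_2 (iv F268504) D61265 (iv D60094)
theorem F273529 : act 9 n61265 = n60133 := d29_2 (iv F268506) D61265 (iv D60133)
def n61266 : Q := act 8 n60094
theorem D61266 : act 8 n60094 = n61266 := rfl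
theorem F273530 : act 0 n61266 = n60216 := d7_1 D61266 (iv D60216) (iv F268512)
theorem F273531 : act 3 n61266 = n61266 := d28_1 D61266 (iv D61266) (iv D60094) F263555 D60094
theorem F273532 : act 4 n61266 = n60384 := d33_1 D61266 F269631 (iv F268513)
theorem F273533 : act 5 n61266 = n60381 := d37_1 D61266 F269617 (iv F268514)
theorem F273534 : act 7 n61266 = n60095 := d42_1 D61266 (iv D60095) (iv F268515)
def n61267 : Q := act 1 n60096
theorem D61267 : act 1 n60096 = n61267 := rfl
theorem F273535 : act 2 n61267 = n60282 := d9_2 D60096 D61267 (iv D60282) (iv D59042) (iv F263562)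
theorem F273536 : act 3 n61267 = n60099 := d10_2 (iv F268522) D61267 (iv D60099)
theorem F273537 : act 5 n61267 = n60098 := d12_2 (iv F268523) D61267 (iv D60098)
theorem F273538 : act 7 n61267 = n60488 := d14_2 (iv F268524) D61267 (iv D60488)
theorem F273539 : act 8 n61267 = n60500 := d15_2 (iv F268525) D61267 (iv D60500)
theorem F273540 : act 9 n61267 = n60268 := d16_2 (iv F268526) D61267 (iv D60268)
def n61268 : Q := act 4 n60096
theorem D61268 : act 4 n60096 = n61268 := rfl
theorem F273541 : act 0 n61268 = n60227 := d3_1 D61268 (iv D60227) (iv F268521)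
theorem F273542 : act 2 n61268 = n60097 := d18_1 D61268 (iv D60097) D60096
theorem F273543 : act 5 n61268 = n60628 := d30_2 (iv F268523) D61268 (iv D60628) F265350 (iv F263569)
theorem F273544 : act 7 n61268 = n60489 := d32_2 (iv F268524) D61268 (iv D60489)
theorem F273545 : act 8 n61268 = n60501 := d33_2 (iv F268525) D61268 (iv D60501)
theorem F273546 : act 9 n61268 = n60269 := d34_2 (iv F268526) D61268 (iv D60269)
def n61269 : Q := act 0 n60098
theorem D61269 : act 0 n60098 = n61269 := rfl
theorem F273547 : act 1 n61269 = n60229 := d0_2 D60098 D61269 (iv D60229) (iv D58995) (iv F263567)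
theorem F273548 : act 2 n61269 = n60288 := d1_2 (iv F268534) D61269 (iv D60288)
theorem F273549 : act 3 n61269 = n60101 := d2_2 (iv F268535) D61269 (iv D60101)
theorem F273550 : act 4 n61269 = n60629 := d3_2 (iv F268536) D61269 (iv D60629)
theorem F273551 : act 6 n61269 = n60109 := d5_2 (iv F268537) D61269 (iv D60109)
theorem F273552 : act 7 n61269 = n60607 := d6_2 (iv F268538) D61269 (iv D60607)
theorem F273553 : act 9 n61269 = n60270 := d8_2 (iv F268539) D61269 (iv D60270)
def n61270 : Q := act 0 n60099
theorem D61270 : act 0 n60099 = n61270 := rfl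
theorem F273554 : act 1 n61270 = n60234 := d0_2 D60099 D61270 (iv D60234) (iv D59000) (iv F263573)
theorem F273555 : act 5 n61270 = n60101 := d4_2 (iv F268540) D61270 (iv D60101)
theorem F273556 : act 7 n61270 = n60608 := d6_2 (iv F268541) D61270 (iv D60608)
def n61271 : Q := act 4 n60099
theorem D61271 : act 4 n60099 = n61271 := rfl
theorem F273557 : act 1 n61271 = n60100 := d11_1 D61271 (iv D60100) D60099
theorem F273558 : act 7 n61271 = n60609 := d32_2 (iv F268541) D61271 (iv D60609)
def n61272 : Q := act 3 n60100
theorem D61272 : act 3 n60100 = n61272 := rfl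
theorem F273559 : act 0 n61272 = n60236 := d2_1 D61272 (iv D60236) (iv F268542)
theorem F273560 : act 2 n61272 = n61272 := d17_1 D61272 (iv D61272) F268543 F263577 (iv F268543)
theorem F273561 : act 5 n61272 = n60669 := d25_2 F272433 D61272 F272438
theorem F273562 : act 7 n61272 = n60610 := d27_2 (iv F268544) D61272 (iv D60610)
theorem F273563 : act 8 n61272 = n60586 := d28_2 F272274 D61272 (iv D60586) (iv F269470) (iv F272270)
def n61273 : Q := act 1 n60102
theorem D61273 : act 1 n60102 = n61273 := rfl
theorem F273564 : act 2 n61273 = n60649 := d9_2 D60102 D61273 (iv D60649) (iv D59456) (iv F263582)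
theorem F273565 : act 5 n61273 = n60104 := d12_2 (iv F268549) D61273 (iv D60104)
theorem F273566 : act 7 n61273 = n60121 := d14_2 (iv F268550) D61273 (iv D60121)
theorem F273567 : act 8 n61273 = n60107 := d15_2 (iv F268551) D61273 (iv D60107)
theorem F273568 : act 9 n61273 = n60638 := d16_2 (iv F268552) D61273 (iv D60638)
def n61274 : Q := act 4 n60102
theorem D61274 : act 4 n60102 = n61274 := rfl
theorem F273569 : act 0 n61274 = n60245 := d3_1 D61274 (iv D60245) (iv F268548)
theorem F273570 : act 2 n61274 = n60103 := d18_1 D61274 (iv D60103) D60102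
theorem F273571 : act 5 n61274 = n60413 := d30_2 (iv F268549) D61274 (iv D60413) F264761 (iv F263588)
theorem F273572 : act 7 n61274 = n60122 := d32_2 (iv F268550) D61274 (iv D60122)
theorem F273573 : act 8 n61274 = n60108 := d33_2 (iv F268551) D61274 (iv D60108)
theorem F273574 : act 9 n61274 = n60639 := d34_2 (iv F268552) D61274 (iv D60639)
def n61275 : Q := act 0 n60104
theorem D61275 : act 0 n60104 = n61275 := rfl
theorem F273575 : act 1 n61275 = n60247 := d0_2 D60104 D61275 (iv D60247) (iv D59012) (iv F263587)
theorem F273576 : act 2 n61275 = n60654 := d1_2 (iv F268560) D61275 (iv D60654)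
theorem F273577 : act 4 n61275 = n60634 := d3_2 (iv F268561) D61275 (iv D60634)
theorem F273578 : act 7 n61275 = n60124 := d6_2 (iv F268562) D61275 (iv D60124)
theorem F273579 : act 8 n61275 = n60109 := d7_2 (iv F268563) D61275 (iv D60109)
theorem F273580 : act 9 n61275 = n60640 := d8_2 (iv F268564) D61275 (iv D60640)
def n61276 : Q := act 1 n60105
theorem D61276 : act 1 n60105 = n61276 := rfl
theorem F273581 : act 2 n61276 = n60685 := d9_2 D60105 D61276 (iv D60685) (iv D59499) (iv F263593)
theorem F273582 : act 3 n61276 = n60110 := d10_2 (iv F268566) D61276 (iv D60110)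
theorem F273583 : act 6 n61276 = n60107 := d13_2 (iv F268567) D61276 (iv D60107)
theorem F273584 : act 9 n61276 = n60677 := d16_2 (iv F268568) D61276 F270392
def n61277 : Q := act 4 n60105
theorem D61277 : act 4 n60105 = n61277 := rfl
theorem F273585 : act 0 n61277 = n60251 := d3_1 D61277 (iv D60251) (iv F268565)
theorem F273586 : act 2 n61277 = n60106 := d18_1 D61277 (iv D60106) D60105
theorem F273587 : act 6 n61277 = n60108 := d31_2 (iv F268567) D61277 (iv D60108)
theorem F273588 : act 9 n61277 = n60675 := d34_2 (iv F268568) D61277 F270386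
def n61278 : Q := act 0 n60107
theorem D61278 : act 0 n60107 = n61278 := rfl
theorem F273589 : act 1 n61278 = n60253 := d0_2 D60107 D61278 (iv D60253) (iv D59016) (iv F263596)
theorem F273590 : act 2 n61278 = n60690 := d1_2 (iv F268574) D61278 (iv D60690)
theorem F273591 : act 3 n61278 = n60113 := d2_2 (iv F268575) D61278 (iv D60113)
theorem F273592 : act 5 n61278 = n60109 := d4_2 (iv F268576) D61278 (iv D60109)
theorem F273593 : act 7 n61278 = n60125 := d6_2 (iv F268577) D61278 (iv D60125)
theorem F273594 : act 9 n61278 = n60676 := d8_2 (iv F268578) D61278 F270388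
def n61279 : Q := act 4 n60107
theorem D61279 : act 4 n60107 = n61279 := rfl
theorem F273595 : act 1 n61279 = n60108 := d11_1 D61279 (iv D60108) D60107
theorem F273596 : act 2 n61279 = n60691 := d18_1 D61279 (iv D60691) (iv F268574)
theorem F273597 : act 5 n61279 = n60415 := d30_2 (iv F268576) D61279 (iv D60415) F264768 (iv F263609)
theorem F273598 : act 7 n61279 = n60126 := d32_2 (iv F268577) D61279 (iv D60126)
theorem F273599 : act 9 n61279 = n60674 := d34_2 (iv F268578) D61279 F270382
def n61280 : Q := act 3 n60108
theorem D61280 : act 3 n60108 = n61280 := rfl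
theorem F273600 : act 0 n61280 = n60255 := d2_1 D61280 (iv D60255) (iv F268579)
theorem F273601 : act 2 n61280 = n60132 := d17_1 D61280 (iv D60132) F263691 (iv F263603) (iv F268580)
theorem F273602 : act 4 n61280 = n60115 := d24_2 D60108 D61280 (iv D60115) (iv D58889) (iv F263597)
theorem F273603 : act 5 n61280 = n60357 := d25_2 (iv F268581) D61280 F269523
theorem F273604 : act 7 n61280 = n60127 := d27_2 (iv F268582) D61280 (iv D60127)
theorem F273605 : act 9 n61280 = n60389 := d29_2 (iv F268583) D61280 F269649
def n61281 : Q := act 0 n60110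
theorem D61281 : act 0 n60110 = n61281 := rfl
theorem F273606 : act 1 n61281 = n60259 := d0_2 D60110 D61281 (iv D60259) (iv D59022) (iv F263612)
theorem F273607 : act 6 n61281 = n60113 := d5_2 (iv F268590) D61281 (iv D60113)
def n61282 : Q := act 4 n60110
theorem D61282 : act 4 n60110 = n61282 := rfl
theorem F273608 : act 1 n61282 = n60111 := d11_1 D61282 (iv D60111) D60110
theorem F273609 : act 6 n61282 = n60114 := d31_2 (iv F268590) D61282 (iv D60114)
def n61283 : Q := act 3 n60111
theorem D61283 : act 3 n60111 = n61283 := rfl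
theorem F273610 : act 0 n61283 = n60261 := d2_1 D61283 (iv D60261) (iv F268591)
theorem F273611 : act 2 n61283 = n60133 := d17_1 D61283 (iv D60133) F263697 (iv F263615) (iv F268592)
theorem F273612 : act 6 n61283 = n60115 := d26_2 (iv F268593) D61283 (iv D60115)
def n61284 : Q := act 5 n60111
theorem D61284 : act 5 n60111 = n61284 := rfl
theorem F273613 : act 0 n61284 = n60262 := d4_1 D61284 (iv D60262) (iv F268591)
theorem F273614 : act 2 n61284 = n60112 := d19_1 D61284 (iv D60112) (iv F268592)
theorem F273615 : act 6 n61284 = n60531 := d35_2 (iv F268593) D61284 (iv D60531) (iv F267374) F267373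
theorem F273616 : act 8 n61284 = n60537 := d37_2 F270603 D61284 (iv F270600)
def n61285 : Q := act 4 n60113
theorem D61285 : act 4 n60113 = n61285 := rfl
theorem F273617 : act 0 n61285 = n60114 := d3_1 D61285 (iv D60114) D60113
theorem F273618 : act 1 n61285 = n60263 := d11_1 D61285 (iv D60263) (iv F268598)
theorem F273619 : act 7 n61285 = n60128 := d32_2 (iv F268600) D61285 (iv D60128)
def n61286 : Q := act 3 n60114
theorem D61286 : act 3 n60114 = n61286 := rfl
theorem F273620 : act 1 n61286 = n60115 := d10_1 D61286 (iv D60115) (iv F268601)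
theorem F273621 : act 5 n61286 = n60606 := d25_2 F272364 D61286 (iv F272363)
theorem F273622 : act 7 n61286 = n60129 := d27_2 (iv F268602) D61286 (iv D60129)
def n61287 : Q := act 1 n60116
theorem D61287 : act 1 n60116 = n61287 := rfl
theorem F273623 : act 2 n61287 = n60250 := d9_2 D60116 D61287 (iv D60250) (iv D59014) (iv F263624)
theorem F273624 : act 3 n61287 = n60117 := d10_2 (iv F268607) D61287 (iv D60117)
theorem F273625 : act 5 n61287 = n60438 := d12_2 (iv F268608) D61287 (iv D60438)
theorem F273626 : act 6 n61287 = n60238 := d13_2 (iv F268609) D61287 (iv D60238)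
theorem F273627 : act 7 n61287 = n60622 := d14_2 (iv F268610) D61287 (iv D60622)
theorem F273628 : act 8 n61287 = n60490 := d15_2 (iv F268611) D61287 (iv D60490)
theorem F273629 : act 9 n61287 = n60437 := d16_2 (iv F268612) D61287 (iv D60437)
def n61288 : Q := act 0 n60117
theorem D61288 : act 0 n60117 = n61288 := rfl
theorem F273630 : act 2 n61288 = n60124 := d1_2 (iv F268613) D61288 (iv D60124)
theorem F273631 : act 4 n61288 = n60640 := d3_2 (iv F268614) D61288 (iv D60640)
theorem F273632 : act 6 n61288 = n60613 := d5_2 (iv F268615) D61288 (iv D60613)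
theorem F273633 : act 7 n61288 = n60654 := d6_2 (iv F268616) D61288 (iv D60654)
theorem F273634 : act 8 n61288 = n60118 := d7_2 (iv F268617) D61288 (iv D60118)
theorem F273635 : act 9 n61288 = n60634 := d8_2 (iv F268618) D61288 (iv D60634)
def n61289 : Q := act 1 n60119
theorem D61289 : act 1 n60119 = n61289 := rfl
theorem F273636 : act 2 n61289 = n60412 := d9_2 D60119 D61289 (iv D60412) (iv D59191) (iv F263641)
theorem F273637 : act 5 n61289 = n60123 := d12_2 (iv F268625) D61289 (iv D60123)
theorem F273638 : act 7 n61289 = n60638 := d14_2 (iv F268626) D61289 (iv D60638)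
theorem F273639 : act 8 n61289 = n60409 := d15_2 (iv F268627) D61289 (iv D60409)
theorem F273640 : act 9 n61289 = n60121 := d16_2 (iv F268628) D61289 (iv D60121)
def n61290 : Q := act 4 n60119
theorem D61290 : act 4 n60119 = n61290 := rfl
theorem F273641 : act 0 n61290 = n60283 := d3_1 D61290 (iv D60283) (iv F268624)
theorem F273642 : act 2 n61290 = n60120 := d18_1 D61290 (iv D60120) D60119
theorem F273643 : act 5 n61290 = n60650 := d30_2 (iv F268625) D61290 (iv D60650) F265397 (iv F263654)
theorem F273644 : act 7 n61290 = n60639 := d32_2 (iv F268626) D61290 (iv D60639)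
theorem F273645 : act 8 n61290 = n60410 := d33_2 (iv F268627) D61290 (iv D60410)
theorem F273646 : act 9 n61290 = n60122 := d34_2 (iv F268628) D61290 (iv D60122)
def n61291 : Q := act 0 n60121
theorem D61291 : act 0 n60121 = n61291 := rfl
theorem F273647 : act 1 n61291 = n60284 := d0_2 D60121 D61291 (iv D60284) (iv D59044) (iv F263646)
theorem F273648 : act 5 n61291 = n60124 := d4_2 (iv F268636) D61291 (iv D60124)
theorem F273649 : act 8 n61291 = n60125 := d7_2 (iv F268637) D61291 (iv D60125)
def n61292 : Q := act 4 n60121
theorem D61292 : act 4 n60121 = n61292 := rfl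
theorem F273650 : act 1 n61292 = n60122 := d11_1 D61292 (iv D60122) D60121
theorem F273651 : act 5 n61292 = n60652 := d30_2 (iv F268636) D61292 (iv D60652) F265403 (iv F263659)
theorem F273652 : act 8 n61292 = n60126 := d33_2 (iv F268637) D61292 (iv D60126)
def n61293 : Q := act 3 n60122
theorem D61293 : act 3 n60122 = n61293 := rfl
theorem F273653 : act 0 n61293 = n60286 := d2_1 D61293 (iv D60286) (iv F268638)
theorem F273654 : act 2 n61293 = n61293 := d17_1 D61293 (iv D61293) F268639 F263650 (iv F268639)
theorem F273655 : act 5 n61293 = n60653 := d25_2 (iv F268640) D61293 (iv D60653)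
def n61294 : Q := act 0 n60123
theorem D61294 : act 0 n60123 = n61294 := rfl
theorem F273656 : act 1 n61294 = n60288 := d0_2 D60123 D61294 (iv D60288) (iv D59047) (iv F263653)
theorem F273657 : act 2 n61294 = n60634 := d1_2 (iv F268642) D61294 (iv D60634)
theorem F273658 : act 4 n61294 = n60654 := d3_2 (iv F268643) D61294 (iv D60654)
theorem F273659 : act 6 n61294 = n60614 := d5_2 (iv F268644) D61294 (iv D60614)
theorem F273660 : act 7 n61294 = n60640 := d6_2 (iv F268645) D61294 (iv D60640)
theorem F273661 : act 8 n61294 = n60633 := d7_2 (iv F268646) D61294 (iv D60633)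
theorem F273662 : act 9 n61294 = n60124 := d8_2 (iv F268647) D61294 (iv D60124)
def n61295 : Q := act 4 n60125
theorem D61295 : act 4 n60125 = n61295 := rfl
theorem F273663 : act 0 n61295 = n60126 := d3_1 D61295 (iv D60126) D60125
theorem F273664 : act 1 n61295 = n60301 := d11_1 D61295 (iv D60301) (iv F268652)
theorem F273665 : act 5 n61295 = n60659 := d30_2 (iv F268654) D61295 (iv D60659) F265425 (iv F263671)
theorem F273666 : act 9 n61295 = n60696 := d34_2 (iv F268655) D61295 F270436
def n61296 : Q := act 3 n60126
theorem D61296 : act 3 n60126 = n61296 := rfl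
theorem F273667 : act 1 n61296 = n60127 := d10_1 D61296 (iv D60127) (iv F268656)
theorem F273668 : act 4 n61296 = n60129 := d24_2 D60126 D61296 (iv D60129) (iv D58903) (iv F263662)
theorem F273669 : act 5 n61296 = n60368 := d25_2 (iv F268657) D61296 F269568
theorem F273670 : act 9 n61296 = n60406 := d29_2 (iv F268658) D61296 F269705
def n61297 : Q := act 8 n60127
theorem D61297 : act 8 n60127 = n61297 := rfl
theorem F273671 : act 0 n61297 = n60304 := d7_1 D61297 (iv D60304) (iv F268659)
theorem F273672 : act 2 n61297 = n60134 := d22_1 D61297 (iv D60134) (iv F268660)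
theorem F273673 : act 4 n61297 = n60130 := d33_1 D61297 (iv D60130) (iv F268661)
theorem F273674 : act 5 n61297 = n60366 := d37_1 D61297 F269563 (iv F268662)
def n61298 : Q := act 3 n60128
theorem D61298 : act 3 n60128 = n61298 := rfl
theorem F273675 : act 0 n61298 = n60129 := d2_1 D61298 (iv D60129) (iv F268664)
theorem F273676 : act 1 n61298 = n60312 := d10_1 D61298 (iv D60312) (iv F268665)
def n61299 : Q := act 8 n60129
theorem D61299 : act 8 n60129 = n61299 := rfl
theorem F273677 : act 1 n61299 = n60130 := d15_1 D61299 (iv D60130) (iv F268666)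
def n61300 : Q := act 9 n60130
theorem D61300 : act 9 n60130 = n61300 := rfl
theorem F273678 : act 0 n61300 = n60315 := d8_1 D61300 (iv D60315) (iv F268667)
theorem F273679 : act 2 n61300 = n60135 := d23_1 D61300 (iv D60135) (iv F268668)
def n61301 : Q := act 3 n60131
theorem D61301 : act 3 n60131 = n61301 := rfl
theorem F273680 : act 0 n61301 = n60317 := d2_1 D61301 (iv D60317) (iv F268669)
theorem F273681 : act 4 n61301 = n60133 := d24_2 D60131 D61301 (iv D60133) (iv D58908) (iv F263680)
theorem F273682 : act 6 n61301 = n60132 := d26_2 (iv F268671) D61301 (iv D60132)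
theorem F273683 : act 9 n61301 = n60390 := d29_2 (iv F268673) D61301 F269652
def n61302 : Q := act 0 n60136
theorem D61302 : act 0 n60136 = n61302 := rfl
theorem F273684 : act 1 n61302 = n60589 := d0_2 D60136 D61302 (iv D60589) (iv D59387) (iv F263724)
theorem F273685 : act 2 n61302 = n60660 := d1_2 (iv F268687) D61302 (iv D60660)
theorem F273686 : act 6 n61302 = n60145 := d5_2 (iv F268688) D61302 (iv D60145)
theorem F273687 : act 7 n61302 = n60445 := d6_2 (iv F268689) D61302 (iv D60445)
theorem F273688 : act 8 n61302 = n60182 := d7_2 (iv F268690) D61302 (iv D60182)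
theorem F273689 : act 9 n61302 = n60506 := d8_2 (iv F268691) D61302 (iv D60506)
def n61303 : Q := act 1 n60137
theorem D61303 : act 1 n60137 = n61303 := rfl
theorem F273690 : act 2 n61303 = n60140 := d9_2 D60137 D61303 (iv D60140) (iv D58918) (iv F263730)
theorem F273691 : act 5 n61303 = n60646 := d12_2 (iv F268693) D61303 (iv D60646)
theorem F273692 : act 6 n61303 = n60198 := d13_2 (iv F268694) D61303 (iv D60198)
theorem F273693 : act 7 n61303 = n60153 := d14_2 (iv F268695) D61303 (iv D60153)
theorem F273694 : act 8 n61303 = n60201 := d15_2 (iv F268696) D61303 (iv D60201)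
def n61304 : Q := act 1 n60138
theorem D61304 : act 1 n60138 = n61304 := rfl
theorem F273695 : act 2 n61304 = n60646 := d9_2 D60138 D61304 (iv D60646) (iv D59454) (iv F263736)
theorem F273696 : act 3 n61304 = n60143 := d10_2 (iv F268698) D61304 (iv D60143)
theorem F273697 : act 5 n61304 = n60140 := d12_2 (iv F268699) D61304 (iv D60140)
theorem F273698 : act 6 n61304 = n60638 := d13_2 (iv F268700) D61304 (iv D60638)
theorem F273699 : act 7 n61304 = n60165 := d14_2 (iv F268701) D61304 (iv D60165)
theorem F273700 : act 8 n61304 = n60475 := d15_2 (iv F268702) D61304 (iv D60475)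
def n61305 : Q := act 4 n60138
theorem D61305 : act 4 n60138 = n61305 := rfl
theorem F273701 : act 0 n61305 = n60479 := d3_1 D61305 (iv D60479) (iv F268697)
theorem F273702 : act 2 n61305 = n60139 := d18_1 D61305 (iv D60139) D60138
theorem F273703 : act 6 n61305 = n60639 := d31_2 (iv F268700) D61305 (iv D60639)
theorem F273704 : act 7 n61305 = n60166 := d32_2 (iv F268701) D61305 (iv D60166)
theorem F273705 : act 8 n61305 = n60476 := d33_2 (iv F268702) D61305 (iv D60476)
def n61306 : Q := act 0 n60140
theorem D61306 : act 0 n60140 = n61306 := rfl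
theorem F273706 : act 1 n61306 = n60482 := d0_2 D60140 D61306 (iv D60482) (iv D59259) (iv F263741)
theorem F273707 : act 3 n61306 = n60145 := d2_2 (iv F268709) D61306 (iv D60145)
theorem F273708 : act 7 n61306 = n60168 := d6_2 (iv F268710) D61306 (iv D60168)
theorem F273709 : act 8 n61306 = n60477 := d7_2 (iv F268711) D61306 (iv D60477)
def n61307 : Q := act 1 n60141
theorem D61307 : act 1 n60141 = n61307 := rfl
theorem F273710 : act 3 n61307 = n60638 := d10_2 (iv F268712) D61307 (iv D60638)
theorem F273711 : act 5 n61307 = n60636 := d12_2 (iv F268713) D61307 (iv D60636)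
theorem F273712 : act 6 n61307 = n60143 := d13_2 (iv F268714) D61307 (iv D60143)
theorem F273713 : act 8 n61307 = n60189 := d15_2 (iv F268715) D61307 (iv D60189)
def n61308 : Q := act 4 n60141
theorem D61308 : act 4 n60141 = n61308 := rfl
theorem F273714 : act 2 n61308 = n60142 := d18_1 D61308 (iv D60142) D60141
theorem F273715 : act 6 n61308 = n60144 := d31_2 (iv F268714) D61308 (iv D60144)
theorem F273716 : act 8 n61308 = n60190 := d33_2 (iv F268715) D61308 (iv D60190)
def n61309 : Q := act 0 n60143
theorem D61309 : act 0 n60143 = n61309 := rfl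
theorem F273717 : act 5 n61309 = n60145 := d4_2 (iv F268719) D61309 (iv D60145)
theorem F273718 : act 7 n61309 = n60174 := d6_2 (iv F268720) D61309 (iv D60174)
theorem F273719 : act 8 n61309 = n60192 := d7_2 (iv F268721) D61309 (iv D60192)
def n61310 : Q := act 4 n60143
theorem D61310 : act 4 n60143 = n61310 := rfl
theorem F273720 : act 1 n61310 = n60144 := d11_1 D61310 (iv D60144) D60143
theorem F273721 : act 7 n61310 = n60175 := d32_2 (iv F268720) D61310 (iv D60175)
theorem F273722 : act 8 n61310 = n60193 := d33_2 (iv F268721) D61310 (iv D60193)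
def n61311 : Q := act 3 n60144
theorem D61311 : act 3 n60144 = n61311 := rfl
theorem F273723 : act 2 n61311 = n61311 := d17_1 D61311 (iv D61311) F268722 F263751 (iv F268722)
theorem F273724 : act 7 n61311 = n60176 := d27_2 (iv F268723) D61311 (iv D60176)
def n61312 : Q := act 1 n60146
theorem D61312 : act 1 n60146 = n61312 := rfl
theorem F273725 : act 2 n61312 = n60382 := d9_2 D60146 D61312 (iv D60382) (iv D59158) (iv F263757)
theorem F273726 : act 6 n61312 = n60615 := d13_2 (iv F268728) D61312 (iv D60615)
theorem F273727 : act 7 n61312 = n60392 := d14_2 (iv F268729) D61312 (iv D60392)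
theorem F273728 : act 8 n61312 = n60377 := d15_2 (iv F268730) D61312 (iv D60377)
def n61313 : Q := act 4 n60146
theorem D61313 : act 4 n60146 = n61313 := rfl
theorem F273729 : act 0 n61313 = n60154 := d3_1 D61313 (iv D60154) (iv F268727)
theorem F273730 : act 2 n61313 = n60147 := d18_1 D61313 (iv D60147) D60146
theorem F273731 : act 6 n61313 = n60616 := d31_2 (iv F268728) D61313 (iv D60616)
theorem F273732 : act 7 n61313 = n60393 := d32_2 (iv F268729) D61313 (iv D60393)
theorem F273733 : act 8 n61313 = n60378 := d33_2 (iv F268730) D61313 (iv D60378)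
def n61314 : Q := act 5 n60147
theorem D61314 : act 5 n60147 = n61314 := rfl
theorem F273734 : act 0 n61314 = n60155 := d4_1 D61314 (iv D60155) (iv F268731)
theorem F273735 : act 1 n61314 = n60384 := d12_1 D61314 (iv D60384) (iv F268732)
theorem F273736 : act 3 n61314 = n60149 := d25_1 D61314 (iv D60149) (iv F268733)
theorem F273737 : act 7 n61314 = n60394 := d36_2 (iv F268735) D61314 (iv D60394)
theorem F273738 : act 8 n61314 = n60379 := d37_2 (iv F268736) D61314 (iv D60379)
def n61315 : Q := act 3 n60148
theorem D61315 : act 3 n60148 = n61315 := rfl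
theorem F273739 : act 0 n61315 = n60156 := d2_1 D61315 (iv D60156) (iv F268737)
theorem F273740 : act 1 n61315 = n60390 := d10_1 D61315 F269652 (iv F268738)
theorem F273741 : act 6 n61315 = n60379 := d26_2 (iv F268740) D61315 F269607
theorem F273742 : act 7 n61315 = n60408 := d27_2 (iv F268741) D61315 (iv D60408)
def n61316 : Q := act 5 n60148
theorem D61316 : act 5 n60148 = n61316 := rfl
theorem F273743 : act 0 n61316 = n60157 := d4_1 D61316 (iv D60157) (iv F268737)
theorem F273744 : act 1 n61316 = n60337 := d12_1 D61316 F269422 (iv F268738)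
theorem F273745 : act 2 n61316 = n60149 := d19_1 D61316 (iv D60149) (iv F268739)
theorem F273746 : act 4 n61316 = n61316 := d30_1 D61316 (iv D61316) (iv D60148) F263763 D60148
theorem F273747 : act 6 n61316 = n60336 := d35_2 (iv F268740) D61316 F269417 F264600 D59156
theorem F273748 : act 7 n61316 = n60407 := d36_2 (iv F268741) D61316 F269709
theorem F273749 : act 8 n61316 = n60333 := d37_2 (iv F268742) D61316 (iv F269402)
def n61317 : Q := act 6 n60149
theorem D61317 : act 6 n60149 = n61317 := rfl
theorem F273750 : act 0 n61317 = n60158 := d5_1 D61317 (iv D60158) (iv F268743)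
theorem F273751 : act 1 n61317 = n60407 := d13_1 D61317 (iv D60407) (iv F268744)
theorem F273752 : act 2 n61317 = n60336 := d20_1 D61317 (iv F273747) F273745
theorem F273753 : act 4 n61317 = n61317 := d31_1 D61317 (iv D61317) F268745
theorem F273754 : act 5 n61317 = n60321 := d35_1 D61317 F269355 F264307 (iv F263769) D60149
theorem F273755 : act 7 n61317 = n60337 := d39_2 (iv F268746) D61317 F269423 F264616 (iv F264744)
theorem F273756 : act 8 n61317 = n60334 := d40_2 (iv F268747) D61317 F269408
def n61318 : Q := act 1 n60150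
theorem D61318 : act 1 n60150 = n61318 := rfl
theorem F273757 : act 2 n61318 = n60162 := d9_2 D60150 D61318 (iv D60162) (iv D58934) (iv F263773)
theorem F273758 : act 3 n61318 = n60204 := d10_2 (iv F268749) D61318 (iv D60204)
theorem F273759 : act 5 n61318 = n60655 := d12_2 (iv F268750) D61318 (iv D60655)
theorem F273760 : act 6 n61318 = n60617 := d13_2 (iv F268751) D61318 (iv D60617)
theorem F273761 : act 7 n61318 = n60201 := d14_2 (iv F268752) D61318 (iv D60201)
theorem F273762 : act 8 n61318 = n60153 := d15_2 (iv F268753) D61318 (iv D60153)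
theorem F273763 : act 9 n61318 = n60295 := d16_2 (iv F268754) D61318 (iv D60295)
def n61319 : Q := act 1 n60151
theorem D61319 : act 1 n60151 = n61319 := rfl
theorem F273764 : act 2 n61319 = n60165 := d9_2 D60151 D61319 (iv D60165) (iv D58936) (iv F263779)
theorem F273765 : act 5 n61319 = n60153 := d12_2 (iv F268755) D61319 (iv D60153)
theorem F273766 : act 7 n61319 = n60646 := d14_2 (iv F268756) D61319 (iv D60646)
theorem F273767 : act 8 n61319 = n60655 := d15_2 (iv F268757) D61319 (iv D60655)
def n61320 : Q := act 4 n60151
theorem D61320 : act 4 n60151 = n61320 := rfl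
theorem F273768 : act 2 n61320 = n60152 := d18_1 D61320 (iv D60152) D60151
theorem F273769 : act 7 n61320 = n60647 := d32_2 (iv F268756) D61320 (iv D60647)
theorem F273770 : act 8 n61320 = n60656 := d33_2 (iv F268757) D61320 (iv D60656)
def n61321 : Q := act 5 n60152
theorem D61321 : act 5 n60152 = n61321 := rfl
theorem F273771 : act 1 n61321 = n60167 := d12_1 D61321 (iv D60167) (iv F268758)
theorem F273772 : act 3 n61321 = n61321 := d25_1 D61321 (iv D61321) F268759
theorem F273773 : act 4 n61321 = n60155 := d30_1 D61321 (iv D60155) (iv D58929) (iv F263780) D60152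
theorem F273774 : act 7 n61321 = n60648 := d36_2 (iv F268760) D61321 (iv D60648)
theorem F273775 : act 8 n61321 = n60411 := d37_2 (iv F268761) D61321 F269722
def n61322 : Q := act 0 n60153
theorem D61322 : act 0 n60153 = n61322 := rfl
theorem F273776 : act 2 n61322 = n60168 := d1_2 (iv F268762) D61322 (iv D60168)
theorem F273777 : act 6 n61322 = n60619 := d5_2 (iv F268763) D61322 (iv D60619)
def n61323 : Q := act 4 n60153
theorem D61323 : act 4 n60153 = n61323 := rfl
theorem F273778 : act 1 n61323 = n60154 := d11_1 D61323 (iv D60154) D60153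
theorem F273779 : act 2 n61323 = n60169 := d18_1 D61323 (iv D60169) (iv F268762)
theorem F273780 : act 6 n61323 = n60620 := d31_2 (iv F268763) D61323 (iv D60620)
def n61324 : Q := act 3 n60154
theorem D61324 : act 3 n60154 = n61324 := rfl
theorem F273781 : act 2 n61324 = n60156 := d17_1 D61324 (iv D60156) F263787 (iv F263785) (iv F268764)
theorem F273782 : act 6 n61324 = n60621 := d26_2 (iv F268765) D61324 (iv D60621)
def n61325 : Q := act 5 n60154
theorem D61325 : act 5 n60154 = n61325 := rfl
theorem F273783 : act 2 n61325 = n60155 := d19_1 D61325 (iv D60155) (iv F268764)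
theorem F273784 : act 8 n61325 = n60621 := d37_2 F272098 D61325 (iv F272095)
def n61326 : Q := act 6 n60155
theorem D61326 : act 6 n60155 = n61326 := rfl
theorem F273785 : act 1 n61326 = n60171 := d13_1 D61326 (iv D60171) (iv F268766)
theorem F273786 : act 3 n61326 = n60158 := d26_1 D61326 (iv D60158) (iv F268767)
theorem F273787 : act 5 n61326 = n60322 := d35_1 D61326 F269359 F264311 (iv F263786) D60155
theorem F273788 : act 7 n61326 = n60338 := d39_2 (iv F271083) D61326 F269425 (iv F266098) D60797
theorem F273789 : act 8 n61326 = n60156 := d40_2 (iv F268768) D61326 F268769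
def n61327 : Q := act 5 n60156
theorem D61327 : act 5 n60156 = n61327 := rfl
theorem F273790 : act 1 n61327 = n60323 := d12_1 D61327 (iv F271149) F271148
theorem F273791 : act 3 n61327 = n60157 := d25_1 D61327 (iv D60157) D60156
theorem F273792 : act 6 n61327 = n60326 := d35_2 (iv F268769) D61327 F269371 (iv F267110) F267109
theorem F273793 : act 7 n61327 = n60469 := d36_2 F270940 D61327 (iv F270939)
theorem F273794 : act 8 n61327 = n60322 := d37_2 F273789 D61327 (iv F273787)
def n61328 : Q := act 1 n60159
theorem D61328 : act 1 n60159 = n61328 := rfl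
theorem F273795 : act 2 n61328 = n60655 := d9_2 D60159 D61328 (iv D60655) (iv D59462) (iv F263794)
theorem F273796 : act 3 n61328 = n60198 := d10_2 (iv F268783) D61328 (iv D60198)
theorem F273797 : act 5 n61328 = n60162 := d12_2 (iv F268784) D61328 (iv D60162)
theorem F273798 : act 7 n61328 = n60475 := d14_2 (iv F268785) D61328 (iv D60475)
theorem F273799 : act 8 n61328 = n60165 := d15_2 (iv F268786) D61328 (iv D60165)
theorem F273800 : act 9 n61328 = n60615 := d16_2 (iv F268787) D61328 (iv D60615)
def n61329 : Q := act 4 n60159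
theorem D61329 : act 4 n60159 = n61329 := rfl
theorem F273801 : act 0 n61329 = n60456 := d3_1 D61329 (iv D60456) (iv F268782)
theorem F273802 : act 2 n61329 = n60160 := d18_1 D61329 (iv D60160) D60159
theorem F273803 : act 7 n61329 = n60476 := d32_2 (iv F268785) D61329 (iv D60476)
theorem F273804 : act 8 n61329 = n60166 := d33_2 (iv F268786) D61329 (iv D60166)
theorem F273805 : act 9 n61329 = n60616 := d34_2 (iv F268787) D61329 (iv D60616)
def n61330 : Q := act 1 n60161
theorem D61330 : act 1 n60161 = n61330 := rfl
theorem F273806 : act 2 n61330 = n60295 := d9_2 D60161 D61330 (iv D60295) (iv D59053) (iv F263800)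
theorem F273807 : act 3 n61330 = n60199 := d10_2 (iv F268795) D61330 (iv D60199)
theorem F273808 : act 5 n61330 = n60615 := d12_2 (iv F268796) D61330 (iv D60615)
theorem F273809 : act 6 n61330 = n60622 := d13_2 (iv F268797) D61330 (iv D60622)
theorem F273810 : act 7 n61330 = n60271 := d14_2 (iv F268798) D61330 (iv D60271)
theorem F273811 : act 9 n61330 = n60162 := d16_2 (iv F268799) D61330 (iv D60162)
def n61331 : Q := act 0 n60162
theorem D61331 : act 0 n60162 = n61331 := rfl
theorem F273812 : act 1 n61331 = n60457 := d0_2 D60162 D61331 (iv D60457) (iv D59235) (iv F263805)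
theorem F273813 : act 3 n61331 = n60200 := d2_2 (iv F268800) D61331 (iv D60200)
theorem F273814 : act 6 n61331 = n60624 := d5_2 (iv F268801) D61331 (iv D60624)
theorem F273815 : act 7 n61331 = n60477 := d6_2 (iv F268802) D61331 (iv D60477)
theorem F273816 : act 8 n61331 = n60168 := d7_2 (iv F268803) D61331 (iv D60168)
def n61332 : Q := act 1 n60163
theorem D61332 : act 1 n60163 = n61332 := rfl
theorem F273817 : act 3 n61332 = n60172 := d10_2 (iv F268804) D61332 (iv D60172)
theorem F273818 : act 5 n61332 = n60418 := d12_2 (iv F268805) D61332 (iv D60418)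
theorem F273819 : act 6 n61332 = n60165 := d13_2 (iv F268806) D61332 (iv D60165)
theorem F273820 : act 9 n61332 = n60446 := d16_2 (iv F268807) D61332 (iv D60446)
def n61333 : Q := act 4 n60163
theorem D61333 : act 4 n60163 = n61333 := rfl
theorem F273821 : act 2 n61333 = n60164 := d18_1 D61333 (iv D60164) D60163
theorem F273822 : act 6 n61333 = n60166 := d31_2 (iv F268806) D61333 (iv D60166)
theorem F273823 : act 9 n61333 = n60447 := d34_2 (iv F268807) D61333 (iv D60447)
def n61334 : Q := act 5 n60164
theorem D61334 : act 5 n60164 = n61334 := rfl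
theorem F273824 : act 3 n61334 = n61334 := d25_1 D61334 (iv D61334) F268808
theorem F273825 : act 4 n61334 = n60420 := d30_1 D61334 (iv D60420) (iv D59198) (iv F263810) D60164
theorem F273826 : act 9 n61334 = n60448 := d38_2 (iv F268810) D61334 (iv D60448)
def n61335 : Q := act 0 n60165
theorem D61335 : act 0 n60165 = n61335 := rfl
theorem F273827 : act 3 n61335 = n60174 := d2_2 (iv F268811) D61335 (iv D60174)
theorem F273828 : act 5 n61335 = n60168 := d4_2 (iv F268812) D61335 (iv D60168)
def n61336 : Q := act 4 n60165
theorem D61336 : act 4 n60165 = n61336 := rfl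
theorem F273829 : act 1 n61336 = n60166 := d11_1 D61336 (iv D60166) D60165
def n61337 : Q := act 3 n60166
theorem D61337 : act 3 n60166 = n61337 := rfl
theorem F273830 : act 2 n61337 = n61337 := d17_1 D61337 (iv D61337) F268813 F263815 (iv F268813)
theorem F273831 : act 4 n61337 = n60176 := d24_2 D60166 D61337 (iv D60176) (iv D58945) (iv F263813)
def n61338 : Q := act 5 n60166
theorem D61338 : act 5 n60166 = n61338 := rfl
theorem F273832 : act 2 n61338 = n60167 := d19_1 D61338 (iv D60167) (iv F268813)
theorem F273833 : act 4 n61338 = n60170 := d30_1 D61338 (iv D60170) (iv D58939) (iv F263814) D60166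
def n61339 : Q := act 6 n60167
theorem D61339 : act 6 n60167 = n61339 := rfl
theorem F273834 : act 3 n61339 = n61339 := d26_1 D61339 (iv D61339) F268814
theorem F273835 : act 4 n61339 = n60171 := d31_1 D61339 (iv D60171) (iv F268815)
def n61340 : Q := act 4 n60168
theorem D61340 : act 4 n60168 = n61340 := rfl
theorem F273836 : act 0 n61340 = n60169 := d3_1 D61340 (iv D60169) D60168
theorem F273837 : act 6 n61340 = n60626 := d31_2 (iv F268817) D61340 (iv D60626)
def n61341 : Q := act 5 n60169
theorem D61341 : act 5 n60169 = n61341 := rfl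
theorem F273838 : act 1 n61341 = n60170 := d12_1 D61341 (iv D60170) (iv F268818)
def n61342 : Q := act 6 n60170
theorem D61342 : act 6 n60170 = n61342 := rfl
theorem F273839 : act 2 n61342 = n60171 := d20_1 D61342 (iv D60171) (iv F268820)
theorem F273840 : act 3 n61342 = n60262 := d26_1 D61342 (iv F273269) F273268
theorem F273841 : act 5 n61342 = n60261 := d35_1 D61342 F269171 F264142 (iv F263819) D60170
def n61343 : Q := act 0 n60172
theorem D61343 : act 0 n60172 = n61343 := rfl
theorem F273842 : act 2 n61343 = n60630 := d1_2 (iv F268823) D61343 (iv D60630)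
theorem F273843 : act 5 n61343 = n60421 := d4_2 (iv F268824) D61343 (iv D60421)
theorem F273844 : act 6 n61343 = n60174 := d5_2 (iv F268825) D61343 (iv D60174)
theorem F273845 : act 8 n61343 = n60206 := d7_2 (iv F268826) D61343 (iv D60206)
theorem F273846 : act 9 n61343 = n60452 := d8_2 (iv F268827) D61343 (iv D60452)
def n61344 : Q := act 4 n60172
theorem D61344 : act 4 n60172 = n61344 := rfl
theorem F273847 : act 1 n61344 = n60173 := d11_1 D61344 (iv D60173) D60172
theorem F273848 : act 2 n61344 = n60631 := d18_1 D61344 (iv D60631) (iv F268823)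
theorem F273849 : act 6 n61344 = n60175 := d31_2 (iv F268825) D61344 (iv D60175)
theorem F273850 : act 8 n61344 = n60207 := d33_2 (iv F268826) D61344 (iv D60207)
theorem F273851 : act 9 n61344 = n60453 := d34_2 (iv F268827) D61344 (iv D60453)
def n61345 : Q := act 3 n60173
theorem D61345 : act 3 n60173 = n61345 := rfl
theorem F273852 : act 2 n61345 = n61345 := d17_1 D61345 (iv D61345) F268828 F263830 (iv F268828)
theorem F273853 : act 6 n61345 = n60176 := d26_2 (iv F268829) D61345 (iv D60176)
theorem F273854 : act 9 n61345 = n60454 := d29_2 (iv F268831) D61345 (iv D60454)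
def n61346 : Q := act 4 n60174
theorem D61346 : act 4 n60174 = n61346 := rfl
theorem F273855 : act 0 n61346 = n60175 := d3_1 D61346 (iv D60175) D60174
theorem F273856 : act 8 n61346 = n60209 := d33_2 (iv F268833) D61346 (iv D60209)
def n61347 : Q := act 3 n60175
theorem D61347 : act 3 n60175 = n61347 := rfl
theorem F273857 : act 1 n61347 = n60176 := d10_1 D61347 (iv D60176) (iv F268834)
def n61348 : Q := act 8 n60176
theorem D61348 : act 8 n60176 = n61348 := rfl
theorem F273858 : act 2 n61348 = n61348 := d22_1 D61348 (iv D61348) F268836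
theorem F273859 : act 3 n61348 = n60211 := d28_1 D61348 (iv D60211) (iv D58978) (iv F263837) D60176
theorem F273860 : act 5 n61348 = n60494 := d37_1 D61348 (iv F273280) F273279
def n61349 : Q := act 0 n60177
theorem D61349 : act 0 n60177 = n61349 := rfl
theorem F273861 : act 1 n61349 = n60270 := d0_2 D60177 D61349 (iv D60270) (iv D59032) (iv F263840)
theorem F273862 : act 3 n61349 = n60182 := d2_2 (iv F268837) D61349 (iv D60182)
theorem F273863 : act 4 n61349 = n60607 := d3_2 (iv F268838) D61349 (iv D60607)
theorem F273864 : act 6 n61349 = n60186 := d5_2 (iv F268839) D61349 (iv D60186)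
theorem F273865 : act 7 n61349 = n60629 := d6_2 (iv F268840) D61349 (iv D60629)
theorem F273866 : act 8 n61349 = n60266 := d7_2 (iv F268841) D61349 (iv D60266)
theorem F273867 : act 9 n61349 = n60229 := d8_2 (iv F268842) D61349 (iv D60229)
def n61350 : Q := act 1 n60178
theorem D61350 : act 1 n60178 = n61350 := rfl
theorem F273868 : act 3 n61350 = n60432 := d10_2 (iv F268843) D61350 (iv D60432)
theorem F273869 : act 5 n61350 = n60189 := d12_2 (iv F268844) D61350 (iv D60189)
theorem F273870 : act 6 n61350 = n60180 := d13_2 (iv F268845) D61350 (iv D60180)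
theorem F273871 : act 8 n61350 = n60636 := d15_2 (iv F268846) D61350 (iv D60636)
theorem F273872 : act 9 n61350 = n60232 := d16_2 (iv F268847) D61350 (iv D60232)
def n61351 : Q := act 4 n60178
theorem D61351 : act 4 n60178 = n61351 := rfl
theorem F273873 : act 2 n61351 = n60179 := d18_1 D61351 (iv D60179) D60178
theorem F273874 : act 6 n61351 = n60181 := d31_2 (iv F268845) D61351 (iv D60181)
theorem F273875 : act 8 n61351 = n60637 := d33_2 (iv F268846) D61351 (iv D60637)
theorem F273876 : act 9 n61351 = n60233 := d34_2 (iv F268847) D61351 (iv D60233)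
def n61352 : Q := act 0 n60180
theorem D61352 : act 0 n60180 = n61352 := rfl
theorem F273877 : act 5 n61352 = n60182 := d4_2 (iv F268852) D61352 (iv D60182)
theorem F273878 : act 7 n61352 = n60630 := d6_2 (iv F268853) D61352 (iv D60630)
theorem F273879 : act 9 n61352 = n60234 := d8_2 (iv F268854) D61352 (iv D60234)
def n61353 : Q := act 4 n60180
theorem D61353 : act 4 n60180 = n61353 := rfl
theorem F273880 : act 1 n61353 = n60181 := d11_1 D61353 (iv D60181) D60180
theorem F273881 : act 7 n61353 = n60631 := d32_2 (iv F268853) D61353 (iv D60631)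
theorem F273882 : act 9 n61353 = n60235 := d34_2 (iv F268854) D61353 (iv D60235)
def n61354 : Q := act 3 n60181
theorem D61354 : act 3 n60181 = n61354 := rfl
theorem F273883 : act 2 n61354 = n61354 := d17_1 D61354 (iv D61354) F268855 F263854 (iv F268855)
theorem F273884 : act 7 n61354 = n60632 := d27_2 (iv F268856) D61354 (iv D60632)
theorem F273885 : act 9 n61354 = n60236 := d29_2 (iv F268857) D61354 (iv D60236)
def n61355 : Q := act 0 n60183
theorem D61355 : act 0 n60183 = n61355 := rfl
theorem F273886 : act 1 n61355 = n60613 := d0_2 D60183 D61355 (iv D60613) (iv D59418) (iv F263860)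
theorem F273887 : act 2 n61355 = n60186 := d1_2 (iv F268861) D61355 (iv D60186)
theorem F273888 : act 4 n61355 = n60611 := d3_2 (iv F268862) D61355 (iv D60611)
theorem F273889 : act 7 n61355 = n60196 := d6_2 (iv F268863) D61355 (iv D60196)
theorem F273890 : act 8 n61355 = n60612 := d7_2 (iv F268864) D61355 (iv D60612)
theorem F273891 : act 9 n61355 = n60240 := d8_2 (iv F268865) D61355 (iv D60240)
def n61356 : Q := act 1 n60184
theorem D61356 : act 1 n60184 = n61356 := rfl
theorem F273892 : act 2 n61356 = n60437 := d9_2 D60184 D61356 (iv D60437) (iv D59215) (iv F263866)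
theorem F273893 : act 3 n61356 = n60189 := d10_2 (iv F268867) D61356 (iv D60189)
theorem F273894 : act 5 n61356 = n60432 := d12_2 (iv F268868) D61356 (iv D60432)
theorem F273895 : act 6 n61356 = n60185 := d13_2 (iv F268869) D61356 (iv D60185)
theorem F273896 : act 7 n61356 = n60617 := d14_2 (iv F268870) D61356 (iv D60617)
theorem F273897 : act 8 n61356 = n60434 := d15_2 (iv F268871) D61356 (iv D60434)
theorem F273898 : act 9 n61356 = n60250 := d16_2 (iv F268872) D61356 (iv D60250)
def n61357 : Q := act 0 n60185
theorem D61357 : act 0 n60185 = n61357 := rfl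
theorem F273899 : act 1 n61357 = n60676 := d0_2 D60185 D61357 F270388 F265478 (iv F263872)
theorem F273900 : act 3 n61357 = n60192 := d2_2 (iv F268873) D61357 (iv D60192)
theorem F273901 : act 5 n61357 = n60186 := d4_2 (iv F268874) D61357 (iv D60186)
theorem F273902 : act 7 n61357 = n60202 := d6_2 (iv F268875) D61357 (iv D60202)
theorem F273903 : act 8 n61357 = n60679 := d7_2 (iv F268876) D61357 (iv D60679)
theorem F273904 : act 9 n61357 = n60253 := d8_2 (iv F268877) D61357 (iv D60253)
def n61358 : Q := act 1 n60187
theorem D61358 : act 1 n60187 = n61358 := rfl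
theorem F273905 : act 2 n61358 = n60636 := d9_2 D60187 D61358 (iv D60636) (iv D59445) (iv F263883)
theorem F273906 : act 3 n61358 = n60617 := d10_2 (iv F268884) D61358 (iv D60617)
theorem F273907 : act 6 n61358 = n60204 := d13_2 (iv F268885) D61358 (iv D60204)
theorem F273908 : act 7 n61358 = n60189 := d14_2 (iv F268886) D61358 (iv D60189)
theorem F273909 : act 9 n61358 = n60257 := d16_2 (iv F268887) D61358 (iv D60257)
def n61359 : Q := act 4 n60187
theorem D61359 : act 4 n60187 = n61359 := rfl
theorem F273910 : act 2 n61359 = n60188 := d18_1 D61359 (iv D60188) D60187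
theorem F273911 : act 6 n61359 = n60205 := d31_2 (iv F268885) D61359 (iv D60205)
theorem F273912 : act 7 n61359 = n60190 := d32_2 (iv F268886) D61359 (iv D60190)
theorem F273913 : act 9 n61359 = n60258 := d34_2 (iv F268887) D61359 (iv D60258)
def n61360 : Q := act 0 n60189
theorem D61360 : act 0 n60189 = n61360 := rfl
theorem F273914 : act 6 n61360 = n60192 := d5_2 (iv F268893) D61360 (iv D60192)
theorem F273915 : act 9 n61360 = n60259 := d8_2 (iv F268894) D61360 (iv D60259)
def n61361 : Q := act 4 n60189
theorem D61361 : act 4 n60189 = n61361 := rfl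
theorem F273916 : act 1 n61361 = n60190 := d11_1 D61361 (iv D60190) D60189
theorem F273917 : act 6 n61361 = n60193 := d31_2 (iv F268893) D61361 (iv D60193)
theorem F273918 : act 9 n61361 = n60260 := d34_2 (iv F268894) D61361 (iv D60260)
def n61362 : Q := act 3 n60190
theorem D61362 : act 3 n60190 = n61362 := rfl
theorem F273919 : act 2 n61362 = n60214 := d17_1 D61362 (iv D60214) F263987 (iv F263889) (iv F268895)
theorem F273920 : act 4 n61362 = n60474 := d24_2 D60190 D61362 (iv F272034) F272035 F268867
theorem F273921 : act 6 n61362 = n60194 := d26_2 (iv F268896) D61362 (iv D60194)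
theorem F273922 : act 9 n61362 = n60261 := d29_2 (iv F268897) D61362 (iv D60261)
def n61363 : Q := act 5 n60190
theorem D61363 : act 5 n60190 = n61363 := rfl
theorem F273923 : act 2 n61363 = n60191 := d19_1 D61363 (iv D60191) (iv F268895)
theorem F273924 : act 9 n61363 = n60262 := d38_2 (iv F268897) D61363 (iv D60262)
def n61364 : Q := act 4 n60192
theorem D61364 : act 4 n60192 = n61364 := rfl
theorem F273925 : act 0 n61364 = n60193 := d3_1 D61364 (iv D60193) D60192
theorem F273926 : act 7 n61364 = n60209 := d32_2 (iv F268901) D61364 (iv D60209)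
theorem F273927 : act 9 n61364 = n60263 := d34_2 (iv F268902) D61364 (iv D60263)
def n61365 : Q := act 3 n60193
theorem D61365 : act 3 n60193 = n61365 := rfl
theorem F273928 : act 1 n61365 = n60194 := d10_1 D61365 (iv D60194) (iv F268903)
theorem F273929 : act 4 n61365 = n60473 := d24_2 D60193 D61365 (iv F272027) F272028 F268873
theorem F273930 : act 5 n61365 = n60471 := d25_2 F273306 D61365 (iv F273305)
theorem F273931 : act 7 n61365 = n60210 := d27_2 (iv F268904) D61365 (iv D60210)
theorem F273932 : act 9 n61365 = n60264 := d29_2 (iv F268905) D61365 (iv D60264)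
def n61366 : Q := act 8 n60194
theorem D61366 : act 8 n60194 = n61366 := rfl
theorem F273933 : act 2 n61366 = n60216 := d22_1 D61366 (iv D60216) (iv F268906)
theorem F273934 : act 4 n61366 = n60468 := d33_1 D61366 F269900 (iv F268907)
theorem F273935 : act 5 n61366 = n60462 := d37_1 D61366 F269884 (iv F268908)
theorem F273936 : act 7 n61366 = n60211 := d42_1 D61366 (iv D60211) (iv F268909)
def n61367 : Q := act 0 n60195
theorem D61367 : act 0 n60195 = n61367 := rfl
theorem F273937 : act 1 n61367 = n60611 := d0_2 D60195 D61367 (iv D60611) (iv D59415) (iv F263900)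
theorem F273938 : act 2 n61367 = n60200 := d1_2 (iv F268911) D61367 (iv D60200)
theorem F273939 : act 4 n61367 = n60613 := d3_2 (iv F268912) D61367 (iv D60613)
theorem F273940 : act 6 n61367 = n60640 := d5_2 (iv F268913) D61367 (iv D60640)
theorem F273941 : act 7 n61367 = n60612 := d6_2 (iv F268914) D61367 (iv D60612)
theorem F273942 : act 8 n61367 = n60196 := d7_2 (iv F268915) D61367 (iv D60196)
def n61368 : Q := act 1 n60197
theorem D61368 : act 1 n60197 = n61368 := rfl
theorem F273943 : act 2 n61368 = n60500 := d9_2 D60197 D61368 (iv D60500) (iv D59278) (iv F263910)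
theorem F273944 : act 3 n61368 = n60615 := d10_2 (iv F268921) D61368 (iv D60615)
theorem F273945 : act 5 n61368 = n60199 := d12_2 (iv F268922) D61368 (iv D60199)
theorem F273946 : act 7 n61368 = n60484 := d14_2 (iv F268923) D61368 (iv D60484)
theorem F273947 : act 8 n61368 = n60282 := d15_2 (iv F268924) D61368 (iv D60282)
theorem F273948 : act 9 n61368 = n60198 := d16_2 (iv F268925) D61368 (iv D60198)
def n61369 : Q := act 0 n60198
theorem D61369 : act 0 n60198 = n61369 := rfl
theorem F273949 : act 1 n61369 = n60670 := d0_2 D60198 D61369 (iv D60670) (iv D59479) (iv F263915)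
theorem F273950 : act 5 n61369 = n60200 := d4_2 (iv F268926) D61369 (iv D60200)
theorem F273951 : act 7 n61369 = n60679 := d6_2 (iv F268927) D61369 (iv D60679)
theorem F273952 : act 8 n61369 = n60202 := d7_2 (iv F268928) D61369 (iv D60202)
def n61370 : Q := act 0 n60199
theorem D61370 : act 0 n60199 = n61370 := rfl
theorem F273953 : act 1 n61370 = n60633 := d0_2 D60199 D61370 (iv D60633) (iv D59441) (iv F263919)
theorem F273954 : act 4 n61370 = n60614 := d3_2 (iv F268929) D61370 (iv D60614)
theorem F273955 : act 6 n61370 = n60654 := d5_2 (iv F268930) D61370 (iv D60654)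
theorem F273956 : act 7 n61370 = n60635 := d6_2 (iv F268931) D61370 (iv D60635)
theorem F273957 : act 8 n61370 = n60288 := d7_2 (iv F268932) D61370 (iv D60288)
theorem F273958 : act 9 n61370 = n60200 := d8_2 (iv F268933) D61370 (iv D60200)
def n61371 : Q := act 0 n60201
theorem D61371 : act 0 n60201 = n61371 := rfl
theorem F273959 : act 1 n61371 = n60395 := d0_2 D60201 D61371 (iv D60395) (iv D59170) (iv F263929)
theorem F273960 : act 2 n61371 = n60477 := d1_2 (iv F268939) D61371 (iv D60477)
theorem F273961 : act 3 n61371 = n60206 := d2_2 (iv F268940) D61371 (iv D60206)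
theorem F273962 : act 5 n61371 = n60657 := d4_2 (iv F268941) D61371 (iv D60657)
theorem F273963 : act 6 n61371 = n60202 := d5_2 (iv F268942) D61371 (iv D60202)
theorem F273964 : act 9 n61371 = n60298 := d8_2 (iv F268943) D61371 (iv D60298)
def n61372 : Q := act 4 n60202
theorem D61372 : act 4 n60202 = n61372 := rfl
theorem F273965 : act 0 n61372 = n60203 := d3_1 D61372 (iv D60203) D60202
theorem F273966 : act 1 n61372 = n60696 := d11_1 D61372 F270436 (iv F268944)
theorem F273967 : act 5 n61372 = n60363 := d30_2 (iv F268946) D61372 (iv D60363) F264566 (iv F263944)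
theorem F273968 : act 9 n61372 = n60301 := d34_2 (iv F268947) D61372 (iv D60301)
theorem F273969 : act 3 n60505 = n61372 := d25_3 F273967 F269552 D60505
def n61373 : Q := act 0 n60204
theorem D61373 : act 0 n60204 = n61373 := rfl
theorem F273970 : act 5 n61373 = n60660 := d4_2 (iv F268952) D61373 (iv D60660)
theorem F273971 : act 7 n61373 = n60206 := d6_2 (iv F268953) D61373 (iv D60206)
theorem F273972 : act 9 n61373 = n60306 := d8_2 (iv F268954) D61373 (iv D60306)
def n61374 : Q := act 4 n60204
theorem D61374 : act 4 n60204 = n61374 := rfl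
theorem F273973 : act 1 n61374 = n60205 := d11_1 D61374 (iv D60205) D60204
theorem F273974 : act 5 n61374 = n60569 := d30_2 (iv F268952) D61374 (iv D60569) (iv F266344) F266343
theorem F273975 : act 7 n61374 = n60207 := d32_2 (iv F268953) D61374 (iv D60207)
theorem F273976 : act 9 n61374 = n60307 := d34_2 (iv F268954) D61374 (iv D60307)
def n61375 : Q := act 3 n60205
theorem D61375 : act 3 n60205 = n61375 := rfl
theorem F273977 : act 2 n61375 = n60217 := d17_1 D61375 (iv D60217) F264005 (iv F263950) (iv F268955)
theorem F273978 : act 4 n61375 = n60325 := d24_2 D60205 D61375 (iv F272093) F272094 F268749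
theorem F273979 : act 5 n61375 = n60425 := d25_2 (iv F268956) D61375 F269771
theorem F273980 : act 7 n61375 = n60208 := d27_2 (iv F268957) D61375 (iv D60208)
theorem F273981 : act 9 n61375 = n60308 := d29_2 (iv F268958) D61375 (iv D60308)
def n61376 : Q := act 4 n60206
theorem D61376 : act 4 n60206 = n61376 := rfl
theorem F273982 : act 0 n61376 = n60207 := d3_1 D61376 (iv D60207) D60206
theorem F273983 : act 6 n61376 = n60209 := d31_2 (iv F268960) D61376 (iv D60209)
theorem F273984 : act 9 n61376 = n60309 := d34_2 (iv F268961) D61376 (iv D60309)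
def n61377 : Q := act 3 n60207
theorem D61377 : act 3 n60207 = n61377 := rfl
theorem F273985 : act 1 n61377 = n60208 := d10_1 D61377 (iv D60208) (iv F268962)
theorem F273986 : act 2 n61377 = n60302 := d17_1 D61377 (iv D60302) (iv F269205) (iv F271787) F271786
theorem F273987 : act 4 n61377 = n60313 := d24_2 D60207 D61377 (iv F272080) F272081 F268940
theorem F273988 : act 5 n61377 = n60436 := d25_2 F271343 D61377 (iv F271342)
theorem F273989 : act 6 n61377 = n60210 := d26_2 (iv F268963) D61377 (iv D60210)
theorem F273990 : act 9 n61377 = n60310 := d29_2 (iv F268964) D61377 (iv D60310)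
def n61378 : Q := act 8 n60208
theorem D61378 : act 8 n60208 = n61378 := rfl
theorem F273991 : act 2 n61378 = n60218 := d22_1 D61378 (iv D60218) (iv F268965)
theorem F273992 : act 4 n61378 = n60332 := d33_1 D61378 (iv D60332) (iv F268966)
theorem F273993 : act 5 n61378 = n60433 := d37_1 D61378 F269800 (iv F268967)
theorem F273994 : act 6 n61378 = n60211 := d40_1 D61378 (iv D60211) (iv F268968)
def n61379 : Q := act 3 n60209
theorem D61379 : act 3 n60209 = n61379 := rfl
theorem F273995 : act 0 n61379 = n60210 := d2_1 D61379 (iv D60210) (iv F268970)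
theorem F273996 : act 4 n61379 = n60505 := d24_2 D60209 D61379 F273969 (iv D61372) F268945
theorem F273997 : act 5 n61379 = n60504 := d25_2 F273312 D61379 (iv F273311)
theorem F273998 : act 9 n61379 = n60312 := d29_2 (iv F268971) D61379 (iv D60312)
def n61380 : Q := act 2 n60210
theorem D61380 : act 2 n60210 = n61380 := rfl
theorem F273999 : act 1 n61380 = n60219 := d9_1 D61380 (iv D60219) F264015 (iv F263964) (iv F268972)
theorem F274000 : act 3 n61380 = n60299 := d17_2 D60210 D61380 F271799 (iv D60920) F266806
theorem F274001 : act 4 n61380 = n60310 := d18_2 (iv F268973) D61380 (iv F269323)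
theorem F274002 : act 5 n61380 = n60486 := d19_2 (iv F268974) D61380 F269949
theorem F274003 : act 6 n61380 = n60302 := d20_2 F273989 D61380 (iv F273986)
theorem F274004 : act 9 n61380 = n60313 := d23_2 (iv F268975) D61380 (iv D60313)
def n61381 : Q := act 8 n60210
theorem D61381 : act 8 n60210 = n61381 := rfl
theorem F274005 : act 1 n61381 = n60211 := d15_1 D61381 (iv D60211) (iv F268972)
theorem F274006 : act 4 n61381 = n60499 := d33_1 D61381 F269977 (iv F268973)
theorem F274007 : act 5 n61381 = n60493 := d37_1 D61381 F269967 (iv F268974)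
def n61382 : Q := act 9 n60211
theorem D61382 : act 9 n60211 = n61382 := rfl
theorem F274008 : act 2 n61382 = n60221 := d23_1 D61382 (iv D60221) (iv F268976)
theorem F274009 : act 4 n61382 = n60497 := d34_1 D61382 F269973 (iv F268977)
theorem F274010 : act 5 n61382 = n60491 := d38_1 D61382 F269963 (iv F268978)
theorem F274011 : act 8 n61382 = n60315 := d44_1 D61382 (iv D60315) (iv D59071) (iv F263967) D60211
def n61383 : Q := act 3 n60212
theorem D61383 : act 3 n60212 = n61383 := rfl
theorem F274012 : act 1 n61383 = n60317 := d10_1 D61383 (iv D60317) (iv F268979)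
theorem F274013 : act 4 n61383 = n60322 := d24_2 D60212 D61383 (iv D60322) (iv D59078) (iv F263969)
theorem F274014 : act 6 n61383 = n60217 := d26_2 (iv F268981) D61383 (iv D60217)
theorem F274015 : act 7 n61383 = n60214 := d27_2 (iv F268982) D61383 (iv D60214)
theorem F274016 : act 9 n61383 = n60320 := d29_2 (iv F268984) D61383 (iv D60320)
def n61384 : Q := act 3 n60213
theorem D61384 : act 3 n60213 = n61384 := rfl
theorem F274017 : act 1 n61384 = n60214 := d10_1 D61384 (iv D60214) (iv F268985)
theorem F274018 : act 4 n61384 = n60320 := d24_2 D60213 D61384 (iv D60320) (iv D59076) (iv F263981)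
theorem F274019 : act 6 n61384 = n60215 := d26_2 (iv F268987) D61384 (iv D60215)
theorem F274020 : act 7 n61384 = n60317 := d27_2 (iv F268988) D61384 (iv D60317)
theorem F274021 : act 9 n61384 = n60322 := d29_2 (iv F268990) D61384 (iv D60322)
def n61385 : Q := act 8 n60214
theorem D61385 : act 8 n60214 = n61385 := rfl
theorem F274022 : act 3 n61385 = n61385 := d28_1 D61385 (iv D61385) (iv D60214) F263989 D60214
theorem F274023 : act 4 n61385 = n60469 := d33_1 D61385 F269902 (iv F268991)
theorem F274024 : act 6 n61385 = n60216 := d40_1 D61385 (iv D60216) (iv F268992)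
def n61386 : Q := act 2 n60215
theorem D61386 : act 2 n60215 = n61386 := rfl
theorem F274025 : act 3 n61386 = n60296 := d17_2 D60215 D61386 F269279 F264224 (iv F263995)
theorem F274026 : act 4 n61386 = n60308 := d18_2 (iv F268995) D61386 F269315
theorem F274027 : act 5 n61386 = n60456 := d19_2 (iv F268996) D61386 F269859
theorem F274028 : act 7 n61386 = n60219 := d21_2 (iv F268997) D61386 (iv D60219)
theorem F274029 : act 9 n61386 = n60325 := d23_2 (iv F268998) D61386 (iv D60325)
def n61387 : Q := act 9 n60216
theorem D61387 : act 9 n60216 = n61387 := rfl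
theorem F274030 : act 3 n61387 = n61387 := d29_1 D61387 (iv D61387) F268999
theorem F274031 : act 4 n61387 = n60465 := d34_1 D61387 F269892 (iv F269000)
theorem F274032 : act 5 n61387 = n60460 := d38_1 D61387 F269877 (iv F269001)
theorem F274033 : act 7 n61387 = n60221 := d43_1 D61387 (iv D60221) (iv F269002)
theorem F274034 : act 8 n61387 = n60327 := d44_1 D61387 (iv D60327) (iv D59082) (iv F264003) D60216
def n61388 : Q := act 8 n60217
theorem D61388 : act 8 n60217 = n61388 := rfl
theorem F274035 : act 1 n61388 = n60319 := d15_1 D61388 (iv D60319) (iv F269003)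
theorem F274036 : act 3 n61388 = n61388 := d28_1 D61388 (iv D61388) (iv D60217) F264008 D60217
theorem F274037 : act 4 n61388 = n60326 := d33_1 D61388 (iv D60326) (iv F269004)
theorem F274038 : act 5 n61388 = n60423 := d37_1 D61388 F269764 (iv F269005)
theorem F274039 : act 7 n61388 = n60218 := d42_1 D61388 (iv D60218) (iv F269006)
def n61389 : Q := act 9 n60218
theorem D61389 : act 9 n60218 = n61389 := rfl
theorem F274040 : act 1 n61389 = n60328 := d16_1 D61389 (iv D60328) (iv F269008)
theorem F274041 : act 3 n61389 = n61389 := d29_1 D61389 (iv D61389) F269009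
theorem F274042 : act 4 n61389 = n60252 := d34_1 D61389 F269145 (iv F269010)
theorem F274043 : act 5 n61389 = n60225 := d38_1 D61389 F269047 (iv F269011)
theorem F274044 : act 6 n61389 = n60221 := d41_1 D61389 (iv D60221) (iv F269012)
theorem F274045 : act 8 n61389 = n60329 := d44_1 D61389 (iv D60329) (iv D59086) (iv F264014) D60218
def n61390 : Q := act 8 n60219
theorem D61390 : act 8 n60219 = n61390 := rfl
theorem F274046 : act 2 n61390 = n60220 := d22_1 D61390 (iv D60220) D60219
theorem F274047 : act 4 n61390 = n60311 := d33_1 D61390 (iv D60311) (iv F269014)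
theorem F274048 : act 5 n61390 = n60479 := d37_1 D61390 F269930 (iv F269015)
theorem F274049 : act 6 n61390 = n60304 := d40_1 D61390 (iv D60304) (iv F269016)
def n61391 : Q := act 9 n60220
theorem D61391 : act 9 n60220 = n61391 := rfl
theorem F274050 : act 1 n61391 = n60221 := d16_1 D61391 (iv D60221) (iv F269018)
theorem F274051 : act 3 n61391 = n61391 := d29_1 D61391 (iv D61391) F269019
theorem F274052 : act 4 n61391 = n60329 := d34_1 D61391 (iv D60329) (iv F269020)
theorem F274053 : act 5 n61391 = n60242 := d38_1 D61391 F269109 (iv F269021)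
theorem F274054 : act 6 n61391 = n60328 := d41_1 D61391 (iv D60328) (iv F269022)
theorem F274055 : act 8 n61391 = n60252 := d44_1 D61391 F269145 (iv D59089) (iv F264019) D60220
def n61392 : Q := act 0 n60222
theorem D61392 : act 0 n60222 = n61392 := rfl
theorem F274056 : act 1 n61392 = n60634 := d0_2 D60222 D61392 (iv D60634) (iv D59442) (iv F264023)
theorem F274057 : act 2 n61392 = n60229 := d1_2 (iv F269027) D61392 (iv D60229)
theorem F274058 : act 4 n61392 = n60247 := d3_2 (iv F269028) D61392 (iv D60247)
theorem F274059 : act 6 n61392 = n60240 := d5_2 (iv F269029) D61392 (iv D60240)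
theorem F274060 : act 7 n61392 = n60291 := d6_2 (iv F269030) D61392 F269259
theorem F274061 : act 8 n61392 = n60256 := d7_2 (iv F269031) D61392 F269156
def n61393 : Q := act 0 n60223
theorem D61393 : act 0 n60223 = n61393 := rfl
theorem F274062 : act 2 n61393 = n60256 := d1_2 (iv F269032) D61393 F269156
theorem F274063 : act 4 n61393 = n60240 := d3_2 (iv F269033) D61393 (iv D60240)
theorem F274064 : act 6 n61393 = n60247 := d5_2 (iv F269034) D61393 (iv D60247)
theorem F274065 : act 7 n61393 = n60274 := d6_2 (iv F269035) D61393 F269206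
theorem F274066 : act 8 n61393 = n60229 := d7_2 (iv F269036) D61393 (iv D60229)
theorem F274067 : act 9 n61393 = n60611 := d8_2 (iv F269037) D61393 (iv D60611)
def n61394 : Q := act 1 n60224
theorem D61394 : act 1 n60224 = n61394 := rfl
theorem F274068 : act 2 n61394 = n60438 := d9_2 D60224 D61394 (iv D60438) (iv D59216) (iv F264033)
theorem F274069 : act 3 n61394 = n60232 := d10_2 (iv F269038) D61394 (iv D60232)
theorem F274070 : act 5 n61394 = n60250 := d12_2 (iv F269039) D61394 (iv D60250)
theorem F274071 : act 6 n61394 = n60226 := d13_2 (iv F269040) D61394 (iv D60226)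
theorem F274072 : act 8 n61394 = n60480 := d15_2 (iv F269041) D61394 (iv D60480)
theorem F274073 : act 9 n61394 = n60432 := d16_2 (iv F269042) D61394 (iv D60432)
def n61395 : Q := act 4 n60224
theorem D61395 : act 4 n60224 = n61395 := rfl
theorem F274074 : act 2 n61395 = n60225 := d18_1 D61395 (iv D60225) D60224
theorem F274075 : act 6 n61395 = n60227 := d31_2 (iv F269040) D61395 (iv D60227)
theorem F274076 : act 8 n61395 = n60481 := d33_2 (iv F269041) D61395 (iv D60481)
theorem F274077 : act 9 n61395 = n60433 := d34_2 (iv F269042) D61395 (iv D60433)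
def n61396 : Q := act 0 n60226
theorem D61396 : act 0 n60226 = n61396 := rfl
theorem F274078 : act 3 n61396 = n60234 := d2_2 (iv F269048) D61396 (iv D60234)
theorem F274079 : act 5 n61396 = n60229 := d4_2 (iv F269049) D61396 (iv D60229)
theorem F274080 : act 7 n61396 = n60661 := d6_2 (iv F269050) D61396 (iv D60661)
def n61397 : Q := act 4 n60226
theorem D61397 : act 4 n60226 = n61397 := rfl
theorem F274081 : act 1 n61397 = n60227 := d11_1 D61397 (iv D60227) D60226
theorem F274082 : act 7 n61397 = n60662 := d32_2 (iv F269050) D61397 (iv D60662)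
def n61398 : Q := act 3 n60227
theorem D61398 : act 3 n60227 = n61398 := rfl
theorem F274083 : act 2 n61398 = n61398 := d17_1 D61398 (iv D61398) F269051 F264041 (iv F269051)
theorem F274084 : act 4 n61398 = n60236 := d24_2 D60227 D61398 (iv D60236) (iv D59001) (iv F264038)
theorem F274085 : act 7 n61398 = n60663 := d27_2 (iv F269052) D61398 (iv D60663)
def n61399 : Q := act 5 n60227
theorem D61399 : act 5 n60227 = n61399 := rfl
theorem F274086 : act 0 n61399 = n60628 := d4_1 D61399 (iv F273543) F273541
theorem F274087 : act 2 n61399 = n60228 := d19_1 D61399 (iv D60228) (iv F269051)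
theorem F274088 : act 4 n61399 = n60231 := d30_1 D61399 (iv D60231) (iv D58996) (iv F264039) D60227
theorem F274089 : act 7 n61399 = n60269 := d36_2 (iv F269052) D61399 F269191
theorem F274090 : act 8 n61399 = n60239 := d37_2 F271976 D61399 (iv F271973)
theorem F274091 : act 9 n61399 = n60489 := d38_2 F271699 D61399 (iv F271695)
theorem F274092 : act 6 n60491 = n61399 := d41_3 F274091 F269958 (iv F269963)
def n61400 : Q := act 4 n60229
theorem D61400 : act 4 n60229 = n61400 := rfl
theorem F274093 : act 0 n61400 = n60230 := d3_1 D61400 (iv D60230) D60229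
theorem F274094 : act 1 n61400 = n60629 := d11_1 D61400 (iv F273550) F273547
theorem F274095 : act 2 n61400 = n60247 := d18_1 D61400 (iv F274058) F274057
theorem F274096 : act 3 n61400 = n60598 := d24_1 D61400 (iv F273317) F273316 F268277 (iv F269061)
theorem F274097 : act 6 n61400 = n60256 := d31_2 (iv F269062) D61400 (iv D60256)
theorem F274098 : act 7 n61400 = n60270 := d32_2 (iv F269063) D61400 F269194
theorem F274099 : act 8 n61400 = n60240 := d33_2 F274066 D61400 (iv F274063)
theorem F274100 : act 9 n61400 = n60607 := d34_2 F273867 D61400 (iv F273863)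
def n61401 : Q := act 5 n60230
theorem D61401 : act 5 n60230 = n61401 := rfl
theorem F274101 : act 1 n61401 = n60231 := d12_1 D61401 (iv D60231) (iv F269064)
theorem F274102 : act 2 n61401 = n60244 := d19_1 D61401 F269116 (iv F269065)
theorem F274103 : act 3 n61401 = n60596 := d25_1 D61401 F270204 (iv F269066)
theorem F274104 : act 6 n61401 = n60490 := d35_2 (iv F269067) D61401 F269960 (iv F267018) F267017
theorem F274105 : act 7 n61401 = n60268 := d36_2 (iv F269068) D61401 F269188
theorem F274106 : act 8 n61401 = n60238 := d37_2 (iv F269069) D61401 F269095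
theorem F274107 : act 9 n61401 = n60488 := d38_2 (iv F269070) D61401 F269953
def n61402 : Q := act 0 n60232
theorem D61402 : act 0 n60232 = n61402 := rfl
theorem F274108 : act 5 n61402 = n60259 := d4_2 (iv F269078) D61402 (iv D60259)
theorem F274109 : act 6 n61402 = n60234 := d5_2 (iv F269079) D61402 (iv D60234)
def n61403 : Q := act 4 n60232
theorem D61403 : act 4 n60232 = n61403 := rfl
theorem F274110 : act 1 n61403 = n60233 := d11_1 D61403 (iv D60233) D60232
theorem F274111 : act 6 n61403 = n60235 := d31_2 (iv F269079) D61403 (iv D60235)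
def n61404 : Q := act 3 n60233
theorem D61404 : act 3 n60233 = n61404 := rfl
theorem F274112 : act 2 n61404 = n61404 := d17_1 D61404 (iv D61404) F269080 F264062 (iv F269080)
theorem F274113 : act 6 n61404 = n60236 := d26_2 (iv F269081) D61404 (iv D60236)
def n61405 : Q := act 4 n60234
theorem D61405 : act 4 n60234 = n61405 := rfl
theorem F274114 : act 0 n61405 = n60235 := d3_1 D61405 (iv D60235) D60234
theorem F274115 : act 7 n61405 = n60667 := d32_2 (iv F269083) D61405 (iv D60667)
def n61406 : Q := act 3 n60235
theorem D61406 : act 3 n60235 = n61406 := rfl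
theorem F274116 : act 1 n61406 = n60236 := d10_1 D61406 (iv D60236) (iv F269084)
theorem F274117 : act 7 n61406 = n60668 := d27_2 (iv F269085) D61406 (iv D60668)
def n61407 : Q := act 8 n60236
theorem D61407 : act 8 n60236 = n61407 := rfl
theorem F274118 : act 0 n61407 = n60586 := d7_1 D61407 (iv F273563) F273559
theorem F274119 : act 2 n61407 = n61407 := d22_1 D61407 (iv D61407) F269086
theorem F274120 : act 3 n61407 = n60576 := d28_1 D61407 (iv F272322) F272318 F267897 D60236
theorem F274121 : act 5 n61407 = n60610 := d37_1 D61407 (iv F273335) F273333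
theorem F274122 : act 7 n61407 = n60669 := d42_1 D61407 (iv D60669) (iv F269087)
def n61408 : Q := act 0 n60237
theorem D61408 : act 0 n60237 = n61408 := rfl
theorem F274123 : act 1 n61408 = n60240 := d0_2 D60237 D61408 (iv D60240) (iv D59006) (iv F264070)
theorem F274124 : act 2 n61408 = n60614 := d1_2 (iv F269088) D61408 (iv D60614)
theorem F274125 : act 6 n61408 = n60634 := d5_2 (iv F269089) D61408 (iv D60634)
theorem F274126 : act 7 n61408 = n60266 := d6_2 (iv F269090) D61408 (iv D60266)
theorem F274127 : act 8 n61408 = n60629 := d7_2 (iv F269091) D61408 (iv D60629)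
theorem F274128 : act 9 n61408 = n60613 := d8_2 (iv F269092) D61408 (iv D60613)
def n61409 : Q := act 0 n60238
theorem D61409 : act 0 n60238 = n61409 := rfl
theorem F274129 : act 2 n61409 = n60253 := d1_2 (iv F269093) D61409 (iv D60253)
theorem F274130 : act 3 n61409 = n60613 := d2_2 (iv F269094) D61409 (iv D60613)
theorem F274131 : act 5 n61409 = n60240 := d4_2 (iv F269095) D61409 (iv D60240)
theorem F274132 : act 7 n61409 = n60272 := d6_2 (iv F269096) D61409 (iv D60272)
def n61410 : Q := act 4 n60238
theorem D61410 : act 4 n60238 = n61410 := rfl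
theorem F274133 : act 1 n61410 = n60239 := d11_1 D61410 (iv D60239) D60238
theorem F274134 : act 2 n61410 = n60254 := d18_1 D61410 (iv D60254) (iv F269093)
theorem F274135 : act 7 n61410 = n60273 := d32_2 (iv F269096) D61410 (iv D60273)
def n61411 : Q := act 1 n60241
theorem D61411 : act 1 n60241 = n61411 := rfl
theorem F274136 : act 2 n61411 = n60490 := d9_2 D60241 D61411 (iv D60490) (iv D59268) (iv F264083)
theorem F274137 : act 5 n61411 = n60480 := d12_2 (iv F269101) D61411 (iv D60480)
theorem F274138 : act 6 n61411 = n60244 := d13_2 (iv F269102) D61411 (iv D60244)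
theorem F274139 : act 8 n61411 = n60250 := d15_2 (iv F269103) D61411 (iv D60250)
theorem F274140 : act 9 n61411 = n60478 := d16_2 (iv F269104) D61411 (iv D60478)
def n61412 : Q := act 4 n60241
theorem D61412 : act 4 n60241 = n61412 := rfl
theorem F274141 : act 2 n61412 = n60242 := d18_1 D61412 (iv D60242) D60241
theorem F274142 : act 6 n61412 = n60245 := d31_2 (iv F269102) D61412 (iv D60245)
theorem F274143 : act 8 n61412 = n60251 := d33_2 (iv F269103) D61412 (iv D60251)
theorem F274144 : act 9 n61412 = n60479 := d34_2 (iv F269104) D61412 (iv D60479)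
def n61413 : Q := act 1 n60243
theorem D61413 : act 1 n60243 = n61413 := rfl
theorem F274145 : act 2 n61413 = n60488 := d9_2 D60243 D61413 (iv D60488) (iv D59266) (iv F264089)
theorem F274146 : act 5 n61413 = n60246 := d12_2 (iv F269111) D61413 (iv D60246)
theorem F274147 : act 6 n61413 = n60478 := d13_2 (iv F269112) D61413 (iv D60478)
theorem F274148 : act 7 n61413 = n60282 := d14_2 (iv F269113) D61413 (iv D60282)
theorem F274149 : act 8 n61413 = n60484 := d15_2 (iv F269114) D61413 (iv D60484)
theorem F274150 : act 9 n61413 = n60244 := d16_2 (iv F269115) D61413 (iv D60244)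
def n61414 : Q := act 0 n60244
theorem D61414 : act 0 n60244 = n61414 := rfl
theorem F274151 : act 5 n61414 = n60247 := d4_2 (iv F269116) D61414 (iv D60247)
theorem F274152 : act 7 n61414 = n60284 := d6_2 (iv F269117) D61414 (iv D60284)
theorem F274153 : act 8 n61414 = n60253 := d7_2 (iv F269118) D61414 (iv D60253)
def n61415 : Q := act 4 n60244
theorem D61415 : act 4 n60244 = n61415 := rfl
theorem F274154 : act 1 n61415 = n60245 := d11_1 D61415 (iv D60245) D60244
theorem F274155 : act 7 n61415 = n60285 := d32_2 (iv F269117) D61415 (iv D60285)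
theorem F274156 : act 8 n61415 = n60254 := d33_2 (iv F269118) D61415 (iv D60254)
def n61416 : Q := act 3 n60245
theorem D61416 : act 3 n60245 = n61416 := rfl
theorem F274157 : act 2 n61416 = n61416 := d17_1 D61416 (iv D61416) F269119 F264098 (iv F269119)
theorem F274158 : act 7 n61416 = n60286 := d27_2 (iv F269120) D61416 (iv D60286)
def n61417 : Q := act 0 n60246
theorem D61417 : act 0 n60246 = n61417 := rfl
theorem F274159 : act 1 n61417 = n60640 := d0_2 D60246 D61417 (iv D60640) (iv D59449) (iv F264101)
theorem F274160 : act 2 n61417 = n60607 := d1_2 (iv F269122) D61417 (iv D60607)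
theorem F274161 : act 6 n61417 = n60611 := d5_2 (iv F269123) D61417 (iv D60611)
theorem F274162 : act 7 n61417 = n60288 := d6_2 (iv F269124) D61417 (iv D60288)
theorem F274163 : act 8 n61417 = n60635 := d7_2 (iv F269125) D61417 (iv D60635)
theorem F274164 : act 9 n61417 = n60247 := d8_2 (iv F269126) D61417 (iv D60247)
def n61418 : Q := act 1 n60248
theorem D61418 : act 1 n60248 = n61418 := rfl
theorem F274165 : act 2 n61418 = n60622 := d9_2 D60248 D61418 (iv D60622) (iv D59429) (iv F264108)
theorem F274166 : act 3 n61418 = n60257 := d10_2 (iv F269129) D61418 (iv D60257)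
theorem F274167 : act 6 n61418 = n60295 := d13_2 (iv F269130) D61418 (iv D60295)
theorem F274168 : act 7 n61418 = n60250 := d14_2 (iv F269131) D61418 (iv D60250)
theorem F274169 : act 9 n61418 = n60617 := d16_2 (iv F269132) D61418 (iv D60617)
def n61419 : Q := act 4 n60248
theorem D61419 : act 4 n60248 = n61419 := rfl
theorem F274170 : act 2 n61419 = n60249 := d18_1 D61419 (iv D60249) D60248
theorem F274171 : act 6 n61419 = n60296 := d31_2 (iv F269130) D61419 (iv D60296)
theorem F274172 : act 7 n61419 = n60251 := d32_2 (iv F269131) D61419 (iv D60251)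
theorem F274173 : act 9 n61419 = n60618 := d34_2 (iv F269132) D61419 (iv D60618)
def n61420 : Q := act 5 n60249
theorem D61420 : act 5 n60249 = n61420 := rfl
theorem F274174 : act 1 n61420 = n60327 := d12_1 D61420 F269374 (iv F269133)
theorem F274175 : act 3 n61420 = n60316 := d25_1 D61420 (iv D60316) (iv F269134)
theorem F274176 : act 7 n61420 = n60252 := d36_2 (iv F269136) D61420 (iv D60252)
theorem F274177 : act 9 n61420 = n60326 := d38_2 (iv F269137) D61420 F269371
def n61421 : Q := act 0 n60250
theorem D61421 : act 0 n60250 = n61421 := rfl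
theorem F274178 : act 3 n61421 = n60259 := d2_2 (iv F269138) D61421 (iv D60259)
theorem F274179 : act 6 n61421 = n60253 := d5_2 (iv F269139) D61421 (iv D60253)
def n61422 : Q := act 4 n60250
theorem D61422 : act 4 n60250 = n61422 := rfl
theorem F274180 : act 1 n61422 = n60251 := d11_1 D61422 (iv D60251) D60250
theorem F274181 : act 6 n61422 = n60254 := d31_2 (iv F269139) D61422 (iv D60254)
def n61423 : Q := act 3 n60251
theorem D61423 : act 3 n60251 = n61423 := rfl
theorem F274182 : act 2 n61423 = n60317 := d17_1 D61423 (iv D60317) F264274 (iv F264114) (iv F269140)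
theorem F274183 : act 4 n61423 = n60261 := d24_2 D60251 D61423 (iv D60261) (iv D59023) (iv F264112)
theorem F274184 : act 6 n61423 = n60255 := d26_2 (iv F269141) D61423 (iv D60255)
theorem F274185 : act 9 n61423 = n60474 := d29_2 F272038 D61423 (iv F272034)
def n61424 : Q := act 5 n60251
theorem D61424 : act 5 n60251 = n61424 := rfl
theorem F274186 : act 2 n61424 = n60252 := d19_1 D61424 (iv D60252) (iv F269140)
theorem F274187 : act 6 n61424 = n60497 := d35_2 (iv F269141) D61424 (iv D60497) (iv F267025) F267024
theorem F274188 : act 9 n61424 = n60332 := d38_2 F272038 D61424 (iv F272036)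
def n61425 : Q := act 4 n60253
theorem D61425 : act 4 n60253 = n61425 := rfl
theorem F274189 : act 0 n61425 = n60254 := d3_1 D61425 (iv D60254) D60253
theorem F274190 : act 7 n61425 = n60301 := d32_2 (iv F269148) D61425 (iv D60301)
def n61426 : Q := act 3 n60254
theorem D61426 : act 3 n60254 = n61426 := rfl
theorem F274191 : act 1 n61426 = n60255 := d10_1 D61426 (iv D60255) (iv F269149)
theorem F274192 : act 4 n61426 = n60264 := d24_2 D60254 D61426 (iv D60264) (iv D59026) (iv F264116)
theorem F274193 : act 5 n61426 = n60431 := d25_2 F272016 D61426 (iv F272015)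
theorem F274194 : act 7 n61426 = n60302 := d27_2 (iv F269150) D61426 (iv D60302)
theorem F274195 : act 9 n61426 = n60473 := d29_2 F272031 D61426 (iv F272027)
def n61427 : Q := act 8 n60255
theorem D61427 : act 8 n60255 = n61427 := rfl
theorem F274196 : act 2 n61427 = n60319 := d22_1 D61427 (iv D60319) (iv F269151)
theorem F274197 : act 4 n61427 = n60265 := d33_1 D61427 (iv D60265) (iv F269152)
theorem F274198 : act 5 n61427 = n60429 := d37_1 D61427 F269789 (iv F269153)
theorem F274199 : act 7 n61427 = n60304 := d42_1 D61427 (iv D60304) (iv F269154)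
def n61428 : Q := act 0 n60257
theorem D61428 : act 0 n60257 = n61428 := rfl
theorem F274200 : act 6 n61428 = n60306 := d5_2 (iv F269161) D61428 (iv D60306)
theorem F274201 : act 7 n61428 = n60259 := d6_2 (iv F269162) D61428 (iv D60259)
def n61429 : Q := act 4 n60257
theorem D61429 : act 4 n60257 = n61429 := rfl
theorem F274202 : act 1 n61429 = n60258 := d11_1 D61429 (iv D60258) D60257
theorem F274203 : act 6 n61429 = n60307 := d31_2 (iv F269161) D61429 (iv D60307)
theorem F274204 : act 7 n61429 = n60260 := d32_2 (iv F269162) D61429 (iv D60260)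
theorem F274205 : act 8 n61429 = n60574 := d33_2 F272568 D61429 (iv F272564)
def n61430 : Q := act 3 n60258
theorem D61430 : act 3 n60258 = n61430 := rfl
theorem F274206 : act 2 n61430 = n60320 := d17_1 D61430 (iv D60320) F264288 (iv F264129) (iv F269163)
theorem F274207 : act 6 n61430 = n60308 := d26_2 (iv F269164) D61430 (iv D60308)
theorem F274208 : act 7 n61430 = n60261 := d27_2 (iv F269165) D61430 (iv D60261)
def n61431 : Q := act 4 n60259
theorem D61431 : act 4 n60259 = n61431 := rfl
theorem F274209 : act 0 n61431 = n60260 := d3_1 D61431 (iv D60260) D60259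
theorem F274210 : act 6 n61431 = n60263 := d31_2 (iv F269167) D61431 (iv D60263)
def n61432 : Q := act 3 n60260
theorem D61432 : act 3 n60260 = n61432 := rfl
theorem F274211 : act 1 n61432 = n60261 := d10_1 D61432 (iv D60261) (iv F269168)
theorem F274212 : act 6 n61432 = n60264 := d26_2 (iv F269169) D61432 (iv D60264)
def n61433 : Q := act 5 n60260
theorem D61433 : act 5 n60260 = n61433 := rfl
theorem F274213 : act 1 n61433 = n60262 := d12_1 D61433 (iv D60262) (iv F269168)
def n61434 : Q := act 8 n60261
theorem D61434 : act 8 n60261 = n61434 := rfl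
theorem F274214 : act 2 n61434 = n60323 := d22_1 D61434 (iv D60323) (iv F269170)
theorem F274215 : act 6 n61434 = n60265 := d40_1 D61434 (iv D60265) (iv F269171)
def n61435 : Q := act 3 n60263
theorem D61435 : act 3 n60263 = n61435 := rfl
theorem F274216 : act 0 n61435 = n60264 := d2_1 D61435 (iv D60264) (iv F269173)
theorem F274217 : act 5 n61435 = n60626 := d25_2 F273338 D61435 (iv F273337)
theorem F274218 : act 7 n61435 = n60312 := d27_2 (iv F269174) D61435 (iv D60312)
def n61436 : Q := act 2 n60264
theorem D61436 : act 2 n60264 = n61436 := rfl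
theorem F274219 : act 1 n61436 = n60325 := d9_1 D61436 (iv D60325) F264310 (iv F264141) (iv F269175)
theorem F274220 : act 5 n61436 = n60620 := d19_2 (iv F269176) D61436 F270257
theorem F274221 : act 7 n61436 = n60313 := d21_2 (iv F269177) D61436 (iv D60313)
def n61437 : Q := act 8 n60264
theorem D61437 : act 8 n60264 = n61437 := rfl
theorem F274222 : act 1 n61437 = n60265 := d15_1 D61437 (iv D60265) (iv F269175)
theorem F274223 : act 5 n61437 = n60625 := d37_1 D61437 F270266 (iv F269176)
theorem F274224 : act 7 n61437 = n60314 := d42_1 D61437 (iv D60314) (iv F269177)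
def n61438 : Q := act 9 n60265
theorem D61438 : act 9 n60265 = n61438 := rfl
theorem F274225 : act 2 n61438 = n60327 := d23_1 D61438 (iv D60327) (iv F269178)
theorem F274226 : act 5 n61438 = n60623 := d38_1 D61438 F270262 (iv F269179)
theorem F274227 : act 7 n61438 = n60315 := d43_1 D61438 (iv D60315) (iv F269180)
def n61439 : Q := act 1 n60267
theorem D61439 : act 1 n60267 = n61439 := rfl
theorem F274228 : act 2 n61439 = n60279 := d9_2 D60267 D61439 (iv D60279) (iv D59040) (iv F264146)
theorem F274229 : act 5 n61439 = n60677 := d12_2 (iv F269184) D61439 F270392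
theorem F274230 : act 6 n61439 = n60268 := d13_2 (iv F269185) D61439 (iv D60268)
theorem F274231 : act 8 n61439 = n60271 := d15_2 (iv F269186) D61439 (iv D60271)
def n61440 : Q := act 0 n60268
theorem D61440 : act 0 n60268 = n61440 := rfl
theorem F274232 : act 2 n61440 = n60284 := d1_2 (iv F269187) D61440 (iv D60284)
theorem F274233 : act 5 n61440 = n60270 := d4_2 (iv F269188) D61440 (iv D60270)
theorem F274234 : act 8 n61440 = n60272 := d7_2 (iv F269189) D61440 (iv D60272)
def n61441 : Q := act 4 n60268
theorem D61441 : act 4 n60268 = n61441 := rfl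
theorem F274235 : act 1 n61441 = n60269 := d11_1 D61441 (iv D60269) D60268
theorem F274236 : act 2 n61441 = n60285 := d18_1 D61441 (iv D60285) (iv F269187)
theorem F274237 : act 5 n61441 = n60662 := d30_2 (iv F269188) D61441 (iv D60662) F265434 (iv F264157)
theorem F274238 : act 8 n61441 = n60273 := d33_2 (iv F269189) D61441 (iv D60273)
def n61442 : Q := act 3 n60269
theorem D61442 : act 3 n60269 = n61442 := rfl
theorem F274239 : act 2 n61442 = n61442 := d17_1 D61442 (iv D61442) F269190 F264153 (iv F269190)
theorem F274240 : act 5 n61442 = n60663 := d25_2 (iv F269191) D61442 (iv D60663)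
theorem F274241 : act 8 n61442 = n60632 := d28_2 (iv F269192) D61442 (iv D60632) (iv F266800) F266797
def n61443 : Q := act 0 n60271
theorem D61443 : act 0 n60271 = n61443 := rfl
theorem F274242 : act 1 n61443 = n60435 := d0_2 D60271 D61443 (iv D60435) (iv D59213) (iv F264160)
theorem F274243 : act 2 n61443 = n60298 := d1_2 (iv F269197) D61443 (iv D60298)
theorem F274244 : act 3 n61443 = n60635 := d2_2 (iv F269198) D61443 (iv D60635)
theorem F274245 : act 5 n61443 = n60680 := d4_2 (iv F269199) D61443 (iv D60680)
theorem F274246 : act 6 n61443 = n60272 := d5_2 (iv F269200) D61443 (iv D60272)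
theorem F274247 : act 9 n61443 = n60477 := d8_2 (iv F269201) D61443 (iv D60477)
def n61444 : Q := act 4 n60272
theorem D61444 : act 4 n60272 = n61444 := rfl
theorem F274248 : act 0 n61444 = n60273 := d3_1 D61444 (iv D60273) D60272
theorem F274249 : act 2 n61444 = n60301 := d18_1 D61444 (iv D60301) (iv F269202)
def n61445 : Q := act 1 n60275
theorem D61445 : act 1 n60275 = n61445 := rfl
theorem F274250 : act 3 n61445 = n60374 := d10_2 (iv F269212) D61445 (iv D60374)
theorem F274251 : act 5 n61445 = n60371 := d12_2 (iv F269213) D61445 (iv D60371)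
theorem F274252 : act 7 n61445 = n60279 := d14_2 (iv F269214) D61445 (iv D60279)
theorem F274253 : act 8 n61445 = n60295 := d15_2 (iv F269215) D61445 (iv D60295)
def n61446 : Q := act 4 n60275
theorem D61446 : act 4 n60275 = n61446 := rfl
theorem F274254 : act 0 n61446 = n60447 := d3_1 D61446 (iv D60447) (iv F269211)
theorem F274255 : act 2 n61446 = n60276 := d18_1 D61446 (iv D60276) D60275
theorem F274256 : act 7 n61446 = n60280 := d32_2 (iv F269214) D61446 (iv D60280)
theorem F274257 : act 8 n61446 = n60296 := d33_2 (iv F269215) D61446 (iv D60296)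
def n61447 : Q := act 5 n60276
theorem D61447 : act 5 n60276 = n61447 := rfl
theorem F274258 : act 0 n61447 = n60448 := d4_1 D61447 (iv D60448) (iv F269216)
theorem F274259 : act 3 n61447 = n61447 := d25_1 D61447 (iv D61447) F269217
theorem F274260 : act 4 n61447 = n60373 := d30_1 D61447 (iv D60373) (iv D59149) (iv F264176) D60276
theorem F274261 : act 7 n61447 = n60281 := d36_2 (iv F269218) D61447 (iv D60281)
theorem F274262 : act 8 n61447 = n60297 := d37_2 (iv F269219) D61447 (iv D60297)
def n61448 : Q := act 1 n60277
theorem D61448 : act 1 n60277 = n61448 := rfl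
theorem F274263 : act 5 n61448 = n60685 := d12_2 (iv F269220) D61448 (iv D60685)
theorem F274264 : act 6 n61448 = n60282 := d13_2 (iv F269221) D61448 (iv D60282)
theorem F274265 : act 9 n61448 = n60279 := d16_2 (iv F269222) D61448 (iv D60279)
def n61449 : Q := act 4 n60277
theorem D61449 : act 4 n60277 = n61449 := rfl
theorem F274266 : act 2 n61449 = n60278 := d18_1 D61449 (iv D60278) D60277
theorem F274267 : act 6 n61449 = n60283 := d31_2 (iv F269221) D61449 (iv D60283)
theorem F274268 : act 9 n61449 = n60280 := d34_2 (iv F269222) D61449 (iv D60280)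
def n61450 : Q := act 5 n60278
theorem D61450 : act 5 n60278 = n61450 := rfl
theorem F274269 : act 3 n61450 = n61450 := d25_1 D61450 (iv D61450) F269223
theorem F274270 : act 4 n61450 = n60687 := d30_1 D61450 (iv D60687) (iv D59500) (iv F264179) D60278
theorem F274271 : act 9 n61450 = n60281 := d38_2 (iv F269225) D61450 (iv D60281)
def n61451 : Q := act 0 n60279
theorem D61451 : act 0 n60279 = n61451 := rfl
theorem F274272 : act 5 n61451 = n60688 := d4_2 (iv F269226) D61451 (iv D60688)
theorem F274273 : act 6 n61451 = n60284 := d5_2 (iv F269227) D61451 (iv D60284)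
theorem F274274 : act 8 n61451 = n60298 := d7_2 (iv F269228) D61451 (iv D60298)
def n61452 : Q := act 4 n60279
theorem D61452 : act 4 n60279 = n61452 := rfl
theorem F274275 : act 1 n61452 = n60280 := d11_1 D61452 (iv D60280) D60279
theorem F274276 : act 6 n61452 = n60285 := d31_2 (iv F269227) D61452 (iv D60285)
theorem F274277 : act 8 n61452 = n60299 := d33_2 (iv F269228) D61452 (iv D60299)
def n61453 : Q := act 3 n60280
theorem D61453 : act 3 n60280 = n61453 := rfl
theorem F274278 : act 2 n61453 = n61453 := d17_1 D61453 (iv D61453) F269229 F264185 (iv F269229)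
theorem F274279 : act 6 n61453 = n60286 := d26_2 (iv F269230) D61453 (iv D60286)
def n61454 : Q := act 5 n60280
theorem D61454 : act 5 n60280 = n61454 := rfl
theorem F274280 : act 2 n61454 = n60281 := d19_1 D61454 (iv D60281) (iv F269229)
theorem F274281 : act 4 n61454 = n60684 := d30_1 D61454 F270409 (iv D59502) (iv F264182) D60280
theorem F274282 : act 8 n61454 = n60300 := d37_2 (iv F269231) D61454 (iv D60300)
def n61455 : Q := act 0 n60282
theorem D61455 : act 0 n60282 = n61455 := rfl
theorem F274283 : act 5 n61455 = n60288 := d4_2 (iv F269235) D61455 (iv D60288)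
theorem F274284 : act 9 n61455 = n60284 := d8_2 (iv F269236) D61455 (iv D60284)
def n61456 : Q := act 4 n60282
theorem D61456 : act 4 n60282 = n61456 := rfl
theorem F274285 : act 1 n61456 = n60283 := d11_1 D61456 (iv D60283) D60282
theorem F274286 : act 9 n61456 = n60285 := d34_2 (iv F269236) D61456 (iv D60285)
def n61457 : Q := act 3 n60283
theorem D61457 : act 3 n60283 = n61457 := rfl
theorem F274287 : act 2 n61457 = n61457 := d17_1 D61457 (iv D61457) F269237 F264190 (iv F269237)
theorem F274288 : act 9 n61457 = n60286 := d29_2 (iv F269238) D61457 (iv D60286)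
def n61458 : Q := act 4 n60284
theorem D61458 : act 4 n60284 = n61458 := rfl
theorem F274289 : act 0 n61458 = n60285 := d3_1 D61458 (iv D60285) D60284
theorem F274290 : act 8 n61458 = n60301 := d33_2 (iv F269240) D61458 (iv D60301)
def n61459 : Q := act 3 n60285
theorem D61459 : act 3 n60285 = n61459 := rfl
theorem F274291 : act 1 n61459 = n60286 := d10_1 D61459 (iv D60286) (iv F269241)
def n61460 : Q := act 5 n60285
theorem D61460 : act 5 n60285 = n61460 := rfl
theorem F274292 : act 1 n61460 = n60287 := d12_1 D61460 (iv D60287) (iv F269241)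
theorem F274293 : act 2 n61460 = n60662 := d19_1 D61460 (iv F274237) F274236
theorem F274294 : act 4 n61460 = n60293 := d30_1 D61460 (iv D60293) (iv D59050) (iv F264192) D60285
theorem F274295 : act 8 n61460 = n60303 := d37_2 (iv F269242) D61460 (iv D60303)
def n61461 : Q := act 5 n60286
theorem D61461 : act 5 n60286 = n61461 := rfl
theorem F274296 : act 0 n61461 = n60653 := d4_1 D61461 (iv F273655) F273653
theorem F274297 : act 2 n61461 = n61461 := d19_1 D61461 (iv D61461) F269243
theorem F274298 : act 3 n61461 = n60287 := d25_1 D61461 (iv D60287) D60286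
theorem F274299 : act 8 n60442 = n61461 := d28_0 F274298 F269247 F264242 (iv F264856) D60442
def n61462 : Q := act 8 n60286
theorem D61462 : act 8 n60286 = n61462 := rfl
theorem F274300 : act 2 n61462 = n61462 := d22_1 D61462 (iv D61462) F269243
theorem F274301 : act 3 n61462 = n60304 := d28_1 D61462 (iv D60304) (iv D59060) (iv F264195) D60286
theorem F274302 : act 5 n61462 = n60442 := d37_1 D61462 F274299 (iv D61461)
def n61463 : Q := act 4 n60288
theorem D61463 : act 4 n60288 = n61463 := rfl
theorem F274303 : act 0 n61463 = n60289 := d3_1 D61463 (iv D60289) D60288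
theorem F274304 : act 1 n61463 = n60654 := d11_1 D61463 (iv F273658) F273656
theorem F274305 : act 2 n61463 = n60629 := d18_1 D61463 (iv F273550) F273548
theorem F274306 : act 6 n61463 = n60633 := d31_2 (iv F269248) D61463 F270283
theorem F274307 : act 8 n61463 = n60614 := d33_2 F273957 D61463 (iv F273954)
theorem F274308 : act 9 n61463 = n60291 := d34_2 (iv F269249) D61463 (iv D60291)
def n61464 : Q := act 3 n60289
theorem D61464 : act 3 n60289 = n61464 := rfl
theorem F274309 : act 1 n61464 = n60290 := d10_1 D61464 (iv D60290) (iv F269250)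
theorem F274310 : act 2 n61464 = n60418 := d17_1 D61464 F269745 F264791 (iv F265354) (iv F269251)
theorem F274311 : act 6 n61464 = n60424 := d26_2 (iv F269252) D61464 F269766
theorem F274312 : act 9 n61464 = n60292 := d29_2 (iv F269254) D61464 (iv D60292)
def n61465 : Q := act 3 n60291
theorem D61465 : act 3 n60291 = n61465 := rfl
theorem F274313 : act 0 n61465 = n60292 := d2_1 D61465 (iv D60292) (iv F269259)
theorem F274314 : act 1 n61465 = n60624 := d10_1 D61465 F270263 (iv F269260)
theorem F274315 : act 2 n61465 = n60449 := d17_1 D61465 F269842 F264886 (iv F265436) (iv F269261)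
theorem F274316 : act 6 n61465 = n60457 := d26_2 (iv F269262) D61465 F269863
theorem F274317 : act 8 n61465 = n60605 := d28_2 (iv F269263) D61465 F270228 F265304 (iv F264247)
def n61466 : Q := act 5 n60291
theorem D61466 : act 5 n60291 = n61466 := rfl
theorem F274318 : act 0 n61466 = n60293 := d4_1 D61466 (iv D60293) (iv F269259)
theorem F274319 : act 1 n61466 = n60651 := d12_1 D61466 F270328 (iv F269260)
theorem F274320 : act 2 n61466 = n60661 := d19_1 D61466 F270353 (iv F269261)
theorem F274321 : act 8 n61466 = n60305 := d37_2 (iv F269263) D61466 (iv D60305)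
def n61467 : Q := act 5 n60292
theorem D61467 : act 5 n60292 = n61467 := rfl
theorem F274322 : act 1 n61467 = n60294 := d12_1 D61467 (iv D60294) (iv F269264)
theorem F274323 : act 2 n61467 = n60446 := d19_1 D61467 F269838 (iv F269265)
theorem F274324 : act 3 n61467 = n60293 := d25_1 D61467 (iv D60293) D60292
theorem F274325 : act 7 n61467 = n60365 := d36_2 F270992 D61467 (iv F270990)
theorem F274326 : act 8 n61467 = n60356 := d37_2 (iv F269267) D61467 F269518
def n61468 : Q := act 4 n60294
theorem D61468 : act 4 n60294 = n61468 := rfl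
theorem F274327 : act 0 n61468 = n60429 := d3_1 D61468 (iv D60429) (iv F269271)
theorem F274328 : act 2 n61468 = n60339 := d18_1 D61468 (iv D60339) (iv F269272)
theorem F274329 : act 7 n61468 = n60366 := d32_2 (iv F269274) D61468 (iv D60366)
theorem F274330 : act 8 n61468 = n60357 := d33_2 (iv F269275) D61468 (iv D60357)
def n61469 : Q := act 0 n60295
theorem D61469 : act 0 n60295 = n61469 := rfl
theorem F274331 : act 3 n61469 = n60306 := d2_2 (iv F269276) D61469 (iv D60306)
theorem F274332 : act 5 n61469 = n60694 := d4_2 (iv F269277) D61469 (iv D60694)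
theorem F274333 : act 7 n61469 = n60298 := d6_2 (iv F269278) D61469 (iv D60298)
def n61470 : Q := act 4 n60295
theorem D61470 : act 4 n60295 = n61470 := rfl
theorem F274334 : act 1 n61470 = n60296 := d11_1 D61470 (iv D60296) D60295
theorem F274335 : act 7 n61470 = n60299 := d32_2 (iv F269278) D61470 (iv D60299)
def n61471 : Q := act 5 n60296
theorem D61471 : act 5 n60296 = n61471 := rfl
theorem F274336 : act 2 n61471 = n60297 := d19_1 D61471 (iv D60297) (iv F269279)
theorem F274337 : act 3 n61471 = n60456 := d25_1 D61471 (iv F274027) F274025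
theorem F274338 : act 4 n61471 = n60672 := d30_1 D61471 F270376 F265520 (iv F264222) D60296
theorem F274339 : act 7 n61471 = n60300 := d36_2 (iv F269280) D61471 (iv D60300)
theorem F274340 : act 9 n61471 = n60621 := d38_2 F272099 D61471 (iv F272095)
def n61472 : Q := act 4 n60298
theorem D61472 : act 4 n60298 = n61472 := rfl
theorem F274341 : act 0 n61472 = n60299 := d3_1 D61472 (iv D60299) D60298
theorem F274342 : act 6 n61472 = n60301 := d31_2 (iv F269287) D61472 (iv D60301)
def n61473 : Q := act 5 n60299
theorem D61473 : act 5 n60299 = n61473 := rfl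
theorem F274343 : act 1 n61473 = n60300 := d12_1 D61473 (iv D60300) (iv F269288)
theorem F274344 : act 3 n61473 = n60486 := d25_1 D61473 (iv F274002) F274000
theorem F274345 : act 4 n61473 = n60683 := d30_1 D61473 F270407 (iv D59513) (iv F264227) D60299
def n61474 : Q := act 3 n60301
theorem D61474 : act 3 n60301 = n61474 := rfl
theorem F274346 : act 0 n61474 = n60302 := d2_1 D61474 (iv D60302) (iv F269293)
theorem F274347 : act 4 n61474 = n60312 := d24_2 D60301 D61474 (iv D60312) (iv D59069) (iv F264233)
theorem F274348 : act 9 n61474 = n60505 := d29_2 F273968 D61474 F273969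
theorem F274349 : act 5 n60444 = n61474 := d38_3 F274348 (iv D60505) (iv F269831)
def n61475 : Q := act 5 n60301
theorem D61475 : act 5 n60301 = n61475 := rfl
theorem F274350 : act 0 n61475 = n60303 := d4_1 D61475 (iv D60303) (iv F269293)
theorem F274351 : act 1 n61475 = n60659 := d12_1 D61475 (iv F273665) F273664
theorem F274352 : act 3 n61475 = n60444 := d25_1 D61475 F274349 (iv D61474)
theorem F274353 : act 4 n61475 = n60305 := d30_1 D61475 (iv D60305) (iv D59062) (iv F264234) D60301
theorem F274354 : act 9 n61475 = n60363 := d38_2 F273968 D61475 (iv F273967)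
def n61476 : Q := act 8 n60302
theorem D61476 : act 8 n60302 = n61476 := rfl
theorem F274355 : act 1 n61476 = n60304 := d15_1 D61476 (iv D60304) (iv F269294)
theorem F274356 : act 4 n61476 = n60314 := d33_1 D61476 (iv D60314) (iv F269295)
theorem F274357 : act 5 n61476 = n60441 := d37_1 D61476 F269824 F269297
def n61477 : Q := act 9 n60304
theorem D61477 : act 9 n60304 = n61477 := rfl
theorem F274358 : act 2 n61477 = n60328 := d23_1 D61477 (iv D60328) (iv F269302)
theorem F274359 : act 4 n61477 = n60315 := d34_1 D61477 (iv D60315) (iv F269303)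
theorem F274360 : act 5 n61477 = n60439 := d38_1 D61477 F269821 (iv F269304)
theorem F274361 : act 8 n61477 = n60497 := d44_1 D61477 F269973 F265008 (iv F264238) D60304
def n61478 : Q := act 4 n60306
theorem D61478 : act 4 n60306 = n61478 := rfl
theorem F274362 : act 0 n61478 = n60307 := d3_1 D61478 (iv D60307) D60306
theorem F274363 : act 5 n61478 = n60570 := d30_2 (iv F269309) D61478 (iv D60570) (iv F266412) F266411
theorem F274364 : act 7 n61478 = n60309 := d32_2 (iv F269310) D61478 (iv D60309)
theorem F274365 : act 8 n61478 = n60573 := d33_2 F273183 D61478 (iv F273180)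
def n61479 : Q := act 3 n60307
theorem D61479 : act 3 n60307 = n61479 := rfl
theorem F274366 : act 1 n61479 = n60308 := d10_1 D61479 (iv D60308) (iv F269311)
theorem F274367 : act 5 n61479 = n60458 := d25_2 (iv F269312) D61479 F269867
theorem F274368 : act 7 n61479 = n60310 := d27_2 (iv F269313) D61479 (iv D60310)
theorem F274369 : act 2 n60473 = n61479 := d21_3 F274368 (iv F269323) (iv F269913)
def n61480 : Q := act 3 n60309
theorem D61480 : act 3 n60309 = n61480 := rfl
theorem F274370 : act 0 n61480 = n60310 := d2_1 D61480 (iv D60310) (iv F269318)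
theorem F274371 : act 5 n61480 = n60487 := d25_2 F271404 D61480 (iv F271403)
theorem F274372 : act 6 n61480 = n60312 := d26_2 (iv F269319) D61480 (iv D60312)
theorem F274373 : act 2 n60505 = n61480 := d19_3 F274371 F269951 D60505
def n61481 : Q := act 8 n60310
theorem D61481 : act 8 n60310 = n61481 := rfl
theorem F274374 : act 1 n61481 = n60311 := d15_1 D61481 (iv D60311) (iv F269320)
theorem F274375 : act 2 n61481 = n60499 := d22_1 D61481 F269977 F269323
theorem F274376 : act 5 n61481 = n60483 := d37_1 D61481 F269939 (iv F269321)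
theorem F274377 : act 6 n61481 = n60314 := d40_1 D61481 (iv D60314) (iv F269322)
def n61482 : Q := act 9 n60311
theorem D61482 : act 9 n60311 = n61482 := rfl
theorem F274378 : act 2 n61482 = n60329 := d23_1 D61482 (iv D60329) (iv F269324)
theorem F274379 : act 5 n61482 = n60481 := d38_1 D61482 F269934 (iv F269325)
theorem F274380 : act 6 n61482 = n60315 := d41_1 D61482 (iv D60315) (iv F269326)
def n61483 : Q := act 2 n60312
theorem D61483 : act 2 n60312 = n61483 := rfl
theorem F274381 : act 0 n61483 = n60313 := d1_1 D61483 (iv D60313) (iv F269327)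
theorem F274382 : act 6 n61483 = n60505 := d20_2 F274372 D61483 F274373
def n61484 : Q := act 8 n60312
theorem D61484 : act 8 n60312 = n61484 := rfl
theorem F274383 : act 0 n61484 = n60314 := d7_1 D61484 (iv D60314) (iv F269327)
def n61485 : Q := act 8 n60313
theorem D61485 : act 8 n60313 = n61485 := rfl
theorem F274384 : act 1 n61485 = n60332 := d15_1 D61485 (iv D60332) (iv F269328)
theorem F274385 : act 2 n61485 = n60314 := d22_1 D61485 (iv D60314) D60313
theorem F274386 : act 6 n61485 = n60499 := d40_1 D61485 F269977 (iv F269329)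
def n61486 : Q := act 9 n60314
theorem D61486 : act 9 n60314 = n61486 := rfl
theorem F274387 : act 1 n61486 = n60315 := d16_1 D61486 (iv D60315) (iv F269330)
def n61487 : Q := act 5 n60317
theorem D61487 : act 5 n60317 = n61487 := rfl
theorem F274388 : act 3 n61487 = n60318 := d25_1 D61487 (iv D60318) D60317
theorem F274389 : act 6 n61487 = n60420 := d35_2 (iv F269338) D61487 (iv D60420) F264785 (iv F264284)
theorem F274390 : act 9 n61487 = n60338 := d38_2 (iv F269339) D61487 F269424
def n61488 : Q := act 8 n60317
theorem D61488 : act 8 n60317 = n61488 := rfl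
theorem F274391 : act 3 n61488 = n61488 := d28_1 D61488 (iv D61488) (iv D60317) F264276 D60317
theorem F274392 : act 4 n61488 = n60323 := d33_1 D61488 (iv D60323) (iv F269337)
theorem F274393 : act 6 n61488 = n60319 := d40_1 D61488 (iv D60319) (iv F269338)
def n61489 : Q := act 9 n60319
theorem D61489 : act 9 n60319 = n61489 := rfl
theorem F274394 : act 3 n61489 = n61489 := d29_1 D61489 (iv D61489) F269345
theorem F274395 : act 4 n61489 = n60327 := d34_1 D61489 (iv D60327) (iv F269346)
theorem F274396 : act 5 n61489 = n60427 := d38_1 D61489 F269782 (iv F269347)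
theorem F274397 : act 7 n61489 = n60328 := d43_1 D61489 (iv D60328) (iv F269348)
theorem F274398 : act 8 n61489 = n60465 := d44_1 D61489 F269892 F264925 (iv F264286) D60319
def n61490 : Q := act 3 n60321
theorem D61490 : act 3 n60321 = n61490 := rfl
theorem F274399 : act 0 n61490 = n60322 := d2_1 D61490 (iv D60322) (iv F269352)
theorem F274400 : act 1 n61490 = n60408 := d10_1 D61490 (iv D60408) (iv F269353)
theorem F274401 : act 6 n61490 = n60324 := d26_2 (iv F269355) D61490 (iv D60324)
theorem F274402 : act 7 n61490 = n60390 := d27_2 (iv F269356) D61490 F269652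
def n61491 : Q := act 2 n60322
theorem D61491 : act 2 n60322 = n61491 := rfl
theorem F274403 : act 3 n61491 = n60618 := d17_2 D60322 D61491 F270253 F265335 (iv F264299)
theorem F274404 : act 6 n61491 = n60325 := d20_2 (iv F269359) D61491 (iv D60325)
theorem F274405 : act 7 n61491 = n60474 := d21_2 (iv F269360) D61491 F269914
def n61492 : Q := act 9 n60323
theorem D61492 : act 9 n60323 = n61492 := rfl
theorem F274406 : act 3 n61492 = n60335 := d29_1 D61492 (iv D60335) (iv F269361)
theorem F274407 : act 6 n61492 = n60327 := d41_1 D61492 (iv D60327) (iv F269362)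
def n61493 : Q := act 2 n60324
theorem D61493 : act 2 n60324 = n61493 := rfl
theorem F274408 : act 0 n61493 = n60325 := d1_1 D61493 (iv D60325) (iv F269363)
theorem F274409 : act 3 n61493 = n60378 := d17_2 D60324 D61493 F269603 F264627 (iv F264306)
theorem F274410 : act 5 n61493 = n60616 := d19_2 (iv F269365) D61493 F270249
theorem F274411 : act 7 n61493 = n60330 := d21_2 (iv F269366) D61493 (iv D60330)
def n61494 : Q := act 8 n60324
theorem D61494 : act 8 n60324 = n61494 := rfl
theorem F274412 : act 0 n61494 = n60326 := d7_1 D61494 (iv D60326) (iv F269363)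
theorem F274413 : act 1 n61494 = n60373 := d15_1 D61494 F269593 (iv F269364)
theorem F274414 : act 3 n61494 = n60336 := d28_1 D61494 (iv D60336) (iv D59095) (iv F264309) D60324
theorem F274415 : act 5 n61494 = n60370 := d37_1 D61494 F269579 (iv F269365)
theorem F274416 : act 7 n61494 = n60331 := d42_1 D61494 (iv D60331) (iv F269366)
def n61495 : Q := act 8 n60325
theorem D61495 : act 8 n60325 = n61495 := rfl
theorem F274417 : act 2 n61495 = n60326 := d22_1 D61495 (iv D60326) D60325
theorem F274418 : act 5 n61495 = n60618 := d37_1 D61495 F270254 (iv F269367)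
theorem F274419 : act 7 n61495 = n60332 := d42_1 D61495 (iv D60332) (iv F269368)
def n61496 : Q := act 1 n60330
theorem D61496 : act 1 n60330 = n61496 := rfl
theorem F274420 : act 2 n61496 = n60683 := d9_2 D60330 D61496 F270406 F265497 (iv F264332)
theorem F274421 : act 3 n61496 = n60396 := d10_2 (iv F269385) D61496 F269672
theorem F274422 : act 5 n61496 = n60681 := d12_2 (iv F269386) D61496 F270401
theorem F274423 : act 6 n61496 = n60406 := d13_2 (iv F269387) D61496 F269704
def n61497 : Q := act 8 n60330
theorem D61497 : act 8 n60330 = n61497 := rfl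
theorem F274424 : act 0 n61497 = n60332 := d7_1 D61497 (iv D60332) (iv F269384)
theorem F274425 : act 2 n61497 = n60331 := d22_1 D61497 (iv D60331) D60330
theorem F274426 : act 5 n61497 = n60675 := d37_1 D61497 F270387 (iv F269386)
theorem F274427 : act 6 n61497 = n60402 := d40_1 D61497 F269695 (iv F269387)
def n61498 : Q := act 3 n60332
theorem D61498 : act 3 n60332 = n61498 := rfl
theorem F274428 : act 2 n61498 = n60338 := d17_1 D61498 (iv D60338) F264392 (iv F264337) (iv F269393)
theorem F274429 : act 5 n61498 = n60474 := d25_2 F272036 D61498 (iv F272034)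
theorem F274430 : act 6 n61498 = n60451 := d26_2 (iv F269394) D61498 F269848
def n61499 : Q := act 3 n60337
theorem D61499 : act 3 n60337 = n61499 := rfl
theorem F274431 : act 0 n61499 = n60338 := d2_1 D61499 (iv D60338) (iv F269419)
theorem F274432 : act 5 n61499 = n60390 := d25_2 (iv F269422) D61499 F269652
theorem F274433 : act 6 n61499 = n60373 := d26_2 (iv F269423) D61499 F269591
theorem F274434 : act 8 n61499 = n60408 := d28_2 D60337 D61499 (iv D60408) F264741 (iv F264382)
def n61500 : Q := act 4 n60338
theorem D61500 : act 4 n60338 = n61500 := rfl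
theorem F274435 : act 3 n61500 = n61500 := d24_1 D61500 (iv D61500) (iv D60338) F264393 D60338
theorem F274436 : act 6 n61500 = n60448 := d31_2 (iv F269425) D61500 F269841
def n61501 : Q := act 0 n60345
theorem D61501 : act 0 n60345 = n61501 := rfl
theorem F274437 : act 2 n61501 = n60353 := d1_2 (iv F269461) D61501 (iv D60353)
theorem F274438 : act 3 n61501 = n60565 := d2_2 (iv F269462) D61501 (iv D60565)
theorem F274439 : act 5 n61501 = n60347 := d4_2 (iv F269463) D61501 (iv D60347)
theorem F274440 : act 7 n61501 = n60545 := d6_2 (iv F269464) D61501 (iv D60545)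
theorem F274441 : act 8 n61501 = n60584 := d7_2 (iv F269465) D61501 (iv D60584)
theorem F274442 : act 9 n61501 = n60558 := d8_2 (iv F269466) D61501 (iv D60558)
def n61502 : Q := act 4 n60345
theorem D61502 : act 4 n60345 = n61502 := rfl
theorem F274443 : act 1 n61502 = n60346 := d11_1 D61502 (iv D60346) D60345
theorem F274444 : act 2 n61502 = n60354 := d18_1 D61502 (iv D60354) (iv F269461)
theorem F274445 : act 5 n61502 = n60557 := d30_2 (iv F269463) D61502 (iv D60557) F265161 (iv F264475)
theorem F274446 : act 7 n61502 = n60546 := d32_2 (iv F269464) D61502 (iv D60546)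
theorem F274447 : act 8 n61502 = n60585 := d33_2 (iv F269465) D61502 (iv D60585)
theorem F274448 : act 9 n61502 = n60559 := d34_2 (iv F269466) D61502 (iv D60559)
def n61503 : Q := act 0 n60348
theorem D61503 : act 0 n60348 = n61503 := rfl
theorem F274449 : act 1 n61503 = n60664 := d0_2 D60348 D61503 (iv D60664) (iv D59474) (iv F264478)
theorem F274450 : act 2 n61503 = n60584 := d1_2 (iv F269477) D61503 (iv D60584)
theorem F274451 : act 3 n61503 = n60492 := d2_2 (iv F269478) D61503 (iv D60492)
theorem F274452 : act 5 n61503 = n60350 := d4_2 (iv F269479) D61503 (iv D60350)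
theorem F274453 : act 6 n61503 = n60608 := d5_2 (iv F269480) D61503 (iv D60608)
theorem F274454 : act 7 n61503 = n60549 := d6_2 (iv F269481) D61503 (iv D60549)
theorem F274455 : act 8 n61503 = n60353 := d7_2 (iv F269482) D61503 (iv D60353)
def n61504 : Q := act 4 n60348
theorem D61504 : act 4 n60348 = n61504 := rfl
theorem F274456 : act 1 n61504 = n60349 := d11_1 D61504 (iv D60349) D60348
theorem F274457 : act 2 n61504 = n60585 := d18_1 D61504 (iv D60585) (iv F269477)
theorem F274458 : act 5 n61504 = n60453 := d30_2 (iv F269479) D61504 (iv D60453) F264884 (iv F264493)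
theorem F274459 : act 6 n61504 = n60609 := d31_2 (iv F269480) D61504 (iv D60609)
theorem F274460 : act 7 n61504 = n60550 := d32_2 (iv F269481) D61504 (iv D60550)
theorem F274461 : act 8 n61504 = n60354 := d33_2 (iv F269482) D61504 (iv D60354)
def n61505 : Q := act 3 n60349
theorem D61505 : act 3 n60349 = n61505 := rfl
theorem F274462 : act 0 n61505 = n60666 := d2_1 D61505 (iv D60666) (iv F269483)
theorem F274463 : act 2 n61505 = n61505 := d17_1 D61505 (iv D61505) F269484 F264486 (iv F269484)
theorem F274464 : act 4 n61505 = n60494 := d24_2 D60349 D61505 (iv D60494) (iv D59271) (iv F264479)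
theorem F274465 : act 5 n61505 = n60454 := d25_2 (iv F269485) D61505 (iv D60454)
theorem F274466 : act 6 n61505 = n60610 := d26_2 (iv F269486) D61505 (iv D60610)
theorem F274467 : act 7 n61505 = n60551 := d27_2 (iv F269487) D61505 (iv D60551)
def n61506 : Q := act 0 n60351
theorem D61506 : act 0 n60351 = n61506 := rfl
theorem F274468 : act 1 n61506 = n60556 := d0_2 D60351 D61506 (iv D60556) (iv D59343) (iv F264496)
theorem F274469 : act 3 n61506 = n60355 := d2_2 (iv F269495) D61506 (iv D60355)
theorem F274470 : act 5 n61506 = n60542 := d4_2 (iv F269496) D61506 (iv D60542)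
theorem F274471 : act 6 n61506 = n60353 := d5_2 (iv F269497) D61506 (iv D60353)
theorem F274472 : act 8 n61506 = n60608 := d7_2 (iv F269498) D61506 (iv D60608)
theorem F274473 : act 9 n61506 = n60554 := d8_2 (iv F269499) D61506 (iv D60554)
def n61507 : Q := act 4 n60351
theorem D61507 : act 4 n60351 = n61507 := rfl
theorem F274474 : act 1 n61507 = n60352 := d11_1 D61507 (iv D60352) D60351
theorem F274475 : act 3 n61507 = n60546 := d24_1 D61507 (iv D60546) (iv F265621) F265622 (iv F269495)
theorem F274476 : act 6 n61507 = n60354 := d31_2 (iv F269497) D61507 (iv D60354)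
theorem F274477 : act 8 n61507 = n60609 := d33_2 (iv F269498) D61507 (iv D60609)
theorem F274478 : act 9 n61507 = n60555 := d34_2 (iv F269499) D61507 (iv D60555)
def n61508 : Q := act 4 n60353
theorem D61508 : act 4 n60353 = n61508 := rfl
theorem F274479 : act 0 n61508 = n60354 := d3_1 D61508 (iv D60354) D60353
theorem F274480 : act 7 n61508 = n60552 := d32_2 (iv F269508) D61508 (iv D60552)
theorem F274481 : act 9 n61508 = n60560 := d34_2 (iv F269509) D61508 (iv D60560)
def n61509 : Q := act 0 n60356
theorem D61509 : act 0 n60356 = n61509 := rfl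
theorem F274482 : act 1 n61509 = n60430 := d0_2 D60356 D61509 (iv D60430) (iv D59207) (iv F264524)
theorem F274483 : act 3 n61509 = n60358 := d2_2 (iv F269517) D61509 (iv D60358)
theorem F274484 : act 5 n61509 = n60605 := d4_2 (iv F269518) D61509 (iv D60605)
theorem F274485 : act 7 n61509 = n60367 := d6_2 (iv F269519) D61509 (iv D60367)
theorem F274486 : act 9 n61509 = n60387 := d8_2 (iv F269520) D61509 (iv D60387)
def n61510 : Q := act 4 n60356
theorem D61510 : act 4 n60356 = n61510 := rfl
theorem F274487 : act 1 n61510 = n60357 := d11_1 D61510 (iv D60357) D60356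
theorem F274488 : act 3 n61510 = n60415 := d24_1 D61510 (iv D60415) F264767 (iv F264534) (iv F269517)
theorem F274489 : act 7 n61510 = n60368 := d32_2 (iv F269519) D61510 (iv D60368)
theorem F274490 : act 9 n61510 = n60388 := d34_2 (iv F269520) D61510 (iv D60388)
def n61511 : Q := act 0 n60360
theorem D61511 : act 0 n60360 = n61511 := rfl
theorem F274491 : act 1 n61511 = n60361 := d0_2 D60360 D61511 (iv D60361) (iv D59135) (iv F264555)
theorem F274492 : act 2 n61511 = n60679 := d1_2 (iv F269540) D61511 (iv D60679)
theorem F274493 : act 3 n61511 = n60445 := d2_2 (iv F269541) D61511 (iv D60445)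
theorem F274494 : act 5 n61511 = n60612 := d4_2 (iv F269542) D61511 (iv D60612)
theorem F274495 : act 6 n61511 = n60443 := d5_2 (iv F269543) D61511 (iv D60443)
theorem F274496 : act 9 n61511 = n60502 := d8_2 (iv F269544) D61511 (iv D60502)
def n61512 : Q := act 4 n60361
theorem D61512 : act 4 n60361 = n61512 := rfl
theorem F274497 : act 0 n61512 = n60362 := d3_1 D61512 (iv D60362) D60361
theorem F274498 : act 2 n61512 = n60363 := d18_1 D61512 (iv D60363) (iv F269545)
def n61513 : Q := act 0 n60365
theorem D61513 : act 0 n60365 = n61513 := rfl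
theorem F274499 : act 1 n61513 = n60440 := d0_2 D60365 D61513 (iv D60440) (iv D59218) (iv F264579)
theorem F274500 : act 8 n61513 = n60367 := d7_2 (iv F269560) D61513 (iv D60367)
def n61514 : Q := act 4 n60365
theorem D61514 : act 4 n60365 = n61514 := rfl
theorem F274501 : act 1 n61514 = n60366 := d11_1 D61514 (iv D60366) D60365
theorem F274502 : act 8 n61514 = n60368 := d33_2 (iv F269560) D61514 (iv D60368)
def n61515 : Q := act 3 n60366
theorem D61515 : act 3 n60366 = n61515 := rfl
theorem F274503 : act 0 n61515 = n60442 := d2_1 D61515 (iv D60442) (iv F269561)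
theorem F274504 : act 2 n61515 = n61515 := d17_1 D61515 (iv D61515) F269562 F264582 (iv F269562)
theorem F274505 : act 8 n61515 = n60653 := d28_2 (iv F269563) D61515 (iv D60653) F265406 (iv F264588)
def n61516 : Q := act 4 n60367
theorem D61516 : act 4 n60367 = n61516 := rfl
theorem F274506 : act 0 n61516 = n60368 := d3_1 D61516 (iv D60368) D60367
theorem F274507 : act 1 n61516 = n60444 := d11_1 D61516 (iv D60444) (iv F269564)
theorem F274508 : act 3 n61516 = n60659 := d24_1 D61516 (iv D60659) F265424 (iv F264591) (iv F269565)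
theorem F274509 : act 9 n61516 = n60405 := d34_2 (iv F269566) D61516 (iv D60405)
def n61517 : Q := act 1 n60369
theorem D61517 : act 1 n60369 = n61517 := rfl
theorem F274510 : act 2 n61517 = n60371 := d9_2 D60369 D61517 (iv D60371) (iv D59148) (iv F264594)
theorem F274511 : act 6 n61517 = n60377 := d13_2 (iv F269571) D61517 (iv D60377)
theorem F274512 : act 7 n61517 = n60677 := d14_2 (iv F269572) D61517 F270392
theorem F274513 : act 8 n61517 = n60615 := d15_2 (iv F269573) D61517 (iv D60615)
def n61518 : Q := act 4 n60369
theorem D61518 : act 4 n60369 = n61518 := rfl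
theorem F274514 : act 0 n61518 = n60618 := d3_1 D61518 (iv D60618) (iv F269570)
theorem F274515 : act 2 n61518 = n60370 := d18_1 D61518 (iv D60370) D60369
theorem F274516 : act 6 n61518 = n60378 := d31_2 (iv F269571) D61518 (iv D60378)
theorem F274517 : act 7 n61518 = n60675 := d32_2 (iv F269572) D61518 F270386
theorem F274518 : act 8 n61518 = n60616 := d33_2 (iv F269573) D61518 (iv D60616)
def n61519 : Q := act 0 n60371
theorem D61519 : act 0 n60371 = n61519 := rfl
theorem F274519 : act 1 n61519 = n60449 := d0_2 D60371 D61519 (iv D60449) (iv D59227) (iv F264603)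
theorem F274520 : act 3 n61519 = n60376 := d2_2 (iv F269580) D61519 (iv D60376)
theorem F274521 : act 6 n61519 = n60387 := d5_2 (iv F269581) D61519 (iv D60387)
theorem F274522 : act 7 n61519 = n60688 := d6_2 (iv F269582) D61519 (iv D60688)
theorem F274523 : act 8 n61519 = n60694 := d7_2 (iv F269583) D61519 (iv D60694)
def n61520 : Q := act 4 n60371
theorem D61520 : act 4 n60371 = n61520 := rfl
theorem F274524 : act 1 n61520 = n60372 := d11_1 D61520 (iv D60372) D60371
theorem F274525 : act 3 n61520 = n60401 := d24_1 D61520 (iv D60401) F264702 (iv F264623) (iv F269580)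
theorem F274526 : act 6 n61520 = n60388 := d31_2 (iv F269581) D61520 (iv D60388)
theorem F274527 : act 7 n61520 = n60689 := d32_2 (iv F269582) D61520 (iv D60689)
theorem F274528 : act 8 n61520 = n60693 := d33_2 (iv F269583) D61520 F270429
def n61521 : Q := act 5 n60372
theorem D61521 : act 5 n60372 = n61521 := rfl
theorem F274529 : act 0 n61521 = n60451 := d4_1 D61521 (iv D60451) (iv F269584)
theorem F274530 : act 2 n61521 = n60373 := d19_1 D61521 (iv D60373) (iv F269585)
theorem F274531 : act 3 n61521 = n60402 := d25_1 D61521 (iv D60402) (iv F269586)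
theorem F274532 : act 7 n61521 = n60684 := d36_2 (iv F269588) D61521 F270409
theorem F274533 : act 8 n61521 = n60672 := d37_2 (iv F269589) D61521 F270376
def n61522 : Q := act 0 n60374
theorem D61522 : act 0 n60374 = n61522 := rfl
theorem F274534 : act 1 n61522 = n60452 := d0_2 D60374 D61522 (iv D60452) (iv D59230) (iv F264618)
theorem F274535 : act 5 n61522 = n60376 := d4_2 (iv F269594) D61522 (iv D60376)
def n61523 : Q := act 4 n60374
theorem D61523 : act 4 n60374 = n61523 := rfl
theorem F274536 : act 1 n61523 = n60375 := d11_1 D61523 (iv D60375) D60374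
theorem F274537 : act 5 n61523 = n60665 := d30_2 (iv F269594) D61523 (iv D60665) F265438 (iv F264623)
def n61524 : Q := act 3 n60375
theorem D61524 : act 3 n60375 = n61524 := rfl
theorem F274538 : act 0 n61524 = n60454 := d2_1 D61524 (iv D60454) (iv F269595)
theorem F274539 : act 2 n61524 = n61524 := d17_1 D61524 (iv D61524) F269596 F264621 (iv F269596)
theorem F274540 : act 5 n61524 = n60666 := d25_2 (iv F269597) D61524 (iv D60666)
def n61525 : Q := act 0 n60377
theorem D61525 : act 0 n60377 = n61525 := rfl
theorem F274541 : act 2 n61525 = n60387 := d1_2 (iv F269601) D61525 (iv D60387)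
theorem F274542 : act 7 n61525 = n60395 := d6_2 (iv F269602) D61525 (iv D60395)
def n61526 : Q := act 4 n60377
theorem D61526 : act 4 n60377 = n61526 := rfl
theorem F274543 : act 1 n61526 = n60378 := d11_1 D61526 (iv D60378) D60377
theorem F274544 : act 2 n61526 = n60388 := d18_1 D61526 (iv D60388) (iv F269601)
theorem F274545 : act 7 n61526 = n60396 := d32_2 (iv F269602) D61526 (iv D60396)
def n61527 : Q := act 5 n60378
theorem D61527 : act 5 n60378 = n61527 := rfl
theorem F274546 : act 0 n61527 = n60621 := d4_1 D61527 (iv F272095) F272092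
theorem F274547 : act 2 n61527 = n60379 := d19_1 D61527 (iv D60379) (iv F269603)
theorem F274548 : act 3 n61527 = n60616 := d25_1 D61527 (iv F274410) F274409
theorem F274549 : act 7 n61527 = n60397 := d36_2 (iv F269604) D61527 (iv D60397)
def n61528 : Q := act 1 n60380
theorem D61528 : act 1 n60380 = n61528 := rfl
theorem F274550 : act 3 n61528 = n60538 := d10_2 (iv F269610) D61528 (iv D60538)
theorem F274551 : act 5 n61528 = n60382 := d12_2 (iv F269611) D61528 (iv D60382)
theorem F274552 : act 7 n61528 = n60398 := d14_2 (iv F269612) D61528 (iv D60398)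
theorem F274553 : act 8 n61528 = n60385 := d15_2 (iv F269613) D61528 (iv D60385)
def n61529 : Q := act 4 n60380
theorem D61529 : act 4 n60380 = n61529 := rfl
theorem F274554 : act 0 n61529 = n60462 := d3_1 D61529 (iv D60462) (iv F269609)
theorem F274555 : act 2 n61529 = n60381 := d18_1 D61529 (iv D60381) D60380
theorem F274556 : act 7 n61529 = n60399 := d32_2 (iv F269612) D61529 (iv D60399)
theorem F274557 : act 8 n61529 = n60386 := d33_2 (iv F269613) D61529 (iv D60386)
def n61530 : Q := act 0 n60382
theorem D61530 : act 0 n60382 = n61530 := rfl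
theorem F274558 : act 1 n61530 = n60466 := d0_2 D60382 D61530 (iv D60466) (iv D59242) (iv F264639)
theorem F274559 : act 3 n61530 = n60678 := d2_2 (iv F269618) D61530 (iv D60678)
theorem F274560 : act 6 n61530 = n60694 := d5_2 (iv F269619) D61530 (iv D60694)
theorem F274561 : act 7 n61530 = n60400 := d6_2 (iv F269620) D61530 (iv D60400)
theorem F274562 : act 8 n61530 = n60387 := d7_2 (iv F269621) D61530 (iv D60387)
def n61531 : Q := act 4 n60382
theorem D61531 : act 4 n60382 = n61531 := rfl
theorem F274563 : act 1 n61531 = n60383 := d11_1 D61531 (iv D60383) D60382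
theorem F274564 : act 3 n61531 = n60689 := d24_1 D61531 (iv D60689) (iv F266404) F266405 (iv F269618)
theorem F274565 : act 6 n61531 = n60693 := d31_2 (iv F269619) D61531 F270429
theorem F274566 : act 7 n61531 = n60401 := d32_2 (iv F269620) D61531 (iv D60401)
theorem F274567 : act 8 n61531 = n60388 := d33_2 (iv F269621) D61531 (iv D60388)
def n61532 : Q := act 5 n60383
theorem D61532 : act 5 n60383 = n61532 := rfl
theorem F274568 : act 0 n61532 = n60468 := d4_1 D61532 (iv D60468) (iv F269622)
theorem F274569 : act 2 n61532 = n60384 := d19_1 D61532 (iv D60384) (iv F269623)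
theorem F274570 : act 3 n61532 = n60684 := d25_1 D61532 F270409 (iv F269624)
theorem F274571 : act 7 n61532 = n60402 := d36_2 (iv F269626) D61532 (iv D60402)
theorem F274572 : act 8 n61532 = n60389 := d37_2 (iv F269627) D61532 (iv D60389)
def n61533 : Q := act 6 n60384
theorem D61533 : act 6 n60384 = n61533 := rfl
theorem F274573 : act 0 n61533 = n60469 := d5_1 D61533 (iv D60469) (iv F269628)
theorem F274574 : act 3 n61533 = n60407 := d26_1 D61533 (iv D60407) (iv F269629)
theorem F274575 : act 5 n61533 = n60408 := d35_1 D61533 F269711 (iv D59511) (iv F264646) D60384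
theorem F274576 : act 8 n61533 = n60390 := d40_2 (iv F269631) D61533 (iv D60390)
def n61534 : Q := act 0 n60385
theorem D61534 : act 0 n60385 = n61534 := rfl
theorem F274577 : act 1 n61534 = n60470 := d0_2 D60385 D61534 (iv D60470) (iv D59245) (iv F264649)
theorem F274578 : act 3 n61534 = n60391 := d2_2 (iv F269632) D61534 (iv D60391)
theorem F274579 : act 5 n61534 = n60387 := d4_2 (iv F269633) D61534 (iv D60387)
theorem F274580 : act 7 n61534 = n60403 := d6_2 (iv F269634) D61534 (iv D60403)
theorem F274581 : act 9 n61534 = n60605 := d8_2 (iv F269635) D61534 (iv D60605)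
def n61535 : Q := act 4 n60385
theorem D61535 : act 4 n60385 = n61535 := rfl
theorem F274582 : act 1 n61535 = n60386 := d11_1 D61535 (iv D60386) D60385
theorem F274583 : act 3 n61535 = n60594 := d24_1 D61535 (iv D60594) F265261 (iv F264672) (iv F269632)
theorem F274584 : act 7 n61535 = n60404 := d32_2 (iv F269634) D61535 (iv D60404)
theorem F274585 : act 9 n61535 = n60606 := d34_2 (iv F269635) D61535 (iv D60606)
def n61536 : Q := act 4 n60387
theorem D61536 : act 4 n60387 = n61536 := rfl
theorem F274586 : act 0 n61536 = n60388 := d3_1 D61536 (iv D60388) D60387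
theorem F274587 : act 1 n61536 = n60472 := d11_1 D61536 (iv D60472) (iv F269641)
theorem F274588 : act 3 n61536 = n60673 := d24_1 D61536 (iv D60673) F265461 (iv F264678) (iv F269642)
theorem F274589 : act 7 n61536 = n60405 := d32_2 (iv F269643) D61536 (iv D60405)
def n61537 : Q := act 5 n60388
theorem D61537 : act 5 n60388 = n61537 := rfl
theorem F274590 : act 1 n61537 = n60389 := d12_1 D61537 (iv D60389) (iv F269644)
theorem F274591 : act 3 n61537 = n60674 := d25_1 D61537 (iv D60674) (iv F269645)
theorem F274592 : act 7 n61537 = n60406 := d36_2 (iv F269646) D61537 (iv D60406)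
def n61538 : Q := act 6 n60389
theorem D61538 : act 6 n60389 = n61538 := rfl
theorem F274593 : act 0 n61538 = n60474 := d5_1 D61538 (iv D60474) (iv F269647)
theorem F274594 : act 2 n61538 = n60390 := d20_1 D61538 (iv D60390) (iv F269648)
theorem F274595 : act 3 n61538 = n60675 := d26_1 D61538 (iv D60675) (iv F269649)
def n61539 : Q := act 0 n60392
theorem D61539 : act 0 n60392 = n61539 := rfl
theorem F274596 : act 2 n61539 = n60400 := d1_2 (iv F269660) D61539 (iv D60400)
theorem F274597 : act 6 n61539 = n60670 := d5_2 (iv F269661) D61539 (iv D60670)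
theorem F274598 : act 8 n61539 = n60395 := d7_2 (iv F269662) D61539 (iv D60395)
def n61540 : Q := act 4 n60392
theorem D61540 : act 4 n60392 = n61540 := rfl
theorem F274599 : act 1 n61540 = n60393 := d11_1 D61540 (iv D60393) D60392
theorem F274600 : act 2 n61540 = n60401 := d18_1 D61540 (iv D60401) (iv F269660)
theorem F274601 : act 6 n61540 = n60671 := d31_2 (iv F269661) D61540 (iv D60671)
theorem F274602 : act 8 n61540 = n60396 := d33_2 (iv F269662) D61540 (iv D60396)
def n61541 : Q := act 3 n60393
theorem D61541 : act 3 n60393 = n61541 := rfl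
theorem F274603 : act 2 n61541 = n60408 := d17_1 D61541 (iv D60408) F264739 (iv F264683) (iv F269663)
theorem F274604 : act 6 n61541 = n60672 := d26_2 (iv F269664) D61541 (iv D60672)
def n61542 : Q := act 5 n60393
theorem D61542 : act 5 n60393 = n61542 := rfl
theorem F274605 : act 2 n61542 = n60394 := d19_1 D61542 (iv D60394) (iv F269663)
theorem F274606 : act 6 n61542 = n60684 := d35_2 (iv F269664) D61542 F270409 F265507 (iv F265450)
theorem F274607 : act 8 n61542 = n60397 := d37_2 (iv F269665) D61542 (iv D60397)
def n61543 : Q := act 4 n60395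
theorem D61543 : act 4 n60395 = n61543 := rfl
theorem F274608 : act 0 n61543 = n60396 := d3_1 D61543 (iv D60396) D60395
theorem F274609 : act 2 n61543 = n60405 := d18_1 D61543 (iv D60405) (iv F269670)
theorem F274610 : act 6 n61543 = n60696 := d31_2 (iv F269671) D61543 F270436
def n61544 : Q := act 5 n60396
theorem D61544 : act 5 n60396 = n61544 := rfl
theorem F274611 : act 1 n61544 = n60397 := d12_1 D61544 (iv D60397) (iv F269672)
theorem F274612 : act 2 n61544 = n60406 := d19_1 D61544 (iv D60406) (iv F269673)
theorem F274613 : act 3 n61544 = n60681 := d25_1 D61544 (iv F274422) F274421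
theorem F274614 : act 6 n61544 = n60683 := d35_2 (iv F269674) D61544 F270407 F265530 D59515
def n61545 : Q := act 0 n60398
theorem D61545 : act 0 n60398 = n61545 := rfl
theorem F274615 : act 1 n61545 = n60492 := d0_2 D60398 D61545 (iv D60492) (iv D59270) (iv F264693)
theorem F274616 : act 3 n61545 = n60664 := d2_2 (iv F269678) D61545 (iv D60664)
theorem F274617 : act 5 n61545 = n60400 := d4_2 (iv F269679) D61545 (iv D60400)
theorem F274618 : act 6 n61545 = n60661 := d5_2 (iv F269680) D61545 (iv D60661)
theorem F274619 : act 8 n61545 = n60403 := d7_2 (iv F269681) D61545 (iv D60403)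
def n61546 : Q := act 4 n60398
theorem D61546 : act 4 n60398 = n61546 := rfl
theorem F274620 : act 1 n61546 = n60399 := d11_1 D61546 (iv D60399) D60398
theorem F274621 : act 6 n61546 = n60662 := d31_2 (iv F269680) D61546 (iv D60662)
theorem F274622 : act 8 n61546 = n60404 := d33_2 (iv F269681) D61546 (iv D60404)
def n61547 : Q := act 3 n60399
theorem D61547 : act 3 n60399 = n61547 := rfl
theorem F274623 : act 0 n61547 = n60494 := d2_1 D61547 (iv D60494) (iv F269682)
theorem F274624 : act 2 n61547 = n61547 := d17_1 D61547 (iv D61547) F269683 F264699 (iv F269683)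
theorem F274625 : act 4 n61547 = n60666 := d24_2 D60399 D61547 (iv D60666) (iv D59475) (iv F264694)
theorem F274626 : act 6 n61547 = n60663 := d26_2 (iv F269684) D61547 (iv D60663)
theorem F274627 : act 8 n61547 = n60603 := d28_2 (iv F269685) D61547 (iv D60603) F265295 (iv F264716)
def n61548 : Q := act 4 n60400
theorem D61548 : act 4 n60400 = n61548 := rfl
theorem F274628 : act 0 n61548 = n60401 := d3_1 D61548 (iv D60401) D60400
theorem F274629 : act 1 n61548 = n60498 := d11_1 D61548 (iv D60498) (iv F269686)
theorem F274630 : act 6 n61548 = n60673 := d31_2 (iv F269688) D61548 (iv D60673)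
theorem F274631 : act 8 n61548 = n60405 := d33_2 (iv F269689) D61548 (iv D60405)
def n61549 : Q := act 5 n60401
theorem D61549 : act 5 n60401 = n61549 := rfl
theorem F274632 : act 1 n61549 = n60402 := d12_1 D61549 (iv D60402) (iv F269690)
theorem F274633 : act 8 n61549 = n60406 := d37_2 (iv F269692) D61549 (iv D60406)
def n61550 : Q := act 4 n60403
theorem D61550 : act 4 n60403 = n61550 := rfl
theorem F274634 : act 0 n61550 = n60404 := d3_1 D61550 (iv D60404) D60403
theorem F274635 : act 1 n61550 = n60504 := d11_1 D61550 (iv D60504) (iv F269696)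
theorem F274636 : act 3 n61550 = n60604 := d24_1 D61550 (iv D60604) F265297 (iv F264726) (iv F269697)
def n61551 : Q := act 5 n60405
theorem D61551 : act 5 n60405 = n61551 := rfl
theorem F274637 : act 0 n61551 = n60406 := d4_1 D61551 (iv D60406) (iv F269701)
theorem F274638 : act 1 n61551 = n60505 := d12_1 D61551 (iv D60505) (iv F269702)
theorem F274639 : act 3 n61551 = n60696 := d25_1 D61551 (iv D60696) (iv F269703)
def n61552 : Q := act 0 n60409
theorem D61552 : act 0 n60409 = n61552 := rfl
theorem F274640 : act 2 n61552 = n60414 := d1_2 (iv F269712) D61552 (iv D60414)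
theorem F274641 : act 3 n61552 = n60619 := d2_2 (iv F269713) D61552 (iv D60619)
theorem F274642 : act 5 n61552 = n60633 := d4_2 (iv F269714) D61552 (iv D60633)
theorem F274643 : act 7 n61552 = n60641 := d6_2 (iv F269715) D61552 (iv D60641)
theorem F274644 : act 9 n61552 = n60670 := d8_2 (iv F269716) D61552 (iv D60670)
def n61553 : Q := act 4 n60409
theorem D61553 : act 4 n60409 = n61553 := rfl
theorem F274645 : act 1 n61553 = n60410 := d11_1 D61553 (iv D60410) D60409
theorem F274646 : act 2 n61553 = n60415 := d18_1 D61553 (iv D60415) (iv F269712)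
theorem F274647 : act 5 n61553 = n60691 := d30_2 (iv F269714) D61553 (iv D60691) F265511 (iv F265364)
theorem F274648 : act 7 n61553 = n60642 := d32_2 (iv F269715) D61553 (iv D60642)
theorem F274649 : act 9 n61553 = n60671 := d34_2 (iv F269716) D61553 (iv D60671)
def n61554 : Q := act 3 n60410
theorem D61554 : act 3 n60410 = n61554 := rfl
theorem F274650 : act 2 n61554 = n60411 := d17_1 D61554 (iv D60411) F264755 (iv F264751) (iv F269717)
theorem F274651 : act 4 n61554 = n60621 := d24_2 D60410 D61554 (iv D60621) (iv D59427) (iv F264746)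
theorem F274652 : act 5 n61554 = n60656 := d25_2 (iv F269718) D61554 F270339
theorem F274653 : act 7 n61554 = n60643 := d27_2 (iv F269719) D61554 (iv D60643)
theorem F274654 : act 9 n61554 = n60672 := d29_2 (iv F269720) D61554 (iv D60672)
def n61555 : Q := act 0 n60412
theorem D61555 : act 0 n60412 = n61555 := rfl
theorem F274655 : act 3 n61555 = n60440 := d2_2 (iv F269725) D61555 (iv D60440)
theorem F274656 : act 5 n61555 = n60634 := d4_2 (iv F269726) D61555 (iv D60634)
theorem F274657 : act 7 n61555 = n60651 := d6_2 (iv F269727) D61555 (iv D60651)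
theorem F274658 : act 8 n61555 = n60414 := d7_2 (iv F269728) D61555 (iv D60414)
def n61556 : Q := act 4 n60412
theorem D61556 : act 4 n60412 = n61556 := rfl
theorem F274659 : act 1 n61556 = n60413 := d11_1 D61556 (iv D60413) D60412
theorem F274660 : act 7 n61556 = n60652 := d32_2 (iv F269727) D61556 (iv D60652)
theorem F274661 : act 8 n61556 = n60415 := d33_2 (iv F269728) D61556 (iv D60415)
def n61557 : Q := act 3 n60413
theorem D61557 : act 3 n60413 = n61557 := rfl
theorem F274662 : act 2 n61557 = n61557 := d17_1 D61557 (iv D61557) F269729 F264764 (iv F269729)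
theorem F274663 : act 4 n61557 = n60442 := d24_2 D60413 D61557 (iv D60442) (iv D59219) (iv F264760)
theorem F274664 : act 7 n61557 = n60653 := d27_2 (iv F269730) D61557 (iv D60653)
def n61558 : Q := act 4 n60414
theorem D61558 : act 4 n60414 = n61558 := rfl
theorem F274665 : act 0 n61558 = n60415 := d3_1 D61558 (iv D60415) D60414
theorem F274666 : act 7 n61558 = n60659 := d32_2 (iv F269734) D61558 (iv D60659)
theorem F274667 : act 9 n61558 = n60673 := d34_2 (iv F269735) D61558 (iv D60673)
def n61559 : Q := act 1 n60416
theorem D61559 : act 1 n60416 = n61559 := rfl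
theorem F274668 : act 3 n61559 = n60646 := d10_2 (iv F269739) D61559 (iv D60646)
theorem F274669 : act 6 n61559 = n60428 := d13_2 (iv F269740) D61559 (iv D60428)
theorem F274670 : act 8 n61559 = n60418 := d15_2 (iv F269741) D61559 (iv D60418)
def n61560 : Q := act 4 n60416
theorem D61560 : act 4 n60416 = n61560 := rfl
theorem F274671 : act 2 n61560 = n60417 := d18_1 D61560 (iv D60417) D60416
theorem F274672 : act 6 n61560 = n60429 := d31_2 (iv F269740) D61560 (iv D60429)
theorem F274673 : act 8 n61560 = n60419 := d33_2 (iv F269741) D61560 (iv D60419)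
def n61561 : Q := act 5 n60417
theorem D61561 : act 5 n60417 = n61561 := rfl
theorem F274674 : act 3 n61561 = n61561 := d25_1 D61561 (iv D61561) F269742
theorem F274675 : act 8 n61561 = n60420 := d37_2 (iv F269744) D61561 (iv D60420)
def n61562 : Q := act 0 n60418
theorem D61562 : act 0 n60418 = n61562 := rfl
theorem F274676 : act 3 n61562 = n60421 := d2_2 (iv F269745) D61562 (iv D60421)
theorem F274677 : act 6 n61562 = n60430 := d5_2 (iv F269746) D61562 (iv D60430)
theorem F274678 : act 9 n61562 = n60449 := d8_2 (iv F269747) D61562 (iv D60449)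
def n61563 : Q := act 4 n60418
theorem D61563 : act 4 n60418 = n61563 := rfl
theorem F274679 : act 1 n61563 = n60419 := d11_1 D61563 (iv D60419) D60418
theorem F274680 : act 3 n61563 = n60496 := d24_1 D61563 (iv D60496) (iv F266337) F266338 (iv F269745)
theorem F274681 : act 6 n61563 = n60431 := d31_2 (iv F269746) D61563 (iv D60431)
theorem F274682 : act 9 n61563 = n60450 := d34_2 (iv F269747) D61563 (iv D60450)
def n61564 : Q := act 5 n60419
theorem D61564 : act 5 n60419 = n61564 := rfl
theorem F274683 : act 2 n61564 = n60420 := d19_1 D61564 (iv D60420) (iv F269748)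
theorem F274684 : act 3 n61564 = n60497 := d25_1 D61564 (iv D60497) (iv F269749)
theorem F274685 : act 9 n61564 = n60451 := d38_2 (iv F269751) D61564 (iv D60451)
def n61565 : Q := act 1 n60422
theorem D61565 : act 1 n60422 = n61565 := rfl
theorem F274686 : act 2 n61565 = n60428 := d9_2 D60422 D61565 (iv D60428) (iv D59205) (iv F264795)
theorem F274687 : act 5 n61565 = n60617 := d12_2 (iv F269758) D61565 (iv D60617)
theorem F274688 : act 7 n61565 = n60432 := d14_2 (iv F269759) D61565 (iv D60432)
theorem F274689 : act 8 n61565 = n60424 := d15_2 (iv F269760) D61565 (iv D60424)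
def n61566 : Q := act 4 n60422
theorem D61566 : act 4 n60422 = n61566 := rfl
theorem F274690 : act 2 n61566 = n60423 := d18_1 D61566 (iv D60423) D60422
theorem F274691 : act 7 n61566 = n60433 := d32_2 (iv F269759) D61566 (iv D60433)
theorem F274692 : act 8 n61566 = n60425 := d33_2 (iv F269760) D61566 (iv D60425)
def n61567 : Q := act 0 n60424
theorem D61567 : act 0 n60424 = n61567 := rfl
theorem F274693 : act 2 n61567 = n60430 := d1_2 (iv F269765) D61567 (iv D60430)
theorem F274694 : act 3 n61567 = n60633 := d2_2 (iv F269766) D61567 (iv D60633)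
theorem F274695 : act 5 n61567 = n60619 := d4_2 (iv F269767) D61567 (iv D60619)
theorem F274696 : act 7 n61567 = n60435 := d6_2 (iv F269768) D61567 (iv D60435)
theorem F274697 : act 9 n61567 = n60457 := d8_2 (iv F269769) D61567 (iv D60457)
def n61568 : Q := act 4 n60424
theorem D61568 : act 4 n60424 = n61568 := rfl
theorem F274698 : act 1 n61568 = n60425 := d11_1 D61568 (iv D60425) D60424
theorem F274699 : act 2 n61568 = n60431 := d18_1 D61568 (iv D60431) (iv F269765)
theorem F274700 : act 3 n61568 = n60569 := d24_1 D61568 (iv D60569) F265187 (iv F265364) (iv F269766)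
theorem F274701 : act 7 n61568 = n60436 := d32_2 (iv F269768) D61568 (iv D60436)
theorem F274702 : act 9 n61568 = n60458 := d34_2 (iv F269769) D61568 (iv D60458)
def n61569 : Q := act 1 n60426
theorem D61569 : act 1 n60426 = n61569 := rfl
theorem F274703 : act 3 n61569 = n60649 := d10_2 (iv F269774) D61569 (iv D60649)
theorem F274704 : act 5 n61569 = n60622 := d12_2 (iv F269775) D61569 (iv D60622)
theorem F274705 : act 7 n61569 = n60438 := d14_2 (iv F269776) D61569 (iv D60438)
theorem F274706 : act 8 n61569 = n60463 := d15_2 (iv F269777) D61569 (iv D60463)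
theorem F274707 : act 9 n61569 = n60428 := d16_2 (iv F269778) D61569 (iv D60428)
def n61570 : Q := act 4 n60426
theorem D61570 : act 4 n60426 = n61570 := rfl
theorem F274708 : act 2 n61570 = n60427 := d18_1 D61570 (iv D60427) D60426
theorem F274709 : act 7 n61570 = n60439 := d32_2 (iv F269776) D61570 (iv D60439)
theorem F274710 : act 8 n61570 = n60464 := d33_2 (iv F269777) D61570 (iv D60464)
theorem F274711 : act 9 n61570 = n60429 := d34_2 (iv F269778) D61570 (iv D60429)
def n61571 : Q := act 0 n60428
theorem D61571 : act 0 n60428 = n61571 := rfl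
theorem F274712 : act 3 n61571 = n60651 := d2_2 (iv F269783) D61571 (iv D60651)
theorem F274713 : act 5 n61571 = n60624 := d4_2 (iv F269784) D61571 (iv D60624)
theorem F274714 : act 7 n61571 = n60440 := d6_2 (iv F269785) D61571 (iv D60440)
theorem F274715 : act 8 n61571 = n60430 := d7_2 (iv F269786) D61571 (iv D60430)
def n61572 : Q := act 4 n60428
theorem D61572 : act 4 n60428 = n61572 := rfl
theorem F274716 : act 1 n61572 = n60429 := d11_1 D61572 (iv D60429) D60428
theorem F274717 : act 7 n61572 = n60441 := d32_2 (iv F269785) D61572 (iv D60441)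
theorem F274718 : act 8 n61572 = n60431 := d33_2 (iv F269786) D61572 (iv D60431)
def n61573 : Q := act 3 n60429
theorem D61573 : act 3 n60429 = n61573 := rfl
theorem F274719 : act 2 n61573 = n61573 := d17_1 D61573 (iv D61573) F269787 F264815 (iv F269787)
theorem F274720 : act 4 n61573 = n60653 := d24_2 D60429 D61573 (iv D60653) (iv D59459) (iv F264811)
theorem F274721 : act 7 n61573 = n60442 := d27_2 (iv F269788) D61573 (iv D60442)
def n61574 : Q := act 4 n60430
theorem D61574 : act 4 n60430 = n61574 := rfl
theorem F274722 : act 0 n61574 = n60431 := d3_1 D61574 (iv D60431) D60430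
theorem F274723 : act 7 n61574 = n60444 := d32_2 (iv F269792) D61574 (iv D60444)
theorem F274724 : act 9 n61574 = n60472 := d34_2 (iv F269793) D61574 (iv D60472)
def n61575 : Q := act 0 n60432
theorem D61575 : act 0 n60432 = n61575 := rfl
theorem F274725 : act 2 n61575 = n60440 := d1_2 (iv F269797) D61575 (iv D60440)
theorem F274726 : act 8 n61575 = n60435 := d7_2 (iv F269798) D61575 (iv D60435)
def n61576 : Q := act 4 n60432
theorem D61576 : act 4 n60432 = n61576 := rfl
theorem F274727 : act 1 n61576 = n60433 := d11_1 D61576 (iv D60433) D60432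
theorem F274728 : act 2 n61576 = n60441 := d18_1 D61576 (iv D60441) (iv F269797)
theorem F274729 : act 8 n61576 = n60436 := d33_2 (iv F269798) D61576 (iv D60436)
def n61577 : Q := act 3 n60433
theorem D61577 : act 3 n60433 = n61577 := rfl
theorem F274730 : act 2 n61577 = n61577 := d17_1 D61577 (iv D61577) F269799 F264832 (iv F269799)
def n61578 : Q := act 0 n60434
theorem D61578 : act 0 n60434 = n61578 := rfl
theorem F274731 : act 1 n61578 = n60680 := d0_2 D60434 D61578 (iv D60680) (iv D59494) (iv F264834)
theorem F274732 : act 2 n61578 = n60443 := d1_2 (iv F269801) D61578 (iv D60443)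
theorem F274733 : act 3 n61578 = n60641 := d2_2 (iv F269802) D61578 (iv D60641)
theorem F274734 : act 5 n61578 = n60435 := d4_2 (iv F269803) D61578 (iv D60435)
theorem F274735 : act 6 n61578 = n60679 := d5_2 (iv F269804) D61578 (iv D60679)
theorem F274736 : act 7 n61578 = n60619 := d6_2 (iv F269805) D61578 (iv D60619)
theorem F274737 : act 9 n61578 = n60485 := d8_2 (iv F269806) D61578 (iv D60485)
def n61579 : Q := act 4 n60435
theorem D61579 : act 4 n60435 = n61579 := rfl
theorem F274738 : act 0 n61579 = n60436 := d3_1 D61579 (iv D60436) D60435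
theorem F274739 : act 2 n61579 = n60444 := d18_1 D61579 (iv D60444) (iv F269807)
theorem F274740 : act 9 n61579 = n60487 := d34_2 (iv F269809) D61579 (iv D60487)
def n61580 : Q := act 0 n60437
theorem D61580 : act 0 n60437 = n61580 := rfl
theorem F274741 : act 3 n61580 = n60634 := d2_2 (iv F269813) D61580 (iv D60634)
theorem F274742 : act 5 n61580 = n60440 := d4_2 (iv F269814) D61580 (iv D60440)
theorem F274743 : act 7 n61580 = n60624 := d6_2 (iv F269815) D61580 (iv D60624)
theorem F274744 : act 8 n61580 = n60443 := d7_2 (iv F269816) D61580 (iv D60443)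
def n61581 : Q := act 0 n60438
theorem D61581 : act 0 n60438 = n61581 := rfl
theorem F274745 : act 8 n61581 = n60495 := d7_2 (iv F269817) D61581 (iv D60495)
theorem F274746 : act 9 n61581 = n60440 := d8_2 (iv F269818) D61581 (iv D60440)
def n61582 : Q := act 4 n60438
theorem D61582 : act 4 n60438 = n61582 := rfl
theorem F274747 : act 1 n61582 = n60439 := d11_1 D61582 (iv D60439) D60438
theorem F274748 : act 8 n61582 = n60496 := d33_2 (iv F269817) D61582 (iv D60496)
theorem F274749 : act 9 n61582 = n60441 := d34_2 (iv F269818) D61582 (iv D60441)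
def n61583 : Q := act 3 n60439
theorem D61583 : act 3 n60439 = n61583 := rfl
theorem F274750 : act 2 n61583 = n61583 := d17_1 D61583 (iv D61583) F269819 F264851 (iv F269819)
theorem F274751 : act 9 n61583 = n60442 := d29_2 (iv F269821) D61583 (iv D60442)
def n61584 : Q := act 4 n60440
theorem D61584 : act 4 n60440 = n61584 := rfl
theorem F274752 : act 0 n61584 = n60441 := d3_1 D61584 (iv D60441) D60440
theorem F274753 : act 8 n61584 = n60444 := d33_2 (iv F269822) D61584 (iv D60444)
def n61585 : Q := act 3 n60441
theorem D61585 : act 3 n60441 = n61585 := rfl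
theorem F274754 : act 1 n61585 = n60442 := d10_1 D61585 (iv D60442) (iv F269823)
def n61586 : Q := act 0 n60446
theorem D61586 : act 0 n60446 = n61586 := rfl
theorem F274755 : act 3 n61586 = n60452 := d2_2 (iv F269837) D61586 (iv D60452)
theorem F274756 : act 5 n61586 = n60449 := d4_2 (iv F269838) D61586 (iv D60449)
def n61587 : Q := act 4 n60446
theorem D61587 : act 4 n60446 = n61587 := rfl
theorem F274757 : act 1 n61587 = n60447 := d11_1 D61587 (iv D60447) D60446
def n61588 : Q := act 3 n60447
theorem D61588 : act 3 n60447 = n61588 := rfl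
theorem F274758 : act 2 n61588 = n61588 := d17_1 D61588 (iv D61588) F269839 F264876 (iv F269839)
theorem F274759 : act 4 n61588 = n60454 := d24_2 D60447 D61588 (iv D60454) (iv D59231) (iv F264874)
def n61589 : Q := act 5 n60447
theorem D61589 : act 5 n60447 = n61589 := rfl
theorem F274760 : act 2 n61589 = n60448 := d19_1 D61589 (iv D60448) (iv F269839)
theorem F274761 : act 4 n61589 = n60451 := d30_1 D61589 (iv D60451) (iv D59228) (iv F264875) D60447
def n61590 : Q := act 4 n60449
theorem D61590 : act 4 n60449 = n61590 := rfl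
theorem F274762 : act 0 n61590 = n60450 := d3_1 D61590 (iv D60450) D60449
theorem F274763 : act 3 n61590 = n60498 := d24_1 D61590 (iv D60498) (iv F269491) F269492 (iv F269842)
theorem F274764 : act 6 n61590 = n60472 := d31_2 (iv F269843) D61590 (iv D60472)
def n61591 : Q := act 5 n60450
theorem D61591 : act 5 n60450 = n61591 := rfl
theorem F274765 : act 1 n61591 = n60451 := d12_1 D61591 (iv D60451) (iv F269844)
theorem F274766 : act 3 n61591 = n60499 := d25_1 D61591 (iv D60499) (iv F269845)
def n61592 : Q := act 4 n60452
theorem D61592 : act 4 n60452 = n61592 := rfl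
theorem F274767 : act 0 n61592 = n60453 := d3_1 D61592 (iv D60453) D60452
theorem F274768 : act 2 n61592 = n60667 := d18_1 D61592 (iv D60667) (iv F269849)
def n61593 : Q := act 3 n60453
theorem D61593 : act 3 n60453 = n61593 := rfl
theorem F274769 : act 1 n61593 = n60454 := d10_1 D61593 (iv D60454) (iv F269851)
def n61594 : Q := act 8 n60454
theorem D61594 : act 8 n60454 = n61594 := rfl
theorem F274770 : act 2 n61594 = n61594 := d22_1 D61594 (iv D61594) F269853
def n61595 : Q := act 0 n60455
theorem D61595 : act 0 n60455 = n61595 := rfl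
theorem F274771 : act 2 n61595 = n60470 := d1_2 (iv F269854) D61595 (iv D60470)
theorem F274772 : act 3 n61595 = n60670 := d2_2 (iv F269855) D61595 (iv D60670)
theorem F274773 : act 5 n61595 = n60457 := d4_2 (iv F269856) D61595 (iv D60457)
theorem F274774 : act 7 n61595 = n60485 := d6_2 (iv F269857) D61595 (iv D60485)
theorem F274775 : act 9 n61595 = n60619 := d8_2 (iv F269858) D61595 (iv D60619)
def n61596 : Q := act 4 n60455
theorem D61596 : act 4 n60455 = n61596 := rfl
theorem F274776 : act 1 n61596 = n60456 := d11_1 D61596 (iv D60456) D60455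
theorem F274777 : act 2 n61596 = n60471 := d18_1 D61596 (iv D60471) (iv F269854)
theorem F274778 : act 7 n61596 = n60486 := d32_2 (iv F269857) D61596 (iv D60486)
theorem F274779 : act 9 n61596 = n60620 := d34_2 (iv F269858) D61596 (iv D60620)
def n61597 : Q := act 4 n60457
theorem D61597 : act 4 n60457 = n61597 := rfl
theorem F274780 : act 0 n61597 = n60458 := d3_1 D61597 (iv D60458) D60457
theorem F274781 : act 2 n61597 = n60472 := d18_1 D61597 (iv D60472) (iv F269862)
theorem F274782 : act 3 n61597 = n60570 := d24_1 D61597 (iv D60570) F265191 (iv F265454) (iv F269863)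
theorem F274783 : act 7 n61597 = n60487 := d32_2 (iv F269864) D61597 (iv D60487)
def n61598 : Q := act 1 n60459
theorem D61598 : act 1 n60459 = n61598 := rfl
theorem F274784 : act 3 n61598 = n60547 := d10_2 (iv F269869) D61598 (iv D60547)
theorem F274785 : act 5 n61598 = n60463 := d12_2 (iv F269870) D61598 (iv D60463)
theorem F274786 : act 7 n61598 = n60490 := d14_2 (iv F269871) D61598 (iv D60490)
theorem F274787 : act 8 n61598 = n60622 := d15_2 (iv F269872) D61598 (iv D60622)
theorem F274788 : act 9 n61598 = n60461 := d16_2 (iv F269873) D61598 (iv D60461)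
def n61599 : Q := act 4 n60459
theorem D61599 : act 4 n60459 = n61599 := rfl
theorem F274789 : act 2 n61599 = n60460 := d18_1 D61599 (iv D60460) D60459
theorem F274790 : act 7 n61599 = n60491 := d32_2 (iv F269871) D61599 (iv D60491)
theorem F274791 : act 8 n61599 = n60623 := d33_2 (iv F269872) D61599 (iv D60623)
theorem F274792 : act 9 n61599 = n60462 := d34_2 (iv F269873) D61599 (iv D60462)
def n61600 : Q := act 0 n60461
theorem D61600 : act 0 n60461 = n61600 := rfl
theorem F274793 : act 3 n61600 = n60549 := d2_2 (iv F269878) D61600 (iv D60549)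
theorem F274794 : act 5 n61600 = n60466 := d4_2 (iv F269879) D61600 (iv D60466)
theorem F274795 : act 7 n61600 = n60492 := d6_2 (iv F269880) D61600 (iv D60492)
theorem F274796 : act 8 n61600 = n60470 := d7_2 (iv F269881) D61600 (iv D60470)
def n61601 : Q := act 4 n60461
theorem D61601 : act 4 n60461 = n61601 := rfl
theorem F274797 : act 1 n61601 = n60462 := d11_1 D61601 (iv D60462) D60461
theorem F274798 : act 7 n61601 = n60493 := d32_2 (iv F269880) D61601 (iv D60493)
theorem F274799 : act 8 n61601 = n60471 := d33_2 (iv F269881) D61601 (iv D60471)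
def n61602 : Q := act 3 n60462
theorem D61602 : act 3 n60462 = n61602 := rfl
theorem F274800 : act 2 n61602 = n61602 := d17_1 D61602 (iv D61602) F269882 F264910 (iv F269882)
theorem F274801 : act 4 n61602 = n60551 := d24_2 D60462 D61602 (iv D60551) (iv D59337) (iv F264906)
theorem F274802 : act 7 n61602 = n60494 := d27_2 (iv F269883) D61602 (iv D60494)
def n61603 : Q := act 0 n60463
theorem D61603 : act 0 n60463 = n61603 := rfl
theorem F274803 : act 7 n61603 = n60495 := d6_2 (iv F269885) D61603 (iv D60495)
theorem F274804 : act 9 n61603 = n60466 := d8_2 (iv F269886) D61603 (iv D60466)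
def n61604 : Q := act 4 n60463
theorem D61604 : act 4 n60463 = n61604 := rfl
theorem F274805 : act 1 n61604 = n60464 := d11_1 D61604 (iv D60464) D60463
theorem F274806 : act 7 n61604 = n60496 := d32_2 (iv F269885) D61604 (iv D60496)
theorem F274807 : act 9 n61604 = n60467 := d34_2 (iv F269886) D61604 (iv D60467)
def n61605 : Q := act 5 n60464
theorem D61605 : act 5 n60464 = n61605 := rfl
theorem F274808 : act 2 n61605 = n60465 := d19_1 D61605 (iv D60465) (iv F269887)
theorem F274809 : act 7 n61605 = n60497 := d36_2 (iv F269888) D61605 (iv D60497)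
theorem F274810 : act 9 n61605 = n60468 := d38_2 (iv F269889) D61605 (iv D60468)
def n61606 : Q := act 6 n60465
theorem D61606 : act 6 n60465 = n61606 := rfl
theorem F274811 : act 3 n61606 = n60507 := d26_1 D61606 (iv D60507) (iv F269890)
theorem F274812 : act 9 n61606 = n60469 := d41_2 (iv F269892) D61606 (iv D60469)
def n61607 : Q := act 4 n60466
theorem D61607 : act 4 n60466 = n61607 := rfl
theorem F274813 : act 0 n61607 = n60467 := d3_1 D61607 (iv D60467) D60466
theorem F274814 : act 7 n61607 = n60498 := d32_2 (iv F269893) D61607 (iv D60498)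
theorem F274815 : act 8 n61607 = n60472 := d33_2 (iv F269894) D61607 (iv D60472)
def n61608 : Q := act 5 n60467
theorem D61608 : act 5 n60467 = n61608 := rfl
theorem F274816 : act 1 n61608 = n60468 := d12_1 D61608 (iv D60468) (iv F269895)
theorem F274817 : act 7 n61608 = n60499 := d36_2 (iv F269896) D61608 (iv D60499)
theorem F274818 : act 8 n61608 = n60473 := d37_2 (iv F269897) D61608 (iv D60473)
def n61609 : Q := act 6 n60468
theorem D61609 : act 6 n60468 = n61609 := rfl
theorem F274819 : act 2 n61609 = n60469 := d20_1 D61609 (iv D60469) (iv F269898)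
theorem F274820 : act 8 n61609 = n60474 := d40_2 (iv F269900) D61609 (iv D60474)
def n61610 : Q := act 4 n60470
theorem D61610 : act 4 n60470 = n61610 := rfl
theorem F274821 : act 0 n61610 = n60471 := d3_1 D61610 (iv D60471) D60470
theorem F274822 : act 7 n61610 = n60504 := d32_2 (iv F269905) D61610 (iv D60504)
theorem F274823 : act 9 n61610 = n60626 := d34_2 (iv F269906) D61610 (iv D60626)
def n61611 : Q := act 5 n60472
theorem D61611 : act 5 n60472 = n61611 := rfl
theorem F274824 : act 0 n61611 = n60473 := d4_1 D61611 (iv D60473) (iv F269910)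
theorem F274825 : act 7 n61611 = n60505 := d36_2 (iv F269911) D61611 (iv D60505)
def n61612 : Q := act 6 n60473
theorem D61612 : act 6 n60473 = n61612 := rfl
theorem F274826 : act 1 n61612 = n60474 := d13_1 D61612 (iv D60474) (iv F269912)
def n61613 : Q := act 0 n60475
theorem D61613 : act 0 n60475 = n61613 := rfl
theorem F274827 : act 1 n61613 = n60485 := d0_2 D60475 D61613 (iv D60485) (iv D59262) (iv F264945)
theorem F274828 : act 2 n61613 = n60657 := d1_2 (iv F269915) D61613 (iv D60657)
theorem F274829 : act 3 n61613 = n60679 := d2_2 (iv F269916) D61613 (iv D60679)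
theorem F274830 : act 5 n61613 = n60477 := d4_2 (iv F269917) D61613 (iv D60477)
theorem F274831 : act 6 n61613 = n60641 := d5_2 (iv F269918) D61613 (iv D60641)
theorem F274832 : act 9 n61613 = n60680 := d8_2 (iv F269919) D61613 (iv D60680)
def n61614 : Q := act 4 n60475
theorem D61614 : act 4 n60475 = n61614 := rfl
theorem F274833 : act 1 n61614 = n60476 := d11_1 D61614 (iv D60476) D60475
theorem F274834 : act 2 n61614 = n60658 := d18_1 D61614 (iv D60658) (iv F269915)
theorem F274835 : act 6 n61614 = n60642 := d31_2 (iv F269918) D61614 (iv D60642)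
theorem F274836 : act 9 n61614 = n60681 := d34_2 (iv F269919) D61614 (iv D60681)
def n61615 : Q := act 0 n60478
theorem D61615 : act 0 n60478 = n61615 := rfl
theorem F274837 : act 2 n61615 = n60492 := d1_2 (iv F269926) D61615 (iv D60492)
theorem F274838 : act 5 n61615 = n60482 := d4_2 (iv F269927) D61615 (iv D60482)
theorem F274839 : act 8 n61615 = n60485 := d7_2 (iv F269928) D61615 (iv D60485)
def n61616 : Q := act 4 n60478
theorem D61616 : act 4 n60478 = n61616 := rfl
theorem F274840 : act 1 n61616 = n60479 := d11_1 D61616 (iv D60479) D60478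
theorem F274841 : act 2 n61616 = n60493 := d18_1 D61616 (iv D60493) (iv F269926)
theorem F274842 : act 8 n61616 = n60486 := d33_2 (iv F269928) D61616 (iv D60486)
def n61617 : Q := act 3 n60479
theorem D61617 : act 3 n60479 = n61617 := rfl
theorem F274843 : act 2 n61617 = n61617 := d17_1 D61617 (iv D61617) F269929 F264959 (iv F269929)
def n61618 : Q := act 0 n60480
theorem D61618 : act 0 n60480 = n61618 := rfl
theorem F274844 : act 2 n61618 = n60495 := d1_2 (iv F269931) D61618 (iv D60495)
theorem F274845 : act 9 n61618 = n60482 := d8_2 (iv F269932) D61618 (iv D60482)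
def n61619 : Q := act 4 n60480
theorem D61619 : act 4 n60480 = n61619 := rfl
theorem F274846 : act 1 n61619 = n60481 := d11_1 D61619 (iv D60481) D60480
theorem F274847 : act 2 n61619 = n60496 := d18_1 D61619 (iv D60496) (iv F269931)
theorem F274848 : act 9 n61619 = n60483 := d34_2 (iv F269932) D61619 (iv D60483)
def n61620 : Q := act 4 n60482
theorem D61620 : act 4 n60482 = n61620 := rfl
theorem F274849 : act 0 n61620 = n60483 := d3_1 D61620 (iv D60483) D60482
theorem F274850 : act 2 n61620 = n60498 := d18_1 D61620 (iv D60498) (iv F269935)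
theorem F274851 : act 8 n61620 = n60487 := d33_2 (iv F269936) D61620 (iv D60487)
def n61621 : Q := act 0 n60484
theorem D61621 : act 0 n60484 = n61621 := rfl
theorem F274852 : act 1 n61621 = n60641 := d0_2 D60484 D61621 (iv D60641) (iv D59450) (iv F264969)
theorem F274853 : act 2 n61621 = n60502 := d1_2 (iv F269940) D61621 (iv D60502)
theorem F274854 : act 3 n61621 = n60680 := d2_2 (iv F269941) D61621 (iv D60680)
theorem F274855 : act 5 n61621 = n60635 := d4_2 (iv F269942) D61621 (iv D60635)
theorem F274856 : act 6 n61621 = n60485 := d5_2 (iv F269943) D61621 (iv D60485)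
theorem F274857 : act 9 n61621 = n60679 := d8_2 (iv F269944) D61621 (iv D60679)
def n61622 : Q := act 4 n60485
theorem D61622 : act 4 n60485 = n61622 := rfl
theorem F274858 : act 0 n61622 = n60486 := d3_1 D61622 (iv D60486) D60485
theorem F274859 : act 2 n61622 = n60504 := d18_1 D61622 (iv D60504) (iv F269945)
def n61623 : Q := act 0 n60488
theorem D61623 : act 0 n60488 = n61623 := rfl
theorem F274860 : act 1 n61623 = n60661 := d0_2 D60488 D61623 (iv D60661) (iv D59471) (iv F264982)
theorem F274861 : act 3 n61623 = n60608 := d2_2 (iv F269952) D61623 (iv D60608)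
theorem F274862 : act 5 n61623 = n60607 := d4_2 (iv F269953) D61623 (iv D60607)
theorem F274863 : act 6 n61623 = n60492 := d5_2 (iv F269954) D61623 (iv D60492)
theorem F274864 : act 8 n61623 = n60502 := d7_2 (iv F269955) D61623 (iv D60502)
def n61624 : Q := act 4 n60488
theorem D61624 : act 4 n60488 = n61624 := rfl
theorem F274865 : act 1 n61624 = n60489 := d11_1 D61624 (iv D60489) D60488
theorem F274866 : act 6 n61624 = n60493 := d31_2 (iv F269954) D61624 (iv D60493)
theorem F274867 : act 8 n61624 = n60503 := d33_2 (iv F269955) D61624 (iv D60503)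
def n61625 : Q := act 3 n60489
theorem D61625 : act 3 n60489 = n61625 := rfl
theorem F274868 : act 0 n61625 = n60663 := d2_1 D61625 (iv D60663) (iv F269956)
theorem F274869 : act 2 n61625 = n61625 := d17_1 D61625 (iv D61625) F269957 F264988 (iv F269957)
theorem F274870 : act 4 n61625 = n60610 := d24_2 D60489 D61625 (iv D60610) (iv D59413) (iv F264983)
theorem F274871 : act 6 n61625 = n60494 := d26_2 (iv F269958) D61625 (iv D60494)
def n61626 : Q := act 0 n60490
theorem D61626 : act 0 n60490 = n61626 := rfl
theorem F274872 : act 5 n61626 = n60495 := d4_2 (iv F269960) D61626 (iv D60495)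
theorem F274873 : act 9 n61626 = n60492 := d8_2 (iv F269961) D61626 (iv D60492)
def n61627 : Q := act 4 n60490
theorem D61627 : act 4 n60490 = n61627 := rfl
theorem F274874 : act 1 n61627 = n60491 := d11_1 D61627 (iv D60491) D60490
theorem F274875 : act 9 n61627 = n60493 := d34_2 (iv F269961) D61627 (iv D60493)
def n61628 : Q := act 3 n60491
theorem D61628 : act 3 n60491 = n61628 := rfl
theorem F274876 : act 2 n61628 = n61628 := d17_1 D61628 (iv D61628) F269962 F264993 (iv F269962)
theorem F274877 : act 9 n61628 = n60494 := d29_2 (iv F269963) D61628 (iv D60494)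
def n61629 : Q := act 4 n60492
theorem D61629 : act 4 n60492 = n61629 := rfl
theorem F274878 : act 0 n61629 = n60493 := d3_1 D61629 (iv D60493) D60492
theorem F274879 : act 8 n61629 = n60504 := d33_2 (iv F269965) D61629 (iv D60504)
def n61630 : Q := act 3 n60493
theorem D61630 : act 3 n60493 = n61630 := rfl
theorem F274880 : act 1 n61630 = n60494 := d10_1 D61630 (iv D60494) (iv F269966)
def n61631 : Q := act 4 n60495
theorem D61631 : act 4 n60495 = n61631 := rfl
theorem F274881 : act 0 n61631 = n60496 := d3_1 D61631 (iv D60496) D60495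
theorem F274882 : act 9 n61631 = n60498 := d34_2 (iv F269969) D61631 (iv D60498)
def n61632 : Q := act 5 n60496
theorem D61632 : act 5 n60496 = n61632 := rfl
theorem F274883 : act 1 n61632 = n60497 := d12_1 D61632 (iv D60497) (iv F269970)
theorem F274884 : act 9 n61632 = n60499 := d38_2 (iv F269971) D61632 (iv D60499)
def n61633 : Q := act 5 n60498
theorem D61633 : act 5 n60498 = n61633 := rfl
theorem F274885 : act 0 n61633 = n60499 := d4_1 D61633 (iv D60499) (iv F269974)
theorem F274886 : act 8 n61633 = n60505 := d37_2 (iv F269975) D61633 (iv D60505)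
def n61634 : Q := act 0 n60500
theorem D61634 : act 0 n60500 = n61634 := rfl
theorem F274887 : act 3 n61634 = n60506 := d2_2 (iv F269978) D61634 (iv D60506)
theorem F274888 : act 7 n61634 = n60502 := d6_2 (iv F269979) D61634 (iv D60502)
def n61635 : Q := act 4 n60500
theorem D61635 : act 4 n60500 = n61635 := rfl
theorem F274889 : act 1 n61635 = n60501 := d11_1 D61635 (iv D60501) D60500
theorem F274890 : act 7 n61635 = n60503 := d32_2 (iv F269979) D61635 (iv D60503)
def n61636 : Q := act 4 n60502
theorem D61636 : act 4 n60502 = n61636 := rfl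
theorem F274891 : act 0 n61636 = n60503 := d3_1 D61636 (iv D60503) D60502
theorem F274892 : act 6 n61636 = n60504 := d31_2 (iv F269983) D61636 (iv D60504)
def n61637 : Q := act 4 n60510
theorem D61637 : act 4 n60510 = n61637 := rfl
theorem F274893 : act 0 n61637 = n60511 := d3_1 D61637 (iv D60511) D60510
theorem F274894 : act 1 n61637 = n60535 := d11_1 D61637 (iv D60535) (iv F270007)
theorem F274895 : act 3 n61637 = n60543 := d24_1 D61637 (iv D60543) F265134 (iv F265056) (iv F270008)
def n61638 : Q := act 5 n60511
theorem D61638 : act 5 n60511 = n61638 := rfl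
theorem F274896 : act 1 n61638 = n60512 := d12_1 D61638 (iv D60512) (iv F270009)
theorem F274897 : act 3 n61638 = n60544 := d25_1 D61638 (iv D60544) (iv F270010)
def n61639 : Q := act 1 n60513
theorem D61639 : act 1 n60513 = n61639 := rfl
theorem F274898 : act 6 n61639 = n60590 := d13_2 (iv F270014) D61639 (iv D60590)
theorem F274899 : act 8 n61639 = n60526 := d15_2 (iv F270015) D61639 (iv D60526)
theorem F274900 : act 9 n61639 = n60515 := d16_2 (iv F270016) D61639 (iv D60515)
def n61640 : Q := act 4 n60513
theorem D61640 : act 4 n60513 = n61640 := rfl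
theorem F274901 : act 2 n61640 = n60514 := d18_1 D61640 (iv D60514) D60513
theorem F274902 : act 6 n61640 = n60591 := d31_2 (iv F270014) D61640 (iv D60591)
theorem F274903 : act 8 n61640 = n60527 := d33_2 (iv F270015) D61640 (iv D60527)
theorem F274904 : act 9 n61640 = n60516 := d34_2 (iv F270016) D61640 (iv D60516)
def n61641 : Q := act 5 n60514
theorem D61641 : act 5 n60514 = n61641 := rfl
theorem F274905 : act 3 n61641 = n61641 := d25_1 D61641 (iv D61641) F270017
theorem F274906 : act 8 n61641 = n60528 := d37_2 (iv F270019) D61641 (iv D60528)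
theorem F274907 : act 9 n61641 = n60517 := d38_2 (iv F270020) D61641 (iv D60517)
def n61642 : Q := act 0 n60515
theorem D61642 : act 0 n60515 = n61642 := rfl
theorem F274908 : act 8 n61642 = n60518 := d7_2 (iv F270021) D61642 (iv D60518)
def n61643 : Q := act 4 n60515
theorem D61643 : act 4 n60515 = n61643 := rfl
theorem F274909 : act 1 n61643 = n60516 := d11_1 D61643 (iv D60516) D60515
theorem F274910 : act 8 n61643 = n60519 := d33_2 (iv F270021) D61643 (iv D60519)
def n61644 : Q := act 3 n60516
theorem D61644 : act 3 n60516 = n61644 := rfl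
theorem F274911 : act 2 n61644 = n61644 := d17_1 D61644 (iv D61644) F270022 F265062 (iv F270022)
theorem F274912 : act 8 n61644 = n60551 := d28_2 (iv F270023) D61644 (iv D60551) F265149 (iv F265067)
def n61645 : Q := act 5 n60516
theorem D61645 : act 5 n60516 = n61645 := rfl
theorem F274913 : act 2 n61645 = n60517 := d19_1 D61645 (iv D60517) (iv F270022)
theorem F274914 : act 8 n61645 = n60520 := d37_2 (iv F270023) D61645 (iv D60520)
def n61646 : Q := act 4 n60518
theorem D61646 : act 4 n60518 = n61646 := rfl
theorem F274915 : act 0 n61646 = n60519 := d3_1 D61646 (iv D60519) D60518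
theorem F274916 : act 3 n61646 = n60552 := d24_1 D61646 (iv D60552) F265150 (iv F265071) (iv F270026)
theorem F274917 : act 9 n61646 = n60535 := d34_2 (iv F270027) D61646 (iv D60535)
def n61647 : Q := act 5 n60519
theorem D61647 : act 5 n60519 = n61647 := rfl
theorem F274918 : act 1 n61647 = n60520 := d12_1 D61647 (iv D60520) (iv F270028)
theorem F274919 : act 3 n61647 = n60553 := d25_1 D61647 (iv D60553) (iv F270029)
theorem F274920 : act 9 n61647 = n60536 := d38_2 (iv F270030) D61647 (iv D60536)
def n61648 : Q := act 1 n60521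
theorem D61648 : act 1 n60521 = n61648 := rfl
theorem F274921 : act 3 n61648 = n60582 := d10_2 (iv F270034) D61648 (iv D60582)
theorem F274922 : act 5 n61648 = n60526 := d12_2 (iv F270035) D61648 (iv D60526)
theorem F274923 : act 6 n61648 = n60579 := d13_2 (iv F270036) D61648 (iv D60579)
theorem F274924 : act 9 n61648 = n60523 := d16_2 (iv F270037) D61648 (iv D60523)
def n61649 : Q := act 4 n60521
theorem D61649 : act 4 n60521 = n61649 := rfl
theorem F274925 : act 2 n61649 = n60522 := d18_1 D61649 (iv D60522) D60521
theorem F274926 : act 6 n61649 = n60580 := d31_2 (iv F270036) D61649 (iv D60580)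
theorem F274927 : act 9 n61649 = n60524 := d34_2 (iv F270037) D61649 (iv D60524)
def n61650 : Q := act 5 n60522
theorem D61650 : act 5 n60522 = n61650 := rfl
theorem F274928 : act 3 n61650 = n61650 := d25_1 D61650 (iv D61650) F270038
theorem F274929 : act 4 n61650 = n60528 := d30_1 D61650 (iv D60528) (iv D59309) (iv F265076) D60522
theorem F274930 : act 9 n61650 = n60525 := d38_2 (iv F270040) D61650 (iv D60525)
def n61651 : Q := act 0 n60523
theorem D61651 : act 0 n60523 = n61651 := rfl
theorem F274931 : act 3 n61651 = n60601 := d2_2 (iv F270041) D61651 (iv D60601)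
theorem F274932 : act 5 n61651 = n60529 := d4_2 (iv F270042) D61651 (iv D60529)
theorem F274933 : act 8 n61651 = n60532 := d7_2 (iv F270043) D61651 (iv D60532)
def n61652 : Q := act 4 n60523
theorem D61652 : act 4 n60523 = n61652 := rfl
theorem F274934 : act 1 n61652 = n60524 := d11_1 D61652 (iv D60524) D60523
theorem F274935 : act 8 n61652 = n60533 := d33_2 (iv F270043) D61652 (iv D60533)
def n61653 : Q := act 3 n60524
theorem D61653 : act 3 n60524 = n61653 := rfl
theorem F274936 : act 2 n61653 = n61653 := d17_1 D61653 (iv D61653) F270044 F265082 (iv F270044)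
theorem F274937 : act 4 n61653 = n60603 := d24_2 D60524 D61653 (iv D60603) (iv D59403) (iv F265079)
theorem F274938 : act 6 n61653 = n60669 := d26_2 F272434 D61653 F272438
theorem F274939 : act 8 n61653 = n60666 := d28_2 (iv F270045) D61653 (iv D60666) (iv F265656) F265653
def n61654 : Q := act 5 n60524
theorem D61654 : act 5 n60524 = n61654 := rfl
theorem F274940 : act 2 n61654 = n60525 := d19_1 D61654 (iv D60525) (iv F270044)
theorem F274941 : act 4 n61654 = n60531 := d30_1 D61654 (iv D60531) (iv D59311) (iv F265080) D60524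
theorem F274942 : act 8 n61654 = n60534 := d37_2 (iv F270045) D61654 (iv D60534)
def n61655 : Q := act 0 n60526
theorem D61655 : act 0 n60526 = n61655 := rfl
theorem F274943 : act 3 n61655 = n60595 := d2_2 (iv F270049) D61655 (iv D60595)
theorem F274944 : act 6 n61655 = n60593 := d5_2 (iv F270050) D61655 (iv D60593)
theorem F274945 : act 9 n61655 = n60529 := d8_2 (iv F270051) D61655 (iv D60529)
def n61656 : Q := act 4 n60526
theorem D61656 : act 4 n60526 = n61656 := rfl
theorem F274946 : act 1 n61656 = n60527 := d11_1 D61656 (iv D60527) D60526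
theorem F274947 : act 6 n61656 = n60594 := d31_2 (iv F270050) D61656 (iv D60594)
theorem F274948 : act 9 n61656 = n60530 := d34_2 (iv F270051) D61656 (iv D60530)
def n61657 : Q := act 5 n60527
theorem D61657 : act 5 n60527 = n61657 := rfl
theorem F274949 : act 2 n61657 = n60528 := d19_1 D61657 (iv D60528) (iv F270052)
theorem F274950 : act 9 n61657 = n60531 := d38_2 (iv F270054) D61657 (iv D60531)
def n61658 : Q := act 4 n60529
theorem D61658 : act 4 n60529 = n61658 := rfl
theorem F274951 : act 0 n61658 = n60530 := d3_1 D61658 (iv D60530) D60529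
theorem F274952 : act 8 n61658 = n60535 := d33_2 (iv F270058) D61658 (iv D60535)
def n61659 : Q := act 5 n60530
theorem D61659 : act 5 n60530 = n61659 := rfl
theorem F274953 : act 1 n61659 = n60531 := d12_1 D61659 (iv D60531) (iv F270059)
theorem F274954 : act 8 n61659 = n60536 := d37_2 (iv F270060) D61659 (iv D60536)
def n61660 : Q := act 4 n60532
theorem D61660 : act 4 n60532 = n61660 := rfl
theorem F274955 : act 0 n61660 = n60533 := d3_1 D61660 (iv D60533) D60532
def n61661 : Q := act 5 n60533
theorem D61661 : act 5 n60533 = n61661 := rfl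
theorem F274956 : act 1 n61661 = n60534 := d12_1 D61661 (iv D60534) (iv F270065)
theorem F274957 : act 4 n61661 = n60536 := d30_1 D61661 (iv D60536) (iv D59317) (iv F265097) D60533
def n61662 : Q := act 5 n60535
theorem D61662 : act 5 n60535 = n61662 := rfl
theorem F274958 : act 0 n61662 = n60536 := d4_1 D61662 (iv D60536) (iv F270068)
theorem F274959 : act 3 n61662 = n60573 := d25_1 D61662 (iv D60573) (iv F270069)
def n61663 : Q := act 6 n60536
theorem D61663 : act 6 n60536 = n61663 := rfl
theorem F274960 : act 1 n61663 = n60537 := d13_1 D61663 (iv D60537) (iv F270070)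
theorem F274961 : act 3 n61663 = n60574 := d26_1 D61663 (iv D60574) (iv F270071)
def n61664 : Q := act 0 n60538
theorem D61664 : act 0 n60538 = n61664 := rfl
theorem F274962 : act 1 n61664 = n60549 := d0_2 D60538 D61664 (iv D60549) (iv D59336) (iv F265113)
theorem F274963 : act 5 n61664 = n60678 := d4_2 (iv F270074) D61664 (iv D60678)
theorem F274964 : act 7 n61664 = n60664 := d6_2 (iv F270075) D61664 (iv D60664)
theorem F274965 : act 8 n61664 = n60540 := d7_2 (iv F270076) D61664 (iv D60540)
def n61665 : Q := act 4 n60538
theorem D61665 : act 4 n60538 = n61665 := rfl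
theorem F274966 : act 1 n61665 = n60539 := d11_1 D61665 (iv D60539) D60538
theorem F274967 : act 7 n61665 = n60665 := d32_2 (iv F270075) D61665 (iv D60665)
theorem F274968 : act 8 n61665 = n60541 := d33_2 (iv F270076) D61665 (iv D60541)
def n61666 : Q := act 3 n60539
theorem D61666 : act 3 n60539 = n61666 := rfl
theorem F274969 : act 0 n61666 = n60551 := d2_1 D61666 (iv D60551) (iv F270077)
theorem F274970 : act 2 n61666 = n61666 := d17_1 D61666 (iv D61666) F270078 F265118 (iv F270078)
theorem F274971 : act 7 n61666 = n60666 := d27_2 (iv F270079) D61666 (iv D60666)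
def n61667 : Q := act 4 n60540
theorem D61667 : act 4 n60540 = n61667 := rfl
theorem F274972 : act 0 n61667 = n60541 := d3_1 D61667 (iv D60541) D60540
theorem F274973 : act 1 n61667 = n60552 := d11_1 D61667 (iv D60552) (iv F270081)
theorem F274974 : act 9 n61667 = n60543 := d34_2 (iv F270083) D61667 (iv D60543)
def n61668 : Q := act 5 n60543
theorem D61668 : act 5 n60543 = n61668 := rfl
theorem F274975 : act 0 n61668 = n60544 := d4_1 D61668 (iv D60544) (iv F270089)
theorem F274976 : act 1 n61668 = n60573 := d12_1 D61668 (iv D60573) (iv F270090)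
def n61669 : Q := act 4 n60545
theorem D61669 : act 4 n60545 = n61669 := rfl
theorem F274977 : act 0 n61669 = n60546 := d3_1 D61669 (iv D60546) D60545
theorem F274978 : act 2 n61669 = n60552 := d18_1 D61669 (iv D60552) (iv F270092)
theorem F274979 : act 9 n61669 = n60566 := d34_2 (iv F270093) D61669 (iv D60566)
def n61670 : Q := act 0 n60547
theorem D61670 : act 0 n60547 = n61670 := rfl
theorem F274980 : act 8 n61670 = n60568 := d7_2 (iv F270097) D61670 (iv D60568)
theorem F274981 : act 9 n61670 = n60549 := d8_2 (iv F270098) D61670 (iv D60549)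
def n61671 : Q := act 4 n60547
theorem D61671 : act 4 n60547 = n61671 := rfl
theorem F274982 : act 1 n61671 = n60548 := d11_1 D61671 (iv D60548) D60547
theorem F274983 : act 8 n61671 = n60569 := d33_2 (iv F270097) D61671 (iv D60569)
theorem F274984 : act 9 n61671 = n60550 := d34_2 (iv F270098) D61671 (iv D60550)
def n61672 : Q := act 3 n60548
theorem D61672 : act 3 n60548 = n61672 := rfl
theorem F274985 : act 2 n61672 = n61672 := d17_1 D61672 (iv D61672) F270099 F265144 (iv F270099)
theorem F274986 : act 9 n61672 = n60551 := d29_2 (iv F270101) D61672 (iv D60551)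
def n61673 : Q := act 4 n60549
theorem D61673 : act 4 n60549 = n61673 := rfl
theorem F274987 : act 0 n61673 = n60550 := d3_1 D61673 (iv D60550) D60549
theorem F274988 : act 8 n61673 = n60552 := d33_2 (iv F270102) D61673 (iv D60552)
def n61674 : Q := act 3 n60550
theorem D61674 : act 3 n60550 = n61674 := rfl
theorem F274989 : act 1 n61674 = n60551 := d10_1 D61674 (iv D60551) (iv F270103)
def n61675 : Q := act 5 n60552
theorem D61675 : act 5 n60552 = n61675 := rfl
theorem F274990 : act 0 n61675 = n60553 := d4_1 D61675 (iv D60553) (iv F270106)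
theorem F274991 : act 9 n61675 = n60573 := d38_2 (iv F270107) D61675 (iv D60573)
def n61676 : Q := act 4 n60554
theorem D61676 : act 4 n60554 = n61676 := rfl
theorem F274992 : act 0 n61676 = n60555 := d3_1 D61676 (iv D60555) D60554
theorem F274993 : act 3 n61676 = n60566 := d24_1 D61676 (iv D60566) (iv F269473) F269474 (iv F270110)
theorem F274994 : act 6 n61676 = n60560 := d31_2 (iv F270111) D61676 (iv D60560)
def n61677 : Q := act 4 n60556
theorem D61677 : act 4 n60556 = n61677 := rfl
theorem F274995 : act 0 n61677 = n60557 := d3_1 D61677 (iv D60557) D60556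
theorem F274996 : act 8 n61677 = n60667 := d33_2 (iv F270116) D61677 (iv D60667)
def n61678 : Q := act 4 n60558
theorem D61678 : act 4 n60558 = n61678 := rfl
theorem F274997 : act 0 n61678 = n60559 := d3_1 D61678 (iv D60559) D60558
theorem F274998 : act 2 n61678 = n60560 := d18_1 D61678 (iv D60560) (iv F270119)
theorem F274999 : act 7 n61678 = n60566 := d32_2 (iv F270120) D61678 (iv D60566)
def n61679 : Q := act 4 n60561
theorem D61679 : act 4 n60561 = n61679 := rfl
theorem F275000 : act 0 n61679 = n60562 := d3_1 D61679 (iv D60562) D60561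
theorem F275001 : act 1 n61679 = n60566 := d11_1 D61679 (iv D60566) (iv F270126)
def n61680 : Q := act 4 n60563
theorem D61680 : act 4 n60563 = n61680 := rfl
theorem F275002 : act 0 n61680 = n60564 := d3_1 D61680 (iv D60564) D60563
theorem F275003 : act 2 n61680 = n60570 := d18_1 D61680 (iv D60570) (iv F270128)
theorem F275004 : act 8 n61680 = n60566 := d33_2 (iv F270129) D61680 (iv D60566)
def n61681 : Q := act 5 n60566
theorem D61681 : act 5 n60566 = n61681 := rfl
theorem F275005 : act 0 n61681 = n60567 := d4_1 D61681 (iv D60567) (iv F270135)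
theorem F275006 : act 2 n61681 = n60573 := d19_1 D61681 (iv D60573) (iv F270136)
def n61682 : Q := act 4 n60568
theorem D61682 : act 4 n60568 = n61682 := rfl
theorem F275007 : act 0 n61682 = n60569 := d3_1 D61682 (iv D60569) D60568
theorem F275008 : act 9 n61682 = n60570 := d34_2 (iv F270140) D61682 (iv D60570)
def n61683 : Q := act 6 n60573
theorem D61683 : act 6 n60573 = n61683 := rfl
theorem F275009 : act 0 n61683 = n60574 := d5_1 D61683 (iv D60574) (iv F270150)
def n61684 : Q := act 0 n60575
theorem D61684 : act 0 n60575 = n61684 := rfl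
theorem F275010 : act 1 n61684 = n60584 := d0_2 D60575 D61684 (iv D60584) (iv D59382) (iv F265207)
theorem F275011 : act 5 n61684 = n60577 := d4_2 (iv F270152) D61684 (iv D60577)
def n61685 : Q := act 4 n60575
theorem D61685 : act 4 n60575 = n61685 := rfl
theorem F275012 : act 1 n61685 = n60576 := d11_1 D61685 (iv D60576) D60575
theorem F275013 : act 5 n61685 = n60609 := d30_2 (iv F270152) D61685 (iv D60609) F265310 (iv F265212)
def n61686 : Q := act 0 n60579
theorem D61686 : act 0 n60579 = n61686 := rfl
theorem F275014 : act 3 n61686 = n60584 := d2_2 (iv F270162) D61686 (iv D60584)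
theorem F275015 : act 5 n61686 = n60581 := d4_2 (iv F270163) D61686 (iv D60581)
def n61687 : Q := act 4 n60579
theorem D61687 : act 4 n60579 = n61687 := rfl
theorem F275016 : act 1 n61687 = n60580 := d11_1 D61687 (iv D60580) D60579
def n61688 : Q := act 3 n60580
theorem D61688 : act 3 n60580 = n61688 := rfl
theorem F275017 : act 2 n61688 = n61688 := d17_1 D61688 (iv D61688) F270164 F265230 (iv F270164)
theorem F275018 : act 4 n61688 = n60586 := d24_2 D60580 D61688 (iv D60586) (iv D59383) (iv F265228)
theorem F275019 : act 9 n61688 = n60669 := d29_2 F272437 D61688 F272438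
def n61689 : Q := act 0 n60582
theorem D61689 : act 0 n60582 = n61689 := rfl
theorem F275020 : act 2 n61689 = n60608 := d1_2 (iv F270167) D61689 (iv D60608)
theorem F275021 : act 5 n61689 = n60595 := d4_2 (iv F270168) D61689 (iv D60595)
theorem F275022 : act 6 n61689 = n60584 := d5_2 (iv F270169) D61689 (iv D60584)
theorem F275023 : act 9 n61689 = n60601 := d8_2 (iv F270170) D61689 (iv D60601)
def n61690 : Q := act 4 n60582
theorem D61690 : act 4 n60582 = n61690 := rfl
theorem F275024 : act 1 n61690 = n60583 := d11_1 D61690 (iv D60583) D60582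
theorem F275025 : act 2 n61690 = n60609 := d18_1 D61690 (iv D60609) (iv F270167)
theorem F275026 : act 6 n61690 = n60585 := d31_2 (iv F270169) D61690 (iv D60585)
theorem F275027 : act 9 n61690 = n60602 := d34_2 (iv F270170) D61690 (iv D60602)
def n61691 : Q := act 3 n60583
theorem D61691 : act 3 n60583 = n61691 := rfl
theorem F275028 : act 2 n61691 = n61691 := d17_1 D61691 (iv D61691) F270171 F265237 (iv F270171)
theorem F275029 : act 6 n61691 = n60586 := d26_2 (iv F270172) D61691 (iv D60586)
theorem F275030 : act 9 n61691 = n60603 := d29_2 (iv F270173) D61691 (iv D60603)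
def n61692 : Q := act 4 n60584
theorem D61692 : act 4 n60584 = n61692 := rfl
theorem F275031 : act 0 n61692 = n60585 := d3_1 D61692 (iv D60585) D60584
theorem F275032 : act 5 n61692 = n60667 := d30_2 (iv F270174) D61692 (iv D60667) F265442 (iv F265243)
def n61693 : Q := act 3 n60585
theorem D61693 : act 3 n60585 = n61693 := rfl
theorem F275033 : act 1 n61693 = n60586 := d10_1 D61693 (iv D60586) (iv F270175)
theorem F275034 : act 5 n61693 = n60668 := d25_2 (iv F270176) D61693 (iv D60668)
def n61694 : Q := act 0 n60587
theorem D61694 : act 0 n60587 = n61694 := rfl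
theorem F275035 : act 2 n61694 = n60593 := d1_2 (iv F270179) D61694 (iv D60593)
theorem F275036 : act 3 n61694 = n60611 := d2_2 (iv F270180) D61694 (iv D60611)
theorem F275037 : act 5 n61694 = n60589 := d4_2 (iv F270181) D61694 (iv D60589)
theorem F275038 : act 7 n61694 = n60599 := d6_2 (iv F270182) D61694 (iv D60599)
def n61695 : Q := act 4 n60587
theorem D61695 : act 4 n60587 = n61695 := rfl
theorem F275039 : act 1 n61695 = n60588 := d11_1 D61695 (iv D60588) D60587
theorem F275040 : act 2 n61695 = n60594 := d18_1 D61695 (iv D60594) (iv F270179)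
theorem F275041 : act 7 n61695 = n60600 := d32_2 (iv F270182) D61695 (iv D60600)
def n61696 : Q := act 0 n60590
theorem D61696 : act 0 n60590 = n61696 := rfl
theorem F275042 : act 5 n61696 = n60592 := d4_2 (iv F270187) D61696 (iv D60592)
theorem F275043 : act 7 n61696 = n60601 := d6_2 (iv F270188) D61696 (iv D60601)
theorem F275044 : act 8 n61696 = n60593 := d7_2 (iv F270189) D61696 (iv D60593)
def n61697 : Q := act 4 n60590
theorem D61697 : act 4 n60590 = n61697 := rfl
theorem F275045 : act 1 n61697 = n60591 := d11_1 D61697 (iv D60591) D60590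
theorem F275046 : act 7 n61697 = n60602 := d32_2 (iv F270188) D61697 (iv D60602)
theorem F275047 : act 8 n61697 = n60594 := d33_2 (iv F270189) D61697 (iv D60594)
def n61698 : Q := act 3 n60591
theorem D61698 : act 3 n60591 = n61698 := rfl
theorem F275048 : act 2 n61698 = n61698 := d17_1 D61698 (iv D61698) F270190 F265256 (iv F270190)
theorem F275049 : act 7 n61698 = n60603 := d27_2 (iv F270191) D61698 (iv D60603)
def n61699 : Q := act 4 n60593
theorem D61699 : act 4 n60593 = n61699 := rfl
theorem F275050 : act 0 n61699 = n60594 := d3_1 D61699 (iv D60594) D60593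
theorem F275051 : act 7 n61699 = n60604 := d32_2 (iv F270197) D61699 (iv D60604)
def n61700 : Q := act 0 n60596
theorem D61700 : act 0 n60596 = n61700 := rfl
theorem F275052 : act 1 n61700 = n60630 := d0_2 D60596 D61700 (iv D60630) (iv D59438) (iv F265274)
theorem F275053 : act 2 n61700 = n60601 := d1_2 (iv F270203) D61700 (iv D60601)
theorem F275054 : act 5 n61700 = n60598 := d4_2 (iv F270204) D61700 (iv D60598)
theorem F275055 : act 8 n61700 = n60599 := d7_2 (iv F270205) D61700 (iv D60599)
theorem F275056 : act 9 n61700 = n60608 := d8_2 (iv F270206) D61700 (iv D60608)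
def n61701 : Q := act 4 n60596
theorem D61701 : act 4 n60596 = n61701 := rfl
theorem F275057 : act 1 n61701 = n60597 := d11_1 D61701 (iv D60597) D60596
theorem F275058 : act 2 n61701 = n60602 := d18_1 D61701 (iv D60602) (iv F270203)
theorem F275059 : act 8 n61701 = n60600 := d33_2 (iv F270205) D61701 (iv D60600)
theorem F275060 : act 9 n61701 = n60609 := d34_2 (iv F270206) D61701 (iv D60609)
def n61702 : Q := act 3 n60597
theorem D61702 : act 3 n60597 = n61702 := rfl
theorem F275061 : act 0 n61702 = n60632 := d2_1 D61702 (iv D60632) (iv F270207)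
theorem F275062 : act 2 n61702 = n61702 := d17_1 D61702 (iv D61702) F270208 F265280 (iv F270208)
theorem F275063 : act 9 n61702 = n60610 := d29_2 (iv F270210) D61702 (iv D60610)
def n61703 : Q := act 4 n60599
theorem D61703 : act 4 n60599 = n61703 := rfl
theorem F275064 : act 0 n61703 = n60600 := d3_1 D61703 (iv D60600) D60599
theorem F275065 : act 2 n61703 = n60604 := d18_1 D61703 (iv D60604) (iv F270216)
def n61704 : Q := act 4 n60601
theorem D61704 : act 4 n60601 = n61704 := rfl
theorem F275066 : act 0 n61704 = n60602 := d3_1 D61704 (iv D60602) D60601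
theorem F275067 : act 8 n61704 = n60604 := d33_2 (iv F270222) D61704 (iv D60604)
def n61705 : Q := act 3 n60602
theorem D61705 : act 3 n60602 = n61705 := rfl
theorem F275068 : act 1 n61705 = n60603 := d10_1 D61705 (iv D60603) (iv F270223)
def n61706 : Q := act 4 n60605
theorem D61706 : act 4 n60605 = n61706 := rfl
theorem F275069 : act 0 n61706 = n60606 := d3_1 D61706 (iv D60606) D60605
theorem F275070 : act 1 n61706 = n60626 := d11_1 D61706 (iv D60626) (iv F270227)
def n61707 : Q := act 4 n60608
theorem D61707 : act 4 n60608 = n61707 := rfl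
theorem F275071 : act 0 n61707 = n60609 := d3_1 D61707 (iv D60609) D60608
theorem F275072 : act 1 n61707 = n60667 := d11_1 D61707 (iv D60667) (iv F270233)
def n61708 : Q := act 3 n60609
theorem D61708 : act 3 n60609 = n61708 := rfl
theorem F275073 : act 1 n61708 = n60610 := d10_1 D61708 (iv D60610) (iv F270235)
def n61709 : Q := act 0 n60615
theorem D61709 : act 0 n60615 = n61709 := rfl
theorem F275074 : act 1 n61709 = n60619 := d0_2 D60615 D61709 (iv D60619) (iv D59426) (iv F265327)
theorem F275075 : act 2 n61709 = n60694 := d1_2 (iv F270246) D61709 (iv D60694)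
theorem F275076 : act 7 n61709 = n60680 := d6_2 (iv F270247) D61709 (iv D60680)
def n61710 : Q := act 4 n60615
theorem D61710 : act 4 n60615 = n61710 := rfl
theorem F275077 : act 1 n61710 = n60616 := d11_1 D61710 (iv D60616) D60615
theorem F275078 : act 2 n61710 = n60693 := d18_1 D61710 F270429 (iv F270246)
theorem F275079 : act 7 n61710 = n60681 := d32_2 (iv F270247) D61710 (iv D60681)
def n61711 : Q := act 0 n60617
theorem D61711 : act 0 n60617 = n61711 := rfl
theorem F275080 : act 2 n61711 = n60624 := d1_2 (iv F270251) D61711 (iv D60624)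
theorem F275081 : act 8 n61711 = n60619 := d7_2 (iv F270252) D61711 (iv D60619)
def n61712 : Q := act 4 n60617
theorem D61712 : act 4 n60617 = n61712 := rfl
theorem F275082 : act 1 n61712 = n60618 := d11_1 D61712 (iv D60618) D60617
theorem F275083 : act 2 n61712 = n60625 := d18_1 D61712 (iv D60625) (iv F270251)
theorem F275084 : act 8 n61712 = n60620 := d33_2 (iv F270252) D61712 (iv D60620)
def n61713 : Q := act 4 n60619
theorem D61713 : act 4 n60619 = n61713 := rfl
theorem F275085 : act 0 n61713 = n60620 := d3_1 D61713 (iv D60620) D60619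
theorem F275086 : act 2 n61713 = n60626 := d18_1 D61713 (iv D60626) (iv F270255)
def n61714 : Q := act 3 n60620
theorem D61714 : act 3 n60620 = n61714 := rfl
theorem F275087 : act 1 n61714 = n60621 := d10_1 D61714 (iv D60621) (iv F270256)
def n61715 : Q := act 0 n60622
theorem D61715 : act 0 n60622 = n61715 := rfl
theorem F275088 : act 3 n61715 = n60654 := d2_2 (iv F270259) D61715 (iv D60654)
theorem F275089 : act 9 n61715 = n60624 := d8_2 (iv F270260) D61715 (iv D60624)
def n61716 : Q := act 4 n60622
theorem D61716 : act 4 n60622 = n61716 := rfl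
theorem F275090 : act 1 n61716 = n60623 := d11_1 D61716 (iv D60623) D60622
theorem F275091 : act 9 n61716 = n60625 := d34_2 (iv F270260) D61716 (iv D60625)
def n61717 : Q := act 4 n60624
theorem D61717 : act 4 n60624 = n61717 := rfl
theorem F275092 : act 0 n61717 = n60625 := d3_1 D61717 (iv D60625) D60624
theorem F275093 : act 8 n61717 = n60626 := d33_2 (iv F270264) D61717 (iv D60626)
def n61718 : Q := act 0 n60627
theorem D61718 : act 0 n60627 = n61718 := rfl
theorem F275094 : act 3 n61718 = n60630 := d2_2 (iv F270268) D61718 (iv D60630)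
theorem F275095 : act 5 n61718 = n60629 := d4_2 (iv F270269) D61718 (iv D60629)
theorem F275096 : act 9 n61718 = n60661 := d8_2 (iv F270270) D61718 (iv D60661)
def n61719 : Q := act 4 n60627
theorem D61719 : act 4 n60627 = n61719 := rfl
theorem F275097 : act 1 n61719 = n60628 := d11_1 D61719 (iv D60628) D60627
theorem F275098 : act 9 n61719 = n60662 := d34_2 (iv F270270) D61719 (iv D60662)
def n61720 : Q := act 3 n60628
theorem D61720 : act 3 n60628 = n61720 := rfl
theorem F275099 : act 2 n61720 = n61720 := d17_1 D61720 (iv D61720) F270271 F265352 (iv F270271)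
theorem F275100 : act 4 n61720 = n60632 := d24_2 D60628 D61720 (iv D60632) (iv D59439) (iv F265349)
theorem F275101 : act 9 n61720 = n60663 := d29_2 (iv F270272) D61720 (iv D60663)
def n61721 : Q := act 4 n60630
theorem D61721 : act 4 n60630 = n61721 := rfl
theorem F275102 : act 0 n61721 = n60631 := d3_1 D61721 (iv D60631) D60630
theorem F275103 : act 9 n61721 = n60667 := d34_2 (iv F270277) D61721 (iv D60667)
def n61722 : Q := act 3 n60631
theorem D61722 : act 3 n60631 = n61722 := rfl
theorem F275104 : act 1 n61722 = n60632 := d10_1 D61722 (iv D60632) (iv F270278)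
theorem F275105 : act 9 n61722 = n60668 := d29_2 (iv F270279) D61722 (iv D60668)
def n61723 : Q := act 0 n60636
theorem D61723 : act 0 n60636 = n61723 := rfl
theorem F275106 : act 3 n61723 = n60640 := d2_2 (iv F270290) D61723 (iv D60640)
def n61724 : Q := act 4 n60636
theorem D61724 : act 4 n60636 = n61724 := rfl
theorem F275107 : act 1 n61724 = n60637 := d11_1 D61724 (iv D60637) D60636
def n61725 : Q := act 0 n60638
theorem D61725 : act 0 n60638 = n61725 := rfl
theorem F275108 : act 2 n61725 = n60651 := d1_2 (iv F270292) D61725 (iv D60651)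
theorem F275109 : act 5 n61725 = n60640 := d4_2 (iv F270293) D61725 (iv D60640)
theorem F275110 : act 8 n61725 = n60641 := d7_2 (iv F270294) D61725 (iv D60641)
def n61726 : Q := act 4 n60638
theorem D61726 : act 4 n60638 = n61726 := rfl
theorem F275111 : act 1 n61726 = n60639 := d11_1 D61726 (iv D60639) D60638
theorem F275112 : act 2 n61726 = n60652 := d18_1 D61726 (iv D60652) (iv F270292)
theorem F275113 : act 8 n61726 = n60642 := d33_2 (iv F270294) D61726 (iv D60642)
def n61727 : Q := act 3 n60639
theorem D61727 : act 3 n60639 = n61727 := rfl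
theorem F275114 : act 2 n61727 = n61727 := d17_1 D61727 (iv D61727) F270295 F265378 (iv F270295)
def n61728 : Q := act 4 n60641
theorem D61728 : act 4 n60641 = n61728 := rfl
theorem F275115 : act 0 n61728 = n60642 := d3_1 D61728 (iv D60642) D60641
theorem F275116 : act 2 n61728 = n60659 := d18_1 D61728 (iv D60659) (iv F270299)
theorem F275117 : act 9 n61728 = n60682 := d34_2 (iv F270301) D61728 (iv D60682)
def n61729 : Q := act 3 n60642
theorem D61729 : act 3 n60642 = n61729 := rfl
theorem F275118 : act 1 n61729 = n60643 := d10_1 D61729 (iv D60643) (iv F270302)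
theorem F275119 : act 5 n61729 = n60658 := d25_2 F271329 D61729 (iv F271328)
theorem F275120 : act 9 n61729 = n60683 := d29_2 (iv F270304) D61729 (iv D60683)
def n61730 : Q := act 8 n60643
theorem D61730 : act 8 n60643 = n61730 := rfl
theorem F275121 : act 2 n61730 = n60648 := d22_1 D61730 F270321 (iv F270305)
theorem F275122 : act 5 n61730 = n60647 := d37_1 D61730 F270319 (iv F270306)
def n61731 : Q := act 1 n60644
theorem D61731 : act 1 n60644 = n61731 := rfl
theorem F275123 : act 6 n61731 = n60649 := d13_2 (iv F270308) D61731 (iv D60649)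
theorem F275124 : act 8 n61731 = n60685 := d15_2 (iv F270309) D61731 (iv D60685)
theorem F275125 : act 9 n61731 = n60646 := d16_2 (iv F270310) D61731 (iv D60646)
def n61732 : Q := act 4 n60644
theorem D61732 : act 4 n60644 = n61732 := rfl
theorem F275126 : act 2 n61732 = n60645 := d18_1 D61732 (iv D60645) D60644
theorem F275127 : act 6 n61732 = n60650 := d31_2 (iv F270308) D61732 (iv D60650)
theorem F275128 : act 8 n61732 = n60686 := d33_2 (iv F270309) D61732 (iv D60686)
theorem F275129 : act 9 n61732 = n60647 := d34_2 (iv F270310) D61732 (iv D60647)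
def n61733 : Q := act 5 n60645
theorem D61733 : act 5 n60645 = n61733 := rfl
theorem F275130 : act 3 n61733 = n61733 := d25_1 D61733 (iv D61733) F270311
theorem F275131 : act 8 n61733 = n60687 := d37_2 (iv F270313) D61733 (iv D60687)
theorem F275132 : act 9 n61733 = n60648 := d38_2 (iv F270314) D61733 (iv D60648)
def n61734 : Q := act 0 n60646
theorem D61734 : act 0 n60646 = n61734 := rfl
theorem F275133 : act 6 n61734 = n60651 := d5_2 (iv F270315) D61734 (iv D60651)
theorem F275134 : act 8 n61734 = n60657 := d7_2 (iv F270316) D61734 (iv D60657)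
def n61735 : Q := act 4 n60646
theorem D61735 : act 4 n60646 = n61735 := rfl
theorem F275135 : act 1 n61735 = n60647 := d11_1 D61735 (iv D60647) D60646
theorem F275136 : act 6 n61735 = n60652 := d31_2 (iv F270315) D61735 (iv D60652)
theorem F275137 : act 8 n61735 = n60658 := d33_2 (iv F270316) D61735 (iv D60658)
def n61736 : Q := act 3 n60647
theorem D61736 : act 3 n60647 = n61736 := rfl
theorem F275138 : act 2 n61736 = n61736 := d17_1 D61736 (iv D61736) F270317 F265394 (iv F270317)
theorem F275139 : act 6 n61736 = n60653 := d26_2 (iv F270318) D61736 (iv D60653)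
def n61737 : Q := act 0 n60649
theorem D61737 : act 0 n60649 = n61737 := rfl
theorem F275140 : act 5 n61737 = n60654 := d4_2 (iv F270322) D61737 (iv D60654)
theorem F275141 : act 8 n61737 = n60690 := d7_2 (iv F270323) D61737 (iv D60690)
theorem F275142 : act 9 n61737 = n60651 := d8_2 (iv F270324) D61737 (iv D60651)
def n61738 : Q := act 4 n60649
theorem D61738 : act 4 n60649 = n61738 := rfl
theorem F275143 : act 1 n61738 = n60650 := d11_1 D61738 (iv D60650) D60649
theorem F275144 : act 8 n61738 = n60691 := d33_2 (iv F270323) D61738 (iv D60691)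
theorem F275145 : act 9 n61738 = n60652 := d34_2 (iv F270324) D61738 (iv D60652)
def n61739 : Q := act 3 n60650
theorem D61739 : act 3 n60650 = n61739 := rfl
theorem F275146 : act 2 n61739 = n61739 := d17_1 D61739 (iv D61739) F270325 F265400 (iv F270325)
theorem F275147 : act 9 n61739 = n60653 := d29_2 (iv F270327) D61739 (iv D60653)
def n61740 : Q := act 4 n60651
theorem D61740 : act 4 n60651 = n61740 := rfl
theorem F275148 : act 0 n61740 = n60652 := d3_1 D61740 (iv D60652) D60651
theorem F275149 : act 8 n61740 = n60659 := d33_2 (iv F270329) D61740 (iv D60659)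
def n61741 : Q := act 3 n60652
theorem D61741 : act 3 n60652 = n61741 := rfl
theorem F275150 : act 1 n61741 = n60653 := d10_1 D61741 (iv D60653) (iv F270330)
def n61742 : Q := act 0 n60655
theorem D61742 : act 0 n60655 = n61742 := rfl
theorem F275151 : act 3 n61742 = n60660 := d2_2 (iv F270335) D61742 (iv D60660)
theorem F275152 : act 7 n61742 = n60657 := d6_2 (iv F270336) D61742 (iv D60657)
theorem F275153 : act 9 n61742 = n60694 := d8_2 (iv F270337) D61742 (iv D60694)
def n61743 : Q := act 4 n60655
theorem D61743 : act 4 n60655 = n61743 := rfl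
theorem F275154 : act 1 n61743 = n60656 := d11_1 D61743 (iv D60656) D60655
theorem F275155 : act 3 n61743 = n60691 := d24_1 D61743 (iv D60691) (iv F266342) F266343 (iv F270335)
theorem F275156 : act 7 n61743 = n60658 := d32_2 (iv F270336) D61743 (iv D60658)
theorem F275157 : act 9 n61743 = n60693 := d34_2 (iv F270337) D61743 F270429
def n61744 : Q := act 4 n60657
theorem D61744 : act 4 n60657 = n61744 := rfl
theorem F275158 : act 0 n61744 = n60658 := d3_1 D61744 (iv D60658) D60657
theorem F275159 : act 6 n61744 = n60659 := d31_2 (iv F270343) D61744 (iv D60659)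
theorem F275160 : act 9 n61744 = n60695 := d34_2 (iv F270344) D61744 (iv D60695)
def n61745 : Q := act 4 n60661
theorem D61745 : act 4 n60661 = n61745 := rfl
theorem F275161 : act 0 n61745 = n60662 := d3_1 D61745 (iv D60662) D60661
def n61746 : Q := act 3 n60662
theorem D61746 : act 3 n60662 = n61746 := rfl
theorem F275162 : act 1 n61746 = n60663 := d10_1 D61746 (iv D60663) (iv F270354)
theorem F275163 : act 4 n61746 = n60668 := d24_2 D60662 D61746 (iv D60668) (iv D59477) (iv F265433)
def n61747 : Q := act 4 n60664
theorem D61747 : act 4 n60664 = n61747 := rfl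
theorem F275164 : act 0 n61747 = n60665 := d3_1 D61747 (iv D60665) D60664
theorem F275165 : act 6 n61747 = n60667 := d31_2 (iv F270358) D61747 (iv D60667)
def n61748 : Q := act 3 n60665
theorem D61748 : act 3 n60665 = n61748 := rfl
theorem F275166 : act 1 n61748 = n60666 := d10_1 D61748 (iv D60666) (iv F270359)
theorem F275167 : act 6 n61748 = n60668 := d26_2 (iv F270360) D61748 (iv D60668)
def n61749 : Q := act 3 n60667
theorem D61749 : act 3 n60667 = n61749 := rfl
theorem F275168 : act 0 n61749 = n60668 := d2_1 D61749 (iv D60668) (iv F270363)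
def n61750 : Q := act 2 n60668
theorem D61750 : act 2 n60668 = n61750 := rfl
theorem F275169 : act 1 n61750 = n61750 := d9_1 D61750 (iv D61750) F270364 F265444 (iv F270364)
def n61751 : Q := act 8 n60668
theorem D61751 : act 8 n60668 = n61751 := rfl
theorem F275170 : act 1 n61751 = n60669 := d15_1 D61751 (iv D60669) (iv F270364)
def n61752 : Q := act 4 n60670
theorem D61752 : act 4 n60670 = n61752 := rfl
theorem F275171 : act 0 n61752 = n60671 := d3_1 D61752 (iv D60671) D60670
theorem F275172 : act 2 n61752 = n60673 := d18_1 D61752 (iv D60673) (iv F270366)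
theorem F275173 : act 5 n61752 = n60692 := d30_2 (iv F270367) D61752 (iv D60692) F265515 (iv F265454)
theorem F275174 : act 7 n61752 = n60682 := d32_2 (iv F270368) D61752 (iv D60682)
theorem F275175 : act 8 n61752 = n60696 := d33_2 (iv F270369) D61752 F270436
def n61753 : Q := act 3 n60671
theorem D61753 : act 3 n60671 = n61753 := rfl
theorem F275176 : act 1 n61753 = n60672 := d10_1 D61753 (iv D60672) (iv F270370)
theorem F275177 : act 5 n61753 = n60693 := d25_2 (iv F270372) D61753 (iv D60693)
theorem F275178 : act 7 n61753 = n60683 := d27_2 (iv F270373) D61753 (iv D60683)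
def n61754 : Q := act 5 n60673
theorem D61754 : act 5 n60673 = n61754 := rfl
theorem F275179 : act 0 n61754 = n60674 := d4_1 D61754 (iv D60674) (iv F270378)
theorem F275180 : act 2 n61754 = n60692 := d19_1 D61754 (iv F275173) F275172
theorem F275181 : act 4 n61754 = n60676 := d30_1 D61754 (iv D60676) (iv D59487) (iv F265462) D60673
theorem F275182 : act 7 n61754 = n60696 := d36_2 (iv F270379) D61754 (iv D60696)
theorem F275183 : act 8 n61754 = n60682 := d37_2 F271371 D61754 (iv F271368)
def n61755 : Q := act 6 n60674
theorem D61755 : act 6 n60674 = n61755 := rfl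
theorem F275184 : act 1 n61755 = n60675 := d13_1 D61755 (iv D60675) (iv F270380)
theorem F275185 : act 2 n61755 = n60689 := d20_1 D61755 F270420 (iv F270381)
theorem F275186 : act 4 n61755 = n60677 := d31_1 D61755 (iv D60677) (iv F270382)
theorem F275187 : act 8 n61755 = n60681 := d40_2 (iv F270384) D61755 F270403
def n61756 : Q := act 6 n60676
theorem D61756 : act 6 n60676 = n61756 := rfl
theorem F275188 : act 0 n61756 = n60677 := d5_1 D61756 (iv D60677) (iv F270388)
theorem F275189 : act 2 n61756 = n60688 := d20_1 D61756 F270417 (iv F270389)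
theorem F275190 : act 8 n61756 = n60680 := d40_2 (iv F270391) D61756 F270400
def n61757 : Q := act 4 n60680
theorem D61757 : act 4 n60680 = n61757 := rfl
theorem F275191 : act 0 n61757 = n60681 := d3_1 D61757 (iv D60681) D60680
theorem F275192 : act 2 n61757 = n60695 := d18_1 D61757 (iv D60695) (iv F270399)
theorem F275193 : act 6 n61757 = n60682 := d31_2 (iv F270400) D61757 (iv D60682)
def n61758 : Q := act 3 n60682
theorem D61758 : act 3 n60682 = n61758 := rfl
theorem F275194 : act 0 n61758 = n60683 := d2_1 D61758 (iv D60683) (iv F270404)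
theorem F275195 : act 5 n61758 = n60695 := d25_2 F271368 D61758 (iv F271367)
def n61759 : Q := act 8 n60683
theorem D61759 : act 8 n60683 = n61759 := rfl
theorem F275196 : act 1 n61759 = n60684 := d15_1 D61759 (iv D60684) (iv F270406)
theorem F275197 : act 5 n61759 = n60689 := d37_1 D61759 F270421 (iv F270407)
def n61760 : Q := act 9 n60684
theorem D61760 : act 9 n60684 = n61760 := rfl
theorem F275198 : act 2 n61760 = n60687 := d23_1 D61760 F270416 (iv F270408)
theorem F275199 : act 5 n61760 = n60686 := d38_1 D61760 F270414 (iv F270409)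
def n61761 : Q := act 0 n60685
theorem D61761 : act 0 n60685 = n61761 := rfl
theorem F275200 : act 6 n61761 = n60690 := d5_2 (iv F270410) D61761 (iv D60690)
theorem F275201 : act 9 n61761 = n60688 := d8_2 (iv F270411) D61761 (iv D60688)
def n61762 : Q := act 4 n60685
theorem D61762 : act 4 n60685 = n61762 := rfl
theorem F275202 : act 1 n61762 = n60686 := d11_1 D61762 (iv D60686) D60685
theorem F275203 : act 6 n61762 = n60691 := d31_2 (iv F270410) D61762 (iv D60691)
theorem F275204 : act 9 n61762 = n60689 := d34_2 (iv F270411) D61762 (iv D60689)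
def n61763 : Q := act 4 n60688
theorem D61763 : act 4 n60688 = n61763 := rfl
theorem F275205 : act 0 n61763 = n60689 := d3_1 D61763 (iv D60689) D60688
theorem F275206 : act 6 n61763 = n60692 := d31_2 (iv F270417) D61763 (iv D60692)
theorem F275207 : act 8 n61763 = n60695 := d33_2 (iv F270418) D61763 (iv D60695)
def n61764 : Q := act 4 n60690
theorem D61764 : act 4 n60690 = n61764 := rfl
theorem F275208 : act 0 n61764 = n60691 := d3_1 D61764 (iv D60691) D60690
theorem F275209 : act 9 n61764 = n60692 := d34_2 (iv F270423) D61764 (iv D60692)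
def n61765 : Q := act 3 n60692
theorem D61765 : act 3 n60692 = n61765 := rfl
theorem F275210 : act 0 n61765 = n60693 := d2_1 D61765 (iv D60693) (iv F270426)
theorem F275211 : act 4 n61765 = n60694 := d24_2 D60692 D61765 F270431 (iv F266411) F266410
theorem F275212 : act 7 n61765 = n60695 := d27_2 F271370 D61765 (iv F271367)
def n61766 : Q := act 0 n60697
theorem D61766 : act 0 n60697 = n61766 := rfl
theorem F275213 : act 1 n61766 = n61131 := d0_2 D60697 D61766 (iv D61131) (iv D59943) (iv F265539)
theorem F275214 : act 2 n61766 = n61009 := d1_2 (iv F270437) D61766 (iv D61009)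
theorem F275215 : act 3 n61766 = n61192 := d2_2 (iv F270438) D61766 (iv D61192)
theorem F275216 : act 5 n61766 = n60699 := d4_2 (iv F270439) D61766 (iv D60699)
theorem F275217 : act 6 n61766 = n61054 := d5_2 (iv F270440) D61766 (iv D61054)
theorem F275218 : act 7 n61766 = n61184 := d6_2 (iv F270441) D61766 (iv D61184)
theorem F275219 : act 8 n61766 = n61522 := d7_2 (iv F270442) D61766 (iv D61522)
theorem F275220 : act 9 n61766 = n60704 := d8_2 (iv F270443) D61766 (iv D60704)
def n61767 : Q := act 4 n60697
theorem D61767 : act 4 n60697 = n61767 := rfl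
theorem F275221 : act 1 n61767 = n60698 := d11_1 D61767 (iv D60698) D60697
theorem F275222 : act 2 n61767 = n61010 := d18_1 D61767 (iv D61010) (iv F270437)
theorem F275223 : act 3 n61767 = n61661 := d24_1 D61767 F274957 F270071 (iv F268089) (iv F270438)
theorem F275224 : act 5 n61767 = n60712 := d30_2 (iv F270439) D61767 (iv D60712) F265646 (iv F265556)
theorem F275225 : act 6 n61767 = n61055 := d31_2 (iv F270440) D61767 (iv D61055)
theorem F275226 : act 7 n61767 = n61185 := d32_2 (iv F270441) D61767 (iv D61185)
theorem F275227 : act 8 n61767 = n61523 := d33_2 (iv F270442) D61767 (iv D61523)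
theorem F275228 : act 9 n61767 = n60705 := d34_2 (iv F270443) D61767 (iv D60705)
def n61768 : Q := act 0 n60700
theorem D61768 : act 0 n60700 = n61768 := rfl
theorem F275229 : act 1 n61768 = n61192 := d0_2 D60700 D61768 (iv D61192) (iv D60002) (iv F265561)
theorem F275230 : act 2 n61768 = n60984 := d1_2 (iv F270460) D61768 (iv D60984)
theorem F275231 : act 3 n61768 = n61131 := d2_2 (iv F270461) D61768 (iv D61131)
theorem F275232 : act 4 n61768 = n61668 := d3_2 (iv F270462) D61768 F274975
theorem F275233 : act 5 n61768 = n60701 := d4_2 (iv F270463) D61768 (iv D60701)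
theorem F275234 : act 6 n61768 = n61127 := d5_2 (iv F270464) D61768 (iv D61127)
theorem F275235 : act 7 n61768 = n60704 := d6_2 (iv F270465) D61768 (iv D60704)
theorem F275236 : act 8 n61768 = n60777 := d7_2 (iv F270466) D61768 (iv D60777)
theorem F275237 : act 9 n61768 = n61184 := d8_2 (iv F270467) D61768 (iv D61184)
def n61769 : Q := act 0 n60702
theorem D61769 : act 0 n60702 = n61769 := rfl
theorem F275238 : act 1 n61769 = n61184 := d0_2 D60702 D61769 (iv D61184) (iv D59993) (iv F265576)
theorem F275239 : act 2 n61769 = n61137 := d1_2 (iv F270476) D61769 (iv D61137)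
theorem F275240 : act 3 n61769 = n60704 := d2_2 (iv F270477) D61769 (iv D60704)
theorem F275241 : act 4 n61769 = n61675 := d3_2 (iv F270478) D61769 F274990
theorem F275242 : act 5 n61769 = n60703 := d4_2 (iv F270479) D61769 (iv D60703)
theorem F275243 : act 6 n61769 = n61066 := d5_2 (iv F270480) D61769 (iv D61066)
theorem F275244 : act 7 n61769 = n61131 := d6_2 (iv F270481) D61769 (iv D61131)
theorem F275245 : act 8 n61769 = n60929 := d7_2 (iv F270482) D61769 (iv D60929)
theorem F275246 : act 9 n61769 = n61192 := d8_2 (iv F270483) D61769 (iv D61192)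
def n61770 : Q := act 4 n60704
theorem D61770 : act 4 n60704 = n61770 := rfl
theorem F275247 : act 0 n61770 = n60705 := d3_1 D61770 (iv D60705) D60704
theorem F275248 : act 1 n61770 = n61193 := d11_1 D61770 (iv D61193) (iv F270492)
theorem F275249 : act 2 n61770 = n61021 := d18_1 D61770 (iv D61021) (iv F270493)
theorem F275250 : act 5 n61770 = n60716 := d30_2 (iv F270494) D61770 (iv D60716) F265704 (iv F265603)
theorem F275251 : act 6 n61770 = n61072 := d31_2 (iv F270495) D61770 (iv D61072)
theorem F275252 : act 7 n61770 = n61668 := d32_2 F275235 D61770 (iv F275232)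
theorem F275253 : act 8 n61770 = n60805 := d33_2 (iv F270496) D61770 (iv D60805)
def n61771 : Q := act 3 n60705
theorem D61771 : act 3 n60705 = n61771 := rfl
theorem F275254 : act 1 n61771 = n60706 := d10_1 D61771 (iv D60706) (iv F270497)
theorem F275255 : act 2 n61771 = n61663 := d17_1 D61771 F274961 F272399 (iv D61022) (iv F270498)
theorem F275256 : act 4 n61771 = n61647 := d24_2 D60705 D61771 F274919 (iv F270478) F270477
theorem F275257 : act 5 n61771 = n60717 := d25_2 (iv F270499) D61771 (iv D60717)
theorem F275258 : act 6 n61771 = n61073 := d26_2 (iv F270500) D61771 (iv D61073)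
theorem F275259 : act 7 n61771 = n61638 := d27_2 (iv F270501) D61771 F274897
theorem F275260 : act 9 n61771 = n61661 := d29_2 F275228 D61771 (iv F275223)
def n61772 : Q := act 8 n60706
theorem D61772 : act 8 n60706 = n61772 := rfl
theorem F275261 : act 0 n61772 = n61161 := d7_1 D61772 F273078 (iv F270503)
theorem F275262 : act 2 n61772 = n60707 := d22_1 D61772 (iv D60707) (iv F270504)
theorem F275263 : act 3 n61772 = n60807 := d28_1 D61772 (iv D60807) (iv D59618) (iv F265600) D60706
theorem F275264 : act 4 n61772 = n61645 := d33_1 D61772 F274914 (iv F270505)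
theorem F275265 : act 5 n61772 = n60718 := d37_1 D61772 (iv D60718) (iv F270506)
theorem F275266 : act 6 n61772 = n61074 := d40_1 D61772 (iv D61074) (iv F270507)
theorem F275267 : act 7 n61772 = n61211 := d42_1 D61772 F273270 (iv F270508)
def n61773 : Q := act 9 n60707
theorem D61773 : act 9 n60707 = n61773 := rfl
theorem F275268 : act 0 n61773 = n61158 := d8_1 D61773 F273062 (iv F270510)
theorem F275269 : act 1 n61773 = n61258 := d16_1 D61773 F273498 (iv F270511)
theorem F275270 : act 3 n61773 = n60708 := d29_1 D61773 (iv D60708) (iv F270512)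
theorem F275271 : act 4 n61773 = n61641 := d34_1 D61773 F274907 (iv F270513)
theorem F275272 : act 5 n61773 = n60720 := d38_1 D61773 (iv D60720) (iv F270514)
theorem F275273 : act 6 n61773 = n61076 := d41_1 D61773 (iv D61076) (iv F270515)
theorem F275274 : act 7 n61773 = n60994 := d43_1 D61773 F272238 (iv F270516)
theorem F275275 : act 8 n61773 = n61650 := d44_1 D61773 F274930 F270048 (iv F265612) D60707
def n61774 : Q := act 4 n60711
theorem D61774 : act 4 n60711 = n61774 := rfl
theorem F275276 : act 0 n61774 = n60712 := d3_1 D61774 (iv D60712) D60711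
theorem F275277 : act 1 n61774 = n61508 := d11_1 D61774 (iv D61508) (iv F270543)
theorem F275278 : act 2 n61774 = n61133 := d18_1 D61774 (iv D61133) (iv F270544)
theorem F275279 : act 3 n61774 = n61660 := d24_1 D61774 (iv D61660) F270063 (iv F269447) (iv F270545)
theorem F275280 : act 6 n61774 = n61677 := d31_2 (iv F270547) D61774 (iv D61677)
theorem F275281 : act 7 n61774 = n61667 := d32_2 (iv F270548) D61774 (iv D61667)
theorem F275282 : act 8 n61774 = n61747 := d33_2 (iv F270549) D61774 (iv D61747)
theorem F275283 : act 9 n61774 = n60716 := d34_2 (iv F270550) D61774 (iv D60716)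
def n61775 : Q := act 0 n60713
theorem D61775 : act 0 n60713 = n61775 := rfl
theorem F275284 : act 1 n61775 = n61013 := d0_2 D60713 D61775 (iv D61013) (iv D59832) (iv F265679)
theorem F275285 : act 2 n61775 = n61192 := d1_2 (iv F270558) D61775 (iv D61192)
theorem F275286 : act 3 n61775 = n61058 := d2_2 (iv F270559) D61775 (iv D61058)
theorem F275287 : act 4 n61775 = n61681 := d3_2 (iv F270560) D61775 F275005
theorem F275288 : act 5 n61775 = n61105 := d4_2 (iv F270561) D61775 (iv D61105)
theorem F275289 : act 6 n61775 = n61059 := d5_2 (iv F270562) D61775 (iv D61059)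
theorem F275290 : act 7 n61775 = n60714 := d6_2 (iv F270563) D61775 (iv D60714)
theorem F275291 : act 8 n61775 = n60966 := d7_2 (iv F270564) D61775 (iv D60966)
theorem F275292 : act 9 n61775 = n61137 := d8_2 (iv F270565) D61775 (iv D61137)
def n61776 : Q := act 4 n60714
theorem D61776 : act 4 n60714 = n61776 := rfl
theorem F275293 : act 0 n61776 = n60715 := d3_1 D61776 (iv D60715) D60714
theorem F275294 : act 1 n61776 = n61676 := d11_1 D61776 (iv D61676) (iv F270566)
theorem F275295 : act 2 n61776 = n61193 := d18_1 D61776 (iv D61193) (iv F270567)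
theorem F275296 : act 3 n61776 = n61679 := d24_1 D61776 (iv D61679) (iv F272402) F272403 (iv F270568)
theorem F275297 : act 5 n61776 = n61678 := d30_2 (iv F270569) D61776 (iv D61678) (iv F270529) F270528
theorem F275298 : act 6 n61776 = n60716 := d31_2 (iv F270570) D61776 (iv D60716)
theorem F275299 : act 7 n61776 = n61681 := d32_2 F275290 D61776 (iv F275287)
theorem F275300 : act 8 n61776 = n60968 := d33_2 (iv F270571) D61776 (iv D60968)
theorem F275301 : act 9 n61776 = n61677 := d34_2 (iv F270572) D61776 (iv D61677)
def n61777 : Q := act 3 n60716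
theorem D61777 : act 3 n60716 = n61777 := rfl
theorem F275302 : act 0 n61777 = n60717 := d2_1 D61777 (iv D60717) (iv F270581)
theorem F275303 : act 1 n61777 = n61165 := d10_1 D61777 F273099 (iv F270582)
theorem F275304 : act 4 n61777 = n61152 := d24_2 D60716 D61777 F273027 F270002 (iv F265703)
theorem F275305 : act 6 n61777 = n61679 := d26_2 F275298 D61777 (iv F275296)
theorem F275306 : act 7 n61777 = n61637 := d27_2 (iv F270584) D61777 F274895
theorem F275307 : act 9 n61777 = n61660 := d29_2 F275283 D61777 (iv F275279)
def n61778 : Q := act 2 n60717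
theorem D61778 : act 2 n60717 = n61778 := rfl
theorem F275308 : act 1 n61778 = n60719 := d9_1 D61778 (iv D60719) F265718 (iv F265712) (iv F270586)
theorem F275309 : act 3 n61778 = n61191 := d17_2 D60717 D61778 F273178 (iv D60006) (iv F265708)
theorem F275310 : act 4 n61778 = n61060 := d18_2 (iv F270587) D61778 F272610
theorem F275311 : act 5 n61778 = n61663 := d19_2 F275257 D61778 (iv F275255)
theorem F275312 : act 6 n61778 = n61018 := d20_2 (iv F270588) D61778 F272373
theorem F275313 : act 7 n61778 = n61128 := d21_2 (iv F270589) D61778 F272926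
theorem F275314 : act 9 n61778 = n61148 := d23_2 (iv F270590) D61778 F273011
theorem F275315 : act 8 n61282 = n61778 := d40_0 F275312 F272377 (iv F273609)
def n61779 : Q := act 8 n60717
theorem D61779 : act 8 n60717 = n61779 := rfl
theorem F275316 : act 1 n61779 = n60718 := d15_1 D61779 (iv D60718) (iv F270586)
theorem F275317 : act 2 n61779 = n61282 := d22_1 D61779 F275315 (iv D61778)
theorem F275318 : act 3 n61779 = n60971 := d28_1 D61779 (iv D60971) (iv D59788) (iv F265710) D60717
theorem F275319 : act 4 n61779 = n61151 := d33_1 D61779 F273025 (iv F270587)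
theorem F275320 : act 6 n61779 = n61227 := d40_1 D61779 F273348 (iv F270588)
theorem F275321 : act 7 n61779 = n61210 := d42_1 D61779 F273265 (iv F270589)
def n61780 : Q := act 9 n60718
theorem D61780 : act 9 n60718 = n61780 := rfl
theorem F275322 : act 0 n61780 = n61157 := d8_1 D61780 F273057 (iv F270591)
theorem F275323 : act 2 n61780 = n60720 := d23_1 D61780 (iv D60720) (iv F270592)
theorem F275324 : act 3 n61780 = n60972 := d29_1 D61780 (iv D60972) (iv F270593)
theorem F275325 : act 4 n61780 = n60816 := d34_1 D61780 F271195 (iv F270594)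
theorem F275326 : act 6 n61780 = n60821 := d41_1 D61780 F271229 (iv F270595)
theorem F275327 : act 7 n61780 = n60993 := d43_1 D61780 F272234 (iv F270596)
theorem F275328 : act 8 n61780 = n61649 := d44_1 D61780 F274927 F270045 (iv F265716) D60718
def n61781 : Q := act 1 n60721
theorem D61781 : act 1 n60721 = n61781 := rfl
theorem F275329 : act 2 n61781 = n61206 := d9_2 D60721 D61781 (iv D61206) (iv D60024) (iv F265739)
theorem F275330 : act 3 n61781 = n61448 := d10_2 (iv F270613) D61781 (iv D61448)
theorem F275331 : act 5 n61781 = n60723 := d12_2 (iv F270614) D61781 (iv D60723)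
theorem F275332 : act 6 n61781 = n61167 := d13_2 (iv F270615) D61781 (iv D61167)
theorem F275333 : act 7 n61781 = n60736 := d14_2 (iv F270616) D61781 (iv D60736)
theorem F275334 : act 8 n61781 = n60748 := d15_2 (iv F270617) D61781 (iv D60748)
theorem F275335 : act 9 n61781 = n60839 := d16_2 (iv F270618) D61781 (iv D60839)
def n61782 : Q := act 4 n60721
theorem D61782 : act 4 n60721 = n61782 := rfl
theorem F275336 : act 0 n61782 = n60886 := d3_1 D61782 (iv D60886) (iv F270612)
theorem F275337 : act 2 n61782 = n60722 := d18_1 D61782 (iv D60722) D60721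
theorem F275338 : act 5 n61782 = n60862 := d30_2 (iv F270614) D61782 (iv D60862) F266518 (iv F265747)
theorem F275339 : act 6 n61782 = n61168 := d31_2 (iv F270615) D61782 (iv D61168)
theorem F275340 : act 7 n61782 = n60737 := d32_2 (iv F270616) D61782 (iv D60737)
theorem F275341 : act 8 n61782 = n60749 := d33_2 (iv F270617) D61782 (iv D60749)
theorem F275342 : act 9 n61782 = n60840 := d34_2 (iv F270618) D61782 (iv D60840)
def n61783 : Q := act 0 n60723
theorem D61783 : act 0 n60723 = n61783 := rfl
theorem F275343 : act 1 n61783 = n60887 := d0_2 D60723 D61783 (iv D60887) (iv D59700) (iv F265745)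
theorem F275344 : act 2 n61783 = n61208 := d1_2 (iv F270627) D61783 (iv D61208)
theorem F275345 : act 3 n61783 = n61761 := d2_2 (iv F270628) D61783 (iv D61761)
theorem F275346 : act 4 n61783 = n60863 := d3_2 (iv F270629) D61783 (iv D60863)
theorem F275347 : act 6 n61783 = n60832 := d5_2 (iv F270630) D61783 (iv D60832)
theorem F275348 : act 7 n61783 = n60738 := d6_2 (iv F270631) D61783 (iv D60738)
theorem F275349 : act 8 n61783 = n60750 := d7_2 (iv F270632) D61783 (iv D60750)
theorem F275350 : act 9 n61783 = n60841 := d8_2 (iv F270633) D61783 (iv D60841)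
def n61784 : Q := act 1 n60724
theorem D61784 : act 1 n60724 = n61784 := rfl
theorem F275351 : act 2 n61784 = n60732 := d9_2 D60724 D61784 (iv D60732) (iv D59555) (iv F265753)
theorem F275352 : act 3 n61784 = n60774 := d10_2 (iv F270635) D61784 (iv D60774)
theorem F275353 : act 5 n61784 = n61091 := d12_2 (iv F270636) D61784 (iv D61091)
theorem F275354 : act 6 n61784 = n60767 := d13_2 (iv F270637) D61784 (iv D60767)
theorem F275355 : act 7 n61784 = n61276 := d14_2 (iv F270638) D61784 (iv D61276)
theorem F275356 : act 8 n61784 = n61094 := d15_2 (iv F270639) D61784 (iv D61094)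
theorem F275357 : act 9 n61784 = n61517 := d16_2 (iv F270640) D61784 (iv D61517)
def n61785 : Q := act 4 n60724
theorem D61785 : act 4 n60724 = n61785 := rfl
theorem F275358 : act 0 n61785 = n61419 := d3_1 D61785 (iv D61419) (iv F270634)
theorem F275359 : act 2 n61785 = n60725 := d18_1 D61785 (iv D60725) D60724
theorem F275360 : act 6 n61785 = n60768 := d31_2 (iv F270637) D61785 (iv D60768)
theorem F275361 : act 7 n61785 = n61277 := d32_2 (iv F270638) D61785 (iv D61277)
theorem F275362 : act 8 n61785 = n61095 := d33_2 (iv F270639) D61785 (iv D61095)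
theorem F275363 : act 9 n61785 = n61518 := d34_2 (iv F270640) D61785 (iv D61518)
def n61786 : Q := act 5 n60725
theorem D61786 : act 5 n60725 = n61786 := rfl
theorem F275364 : act 0 n61786 = n61420 := d4_1 D61786 (iv D61420) (iv F270641)
theorem F275365 : act 1 n61786 = n60734 := d12_1 D61786 (iv D60734) (iv F270642)
theorem F275366 : act 3 n61786 = n60727 := d25_1 D61786 (iv D60727) (iv F270643)
theorem F275367 : act 4 n61786 = n61093 := d30_1 D61786 (iv D61093) (iv D59909) (iv F265754) D60725
theorem F275368 : act 7 n61786 = n60879 := d36_2 (iv F270645) D61786 F271572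
theorem F275369 : act 8 n61786 = n61096 := d37_2 (iv F270646) D61786 (iv D61096)
theorem F275370 : act 9 n61786 = n61494 := d38_2 (iv F270647) D61786 F274415
def n61787 : Q := act 3 n60726
theorem D61787 : act 3 n60726 = n61787 := rfl
theorem F275371 : act 0 n61787 = n61384 := d2_1 D61787 (iv D61384) (iv F270648)
theorem F275372 : act 1 n61787 = n60869 := d10_1 D61787 (iv D60869) (iv F270649)
theorem F275373 : act 4 n61787 = n60810 := d24_2 D60726 D61787 (iv D60810) (iv D59622) (iv F265761)
theorem F275374 : act 6 n61787 = n60808 := d26_2 (iv F270651) D61787 (iv D60808)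
theorem F275375 : act 7 n61787 = n61301 := d27_2 (iv F270652) D61787 (iv D61301)
theorem F275376 : act 9 n61787 = n61490 := d29_2 (iv F270654) D61787 (iv D61490)
theorem F275377 : act 8 n61339 = n61787 := d40_0 F275374 F271139 D61339
def n61788 : Q := act 5 n60726
theorem D61788 : act 5 n60726 = n61788 := rfl
theorem F275378 : act 0 n61788 = n61089 := d4_1 D61788 F272757 (iv F270648)
theorem F275379 : act 1 n61788 = n60858 := d12_1 D61788 F271472 (iv F270649)
theorem F275380 : act 2 n61788 = n60727 := d19_1 D61788 (iv D60727) (iv F270650)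
theorem F275381 : act 4 n61788 = n61788 := d30_1 D61788 (iv D61788) (iv D60726) F265762 D60726
theorem F275382 : act 6 n61788 = n60850 := d35_2 (iv F270651) D61788 (iv D60850) F266476 (iv F266146)
theorem F275383 : act 7 n61788 = n60735 := d36_2 (iv F270652) D61788 F270706
theorem F275384 : act 8 n61788 = n61788 := d37_2 F270653 D61788 (iv D61788)
theorem F275385 : act 9 n61788 = n61317 := d38_2 (iv F270654) D61788 F273754
def n61789 : Q := act 6 n60727
theorem D61789 : act 6 n60727 = n61789 := rfl
theorem F275386 : act 0 n61789 = n61088 := d5_1 D61789 F272750 (iv F270655)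
theorem F275387 : act 1 n61789 = n60735 := d13_1 D61789 (iv D60735) (iv F270656)
theorem F275388 : act 2 n61789 = n60850 := d20_1 D61789 (iv F275382) F275380
theorem F275389 : act 4 n61789 = n61789 := d31_1 D61789 (iv D61789) F270657
theorem F275390 : act 5 n61789 = n60809 := d35_1 D61789 (iv D60809) (iv D59620) (iv F265769) D60727
theorem F275391 : act 7 n61789 = n60858 := d39_2 (iv F270658) D61789 (iv D60858) F266507 D59693
theorem F275392 : act 8 n61789 = n61789 := d40_2 F270659 D61789 (iv D61789)
theorem F275393 : act 9 n61789 = n61316 := d41_2 (iv F270660) D61789 F273747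
def n61790 : Q := act 1 n60728
theorem D61790 : act 1 n60728 = n61790 := rfl
theorem F275394 : act 2 n61790 = n61094 := d9_2 D60728 D61790 (iv D61094) (iv D59910) (iv F265774)
theorem F275395 : act 3 n61790 = n60753 := d10_2 (iv F270662) D61790 (iv D60753)
theorem F275396 : act 5 n61790 = n61084 := d12_2 (iv F270663) D61790 (iv D61084)
theorem F275397 : act 6 n61790 = n61467 := d13_2 (iv F270664) D61790 F274322
theorem F275398 : act 7 n61790 = n61731 := d14_2 (iv F270665) D61790 (iv D61731)
theorem F275399 : act 8 n61790 = n60732 := d15_2 (iv F270666) D61790 (iv D60732)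
theorem F275400 : act 9 n61790 = n61319 := d16_2 (iv F270667) D61790 (iv D61319)
def n61791 : Q := act 4 n60728
theorem D61791 : act 4 n60728 = n61791 := rfl
theorem F275401 : act 0 n61791 = n61560 := d3_1 D61791 (iv D61560) (iv F270661)
theorem F275402 : act 2 n61791 = n60729 := d18_1 D61791 (iv D60729) D60728
theorem F275403 : act 6 n61791 = n61468 := d31_2 (iv F270664) D61791 (iv D61468)
theorem F275404 : act 7 n61791 = n61732 := d32_2 (iv F270665) D61791 (iv D61732)
theorem F275405 : act 8 n61791 = n60733 := d33_2 (iv F270666) D61791 (iv D60733)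
theorem F275406 : act 9 n61791 = n61320 := d34_2 (iv F270667) D61791 (iv D61320)
def n61792 : Q := act 5 n60729
theorem D61792 : act 5 n60729 = n61792 := rfl
theorem F275407 : act 0 n61792 = n61561 := d4_1 D61792 (iv D61561) (iv F270668)
theorem F275408 : act 1 n61792 = n61096 := d12_1 D61792 (iv D61096) (iv F270669)
theorem F275409 : act 3 n61792 = n61792 := d25_1 D61792 (iv D61792) F270670
theorem F275410 : act 4 n61792 = n61086 := d30_1 D61792 (iv D61086) (iv D59904) (iv F265775) D60729
theorem F275411 : act 7 n61792 = n61733 := d36_2 (iv F270672) D61792 (iv D61733)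
theorem F275412 : act 8 n61792 = n60734 := d37_2 (iv F270673) D61792 (iv D60734)
theorem F275413 : act 9 n61792 = n61321 := d38_2 (iv F270674) D61792 (iv D61321)
def n61793 : Q := act 1 n60730
theorem D61793 : act 1 n60730 = n61793 := rfl
theorem F275414 : act 2 n61793 = n61091 := d9_2 D60730 D61793 (iv D61091) (iv D59908) (iv F265781)
theorem F275415 : act 3 n61793 = n60736 := d10_2 (iv F270676) D61793 (iv D60736)
theorem F275416 : act 5 n61793 = n60732 := d12_2 (iv F270677) D61793 (iv D60732)
theorem F275417 : act 6 n61793 = n61243 := d13_2 (iv F270678) D61793 (iv D61243)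
theorem F275418 : act 7 n61793 = n61448 := d14_2 (iv F270679) D61793 (iv D61448)
theorem F275419 : act 8 n61793 = n61084 := d15_2 (iv F270680) D61793 (iv D61084)
theorem F275420 : act 9 n61793 = n61445 := d16_2 (iv F270681) D61793 (iv D61445)
def n61794 : Q := act 4 n60730
theorem D61794 : act 4 n60730 = n61794 := rfl
theorem F275421 : act 0 n61794 = n61333 := d3_1 D61794 (iv D61333) (iv F270675)
theorem F275422 : act 2 n61794 = n60731 := d18_1 D61794 (iv D60731) D60730
theorem F275423 : act 6 n61794 = n61244 := d31_2 (iv F270678) D61794 (iv D61244)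
theorem F275424 : act 7 n61794 = n61449 := d32_2 (iv F270679) D61794 (iv D61449)
theorem F275425 : act 8 n61794 = n61085 := d33_2 (iv F270680) D61794 (iv D61085)
theorem F275426 : act 9 n61794 = n61446 := d34_2 (iv F270681) D61794 (iv D61446)
def n61795 : Q := act 5 n60731
theorem D61795 : act 5 n60731 = n61795 := rfl
theorem F275427 : act 0 n61795 = n61334 := d4_1 D61795 (iv D61334) (iv F270682)
theorem F275428 : act 1 n61795 = n61093 := d12_1 D61795 (iv D61093) (iv F270683)
theorem F275429 : act 3 n61795 = n61795 := d25_1 D61795 (iv D61795) F270684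
theorem F275430 : act 4 n61795 = n60734 := d30_1 D61795 (iv D60734) (iv D59556) (iv F265782) D60731
theorem F275431 : act 7 n61795 = n61450 := d36_2 (iv F270686) D61795 (iv D61450)
theorem F275432 : act 8 n61795 = n61086 := d37_2 (iv F270687) D61795 (iv D61086)
theorem F275433 : act 9 n61795 = n61447 := d38_2 (iv F270688) D61795 (iv D61447)
def n61796 : Q := act 0 n60732
theorem D61796 : act 0 n60732 = n61796 := rfl
theorem F275434 : act 1 n61796 = n61562 := d0_2 D60732 D61796 (iv D61562) (iv D60418) (iv F265787)
theorem F275435 : act 3 n61796 = n60738 := d2_2 (iv F270689) D61796 (iv D60738)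
theorem F275436 : act 6 n61796 = n61509 := d5_2 (iv F270690) D61796 (iv D61509)
theorem F275437 : act 7 n61796 = n61761 := d6_2 (iv F270691) D61796 (iv D61761)
theorem F275438 : act 9 n61796 = n61519 := d8_2 (iv F270692) D61796 (iv D61519)
def n61797 : Q := act 4 n60732
theorem D61797 : act 4 n60732 = n61797 := rfl
theorem F275439 : act 1 n61797 = n60733 := d11_1 D61797 (iv D60733) D60732
theorem F275440 : act 3 n61797 = n60877 := d24_1 D61797 (iv D60877) F266581 (iv F265816) (iv F270689)
theorem F275441 : act 6 n61797 = n61510 := d31_2 (iv F270690) D61797 (iv D61510)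
theorem F275442 : act 7 n61797 = n61762 := d32_2 (iv F270691) D61797 (iv D61762)
theorem F275443 : act 9 n61797 = n61520 := d34_2 (iv F270692) D61797 (iv D61520)
def n61798 : Q := act 5 n60733
theorem D61798 : act 5 n60733 = n61798 := rfl
theorem F275444 : act 0 n61798 = n61564 := d4_1 D61798 (iv D61564) (iv F270693)
theorem F275445 : act 2 n61798 = n60734 := d19_1 D61798 (iv D60734) (iv F270694)
theorem F275446 : act 3 n61798 = n60878 := d25_1 D61798 (iv D60878) (iv F270695)
theorem F275447 : act 7 n61798 = n61760 := d36_2 (iv F270697) D61798 F275199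
theorem F275448 : act 9 n61798 = n61521 := d38_2 (iv F270698) D61798 (iv D61521)
def n61799 : Q := act 6 n60734
theorem D61799 : act 6 n60734 = n61799 := rfl
theorem F275449 : act 0 n61799 = n61487 := d5_1 D61799 F274389 (iv F270699)
theorem F275450 : act 3 n61799 = n60735 := d26_1 D61799 (iv D60735) (iv F270700)
theorem F275451 : act 5 n61799 = n61301 := d35_1 D61799 F273682 F268676 (iv F265794) D60734
theorem F275452 : act 9 n61799 = n61499 := d41_2 (iv F270702) D61799 F274433
def n61800 : Q := act 0 n60736
theorem D61800 : act 0 n60736 = n61800 := rfl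
theorem F275453 : act 1 n61800 = n61343 := d0_2 D60736 D61800 (iv D61343) (iv D60172) (iv F265803)
theorem F275454 : act 2 n61800 = n61212 := d1_2 (iv F270709) D61800 (iv D61212)
theorem F275455 : act 5 n61800 = n60738 := d4_2 (iv F270710) D61800 (iv D60738)
theorem F275456 : act 6 n61800 = n61250 := d5_2 (iv F270711) D61800 (iv D61250)
theorem F275457 : act 8 n61800 = n60759 := d7_2 (iv F270712) D61800 (iv D60759)
theorem F275458 : act 9 n61800 = n61522 := d8_2 (iv F270713) D61800 (iv D61522)
def n61801 : Q := act 4 n60736
theorem D61801 : act 4 n60736 = n61801 := rfl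
theorem F275459 : act 1 n61801 = n60737 := d11_1 D61801 (iv D60737) D60736
theorem F275460 : act 2 n61801 = n61213 := d18_1 D61801 (iv D61213) (iv F270709)
theorem F275461 : act 5 n61801 = n60881 := d30_2 (iv F270710) D61801 (iv D60881) F266598 (iv F265816)
theorem F275462 : act 6 n61801 = n61251 := d31_2 (iv F270711) D61801 (iv D61251)
theorem F275463 : act 8 n61801 = n60760 := d33_2 (iv F270712) D61801 (iv D60760)
theorem F275464 : act 9 n61801 = n61523 := d34_2 (iv F270713) D61801 (iv D61523)
def n61802 : Q := act 3 n60737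
theorem D61802 : act 3 n60737 = n61802 := rfl
theorem F275465 : act 0 n61802 = n61345 := d2_1 D61802 (iv D61345) (iv F270714)
theorem F275466 : act 2 n61802 = n61802 := d17_1 D61802 (iv D61802) F270715 F265810 (iv F270715)
theorem F275467 : act 5 n61802 = n60882 := d25_2 (iv F270716) D61802 (iv D60882)
theorem F275468 : act 6 n61802 = n61252 := d26_2 (iv F270717) D61802 (iv D61252)
theorem F275469 : act 9 n61802 = n61524 := d29_2 (iv F270719) D61802 (iv D61524)
def n61803 : Q := act 0 n60739
theorem D61803 : act 0 n60739 = n61803 := rfl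
theorem F275470 : act 1 n61803 = n60863 := d0_2 D60739 D61803 (iv D60863) (iv D59679) (iv F265820)
theorem F275471 : act 2 n61803 = n61217 := d1_2 (iv F270726) D61803 (iv D61217)
theorem F275472 : act 3 n61803 = n61603 := d2_2 (iv F270727) D61803 (iv D61603)
theorem F275473 : act 4 n61803 = n60887 := d3_2 (iv F270728) D61803 (iv D60887)
theorem F275474 : act 5 n61803 = n61670 := d4_2 (iv F270729) D61803 (iv D61670)
theorem F275475 : act 6 n61803 = n60750 := d5_2 (iv F270730) D61803 (iv D60750)
theorem F275476 : act 7 n61803 = n60831 := d6_2 (iv F270731) D61803 (iv D60831)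
theorem F275477 : act 8 n61803 = n60832 := d7_2 (iv F270732) D61803 (iv D60832)
theorem F275478 : act 9 n61803 = n60766 := d8_2 (iv F270733) D61803 (iv D60766)
def n61804 : Q := act 1 n60740
theorem D61804 : act 1 n60740 = n61804 := rfl
theorem F275479 : act 2 n61804 = n61528 := d9_2 D60740 D61804 (iv D61528) (iv D60380) (iv F265829)
theorem F275480 : act 3 n61804 = n61731 := d10_2 (iv F270735) D61804 (iv D61731)
theorem F275481 : act 5 n61804 = n61312 := d12_2 (iv F270736) D61804 (iv D61312)
theorem F275482 : act 6 n61804 = n61569 := d13_2 (iv F270737) D61804 (iv D61569)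
theorem F275483 : act 7 n61804 = n60753 := d14_2 (iv F270738) D61804 (iv D60753)
theorem F275484 : act 8 n61804 = n60742 := d15_2 (iv F270739) D61804 (iv D60742)
theorem F275485 : act 9 n61804 = n61559 := d16_2 (iv F270740) D61804 (iv D61559)
def n61805 : Q := act 4 n60740
theorem D61805 : act 4 n60740 = n61805 := rfl
theorem F275486 : act 0 n61805 = n61320 := d3_1 D61805 (iv D61320) (iv F270734)
theorem F275487 : act 2 n61805 = n60741 := d18_1 D61805 (iv D60741) D60740
theorem F275488 : act 6 n61805 = n61570 := d31_2 (iv F270737) D61805 (iv D61570)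
theorem F275489 : act 7 n61805 = n60754 := d32_2 (iv F270738) D61805 (iv D60754)
theorem F275490 : act 8 n61805 = n60743 := d33_2 (iv F270739) D61805 (iv D60743)
theorem F275491 : act 9 n61805 = n61560 := d34_2 (iv F270740) D61805 (iv D61560)
def n61806 : Q := act 5 n60741
theorem D61806 : act 5 n60741 = n61806 := rfl
theorem F275492 : act 0 n61806 = n61321 := d4_1 D61806 (iv D61321) (iv F270741)
theorem F275493 : act 1 n61806 = n61266 := d12_1 D61806 F273533 (iv F270742)
theorem F275494 : act 3 n61806 = n61806 := d25_1 D61806 (iv D61806) F270743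
theorem F275495 : act 4 n61806 = n61314 := d30_1 D61806 (iv D61314) (iv D60147) (iv F265830) D60741
theorem F275496 : act 7 n61806 = n60755 := d36_2 (iv F270745) D61806 (iv D60755)
theorem F275497 : act 8 n61806 = n60744 := d37_2 (iv F270746) D61806 (iv D60744)
theorem F275498 : act 9 n61806 = n61561 := d38_2 (iv F270747) D61806 (iv D61561)
def n61807 : Q := act 0 n60742
theorem D61807 : act 0 n60742 = n61807 := rfl
theorem F275499 : act 1 n61807 = n61742 := d0_2 D60742 D61807 (iv D61742) (iv D60655) (iv F265835)
theorem F275500 : act 2 n61807 = n61534 := d1_2 (iv F270748) D61807 (iv D61534)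
theorem F275501 : act 3 n61807 = n60750 := d2_2 (iv F270749) D61807 (iv D60750)
theorem F275502 : act 5 n61807 = n61525 := d4_2 (iv F270750) D61807 (iv D61525)
theorem F275503 : act 6 n61807 = n61603 := d5_2 (iv F270751) D61807 (iv D61603)
theorem F275504 : act 7 n61807 = n60756 := d6_2 (iv F270752) D61807 (iv D60756)
theorem F275505 : act 9 n61807 = n60770 := d8_2 (iv F270753) D61807 (iv D60770)
def n61808 : Q := act 4 n60742
theorem D61808 : act 4 n60742 = n61808 := rfl
theorem F275506 : act 1 n61808 = n60743 := d11_1 D61808 (iv D60743) D60742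
theorem F275507 : act 2 n61808 = n61535 := d18_1 D61808 (iv D61535) (iv F270748)
theorem F275508 : act 3 n61808 = n60893 := d24_1 D61808 (iv D60893) F266657 (iv F265873) (iv F270749)
theorem F275509 : act 6 n61808 = n61604 := d31_2 (iv F270751) D61808 (iv D61604)
theorem F275510 : act 7 n61808 = n60757 := d32_2 (iv F270752) D61808 (iv D60757)
theorem F275511 : act 9 n61808 = n60771 := d34_2 (iv F270753) D61808 (iv D60771)
def n61809 : Q := act 5 n60743
theorem D61809 : act 5 n60743 = n61809 := rfl
theorem F275512 : act 0 n61809 = n61554 := d4_1 D61809 F274652 (iv F270754)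
theorem F275513 : act 2 n61809 = n60744 := d19_1 D61809 (iv D60744) (iv F270755)
theorem F275514 : act 3 n61809 = n60894 := d25_1 D61809 (iv D60894) (iv F270756)
theorem F275515 : act 4 n61809 = n61527 := d30_1 D61809 (iv D61527) (iv D60378) (iv F265837) D60743
theorem F275516 : act 7 n61809 = n60758 := d36_2 (iv F270758) D61809 (iv D60758)
theorem F275517 : act 9 n61809 = n60772 := d38_2 (iv F270759) D61809 (iv D60772)
def n61810 : Q := act 6 n60744
theorem D61810 : act 6 n60744 = n61810 := rfl
theorem F275518 : act 0 n61810 = n60869 := d5_1 D61810 F271530 (iv F270760)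
theorem F275519 : act 1 n61810 = n61265 := d13_1 D61810 F273528 (iv F270761)
theorem F275520 : act 3 n61810 = n60745 := d26_1 D61810 (iv D60745) (iv F270762)
theorem F275521 : act 4 n61810 = n61315 := d31_1 D61810 F273741 (iv F270763)
theorem F275522 : act 5 n61810 = n61606 := d35_1 D61810 (iv D61606) (iv D60465) (iv F265844) D60744
theorem F275523 : act 7 n61810 = n61087 := d39_2 (iv F270764) D61810 F272745 F269283 (iv F265906)
theorem F275524 : act 9 n61810 = n60773 := d41_2 (iv F270765) D61810 (iv D60773)
def n61811 : Q := act 1 n60746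
theorem D61811 : act 1 n60746 = n61811 := rfl
theorem F275525 : act 2 n61811 = n60992 := d9_2 D60746 D61811 (iv D60992) (iv D59810) (iv F265855)
theorem F275526 : act 3 n61811 = n61517 := d10_2 (iv F270775) D61811 (iv D61517)
theorem F275527 : act 5 n61811 = n61120 := d12_2 (iv F270776) D61811 (iv D61120)
theorem F275528 : act 6 n61811 = n60748 := d13_2 (iv F270777) D61811 (iv D60748)
theorem F275529 : act 7 n61811 = n61256 := d14_2 (iv F270778) D61811 (iv D61256)
theorem F275530 : act 8 n61811 = n61167 := d15_2 (iv F270779) D61811 (iv D61167)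
theorem F275531 : act 9 n61811 = n60774 := d16_2 (iv F270780) D61811 (iv D60774)
def n61812 : Q := act 4 n60746
theorem D61812 : act 4 n60746 = n61812 := rfl
theorem F275532 : act 0 n61812 = n61359 := d3_1 D61812 (iv D61359) (iv F270774)
theorem F275533 : act 2 n61812 = n60747 := d18_1 D61812 (iv D60747) D60746
theorem F275534 : act 6 n61812 = n60749 := d31_2 (iv F270777) D61812 (iv D60749)
theorem F275535 : act 7 n61812 = n61257 := d32_2 (iv F270778) D61812 (iv D61257)
theorem F275536 : act 8 n61812 = n61168 := d33_2 (iv F270779) D61812 (iv D61168)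
theorem F275537 : act 9 n61812 = n60775 := d34_2 (iv F270780) D61812 (iv D60775)
def n61813 : Q := act 5 n60747
theorem D61813 : act 5 n60747 = n61813 := rfl
theorem F275538 : act 0 n61813 = n61178 := d4_1 D61813 F273140 (iv F270781)
theorem F275539 : act 1 n61813 = n60994 := d12_1 D61813 (iv D60994) (iv F270782)
theorem F275540 : act 3 n61813 = n60763 := d25_1 D61813 (iv D60763) (iv F270783)
theorem F275541 : act 4 n61813 = n61122 := d30_1 D61813 (iv D61122) (iv D59934) (iv F265856) D60747
theorem F275542 : act 6 n61813 = n60897 := d35_2 (iv F270784) D61813 (iv D60897) F266680 (iv F265869)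
theorem F275543 : act 7 n61813 = n61258 := d36_2 (iv F270785) D61813 (iv D61258)
theorem F275544 : act 8 n61813 = n61169 := d37_2 (iv F270786) D61813 (iv D61169)
theorem F275545 : act 9 n61813 = n60776 := d38_2 (iv F270787) D61813 (iv D60776)
def n61814 : Q := act 0 n60748
theorem D61814 : act 0 n60748 = n61814 := rfl
theorem F275546 : act 1 n61814 = n61373 := d0_2 D60748 D61814 (iv D61373) (iv D60204) (iv F265861)
theorem F275547 : act 2 n61814 = n61218 := d1_2 (iv F270788) D61814 (iv D61218)
theorem F275548 : act 3 n61814 = n61525 := d2_2 (iv F270789) D61814 (iv D61525)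
theorem F275549 : act 5 n61814 = n60750 := d4_2 (iv F270790) D61814 (iv D60750)
theorem F275550 : act 7 n61814 = n60759 := d6_2 (iv F270791) D61814 (iv D60759)
theorem F275551 : act 9 n61814 = n60777 := d8_2 (iv F270792) D61814 (iv D60777)
def n61815 : Q := act 4 n60748
theorem D61815 : act 4 n60748 = n61815 := rfl
theorem F275552 : act 1 n61815 = n60749 := d11_1 D61815 (iv D60749) D60748
theorem F275553 : act 2 n61815 = n61219 := d18_1 D61815 (iv D61219) (iv F270788)
theorem F275554 : act 5 n61815 = n60899 := d30_2 (iv F270790) D61815 (iv D60899) F266685 (iv F265873)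
theorem F275555 : act 7 n61815 = n60760 := d32_2 (iv F270791) D61815 (iv D60760)
theorem F275556 : act 9 n61815 = n60778 := d34_2 (iv F270792) D61815 (iv D60778)
def n61816 : Q := act 3 n60749
theorem D61816 : act 3 n60749 = n61816 := rfl
theorem F275557 : act 0 n61816 = n61375 := d2_1 D61816 (iv D61375) (iv F270793)
theorem F275558 : act 2 n61816 = n60764 := d17_1 D61816 (iv D60764) F265947 (iv F265868) (iv F270794)
theorem F275559 : act 4 n61816 = n61493 := d24_2 D60749 D61816 F274409 (iv D60378) (iv F265862)
theorem F275560 : act 5 n61816 = n60900 := d25_2 (iv F270795) D61816 (iv D60900)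
theorem F275561 : act 7 n61816 = n60761 := d27_2 (iv F270796) D61816 (iv D60761)
theorem F275562 : act 9 n61816 = n60779 := d29_2 (iv F270797) D61816 (iv D60779)
def n61817 : Q := act 1 n60751
theorem D61817 : act 1 n60751 = n61817 := rfl
theorem F275563 : act 2 n61817 = n60873 := d9_2 D60751 D61817 (iv D60873) (iv D59688) (iv F265877)
theorem F275564 : act 3 n61817 = n61319 := d10_2 (iv F270804) D61817 (iv D61319)
theorem F275565 : act 5 n61817 = n60866 := d12_2 (iv F270805) D61817 (iv D60866)
theorem F275566 : act 6 n61817 = n60890 := d13_2 (iv F270806) D61817 (iv D60890)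
theorem F275567 : act 7 n61817 = n61559 := d14_2 (iv F270807) D61817 (iv D61559)
theorem F275568 : act 8 n61817 = n60791 := d15_2 (iv F270808) D61817 (iv D60791)
theorem F275569 : act 9 n61817 = n60753 := d16_2 (iv F270809) D61817 (iv D60753)
def n61818 : Q := act 4 n60751
theorem D61818 : act 4 n60751 = n61818 := rfl
theorem F275570 : act 0 n61818 = n61732 := d3_1 D61818 (iv D61732) (iv F270803)
theorem F275571 : act 2 n61818 = n60752 := d18_1 D61818 (iv D60752) D60751
theorem F275572 : act 6 n61818 = n60891 := d31_2 (iv F270806) D61818 (iv D60891)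
theorem F275573 : act 7 n61818 = n61560 := d32_2 (iv F270807) D61818 (iv D61560)
theorem F275574 : act 8 n61818 = n60792 := d33_2 (iv F270808) D61818 (iv D60792)
theorem F275575 : act 9 n61818 = n60754 := d34_2 (iv F270809) D61818 (iv D60754)
def n61819 : Q := act 5 n60752
theorem D61819 : act 5 n60752 = n61819 := rfl
theorem F275576 : act 0 n61819 = n61733 := d4_1 D61819 (iv D61733) (iv F270810)
theorem F275577 : act 1 n61819 = n60875 := d12_1 D61819 (iv D60875) (iv F270811)
theorem F275578 : act 3 n61819 = n61819 := d25_1 D61819 (iv D61819) F270812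
theorem F275579 : act 4 n61819 = n60868 := d30_1 D61819 (iv D60868) (iv D59683) (iv F265878) D60752
theorem F275580 : act 6 n61819 = n61450 := d35_2 (iv F270813) D61819 (iv D61450) F269224 (iv F266653)
theorem F275581 : act 7 n61819 = n61561 := d36_2 (iv F270814) D61819 (iv D61561)
theorem F275582 : act 8 n61819 = n60793 := d37_2 (iv F270815) D61819 (iv D60793)
theorem F275583 : act 9 n61819 = n60755 := d38_2 (iv F270816) D61819 (iv D60755)
def n61820 : Q := act 0 n60753
theorem D61820 : act 0 n60753 = n61820 := rfl
theorem F275584 : act 1 n61820 = n61734 := d0_2 D60753 D61820 (iv D61734) (iv D60646) (iv F265883)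
theorem F275585 : act 2 n61820 = n61545 := d1_2 (iv F270817) D61820 (iv D61545)
theorem F275586 : act 5 n61820 = n61539 := d4_2 (iv F270818) D61820 (iv D61539)
theorem F275587 : act 6 n61820 = n61466 := d5_2 (iv F270819) D61820 F274318
theorem F275588 : act 8 n61820 = n60756 := d7_2 (iv F270820) D61820 (iv D60756)
def n61821 : Q := act 4 n60753
theorem D61821 : act 4 n60753 = n61821 := rfl
theorem F275589 : act 1 n61821 = n60754 := d11_1 D61821 (iv D60754) D60753
theorem F275590 : act 2 n61821 = n61546 := d18_1 D61821 (iv D61546) (iv F270817)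
theorem F275591 : act 6 n61821 = n61460 := d31_2 (iv F270819) D61821 F274294
theorem F275592 : act 8 n61821 = n60757 := d33_2 (iv F270820) D61821 (iv D60757)
def n61822 : Q := act 3 n60754
theorem D61822 : act 3 n60754 = n61822 := rfl
theorem F275593 : act 0 n61822 = n61736 := d2_1 D61822 (iv D61736) (iv F270821)
theorem F275594 : act 2 n61822 = n61822 := d17_1 D61822 (iv D61822) F270822 F265889 (iv F270822)
theorem F275595 : act 6 n61822 = n61461 := d26_2 (iv F270823) D61822 F274298
theorem F275596 : act 8 n61822 = n60910 := d28_2 (iv F270824) D61822 (iv D60910) F266747 (iv F265899)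
def n61823 : Q := act 5 n60754
theorem D61823 : act 5 n60754 = n61823 := rfl
theorem F275597 : act 0 n61823 = n61730 := d4_1 D61823 F275122 (iv F270821)
theorem F275598 : act 2 n61823 = n60755 := d19_1 D61823 (iv D60755) (iv F270822)
theorem F275599 : act 4 n61823 = n61542 := d30_1 D61823 (iv D61542) (iv D60393) (iv F265884) D60754
theorem F275600 : act 6 n61823 = n61454 := d35_2 (iv F270823) D61823 (iv D61454) F269230 D60287
theorem F275601 : act 8 n61823 = n60758 := d37_2 (iv F270824) D61823 (iv D60758)
def n61824 : Q := act 4 n60756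
theorem D61824 : act 4 n60756 = n61824 := rfl
theorem F275602 : act 0 n61824 = n60757 := d3_1 D61824 (iv D60757) D60756
theorem F275603 : act 1 n61824 = n61744 := d11_1 D61824 (iv D61744) (iv F270831)
theorem F275604 : act 2 n61824 = n61550 := d18_1 D61824 (iv D61550) (iv F270832)
theorem F275605 : act 3 n61824 = n60913 := d24_1 D61824 (iv D60913) F266763 (iv F265920) (iv F270833)
theorem F275606 : act 6 n61824 = n61475 := d31_2 (iv F270835) D61824 F274353
theorem F275607 : act 9 n61824 = n60802 := d34_2 (iv F270836) D61824 (iv D60802)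
def n61825 : Q := act 5 n60757
theorem D61825 : act 5 n60757 = n61825 := rfl
theorem F275608 : act 1 n61825 = n60758 := d12_1 D61825 (iv D60758) (iv F270837)
theorem F275609 : act 2 n61825 = n61263 := d19_1 D61825 F273520 (iv F270838)
theorem F275610 : act 3 n61825 = n60914 := d25_1 D61825 (iv D60914) (iv F270839)
theorem F275611 : act 4 n61825 = n61544 := d30_1 D61825 (iv D61544) (iv D60396) (iv F265894) D60757
theorem F275612 : act 6 n61825 = n61473 := d35_2 (iv F270840) D61825 (iv D61473) F269289 D60303
theorem F275613 : act 9 n61825 = n60803 := d38_2 (iv F270841) D61825 (iv D60803)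
def n61826 : Q := act 4 n60759
theorem D61826 : act 4 n60759 = n61826 := rfl
theorem F275614 : act 0 n61826 = n60760 := d3_1 D61826 (iv D60760) D60759
theorem F275615 : act 1 n61826 = n61376 := d11_1 D61826 (iv D61376) (iv F270848)
theorem F275616 : act 2 n61826 = n61220 := d18_1 D61826 (iv D61220) (iv F270849)
theorem F275617 : act 5 n61826 = n60919 := d30_2 (iv F270851) D61826 (iv D60919) F266803 (iv F265920)
theorem F275618 : act 6 n61826 = n61262 := d31_2 (iv F270852) D61826 (iv D61262)
theorem F275619 : act 9 n61826 = n60805 := d34_2 (iv F270853) D61826 (iv D60805)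
def n61827 : Q := act 3 n60760
theorem D61827 : act 3 n60760 = n61827 := rfl
theorem F275620 : act 1 n61827 = n60761 := d10_1 D61827 (iv D60761) (iv F270854)
theorem F275621 : act 2 n61827 = n61473 := d17_1 D61827 F274344 F269949 (iv F268259) (iv F270855)
theorem F275622 : act 4 n61827 = n61496 := d24_2 D60760 D61827 F274421 (iv D60396) (iv F265909)
theorem F275623 : act 5 n61827 = n60920 := d25_2 (iv F270856) D61827 (iv D60920)
theorem F275624 : act 6 n61827 = n61263 := d26_2 (iv F270857) D61827 (iv D61263)
theorem F275625 : act 9 n61827 = n60806 := d29_2 (iv F270858) D61827 (iv D60806)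
def n61828 : Q := act 8 n60761
theorem D61828 : act 8 n60761 = n61828 := rfl
theorem F275626 : act 0 n61828 = n61378 := d7_1 D61828 (iv D61378) (iv F270859)
theorem F275627 : act 2 n61828 = n60765 := d22_1 D61828 (iv D60765) (iv F270860)
theorem F275628 : act 4 n61828 = n61497 := d33_1 D61828 (iv D61497) (iv F270861)
theorem F275629 : act 5 n61828 = n60921 := d37_1 D61828 (iv D60921) (iv F270862)
theorem F275630 : act 6 n61828 = n61264 := d40_1 D61828 (iv D61264) (iv F270863)
def n61829 : Q := act 3 n60762
theorem D61829 : act 3 n60762 = n61829 := rfl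
theorem F275631 : act 0 n61829 = n61383 := d2_1 D61829 (iv D61383) (iv F270865)
theorem F275632 : act 1 n61829 = n61087 := d10_1 D61829 (iv D61087) (iv F270866)
theorem F275633 : act 4 n61829 = n61490 := d24_2 D60762 D61829 (iv D61490) (iv D60321) (iv F265933)
theorem F275634 : act 5 n61829 = n61492 := d25_2 F270872 D61829 F274406
theorem F275635 : act 6 n61829 = n60764 := d26_2 (iv F270868) D61829 (iv D60764)
theorem F275636 : act 7 n61829 = n61265 := d27_2 (iv F270869) D61829 (iv D61265)
theorem F275637 : act 9 n61829 = n60810 := d29_2 (iv F270871) D61829 (iv D60810)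
def n61830 : Q := act 8 n60764
theorem D61830 : act 8 n60764 = n61830 := rfl
theorem F275638 : act 0 n61830 = n61388 := d7_1 D61830 (iv D61388) (iv F270881)
theorem F275639 : act 1 n61830 = n61447 := d15_1 D61830 F274262 (iv F270882)
theorem F275640 : act 3 n61830 = n61830 := d28_1 D61830 (iv D61830) (iv D60764) F265950 D60764
theorem F275641 : act 4 n61830 = n61494 := d33_1 D61830 (iv D61494) (iv F270883)
theorem F275642 : act 5 n61830 = n60922 := d37_1 D61830 (iv D60922) (iv F270884)
theorem F275643 : act 7 n61830 = n60765 := d42_1 D61830 (iv D60765) (iv F270885)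
theorem F275644 : act 9 n61830 = n61093 := d44_2 (iv F270886) D61830 F272775 F267751 (iv F266183)
def n61831 : Q := act 9 n60765
theorem D61831 : act 9 n60765 = n61831 := rfl
theorem F275645 : act 0 n61831 = n61389 := d8_1 D61831 (iv D61389) (iv F270887)
theorem F275646 : act 1 n61831 = n61450 := d16_1 D61831 F274271 (iv F270888)
theorem F275647 : act 3 n61831 = n61831 := d29_1 D61831 (iv D61831) F270889
theorem F275648 : act 4 n61831 = n60879 := d34_1 D61831 F271573 (iv F270890)
theorem F275649 : act 5 n61831 = n60923 := d38_1 D61831 (iv D60923) (iv F270891)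
theorem F275650 : act 6 n61831 = n60875 := d41_1 D61831 F271558 (iv F270892)
theorem F275651 : act 7 n61831 = n61093 := d43_1 D61831 (iv F275644) F275643
theorem F275652 : act 8 n61831 = n60812 := d44_1 D61831 (iv D60812) (iv D59626) (iv F265957) D60765
def n61832 : Q := act 0 n60767
theorem D61832 : act 0 n60767 = n61832 := rfl
theorem F275653 : act 1 n61832 = n61469 := d0_2 D60767 D61832 (iv D61469) (iv D60295) (iv F265965)
theorem F275654 : act 2 n61832 = n61509 := d1_2 (iv F270901) D61832 (iv D61509)
theorem F275655 : act 3 n61832 = n60777 := d2_2 (iv F270902) D61832 (iv D60777)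
theorem F275656 : act 5 n61832 = n60770 := d4_2 (iv F270903) D61832 (iv D60770)
theorem F275657 : act 7 n61832 = n60798 := d6_2 (iv F270904) D61832 (iv D60798)
theorem F275658 : act 8 n61832 = n61586 := d7_2 (iv F270905) D61832 (iv D61586)
theorem F275659 : act 9 n61832 = n61525 := d8_2 (iv F270906) D61832 (iv D61525)
def n61833 : Q := act 4 n60767
theorem D61833 : act 4 n60767 = n61833 := rfl
theorem F275660 : act 1 n61833 = n60768 := d11_1 D61833 (iv D60768) D60767
theorem F275661 : act 2 n61833 = n61510 := d18_1 D61833 (iv D61510) (iv F270901)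
theorem F275662 : act 7 n61833 = n60799 := d32_2 (iv F270904) D61833 (iv D60799)
theorem F275663 : act 8 n61833 = n61587 := d33_2 (iv F270905) D61833 (iv D61587)
theorem F275664 : act 9 n61833 = n61526 := d34_2 (iv F270906) D61833 (iv D61526)
def n61834 : Q := act 3 n60768
theorem D61834 : act 3 n60768 = n61834 := rfl
theorem F275665 : act 0 n61834 = n61386 := d2_1 D61834 F274025 (iv F270907)
theorem F275666 : act 2 n61834 = n60808 := d17_1 D61834 (iv D60808) F266145 (iv F265973) (iv F270908)
theorem F275667 : act 4 n61834 = n60779 := d24_2 D60768 D61834 (iv D60779) (iv D59594) (iv F265966)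
theorem F275668 : act 7 n61834 = n60800 := d27_2 (iv F270909) D61834 (iv D60800)
theorem F275669 : act 9 n61834 = n61493 := d29_2 (iv F270911) D61834 F274409
theorem F275670 : act 5 n61329 = n61834 := d38_3 F275669 F274410 (iv F273805)
theorem F275671 : act 8 n61834 = n61338 := d37_2 (iv F273804) F275670 (iv D61338)
def n61835 : Q := act 5 n60768
theorem D61835 : act 5 n60768 = n61835 := rfl
theorem F275672 : act 0 n61835 = n61471 := d4_1 D61835 (iv D61471) (iv F270907)
theorem F275673 : act 2 n61835 = n60769 := d19_1 D61835 (iv D60769) (iv F270908)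
theorem F275674 : act 3 n61835 = n61329 := d25_1 D61835 F275670 (iv D61834)
theorem F275675 : act 4 n61835 = n60772 := d30_1 D61835 (iv D60772) (iv D59588) (iv F265967) D60768
theorem F275676 : act 7 n61835 = n60801 := d36_2 (iv F270909) D61835 (iv D60801)
theorem F275677 : act 8 n61835 = n61589 := d37_2 (iv F270910) D61835 (iv D61589)
theorem F275678 : act 9 n61835 = n61527 := d38_2 (iv F270911) D61835 (iv D61527)
def n61836 : Q := act 6 n60769
theorem D61836 : act 6 n60769 = n61836 := rfl
theorem F275679 : act 0 n61836 = n61087 := d5_1 D61836 F272745 (iv F270912)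
theorem F275680 : act 1 n61836 = n61301 := d13_1 D61836 F273682 (iv F270913)
theorem F275681 : act 3 n61836 = n60809 := d26_1 D61836 (iv D60809) (iv F270914)
theorem F275682 : act 4 n61836 = n60773 := d31_1 D61836 (iv D60773) (iv F270915)
theorem F275683 : act 7 n61836 = n60869 := d39_2 (iv F270916) D61836 F271530 F269723 (iv F266113)
theorem F275684 : act 8 n61836 = n61500 := d40_2 (iv F270917) D61836 F274436
theorem F275685 : act 9 n61836 = n61315 := d41_2 (iv F270918) D61836 F273741
def n61837 : Q := act 4 n60770
theorem D61837 : act 4 n60770 = n61837 := rfl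
theorem F275686 : act 0 n61837 = n60771 := d3_1 D61837 (iv D60771) D60770
theorem F275687 : act 1 n61837 = n61765 := d11_1 D61837 F275211 (iv F270919)
theorem F275688 : act 2 n61837 = n61706 := d18_1 D61837 (iv D61706) (iv F270920)
theorem F275689 : act 3 n61837 = n60937 := d24_1 D61837 (iv D60937) F266890 (iv F266021) (iv F270921)
theorem F275690 : act 6 n61837 = n61607 := d31_2 (iv F270922) D61837 (iv D61607)
theorem F275691 : act 7 n61837 = n60802 := d32_2 (iv F270923) D61837 (iv D60802)
theorem F275692 : act 8 n61837 = n61590 := d33_2 (iv F270924) D61837 (iv D61590)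
def n61838 : Q := act 5 n60771
theorem D61838 : act 5 n60771 = n61838 := rfl
theorem F275693 : act 1 n61838 = n60772 := d12_1 D61838 (iv D60772) (iv F270925)
theorem F275694 : act 2 n61838 = n61286 := d19_1 D61838 F273621 (iv F270926)
theorem F275695 : act 3 n61838 = n60938 := d25_1 D61838 (iv D60938) (iv F270927)
theorem F275696 : act 7 n61838 = n60803 := d36_2 (iv F270929) D61838 (iv D60803)
theorem F275697 : act 8 n61838 = n61591 := d37_2 (iv F270930) D61838 (iv D61591)
def n61839 : Q := act 6 n60772
theorem D61839 : act 6 n60772 = n61839 := rfl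
theorem F275698 : act 0 n61839 = n61541 := d5_1 D61839 F274604 (iv F270931)
theorem F275699 : act 2 n61839 = n60773 := d20_1 D61839 (iv D60773) (iv F270932)
theorem F275700 : act 3 n61839 = n60939 := d26_1 D61839 (iv D60939) (iv F270933)
theorem F275701 : act 5 n61839 = n61609 := d35_1 D61839 (iv D61609) (iv D60468) (iv F265985) D60772
theorem F275702 : act 7 n61839 = n61324 := d39_2 (iv F270934) D61839 F273782 F271119 (iv D60804)
theorem F275703 : act 8 n61839 = n61498 := d40_2 (iv F270935) D61839 F274430
def n61840 : Q := act 0 n60774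
theorem D61840 : act 0 n60774 = n61840 := rfl
theorem F275704 : act 1 n61840 = n61428 := d0_2 D60774 D61840 (iv D61428) (iv D60257) (iv F266000)
theorem F275705 : act 2 n61840 = n61209 := d1_2 (iv F270942) D61840 (iv D61209)
theorem F275706 : act 5 n61840 = n61123 := d4_2 (iv F270943) D61840 (iv D61123)
theorem F275707 : act 6 n61840 = n60777 := d5_2 (iv F270944) D61840 (iv D60777)
theorem F275708 : act 7 n61840 = n61281 := d6_2 (iv F270945) D61840 (iv D61281)
theorem F275709 : act 8 n61840 = n61127 := d7_2 (iv F270946) D61840 (iv D61127)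
def n61841 : Q := act 4 n60774
theorem D61841 : act 4 n60774 = n61841 := rfl
theorem F275710 : act 1 n61841 = n60775 := d11_1 D61841 (iv D60775) D60774
theorem F275711 : act 2 n61841 = n61210 := d18_1 D61841 (iv D61210) (iv F270942)
theorem F275712 : act 6 n61841 = n60778 := d31_2 (iv F270944) D61841 (iv D60778)
theorem F275713 : act 7 n61841 = n61282 := d32_2 (iv F270945) D61841 (iv D61282)
theorem F275714 : act 8 n61841 = n61128 := d33_2 (iv F270946) D61841 (iv D61128)
def n61842 : Q := act 3 n60775
theorem D61842 : act 3 n60775 = n61842 := rfl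
theorem F275715 : act 0 n61842 = n61430 := d2_1 D61842 (iv D61430) (iv F270947)
theorem F275716 : act 2 n61842 = n60810 := d17_1 D61842 (iv D60810) F266167 (iv F266007) (iv F270948)
theorem F275717 : act 6 n61842 = n60779 := d26_2 (iv F270949) D61842 (iv D60779)
theorem F275718 : act 7 n61842 = n61283 := d27_2 (iv F270950) D61842 (iv D61283)
theorem F275719 : act 8 n61842 = n61342 := d28_2 (iv F270951) D61842 F273840 (iv F272643) F272639
theorem F275720 : act 5 n61434 = n61842 := d37_3 F275719 F273841 D61434
def n61843 : Q := act 5 n60775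
theorem D61843 : act 5 n60775 = n61843 := rfl
theorem F275721 : act 0 n61843 = n61183 := d4_1 D61843 F273159 (iv F270947)
theorem F275722 : act 2 n61843 = n60776 := d19_1 D61843 (iv D60776) (iv F270948)
theorem F275723 : act 3 n61843 = n61434 := d25_1 D61843 F275720 (iv D61842)
theorem F275724 : act 4 n61843 = n61126 := d30_1 D61843 (iv D61126) (iv D59936) (iv F266001) D60775
theorem F275725 : act 6 n61843 = n60944 := d35_2 (iv F270949) D61843 (iv D60944) F266929 (iv F266016)
theorem F275726 : act 7 n61843 = n61284 := d36_2 (iv F270950) D61843 (iv D61284)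
theorem F275727 : act 8 n61843 = n61064 := d37_2 (iv F270951) D61843 (iv F272636)
def n61844 : Q := act 4 n60777
theorem D61844 : act 4 n60777 = n61844 := rfl
theorem F275728 : act 0 n61844 = n60778 := d3_1 D61844 (iv D60778) D60777
theorem F275729 : act 1 n61844 = n61478 := d11_1 D61844 (iv D61478) (iv F270959)
theorem F275730 : act 2 n61844 = n61225 := d18_1 D61844 (iv D61225) (iv F270960)
theorem F275731 : act 5 n61844 = n60945 := d30_2 (iv F270961) D61844 (iv D60945) F266939 (iv F266021)
theorem F275732 : act 7 n61844 = n60805 := d32_2 (iv F270962) D61844 (iv D60805)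
theorem F275733 : act 8 n61844 = n61668 := d33_2 F275236 D61844 (iv F275232)
def n61845 : Q := act 3 n60778
theorem D61845 : act 3 n60778 = n61845 := rfl
theorem F275734 : act 1 n61845 = n60779 := d10_1 D61845 (iv D60779) (iv F270963)
theorem F275735 : act 2 n61845 = n61714 := d17_1 D61845 (iv D61714) F270257 (iv F268292) (iv F270964)
theorem F275736 : act 5 n61845 = n60946 := d25_2 (iv F270965) D61845 (iv D60946)
theorem F275737 : act 7 n61845 = n60806 := d27_2 (iv F270966) D61845 (iv D60806)
theorem F275738 : act 8 n61341 = n61845 := d37_0 F275736 (iv F271943) D61341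
def n61846 : Q := act 1 n60780
theorem D61846 : act 1 n60780 = n61846 := rfl
theorem F275739 : act 2 n61846 = n60791 := d9_2 D60780 D61846 (iv D60791) (iv D59604) (iv F266024)
theorem F275740 : act 3 n61846 = n60905 := d10_2 (iv F270974) D61846 (iv D60905)
theorem F275741 : act 5 n61846 = n60870 := d12_2 (iv F270975) D61846 (iv D60870)
theorem F275742 : act 6 n61846 = n60888 := d13_2 (iv F270976) D61846 (iv D60888)
theorem F275743 : act 7 n61846 = n61464 := d14_2 (iv F270977) D61846 F274309
theorem F275744 : act 8 n61846 = n60873 := d15_2 (iv F270978) D61846 (iv D60873)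
theorem F275745 : act 9 n61846 = n60782 := d16_2 (iv F270979) D61846 (iv D60782)
def n61847 : Q := act 4 n60780
theorem D61847 : act 4 n60780 = n61847 := rfl
theorem F275746 : act 0 n61847 = n61231 := d3_1 D61847 F273363 (iv F270973)
theorem F275747 : act 2 n61847 = n60781 := d18_1 D61847 (iv D60781) D60780
theorem F275748 : act 3 n61847 = n61144 := d24_1 D61847 (iv D61144) F267918 (iv F266722) (iv F270974)
theorem F275749 : act 6 n61847 = n60889 := d31_2 (iv F270976) D61847 (iv D60889)
theorem F275750 : act 7 n61847 = n61176 := d32_2 (iv F270977) D61847 F273133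
theorem F275751 : act 8 n61847 = n60874 := d33_2 (iv F270978) D61847 (iv D60874)
theorem F275752 : act 9 n61847 = n60783 := d34_2 (iv F270979) D61847 (iv D60783)
theorem F275753 : act 5 n61300 = n61847 := d38_3 F275752 (iv F271000) D61300
def n61848 : Q := act 0 n60782
theorem D61848 : act 0 n60782 = n61848 := rfl
theorem F275754 : act 1 n61848 = n61580 := d0_2 D60782 D61848 (iv D61580) (iv D60437) (iv F266030)
theorem F275755 : act 2 n61848 = n60794 := d1_2 (iv F270988) D61848 (iv D60794)
theorem F275756 : act 3 n61848 = n61392 := d2_2 (iv F270989) D61848 (iv D61392)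
theorem F275757 : act 5 n61848 = n61513 := d4_2 (iv F270990) D61848 (iv D61513)
theorem F275758 : act 6 n61848 = n60934 := d5_2 (iv F270991) D61848 (iv D60934)
theorem F275759 : act 7 n61848 = n61465 := d6_2 (iv F270992) D61848 F274313
theorem F275760 : act 8 n61848 = n60784 := d7_2 (iv F270993) D61848 (iv D60784)
def n61849 : Q := act 4 n60782
theorem D61849 : act 4 n60782 = n61849 := rfl
theorem F275761 : act 1 n61849 = n60783 := d11_1 D61849 (iv D60783) D60782
theorem F275762 : act 2 n61849 = n60795 := d18_1 D61849 (iv D60795) (iv F270988)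
theorem F275763 : act 3 n61849 = n61146 := d24_1 D61849 (iv D61146) F267929 (iv F269028) (iv F270989)
theorem F275764 : act 6 n61849 = n60935 := d31_2 (iv F270991) D61849 (iv D60935)
theorem F275765 : act 7 n61849 = n61180 := d32_2 (iv F270992) D61849 F273148
theorem F275766 : act 8 n61849 = n60785 := d33_2 (iv F270993) D61849 (iv D60785)
theorem F275767 : act 5 n61299 = n61849 := d37_3 F275766 (iv F271014) D61299
def n61850 : Q := act 4 n60784
theorem D61850 : act 4 n60784 = n61850 := rfl
theorem F275768 : act 0 n61850 = n60785 := d3_1 D61850 (iv D60785) D60784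
theorem F275769 : act 1 n61850 = n61229 := d11_1 D61850 F273353 (iv F271001)
theorem F275770 : act 2 n61850 = n60802 := d18_1 D61850 (iv D60802) (iv F271002)
theorem F275771 : act 3 n61850 = n61205 := d24_1 D61850 (iv D61205) F268180 (iv F268297) (iv F271003)
theorem F275772 : act 6 n61850 = n61512 := d31_2 (iv F271005) D61850 (iv D61512)
theorem F275773 : act 7 n61850 = n61706 := d32_2 (iv F271006) D61850 (iv D61706)
theorem F275774 : act 9 n61850 = n61550 := d34_2 (iv F271007) D61850 (iv D61550)
theorem F275775 : act 5 n61298 = n61850 := d25_0 F275771 F273243 D61298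
def n61851 : Q := act 1 n60786
theorem D61851 : act 1 n60786 = n61851 := rfl
theorem F275776 : act 2 n61851 = n60870 := d9_2 D60786 D61851 (iv D60870) (iv D59686) (iv F266057)
theorem F275777 : act 3 n61851 = n60885 := d10_2 (iv F271016) D61851 (iv D60885)
theorem F275778 : act 5 n61851 = n60791 := d12_2 (iv F271017) D61851 (iv D60791)
theorem F275779 : act 6 n61851 = n61289 := d13_2 (iv F271018) D61851 (iv D61289)
theorem F275780 : act 7 n61851 = n61332 := d14_2 (iv F271019) D61851 (iv D61332)
theorem F275781 : act 8 n61851 = n60866 := d15_2 (iv F271020) D61851 (iv D60866)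
theorem F275782 : act 9 n61851 = n60788 := d16_2 (iv F271021) D61851 (iv D60788)
def n61852 : Q := act 4 n60786
theorem D61852 : act 4 n60786 = n61852 := rfl
theorem F275783 : act 0 n61852 = n61449 := d3_1 D61852 (iv D61449) (iv F271015)
theorem F275784 : act 2 n61852 = n60787 := d18_1 D61852 (iv D60787) D60786
theorem F275785 : act 6 n61852 = n61290 := d31_2 (iv F271018) D61852 (iv D61290)
theorem F275786 : act 7 n61852 = n61333 := d32_2 (iv F271019) D61852 (iv D61333)
theorem F275787 : act 8 n61852 = n60867 := d33_2 (iv F271020) D61852 (iv D60867)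
theorem F275788 : act 9 n61852 = n60789 := d34_2 (iv F271021) D61852 (iv D60789)
def n61853 : Q := act 5 n60787
theorem D61853 : act 5 n60787 = n61853 := rfl
theorem F275789 : act 0 n61853 = n61450 := d4_1 D61853 (iv D61450) (iv F271022)
theorem F275790 : act 1 n61853 = n60872 := d12_1 D61853 (iv D60872) (iv F271023)
theorem F275791 : act 3 n61853 = n61853 := d25_1 D61853 (iv D61853) F271024
theorem F275792 : act 4 n61853 = n60793 := d30_1 D61853 (iv D60793) (iv D59605) (iv F266058) D60787
theorem F275793 : act 6 n61853 = n61733 := d35_2 (iv F271025) D61853 (iv D61733) F270312 (iv F268632)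
theorem F275794 : act 7 n61853 = n61334 := d36_2 (iv F271026) D61853 (iv D61334)
theorem F275795 : act 8 n61853 = n60868 := d37_2 (iv F271027) D61853 (iv D60868)
theorem F275796 : act 9 n61853 = n60790 := d38_2 (iv F271028) D61853 (iv D60790)
def n61854 : Q := act 0 n60788
theorem D61854 : act 0 n60788 = n61854 := rfl
theorem F275797 : act 1 n61854 = n61451 := d0_2 D60788 D61854 (iv D61451) (iv D60279) (iv F266063)
theorem F275798 : act 2 n61854 = n61513 := d1_2 (iv F271029) D61854 (iv D61513)
theorem F275799 : act 3 n61854 = n60929 := d2_2 (iv F271030) D61854 (iv D60929)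
theorem F275800 : act 5 n61854 = n60794 := d4_2 (iv F271031) D61854 (iv D60794)
theorem F275801 : act 6 n61854 = n61291 := d5_2 (iv F271032) D61854 (iv D61291)
theorem F275802 : act 7 n61854 = n61586 := d6_2 (iv F271033) D61854 (iv D61586)
theorem F275803 : act 8 n61854 = n60798 := d7_2 (iv F271034) D61854 (iv D60798)
def n61855 : Q := act 4 n60788
theorem D61855 : act 4 n60788 = n61855 := rfl
theorem F275804 : act 1 n61855 = n60789 := d11_1 D61855 (iv D60789) D60788
theorem F275805 : act 2 n61855 = n61514 := d18_1 D61855 (iv D61514) (iv F271029)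
theorem F275806 : act 6 n61855 = n61292 := d31_2 (iv F271032) D61855 (iv D61292)
theorem F275807 : act 7 n61855 = n61587 := d32_2 (iv F271033) D61855 (iv D61587)
theorem F275808 : act 8 n61855 = n60799 := d33_2 (iv F271034) D61855 (iv D60799)
def n61856 : Q := act 3 n60789
theorem D61856 : act 3 n60789 = n61856 := rfl
theorem F275809 : act 0 n61856 = n61453 := d2_1 D61856 (iv D61453) (iv F271035)
theorem F275810 : act 2 n61856 = n61856 := d17_1 D61856 (iv D61856) F271036 F266071 (iv F271036)
theorem F275811 : act 4 n61856 = n60931 := d24_2 D60789 D61856 (iv D60931) (iv D59741) (iv F266064)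
theorem F275812 : act 6 n61856 = n61293 := d26_2 (iv F271037) D61856 (iv D61293)
theorem F275813 : act 7 n61856 = n61588 := d27_2 (iv F271038) D61856 (iv D61588)
def n61857 : Q := act 5 n60789
theorem D61857 : act 5 n60789 = n61857 := rfl
theorem F275814 : act 0 n61857 = n61454 := d4_1 D61857 (iv D61454) (iv F271035)
theorem F275815 : act 2 n61857 = n60790 := d19_1 D61857 (iv D60790) (iv F271036)
theorem F275816 : act 4 n61857 = n60796 := d30_1 D61857 (iv D60796) (iv D59607) (iv F266065) D60789
theorem F275817 : act 6 n61857 = n61730 := d35_2 (iv F271037) D61857 F275122 F270318 (iv F268640)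
theorem F275818 : act 7 n61857 = n61589 := d36_2 (iv F271038) D61857 (iv D61589)
theorem F275819 : act 8 n61857 = n60801 := d37_2 (iv F271039) D61857 (iv D60801)
def n61858 : Q := act 0 n60791
theorem D61858 : act 0 n60791 = n61858 := rfl
theorem F275820 : act 1 n61858 = n61761 := d0_2 D60791 D61858 (iv D61761) (iv D60685) (iv F266075)
theorem F275821 : act 3 n61858 = n60887 := d2_2 (iv F271047) D61858 (iv D60887)
theorem F275822 : act 6 n61858 = n60892 := d5_2 (iv F271048) D61858 (iv D60892)
theorem F275823 : act 7 n61858 = n61562 := d6_2 (iv F271049) D61858 (iv D61562)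
theorem F275824 : act 9 n61858 = n60794 := d8_2 (iv F271050) D61858 (iv D60794)
def n61859 : Q := act 4 n60791
theorem D61859 : act 4 n60791 = n61859 := rfl
theorem F275825 : act 1 n61859 = n60792 := d11_1 D61859 (iv D60792) D60791
theorem F275826 : act 3 n61859 = n61604 := d24_1 D61859 (iv D61604) (iv F270727) F270728 (iv F271047)
theorem F275827 : act 6 n61859 = n60893 := d31_2 (iv F271048) D61859 (iv D60893)
theorem F275828 : act 7 n61859 = n61563 := d32_2 (iv F271049) D61859 (iv D61563)
theorem F275829 : act 9 n61859 = n60795 := d34_2 (iv F271050) D61859 (iv D60795)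
def n61860 : Q := act 5 n60792
theorem D61860 : act 5 n60792 = n61860 := rfl
theorem F275830 : act 0 n61860 = n61760 := d4_1 D61860 F275199 (iv F271051)
theorem F275831 : act 2 n61860 = n60793 := d19_1 D61860 (iv D60793) (iv F271052)
theorem F275832 : act 3 n61860 = n61605 := d25_1 D61860 (iv D61605) (iv F271053)
theorem F275833 : act 7 n61860 = n61564 := d36_2 (iv F271055) D61860 (iv D61564)
theorem F275834 : act 9 n61860 = n60796 := d38_2 (iv F271056) D61860 (iv D60796)
def n61861 : Q := act 6 n60793
theorem D61861 : act 6 n60793 = n61861 := rfl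
theorem F275835 : act 0 n61861 = n60868 := d5_1 D61861 F271527 (iv F271057)
theorem F275836 : act 1 n61861 = n60812 := d13_1 D61861 F271163 (iv F271058)
theorem F275837 : act 3 n61861 = n60813 := d26_1 D61861 F271170 (iv F271059)
theorem F275838 : act 4 n61861 = n61733 := d31_1 D61861 (iv F275793) F275792
theorem F275839 : act 5 n61861 = n60865 := d35_1 D61861 F271514 (iv D59707) (iv F266082) D60793
theorem F275840 : act 8 n61861 = n61450 := d40_2 F275582 D61861 (iv F275580)
theorem F275841 : act 9 n61861 = n60797 := d41_2 (iv F271061) D61861 (iv D60797)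
theorem F275842 : act 7 n61086 = n61861 := d43_3 F275841 (iv F271083) (iv F272743)
def n61862 : Q := act 4 n60794
theorem D61862 : act 4 n60794 = n61862 := rfl
theorem F275843 : act 0 n61862 = n60795 := d3_1 D61862 (iv D60795) D60794
theorem F275844 : act 1 n61862 = n61763 := d11_1 D61862 (iv D61763) (iv F271062)
theorem F275845 : act 3 n61862 = n61607 := d24_1 D61862 (iv D61607) (iv F270895) F270896 (iv F271063)
theorem F275846 : act 6 n61862 = n60937 := d31_2 (iv F271064) D61862 (iv D60937)
theorem F275847 : act 7 n61862 = n61590 := d32_2 (iv F271065) D61862 (iv D61590)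
theorem F275848 : act 8 n61862 = n60802 := d33_2 (iv F271066) D61862 (iv D60802)
def n61863 : Q := act 5 n60795
theorem D61863 : act 5 n60795 = n61863 := rfl
theorem F275849 : act 1 n61863 = n60796 := d12_1 D61863 (iv D60796) (iv F271067)
theorem F275850 : act 2 n61863 = n61299 := d19_1 D61863 F275767 F275762
theorem F275851 : act 3 n61863 = n61608 := d25_1 D61863 (iv D61608) (iv F271068)
theorem F275852 : act 7 n61863 = n61591 := d36_2 (iv F271070) D61863 (iv D61591)
theorem F275853 : act 8 n61863 = n60803 := d37_2 (iv F271071) D61863 (iv D60803)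
def n61864 : Q := act 6 n60796
theorem D61864 : act 6 n60796 = n61864 := rfl
theorem F275854 : act 0 n61864 = n61542 := d5_1 D61864 F274606 (iv F271072)
theorem F275855 : act 2 n61864 = n60797 := d20_1 D61864 (iv D60797) (iv F271073)
theorem F275856 : act 3 n61864 = n61609 := d26_1 D61864 (iv D61609) (iv F271074)
theorem F275857 : act 4 n61864 = n61730 := d31_1 D61864 (iv F275817) F275816
theorem F275858 : act 5 n61864 = n60939 := d35_1 D61864 (iv D60939) (iv D59750) (iv F266092) D60796
theorem F275859 : act 8 n61864 = n60804 := d40_2 (iv F271076) D61864 (iv D60804)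
theorem F275860 : act 7 n61325 = n61864 := d42_3 F275859 (iv F271119) (iv F273784)
def n61865 : Q := act 4 n60798
theorem D61865 : act 4 n60798 = n61865 := rfl
theorem F275861 : act 0 n61865 = n60799 := d3_1 D61865 (iv D60799) D60798
theorem F275862 : act 1 n61865 = n61472 := d11_1 D61865 (iv D61472) (iv F271084)
theorem F275863 : act 2 n61865 = n61516 := d18_1 D61865 (iv D61516) (iv F271085)
theorem F275864 : act 6 n61865 = n61295 := d31_2 (iv F271088) D61865 (iv D61295)
theorem F275865 : act 9 n61865 = n61543 := d34_2 (iv F271089) D61865 (iv D61543)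
def n61866 : Q := act 3 n60799
theorem D61866 : act 3 n60799 = n61866 := rfl
theorem F275866 : act 1 n61866 = n60800 := d10_1 D61866 (iv D60800) (iv F271090)
theorem F275867 : act 2 n61866 = n61729 := d17_1 D61866 (iv D61729) F270303 (iv F269568) (iv F271091)
theorem F275868 : act 4 n61866 = n60806 := d24_2 D60799 D61866 (iv D60806) (iv D59617) (iv F266101)
theorem F275869 : act 6 n61866 = n61296 := d26_2 (iv F271092) D61866 (iv D61296)
theorem F275870 : act 9 n61866 = n61496 := d29_2 (iv F271093) D61866 F274421
theorem F275871 : act 5 n61614 = n61866 := d38_3 F275870 F274422 (iv F274836)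
def n61867 : Q := act 5 n60799
theorem D61867 : act 5 n60799 = n61867 := rfl
theorem F275872 : act 1 n61867 = n60801 := d12_1 D61867 (iv D60801) (iv F271090)
theorem F275873 : act 2 n61867 = n61296 := d19_1 D61867 F273669 (iv F271091)
theorem F275874 : act 3 n61867 = n61614 := d25_1 D61867 F275871 (iv D61866)
theorem F275875 : act 4 n61867 = n60803 := d30_1 D61867 (iv D60803) (iv D59613) (iv F266102) D60799
theorem F275876 : act 6 n61867 = n61729 := d35_2 (iv F271092) D61867 F275119 F270346 (iv F268657)
theorem F275877 : act 9 n61867 = n61544 := d38_2 (iv F271093) D61867 (iv D61544)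
def n61868 : Q := act 8 n60800
theorem D61868 : act 8 n60800 = n61868 := rfl
theorem F275878 : act 0 n61868 = n61390 := d7_1 D61868 (iv D61390) (iv F271094)
theorem F275879 : act 2 n61868 = n60811 := d22_1 D61868 (iv D60811) (iv F271095)
theorem F275880 : act 4 n61868 = n60807 := d33_1 D61868 (iv D60807) (iv F271096)
theorem F275881 : act 5 n61868 = n61305 := d37_1 D61868 F273705 F271099
theorem F275882 : act 6 n61868 = n61297 := d40_1 D61868 (iv D61297) (iv F271097)
theorem F275883 : act 7 n61868 = n61338 := d42_1 D61868 (iv F275671) F275668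
def n61869 : Q := act 5 n60802
theorem D61869 : act 5 n60802 = n61869 := rfl
theorem F275884 : act 0 n61869 = n60803 := d4_1 D61869 (iv D60803) (iv F271106)
theorem F275885 : act 1 n61869 = n61758 := d12_1 D61869 F275195 (iv F271107)
theorem F275886 : act 2 n61869 = n61298 := d19_1 D61869 F275775 F275770
theorem F275887 : act 3 n61869 = n60964 := d25_1 D61869 (iv D60964) (iv F271108)
def n61870 : Q := act 6 n60803
theorem D61870 : act 6 n60803 = n61870 := rfl
theorem F275888 : act 1 n61870 = n60804 := d13_1 D61870 (iv D60804) (iv F271110)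
theorem F275889 : act 2 n61870 = n60806 := d20_1 D61870 F271127 (iv F271111)
theorem F275890 : act 3 n61870 = n60965 := d26_1 D61870 (iv D60965) (iv F271112)
theorem F275891 : act 4 n61870 = n61729 := d31_1 D61870 (iv F275876) F275875
theorem F275892 : act 5 n61870 = n60970 := d35_1 D61870 F272082 F268949 (iv F266120) D60803
theorem F275893 : act 9 n61870 = n61473 := d41_2 F275613 D61870 (iv F275612)
theorem F275894 : act 7 n61714 = n61870 := d27_0 F275890 (iv F272064) D61714
def n61871 : Q := act 3 n60805
theorem D61871 : act 3 n60805 = n61871 := rfl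
theorem F275895 : act 0 n61871 = n60806 := d2_1 D61871 (iv D60806) (iv F271120)
theorem F275896 : act 1 n61871 = n61480 := d10_1 D61871 (iv D61480) (iv F271121)
theorem F275897 : act 5 n61871 = n60969 := d25_2 (iv F271123) D61871 (iv D60969)
theorem F275898 : act 6 n61871 = n61298 := d26_2 (iv F271124) D61871 (iv D61298)
def n61872 : Q := act 8 n60806
theorem D61872 : act 8 n60806 = n61872 := rfl
theorem F275899 : act 1 n61872 = n60807 := d15_1 D61872 (iv D60807) (iv F271125)
theorem F275900 : act 5 n61872 = n60971 := d37_1 D61872 (iv D60971) (iv F271126)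
theorem F275901 : act 6 n61872 = n61299 := d40_1 D61872 (iv D61299) (iv F271127)
theorem F275902 : act 7 n61872 = n61341 := d42_1 D61872 F275738 F275737
def n61873 : Q := act 9 n60807
theorem D61873 : act 9 n60807 = n61873 := rfl
theorem F275903 : act 0 n61873 = n61482 := d8_1 D61873 (iv D61482) (iv F271128)
theorem F275904 : act 2 n61873 = n60812 := d23_1 D61873 (iv D60812) (iv F271129)
theorem F275905 : act 5 n61873 = n60972 := d38_1 D61873 (iv D60972) (iv F271130)
theorem F275906 : act 6 n61873 = n61300 := d41_1 D61873 (iv D61300) (iv F271131)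
theorem F275907 : act 7 n61873 = n61099 := d43_1 D61873 F272793 (iv F271132)
def n61874 : Q := act 9 n60811
theorem D61874 : act 9 n60811 = n61874 := rfl
theorem F275908 : act 0 n61874 = n61391 := d8_1 D61874 (iv D61391) (iv F271153)
theorem F275909 : act 1 n61874 = n61733 := d16_1 D61874 F275132 (iv F271154)
theorem F275910 : act 3 n61874 = n61874 := d29_1 D61874 (iv D61874) F271155
theorem F275911 : act 4 n61874 = n60812 := d34_1 D61874 (iv D60812) (iv F271156)
theorem F275912 : act 5 n61874 = n61079 := d38_1 D61874 F272715 (iv F271157)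
theorem F275913 : act 6 n61874 = n60872 := d41_1 D61874 F271545 (iv F271158)
theorem F275914 : act 7 n61874 = n61096 := d43_1 D61874 F272785 (iv F271159)
theorem F275915 : act 8 n61874 = n60879 := d44_1 D61874 F271573 (iv D60331) (iv F266189) D60811
def n61875 : Q := act 0 n60814
theorem D61875 : act 0 n60814 = n61875 := rfl
theorem F275916 : act 1 n61875 = n61232 := d0_2 D60814 D61875 (iv D61232) (iv D60059) (iv F266223)
theorem F275917 : act 2 n61875 = n60832 := d1_2 (iv F271173) D61875 (iv D60832)
theorem F275918 : act 3 n61875 = n61226 := d2_2 (iv F271174) D61875 (iv D61226)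
theorem F275919 : act 4 n61875 = n61302 := d3_2 (iv F271175) D61875 (iv D61302)
theorem F275920 : act 5 n61875 = n61234 := d4_2 (iv F271176) D61875 (iv D61234)
theorem F275921 : act 6 n61875 = n61208 := d5_2 (iv F271177) D61875 (iv D61208)
theorem F275922 : act 7 n61875 = n60815 := d6_2 (iv F271178) D61875 (iv D60815)
theorem F275923 : act 8 n61875 = n61217 := d7_2 (iv F271179) D61875 (iv D61217)
theorem F275924 : act 9 n61875 = n60822 := d8_2 (iv F271180) D61875 (iv D60822)
def n61876 : Q := act 1 n60816
theorem D61876 : act 1 n60816 = n61876 := rfl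
theorem F275925 : act 2 n61876 = n61256 := d9_2 D60816 D61876 (iv D61256) (iv D60084) (iv F266239)
theorem F275926 : act 3 n61876 = n60819 := d10_2 (iv F271190) D61876 (iv D60819)
theorem F275927 : act 5 n61876 = n61639 := d12_2 (iv F271191) D61876 (iv D61639)
theorem F275928 : act 6 n61876 = n60820 := d13_2 (iv F271192) D61876 (iv D60820)
theorem F275929 : act 7 n61876 = n60992 := d14_2 (iv F271193) D61876 (iv D60992)
theorem F275930 : act 8 n61876 = n61648 := d15_2 (iv F271194) D61876 (iv D61648)
theorem F275931 : act 9 n61876 = n61151 := d16_2 (iv F271195) D61876 (iv D61151)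
def n61877 : Q := act 1 n60817
theorem D61877 : act 1 n60817 = n61877 := rfl
theorem F275932 : act 2 n61877 = n60839 := d9_2 D60817 D61877 (iv D60839) (iv D59657) (iv F266246)
theorem F275933 : act 3 n61877 = n61639 := d10_2 (iv F271197) D61877 (iv D61639)
theorem F275934 : act 5 n61877 = n60819 := d12_2 (iv F271198) D61877 (iv D60819)
theorem F275935 : act 6 n61877 = n61153 := d13_2 (iv F271199) D61877 (iv D61153)
theorem F275936 : act 7 n61877 = n60995 := d14_2 (iv F271200) D61877 (iv D60995)
theorem F275937 : act 8 n61877 = n60977 := d15_2 (iv F271201) D61877 (iv D60977)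
theorem F275938 : act 9 n61877 = n61206 := d16_2 (iv F271202) D61877 (iv D61206)
def n61878 : Q := act 4 n60817
theorem D61878 : act 4 n60817 = n61878 := rfl
theorem F275939 : act 0 n61878 = n61002 := d3_1 D61878 (iv D61002) (iv F271196)
theorem F275940 : act 2 n61878 = n60818 := d18_1 D61878 (iv D60818) D60817
theorem F275941 : act 5 n61878 = n61082 := d30_2 (iv F271198) D61878 (iv D61082) F267695 (iv F266253)
theorem F275942 : act 6 n61878 = n61154 := d31_2 (iv F271199) D61878 (iv D61154)
theorem F275943 : act 7 n61878 = n60996 := d32_2 (iv F271200) D61878 (iv D60996)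
theorem F275944 : act 8 n61878 = n60978 := d33_2 (iv F271201) D61878 (iv D60978)
theorem F275945 : act 9 n61878 = n61207 := d34_2 (iv F271202) D61878 (iv D61207)
def n61879 : Q := act 0 n60819
theorem D61879 : act 0 n60819 = n61879 := rfl
theorem F275946 : act 1 n61879 = n61233 := d0_2 D60819 D61879 (iv D61233) (iv D60061) (iv F266252)
theorem F275947 : act 2 n61879 = n60841 := d1_2 (iv F271211) D61879 (iv D60841)
theorem F275948 : act 4 n61879 = n61083 := d3_2 (iv F271212) D61879 (iv D61083)
theorem F275949 : act 6 n61879 = n60822 := d5_2 (iv F271213) D61879 (iv D60822)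
theorem F275950 : act 7 n61879 = n60997 := d6_2 (iv F271214) D61879 (iv D60997)
theorem F275951 : act 8 n61879 = n60998 := d7_2 (iv F271215) D61879 (iv D60998)
theorem F275952 : act 9 n61879 = n61208 := d8_2 (iv F271216) D61879 (iv D61208)
def n61880 : Q := act 0 n60820
theorem D61880 : act 0 n60820 = n61880 := rfl
theorem F275953 : act 1 n61880 = n61234 := d0_2 D60820 D61880 (iv D61234) (iv D60062) (iv F266258)
theorem F275954 : act 2 n61880 = n61259 := d1_2 (iv F271217) D61880 (iv D61259)
theorem F275955 : act 3 n61880 = n60822 := d2_2 (iv F271218) D61880 (iv D60822)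
theorem F275956 : act 5 n61880 = n61232 := d4_2 (iv F271219) D61880 (iv D61232)
theorem F275957 : act 7 n61880 = n60825 := d6_2 (iv F271220) D61880 (iv D60825)
theorem F275958 : act 8 n61880 = n61686 := d7_2 (iv F271221) D61880 (iv D61686)
theorem F275959 : act 9 n61880 = n61226 := d8_2 (iv F271222) D61880 (iv D61226)
def n61881 : Q := act 4 n60820
theorem D61881 : act 4 n60820 = n61881 := rfl
theorem F275960 : act 1 n61881 = n60821 := d11_1 D61881 (iv D60821) D60820
theorem F275961 : act 2 n61881 = n61260 := d18_1 D61881 (iv D61260) (iv F271217)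
theorem F275962 : act 3 n61881 = n61635 := d24_1 D61881 (iv D61635) F269978 (iv F266272) (iv F271218)
theorem F275963 : act 5 n61881 = n61695 := d30_2 (iv F271219) D61881 (iv D61695) F270181 (iv F268353)
theorem F275964 : act 7 n61881 = n60826 := d32_2 (iv F271220) D61881 (iv D60826)
theorem F275965 : act 8 n61881 = n61687 := d33_2 (iv F271221) D61881 (iv D61687)
theorem F275966 : act 9 n61881 = n61227 := d34_2 (iv F271222) D61881 (iv D61227)
def n61882 : Q := act 0 n60823
theorem D61882 : act 0 n60823 = n61882 := rfl
theorem F275967 : act 1 n61882 = n61236 := d0_2 D60823 D61882 (iv D61236) (iv D60065) (iv F266276)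
theorem F275968 : act 2 n61882 = n61250 := d1_2 (iv F271236) D61882 (iv D61250)
theorem F275969 : act 3 n61882 = n61222 := d2_2 (iv F271237) D61882 (iv D61222)
theorem F275970 : act 5 n61882 = n61221 := d4_2 (iv F271238) D61882 (iv D61221)
theorem F275971 : act 6 n61882 = n61212 := d5_2 (iv F271239) D61882 (iv D61212)
theorem F275972 : act 7 n61882 = n61686 := d6_2 (iv F271240) D61882 (iv D61686)
theorem F275973 : act 8 n61882 = n60825 := d7_2 (iv F271241) D61882 (iv D60825)
theorem F275974 : act 9 n61882 = n61684 := d8_2 (iv F271242) D61882 (iv D61684)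
def n61883 : Q := act 4 n60823
theorem D61883 : act 4 n60823 = n61883 := rfl
theorem F275975 : act 1 n61883 = n60824 := d11_1 D61883 (iv D60824) D60823
theorem F275976 : act 2 n61883 = n61251 := d18_1 D61883 (iv D61251) (iv F271236)
theorem F275977 : act 5 n61883 = n61701 := d30_2 (iv F271238) D61883 (iv D61701) F270204 (iv F268264)
theorem F275978 : act 6 n61883 = n61213 := d31_2 (iv F271239) D61883 (iv D61213)
theorem F275979 : act 7 n61883 = n61687 := d32_2 (iv F271240) D61883 (iv D61687)
theorem F275980 : act 8 n61883 = n60826 := d33_2 (iv F271241) D61883 (iv D60826)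
theorem F275981 : act 9 n61883 = n61685 := d34_2 (iv F271242) D61883 (iv D61685)
def n61884 : Q := act 3 n60824
theorem D61884 : act 3 n60824 = n61884 := rfl
theorem F275982 : act 0 n61884 = n61238 := d2_1 D61884 (iv D61238) (iv F271243)
theorem F275983 : act 2 n61884 = n61884 := d17_1 D61884 (iv D61884) F271244 F266285 (iv F271244)
theorem F275984 : act 4 n61884 = n61224 := d24_2 D60824 D61884 (iv D61224) (iv D60043) (iv F266277)
theorem F275985 : act 5 n61884 = n61702 := d25_2 (iv F271245) D61884 (iv D61702)
theorem F275986 : act 6 n61884 = n61214 := d26_2 (iv F271246) D61884 (iv D61214)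
theorem F275987 : act 7 n61884 = n61688 := d27_2 (iv F271247) D61884 (iv D61688)
theorem F275988 : act 8 n61884 = n61625 := d28_2 (iv F271248) D61884 (iv D61625) F269959 (iv F266298)
theorem F275989 : act 9 n61884 = n61407 := d29_2 (iv F271249) D61884 F274120
def n61885 : Q := act 4 n60825
theorem D61885 : act 4 n60825 = n61885 := rfl
theorem F275990 : act 0 n61885 = n60826 := d3_1 D61885 (iv D60826) D60825
theorem F275991 : act 1 n61885 = n61239 := d11_1 D61885 (iv D61239) (iv F271250)
theorem F275992 : act 2 n61885 = n61262 := d18_1 D61885 (iv D61262) (iv F271251)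
theorem F275993 : act 3 n61885 = n61636 := d24_1 D61885 (iv D61636) F269982 (iv F266319) (iv F271252)
theorem F275994 : act 5 n61885 = n61703 := d30_2 (iv F271253) D61885 (iv D61703) F270218 (iv F268359)
theorem F275995 : act 6 n61885 = n61220 := d31_2 (iv F271254) D61885 (iv D61220)
theorem F275996 : act 9 n61885 = n61228 := d34_2 (iv F271255) D61885 (iv D61228)
def n61886 : Q := act 4 n60827
theorem D61886 : act 4 n60827 = n61886 := rfl
theorem F275997 : act 0 n61886 = n60828 := d3_1 D61886 (iv D60828) D60827
theorem F275998 : act 1 n61886 = n61228 := d11_1 D61886 (iv D61228) (iv F271262)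
theorem F275999 : act 2 n61886 = n60847 := d18_1 D61886 (iv D60847) (iv F271263)
theorem F276000 : act 3 n61886 = n61512 := d24_1 D61886 (iv D61512) F269546 (iv F268359) (iv F271264)
theorem F276001 : act 5 n61886 = n60968 := d30_2 (iv F271265) D61886 (iv D60968) F267093 (iv F266319)
theorem F276002 : act 6 n61886 = n61205 := d31_2 (iv F271266) D61886 (iv D61205)
theorem F276003 : act 7 n61886 = n61680 := d32_2 (iv F271267) D61886 (iv D61680)
theorem F276004 : act 8 n61886 = n61678 := d33_2 (iv F271268) D61886 (iv D61678)
theorem F276005 : act 9 n61886 = n61239 := d34_2 (iv F271269) D61886 (iv D61239)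
def n61887 : Q := act 0 n60829
theorem D61887 : act 0 n60829 = n61887 := rfl
theorem F276006 : act 1 n61887 = n60880 := d0_2 D60829 D61887 (iv D60880) (iv D59694) (iv F266321)
theorem F276007 : act 2 n61887 = n61236 := d1_2 (iv F271278) D61887 (iv D61236)
theorem F276008 : act 3 n61887 = n61626 := d2_2 (iv F271279) D61887 (iv D61626)
theorem F276009 : act 5 n61887 = n60831 := d4_2 (iv F271280) D61887 (iv D60831)
theorem F276010 : act 6 n61887 = n61700 := d5_2 (iv F271281) D61887 (iv D61700)
theorem F276011 : act 7 n61887 = n61670 := d6_2 (iv F271282) D61887 (iv D61670)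
theorem F276012 : act 8 n61887 = n60837 := d7_2 (iv F271283) D61887 (iv D60837)
theorem F276013 : act 9 n61887 = n61503 := d8_2 (iv F271284) D61887 (iv D61503)
def n61888 : Q := act 4 n60829
theorem D61888 : act 4 n60829 = n61888 := rfl
theorem F276014 : act 1 n61888 = n60830 := d11_1 D61888 (iv D60830) D60829
theorem F276015 : act 2 n61888 = n61237 := d18_1 D61888 (iv D61237) (iv F271278)
theorem F276016 : act 5 n61888 = n61344 := d30_2 (iv F271280) D61888 (iv D61344) F268824 (iv F266338)
theorem F276017 : act 6 n61888 = n61701 := d31_2 (iv F271281) D61888 (iv D61701)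
theorem F276018 : act 7 n61888 = n61671 := d32_2 (iv F271282) D61888 (iv D61671)
theorem F276019 : act 8 n61888 = n60838 := d33_2 (iv F271283) D61888 (iv D60838)
theorem F276020 : act 9 n61888 = n61504 := d34_2 (iv F271284) D61888 (iv D61504)
def n61889 : Q := act 3 n60830
theorem D61889 : act 3 n60830 = n61889 := rfl
theorem F276021 : act 0 n61889 = n60882 := d2_1 D61889 (iv D60882) (iv F271285)
theorem F276022 : act 2 n61889 = n61889 := d17_1 D61889 (iv D61889) F271286 F266330 (iv F271286)
theorem F276023 : act 4 n61889 = n61628 := d24_2 D60830 D61889 (iv D61628) (iv D60491) (iv F266322)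
theorem F276024 : act 5 n61889 = n61345 := d25_2 (iv F271287) D61889 (iv D61345)
theorem F276025 : act 6 n61889 = n61702 := d26_2 (iv F271288) D61889 (iv D61702)
theorem F276026 : act 7 n61889 = n61672 := d27_2 (iv F271289) D61889 (iv D61672)
theorem F276027 : act 8 n61889 = n61577 := d28_2 (iv F271290) D61889 (iv D61577) F269800 (iv F266383)
theorem F276028 : act 9 n61889 = n61505 := d29_2 (iv F271291) D61889 (iv D61505)
def n61890 : Q := act 0 n60833
theorem D61890 : act 0 n60833 = n61890 := rfl
theorem F276029 : act 1 n61890 = n60908 := d0_2 D60833 D61890 (iv D60908) (iv D59720) (iv F266347)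
theorem F276030 : act 2 n61890 = n61291 := d1_2 (iv F271305) D61890 (iv D61291)
theorem F276031 : act 3 n61890 = n61581 := d2_2 (iv F271306) D61890 (iv D61581)
theorem F276032 : act 5 n61890 = n61288 := d4_2 (iv F271307) D61890 (iv D61288)
theorem F276033 : act 6 n61890 = n61513 := d5_2 (iv F271308) D61890 (iv D61513)
theorem F276034 : act 7 n61890 = n61737 := d6_2 (iv F271309) D61890 (iv D61737)
theorem F276035 : act 8 n61890 = n60835 := d7_2 (iv F271310) D61890 (iv D60835)
theorem F276036 : act 9 n61890 = n61555 := d8_2 (iv F271311) D61890 (iv D61555)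
def n61891 : Q := act 4 n60833
theorem D61891 : act 4 n60833 = n61891 := rfl
theorem F276037 : act 1 n61891 = n60834 := d11_1 D61891 (iv D60834) D60833
theorem F276038 : act 2 n61891 = n61292 := d18_1 D61891 (iv D61292) (iv F271305)
theorem F276039 : act 5 n61891 = n61726 := d30_2 (iv F271307) D61891 (iv D61726) F270293 (iv F268614)
theorem F276040 : act 6 n61891 = n61514 := d31_2 (iv F271308) D61891 (iv D61514)
theorem F276041 : act 7 n61891 = n61738 := d32_2 (iv F271309) D61891 (iv D61738)
theorem F276042 : act 8 n61891 = n60836 := d33_2 (iv F271310) D61891 (iv D60836)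
theorem F276043 : act 9 n61891 = n61556 := d34_2 (iv F271311) D61891 (iv D61556)
def n61892 : Q := act 3 n60834
theorem D61892 : act 3 n60834 = n61892 := rfl
theorem F276044 : act 0 n61892 = n60910 := d2_1 D61892 (iv D60910) (iv F271312)
theorem F276045 : act 2 n61892 = n61892 := d17_1 D61892 (iv D61892) F271313 F266356 (iv F271313)
theorem F276046 : act 4 n61892 = n61583 := d24_2 D60834 D61892 (iv D61583) (iv D60439) (iv F266348)
theorem F276047 : act 5 n61892 = n61727 := d25_2 (iv F271314) D61892 (iv D61727)
theorem F276048 : act 6 n61892 = n61515 := d26_2 (iv F271315) D61892 (iv D61515)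
theorem F276049 : act 7 n61892 = n61739 := d27_2 (iv F271316) D61892 (iv D61739)
theorem F276050 : act 8 n61892 = n61736 := d28_2 (iv F271317) D61892 (iv D61736) F270319 (iv F266370)
theorem F276051 : act 9 n61892 = n61557 := d29_2 (iv F271318) D61892 (iv D61557)
def n61893 : Q := act 4 n60835
theorem D61893 : act 4 n60835 = n61893 := rfl
theorem F276052 : act 0 n61893 = n60836 := d3_1 D61893 (iv D60836) D60835
theorem F276053 : act 1 n61893 = n60913 := d11_1 D61893 (iv D60913) (iv F271319)
theorem F276054 : act 2 n61893 = n61295 := d18_1 D61893 (iv D61295) (iv F271320)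
theorem F276055 : act 3 n61893 = n61744 := d24_1 D61893 (iv D61744) F270342 (iv F266389) (iv F271321)
theorem F276056 : act 5 n61893 = n61728 := d30_2 (iv F271322) D61893 (iv D61728) F270300 (iv F268620)
theorem F276057 : act 6 n61893 = n61516 := d31_2 (iv F271323) D61893 (iv D61516)
theorem F276058 : act 7 n61893 = n61764 := d32_2 (iv F271324) D61893 (iv D61764)
theorem F276059 : act 9 n61893 = n60842 := d34_2 (iv F271325) D61893 (iv D60842)
def n61894 : Q := act 4 n60837
theorem D61894 : act 4 n60837 = n61894 := rfl
theorem F276060 : act 0 n61894 = n60838 := d3_1 D61894 (iv D60838) D60837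
theorem F276061 : act 1 n61894 = n60919 := d11_1 D61894 (iv D60919) (iv F271333)
theorem F276062 : act 2 n61894 = n61239 := d18_1 D61894 (iv D61239) (iv F271334)
theorem F276063 : act 3 n61894 = n61579 := d24_1 D61894 (iv D61579) F269808 (iv F268620) (iv F271335)
theorem F276064 : act 5 n61894 = n61376 := d30_2 (iv F271336) D61894 (iv D61376) F268959 (iv F266389)
theorem F276065 : act 6 n61894 = n61703 := d31_2 (iv F271337) D61894 (iv D61703)
theorem F276066 : act 7 n61894 = n61682 := d32_2 (iv F271338) D61894 (iv D61682)
theorem F276067 : act 9 n61894 = n60847 := d34_2 (iv F271339) D61894 (iv D60847)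
def n61895 : Q := act 0 n60839
theorem D61895 : act 0 n60839 = n61895 := rfl
theorem F276068 : act 1 n61895 = n60929 := d0_2 D60839 D61895 (iv D60929) (iv D59740) (iv F266392)
theorem F276069 : act 3 n61895 = n61451 := d2_2 (iv F271347) D61895 (iv D61451)
theorem F276070 : act 5 n61895 = n60841 := d4_2 (iv F271348) D61895 (iv D60841)
theorem F276071 : act 6 n61895 = n61170 := d5_2 (iv F271349) D61895 (iv D61170)
theorem F276072 : act 7 n61895 = n61522 := d6_2 (iv F271350) D61895 (iv D61522)
theorem F276073 : act 8 n61895 = n61184 := d7_2 (iv F271351) D61895 (iv D61184)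
def n61896 : Q := act 4 n60839
theorem D61896 : act 4 n60839 = n61896 := rfl
theorem F276074 : act 1 n61896 = n60840 := d11_1 D61896 (iv D60840) D60839
theorem F276075 : act 5 n61896 = n61665 := d30_2 (iv F271348) D61896 (iv D61665) F270074 (iv F266405)
theorem F276076 : act 6 n61896 = n61171 := d31_2 (iv F271349) D61896 (iv D61171)
theorem F276077 : act 7 n61896 = n61523 := d32_2 (iv F271350) D61896 (iv D61523)
theorem F276078 : act 8 n61896 = n61185 := d33_2 (iv F271351) D61896 (iv D61185)
def n61897 : Q := act 3 n60840
theorem D61897 : act 3 n60840 = n61897 := rfl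
theorem F276079 : act 0 n61897 = n60931 := d2_1 D61897 (iv D60931) (iv F271352)
theorem F276080 : act 2 n61897 = n61897 := d17_1 D61897 (iv D61897) F271353 F266399 (iv F271353)
theorem F276081 : act 4 n61897 = n61453 := d24_2 D60840 D61897 (iv D61453) (iv D60280) (iv F266393)
theorem F276082 : act 5 n61897 = n61666 := d25_2 (iv F271354) D61897 (iv D61666)
theorem F276083 : act 6 n61897 = n61172 := d26_2 (iv F271355) D61897 (iv D61172)
theorem F276084 : act 7 n61897 = n61524 := d27_2 (iv F271356) D61897 (iv D61524)
def n61898 : Q := act 0 n60843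
theorem D61898 : act 0 n60843 = n61898 := rfl
theorem F276085 : act 1 n61898 = n60966 := d0_2 D60843 D61898 (iv D60966) (iv D59783) (iv F266429)
theorem F276086 : act 2 n61898 = n61015 := d1_2 (iv F271372) D61898 (iv D61015)
theorem F276087 : act 3 n61898 = n61393 := d2_2 (iv F271373) D61898 (iv D61393)
theorem F276088 : act 5 n61898 = n61201 := d4_2 (iv F271374) D61898 (iv D61201)
theorem F276089 : act 6 n61898 = n61145 := d5_2 (iv F271375) D61898 (iv D61145)
theorem F276090 : act 7 n61898 = n60845 := d6_2 (iv F271376) D61898 (iv D60845)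
theorem F276091 : act 8 n61898 = n61013 := d7_2 (iv F271377) D61898 (iv D61013)
theorem F276092 : act 9 n61898 = n61694 := d8_2 (iv F271378) D61898 (iv D61694)
def n61899 : Q := act 4 n60843
theorem D61899 : act 4 n60843 = n61899 := rfl
theorem F276093 : act 1 n61899 = n60844 := d11_1 D61899 (iv D60844) D60843
theorem F276094 : act 2 n61899 = n61016 := d18_1 D61899 (iv D61016) (iv F271372)
theorem F276095 : act 3 n61899 = n60935 := d24_1 D61899 (iv D60935) F266874 (iv F269033) (iv F271373)
theorem F276096 : act 5 n61899 = n61227 := d30_2 (iv F271374) D61899 (iv D61227) F268320 (iv F268148)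
theorem F276097 : act 6 n61899 = n61146 := d31_2 (iv F271375) D61899 (iv D61146)
theorem F276098 : act 7 n61899 = n60846 := d32_2 (iv F271376) D61899 (iv D60846)
theorem F276099 : act 8 n61899 = n61014 := d33_2 (iv F271377) D61899 (iv D61014)
theorem F276100 : act 9 n61899 = n61695 := d34_2 (iv F271378) D61899 (iv D61695)
def n61900 : Q := act 4 n60845
theorem D61900 : act 4 n60845 = n61900 := rfl
theorem F276101 : act 0 n61900 = n60846 := d3_1 D61900 (iv D60846) D60845
theorem F276102 : act 1 n61900 = n60968 := d11_1 D61900 (iv D60968) (iv F271387)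
theorem F276103 : act 2 n61900 = n61205 := d18_1 D61900 (iv D61205) (iv F271388)
theorem F276104 : act 3 n61900 = n60955 := d24_1 D61900 (iv D60955) F267005 D60274 (iv F271389)
theorem F276105 : act 5 n61900 = n61228 := d30_2 (iv F271390) D61900 (iv D61228) F268328 (iv F268166)
theorem F276106 : act 6 n61900 = n60847 := d31_2 (iv F271391) D61900 (iv D60847)
theorem F276107 : act 8 n61900 = n61676 := d33_2 (iv F271392) D61900 (iv D61676)
theorem F276108 : act 9 n61900 = n61703 := d34_2 (iv F271393) D61900 (iv D61703)
def n61901 : Q := act 1 n60848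
theorem D61901 : act 1 n60848 = n61901 := rfl
theorem F276109 : act 2 n61901 = n60855 := d9_2 D60848 D61901 (iv D60855) (iv D59673) (iv F266468)
theorem F276110 : act 3 n61901 = n61303 := d10_2 (iv F271408) D61901 (iv D61303)
theorem F276111 : act 5 n61901 = n61559 := d12_2 (iv F271409) D61901 (iv D61559)
theorem F276112 : act 6 n61901 = n61328 := d13_2 (iv F271410) D61901 (iv D61328)
theorem F276113 : act 7 n61901 = n60866 := d14_2 (iv F271411) D61901 (iv D60866)
theorem F276114 : act 8 n61901 = n61332 := d15_2 (iv F271412) D61901 (iv D61332)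
theorem F276115 : act 9 n61901 = n61312 := d16_2 (iv F271413) D61901 (iv D61312)
def n61902 : Q := act 4 n60848
theorem D61902 : act 4 n60848 = n61902 := rfl
theorem F276116 : act 0 n61902 = n61085 := d3_1 D61902 (iv D61085) (iv F271407)
theorem F276117 : act 2 n61902 = n60849 := d18_1 D61902 (iv D60849) D60848
theorem F276118 : act 6 n61902 = n61329 := d31_2 (iv F271410) D61902 (iv D61329)
theorem F276119 : act 7 n61902 = n60867 := d32_2 (iv F271411) D61902 (iv D60867)
theorem F276120 : act 8 n61902 = n61333 := d33_2 (iv F271412) D61902 (iv D61333)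
theorem F276121 : act 9 n61902 = n61313 := d34_2 (iv F271413) D61902 (iv D61313)
def n61903 : Q := act 5 n60849
theorem D61903 : act 5 n60849 = n61903 := rfl
theorem F276122 : act 0 n61903 = n61086 := d4_1 D61903 (iv D61086) (iv F271414)
theorem F276123 : act 1 n61903 = n60857 := d12_1 D61903 (iv D60857) (iv F271415)
theorem F276124 : act 3 n61903 = n60850 := d25_1 D61903 (iv D60850) (iv F271416)
theorem F276125 : act 4 n61903 = n61561 := d30_1 D61903 (iv D61561) (iv D60417) (iv F266469) D60849
theorem F276126 : act 7 n61903 = n60868 := d36_2 (iv F271418) D61903 (iv D60868)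
theorem F276127 : act 8 n61903 = n61334 := d37_2 (iv F271419) D61903 (iv D61334)
theorem F276128 : act 9 n61903 = n61314 := d38_2 (iv F271420) D61903 (iv D61314)
def n61904 : Q := act 1 n60851
theorem D61904 : act 1 n60851 = n61904 := rfl
theorem F276129 : act 2 n61904 = n61332 := d9_2 D60851 D61904 (iv D61332) (iv D60163) (iv F266481)
theorem F276130 : act 3 n61904 = n60890 := d10_2 (iv F271428) D61904 (iv D60890)
theorem F276131 : act 5 n61904 = n61464 := d12_2 (iv F271429) D61904 F274309
theorem F276132 : act 6 n61904 = n61319 := d13_2 (iv F271430) D61904 (iv D61319)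
theorem F276133 : act 7 n61904 = n60870 := d14_2 (iv F271431) D61904 (iv D60870)
theorem F276134 : act 8 n61904 = n60855 := d15_2 (iv F271432) D61904 (iv D60855)
theorem F276135 : act 9 n61904 = n61467 := d16_2 (iv F271433) D61904 F274322
def n61905 : Q := act 4 n60851
theorem D61905 : act 4 n60851 = n61905 := rfl
theorem F276136 : act 0 n61905 = n61570 := d3_1 D61905 (iv D61570) (iv F271427)
theorem F276137 : act 2 n61905 = n60852 := d18_1 D61905 (iv D60852) D60851
theorem F276138 : act 6 n61905 = n61320 := d31_2 (iv F271430) D61905 (iv D61320)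
theorem F276139 : act 7 n61905 = n60871 := d32_2 (iv F271431) D61905 (iv D60871)
theorem F276140 : act 8 n61905 = n60856 := d33_2 (iv F271432) D61905 (iv D60856)
theorem F276141 : act 9 n61905 = n61468 := d34_2 (iv F271433) D61905 (iv D61468)
def n61906 : Q := act 5 n60852
theorem D61906 : act 5 n60852 = n61906 := rfl
theorem F276142 : act 0 n61906 = n61489 := d4_1 D61906 F274396 (iv F271434)
theorem F276143 : act 1 n61906 = n61334 := d12_1 D61906 (iv D61334) (iv F271435)
theorem F276144 : act 3 n61906 = n61906 := d25_1 D61906 (iv D61906) F271436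
theorem F276145 : act 4 n61906 = n61199 := d30_1 D61906 (iv D61199) F268132 (iv F266482) D60852
theorem F276146 : act 7 n61906 = n60872 := d36_2 (iv F271438) D61906 (iv D60872)
theorem F276147 : act 8 n61906 = n60857 := d37_2 (iv F271439) D61906 (iv D60857)
theorem F276148 : act 9 n61906 = n61200 := d38_2 (iv F271440) D61906 F273213
def n61907 : Q := act 1 n60853
theorem D61907 : act 1 n60853 = n61907 := rfl
theorem F276149 : act 2 n61907 = n61559 := d9_2 D60853 D61907 (iv D61559) (iv D60416) (iv F266488)
theorem F276150 : act 3 n61907 = n60861 := d10_2 (iv F271442) D61907 (iv D60861)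
theorem F276151 : act 5 n61907 = n60855 := d12_2 (iv F271443) D61907 (iv D60855)
theorem F276152 : act 6 n61907 = n61565 := d13_2 (iv F271444) D61907 (iv D61565)
theorem F276153 : act 7 n61907 = n60873 := d14_2 (iv F271445) D61907 (iv D60873)
theorem F276154 : act 8 n61907 = n61464 := d15_2 (iv F271446) D61907 F274309
theorem F276155 : act 9 n61907 = n61528 := d16_2 (iv F271447) D61907 (iv D61528)
def n61908 : Q := act 4 n60853
theorem D61908 : act 4 n60853 = n61908 := rfl
theorem F276156 : act 0 n61908 = n61599 := d3_1 D61908 (iv D61599) (iv F271441)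
theorem F276157 : act 2 n61908 = n60854 := d18_1 D61908 (iv D60854) D60853
theorem F276158 : act 6 n61908 = n61566 := d31_2 (iv F271444) D61908 (iv D61566)
theorem F276159 : act 7 n61908 = n60874 := d32_2 (iv F271445) D61908 (iv D60874)
theorem F276160 : act 8 n61908 = n61176 := d33_2 (iv F271446) D61908 F273133
theorem F276161 : act 9 n61908 = n61529 := d34_2 (iv F271447) D61908 (iv D61529)
def n61909 : Q := act 5 n60854
theorem D61909 : act 5 n60854 = n61909 := rfl
theorem F276162 : act 0 n61909 = n61387 := d4_1 D61909 F274032 (iv F271448)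
theorem F276163 : act 1 n61909 = n61561 := d12_1 D61909 (iv D61561) (iv F271449)
theorem F276164 : act 3 n61909 = n61909 := d25_1 D61909 (iv D61909) F271450
theorem F276165 : act 4 n61909 = n60857 := d30_1 D61909 (iv D60857) (iv D59674) (iv F266489) D60854
theorem F276166 : act 7 n61909 = n60875 := d36_2 (iv F271452) D61909 (iv D60875)
theorem F276167 : act 8 n61909 = n61199 := d37_2 (iv F271453) D61909 (iv D61199)
theorem F276168 : act 9 n61909 = n61266 := d38_2 (iv F271454) D61909 F273533
def n61910 : Q := act 0 n60855
theorem D61910 : act 0 n60855 = n61910 := rfl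
theorem F276169 : act 1 n61910 = n61603 := d0_2 D60855 D61910 (iv D61603) (iv D60463) (iv F266494)
theorem F276170 : act 3 n61910 = n60863 := d2_2 (iv F271455) D61910 (iv D60863)
theorem F276171 : act 6 n61910 = n61742 := d5_2 (iv F271456) D61910 (iv D61742)
theorem F276172 : act 7 n61910 = n60876 := d6_2 (iv F271457) D61910 (iv D60876)
theorem F276173 : act 9 n61910 = n61530 := d8_2 (iv F271458) D61910 (iv D61530)
def n61911 : Q := act 4 n60855
theorem D61911 : act 4 n60855 = n61911 := rfl
theorem F276174 : act 1 n61911 = n60856 := d11_1 D61911 (iv D60856) D60855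
theorem F276175 : act 3 n61911 = n61762 := d24_1 D61911 (iv D61762) (iv F270628) F270629 (iv F271455)
theorem F276176 : act 6 n61911 = n61743 := d31_2 (iv F271456) D61911 (iv D61743)
theorem F276177 : act 7 n61911 = n60877 := d32_2 (iv F271457) D61911 (iv D60877)
theorem F276178 : act 9 n61911 = n61531 := d34_2 (iv F271458) D61911 (iv D61531)
def n61912 : Q := act 5 n60856
theorem D61912 : act 5 n60856 = n61912 := rfl
theorem F276179 : act 0 n61912 = n61605 := d4_1 D61912 (iv D61605) (iv F271459)
theorem F276180 : act 2 n61912 = n60857 := d19_1 D61912 (iv D60857) (iv F271460)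
theorem F276181 : act 3 n61912 = n61760 := d25_1 D61912 F275199 (iv F271461)
theorem F276182 : act 7 n61912 = n60878 := d36_2 (iv F271463) D61912 (iv D60878)
theorem F276183 : act 9 n61912 = n61532 := d38_2 (iv F271464) D61912 (iv D61532)
def n61913 : Q := act 6 n60857
theorem D61913 : act 6 n60857 = n61913 := rfl
theorem F276184 : act 0 n61913 = n61606 := d5_1 D61913 (iv D61606) (iv F271465)
theorem F276185 : act 3 n61913 = n60858 := d26_1 D61913 (iv D60858) (iv F271466)
theorem F276186 : act 5 n61913 = n60869 := d35_1 D61913 F271530 F269722 (iv F266501) D60857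
theorem F276187 : act 9 n61913 = n61533 := d41_2 (iv F271468) D61913 (iv D61533)
def n61914 : Q := act 1 n60859
theorem D61914 : act 1 n60859 = n61914 := rfl
theorem F276188 : act 2 n61914 = n61307 := d9_2 D60859 D61914 (iv D61307) (iv D60141) (iv F266511)
theorem F276189 : act 3 n61914 = n61565 := d10_2 (iv F271476) D61914 (iv D61565)
theorem F276190 : act 5 n61914 = n61358 := d12_2 (iv F271477) D61914 (iv D61358)
theorem F276191 : act 6 n61914 = n60861 := d13_2 (iv F271478) D61914 (iv D60861)
theorem F276192 : act 7 n61914 = n61350 := d14_2 (iv F271479) D61914 (iv D61350)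
theorem F276193 : act 8 n61914 = n60895 := d15_2 (iv F271480) D61914 (iv D60895)
theorem F276194 : act 9 n61914 = n61047 := d16_2 (iv F271481) D61914 (iv D61047)
def n61915 : Q := act 4 n60859
theorem D61915 : act 4 n60859 = n61915 := rfl
theorem F276195 : act 0 n61915 = n61121 := d3_1 D61915 (iv D61121) (iv F271475)
theorem F276196 : act 2 n61915 = n60860 := d18_1 D61915 (iv D60860) D60859
theorem F276197 : act 6 n61915 = n60862 := d31_2 (iv F271478) D61915 (iv D60862)
theorem F276198 : act 7 n61915 = n61351 := d32_2 (iv F271479) D61915 (iv D61351)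
theorem F276199 : act 8 n61915 = n60896 := d33_2 (iv F271480) D61915 (iv D60896)
theorem F276200 : act 9 n61915 = n61048 := d34_2 (iv F271481) D61915 (iv D61048)
def n61916 : Q := act 5 n60860
theorem D61916 : act 5 n60860 = n61916 := rfl
theorem F276201 : act 0 n61916 = n61122 := d4_1 D61916 (iv D61122) (iv F271482)
theorem F276202 : act 1 n61916 = n61197 := d12_1 D61916 F273197 (iv F271483)
theorem F276203 : act 3 n61916 = n61916 := d25_1 D61916 (iv D61916) F271484
theorem F276204 : act 4 n61916 = n61178 := d30_1 D61916 F273140 (iv D60188) (iv F266512) D60860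
theorem F276205 : act 6 n61916 = n61169 := d35_2 (iv F271485) D61916 (iv D61169) (iv F270623) F270622
theorem F276206 : act 7 n61916 = n61136 := d36_2 (iv F271486) D61916 F272955
theorem F276207 : act 8 n61916 = n60897 := d37_2 (iv F271487) D61916 (iv D60897)
theorem F276208 : act 9 n61916 = n61049 := d38_2 (iv F271488) D61916 (iv D61049)
def n61917 : Q := act 0 n60861
theorem D61917 : act 0 n60861 = n61917 := rfl
theorem F276209 : act 1 n61917 = n61670 := d0_2 D60861 D61917 (iv D61670) (iv D60547) (iv F266517)
theorem F276210 : act 2 n61917 = n61309 := d1_2 (iv F271489) D61917 (iv D61309)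
theorem F276211 : act 5 n61917 = n60863 := d4_2 (iv F271490) D61917 (iv D60863)
theorem F276212 : act 7 n61917 = n60880 := d6_2 (iv F271491) D61917 (iv D60880)
theorem F276213 : act 8 n61917 = n60898 := d7_2 (iv F271492) D61917 (iv D60898)
theorem F276214 : act 9 n61917 = n61664 := d8_2 (iv F271493) D61917 (iv D61664)
def n61918 : Q := act 4 n60861
theorem D61918 : act 4 n60861 = n61918 := rfl
theorem F276215 : act 1 n61918 = n60862 := d11_1 D61918 (iv D60862) D60861
theorem F276216 : act 2 n61918 = n61310 := d18_1 D61918 (iv D61310) (iv F271489)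
theorem F276217 : act 7 n61918 = n60881 := d32_2 (iv F271491) D61918 (iv D60881)
theorem F276218 : act 8 n61918 = n60899 := d33_2 (iv F271492) D61918 (iv D60899)
theorem F276219 : act 9 n61918 = n61665 := d34_2 (iv F271493) D61918 (iv D61665)
def n61919 : Q := act 3 n60862
theorem D61919 : act 3 n60862 = n61919 := rfl
theorem F276220 : act 0 n61919 = n61672 := d2_1 D61919 (iv D61672) (iv F271494)
theorem F276221 : act 2 n61919 = n61919 := d17_1 D61919 (iv D61919) F271495 F266524 (iv F271495)
theorem F276222 : act 7 n61919 = n60882 := d27_2 (iv F271496) D61919 (iv D60882)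
theorem F276223 : act 9 n61919 = n61666 := d29_2 (iv F271498) D61919 (iv D61666)
def n61920 : Q := act 1 n60864
theorem D61920 : act 1 n60864 = n61920 := rfl
theorem F276224 : act 2 n61920 = n61080 := d9_2 D60864 D61920 (iv D61080) (iv D59899) (iv F266534)
theorem F276225 : act 3 n61920 = n61312 := d10_2 (iv F271505) D61920 (iv D61312)
theorem F276226 : act 5 n61920 = n61731 := d12_2 (iv F271506) D61920 (iv D61731)
theorem F276227 : act 6 n61920 = n61368 := d13_2 (iv F271507) D61920 (iv D61368)
theorem F276228 : act 7 n61920 = n61084 := d14_2 (iv F271508) D61920 (iv D61084)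
theorem F276229 : act 8 n61920 = n61448 := d15_2 (iv F271509) D61920 (iv D61448)
theorem F276230 : act 9 n61920 = n61303 := d16_2 (iv F271510) D61920 (iv D61303)
def n61921 : Q := act 4 n60864
theorem D61921 : act 4 n60864 = n61921 := rfl
theorem F276231 : act 0 n61921 = n60867 := d3_1 D61921 (iv D60867) (iv F271504)
theorem F276232 : act 2 n61921 = n60865 := d18_1 D61921 (iv D60865) D60864
theorem F276233 : act 6 n61921 = n60894 := d31_2 (iv F271507) D61921 F271650
theorem F276234 : act 7 n61921 = n61085 := d32_2 (iv F271508) D61921 (iv D61085)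
theorem F276235 : act 8 n61921 = n61449 := d33_2 (iv F271509) D61921 (iv D61449)
theorem F276236 : act 9 n61921 = n60939 := d34_2 (iv F271510) D61921 F271902
def n61922 : Q := act 0 n60866
theorem D61922 : act 0 n60866 = n61922 := rfl
theorem F276237 : act 2 n61922 = n60876 := d1_2 (iv F271518) D61922 (iv D60876)
theorem F276238 : act 3 n61922 = n61322 := d2_2 (iv F271519) D61922 (iv D61322)
theorem F276239 : act 6 n61922 = n61552 := d5_2 (iv F271520) D61922 (iv D61552)
theorem F276240 : act 9 n61922 = n61539 := d8_2 (iv F271521) D61922 (iv D61539)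
def n61923 : Q := act 4 n60866
theorem D61923 : act 4 n60866 = n61923 := rfl
theorem F276241 : act 1 n61923 = n60867 := d11_1 D61923 (iv D60867) D60866
theorem F276242 : act 2 n61923 = n60877 := d18_1 D61923 (iv D60877) (iv F271518)
theorem F276243 : act 6 n61923 = n61553 := d31_2 (iv F271520) D61923 (iv D61553)
theorem F276244 : act 9 n61923 = n61540 := d34_2 (iv F271521) D61923 (iv D61540)
def n61924 : Q := act 3 n60867
theorem D61924 : act 3 n60867 = n61924 := rfl
theorem F276245 : act 2 n61924 = n60869 := d17_1 D61924 (iv D60869) F266553 (iv F266550) (iv F271522)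
theorem F276246 : act 4 n61924 = n61324 := d24_2 D60867 D61924 (iv D61324) (iv D60154) (iv F266546)
theorem F276247 : act 6 n61924 = n61554 := d26_2 (iv F271523) D61924 (iv D61554)
theorem F276248 : act 9 n61924 = n61541 := d29_2 (iv F271524) D61924 (iv D61541)
def n61925 : Q := act 5 n60867
theorem D61925 : act 5 n60867 = n61925 := rfl
theorem F276249 : act 2 n61925 = n60868 := d19_1 D61925 (iv D60868) (iv F271522)
theorem F276250 : act 6 n61925 = n61760 := d35_2 (iv F271523) D61925 F275199 F270413 (iv F269718)
theorem F276251 : act 9 n61925 = n61542 := d38_2 (iv F271524) D61925 (iv D61542)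
def n61926 : Q := act 8 n60869
theorem D61926 : act 8 n60869 = n61926 := rfl
theorem F276252 : act 1 n61926 = n61339 := d15_1 D61926 F275377 F275372
theorem F276253 : act 3 n61926 = n61926 := d28_1 D61926 (iv D61926) (iv D60869) F266555 D60869
theorem F276254 : act 4 n61926 = n61326 := d33_1 D61926 F273789 (iv F271529)
theorem F276255 : act 6 n61926 = n61321 := d40_1 D61926 F273775 (iv F271530)
theorem F276256 : act 7 n61926 = n61500 := d42_1 D61926 (iv F275684) F275683
def n61927 : Q := act 0 n60870
theorem D61927 : act 0 n60870 = n61927 := rfl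
theorem F276257 : act 1 n61927 = n61581 := d0_2 D60870 D61927 (iv D61581) (iv D60438) (iv F266562)
theorem F276258 : act 3 n61927 = n60908 := d2_2 (iv F271532) D61927 (iv D60908)
theorem F276259 : act 6 n61927 = n61555 := d5_2 (iv F271533) D61927 (iv D61555)
theorem F276260 : act 8 n61927 = n60876 := d7_2 (iv F271534) D61927 (iv D60876)
theorem F276261 : act 9 n61927 = n61513 := d8_2 (iv F271535) D61927 (iv D61513)
def n61928 : Q := act 4 n60870
theorem D61928 : act 4 n60870 = n61928 := rfl
theorem F276262 : act 1 n61928 = n60871 := d11_1 D61928 (iv D60871) D60870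
theorem F276263 : act 6 n61928 = n61556 := d31_2 (iv F271533) D61928 (iv D61556)
theorem F276264 : act 8 n61928 = n60877 := d33_2 (iv F271534) D61928 (iv D60877)
theorem F276265 : act 9 n61928 = n61514 := d34_2 (iv F271535) D61928 (iv D61514)
def n61929 : Q := act 3 n60871
theorem D61929 : act 3 n60871 = n61929 := rfl
theorem F276266 : act 0 n61929 = n61583 := d2_1 D61929 (iv D61583) (iv F271536)
theorem F276267 : act 2 n61929 = n61929 := d17_1 D61929 (iv D61929) F271537 F266568 (iv F271537)
theorem F276268 : act 4 n61929 = n60910 := d24_2 D60871 D61929 (iv D60910) (iv D59721) (iv F266563)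
theorem F276269 : act 6 n61929 = n61557 := d26_2 (iv F271538) D61929 (iv D61557)
theorem F276270 : act 9 n61929 = n61515 := d29_2 (iv F271540) D61929 (iv D61515)
def n61930 : Q := act 5 n60871
theorem D61930 : act 5 n60871 = n61930 := rfl
theorem F276271 : act 0 n61930 = n61477 := d4_1 D61930 F274360 (iv F271536)
theorem F276272 : act 2 n61930 = n60872 := d19_1 D61930 (iv D60872) (iv F271537)
theorem F276273 : act 4 n61930 = n61300 := d30_1 D61930 F275753 (iv D61847) F270975 D60871
theorem F276274 : act 8 n61930 = n60878 := d37_2 (iv F271539) D61930 (iv D60878)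
theorem F276275 : act 9 n61930 = n61297 := d38_2 (iv F271540) D61930 F273674
def n61931 : Q := act 0 n60873
theorem D61931 : act 0 n60873 = n61931 := rfl
theorem F276276 : act 1 n61931 = n61626 := d0_2 D60873 D61931 (iv D61626) (iv D60490) (iv F266572)
theorem F276277 : act 3 n61931 = n60880 := d2_2 (iv F271546) D61931 (iv D60880)
theorem F276278 : act 5 n61931 = n60876 := d4_2 (iv F271547) D61931 (iv D60876)
theorem F276279 : act 6 n61931 = n61718 := d5_2 (iv F271548) D61931 (iv D61718)
theorem F276280 : act 9 n61931 = n61545 := d8_2 (iv F271549) D61931 (iv D61545)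
def n61932 : Q := act 4 n60873
theorem D61932 : act 4 n60873 = n61932 := rfl
theorem F276281 : act 1 n61932 = n60874 := d11_1 D61932 (iv D60874) D60873
theorem F276282 : act 6 n61932 = n61719 := d31_2 (iv F271548) D61932 (iv D61719)
theorem F276283 : act 9 n61932 = n61546 := d34_2 (iv F271549) D61932 (iv D61546)
def n61933 : Q := act 3 n60874
theorem D61933 : act 3 n60874 = n61933 := rfl
theorem F276284 : act 0 n61933 = n61628 := d2_1 D61933 (iv D61628) (iv F271550)
theorem F276285 : act 2 n61933 = n61933 := d17_1 D61933 (iv D61933) F271551 F266578 (iv F271551)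
theorem F276286 : act 4 n61933 = n60882 := d24_2 D60874 D61933 (iv D60882) (iv D59695) (iv F266573)
theorem F276287 : act 6 n61933 = n61720 := d26_2 (iv F271552) D61933 (iv D61720)
theorem F276288 : act 9 n61933 = n61547 := d29_2 (iv F271553) D61933 (iv D61547)
def n61934 : Q := act 5 n60874
theorem D61934 : act 5 n60874 = n61934 := rfl
theorem F276289 : act 0 n61934 = n61382 := d4_1 D61934 F274010 (iv F271550)
theorem F276290 : act 2 n61934 = n60875 := d19_1 D61934 (iv D60875) (iv F271551)
theorem F276291 : act 4 n61934 = n60878 := d30_1 D61934 (iv D60878) (iv D59691) (iv F266574) D60874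
theorem F276292 : act 8 n61934 = n61300 := d37_2 F275751 D61934 F275753
theorem F276293 : act 9 n61934 = n61264 := d38_2 (iv F271553) D61934 F273525
def n61935 : Q := act 4 n60876
theorem D61935 : act 4 n60876 = n61935 := rfl
theorem F276294 : act 0 n61935 = n60877 := d3_1 D61935 (iv D60877) D60876
theorem F276295 : act 1 n61935 = n61631 := d11_1 D61935 (iv D61631) (iv F271559)
theorem F276296 : act 6 n61935 = n61558 := d31_2 (iv F271561) D61935 (iv D61558)
theorem F276297 : act 9 n61935 = n61548 := d34_2 (iv F271562) D61935 (iv D61548)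
def n61936 : Q := act 5 n60877
theorem D61936 : act 5 n60877 = n61936 := rfl
theorem F276298 : act 1 n61936 = n60878 := d12_1 D61936 (iv D60878) (iv F271563)
theorem F276299 : act 9 n61936 = n61549 := d38_2 (iv F271565) D61936 (iv D61549)
def n61937 : Q := act 6 n60878
theorem D61937 : act 6 n60878 = n61937 := rfl
theorem F276300 : act 0 n61937 = n61424 := d5_1 D61937 F274187 (iv F271566)
theorem F276301 : act 2 n61937 = n60879 := d20_1 D61937 (iv D60879) (iv F271567)
theorem F276302 : act 5 n61937 = n61277 := d35_1 D61937 F273587 F268581 (iv F266586) D60878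
theorem F276303 : act 9 n61937 = n61497 := d41_2 (iv F271568) D61937 F274427
def n61938 : Q := act 4 n60880
theorem D61938 : act 4 n60880 = n61938 := rfl
theorem F276304 : act 0 n61938 = n60881 := d3_1 D61938 (iv D60881) D60880
theorem F276305 : act 2 n61938 = n61346 := d18_1 D61938 (iv D61346) (iv F271574)
theorem F276306 : act 6 n61938 = n61721 := d31_2 (iv F271576) D61938 (iv D61721)
theorem F276307 : act 8 n61938 = n60919 := d33_2 (iv F271577) D61938 (iv D60919)
theorem F276308 : act 9 n61938 = n61747 := d34_2 (iv F271578) D61938 (iv D61747)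
def n61939 : Q := act 3 n60881
theorem D61939 : act 3 n60881 = n61939 := rfl
theorem F276309 : act 1 n61939 = n60882 := d10_1 D61939 (iv D60882) (iv F271579)
theorem F276310 : act 6 n61939 = n61722 := d26_2 (iv F271581) D61939 (iv D61722)
theorem F276311 : act 9 n61939 = n61748 := d29_2 (iv F271583) D61939 (iv D61748)
def n61940 : Q := act 8 n60882
theorem D61940 : act 8 n60882 = n61940 := rfl
theorem F276312 : act 0 n61940 = n61577 := d7_1 D61940 (iv F276027) F276021
theorem F276313 : act 2 n61940 = n61940 := d22_1 D61940 (iv D61940) F271584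
theorem F276314 : act 3 n61940 = n60921 := d28_1 D61940 (iv D60921) (iv D59733) (iv F266604) D60882
theorem F276315 : act 6 n61940 = n61442 := d40_1 D61940 F274241 (iv F271585)
def n61941 : Q := act 1 n60883
theorem D61941 : act 1 n60883 = n61941 := rfl
theorem F276316 : act 2 n61941 = n61350 := d9_2 D60883 D61941 (iv D61350) (iv D60178) (iv F266611)
theorem F276317 : act 3 n61941 = n61289 := d10_2 (iv F271588) D61941 (iv D61289)
theorem F276318 : act 5 n61941 = n60895 := d12_2 (iv F271589) D61941 (iv D60895)
theorem F276319 : act 6 n61941 = n60885 := d13_2 (iv F271590) D61941 (iv D60885)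
theorem F276320 : act 7 n61941 = n61307 := d14_2 (iv F271591) D61941 (iv D61307)
theorem F276321 : act 8 n61941 = n61358 := d15_2 (iv F271592) D61941 (iv D61358)
theorem F276322 : act 9 n61941 = n60926 := d16_2 (iv F271593) D61941 (iv D60926)
def n61942 : Q := act 4 n60883
theorem D61942 : act 4 n60883 = n61942 := rfl
theorem F276323 : act 0 n61942 = n61168 := d3_1 D61942 (iv D61168) (iv F271587)
theorem F276324 : act 2 n61942 = n60884 := d18_1 D61942 (iv D60884) D60883
theorem F276325 : act 6 n61942 = n60886 := d31_2 (iv F271590) D61942 (iv D60886)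
theorem F276326 : act 7 n61942 = n61308 := d32_2 (iv F271591) D61942 (iv D61308)
theorem F276327 : act 8 n61942 = n61359 := d33_2 (iv F271592) D61942 (iv D61359)
theorem F276328 : act 9 n61942 = n60927 := d34_2 (iv F271593) D61942 (iv D60927)
def n61943 : Q := act 5 n60884
theorem D61943 : act 5 n60884 = n61943 := rfl
theorem F276329 : act 0 n61943 = n61169 := d4_1 D61943 (iv D61169) (iv F271594)
theorem F276330 : act 1 n61943 = n61136 := d12_1 D61943 F272955 (iv F271595)
theorem F276331 : act 3 n61943 = n61943 := d25_1 D61943 (iv D61943) F271596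
theorem F276332 : act 4 n61943 = n60897 := d30_1 D61943 (iv D60897) (iv D59709) (iv F266612) D60884
theorem F276333 : act 6 n61943 = n61122 := d35_2 (iv F271597) D61943 (iv D61122) F267845 (iv F266623)
theorem F276334 : act 7 n61943 = n61197 := d36_2 (iv F271598) D61943 F273197
theorem F276335 : act 8 n61943 = n61178 := d37_2 (iv F271599) D61943 F273140
theorem F276336 : act 9 n61943 = n60928 := d38_2 (iv F271600) D61943 (iv D60928)
def n61944 : Q := act 0 n60885
theorem D61944 : act 0 n60885 = n61944 := rfl
theorem F276337 : act 2 n61944 = n61352 := d1_2 (iv F271601) D61944 (iv D61352)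
theorem F276338 : act 5 n61944 = n60887 := d4_2 (iv F271602) D61944 (iv D60887)
theorem F276339 : act 7 n61944 = n61343 := d6_2 (iv F271603) D61944 (iv D61343)
theorem F276340 : act 8 n61944 = n61373 := d7_2 (iv F271604) D61944 (iv D61373)
theorem F276341 : act 9 n61944 = n60929 := d8_2 (iv F271605) D61944 (iv D60929)
def n61945 : Q := act 4 n60885
theorem D61945 : act 4 n60885 = n61945 := rfl
theorem F276342 : act 1 n61945 = n60886 := d11_1 D61945 (iv D60886) D60885
theorem F276343 : act 2 n61945 = n61353 := d18_1 D61945 (iv D61353) (iv F271601)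
theorem F276344 : act 5 n61945 = n61671 := d30_2 (iv F271602) D61945 (iv D61671) (iv F270729) F270728
theorem F276345 : act 7 n61945 = n61344 := d32_2 (iv F271603) D61945 (iv D61344)
theorem F276346 : act 8 n61945 = n61374 := d33_2 (iv F271604) D61945 (iv D61374)
theorem F276347 : act 9 n61945 = n60930 := d34_2 (iv F271605) D61945 (iv D60930)
def n61946 : Q := act 3 n60886
theorem D61946 : act 3 n60886 = n61946 := rfl
theorem F276348 : act 2 n61946 = n61946 := d17_1 D61946 (iv D61946) F271606 F266622 (iv F271606)
theorem F276349 : act 5 n61946 = n61672 := d25_2 (iv F271607) D61946 (iv D61672)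
theorem F276350 : act 7 n61946 = n61345 := d27_2 (iv F271608) D61946 (iv D61345)
theorem F276351 : act 9 n61946 = n60931 := d29_2 (iv F271610) D61946 (iv D60931)
def n61947 : Q := act 0 n60888
theorem D61947 : act 0 n60888 = n61947 := rfl
theorem F276352 : act 1 n61947 = n61409 := d0_2 D60888 D61947 (iv D61409) (iv D60238) (iv F266632)
theorem F276353 : act 2 n61947 = n60892 := d1_2 (iv F271616) D61947 (iv D60892)
theorem F276354 : act 3 n61947 = n61355 := d2_2 (iv F271617) D61947 (iv D61355)
theorem F276355 : act 5 n61947 = n61408 := d4_2 (iv F271618) D61947 (iv D61408)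
theorem F276356 : act 7 n61947 = n60903 := d6_2 (iv F271619) D61947 (iv D60903)
theorem F276357 : act 8 n61947 = n61718 := d7_2 (iv F271620) D61947 (iv D61718)
theorem F276358 : act 9 n61947 = n60934 := d8_2 (iv F271621) D61947 (iv D60934)
def n61948 : Q := act 4 n60888
theorem D61948 : act 4 n60888 = n61948 := rfl
theorem F276359 : act 1 n61948 = n60889 := d11_1 D61948 (iv D60889) D60888
theorem F276360 : act 2 n61948 = n60893 := d18_1 D61948 (iv D60893) (iv F271616)
theorem F276361 : act 3 n61948 = n61695 := d24_1 D61948 (iv D61695) F270180 (iv F268862) (iv F271617)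
theorem F276362 : act 5 n61948 = n61635 := d30_2 (iv F271618) D61948 (iv D61635) (iv F272043) F272042
theorem F276363 : act 7 n61948 = n60904 := d32_2 (iv F271619) D61948 (iv D60904)
theorem F276364 : act 8 n61948 = n61719 := d33_2 (iv F271620) D61948 (iv D61719)
theorem F276365 : act 9 n61948 = n60935 := d34_2 (iv F271621) D61948 (iv D60935)
def n61949 : Q := act 0 n60890
theorem D61949 : act 0 n60890 = n61949 := rfl
theorem F276366 : act 1 n61949 = n61737 := d0_2 D60890 D61949 (iv D61737) (iv D60649) (iv F266645)
theorem F276367 : act 2 n61949 = n61718 := d1_2 (iv F271629) D61949 (iv D61718)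
theorem F276368 : act 5 n61949 = n61463 := d4_2 (iv F271630) D61949 F274303
theorem F276369 : act 7 n61949 = n60908 := d6_2 (iv F271631) D61949 (iv D60908)
theorem F276370 : act 8 n61949 = n60892 := d7_2 (iv F271632) D61949 (iv D60892)
theorem F276371 : act 9 n61949 = n61466 := d8_2 (iv F271633) D61949 F274318
def n61950 : Q := act 4 n60890
theorem D61950 : act 4 n60890 = n61950 := rfl
theorem F276372 : act 1 n61950 = n60891 := d11_1 D61950 (iv D60891) D60890
theorem F276373 : act 2 n61950 = n61719 := d18_1 D61950 (iv D61719) (iv F271629)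
theorem F276374 : act 5 n61950 = n61456 := d30_2 (iv F271630) D61950 (iv D61456) F269235 D60289
theorem F276375 : act 7 n61950 = n60909 := d32_2 (iv F271631) D61950 (iv D60909)
theorem F276376 : act 8 n61950 = n60893 := d33_2 (iv F271632) D61950 (iv D60893)
theorem F276377 : act 9 n61950 = n61460 := d34_2 (iv F271633) D61950 F274294
def n61951 : Q := act 3 n60891
theorem D61951 : act 3 n60891 = n61951 := rfl
theorem F276378 : act 0 n61951 = n61739 := d2_1 D61951 (iv D61739) (iv F271634)
theorem F276379 : act 2 n61951 = n61951 := d17_1 D61951 (iv D61951) F271635 F266652 (iv F271635)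
theorem F276380 : act 5 n61951 = n61457 := d25_2 (iv F271636) D61951 (iv D61457)
theorem F276381 : act 7 n61951 = n60910 := d27_2 (iv F271637) D61951 (iv D60910)
theorem F276382 : act 9 n61951 = n61461 := d29_2 (iv F271639) D61951 F274298
def n61952 : Q := act 4 n60892
theorem D61952 : act 4 n60892 = n61952 := rfl
theorem F276383 : act 0 n61952 = n60893 := d3_1 D61952 (iv D60893) D60892
theorem F276384 : act 1 n61952 = n61764 := d11_1 D61952 (iv D61764) (iv F271640)
theorem F276385 : act 7 n61952 = n60913 := d32_2 (iv F271643) D61952 (iv D60913)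
theorem F276386 : act 9 n61952 = n60937 := d34_2 (iv F271644) D61952 (iv D60937)
def n61953 : Q := act 5 n60893
theorem D61953 : act 5 n60893 = n61953 := rfl
theorem F276387 : act 1 n61953 = n60894 := d12_1 D61953 (iv D60894) (iv F271645)
theorem F276388 : act 2 n61953 = n61635 := d19_1 D61953 (iv F276362) F276360
theorem F276389 : act 4 n61953 = n61368 := d30_1 D61953 F273945 F268929 (iv F266658) D60893
theorem F276390 : act 7 n61953 = n60914 := d36_2 (iv F271646) D61953 (iv D60914)
theorem F276391 : act 8 n61953 = n61456 := d37_2 F276376 D61953 (iv F276374)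
theorem F276392 : act 9 n61953 = n60938 := d38_2 (iv F271647) D61953 (iv D60938)
def n61954 : Q := act 0 n60895
theorem D61954 : act 0 n60895 = n61954 := rfl
theorem F276393 : act 1 n61954 = n61174 := d0_2 D60895 D61954 (iv D61174) (iv D59985) (iv F266672)
theorem F276394 : act 2 n61954 = n61360 := d1_2 (iv F271654) D61954 (iv D61360)
theorem F276395 : act 3 n61954 = n61294 := d2_2 (iv F271655) D61954 (iv D61294)
theorem F276396 : act 6 n61954 = n60898 := d5_2 (iv F271656) D61954 (iv D60898)
theorem F276397 : act 7 n61954 = n61723 := d6_2 (iv F271657) D61954 (iv D61723)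
theorem F276398 : act 9 n61954 = n60942 := d8_2 (iv F271658) D61954 (iv D60942)
def n61955 : Q := act 4 n60895
theorem D61955 : act 4 n60895 = n61955 := rfl
theorem F276399 : act 1 n61955 = n60896 := d11_1 D61955 (iv D60896) D60895
theorem F276400 : act 2 n61955 = n61361 := d18_1 D61955 (iv D61361) (iv F271654)
theorem F276401 : act 3 n61955 = n61716 := d24_1 D61955 (iv D61716) F270259 (iv F268643) (iv F271655)
theorem F276402 : act 6 n61955 = n60899 := d31_2 (iv F271656) D61955 (iv D60899)
theorem F276403 : act 7 n61955 = n61724 := d32_2 (iv F271657) D61955 (iv D61724)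
theorem F276404 : act 9 n61955 = n60943 := d34_2 (iv F271658) D61955 (iv D60943)
def n61956 : Q := act 5 n60896
theorem D61956 : act 5 n60896 = n61956 := rfl
theorem F276405 : act 0 n61956 = n61177 := d4_1 D61956 (iv D61177) (iv F271659)
theorem F276406 : act 2 n61956 = n60897 := d19_1 D61956 (iv D60897) (iv F271660)
theorem F276407 : act 3 n61956 = n61438 := d25_1 D61956 F274226 (iv F271661)
theorem F276408 : act 7 n61956 = n61196 := d36_2 (iv F271663) D61956 F273194
theorem F276409 : act 9 n61956 = n60944 := d38_2 (iv F271664) D61956 (iv D60944)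
def n61957 : Q := act 4 n60898
theorem D61957 : act 4 n60898 = n61957 := rfl
theorem F276410 : act 0 n61957 = n60899 := d3_1 D61957 (iv D60899) D60898
theorem F276411 : act 1 n61957 = n61682 := d11_1 D61957 (iv D61682) (iv F271670)
theorem F276412 : act 2 n61957 = n61364 := d18_1 D61957 (iv D61364) (iv F271671)
theorem F276413 : act 7 n61957 = n60919 := d32_2 (iv F271674) D61957 (iv D60919)
theorem F276414 : act 9 n61957 = n60945 := d34_2 (iv F271675) D61957 (iv D60945)
def n61958 : Q := act 3 n60899
theorem D61958 : act 3 n60899 = n61958 := rfl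
theorem F276415 : act 1 n61958 = n60900 := d10_1 D61958 (iv D60900) (iv F271676)
theorem F276416 : act 4 n61958 = n61330 := d24_2 D60899 D61958 F273807 F268929 (iv F266684)
theorem F276417 : act 6 n61958 = n61716 := d26_2 F276402 D61958 (iv F276401)
theorem F276418 : act 7 n61958 = n60920 := d27_2 (iv F271678) D61958 (iv D60920)
theorem F276419 : act 9 n61958 = n60946 := d29_2 (iv F271679) D61958 (iv D60946)
theorem F276420 : act 2 n61958 = n61470 := d46_4 F266531 (iv F266685) D60899 D61958 F274334 (iv F270907) F270910 D61589 F274761 F269848 F265007 (iv F264327) (iv F266190) (iv D59626) F261397 F257495 (iv D56882) F249534 (iv F250077) F250076 (iv D54311) (iv F241809) F241808 F233615 F224413 F214522 F186839 D47904 F214527 (iv F214333) D50056 F224264 (iv F233545) (iv F235917) F235924 F235921 (iv D52730) F227233 F227228 F219845 (iv F218939) (iv D48961) (iv F218275) (iv F227687) (iv F236140) F236139 (iv F236416) F236415 D53909 (iv F248995) (iv F254852) D57931 D59121 D60351 D61506 F274472 F270234 (iv F270157) (iv F273294) (iv F275471) F275470 (iv D60863)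
def n61959 : Q := act 8 n60900
theorem D61959 : act 8 n60900 = n61959 := rfl
theorem F276421 : act 0 n61959 = n61566 := d7_1 D61959 F274692 (iv F271680)
theorem F276422 : act 2 n61959 = n60922 := d22_1 D61959 (iv D60922) (iv F271681)
theorem F276423 : act 4 n61959 = n61090 := d33_1 D61959 F272766 (iv F271682)
theorem F276424 : act 6 n61959 = n61599 := d40_1 D61959 F274791 (iv F271683)
theorem F276425 : act 7 n61959 = n60921 := d42_1 D61959 (iv D60921) (iv F271684)
theorem F276426 : act 9 n61959 = n61092 := d44_2 (iv F271685) D61959 F272773 F267749 F266951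
def n61960 : Q := act 0 n60901
theorem D61960 : act 0 n60901 = n61960 := rfl
theorem F276427 : act 1 n61960 = n61440 := d0_2 D60901 D61960 (iv D61440) (iv D60268) (iv F266695)
theorem F276428 : act 2 n61960 = n60908 := d1_2 (iv F271686) D61960 (iv D60908)
theorem F276429 : act 3 n61960 = n61352 := d2_2 (iv F271687) D61960 (iv D61352)
theorem F276430 : act 5 n61960 = n61349 := d4_2 (iv F271688) D61960 (iv D61349)
theorem F276431 : act 6 n61960 = n61575 := d5_2 (iv F271689) D61960 (iv D61575)
theorem F276432 : act 7 n61960 = n61718 := d6_2 (iv F271690) D61960 (iv D61718)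
theorem F276433 : act 8 n61960 = n60903 := d7_2 (iv F271691) D61960 (iv D60903)
theorem F276434 : act 9 n61960 = n61396 := d8_2 (iv F271692) D61960 (iv D61396)
def n61961 : Q := act 4 n60901
theorem D61961 : act 4 n60901 = n61961 := rfl
theorem F276435 : act 1 n61961 = n60902 := d11_1 D61961 (iv D60902) D60901
theorem F276436 : act 2 n61961 = n60909 := d18_1 D61961 (iv D60909) (iv F271686)
theorem F276437 : act 5 n61961 = n61624 := d30_2 (iv F271688) D61961 (iv D61624) F269953 (iv F268838)
theorem F276438 : act 6 n61961 = n61576 := d31_2 (iv F271689) D61961 (iv D61576)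
theorem F276439 : act 7 n61961 = n61719 := d32_2 (iv F271690) D61961 (iv D61719)
theorem F276440 : act 8 n61961 = n60904 := d33_2 (iv F271691) D61961 (iv D60904)
theorem F276441 : act 9 n61961 = n61397 := d34_2 (iv F271692) D61961 (iv D61397)
def n61962 : Q := act 3 n60902
theorem D61962 : act 3 n60902 = n61962 := rfl
theorem F276442 : act 0 n61962 = n61442 := d2_1 D61962 (iv D61442) (iv F271693)
theorem F276443 : act 2 n61962 = n61962 := d17_1 D61962 (iv D61962) F271694 F266704 (iv F271694)
theorem F276444 : act 4 n61962 = n61354 := d24_2 D60902 D61962 (iv D61354) (iv D60181) (iv F266696)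
theorem F276445 : act 5 n61962 = n61625 := d25_2 (iv F271695) D61962 (iv D61625)
theorem F276446 : act 6 n61962 = n61577 := d26_2 (iv F271696) D61962 (iv D61577)
theorem F276447 : act 7 n61962 = n61720 := d27_2 (iv F271697) D61962 (iv D61720)
theorem F276448 : act 8 n61962 = n61702 := d28_2 (iv F271698) D61962 (iv D61702) F270209 (iv F266717)
theorem F276449 : act 9 n61962 = n61398 := d29_2 (iv F271699) D61962 (iv D61398)
def n61963 : Q := act 4 n60903
theorem D61963 : act 4 n60903 = n61963 := rfl
theorem F276450 : act 0 n61963 = n60904 := d3_1 D61963 (iv D60904) D60903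
theorem F276451 : act 1 n61963 = n61444 := d11_1 D61963 (iv D61444) (iv F271700)
theorem F276452 : act 2 n61963 = n60913 := d18_1 D61963 (iv D60913) (iv F271701)
theorem F276453 : act 3 n61963 = n61703 := d24_1 D61963 (iv D61703) F270217 (iv F268917) (iv F271702)
theorem F276454 : act 5 n61963 = n61636 := d30_2 (iv F271703) D61963 (iv D61636) (iv F272052) F272051
theorem F276455 : act 6 n61963 = n61579 := d31_2 (iv F271704) D61963 (iv D61579)
theorem F276456 : act 9 n61963 = n60955 := d34_2 (iv F271705) D61963 (iv D60955)
def n61964 : Q := act 0 n60905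
theorem D61964 : act 0 n60905 = n61964 := rfl
theorem F276457 : act 1 n61964 = n61288 := d0_2 D60905 D61964 (iv D61288) (iv D60117) (iv F266721)
theorem F276458 : act 2 n61964 = n61349 := d1_2 (iv F271712) D61964 (iv D61349)
theorem F276459 : act 4 n61964 = n61417 := d3_2 (iv F271713) D61964 (iv D61417)
theorem F276460 : act 5 n61964 = n60908 := d4_2 (iv F271714) D61964 (iv D60908)
theorem F276461 : act 6 n61964 = n61355 := d5_2 (iv F271715) D61964 (iv D61355)
theorem F276462 : act 7 n61964 = n61463 := d6_2 (iv F271716) D61964 F274303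
theorem F276463 : act 8 n61964 = n60912 := d7_2 (iv F271717) D61964 (iv D60912)
theorem F276464 : act 9 n61964 = n61392 := d8_2 (iv F271718) D61964 (iv D61392)
def n61965 : Q := act 0 n60906
theorem D61965 : act 0 n60906 = n61965 := rfl
theorem F276465 : act 1 n61965 = n61555 := d0_2 D60906 D61965 (iv D61555) (iv D60412) (iv F266728)
theorem F276466 : act 2 n61965 = n61396 := d1_2 (iv F271719) D61965 (iv D61396)
theorem F276467 : act 3 n61965 = n61513 := d2_2 (iv F271720) D61965 (iv D61513)
theorem F276468 : act 5 n61965 = n61392 := d4_2 (iv F271721) D61965 (iv D61392)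
theorem F276469 : act 6 n61965 = n61581 := d5_2 (iv F271722) D61965 (iv D61581)
theorem F276470 : act 7 n61965 = n61466 := d6_2 (iv F271723) D61965 F274318
theorem F276471 : act 8 n61965 = n60957 := d7_2 (iv F271724) D61965 (iv D60957)
theorem F276472 : act 9 n61965 = n60908 := d8_2 (iv F271725) D61965 (iv D60908)
def n61966 : Q := act 4 n60906
theorem D61966 : act 4 n60906 = n61966 := rfl
theorem F276473 : act 1 n61966 = n60907 := d11_1 D61966 (iv D60907) D60906
theorem F276474 : act 2 n61966 = n61397 := d18_1 D61966 (iv D61397) (iv F271719)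
theorem F276475 : act 5 n61966 = n61415 := d30_2 (iv F271721) D61966 (iv D61415) F269116 (iv F269028)
theorem F276476 : act 6 n61966 = n61582 := d31_2 (iv F271722) D61966 (iv D61582)
theorem F276477 : act 7 n61966 = n61460 := d32_2 (iv F271723) D61966 F274294
theorem F276478 : act 8 n61966 = n60958 := d33_2 (iv F271724) D61966 (iv D60958)
theorem F276479 : act 9 n61966 = n60909 := d34_2 (iv F271725) D61966 (iv D60909)
def n61967 : Q := act 3 n60907
theorem D61967 : act 3 n60907 = n61967 := rfl
theorem F276480 : act 0 n61967 = n61557 := d2_1 D61967 (iv D61557) (iv F271726)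
theorem F276481 : act 2 n61967 = n61967 := d17_1 D61967 (iv D61967) F271727 F266737 (iv F271727)
theorem F276482 : act 4 n61967 = n61515 := d24_2 D60907 D61967 (iv D61515) (iv D60366) (iv F266729)
theorem F276483 : act 5 n61967 = n61416 := d25_2 (iv F271728) D61967 (iv D61416)
theorem F276484 : act 6 n61967 = n61583 := d26_2 (iv F271729) D61967 (iv D61583)
theorem F276485 : act 7 n61967 = n61461 := d27_2 (iv F271730) D61967 F274298
theorem F276486 : act 8 n61967 = n61573 := d28_2 (iv F271731) D61967 (iv D61573) F269789 (iv F267023)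
theorem F276487 : act 9 n61967 = n60910 := d29_2 (iv F271732) D61967 (iv D60910)
def n61968 : Q := act 4 n60908
theorem D61968 : act 4 n60908 = n61968 := rfl
theorem F276488 : act 0 n61968 = n60909 := d3_1 D61968 (iv D60909) D60908
theorem F276489 : act 6 n61968 = n61584 := d31_2 (iv F271733) D61968 (iv D61584)
theorem F276490 : act 8 n61968 = n60913 := d33_2 (iv F271734) D61968 (iv D60913)
def n61969 : Q := act 3 n60909
theorem D61969 : act 3 n60909 = n61969 := rfl
theorem F276491 : act 1 n61969 = n60910 := d10_1 D61969 (iv D60910) (iv F271735)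
theorem F276492 : act 6 n61969 = n61585 := d26_2 (iv F271736) D61969 (iv D61585)
def n61970 : Q := act 5 n60909
theorem D61970 : act 5 n60909 = n61970 := rfl
theorem F276493 : act 1 n61970 = n60911 := d12_1 D61970 (iv D60911) (iv F271735)
theorem F276494 : act 2 n61970 = n61624 := d19_1 D61970 (iv F276437) F276436
theorem F276495 : act 4 n61970 = n61413 := d30_1 D61970 F274146 (iv F271713) F271714 D60909
theorem F276496 : act 7 n61970 = n61456 := d36_2 F276375 D61970 (iv F276374)
theorem F276497 : act 8 n61970 = n60914 := d37_2 (iv F271737) D61970 (iv D60914)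
theorem F276498 : act 9 n61970 = n61415 := d38_2 F276479 D61970 (iv F276475)
theorem F276499 : act 6 n61616 = n61970 := d40_3 F276497 (iv F271762) (iv F274842)
def n61971 : Q := act 5 n60910
theorem D61971 : act 5 n60910 = n61971 := rfl
theorem F276500 : act 0 n61971 = n61727 := d4_1 D61971 (iv F276047) F276044
theorem F276501 : act 2 n61971 = n61971 := d19_1 D61971 (iv D61971) F271738
theorem F276502 : act 3 n61971 = n60911 := d25_1 D61971 (iv D60911) D60910
theorem F276503 : act 7 n61971 = n61457 := d36_2 F276381 D61971 (iv F276380)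
theorem F276504 : act 9 n61971 = n61416 := d38_2 F276487 D61971 (iv F276483)
theorem F276505 : act 6 n61617 = n61971 := d26_0 F276502 (iv F271746) D61617
def n61972 : Q := act 5 n60913
theorem D61972 : act 5 n60913 = n61972 := rfl
theorem F276506 : act 0 n61972 = n60914 := d4_1 D61972 (iv D60914) (iv F271755)
theorem F276507 : act 1 n61972 = n61728 := d12_1 D61972 (iv F276056) F276053
theorem F276508 : act 2 n61972 = n61636 := d19_1 D61972 (iv F276454) F276452
theorem F276509 : act 4 n61972 = n61621 := d30_1 D61972 F274855 (iv F271750) F271751 D60913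
theorem F276510 : act 9 n61972 = n60964 := d38_2 (iv F271757) D61972 (iv D60964)
theorem F276511 : act 6 n61622 = n61972 := d31_0 F276509 F274856 D61622
def n61973 : Q := act 0 n60915
theorem D61973 : act 0 n60915 = n61973 := rfl
theorem F276512 : act 1 n61973 = n61694 := d0_2 D60915 D61973 (iv D61694) (iv D60587) (iv F266774)
theorem F276513 : act 2 n61973 = n61373 := d1_2 (iv F271763) D61973 (iv D61373)
theorem F276514 : act 3 n61973 = n61367 := d2_2 (iv F271764) D61973 (iv D61367)
theorem F276515 : act 5 n61973 = n61302 := d4_2 (iv F271765) D61973 (iv D61302)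
theorem F276516 : act 6 n61973 = n61723 := d5_2 (iv F271766) D61973 (iv D61723)
theorem F276517 : act 7 n61973 = n60917 := d6_2 (iv F271767) D61973 (iv D60917)
theorem F276518 : act 8 n61973 = n61352 := d7_2 (iv F271768) D61973 (iv D61352)
theorem F276519 : act 9 n61973 = n60966 := d8_2 (iv F271769) D61973 (iv D60966)
def n61974 : Q := act 4 n60915
theorem D61974 : act 4 n60915 = n61974 := rfl
theorem F276520 : act 1 n61974 = n60916 := d11_1 D61974 (iv D60916) D60915
theorem F276521 : act 2 n61974 = n61374 := d18_1 D61974 (iv D61374) (iv F271763)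
theorem F276522 : act 3 n61974 = n61410 := d24_1 D61974 (iv D61410) F269094 (iv F268912) (iv F271764)
theorem F276523 : act 5 n61974 = n61235 := d30_2 (iv F271765) D61974 (iv D61235) (iv F271176) F271175
theorem F276524 : act 6 n61974 = n61724 := d31_2 (iv F271766) D61974 (iv D61724)
theorem F276525 : act 7 n61974 = n60918 := d32_2 (iv F271767) D61974 (iv D60918)
theorem F276526 : act 8 n61974 = n61353 := d33_2 (iv F271768) D61974 (iv D61353)
theorem F276527 : act 9 n61974 = n60967 := d34_2 (iv F271769) D61974 (iv D60967)
def n61975 : Q := act 4 n60917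
theorem D61975 : act 4 n60917 = n61975 := rfl
theorem F276528 : act 0 n61975 = n60918 := d3_1 D61975 (iv D60918) D60917
theorem F276529 : act 1 n61975 = n61703 := d11_1 D61975 (iv D61703) (iv F271778)
theorem F276530 : act 2 n61975 = n61376 := d18_1 D61975 (iv D61376) (iv F271779)
theorem F276531 : act 3 n61975 = n61444 := d24_1 D61975 (iv D61444) (iv F271992) F271993 (iv F271780)
theorem F276532 : act 5 n61975 = n61239 := d30_2 (iv F271781) D61975 (iv D61239) (iv F271185) F271184
theorem F276533 : act 6 n61975 = n60919 := d31_2 (iv F271782) D61975 (iv D60919)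
theorem F276534 : act 8 n61975 = n61721 := d33_2 (iv F271783) D61975 (iv D61721)
theorem F276535 : act 9 n61975 = n60968 := d34_2 (iv F271784) D61975 (iv D60968)
def n61976 : Q := act 3 n60919
theorem D61976 : act 3 n60919 = n61976 := rfl
theorem F276536 : act 0 n61976 = n60920 := d2_1 D61976 (iv D60920) (iv F271792)
theorem F276537 : act 1 n61976 = n61579 := d10_1 D61976 (iv F276063) F276061
theorem F276538 : act 4 n61976 = n61443 := d24_2 D60919 D61976 F274244 (iv F271750) F271749
theorem F276539 : act 6 n61976 = n61444 := d26_2 F276533 D61976 (iv F276531)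
theorem F276540 : act 9 n61976 = n60969 := d29_2 (iv F271794) D61976 (iv D60969)
theorem F276541 : act 2 n61472 = n61976 := d20_3 F276539 F274249 (iv F274342)
def n61977 : Q := act 8 n60920
theorem D61977 : act 8 n60920 = n61977 := rfl
theorem F276542 : act 1 n61977 = n60921 := d15_1 D61977 (iv D60921) (iv F271795)
theorem F276543 : act 2 n61977 = n61452 := d22_1 D61977 F274277 F271799
theorem F276544 : act 4 n61977 = n61439 := d33_1 D61977 F274231 (iv F271796)
theorem F276545 : act 6 n61977 = n61441 := d40_1 D61977 F274238 (iv F271797)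
def n61978 : Q := act 9 n60921
theorem D61978 : act 9 n60921 = n61978 := rfl
theorem F276546 : act 0 n61978 = n61395 := d8_1 D61978 F274077 (iv F271800)
theorem F276547 : act 2 n61978 = n60923 := d23_1 D61978 (iv D60923) (iv F271801)
theorem F276548 : act 4 n61978 = n61077 := d34_1 D61978 F272701 (iv F271802)
theorem F276549 : act 6 n61978 = n61268 := d41_1 D61978 F273546 (iv F271803)
theorem F276550 : act 7 n61978 = n61092 := d43_1 D61978 (iv F276426) F276425
theorem F276551 : act 8 n61978 = n60972 := d44_1 D61978 (iv D60972) (iv D59789) (iv F266812) D60921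
def n61979 : Q := act 1 n60924
theorem D61979 : act 1 n60924 = n61979 := rfl
theorem F276552 : act 2 n61979 = n61047 := d9_2 D60924 D61979 (iv D61047) (iv D59866) (iv F266832)
theorem F276553 : act 3 n61979 = n61273 := d10_2 (iv F271819) D61979 (iv D61273)
theorem F276554 : act 5 n61979 = n60940 := d12_2 (iv F271820) D61979 (iv D60940)
theorem F276555 : act 6 n61979 = n61081 := d13_2 (iv F271821) D61979 (iv D61081)
theorem F276556 : act 7 n61979 = n60926 := d14_2 (iv F271822) D61979 (iv D60926)
theorem F276557 : act 8 n61979 = n61045 := d15_2 (iv F271823) D61979 (iv D61045)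
theorem F276558 : act 9 n61979 = n61307 := d16_2 (iv F271824) D61979 (iv D61307)
def n61980 : Q := act 4 n60924
theorem D61980 : act 4 n60924 = n61980 := rfl
theorem F276559 : act 0 n61980 = n61142 := d3_1 D61980 (iv D61142) (iv F271818)
theorem F276560 : act 2 n61980 = n60925 := d18_1 D61980 (iv D60925) D60924
theorem F276561 : act 5 n61980 = n61189 := d30_2 (iv F271820) D61980 F273175 F271918 (iv D60941)
theorem F276562 : act 6 n61980 = n61082 := d31_2 (iv F271821) D61980 (iv D61082)
theorem F276563 : act 7 n61980 = n60927 := d32_2 (iv F271822) D61980 (iv D60927)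
theorem F276564 : act 8 n61980 = n61046 := d33_2 (iv F271823) D61980 (iv D61046)
theorem F276565 : act 9 n61980 = n61308 := d34_2 (iv F271824) D61980 (iv D61308)
def n61981 : Q := act 0 n60926
theorem D61981 : act 0 n60926 = n61981 := rfl
theorem F276566 : act 1 n61981 = n61170 := d0_2 D60926 D61981 (iv D61170) (iv D59982) (iv F266838)
theorem F276567 : act 2 n61981 = n61402 := d1_2 (iv F271833) D61981 (iv D61402)
theorem F276568 : act 3 n61981 = n61291 := d2_2 (iv F271834) D61981 (iv D61291)
theorem F276569 : act 5 n61981 = n60942 := d4_2 (iv F271835) D61981 (iv D60942)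
theorem F276570 : act 6 n61981 = n60929 := d5_2 (iv F271836) D61981 (iv D60929)
theorem F276571 : act 8 n61981 = n61066 := d7_2 (iv F271837) D61981 (iv D61066)
def n61982 : Q := act 4 n60926
theorem D61982 : act 4 n60926 = n61982 := rfl
theorem F276572 : act 1 n61982 = n60927 := d11_1 D61982 (iv D60927) D60926
theorem F276573 : act 2 n61982 = n61403 := d18_1 D61982 (iv D61403) (iv F271833)
theorem F276574 : act 6 n61982 = n60930 := d31_2 (iv F271836) D61982 (iv D60930)
theorem F276575 : act 8 n61982 = n61067 := d33_2 (iv F271837) D61982 (iv D61067)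
def n61983 : Q := act 3 n60927
theorem D61983 : act 3 n60927 = n61983 := rfl
theorem F276576 : act 0 n61983 = n61172 := d2_1 D61983 (iv D61172) (iv F271838)
theorem F276577 : act 2 n61983 = n61983 := d17_1 D61983 (iv D61983) F271839 F266845 (iv F271839)
theorem F276578 : act 4 n61983 = n61293 := d24_2 D60927 D61983 (iv D61293) (iv D60122) (iv F266839)
theorem F276579 : act 6 n61983 = n60931 := d26_2 (iv F271840) D61983 (iv D60931)
def n61984 : Q := act 5 n60927
theorem D61984 : act 5 n60927 = n61984 := rfl
theorem F276580 : act 0 n61984 = n61173 := d4_1 D61984 (iv D61173) (iv F271838)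
theorem F276581 : act 2 n61984 = n60928 := d19_1 D61984 (iv D60928) (iv F271839)
theorem F276582 : act 4 n61984 = n60944 := d30_1 D61984 (iv D60944) (iv D59755) (iv F266840) D60927
theorem F276583 : act 6 n61984 = n61126 := d35_2 (iv F271840) D61984 (iv D61126) F267851 (iv F266852)
theorem F276584 : act 7 n61984 = n61189 := d36_2 F276563 D61984 (iv F276561)
theorem F276585 : act 8 n61984 = n61069 := d37_2 (iv F271841) D61984 (iv D61069)
def n61985 : Q := act 4 n60929
theorem D61985 : act 4 n60929 = n61985 := rfl
theorem F276586 : act 0 n61985 = n60930 := d3_1 D61985 (iv D60930) D60929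
theorem F276587 : act 2 n61985 = n61405 := d18_1 D61985 (iv D61405) (iv F271849)
theorem F276588 : act 5 n61985 = n61673 := d30_2 (iv F271850) D61985 (iv D61673) (iv F270897) F270896
theorem F276589 : act 7 n61985 = n61592 := d32_2 (iv F271851) D61985 (iv D61592)
theorem F276590 : act 8 n61985 = n61675 := d33_2 F275245 D61985 (iv F275241)
def n61986 : Q := act 3 n60930
theorem D61986 : act 3 n60930 = n61986 := rfl
theorem F276591 : act 1 n61986 = n60931 := d10_1 D61986 (iv D60931) (iv F271852)
theorem F276592 : act 5 n61986 = n61674 := d25_2 (iv F271854) D61986 (iv D61674)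
theorem F276593 : act 7 n61986 = n61593 := d27_2 (iv F271855) D61986 (iv D61593)
def n61987 : Q := act 8 n60931
theorem D61987 : act 8 n60931 = n61987 := rfl
theorem F276594 : act 2 n61987 = n61987 := d22_1 D61987 (iv D61987) F271857
theorem F276595 : act 3 n61987 = n61645 := d28_1 D61987 F274914 F270032 (iv F266854) D60931
theorem F276596 : act 5 n61987 = n61644 := d37_1 D61987 F274912 (iv F271858)
theorem F276597 : act 7 n61987 = n61594 := d42_1 D61987 (iv D61594) (iv F271859)
def n61988 : Q := act 0 n60932
theorem D61988 : act 0 n60932 = n61988 := rfl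
theorem F276598 : act 1 n61988 = n60934 := d0_2 D60932 D61988 (iv D60934) (iv D59745) (iv F266858)
theorem F276599 : act 2 n61988 = n61357 := d1_2 (iv F271860) D61988 (iv D61357)
theorem F276600 : act 3 n61988 = n61408 := d2_2 (iv F271861) D61988 (iv D61408)
theorem F276601 : act 5 n61988 = n61355 := d4_2 (iv F271862) D61988 (iv D61355)
theorem F276602 : act 6 n61988 = n61580 := d5_2 (iv F271863) D61988 (iv D61580)
theorem F276603 : act 7 n61988 = n60948 := d6_2 (iv F271864) D61988 (iv D60948)
theorem F276604 : act 8 n61988 = n61511 := d7_2 (iv F271865) D61988 (iv D61511)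
theorem F276605 : act 9 n61988 = n61409 := d8_2 (iv F271866) D61988 (iv D61409)
def n61989 : Q := act 4 n60932
theorem D61989 : act 4 n60932 = n61989 := rfl
theorem F276606 : act 1 n61989 = n60933 := d11_1 D61989 (iv D60933) D60932
theorem F276607 : act 2 n61989 = n60960 := d18_1 D61989 F272028 (iv F271860)
theorem F276608 : act 3 n61989 = n60967 := d24_1 D61989 (iv D60967) (iv F272041) F272042 (iv F271861)
theorem F276609 : act 5 n61989 = n60953 := d30_2 (iv F271862) D61989 (iv D60953) F266987 (iv F268862)
theorem F276610 : act 6 n61989 = n61230 := d31_2 (iv F271863) D61989 F273358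
theorem F276611 : act 7 n61989 = n60949 := d32_2 (iv F271864) D61989 (iv D60949)
theorem F276612 : act 8 n61989 = n60956 := d33_2 (iv F271865) D61989 F272005
theorem F276613 : act 9 n61989 = n61410 := d34_2 (iv F271866) D61989 (iv D61410)
def n61990 : Q := act 4 n60934
theorem D61990 : act 4 n60934 = n61990 := rfl
theorem F276614 : act 0 n61990 = n60935 := d3_1 D61990 (iv D60935) D60934
theorem F276615 : act 2 n61990 = n60937 := d18_1 D61990 (iv D60937) (iv F271875)
theorem F276616 : act 7 n61990 = n60955 := d32_2 (iv F271878) D61990 (iv D60955)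
theorem F276617 : act 8 n61990 = n61512 := d33_2 (iv F271879) D61990 (iv D61512)
def n61991 : Q := act 5 n60935
theorem D61991 : act 5 n60935 = n61991 := rfl
theorem F276618 : act 1 n61991 = n60936 := d12_1 D61991 (iv D60936) (iv F271880)
theorem F276619 : act 2 n61991 = n60938 := d19_1 D61991 (iv D60938) (iv F271881)
theorem F276620 : act 3 n61991 = n61227 := d25_1 D61991 (iv F276096) F276095
theorem F276621 : act 4 n61991 = n60947 := d30_1 D61991 F271946 F268912 (iv F266875) D60935
theorem F276622 : act 6 n61991 = n60971 := d35_2 F275764 D61991 (iv F275900) F275901 F275767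
theorem F276623 : act 7 n61991 = n60956 := d36_2 (iv F271882) D61991 (iv D60956)
theorem F276624 : act 8 n61991 = n60949 := d37_2 (iv F271883) D61991 F271960
theorem F276625 : act 9 n61991 = n61635 := d38_2 F276365 D61991 (iv F276362)
def n61992 : Q := act 5 n60937
theorem D61992 : act 5 n60937 = n61992 := rfl
theorem F276626 : act 0 n61992 = n60938 := d4_1 D61992 (iv D60938) (iv F271892)
theorem F276627 : act 1 n61992 = n61752 := d12_1 D61992 F275173 (iv F271893)
theorem F276628 : act 4 n61992 = n61369 := d30_1 D61992 F273950 F268935 (iv F266891) D60937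
theorem F276629 : act 7 n61992 = n60964 := d36_2 (iv F271894) D61992 (iv D60964)
theorem F276630 : act 8 n61992 = n61372 := d37_2 (iv F271895) D61992 F273967
def n61993 : Q := act 6 n60938
theorem D61993 : act 6 n60938 = n61993 := rfl
theorem F276631 : act 1 n61993 = n60939 := d13_1 D61993 (iv D60939) (iv F271896)
theorem F276632 : act 2 n61993 = n60971 := d20_1 D61993 (iv F276622) F276619
theorem F276633 : act 4 n61993 = n61303 := d31_1 D61993 F273692 (iv F271897)
theorem F276634 : act 7 n61993 = n61323 := d39_2 (iv F271898) D61993 F273780 F272064 (iv D60965)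
theorem F276635 : act 8 n61993 = n60970 := d40_2 (iv F271899) D61993 F272082
def n61994 : Q := act 0 n60940
theorem D61994 : act 0 n60940 = n61994 := rfl
theorem F276636 : act 1 n61994 = n61145 := d0_2 D60940 D61994 (iv D61145) (iv D59957) (iv F266908)
theorem F276637 : act 2 n61994 = n61428 := d1_2 (iv F271905) D61994 (iv D61428)
theorem F276638 : act 3 n61994 = n61275 := d2_2 (iv F271906) D61994 (iv D61275)
theorem F276639 : act 6 n61994 = n60966 := d5_2 (iv F271907) D61994 (iv D60966)
theorem F276640 : act 7 n61994 = n60942 := d6_2 (iv F271908) D61994 (iv D60942)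
theorem F276641 : act 8 n61994 = n61059 := d7_2 (iv F271909) D61994 (iv D61059)
theorem F276642 : act 9 n61994 = n61723 := d8_2 (iv F271910) D61994 (iv D61723)
def n61995 : Q := act 4 n60940
theorem D61995 : act 4 n60940 = n61995 := rfl
theorem F276643 : act 1 n61995 = n60941 := d11_1 D61995 (iv D60941) D60940
theorem F276644 : act 2 n61995 = n61429 := d18_1 D61995 (iv D61429) (iv F271905)
theorem F276645 : act 3 n61995 = n61230 := d24_1 D61995 F273358 F269813 (iv F268561) (iv F271906)
theorem F276646 : act 6 n61995 = n60967 := d31_2 (iv F271907) D61995 (iv D60967)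
theorem F276647 : act 7 n61995 = n60943 := d32_2 (iv F271908) D61995 (iv D60943)
theorem F276648 : act 8 n61995 = n61022 := d33_2 (iv F271909) D61995 F272395
theorem F276649 : act 9 n61995 = n61724 := d34_2 (iv F271910) D61995 (iv D61724)
theorem F276650 : act 5 n61195 = n61995 := d45_3 F268975 D60314 (iv F273191) (iv D61995) F271906 (iv D60104) (iv D58881) (iv D57709) F253939 (iv D55826) F243225 (iv F243229) F243228 F235349 F235348 F226315 F216531 (iv D46549) F145875 F101792 (iv D16359) (iv D11246) (iv D7741) (iv F34369) F34370 F24286 D7567 F201487 F24613 (iv F24462) F24461 (iv F34642) F34641 F200601 F34719 (iv D7640) (iv D5268) F17349 F12316 F8824 (iv F8909) (iv F12504) (iv F17616) (iv F22703) F22705 D4897 F22840 F22841 (iv F32306) D10292 F45884 D14961 F65383 D14975 D21801 D31765 (iv F192501) D48577 (iv F226368) F226367 F216575 (iv F215808) D50423 D52435 D54209 (iv F248922) (iv F254786) (iv D56745) F248896 (iv F249749) D56935 F255482 (iv F255505) (iv D56943) (iv F255500) F255499 D58112 (iv F263001) D59953 F267909 (iv F269115) F269114 F264970 (iv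 F264162) (iv F266810) (iv D59733) (iv F266805) F266806 D60210
def n61996 : Q := act 4 n60942
theorem D61996 : act 4 n60942 = n61996 := rfl
theorem F276651 : act 0 n61996 = n60943 := d3_1 D61996 (iv D60943) D60942
theorem F276652 : act 1 n61996 = n61179 := d11_1 D61996 (iv D61179) (iv F271919)
theorem F276653 : act 2 n61996 = n61431 := d18_1 D61996 (iv D61431) (iv F271920)
theorem F276654 : act 3 n61996 = n61717 := d24_1 D61996 (iv D61717) F270263 (iv F268649) (iv F271921)
theorem F276655 : act 6 n61996 = n60945 := d31_2 (iv F271922) D61996 (iv D60945)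
theorem F276656 : act 8 n61996 = n61070 := d33_2 (iv F271923) D61996 (iv D61070)
def n61997 : Q := act 5 n60943
theorem D61997 : act 5 n60943 = n61997 := rfl
theorem F276657 : act 1 n61997 = n60944 := d12_1 D61997 (iv D60944) (iv F271924)
theorem F276658 : act 2 n61997 = n61433 := d19_1 D61997 (iv D61433) (iv F271925)
theorem F276659 : act 3 n61997 = n61437 := d25_1 D61997 F274223 (iv F271926)
theorem F276660 : act 7 n61997 = n61195 := d36_2 F276647 D61997 F276650
theorem F276661 : act 8 n61997 = n61071 := d37_2 (iv F271928) D61997 (iv D61071)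
def n61998 : Q := act 3 n60945
theorem D61998 : act 3 n60945 = n61998 := rfl
theorem F276662 : act 0 n61998 = n60946 := d2_1 D61998 (iv D60946) (iv F271934)
theorem F276663 : act 1 n61998 = n61597 := d10_1 D61998 F274782 (iv F271935)
theorem F276664 : act 4 n61998 = n61331 := d24_2 D60945 D61998 F273813 F268935 (iv F266938)
theorem F276665 : act 6 n61998 = n61717 := d26_2 F276655 D61998 (iv F276654)
theorem F276666 : act 7 n61998 = n60969 := d27_2 (iv F271937) D61998 (iv D60969)
theorem F276667 : act 8 n61340 = n61998 := d40_0 F276665 F275093 (iv F273837)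
def n61999 : Q := act 2 n60946
theorem D61999 : act 2 n60946 = n61999 := rfl
theorem F276668 : act 1 n61999 = n60973 := d9_1 D61999 (iv D60973) F267107 (iv F266947) (iv F271939)
theorem F276669 : act 3 n61999 = n61436 := d17_2 D60946 D61999 (iv D61436) (iv D60264) (iv F266943)
theorem F276670 : act 4 n61999 = n61318 := d18_2 (iv F271940) D61999 F273757
theorem F276671 : act 5 n61999 = n61714 := d19_2 F275736 D61999 (iv F275735)
theorem F276672 : act 6 n61999 = n61712 := d20_2 (iv F271941) D61999 F275083
theorem F276673 : act 7 n61999 = n60970 := d21_2 (iv F271942) D61999 (iv D60970)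
theorem F276674 : act 8 n61999 = n61323 := d22_2 F271943 D61999 F273779
theorem F276675 : act 9 n61999 = n61470 := d23_2 F276419 D61999 (iv F276420)
def n62000 : Q := act 0 n60947
theorem D62000 : act 0 n60947 = n62000 := rfl
theorem F276676 : act 1 n62000 = n60952 := d0_2 D60947 D62000 (iv D60952) (iv D59765) (iv F266952)
theorem F276677 : act 2 n62000 = n61369 := d1_2 (iv F271944) D62000 (iv D61369)
theorem F276678 : act 3 n62000 = n61302 := d2_2 (iv F271945) D62000 (iv D61302)
theorem F276679 : act 5 n62000 = n61367 := d4_2 (iv F271946) D62000 (iv D61367)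
theorem F276680 : act 6 n62000 = n61306 := d5_2 (iv F271947) D62000 (iv D61306)
theorem F276681 : act 7 n62000 = n61511 := d6_2 (iv F271948) D62000 (iv D61511)
theorem F276682 : act 8 n62000 = n60948 := d7_2 (iv F271949) D62000 (iv D60948)
theorem F276683 : act 9 n62000 = n61634 := d8_2 (iv F271950) D62000 (iv D61634)
def n62001 : Q := act 4 n60948
theorem D62001 : act 4 n60948 = n62001 := rfl
theorem F276684 : act 0 n62001 = n60949 := d3_1 D62001 (iv D60949) D60948
theorem F276685 : act 1 n62001 = n60955 := d11_1 D62001 (iv D60955) (iv F271951)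
theorem F276686 : act 2 n62001 = n61372 := d18_1 D62001 (iv D61372) (iv F271952)
theorem F276687 : act 3 n62001 = n60968 := d24_1 D62001 (iv D60968) (iv F272050) F272051 (iv F271953)
theorem F276688 : act 5 n62001 = n61512 := d30_2 (iv F271954) D62001 (iv D61512) F269547 (iv F268917)
theorem F276689 : act 6 n62001 = n60969 := d31_2 (iv F271955) D62001 F272078
theorem F276690 : act 9 n62001 = n61444 := d34_2 (iv F271956) D62001 (iv D61444)
def n62002 : Q := act 0 n60950
theorem D62002 : act 0 n60950 = n62002 := rfl
theorem F276691 : act 1 n62002 = n61634 := d0_2 D60950 D62002 (iv D61634) (iv D60500) (iv F266970)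
theorem F276692 : act 2 n62002 = n60957 := d1_2 (iv F271963) D62002 (iv D60957)
theorem F276693 : act 3 n62002 = n61201 := d2_2 (iv F271964) D62002 (iv D61201)
theorem F276694 : act 5 n62002 = n61393 := d4_2 (iv F271965) D62002 (iv D61393)
theorem F276695 : act 6 n62002 = n61618 := d5_2 (iv F271966) D62002 (iv D61618)
theorem F276696 : act 7 n62002 = n61202 := d6_2 (iv F271967) D62002 (iv D61202)
theorem F276697 : act 8 n62002 = n61396 := d7_2 (iv F271968) D62002 (iv D61396)
theorem F276698 : act 9 n62002 = n60952 := d8_2 (iv F271969) D62002 (iv D60952)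
def n62003 : Q := act 4 n60950
theorem D62003 : act 4 n60950 = n62003 := rfl
theorem F276699 : act 1 n62003 = n60951 := d11_1 D62003 (iv D60951) D60950
theorem F276700 : act 2 n62003 = n60958 := d18_1 D62003 (iv D60958) (iv F271963)
theorem F276701 : act 3 n62003 = n61235 := d24_1 D62003 (iv D61235) F268367 (iv F268148) (iv F271964)
theorem F276702 : act 5 n62003 = n61410 := d30_2 (iv F271965) D62003 (iv D61410) F269095 (iv F269033)
theorem F276703 : act 6 n62003 = n61619 := d31_2 (iv F271966) D62003 (iv D61619)
theorem F276704 : act 7 n62003 = n61203 := d32_2 (iv F271967) D62003 (iv D61203)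
theorem F276705 : act 8 n62003 = n61397 := d33_2 (iv F271968) D62003 (iv D61397)
theorem F276706 : act 9 n62003 = n60953 := d34_2 (iv F271969) D62003 (iv D60953)
def n62004 : Q := act 4 n60952
theorem D62004 : act 4 n60952 = n62004 := rfl
theorem F276707 : act 0 n62004 = n60953 := d3_1 D62004 (iv D60953) D60952
theorem F276708 : act 2 n62004 = n60959 := d18_1 D62004 (iv D60959) (iv F271978)
theorem F276709 : act 3 n62004 = n61680 := d24_1 D62004 (iv D61680) (iv F273369) F273370 (iv F271979)
theorem F276710 : act 6 n62004 = n61620 := d31_2 (iv F271981) D62004 (iv D61620)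
theorem F276711 : act 7 n62004 = n61512 := d32_2 (iv F271982) D62004 (iv D61512)
theorem F276712 : act 8 n62004 = n60955 := d33_2 (iv F271983) D62004 (iv D60955)
def n62005 : Q := act 5 n60955
theorem D62005 : act 5 n60955 = n62005 := rfl
theorem F276713 : act 0 n62005 = n60956 := d4_1 D62005 (iv D60956) (iv F271999)
theorem F276714 : act 1 n62005 = n61512 := d12_1 D62005 (iv F276688) F276685
theorem F276715 : act 2 n62005 = n60964 := d19_1 D62005 (iv D60964) (iv F272000)
theorem F276716 : act 3 n62005 = n61228 := d25_1 D62005 (iv F276105) F276104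
theorem F276717 : act 4 n62005 = n61511 := d30_1 D62005 F274494 (iv F271993) F271994 D60955
theorem F276718 : act 6 n62005 = n61229 := d35_2 (iv F272001) D62005 F273354 (iv F274372) F274371
theorem F276719 : act 9 n62005 = n61636 := d38_2 F276456 D62005 (iv F276454)
def n62006 : Q := act 4 n60957
theorem D62006 : act 4 n60957 = n62006 := rfl
theorem F276720 : act 0 n62006 = n60958 := d3_1 D62006 (iv D60958) D60957
theorem F276721 : act 1 n62006 = n61558 := d11_1 D62006 (iv D61558) (iv F272008)
theorem F276722 : act 3 n62006 = n61574 := d24_1 D62006 (iv D61574) F269790 (iv F269535) (iv F272009)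
theorem F276723 : act 5 n62006 = n61425 := d30_2 (iv F272010) D62006 (iv D61425) F269147 D60256
theorem F276724 : act 6 n62006 = n61631 := d31_2 (iv F272011) D62006 (iv D61631)
theorem F276725 : act 7 n62006 = n61475 := d32_2 (iv F272012) D62006 F274353
theorem F276726 : act 9 n62006 = n60959 := d34_2 (iv F272013) D62006 (iv D60959)
def n62007 : Q := act 5 n60959
theorem D62007 : act 5 n60959 = n62007 := rfl
theorem F276727 : act 0 n62007 = n60960 := d4_1 D62007 (iv D60960) (iv F272020)
theorem F276728 : act 1 n62007 = n61754 := d12_1 D62007 (iv D61754) (iv F272021)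
theorem F276729 : act 3 n62007 = n61611 := d25_1 D62007 (iv D61611) (iv F272022)
theorem F276730 : act 4 n62007 = n61357 := d30_1 D62007 F273901 F268880 (iv F267030) D60959
theorem F276731 : act 7 n62007 = n61372 := d36_2 (iv F272024) D62007 F273967
theorem F276732 : act 8 n62007 = n60964 := d37_2 (iv F272025) D62007 (iv D60964)
theorem F276733 : act 9 n62007 = n61425 := d38_2 F276726 D62007 (iv F276723)
def n62008 : Q := act 6 n60960
theorem D62008 : act 6 n60960 = n62008 := rfl
theorem F276734 : act 1 n62008 = n60961 := d13_1 D62008 (iv D60961) (iv F272026)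
theorem F276735 : act 2 n62008 = n61230 := d20_1 D62008 (iv F276610) F276607
theorem F276736 : act 3 n62008 = n61612 := d26_1 D62008 (iv D61612) (iv F272027)
theorem F276737 : act 4 n62008 = n61356 := d31_1 D62008 F273895 (iv F272028)
theorem F276738 : act 5 n62008 = n61485 := d35_1 D62008 F274386 (iv D60499) (iv F267036) D60960
theorem F276739 : act 7 n62008 = n61712 := d39_2 (iv F272029) D62008 (iv F276672) F276673 F272082
theorem F276740 : act 8 n62008 = n60965 := d40_2 (iv F272030) D62008 (iv D60965)
theorem F276741 : act 9 n62008 = n61422 := d41_2 (iv F272031) D62008 F274181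
def n62009 : Q := act 0 n60962
theorem D62009 : act 0 n60962 = n62009 := rfl
theorem F276742 : act 1 n62009 = n61393 := d0_2 D60962 D62009 (iv D61393) (iv D60223) (iv F267054)
theorem F276743 : act 2 n62009 = n61370 := d1_2 (iv F272040) D62009 (iv D61370)
theorem F276744 : act 3 n62009 = n60966 := d2_2 (iv F272041) D62009 (iv D60966)
theorem F276745 : act 4 n62009 = n61408 := d3_2 (iv F272042) D62009 (iv D61408)
theorem F276746 : act 5 n62009 = n61634 := d4_2 (iv F272043) D62009 (iv D61634)
theorem F276747 : act 6 n62009 = n61275 := d5_2 (iv F272044) D62009 (iv D61275)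
theorem F276748 : act 7 n62009 = n60963 := d6_2 (iv F272045) D62009 (iv D60963)
theorem F276749 : act 8 n62009 = n61269 := d7_2 (iv F272046) D62009 (iv D61269)
theorem F276750 : act 9 n62009 = n61367 := d8_2 (iv F272047) D62009 (iv D61367)
def n62010 : Q := act 6 n60964
theorem D62010 : act 6 n60964 = n62010 := rfl
theorem F276751 : act 0 n62010 = n60965 := d5_1 D62010 (iv D60965) (iv F272056)
theorem F276752 : act 1 n62010 = n61757 := d13_1 D62010 F275193 (iv F272057)
theorem F276753 : act 2 n62010 = n61229 := d20_1 D62010 (iv F276718) F276715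
theorem F276754 : act 4 n62010 = n61578 := d31_1 D62010 F274735 (iv F272058)
theorem F276755 : act 5 n62010 = n61483 := d35_1 D62010 F274382 (iv D60505) (iv F267076) D60964
theorem F276756 : act 9 n62010 = n61622 := d41_2 F276510 D62010 F276511
theorem F276757 : act 7 n61713 = n62010 := d32_0 F276754 F274736 D61713
def n62011 : Q := act 4 n60966
theorem D62011 : act 4 n60966 = n62011 := rfl
theorem F276758 : act 0 n62011 = n60967 := d3_1 D62011 (iv D60967) D60966
theorem F276759 : act 2 n62011 = n61478 := d18_1 D62011 (iv D61478) (iv F272065)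
theorem F276760 : act 5 n62011 = n61680 := d30_2 (iv F272066) D62011 (iv D61680) (iv F271233) F271232
theorem F276761 : act 7 n62011 = n60968 := d32_2 (iv F272067) D62011 (iv D60968)
theorem F276762 : act 8 n62011 = n61681 := d33_2 F275291 D62011 (iv F275287)
def n62012 : Q := act 2 n60969
theorem D62012 : act 2 n60969 = n62012 := rfl
theorem F276763 : act 0 n62012 = n60970 := d1_1 D62012 (iv D60970) (iv F272076)
theorem F276764 : act 1 n62012 = n61543 := d9_1 D62012 F274609 F269702 (iv F269951) (iv F272077)
theorem F276765 : act 3 n62012 = n61483 := d17_2 D60969 D62012 (iv D61483) (iv D60312) (iv F267099)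
theorem F276766 : act 4 n62012 = n61371 := d18_2 (iv F272078) D62012 F273960
theorem F276767 : act 6 n62012 = n61372 := d20_2 F276689 D62012 (iv F276686)
theorem F276768 : act 9 n62012 = n61472 := d23_2 F276540 D62012 F276541
def n62013 : Q := act 8 n60969
theorem D62013 : act 8 n60969 = n62013 := rfl
theorem F276769 : act 0 n62013 = n60971 := d7_1 D62013 (iv D60971) (iv F272076)
theorem F276770 : act 1 n62013 = n61620 := d15_1 D62013 F274851 (iv F272077)
theorem F276771 : act 4 n62013 = n61306 := d33_1 D62013 F273709 (iv F272078)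
theorem F276772 : act 7 n62013 = n61340 := d42_1 D62013 F276667 F276666
def n62014 : Q := act 9 n60971
theorem D62014 : act 9 n60971 = n62014 := rfl
theorem F276773 : act 1 n62014 = n60972 := d16_1 D62014 (iv D60972) (iv F272084)
theorem F276774 : act 4 n62014 = n61080 := d34_1 D62014 F272719 (iv F272085)
theorem F276775 : act 6 n62014 = n61635 := d41_1 D62014 (iv F276625) F276622
theorem F276776 : act 7 n62014 = n61098 := d43_1 D62014 F272791 (iv F272086)
def n62015 : Q := act 0 n60974
theorem D62015 : act 0 n60974 = n62015 := rfl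
theorem F276777 : act 1 n62015 = n61105 := d0_2 D60974 D62015 (iv D61105) (iv D59919) (iv F267124)
theorem F276778 : act 2 n62015 = n60983 := d1_2 (iv F272100) D62015 (iv D60983)
theorem F276779 : act 3 n62015 = n61137 := d2_2 (iv F272101) D62015 (iv D61137)
theorem F276780 : act 4 n62015 = n61024 := d3_2 (iv F272102) D62015 (iv D61024)
theorem F276781 : act 5 n62015 = n61013 := d4_2 (iv F272103) D62015 (iv D61013)
theorem F276782 : act 6 n62015 = n61044 := d5_2 (iv F272104) D62015 (iv D61044)
theorem F276783 : act 7 n62015 = n60975 := d6_2 (iv F272105) D62015 (iv D60975)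
theorem F276784 : act 8 n62015 = n61201 := d7_2 (iv F272106) D62015 (iv D61201)
theorem F276785 : act 9 n62015 = n61058 := d8_2 (iv F272107) D62015 (iv D61058)
def n62016 : Q := act 0 n60976
theorem D62016 : act 0 n60976 = n62016 := rfl
theorem F276786 : act 1 n62016 = n60998 := d0_2 D60976 D62016 (iv D60998) (iv D59816) (iv F267139)
theorem F276787 : act 2 n62016 = n61058 := d1_2 (iv F272116) D62016 (iv D61058)
theorem F276788 : act 3 n62016 = n61009 := d2_2 (iv F272117) D62016 (iv D61009)
theorem F276789 : act 4 n62016 = n61044 := d3_2 (iv F272118) D62016 (iv D61044)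
theorem F276790 : act 5 n62016 = n61004 := d4_2 (iv F272119) D62016 (iv D61004)
theorem F276791 : act 6 n62016 = n61024 := d5_2 (iv F272120) D62016 (iv D61024)
theorem F276792 : act 7 n62016 = n60981 := d6_2 (iv F272121) D62016 (iv D60981)
theorem F276793 : act 8 n62016 = n61233 := d7_2 (iv F272122) D62016 (iv D61233)
theorem F276794 : act 9 n62016 = n60983 := d8_2 (iv F272123) D62016 (iv D60983)
def n62017 : Q := act 0 n60977
theorem D62017 : act 0 n60977 = n62017 := rfl
theorem F276795 : act 1 n62017 = n61004 := d0_2 D60977 D62017 (iv D61004) (iv D59821) (iv F267147)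
theorem F276796 : act 2 n62017 = n61184 := d1_2 (iv F272124) D62017 (iv D61184)
theorem F276797 : act 3 n62017 = n60981 := d2_2 (iv F272125) D62017 (iv D60981)
theorem F276798 : act 5 n62017 = n60998 := d4_2 (iv F272126) D62017 (iv D60998)
theorem F276799 : act 6 n62017 = n61162 := d5_2 (iv F272127) D62017 (iv D61162)
theorem F276800 : act 7 n62017 = n61009 := d6_2 (iv F272128) D62017 (iv D61009)
theorem F276801 : act 9 n62017 = n60984 := d8_2 (iv F272129) D62017 (iv D60984)
def n62018 : Q := act 4 n60977
theorem D62018 : act 4 n60977 = n62018 := rfl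
theorem F276802 : act 1 n62018 = n60978 := d11_1 D62018 (iv D60978) D60977
theorem F276803 : act 2 n62018 = n61185 := d18_1 D62018 (iv D61185) (iv F272124)
theorem F276804 : act 3 n62018 = n61052 := d24_1 D62018 (iv D61052) F267556 (iv F267176) (iv F272125)
theorem F276805 : act 5 n62018 = n61113 := d30_2 (iv F272126) D62018 (iv D61113) F267802 (iv F267268)
theorem F276806 : act 6 n62018 = n61163 := d31_2 (iv F272127) D62018 (iv D61163)
theorem F276807 : act 7 n62018 = n61010 := d32_2 (iv F272128) D62018 (iv D61010)
theorem F276808 : act 9 n62018 = n60985 := d34_2 (iv F272129) D62018 (iv D60985)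
def n62019 : Q := act 0 n60979
theorem D62019 : act 0 n60979 = n62019 := rfl
theorem F276809 : act 1 n62019 = n61009 := d0_2 D60979 D62019 (iv D61009) (iv D59826) (iv F267160)
theorem F276810 : act 2 n62019 = n61506 := d1_2 (iv F272137) D62019 (iv D61506)
theorem F276811 : act 3 n62019 = n60998 := d2_2 (iv F272138) D62019 (iv D60998)
theorem F276812 : act 5 n62019 = n60981 := d4_2 (iv F272139) D62019 (iv D60981)
theorem F276813 : act 6 n62019 = n61501 := d5_2 (iv F272140) D62019 (iv D61501)
theorem F276814 : act 7 n62019 = n61004 := d6_2 (iv F272141) D62019 (iv D61004)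
theorem F276815 : act 8 n62019 = n61689 := d7_2 (iv F272142) D62019 (iv D61689)
theorem F276816 : act 9 n62019 = n60986 := d8_2 (iv F272143) D62019 (iv D60986)
def n62020 : Q := act 4 n60979
theorem D62020 : act 4 n60979 = n62020 := rfl
theorem F276817 : act 1 n62020 = n60980 := d11_1 D62020 (iv D60980) D60979
theorem F276818 : act 2 n62020 = n61507 := d18_1 D62020 (iv D61507) (iv F272137)
theorem F276819 : act 3 n62020 = n61111 := d24_1 D62020 (iv D61111) F267795 (iv F267268) (iv F272138)
theorem F276820 : act 5 n62020 = n61055 := d30_2 (iv F272139) D62020 (iv D61055) F267570 (iv F267176)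
theorem F276821 : act 6 n62020 = n61502 := d31_2 (iv F272140) D62020 (iv D61502)
theorem F276822 : act 7 n62020 = n61005 := d32_2 (iv F272141) D62020 (iv D61005)
theorem F276823 : act 8 n62020 = n61690 := d33_2 (iv F272142) D62020 (iv D61690)
theorem F276824 : act 9 n62020 = n60987 := d34_2 (iv F272143) D62020 (iv D60987)
def n62021 : Q := act 0 n60982
theorem D62021 : act 0 n60982 = n62021 := rfl
theorem F276825 : act 1 n62021 = n61012 := d0_2 D60982 D62021 (iv D61012) (iv D59830) (iv F267180)
theorem F276826 : act 2 n62021 = n61044 := d1_2 (iv F272158) D62021 (iv D61044)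
theorem F276827 : act 3 n62021 = n61019 := d2_2 (iv F272159) D62021 (iv D61019)
theorem F276828 : act 4 n62021 = n61058 := d3_2 (iv F272160) D62021 (iv D61058)
theorem F276829 : act 5 n62021 = n61029 := d4_2 (iv F272161) D62021 (iv D61029)
theorem F276830 : act 6 n62021 = n60983 := d5_2 (iv F272162) D62021 (iv D60983)
theorem F276831 : act 7 n62021 = n61023 := d6_2 (iv F272163) D62021 (iv D61023)
theorem F276832 : act 8 n62021 = n61204 := d7_2 (iv F272164) D62021 (iv D61204)
theorem F276833 : act 9 n62021 = n61024 := d8_2 (iv F272165) D62021 (iv D61024)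
def n62022 : Q := act 4 n60984
theorem D62022 : act 4 n60984 = n62022 := rfl
theorem F276834 : act 0 n62022 = n60985 := d3_1 D62022 (iv D60985) D60984
theorem F276835 : act 1 n62022 = n61017 := d11_1 D62022 (iv D61017) (iv F272172)
theorem F276836 : act 2 n62022 = n61668 := d18_1 D62022 (iv F275232) F275230
theorem F276837 : act 3 n62022 = n61070 := d24_1 D62022 (iv D61070) F267640 (iv F267219) (iv F272173)
theorem F276838 : act 5 n62022 = n61150 := d30_2 (iv F272174) D62022 (iv D61150) F267948 (iv F267351)
theorem F276839 : act 6 n62022 = n61637 := d31_2 (iv F272175) D62022 (iv D61637)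
theorem F276840 : act 7 n62022 = n61021 := d32_2 (iv F272176) D62022 (iv D61021)
theorem F276841 : act 8 n62022 = n61225 := d33_2 (iv F272177) D62022 (iv D61225)
def n62023 : Q := act 4 n60986
theorem D62023 : act 4 n60986 = n62023 := rfl
theorem F276842 : act 0 n62023 = n60987 := d3_1 D62023 (iv D60987) D60986
theorem F276843 : act 1 n62023 = n61021 := d11_1 D62023 (iv D61021) (iv F272185)
theorem F276844 : act 2 n62023 = n61676 := d18_1 D62023 (iv D61676) (iv F272186)
theorem F276845 : act 3 n62023 = n61149 := d24_1 D62023 (iv D61149) F267942 (iv F267351) (iv F272187)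
theorem F276846 : act 5 n62023 = n61072 := d30_2 (iv F272188) D62023 (iv D61072) F267649 (iv F267219)
theorem F276847 : act 6 n62023 = n61678 := d31_2 (iv F272189) D62023 (iv D61678)
theorem F276848 : act 7 n62023 = n61017 := d32_2 (iv F272190) D62023 (iv D61017)
theorem F276849 : act 8 n62023 = n61205 := d33_2 (iv F272191) D62023 (iv D61205)
def n62024 : Q := act 1 n60988
theorem D62024 : act 1 n60988 = n62024 := rfl
theorem F276850 : act 2 n62024 = n61167 := d9_2 D60988 D62024 (iv D61167) (iv D59980) (iv F267223)
theorem F276851 : act 3 n62024 = n61001 := d10_2 (iv F272200) D62024 (iv D61001)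
theorem F276852 : act 5 n62024 = n61156 := d12_2 (iv F272201) D62024 (iv D61156)
theorem F276853 : act 6 n62024 = n61206 := d13_2 (iv F272202) D62024 (iv D61206)
theorem F276854 : act 7 n62024 = n61648 := d14_2 (iv F272203) D62024 (iv D61648)
theorem F276855 : act 8 n62024 = n60992 := d15_2 (iv F272204) D62024 (iv D60992)
theorem F276856 : act 9 n62024 = n61153 := d16_2 (iv F272205) D62024 (iv D61153)
def n62025 : Q := act 4 n60988
theorem D62025 : act 4 n60988 = n62025 := rfl
theorem F276857 : act 0 n62025 = n61640 := d3_1 D62025 (iv D61640) (iv F272199)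
theorem F276858 : act 2 n62025 = n60989 := d18_1 D62025 (iv D60989) D60988
theorem F276859 : act 6 n62025 = n61207 := d31_2 (iv F272202) D62025 (iv D61207)
theorem F276860 : act 7 n62025 = n61649 := d32_2 (iv F272203) D62025 (iv D61649)
theorem F276861 : act 8 n62025 = n60993 := d33_2 (iv F272204) D62025 (iv D60993)
theorem F276862 : act 9 n62025 = n61154 := d34_2 (iv F272205) D62025 (iv D61154)
def n62026 : Q := act 5 n60989
theorem D62026 : act 5 n60989 = n62026 := rfl
theorem F276863 : act 0 n62026 = n61641 := d4_1 D62026 (iv D61641) (iv F272206)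
theorem F276864 : act 1 n62026 = n61169 := d12_1 D62026 (iv D61169) (iv F272207)
theorem F276865 : act 3 n62026 = n62026 := d25_1 D62026 (iv D62026) F272208
theorem F276866 : act 4 n62026 = n61158 := d30_1 D62026 (iv D61158) (iv D59970) (iv F267224) D60989
theorem F276867 : act 6 n62026 = n61197 := d35_2 (iv F272209) D62026 F273197 F268717 (iv F268193)
theorem F276868 : act 7 n62026 = n61650 := d36_2 (iv F272210) D62026 (iv D61650)
theorem F276869 : act 8 n62026 = n60994 := d37_2 (iv F272211) D62026 (iv D60994)
theorem F276870 : act 9 n62026 = n61155 := d38_2 (iv F272212) D62026 (iv D61155)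
def n62027 : Q := act 1 n60990
theorem D62027 : act 1 n60990 = n62027 := rfl
theorem F276871 : act 2 n62027 = n61120 := d9_2 D60990 D62027 (iv D61120) (iv D59933) (iv F267230)
theorem F276872 : act 3 n62027 = n60995 := d10_2 (iv F272214) D62027 (iv D60995)
theorem F276873 : act 5 n62027 = n60992 := d12_2 (iv F272215) D62027 (iv D60992)
theorem F276874 : act 6 n62027 = n61215 := d13_2 (iv F272216) D62027 (iv D61215)
theorem F276875 : act 7 n62027 = n61639 := d14_2 (iv F272217) D62027 (iv D61639)
theorem F276876 : act 8 n62027 = n61156 := d15_2 (iv F272218) D62027 (iv D61156)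
theorem F276877 : act 9 n62027 = n61114 := d16_2 (iv F272219) D62027 (iv D61114)
def n62028 : Q := act 4 n60990
theorem D62028 : act 4 n60990 = n62028 := rfl
theorem F276878 : act 0 n62028 = n61649 := d3_1 D62028 (iv D61649) (iv F272213)
theorem F276879 : act 2 n62028 = n60991 := d18_1 D62028 (iv D60991) D60990
theorem F276880 : act 6 n62028 = n61216 := d31_2 (iv F272216) D62028 (iv D61216)
theorem F276881 : act 7 n62028 = n61640 := d32_2 (iv F272217) D62028 (iv D61640)
theorem F276882 : act 8 n62028 = n61157 := d33_2 (iv F272218) D62028 (iv D61157)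
theorem F276883 : act 9 n62028 = n61115 := d34_2 (iv F272219) D62028 (iv D61115)
def n62029 : Q := act 5 n60991
theorem D62029 : act 5 n60991 = n62029 := rfl
theorem F276884 : act 0 n62029 = n61650 := d4_1 D62029 (iv D61650) (iv F272220)
theorem F276885 : act 1 n62029 = n61122 := d12_1 D62029 (iv D61122) (iv F272221)
theorem F276886 : act 3 n62029 = n62029 := d25_1 D62029 (iv D62029) F272222
theorem F276887 : act 4 n62029 = n60994 := d30_1 D62029 (iv D60994) (iv D59811) (iv F267231) D60991
theorem F276888 : act 6 n62029 = n61136 := d35_2 (iv F272223) D62029 F272955 F268849 (iv F268230)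
theorem F276889 : act 7 n62029 = n61641 := d36_2 (iv F272224) D62029 (iv D61641)
theorem F276890 : act 8 n62029 = n61158 := d37_2 (iv F272225) D62029 (iv D61158)
theorem F276891 : act 9 n62029 = n61116 := d38_2 (iv F272226) D62029 (iv D61116)
def n62030 : Q := act 0 n60992
theorem D62030 : act 0 n60992 = n62030 := rfl
theorem F276892 : act 1 n62030 = n61655 := d0_2 D60992 D62030 (iv D61655) (iv D60526) (iv F267236)
theorem F276893 : act 3 n62030 = n60997 := d2_2 (iv F272227) D62030 (iv D60997)
theorem F276894 : act 6 n62030 = n61218 := d5_2 (iv F272228) D62030 (iv D61218)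
theorem F276895 : act 9 n62030 = n61209 := d8_2 (iv F272229) D62030 (iv D61209)
def n62031 : Q := act 4 n60992
theorem D62031 : act 4 n60992 = n62031 := rfl
theorem F276896 : act 1 n62031 = n60993 := d11_1 D62031 (iv D60993) D60992
theorem F276897 : act 3 n62031 = n61098 := d24_1 D62031 (iv D61098) F267744 (iv F267263) (iv F272227)
theorem F276898 : act 6 n62031 = n61219 := d31_2 (iv F272228) D62031 (iv D61219)
theorem F276899 : act 9 n62031 = n61210 := d34_2 (iv F272229) D62031 (iv D61210)
def n62032 : Q := act 5 n60993
theorem D62032 : act 5 n60993 = n62032 := rfl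
theorem F276900 : act 0 n62032 = n61657 := d4_1 D62032 (iv D61657) (iv F272230)
theorem F276901 : act 2 n62032 = n60994 := d19_1 D62032 (iv D60994) (iv F272231)
theorem F276902 : act 3 n62032 = n61099 := d25_1 D62032 (iv D61099) (iv F272232)
theorem F276903 : act 6 n62032 = n61363 := d35_2 (iv F272233) D62032 (iv D61363) F268896 (iv F268246)
theorem F276904 : act 9 n62032 = n61211 := d38_2 (iv F272234) D62032 (iv D61211)
def n62033 : Q := act 0 n60995
theorem D62033 : act 0 n60995 = n62033 := rfl
theorem F276905 : act 1 n62033 = n61689 := d0_2 D60995 D62033 (iv D61689) (iv D60582) (iv F267250)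
theorem F276906 : act 2 n62033 = n61522 := d1_2 (iv F272239) D62033 (iv D61522)
theorem F276907 : act 5 n62033 = n60997 := d4_2 (iv F272240) D62033 (iv D60997)
theorem F276908 : act 6 n62033 = n61684 := d5_2 (iv F272241) D62033 (iv D61684)
theorem F276909 : act 8 n62033 = n61009 := d7_2 (iv F272242) D62033 (iv D61009)
theorem F276910 : act 9 n62033 = n61212 := d8_2 (iv F272243) D62033 (iv D61212)
def n62034 : Q := act 4 n60995
theorem D62034 : act 4 n60995 = n62034 := rfl
theorem F276911 : act 1 n62034 = n60996 := d11_1 D62034 (iv D60996) D60995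
theorem F276912 : act 2 n62034 = n61523 := d18_1 D62034 (iv D61523) (iv F272239)
theorem F276913 : act 5 n62034 = n61103 := d30_2 (iv F272240) D62034 (iv D61103) F267758 (iv F267263)
theorem F276914 : act 6 n62034 = n61685 := d31_2 (iv F272241) D62034 (iv D61685)
theorem F276915 : act 8 n62034 = n61010 := d33_2 (iv F272242) D62034 (iv D61010)
theorem F276916 : act 9 n62034 = n61213 := d34_2 (iv F272243) D62034 (iv D61213)
def n62035 : Q := act 3 n60996
theorem D62035 : act 3 n60996 = n62035 := rfl
theorem F276917 : act 0 n62035 = n61691 := d2_1 D62035 (iv D61691) (iv F272244)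
theorem F276918 : act 2 n62035 = n62035 := d17_1 D62035 (iv D62035) F272245 F267257 (iv F272245)
theorem F276919 : act 5 n62035 = n61104 := d25_2 (iv F272246) D62035 (iv D61104)
theorem F276920 : act 6 n62035 = n61407 := d26_2 (iv F272247) D62035 F274120
theorem F276921 : act 8 n62035 = n61404 := d28_2 (iv F272248) D62035 (iv D61404) F272336 (iv D61011)
theorem F276922 : act 9 n62035 = n61214 := d29_2 (iv F272249) D62035 (iv D61214)
def n62036 : Q := act 0 n60999
theorem D62036 : act 0 n60999 = n62036 := rfl
theorem F276923 : act 1 n62036 = n61137 := d0_2 D60999 D62036 (iv D61137) (iv D59949) (iv F267272)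
theorem F276924 : act 2 n62036 = n61004 := d1_2 (iv F272261) D62036 (iv D61004)
theorem F276925 : act 3 n62036 = n61105 := d2_2 (iv F272262) D62036 (iv D61105)
theorem F276926 : act 5 n62036 = n61058 := d4_2 (iv F272263) D62036 (iv D61058)
theorem F276927 : act 6 n62036 = n61110 := d5_2 (iv F272264) D62036 (iv D61110)
theorem F276928 : act 7 n62036 = n61506 := d6_2 (iv F272265) D62036 (iv D61506)
theorem F276929 : act 8 n62036 = n61270 := d7_2 (iv F272266) D62036 (iv D61270)
theorem F276930 : act 9 n62036 = n61013 := d8_2 (iv F272267) D62036 (iv D61013)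
def n62037 : Q := act 4 n60999
theorem D62037 : act 4 n60999 = n62037 := rfl
theorem F276931 : act 1 n62037 = n61000 := d11_1 D62037 (iv D61000) D60999
theorem F276932 : act 2 n62037 = n61005 := d18_1 D62037 (iv D61005) (iv F272261)
theorem F276933 : act 3 n62037 = n61502 := d24_1 D62037 (iv D61502) F269462 (iv F267771) (iv F272262)
theorem F276934 : act 5 n62037 = n61030 := d30_2 (iv F272263) D62037 (iv D61030) (iv F272161) F272160
theorem F276935 : act 6 n62037 = n61111 := d31_2 (iv F272264) D62037 (iv D61111)
theorem F276936 : act 7 n62037 = n61507 := d32_2 (iv F272265) D62037 (iv D61507)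
theorem F276937 : act 8 n62037 = n61271 := d33_2 (iv F272266) D62037 (iv D61271)
theorem F276938 : act 9 n62037 = n61014 := d34_2 (iv F272267) D62037 (iv D61014)
def n62038 : Q := act 0 n61001
theorem D62038 : act 0 n61001 = n62038 := rfl
theorem F276939 : act 2 n62038 = n61270 := d1_2 (iv F272276) D62038 (iv D61270)
theorem F276940 : act 5 n62038 = n61233 := d4_2 (iv F272277) D62038 (iv D61233)
theorem F276941 : act 6 n62038 = n61642 := d5_2 (iv F272278) D62038 (iv D61642)
theorem F276942 : act 7 n62038 = n61689 := d6_2 (iv F272279) D62038 (iv D61689)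
theorem F276943 : act 8 n62038 = n61004 := d7_2 (iv F272280) D62038 (iv D61004)
theorem F276944 : act 9 n62038 = n61696 := d8_2 (iv F272281) D62038 (iv D61696)
def n62039 : Q := act 4 n61001
theorem D62039 : act 4 n61001 = n62039 := rfl
theorem F276945 : act 1 n62039 = n61002 := d11_1 D62039 (iv D61002) D61001
theorem F276946 : act 2 n62039 = n61271 := d18_1 D62039 (iv D61271) (iv F272276)
theorem F276947 : act 6 n62039 = n61643 := d31_2 (iv F272278) D62039 (iv D61643)
theorem F276948 : act 7 n62039 = n61690 := d32_2 (iv F272279) D62039 (iv D61690)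
theorem F276949 : act 8 n62039 = n61005 := d33_2 (iv F272280) D62039 (iv D61005)
theorem F276950 : act 9 n62039 = n61697 := d34_2 (iv F272281) D62039 (iv D61697)
def n62040 : Q := act 3 n61002
theorem D62040 : act 3 n61002 = n62040 := rfl
theorem F276951 : act 2 n62040 = n62040 := d17_1 D62040 (iv D62040) F272282 F267293 (iv F272282)
theorem F276952 : act 6 n62040 = n61644 := d26_2 (iv F272283) D62040 (iv D61644)
theorem F276953 : act 7 n62040 = n61691 := d27_2 (iv F272284) D62040 (iv D61691)
theorem F276954 : act 8 n62040 = n61125 := d28_2 (iv F272285) D62040 (iv D61125) F267852 (iv F267302)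
theorem F276955 : act 9 n62040 = n61698 := d29_2 (iv F272286) D62040 (iv D61698)
def n62041 : Q := act 5 n61002
theorem D62041 : act 5 n61002 = n62041 := rfl
theorem F276956 : act 0 n62041 = n61082 := d4_1 D62041 (iv F275941) F275939
theorem F276957 : act 2 n62041 = n61003 := d19_1 D62041 (iv D61003) (iv F272282)
theorem F276958 : act 4 n62041 = n61025 := d30_1 D62041 F272414 F267462 (iv F267287) D61002
theorem F276959 : act 7 n62041 = n61041 := d36_2 (iv F272284) D62041 F272513
theorem F276960 : act 8 n62041 = n61006 := d37_2 (iv F272285) D62041 (iv D61006)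
theorem F276961 : act 9 n62041 = n61241 := d38_2 (iv F272286) D62041 F273411
theorem F276962 : act 6 n61142 = n62041 := d40_3 F276960 (iv F272308) (iv F272987)
def n62042 : Q := act 4 n61004
theorem D62042 : act 4 n61004 = n62042 := rfl
theorem F276963 : act 0 n62042 = n61005 := d3_1 D62042 (iv D61005) D61004
theorem F276964 : act 3 n62042 = n61129 := d24_1 D62042 (iv D61129) F267863 (iv F267332) (iv F272295)
theorem F276965 : act 6 n62042 = n61646 := d31_2 (iv F272296) D62042 (iv D61646)
theorem F276966 : act 9 n62042 = n61017 := d34_2 (iv F272297) D62042 (iv D61017)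
def n62043 : Q := act 5 n61005
theorem D62043 : act 5 n61005 = n62043 := rfl
theorem F276967 : act 1 n62043 = n61006 := d12_1 D62043 (iv D61006) (iv F272298)
theorem F276968 : act 2 n62043 = n61030 := d19_1 D62043 (iv F276934) F276932
theorem F276969 : act 3 n62043 = n61130 := d25_1 D62043 (iv D61130) (iv F272299)
theorem F276970 : act 4 n62043 = n61026 := d30_1 D62043 F272421 (iv F272118) F272119 D61005
theorem F276971 : act 7 n62043 = n61055 := d36_2 F276822 D62043 (iv F276820)
theorem F276972 : act 9 n62043 = n61018 := d38_2 (iv F272301) D62043 (iv D61018)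
theorem F276973 : act 6 n61148 = n62043 := d41_3 F276972 (iv F275312) F275314
def n62044 : Q := act 0 n61007
theorem D62044 : act 0 n61007 = n62044 := rfl
theorem F276974 : act 1 n62044 = n61501 := d0_2 D61007 D62044 (iv D61501) (iv D60345) (iv F267312)
theorem F276975 : act 2 n62044 = n61054 := d1_2 (iv F272309) D62044 (iv D61054)
theorem F276976 : act 3 n62044 = n61024 := d2_2 (iv F272310) D62044 (iv D61024)
theorem F276977 : act 5 n62044 = n61023 := d4_2 (iv F272311) D62044 (iv D61023)
theorem F276978 : act 6 n62044 = n61009 := d5_2 (iv F272312) D62044 (iv D61009)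
theorem F276979 : act 7 n62044 = n61029 := d6_2 (iv F272313) D62044 (iv D61029)
theorem F276980 : act 8 n62044 = n61684 := d7_2 (iv F272314) D62044 (iv D61684)
theorem F276981 : act 9 n62044 = n61019 := d8_2 (iv F272315) D62044 (iv D61019)
def n62045 : Q := act 4 n61007
theorem D62045 : act 4 n61007 = n62045 := rfl
theorem F276982 : act 1 n62045 = n61008 := d11_1 D62045 (iv D61008) D61007
theorem F276983 : act 2 n62045 = n61055 := d18_1 D62045 (iv D61055) (iv F272309)
theorem F276984 : act 3 n62045 = n61138 := d24_1 D62045 (iv D61138) (iv F272101) F272102 (iv F272310)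
theorem F276985 : act 5 n62045 = n61507 := d30_2 (iv F272311) D62045 (iv D61507) F269496 (iv F267414)
theorem F276986 : act 6 n62045 = n61010 := d31_2 (iv F272312) D62045 (iv D61010)
theorem F276987 : act 7 n62045 = n61030 := d32_2 (iv F272313) D62045 (iv D61030)
theorem F276988 : act 8 n62045 = n61685 := d33_2 (iv F272314) D62045 (iv D61685)
theorem F276989 : act 9 n62045 = n61020 := d34_2 (iv F272315) D62045 (iv D61020)
def n62046 : Q := act 4 n61009
theorem D62046 : act 4 n61009 = n62046 := rfl
theorem F276990 : act 0 n62046 = n61010 := d3_1 D62046 (iv D61010) D61009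
theorem F276991 : act 5 n62046 = n61133 := d30_2 (iv F272324) D62046 (iv D61133) F267882 (iv F267332)
theorem F276992 : act 9 n62046 = n61021 := d34_2 (iv F272325) D62046 (iv D61021)
def n62047 : Q := act 3 n61010
theorem D62047 : act 3 n61010 = n62047 := rfl
theorem F276993 : act 1 n62047 = n61011 := d10_1 D62047 (iv D61011) (iv F272326)
theorem F276994 : act 4 n62047 = n61043 := d24_2 D61010 D62047 F272524 (iv F272118) F272117
theorem F276995 : act 5 n62047 = n61134 := d25_2 (iv F272327) D62047 (iv D61134)
theorem F276996 : act 6 n62047 = n61138 := d26_2 F276986 D62047 (iv F276984)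
theorem F276997 : act 7 n62047 = n61052 := d27_2 F276807 D62047 (iv F276804)
theorem F276998 : act 9 n62047 = n61022 := d29_2 (iv F272328) D62047 (iv D61022)
theorem F276999 : act 2 n62047 = n61067 := d46_4 F267265 (iv F267327) D61010 D62047 F272648 F267628 (iv F268039) D61173 F273123 (iv F273155) F273154 F268143 (iv F269590) F269593 (iv D59511) (iv D58319) (iv D57139) F250276 (iv F249581) (iv F253553) (iv D56459) (iv F251466) F251465 F244915 F237382 F230777 F221489 (iv F229551) F229548 D51259 F229590 F226823 F235681 F235675 F226794 F226792 F226807 (iv D50779) (iv F221382) F221381 F211680 (iv D42700) F124337 (iv F125324) (iv F179814) (iv F213099) (iv F223301) (iv F229061) D53044 (iv F245134) (iv F251713) D57349 D58515 D59715 D60903 (iv F276433) F276430 F273863 F270231 (iv F270200) (iv F272250) (iv D60997)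
theorem F277000 : act 8 n61403 = n62047 := d22_0 F276999 (iv F276575) F276573
def n62048 : Q := act 4 n61013
theorem D62048 : act 4 n61013 = n62048 := rfl
theorem F277001 : act 0 n62048 = n61014 := d3_1 D62048 (iv D61014) D61013
theorem F277002 : act 1 n62048 = n61681 := d11_1 D62048 (iv F275287) F275284
theorem F277003 : act 2 n62048 = n61017 := d18_1 D62048 (iv D61017) (iv F272345)
theorem F277004 : act 3 n62048 = n61678 := d24_1 D62048 (iv D61678) (iv F272338) F272339 (iv F272346)
theorem F277005 : act 5 n62048 = n61679 := d30_2 F276781 D62048 (iv D61679) (iv F272409) (iv F276780)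
theorem F277006 : act 6 n62048 = n61149 := d31_2 (iv F272347) D62048 (iv D61149)
theorem F277007 : act 7 n62048 = n61676 := d32_2 (iv F272348) D62048 (iv D61676)
def n62049 : Q := act 4 n61015
theorem D62049 : act 4 n61015 = n62049 := rfl
theorem F277008 : act 0 n62049 = n61016 := d3_1 D62049 (iv D61016) D61015
theorem F277009 : act 1 n62049 = n61225 := d11_1 D62049 (iv D61225) (iv F272355)
theorem F277010 : act 3 n62049 = n61706 := d24_1 D62049 (iv D61706) F270228 (iv F268305) (iv F272356)
theorem F277011 : act 5 n62049 = n61285 := d30_2 (iv F272357) D62049 (iv D61285) F268599 (iv F268176)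
theorem F277012 : act 6 n62049 = n61658 := d31_2 (iv F272358) D62049 (iv D61658)
theorem F277013 : act 7 n62049 = n61205 := d32_2 (iv F272359) D62049 (iv D61205)
theorem F277014 : act 8 n62049 = n61017 := d33_2 (iv F272360) D62049 (iv D61017)
theorem F277015 : act 9 n62049 = n61699 := d34_2 (iv F272361) D62049 (iv D61699)
def n62050 : Q := act 5 n61017
theorem D62050 : act 5 n61017 = n62050 := rfl
theorem F277016 : act 0 n62050 = n61018 := d4_1 D62050 (iv D61018) (iv F272369)
theorem F277017 : act 1 n62050 = n61150 := d12_1 D62050 (iv F276838) F276835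
theorem F277018 : act 2 n62050 = n61679 := d19_1 D62050 (iv F277005) F277003
theorem F277019 : act 3 n62050 = n61190 := d25_1 D62050 (iv D61190) (iv F272370)
theorem F277020 : act 4 n62050 = n61061 := d30_1 D62050 F272619 (iv F272168) F272169 D61017
theorem F277021 : act 7 n62050 = n61072 := d36_2 F276848 D62050 (iv F276846)
theorem F277022 : act 8 n62050 = n61285 := d37_2 F277014 D62050 (iv F277011)
def n62051 : Q := act 4 n61019
theorem D62051 : act 4 n61019 = n62051 := rfl
theorem F277023 : act 0 n62051 = n61020 := d3_1 D62051 (iv D61020) D61019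
theorem F277024 : act 1 n62051 = n61678 := d11_1 D62051 (iv D61678) (iv F272378)
theorem F277025 : act 2 n62051 = n61072 := d18_1 D62051 (iv D61072) (iv F272379)
theorem F277026 : act 3 n62051 = n61681 := d24_1 D62051 (iv F275287) F275286 (iv F276828) F276827
theorem F277027 : act 5 n62051 = n61676 := d30_2 (iv F272380) D62051 (iv D61676) (iv F272112) F272111
theorem F277028 : act 6 n62051 = n61021 := d31_2 (iv F272381) D62051 (iv D61021)
theorem F277029 : act 7 n62051 = n61679 := d32_2 (iv F272382) D62051 (iv D61679)
theorem F277030 : act 8 n62051 = n61228 := d33_2 (iv F272383) D62051 (iv D61228)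
def n62052 : Q := act 3 n61021
theorem D62052 : act 3 n61021 = n62052 := rfl
theorem F277031 : act 0 n62052 = n61022 := d2_1 D62052 (iv D61022) (iv F272391)
theorem F277032 : act 1 n62052 = n61149 := d10_1 D62052 (iv F276845) F276843
theorem F277033 : act 4 n62052 = n61059 := d24_2 D61021 D62052 F272608 (iv F272168) F272167
theorem F277034 : act 5 n62052 = n61194 := d25_2 (iv F272392) D62052 (iv D61194)
theorem F277035 : act 6 n62052 = n61681 := d26_2 F277028 D62052 (iv F277026)
theorem F277036 : act 7 n62052 = n61070 := d27_2 F276840 D62052 (iv F276837)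
theorem F277037 : act 2 n61683 = n62052 := d20_3 F277035 F275006 D61683
def n62053 : Q := act 1 n61025
theorem D62053 : act 1 n61025 = n62053 := rfl
theorem F277038 : act 2 n62053 = n61027 := d9_2 D61025 D62053 (iv D61027) (iv D59848) (iv F267423)
theorem F277039 : act 3 n62053 = n61411 := d10_2 (iv F272413) D62053 (iv D61411)
theorem F277040 : act 5 n62053 = n61031 := d12_2 (iv F272414) D62053 (iv D61031)
theorem F277041 : act 6 n62053 = n61141 := d13_2 (iv F272415) D62053 (iv D61141)
theorem F277042 : act 7 n62053 = n61040 := d14_2 (iv F272416) D62053 (iv D61040)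
theorem F277043 : act 8 n62053 = n61026 := d15_2 (iv F272417) D62053 (iv D61026)
theorem F277044 : act 9 n62053 = n61240 := d16_2 (iv F272418) D62053 (iv D61240)
def n62054 : Q := act 0 n61026
theorem D62054 : act 0 n61026 = n62054 := rfl
theorem F277045 : act 1 n62054 = n61112 := d0_2 D61026 D62054 (iv D61112) (iv D59925) (iv F267429)
theorem F277046 : act 2 n62054 = n61029 := d1_2 (iv F272419) D62054 (iv D61029)
theorem F277047 : act 3 n62054 = n61062 := d2_2 (iv F272420) D62054 (iv D61062)
theorem F277048 : act 5 n62054 = n61044 := d4_2 (iv F272421) D62054 (iv D61044)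
theorem F277049 : act 6 n62054 = n61147 := d5_2 (iv F272422) D62054 (iv D61147)
theorem F277050 : act 7 n62054 = n61054 := d6_2 (iv F272423) D62054 (iv D61054)
theorem F277051 : act 9 n62054 = n61061 := d8_2 (iv F272424) D62054 (iv D61061)
def n62055 : Q := act 0 n61027
theorem D62055 : act 0 n61027 = n62055 := rfl
theorem F277052 : act 1 n62055 = n61222 := d0_2 D61027 D62055 (iv D61222) (iv D60042) (iv F267435)
theorem F277053 : act 3 n62055 = n61236 := d2_2 (iv F272425) D62055 (iv D61236)
theorem F277054 : act 5 n62055 = n61204 := d4_2 (iv F272426) D62055 (iv D61204)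
theorem F277055 : act 6 n62055 = n61651 := d5_2 (iv F272427) D62055 (iv D61651)
theorem F277056 : act 7 n62055 = n61684 := d6_2 (iv F272428) D62055 (iv D61684)
theorem F277057 : act 8 n62055 = n61029 := d7_2 (iv F272429) D62055 (iv D61029)
theorem F277058 : act 9 n62055 = n61686 := d8_2 (iv F272430) D62055 (iv D61686)
def n62056 : Q := act 4 n61027
theorem D62056 : act 4 n61027 = n62056 := rfl
theorem F277059 : act 1 n62056 = n61028 := d11_1 D62056 (iv D61028) D61027
theorem F277060 : act 5 n62056 = n61271 := d30_2 (iv F272426) D62056 (iv D61271) F268540 (iv F268170)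
theorem F277061 : act 6 n62056 = n61652 := d31_2 (iv F272427) D62056 (iv D61652)
theorem F277062 : act 7 n62056 = n61685 := d32_2 (iv F272428) D62056 (iv D61685)
theorem F277063 : act 8 n62056 = n61030 := d33_2 (iv F272429) D62056 (iv D61030)
theorem F277064 : act 9 n62056 = n61687 := d34_2 (iv F272430) D62056 (iv D61687)
theorem F277065 : act 3 n61751 = n62056 := d28_5 F277063 F272444 F270118 D60668 D61751
def n62057 : Q := act 4 n61029
theorem D62057 : act 4 n61029 = n62057 := rfl
theorem F277066 : act 0 n62057 = n61030 := d3_1 D62057 (iv D61030) D61029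
theorem F277067 : act 1 n62057 = n61669 := d11_1 D62057 (iv D61669) (iv F272439)
theorem F277068 : act 3 n62057 = n61677 := d24_1 D62057 (iv D61677) (iv F272110) F272111 (iv F272440)
theorem F277069 : act 6 n62057 = n61660 := d31_2 (iv F272441) D62057 (iv D61660)
theorem F277070 : act 9 n62057 = n61679 := d34_2 (iv F272442) D62057 (iv D61679)
def n62058 : Q := act 0 n61031
theorem D62058 : act 0 n61031 = n62058 := rfl
theorem F277071 : act 1 n62058 = n61083 := d0_2 D61031 D62058 (iv D61083) (iv D59902) (iv F267460)
theorem F277072 : act 2 n62058 = n61204 := d1_2 (iv F272447) D62058 (iv D61204)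
theorem F277073 : act 3 n62058 = n61618 := d2_2 (iv F272448) D62058 (iv D61618)
theorem F277074 : act 4 n62058 = n61233 := d3_2 (iv F272449) D62058 (iv D61233)
theorem F277075 : act 6 n62058 = n61201 := d5_2 (iv F272450) D62058 (iv D61201)
theorem F277076 : act 7 n62058 = n61042 := d6_2 (iv F272451) D62058 (iv D61042)
theorem F277077 : act 8 n62058 = n61044 := d7_2 (iv F272452) D62058 (iv D61044)
theorem F277078 : act 9 n62058 = n61242 := d8_2 (iv F272453) D62058 (iv D61242)
def n62059 : Q := act 1 n61032
theorem D62059 : act 1 n61032 = n62059 := rfl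
theorem F277079 : act 2 n62059 = n61569 := d9_2 D61032 D62059 (iv D61569) (iv D60426) (iv F267468)
theorem F277080 : act 3 n62059 = n61047 := d10_2 (iv F272455) D62059 (iv D61047)
theorem F277081 : act 5 n62059 = n61418 := d12_2 (iv F272456) D62059 (iv D61418)
theorem F277082 : act 6 n62059 = n61528 := d13_2 (iv F272457) D62059 (iv D61528)
theorem F277083 : act 7 n62059 = n61394 := d14_2 (iv F272458) D62059 (iv D61394)
theorem F277084 : act 8 n62059 = n61036 := d15_2 (iv F272459) D62059 (iv D61036)
theorem F277085 : act 9 n62059 = n61565 := d16_2 (iv F272460) D62059 (iv D61565)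
def n62060 : Q := act 4 n61032
theorem D62060 : act 4 n61032 = n62060 := rfl
theorem F277086 : act 0 n62060 = n61092 := d3_1 D62060 (iv D61092) (iv F272454)
theorem F277087 : act 2 n62060 = n61033 := d18_1 D62060 (iv D61033) D61032
theorem F277088 : act 6 n62060 = n61529 := d31_2 (iv F272457) D62060 (iv D61529)
theorem F277089 : act 7 n62060 = n61395 := d32_2 (iv F272458) D62060 (iv D61395)
theorem F277090 : act 8 n62060 = n61037 := d33_2 (iv F272459) D62060 (iv D61037)
theorem F277091 : act 9 n62060 = n61566 := d34_2 (iv F272460) D62060 (iv D61566)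
def n62061 : Q := act 5 n61033
theorem D62061 : act 5 n61033 = n62061 := rfl
theorem F277092 : act 0 n62061 = n61093 := d4_1 D62061 (iv D61093) (iv F272461)
theorem F277093 : act 1 n62061 = n61489 := d12_1 D62061 F274396 (iv F272462)
theorem F277094 : act 3 n62061 = n62061 := d25_1 D62061 (iv D62061) F272463
theorem F277095 : act 4 n62061 = n61420 := d30_1 D62061 (iv D61420) (iv D60249) (iv F267469) D61033
theorem F277096 : act 7 n62061 = n61389 := d36_2 (iv F272465) D62061 F274043
theorem F277097 : act 8 n62061 = n61038 := d37_2 (iv F272466) D62061 (iv D61038)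
theorem F277098 : act 9 n62061 = n61388 := d38_2 (iv F272467) D62061 F274038
def n62062 : Q := act 1 n61034
theorem D62062 : act 1 n61034 = n62062 := rfl
theorem F277099 : act 2 n62062 = n61598 := d9_2 D61034 D62062 (iv D61598) (iv D60459) (iv F267475)
theorem F277100 : act 3 n62062 = n61040 := d10_2 (iv F272469) D62062 (iv D61040)
theorem F277101 : act 5 n62062 = n61036 := d12_2 (iv F272470) D62062 (iv D61036)
theorem F277102 : act 6 n62062 = n61445 := d13_2 (iv F272471) D62062 (iv D61445)
theorem F277103 : act 7 n62062 = n61411 := d14_2 (iv F272472) D62062 (iv D61411)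
theorem F277104 : act 8 n62062 = n61418 := d15_2 (iv F272473) D62062 (iv D61418)
theorem F277105 : act 9 n62062 = n61243 := d16_2 (iv F272474) D62062 (iv D61243)
def n62063 : Q := act 4 n61034
theorem D62063 : act 4 n61034 = n62063 := rfl
theorem F277106 : act 0 n62063 = n61095 := d3_1 D62063 (iv D61095) (iv F272468)
theorem F277107 : act 2 n62063 = n61035 := d18_1 D62063 (iv D61035) D61034
theorem F277108 : act 6 n62063 = n61446 := d31_2 (iv F272471) D62063 (iv D61446)
theorem F277109 : act 7 n62063 = n61412 := d32_2 (iv F272472) D62063 (iv D61412)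
theorem F277110 : act 8 n62063 = n61419 := d33_2 (iv F272473) D62063 (iv D61419)
theorem F277111 : act 9 n62063 = n61244 := d34_2 (iv F272474) D62063 (iv D61244)
def n62064 : Q := act 5 n61035
theorem D62064 : act 5 n61035 = n62064 := rfl
theorem F277112 : act 0 n62064 = n61096 := d4_1 D62064 (iv D61096) (iv F272475)
theorem F277113 : act 1 n62064 = n61387 := d12_1 D62064 F274032 (iv F272476)
theorem F277114 : act 3 n62064 = n62064 := d25_1 D62064 (iv D62064) F272477
theorem F277115 : act 4 n62064 = n61038 := d30_1 D62064 (iv D61038) (iv D59857) (iv F267476) D61035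
theorem F277116 : act 7 n62064 = n61391 := d36_2 (iv F272479) D62064 F274053
theorem F277117 : act 8 n62064 = n61420 := d37_2 (iv F272480) D62064 (iv D61420)
theorem F277118 : act 9 n62064 = n61245 := d38_2 (iv F272481) D62064 (iv D61245)
def n62065 : Q := act 0 n61036
theorem D62065 : act 0 n61036 = n62065 := rfl
theorem F277119 : act 1 n62065 = n61097 := d0_2 D61036 D62065 (iv D61097) (iv D59912) (iv F267481)
theorem F277120 : act 2 n62065 = n61603 := d1_2 (iv F272482) D62065 (iv D61603)
theorem F277121 : act 3 n62065 = n61042 := d2_2 (iv F272483) D62065 (iv D61042)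
theorem F277122 : act 6 n62065 = n61534 := d5_2 (iv F272484) D62065 (iv D61534)
theorem F277123 : act 7 n62065 = n61618 := d6_2 (iv F272485) D62065 (iv D61618)
theorem F277124 : act 9 n62065 = n61246 := d8_2 (iv F272486) D62065 (iv D61246)
def n62066 : Q := act 4 n61036
theorem D62066 : act 4 n61036 = n62066 := rfl
theorem F277125 : act 1 n62066 = n61037 := d11_1 D62066 (iv D61037) D61036
theorem F277126 : act 2 n62066 = n61604 := d18_1 D62066 (iv D61604) (iv F272482)
theorem F277127 : act 3 n62066 = n61656 := d24_1 D62066 (iv D61656) F270049 (iv F267512) (iv F272483)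
theorem F277128 : act 6 n62066 = n61535 := d31_2 (iv F272484) D62066 (iv D61535)
theorem F277129 : act 7 n62066 = n61619 := d32_2 (iv F272485) D62066 (iv D61619)
theorem F277130 : act 9 n62066 = n61247 := d34_2 (iv F272486) D62066 (iv D61247)
def n62067 : Q := act 5 n61037
theorem D62067 : act 5 n61037 = n62067 := rfl
theorem F277131 : act 0 n62067 = n61099 := d4_1 D62067 (iv D61099) (iv F272487)
theorem F277132 : act 2 n62067 = n61038 := d19_1 D62067 (iv D61038) (iv F272488)
theorem F277133 : act 3 n62067 = n61657 := d25_1 D62067 (iv D61657) (iv F272489)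
theorem F277134 : act 7 n62067 = n61482 := d36_2 (iv F272491) D62067 F274379
theorem F277135 : act 9 n62067 = n61248 := d38_2 (iv F272492) D62067 (iv D61248)
def n62068 : Q := act 6 n61038
theorem D62068 : act 6 n61038 = n62068 := rfl
theorem F277136 : act 0 n62068 = n61100 := d5_1 D62068 (iv D61100) (iv F272493)
theorem F277137 : act 1 n62068 = n61606 := d13_1 D62068 (iv D61606) (iv F272494)
theorem F277138 : act 3 n62068 = n61039 := d26_1 D62068 (iv D61039) (iv F272495)
theorem F277139 : act 5 n62068 = n61265 := d35_1 D62068 F273528 F268514 (iv F267489) D61038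
theorem F277140 : act 7 n62068 = n61492 := d39_2 (iv F272496) D62068 F274407 F269375 (iv F269383)
theorem F277141 : act 9 n62068 = n61249 := d41_2 (iv F272497) D62068 (iv D61249)
def n62069 : Q := act 0 n61040
theorem D62069 : act 0 n61040 = n62069 := rfl
theorem F277142 : act 1 n62069 = n61102 := d0_2 D61040 D62069 (iv D61102) (iv D59916) (iv F267499)
theorem F277143 : act 2 n62069 = n61684 := d1_2 (iv F272506) D62069 (iv D61684)
theorem F277144 : act 5 n62069 = n61042 := d4_2 (iv F272507) D62069 (iv D61042)
theorem F277145 : act 6 n62069 = n61522 := d5_2 (iv F272508) D62069 (iv D61522)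
theorem F277146 : act 8 n62069 = n61054 := d7_2 (iv F272509) D62069 (iv D61054)
theorem F277147 : act 9 n62069 = n61250 := d8_2 (iv F272510) D62069 (iv D61250)
def n62070 : Q := act 4 n61040
theorem D62070 : act 4 n61040 = n62070 := rfl
theorem F277148 : act 1 n62070 = n61041 := d11_1 D62070 (iv D61041) D61040
theorem F277149 : act 2 n62070 = n61685 := d18_1 D62070 (iv D61685) (iv F272506)
theorem F277150 : act 5 n62070 = n61690 := d30_2 (iv F272507) D62070 (iv D61690) F270168 (iv F267512)
theorem F277151 : act 6 n62070 = n61523 := d31_2 (iv F272508) D62070 (iv D61523)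
theorem F277152 : act 8 n62070 = n61055 := d33_2 (iv F272509) D62070 (iv D61055)
theorem F277153 : act 9 n62070 = n61251 := d34_2 (iv F272510) D62070 (iv D61251)
def n62071 : Q := act 3 n61041
theorem D62071 : act 3 n61041 = n62071 := rfl
theorem F277154 : act 0 n62071 = n61104 := d2_1 D62071 (iv D61104) (iv F272511)
theorem F277155 : act 2 n62071 = n62071 := d17_1 D62071 (iv D62071) F272512 F267506 (iv F272512)
theorem F277156 : act 5 n62071 = n61691 := d25_2 (iv F272513) D62071 (iv D61691)
theorem F277157 : act 6 n62071 = n61524 := d26_2 (iv F272514) D62071 (iv D61524)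
theorem F277158 : act 9 n62071 = n61252 := d29_2 (iv F272516) D62071 (iv D61252)
def n62072 : Q := act 0 n61043
theorem D62072 : act 0 n61043 = n62072 := rfl
theorem F277159 : act 1 n62072 = n61110 := d0_2 D61043 D62072 (iv D61110) (iv D59923) (iv F267516)
theorem F277160 : act 2 n62072 = n61066 := d1_2 (iv F272523) D62072 (iv D61066)
theorem F277161 : act 3 n62072 = n61044 := d2_2 (iv F272524) D62072 (iv D61044)
theorem F277162 : act 5 n62072 = n61062 := d4_2 (iv F272525) D62072 (iv D61062)
theorem F277163 : act 6 n62072 = n61137 := d5_2 (iv F272526) D62072 (iv D61137)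
theorem F277164 : act 7 n62072 = n61051 := d6_2 (iv F272527) D62072 (iv D61051)
theorem F277165 : act 8 n62072 = n61402 := d7_2 (iv F272528) D62072 (iv D61402)
theorem F277166 : act 9 n62072 = n61059 := d8_2 (iv F272529) D62072 (iv D61059)
def n62073 : Q := act 0 n61045
theorem D62073 : act 0 n61045 = n62073 := rfl
theorem F277167 : act 1 n62073 = n61147 := d0_2 D61045 D62073 (iv D61147) (iv D59959) (iv F267525)
theorem F277168 : act 2 n62073 = n61051 := d1_2 (iv F272533) D62073 (iv D61051)
theorem F277169 : act 3 n62073 = n61061 := d2_2 (iv F272534) D62073 (iv D61061)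
theorem F277170 : act 5 n62073 = n61059 := d4_2 (iv F272535) D62073 (iv D61059)
theorem F277171 : act 6 n62073 = n61112 := d5_2 (iv F272536) D62073 (iv D61112)
theorem F277172 : act 7 n62073 = n61066 := d6_2 (iv F272537) D62073 (iv D61066)
theorem F277173 : act 9 n62073 = n61062 := d8_2 (iv F272538) D62073 (iv D61062)
def n62074 : Q := act 4 n61045
theorem D62074 : act 4 n61045 = n62074 := rfl
theorem F277174 : act 1 n62074 = n61046 := d11_1 D62074 (iv D61046) D61045
theorem F277175 : act 2 n62074 = n61052 := d18_1 D62074 (iv D61052) (iv F272533)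
theorem F277176 : act 3 n62074 = n61188 := d24_1 D62074 F273173 (iv F272374) F272375 (iv F272534)
theorem F277177 : act 5 n62074 = n61187 := d30_2 (iv F272535) D62074 F273171 (iv F272396) F272395
theorem F277178 : act 6 n62074 = n61113 := d31_2 (iv F272536) D62074 (iv D61113)
theorem F277179 : act 7 n62074 = n61067 := d32_2 (iv F272537) D62074 (iv D61067)
theorem F277180 : act 9 n62074 = n61063 := d34_2 (iv F272538) D62074 (iv D61063)
def n62075 : Q := act 0 n61047
theorem D62075 : act 0 n61047 = n62075 := rfl
theorem F277181 : act 1 n62075 = n61123 := d0_2 D61047 D62075 (iv D61123) (iv D59935) (iv F267538)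
theorem F277182 : act 5 n62075 = n61428 := d4_2 (iv F272546) D62075 (iv D61428)
theorem F277183 : act 6 n62075 = n61664 := d5_2 (iv F272547) D62075 (iv D61664)
theorem F277184 : act 7 n62075 = n61402 := d6_2 (iv F272548) D62075 (iv D61402)
theorem F277185 : act 8 n62075 = n61051 := d7_2 (iv F272549) D62075 (iv D61051)
def n62076 : Q := act 4 n61047
theorem D62076 : act 4 n61047 = n62076 := rfl
theorem F277186 : act 1 n62076 = n61048 := d11_1 D62076 (iv D61048) D61047
theorem F277187 : act 6 n62076 = n61665 := d31_2 (iv F272547) D62076 (iv D61665)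
theorem F277188 : act 7 n62076 = n61403 := d32_2 (iv F272548) D62076 (iv D61403)
theorem F277189 : act 8 n62076 = n61052 := d33_2 (iv F272549) D62076 (iv D61052)
def n62077 : Q := act 3 n61048
theorem D62077 : act 3 n61048 = n62077 := rfl
theorem F277190 : act 0 n62077 = n61125 := d2_1 D62077 (iv D61125) (iv F272550)
theorem F277191 : act 2 n62077 = n62077 := d17_1 D62077 (iv D62077) F272551 F267544 (iv F272551)
theorem F277192 : act 6 n62077 = n61666 := d26_2 (iv F272552) D62077 (iv D61666)
theorem F277193 : act 7 n62077 = n61404 := d27_2 (iv F272553) D62077 (iv D61404)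
def n62078 : Q := act 5 n61048
theorem D62078 : act 5 n61048 = n62078 := rfl
theorem F277194 : act 0 n62078 = n61126 := d4_1 D62078 (iv D61126) (iv F272550)
theorem F277195 : act 2 n62078 = n61049 := d19_1 D62078 (iv D61049) (iv F272551)
theorem F277196 : act 4 n62078 = n61183 := d30_1 D62078 F273159 (iv D60258) (iv F267539) D61048
theorem F277197 : act 6 n62078 = n61173 := d35_2 (iv F272552) D62078 (iv D61173) (iv F271355) F271354
theorem F277198 : act 7 n62078 = n61135 := d36_2 (iv F272553) D62078 F272952
theorem F277199 : act 8 n62078 = n61053 := d37_2 (iv F272554) D62078 (iv D61053)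
def n62079 : Q := act 0 n61050
theorem D62079 : act 0 n61050 = n62079 := rfl
theorem F277200 : act 1 n62079 = n61127 := d0_2 D61050 D62079 (iv D61127) (iv D59938) (iv F267548)
theorem F277201 : act 2 n62079 = n61059 := d1_2 (iv F272562) D62079 (iv D61059)
theorem F277202 : act 3 n62079 = n61054 := d2_2 (iv F272563) D62079 (iv D61054)
theorem F277203 : act 4 n62079 = n61683 := d3_2 (iv F272564) D62079 F275009
theorem F277204 : act 5 n62079 = n61051 := d4_2 (iv F272565) D62079 (iv D61051)
theorem F277205 : act 6 n62079 = n61192 := d5_2 (iv F272566) D62079 (iv D61192)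
theorem F277206 : act 7 n62079 = n61062 := d6_2 (iv F272567) D62079 (iv D61062)
theorem F277207 : act 8 n62079 = n61428 := d7_2 (iv F272568) D62079 (iv D61428)
theorem F277208 : act 9 n62079 = n61066 := d8_2 (iv F272569) D62079 (iv D61066)
def n62080 : Q := act 4 n61051
theorem D62080 : act 4 n61051 = n62080 := rfl
theorem F277209 : act 0 n62080 = n61052 := d3_1 D62080 (iv D61052) D61051
theorem F277210 : act 1 n62080 = n61129 := d11_1 D62080 (iv D61129) (iv F272570)
theorem F277211 : act 6 n62080 = n61667 := d31_2 (iv F272572) D62080 (iv D61667)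
theorem F277212 : act 9 n62080 = n61070 := d34_2 (iv F272573) D62080 (iv D61070)
def n62081 : Q := act 5 n61052
theorem D62081 : act 5 n61052 = n62081 := rfl
theorem F277213 : act 1 n62081 = n61053 := d12_1 D62081 (iv D61053) (iv F272574)
theorem F277214 : act 2 n62081 = n61187 := d19_1 D62081 (iv F277177) F277175
theorem F277215 : act 3 n62081 = n61113 := d25_1 D62081 (iv F276805) F276804
theorem F277216 : act 4 n62081 = n61191 := d30_1 D62081 F273179 (iv F272564) F272565 D61052
theorem F277217 : act 6 n62081 = n61188 := d35_2 (iv F272575) D62081 (iv D61188) (iv F273167) F273166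
theorem F277218 : act 7 n62081 = n61134 := d36_2 F276997 D62081 (iv F276995)
theorem F277219 : act 9 n62081 = n61071 := d38_2 (iv F272576) D62081 (iv D61071)
def n62082 : Q := act 4 n61054
theorem D62082 : act 4 n61054 = n62082 := rfl
theorem F277220 : act 0 n62082 = n61055 := d3_1 D62082 (iv D61055) D61054
theorem F277221 : act 1 n62082 = n61133 := d11_1 D62082 (iv D61133) (iv F272584)
theorem F277222 : act 9 n62082 = n61072 := d34_2 (iv F272586) D62082 (iv D61072)
def n62083 : Q := act 3 n61055
theorem D62083 : act 3 n61055 = n62083 := rfl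
theorem F277223 : act 1 n62083 = n61056 := d10_1 D62083 (iv D61056) (iv F272587)
theorem F277224 : act 2 n62083 = n61647 := d17_1 D62083 F274919 (iv F272961) (iv F276984) F276983
theorem F277225 : act 4 n62083 = n61663 := d24_2 D61055 D62083 F274961 (iv F272564) F272563
theorem F277226 : act 5 n62083 = n61111 := d25_2 F276820 D62083 (iv F276819)
theorem F277227 : act 6 n62083 = n61661 := d26_2 F275225 D62083 (iv F275223)
theorem F277228 : act 7 n62083 = n61130 := d27_2 F276971 D62083 (iv F276969)
theorem F277229 : act 9 n62083 = n61073 := d29_2 (iv F272588) D62083 (iv D61073)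
def n62084 : Q := act 8 n61056
theorem D62084 : act 8 n61056 = n62084 := rfl
theorem F277230 : act 0 n62084 = n61135 := d7_1 D62084 (iv D61135) (iv F272589)
theorem F277231 : act 2 n62084 = n61057 := d22_1 D62084 (iv D61057) (iv F272590)
theorem F277232 : act 4 n62084 = n61284 := d33_1 D62084 F273616 (iv F272591)
theorem F277233 : act 5 n62084 = n61109 := d37_1 D62084 F272847 (iv F272592)
theorem F277234 : act 6 n62084 = n61654 := d40_1 D62084 F274942 (iv F272593)
theorem F277235 : act 7 n62084 = n61126 := d42_1 D62084 F272920 (iv F272594)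
def n62085 : Q := act 9 n61057
theorem D62085 : act 9 n61057 = n62085 := rfl
theorem F277236 : act 0 n62085 = n61136 := d8_1 D62085 (iv D61136) (iv F272596)
theorem F277237 : act 1 n62085 = n61641 := d16_1 D62085 F274907 (iv F272597)
theorem F277238 : act 3 n62085 = n62085 := d29_1 D62085 (iv D62085) F272598
theorem F277239 : act 4 n62085 = n61258 := d34_1 D62085 F273498 (iv F272599)
theorem F277240 : act 5 n62085 = n61107 := d38_1 D62085 F272837 (iv F272600)
theorem F277241 : act 6 n62085 = n61650 := d41_1 D62085 F274930 (iv F272601)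
theorem F277242 : act 7 n62085 = n61122 := d43_1 D62085 F272911 (iv F272602)
theorem F277243 : act 8 n62085 = n61076 := d44_1 D62085 (iv D61076) (iv D59895) (iv F267584) D61057
def n62086 : Q := act 0 n61060
theorem D62086 : act 0 n61060 = n62086 := rfl
theorem F277244 : act 1 n62086 = n61062 := d0_2 D61060 D62086 (iv D61062) (iv D59881) (iv F267590)
theorem F277245 : act 2 n62086 = n61152 := d1_2 (iv F272610) D62086 (iv D61152)
theorem F277246 : act 3 n62086 = n61112 := d2_2 (iv F272611) D62086 (iv D61112)
theorem F277247 : act 5 n62086 = n61110 := d4_2 (iv F272612) D62086 (iv D61110)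
theorem F277248 : act 6 n62086 = n61061 := d5_2 (iv F272613) D62086 (iv D61061)
theorem F277249 : act 7 n62086 = n61127 := d6_2 (iv F272614) D62086 (iv D61127)
theorem F277250 : act 8 n62086 = n61281 := d7_2 (iv F272615) D62086 (iv D61281)
theorem F277251 : act 9 n62086 = n61147 := d8_2 (iv F272616) D62086 (iv D61147)
def n62087 : Q := act 4 n61062
theorem D62087 : act 4 n61062 = n62087 := rfl
theorem F277252 : act 0 n62087 = n61063 := d3_1 D62087 (iv D61063) D61062
theorem F277253 : act 2 n62087 = n61070 := d18_1 D62087 (iv D61070) (iv F272622)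
theorem F277254 : act 6 n62087 = n61150 := d31_2 (iv F272623) D62087 (iv D61150)
theorem F277255 : act 7 n62087 = n61683 := d32_2 F277206 D62087 (iv F277203)
theorem F277256 : act 8 n62087 = n61431 := d33_2 (iv F272624) D62087 (iv D61431)
def n62088 : Q := act 3 n61063
theorem D62088 : act 3 n61063 = n62088 := rfl
theorem F277257 : act 1 n62088 = n61064 := d10_1 D62088 (iv D61064) (iv F272625)
theorem F277258 : act 2 n62088 = n61638 := d17_1 D62088 F274897 (iv F272179) F272180 (iv F272626)
theorem F277259 : act 4 n62088 = n61130 := d24_2 D61063 D62088 (iv F276969) F276970 F272420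
theorem F277260 : act 6 n62088 = n61071 := d26_2 (iv F272627) D62088 F272669
theorem F277261 : act 7 n62088 = n61663 := d27_2 (iv F272628) D62088 F274961
theorem F277262 : act 9 n62088 = n61188 := d29_2 F277180 D62088 (iv F277176)
theorem F277263 : act 5 n61128 = n62088 := d38_3 F277262 (iv D61188) (iv F272928)
def n62089 : Q := act 5 n61063
theorem D62089 : act 5 n61063 = n62089 := rfl
theorem F277264 : act 1 n62089 = n61065 := d12_1 D62089 (iv D61065) (iv F272625)
theorem F277265 : act 2 n62089 = n61071 := d19_1 D62089 (iv D61071) (iv F272626)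
theorem F277266 : act 3 n62089 = n61128 := d25_1 D62089 F277263 (iv D62088)
theorem F277267 : act 4 n62089 = n61134 := d30_1 D62089 (iv F276995) F276994 F272525 D61063
theorem F277268 : act 6 n62089 = n61638 := d35_2 (iv F272627) D62089 (iv D61638) (iv F272182) F272181
theorem F277269 : act 7 n62089 = n61191 := d36_2 (iv F272628) D62089 F273179
theorem F277270 : act 8 n62089 = n61433 := d37_2 (iv F272629) D62089 (iv D61433)
theorem F277271 : act 9 n62089 = n61187 := d38_2 F277180 D62089 (iv F277177)
def n62090 : Q := act 4 n61066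
theorem D62090 : act 4 n61066 = n62090 := rfl
theorem F277272 : act 0 n62090 = n61067 := d3_1 D62090 (iv D61067) D61066
theorem F277273 : act 1 n62090 = n61186 := d11_1 D62090 (iv D61186) (iv F272645)
theorem F277274 : act 6 n62090 = n61675 := d31_2 F275243 D62090 (iv F275241)
theorem F277275 : act 9 n62090 = n61683 := d34_2 F277208 D62090 (iv F277203)
def n62091 : Q := act 3 n61067
theorem D62091 : act 3 n61067 = n62091 := rfl
theorem F277276 : act 1 n62091 = n61068 := d10_1 D62091 (iv D61068) (iv F272648)
theorem F277277 : act 2 n62091 = n61661 := d17_1 D62091 (iv F275223) F275222 D62047 F276999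
theorem F277278 : act 4 n62091 = n61073 := d24_2 D61067 D62091 (iv D61073) (iv D59892) (iv F267626)
theorem F277279 : act 6 n62091 = n61647 := d26_2 (iv F272649) D62091 F274919
theorem F277280 : act 7 n62091 = n61188 := d27_2 F277179 D62091 (iv F277176)
theorem F277281 : act 9 n62091 = n61663 := d29_2 (iv F272650) D62091 F274961
theorem F277282 : act 5 n61148 = n62091 := d38_3 F277281 (iv F275311) F275314
def n62092 : Q := act 5 n61067
theorem D62092 : act 5 n61067 = n62092 := rfl
theorem F277283 : act 1 n62092 = n61069 := d12_1 D62092 (iv D61069) (iv F272648)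
theorem F277284 : act 2 n62092 = n61134 := d19_1 D62092 (iv F276995) F276999
theorem F277285 : act 3 n62092 = n61148 := d25_1 D62092 F277282 (iv D62091)
theorem F277286 : act 4 n62092 = n61071 := d30_1 D62092 (iv D61071) (iv D59889) (iv F267627) D61067
theorem F277287 : act 6 n62092 = n61130 := d35_2 (iv F272649) D62092 (iv D61130) F267867 D60553
theorem F277288 : act 7 n62092 = n61187 := d36_2 F277179 D62092 (iv F277177)
theorem F277289 : act 9 n62092 = n61191 := d38_2 (iv F272650) D62092 F273179
def n62093 : Q := act 8 n61068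
theorem D62093 : act 8 n61068 = n62093 := rfl
theorem F277290 : act 0 n62093 = n61189 := d7_1 D62093 (iv D61189) (iv F272651)
theorem F277291 : act 2 n62093 = n61075 := d22_1 D62093 (iv D61075) (iv F272652)
theorem F277292 : act 4 n62093 = n61074 := d33_1 D62093 (iv D61074) (iv F272653)
theorem F277293 : act 5 n62093 = n61142 := d37_1 D62093 F272987 F272657
theorem F277294 : act 6 n62093 = n61645 := d40_1 D62093 F274914 (iv F272654)
theorem F277295 : act 7 n62093 = n61173 := d42_1 D62093 F273124 (iv F272655)
def n62094 : Q := act 5 n61070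
theorem D62094 : act 5 n61070 = n62094 := rfl
theorem F277296 : act 0 n62094 = n61071 := d4_1 D62094 (iv D61071) (iv F272665)
theorem F277297 : act 1 n62094 = n61190 := d12_1 D62094 (iv D61190) (iv F272666)
theorem F277298 : act 3 n62094 = n61150 := d25_1 D62094 (iv F276838) F276837
theorem F277299 : act 7 n62094 = n61194 := d36_2 F277036 D62094 (iv F277034)
def n62095 : Q := act 3 n61072
theorem D62095 : act 3 n61072 = n62095 := rfl
theorem F277300 : act 0 n62095 = n61073 := d2_1 D62095 (iv D61073) (iv F272671)
theorem F277301 : act 1 n62095 = n61194 := d10_1 D62095 (iv D61194) (iv F272672)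
theorem F277302 : act 2 n62095 = n61662 := d17_1 D62095 F274959 (iv F275006) (iv F277026) F277025
theorem F277303 : act 5 n62095 = n61149 := d25_2 F276846 D62095 (iv F276845)
theorem F277304 : act 7 n62095 = n61190 := d27_2 F277021 D62095 (iv F277019)
def n62096 : Q := act 8 n61073
theorem D62096 : act 8 n61073 = n62096 := rfl
theorem F277305 : act 1 n62096 = n61074 := d15_1 D62096 (iv D61074) (iv F272674)
theorem F277306 : act 2 n62096 = n61659 := d22_1 D62096 F274954 (iv F272675)
theorem F277307 : act 3 n62096 = n61299 := d28_1 D62096 (iv D61299) (iv D60129) (iv F267652) D61073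
theorem F277308 : act 5 n62096 = n61146 := d37_1 D62096 F273005 (iv F272676)
theorem F277309 : act 7 n62096 = n61181 := d42_1 D62096 F273152 (iv F272677)
def n62097 : Q := act 9 n61074
theorem D62097 : act 9 n61074 = n62097 := rfl
theorem F277310 : act 0 n62097 = n61196 := d8_1 D62097 (iv D61196) (iv F272678)
theorem F277311 : act 2 n62097 = n61076 := d23_1 D62097 (iv D61076) (iv F272679)
theorem F277312 : act 3 n62097 = n61300 := d29_1 D62097 (iv D61300) (iv F272680)
theorem F277313 : act 5 n62097 = n61144 := d38_1 D62097 F272997 (iv F272681)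
theorem F277314 : act 7 n62097 = n61177 := d43_1 D62097 F273137 (iv F272682)
def n62098 : Q := act 9 n61075
theorem D62098 : act 9 n61075 = n62098 := rfl
theorem F277315 : act 0 n62098 = n61197 := d8_1 D62098 (iv D61197) (iv F272683)
theorem F277316 : act 1 n62098 = n61650 := d16_1 D62098 F274930 (iv F272684)
theorem F277317 : act 3 n62098 = n62098 := d29_1 D62098 (iv D62098) F272685
theorem F277318 : act 4 n62098 = n61076 := d34_1 D62098 (iv D61076) (iv F272686)
theorem F277319 : act 5 n62098 = n61140 := d38_1 D62098 F272979 (iv F272687)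
theorem F277320 : act 6 n62098 = n61641 := d41_1 D62098 F274907 (iv F272688)
theorem F277321 : act 7 n62098 = n61169 := d43_1 D62098 F273114 (iv F272689)
theorem F277322 : act 8 n62098 = n61258 := d44_1 D62098 F273498 F268597 (iv F267663) D61075
def n62099 : Q := act 1 n61077
theorem D62099 : act 1 n61077 = n62099 := rfl
theorem F277323 : act 2 n62099 = n61448 := d9_2 D61077 D62099 (iv D61448) (iv D60277) (iv F267677)
theorem F277324 : act 3 n62099 = n61108 := d10_2 (iv F272696) D62099 (iv D61108)
theorem F277325 : act 5 n62099 = n61276 := d12_2 (iv F272697) D62099 (iv D61276)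
theorem F277326 : act 6 n62099 = n61267 := d13_2 (iv F272698) D62099 (iv D61267)
theorem F277327 : act 7 n62099 = n61091 := d14_2 (iv F272699) D62099 (iv D61091)
theorem F277328 : act 8 n62099 = n61080 := d15_2 (iv F272700) D62099 (iv D61080)
theorem F277329 : act 9 n62099 = n61439 := d16_2 (iv F272701) D62099 (iv D61439)
def n62100 : Q := act 1 n61078
theorem D62100 : act 1 n61078 = n62100 := rfl
theorem F277330 : act 2 n62100 = n61731 := d9_2 D61078 D62100 (iv D61731) (iv D60644) (iv F267684)
theorem F277331 : act 3 n62100 = n61081 := d10_2 (iv F272703) D62100 (iv D61081)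
theorem F277332 : act 5 n62100 = n61080 := d12_2 (iv F272704) D62100 (iv D61080)
theorem F277333 : act 6 n62100 = n61273 := d13_2 (iv F272705) D62100 (iv D61273)
theorem F277334 : act 7 n62100 = n61094 := d14_2 (iv F272706) D62100 (iv D61094)
theorem F277335 : act 8 n62100 = n61276 := d15_2 (iv F272707) D62100 (iv D61276)
theorem F277336 : act 9 n62100 = n61304 := d16_2 (iv F272708) D62100 (iv D61304)
def n62101 : Q := act 4 n61078
theorem D62101 : act 4 n61078 = n62101 := rfl
theorem F277337 : act 0 n62101 = n61412 := d3_1 D62101 (iv D61412) (iv F272702)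
theorem F277338 : act 2 n62101 = n61079 := d18_1 D62101 (iv D61079) D61078
theorem F277339 : act 6 n62101 = n61274 := d31_2 (iv F272705) D62101 (iv D61274)
theorem F277340 : act 7 n62101 = n61095 := d32_2 (iv F272706) D62101 (iv D61095)
theorem F277341 : act 8 n62101 = n61277 := d33_2 (iv F272707) D62101 (iv D61277)
theorem F277342 : act 9 n62101 = n61305 := d34_2 (iv F272708) D62101 (iv D61305)
def n62102 : Q := act 0 n61080
theorem D62102 : act 0 n61080 = n62102 := rfl
theorem F277343 : act 1 n62102 = n61618 := d0_2 D61080 D62102 (iv D61618) (iv D60480) (iv F267690)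
theorem F277344 : act 3 n62102 = n61083 := d2_2 (iv F272716) D62102 (iv D61083)
theorem F277345 : act 6 n62102 = n61634 := d5_2 (iv F272717) D62102 (iv D61634)
theorem F277346 : act 7 n62102 = n61097 := d6_2 (iv F272718) D62102 (iv D61097)
theorem F277347 : act 9 n62102 = n61306 := d8_2 (iv F272719) D62102 (iv D61306)
def n62103 : Q := act 0 n61081
theorem D62103 : act 0 n61081 = n62103 := rfl
theorem F277348 : act 2 n62103 = n61664 := d1_2 (iv F272720) D62103 (iv D61664)
theorem F277349 : act 5 n62103 = n61083 := d4_2 (iv F272721) D62103 (iv D61083)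
theorem F277350 : act 7 n62103 = n61102 := d6_2 (iv F272722) D62103 (iv D61102)
theorem F277351 : act 8 n62103 = n61112 := d7_2 (iv F272723) D62103 (iv D61112)
theorem F277352 : act 9 n62103 = n61309 := d8_2 (iv F272724) D62103 (iv D61309)
def n62104 : Q := act 4 n61081
theorem D62104 : act 4 n61081 = n62104 := rfl
theorem F277353 : act 1 n62104 = n61082 := d11_1 D62104 (iv D61082) D61081
theorem F277354 : act 2 n62104 = n61665 := d18_1 D62104 (iv D61665) (iv F272720)
theorem F277355 : act 7 n62104 = n61103 := d32_2 (iv F272722) D62104 (iv D61103)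
theorem F277356 : act 8 n62104 = n61113 := d33_2 (iv F272723) D62104 (iv D61113)
theorem F277357 : act 9 n62104 = n61310 := d34_2 (iv F272724) D62104 (iv D61310)
def n62105 : Q := act 3 n61082
theorem D62105 : act 3 n61082 = n62105 := rfl
theorem F277358 : act 2 n62105 = n62105 := d17_1 D62105 (iv D62105) F272725 F267700 (iv F272725)
theorem F277359 : act 7 n62105 = n61104 := d27_2 (iv F272726) D62105 (iv D61104)
theorem F277360 : act 9 n62105 = n61311 := d29_2 (iv F272728) D62105 (iv D61311)
def n62106 : Q := act 0 n61084
theorem D62106 : act 0 n61084 = n62106 := rfl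
theorem F277361 : act 2 n62106 = n61097 := d1_2 (iv F272734) D62106 (iv D61097)
theorem F277362 : act 3 n62106 = n61539 := d2_2 (iv F272735) D62106 (iv D61539)
theorem F277363 : act 6 n62106 = n61595 := d5_2 (iv F272736) D62106 (iv D61595)
theorem F277364 : act 9 n62106 = n61322 := d8_2 (iv F272737) D62106 (iv D61322)
def n62107 : Q := act 4 n61084
theorem D62107 : act 4 n61084 = n62107 := rfl
theorem F277365 : act 1 n62107 = n61085 := d11_1 D62107 (iv D61085) D61084
theorem F277366 : act 2 n62107 = n61098 := d18_1 D62107 (iv D61098) (iv F272734)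
theorem F277367 : act 6 n62107 = n61596 := d31_2 (iv F272736) D62107 (iv D61596)
theorem F277368 : act 9 n62107 = n61323 := d34_2 (iv F272737) D62107 (iv D61323)
def n62108 : Q := act 3 n61085
theorem D62108 : act 3 n61085 = n62108 := rfl
theorem F277369 : act 2 n62108 = n61087 := d17_1 D62108 (iv D61087) F267716 (iv F267713) (iv F272738)
theorem F277370 : act 4 n62108 = n61541 := d24_2 D61085 D62108 (iv D61541) (iv D60393) (iv F267709)
theorem F277371 : act 6 n62108 = n61471 := d26_2 (iv F272739) D62108 F274337
theorem F277372 : act 9 n62108 = n61324 := d29_2 (iv F272740) D62108 (iv D61324)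
def n62109 : Q := act 5 n61085
theorem D62109 : act 5 n61085 = n62109 := rfl
theorem F277373 : act 2 n62109 = n61086 := d19_1 D62109 (iv D61086) (iv F272738)
theorem F277374 : act 9 n62109 = n61325 := d38_2 (iv F272740) D62109 (iv D61325)
def n62110 : Q := act 6 n61086
theorem D62110 : act 6 n61086 = n62110 := rfl
theorem F277375 : act 1 n62110 = n61100 := d13_1 D62110 (iv D61100) (iv F272741)
theorem F277376 : act 3 n62110 = n61089 := d26_1 D62110 (iv D61089) (iv F272742)
theorem F277377 : act 5 n62110 = n61384 := d35_1 D62110 F274019 F268996 (iv F267714) D61086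
theorem F277378 : act 7 n62110 = n61487 := d39_2 (iv F275842) D62110 F274389 (iv F271060) D61861
theorem F277379 : act 9 n62110 = n61326 := d41_2 (iv F272743) D62110 (iv D61326)
def n62111 : Q := act 5 n61087
theorem D62111 : act 5 n61087 = n62111 := rfl
theorem F277380 : act 1 n62111 = n61492 := d12_1 D62111 (iv F275634) F275632
theorem F277381 : act 3 n62111 = n61088 := d25_1 D62111 (iv D61088) D61087
theorem F277382 : act 6 n62111 = n61420 := d35_2 (iv F272745) D62111 (iv D61420) F269135 D60297
theorem F277383 : act 7 n62111 = n61606 := d36_2 F275523 D62111 (iv F275522)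
theorem F277384 : act 9 n62111 = n61327 := d38_2 (iv F272746) D62111 (iv D61327)
def n62112 : Q := act 8 n61087
theorem D62112 : act 8 n61087 = n62112 := rfl
theorem F277385 : act 0 n62112 = n61500 := d7_1 D62112 (iv F275684) F275679
theorem F277386 : act 3 n62112 = n62112 := d28_1 D62112 (iv D62112) (iv D61087) F267718 D61087
theorem F277387 : act 4 n62112 = n61499 := d33_1 D62112 F274434 (iv F272744)
theorem F277388 : act 6 n62112 = n61447 := d40_1 D62112 F274262 (iv F272745)
def n62113 : Q := act 1 n61090
theorem D62113 : act 1 n61090 = n62113 := rfl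
theorem F277389 : act 2 n62113 = n61445 := d9_2 D61090 D62113 (iv D61445) (iv D60275) (iv F267725)
theorem F277390 : act 3 n62113 = n61120 := d10_2 (iv F272762) D62113 (iv D61120)
theorem F277391 : act 5 n62113 = n61517 := d12_2 (iv F272763) D62113 (iv D61517)
theorem F277392 : act 6 n62113 = n61598 := d13_2 (iv F272764) D62113 (iv D61598)
theorem F277393 : act 7 n62113 = n61439 := d14_2 (iv F272765) D62113 (iv D61439)
theorem F277394 : act 8 n62113 = n61330 := d15_2 (iv F272766) D62113 (iv D61330)
theorem F277395 : act 9 n62113 = n61091 := d16_2 (iv F272767) D62113 (iv D61091)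
def n62114 : Q := act 0 n61091
theorem D62114 : act 0 n61091 = n62114 := rfl
theorem F277396 : act 3 n62114 = n61123 := d2_2 (iv F272768) D62114 (iv D61123)
theorem F277397 : act 6 n62114 = n61600 := d5_2 (iv F272769) D62114 (iv D61600)
theorem F277398 : act 8 n62114 = n61097 := d7_2 (iv F272770) D62114 (iv D61097)
def n62115 : Q := act 4 n61091
theorem D62115 : act 4 n61091 = n62115 := rfl
theorem F277399 : act 1 n62115 = n61092 := d11_1 D62115 (iv D61092) D61091
theorem F277400 : act 6 n62115 = n61601 := d31_2 (iv F272769) D62115 (iv D61601)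
theorem F277401 : act 8 n62115 = n61098 := d33_2 (iv F272770) D62115 (iv D61098)
def n62116 : Q := act 3 n61092
theorem D62116 : act 3 n61092 = n62116 := rfl
theorem F277402 : act 2 n62116 = n62116 := d17_1 D62116 (iv D62116) F272771 F267734 (iv F272771)
theorem F277403 : act 4 n62116 = n61125 := d24_2 D61092 D62116 (iv D61125) (iv D59936) (iv F267731)
theorem F277404 : act 6 n62116 = n61602 := d26_2 (iv F272772) D62116 (iv D61602)
def n62117 : Q := act 5 n61092
theorem D62117 : act 5 n61092 = n62117 := rfl
theorem F277405 : act 2 n62117 = n61093 := d19_1 D62117 (iv D61093) (iv F272771)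
theorem F277406 : act 8 n62117 = n61099 := d37_2 (iv F272773) D62117 (iv D61099)
def n62118 : Q := act 6 n61093
theorem D62118 : act 6 n61093 = n62118 := rfl
theorem F277407 : act 3 n62118 = n62118 := d26_1 D62118 (iv D62118) F272774
theorem F277408 : act 5 n62118 = n61385 := d35_1 D62118 F274024 F269001 (iv F267735) D61093
theorem F277409 : act 8 n62118 = n61100 := d40_2 (iv F272775) D62118 (iv D61100)
def n62119 : Q := act 0 n61094
theorem D62119 : act 0 n61094 = n62119 := rfl
theorem F277410 : act 3 n62119 = n61102 := d2_2 (iv F272776) D62119 (iv D61102)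
theorem F277411 : act 5 n62119 = n61097 := d4_2 (iv F272777) D62119 (iv D61097)
theorem F277412 : act 6 n62119 = n61586 := d5_2 (iv F272778) D62119 (iv D61586)
theorem F277413 : act 9 n62119 = n61335 := d8_2 (iv F272779) D62119 (iv D61335)
def n62120 : Q := act 4 n61094
theorem D62120 : act 4 n61094 = n62120 := rfl
theorem F277414 : act 1 n62120 = n61095 := d11_1 D62120 (iv D61095) D61094
theorem F277415 : act 6 n62120 = n61587 := d31_2 (iv F272778) D62120 (iv D61587)
theorem F277416 : act 9 n62120 = n61336 := d34_2 (iv F272779) D62120 (iv D61336)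
def n62121 : Q := act 3 n61095
theorem D62121 : act 3 n61095 = n62121 := rfl
theorem F277417 : act 2 n62121 = n62121 := d17_1 D62121 (iv D62121) F272780 F267741 (iv F272780)
theorem F277418 : act 4 n62121 = n61104 := d24_2 D61095 D62121 (iv D61104) (iv D59917) (iv F267737)
theorem F277419 : act 6 n62121 = n61588 := d26_2 (iv F272781) D62121 (iv D61588)
theorem F277420 : act 9 n62121 = n61337 := d29_2 (iv F272782) D62121 (iv D61337)
def n62122 : Q := act 5 n61095
theorem D62122 : act 5 n61095 = n62122 := rfl
theorem F277421 : act 2 n62122 = n61096 := d19_1 D62122 (iv D61096) (iv F272780)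
theorem F277422 : act 4 n62122 = n61099 := d30_1 D62122 (iv D61099) (iv D59913) (iv F267738) D61095
theorem F277423 : act 9 n62122 = n61338 := d38_2 (iv F272782) D62122 (iv D61338)
def n62123 : Q := act 6 n61096
theorem D62123 : act 6 n61096 = n62123 := rfl
theorem F277424 : act 3 n62123 = n62123 := d26_1 D62123 (iv D62123) F272783
theorem F277425 : act 4 n62123 = n61100 := d31_1 D62123 (iv D61100) (iv F272784)
theorem F277426 : act 5 n62123 = n61500 := d35_1 D62123 F274436 (iv D60448) (iv F267742) D61096
theorem F277427 : act 9 n62123 = n61339 := d41_2 (iv F272785) D62123 (iv D61339)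
def n62124 : Q := act 4 n61097
theorem D62124 : act 4 n61097 = n62124 := rfl
theorem F277428 : act 0 n62124 = n61098 := d3_1 D62124 (iv D61098) D61097
theorem F277429 : act 6 n62124 = n61610 := d31_2 (iv F272787) D62124 (iv D61610)
theorem F277430 : act 9 n62124 = n61340 := d34_2 (iv F272788) D62124 (iv D61340)
def n62125 : Q := act 5 n61098
theorem D62125 : act 5 n61098 = n62125 := rfl
theorem F277431 : act 1 n62125 = n61099 := d12_1 D62125 (iv D61099) (iv F272789)
theorem F277432 : act 9 n62125 = n61341 := d38_2 (iv F272791) D62125 (iv D61341)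
def n62126 : Q := act 6 n61099
theorem D62126 : act 6 n61099 = n62126 := rfl
theorem F277433 : act 2 n62126 = n61100 := d20_1 D62126 (iv D61100) (iv F272792)
theorem F277434 : act 3 n62126 = n61363 := d26_1 D62126 (iv F276903) F276902
theorem F277435 : act 5 n62126 = n61362 := d35_1 D62126 F273921 F268908 (iv F267748) D61099
theorem F277436 : act 9 n62126 = n61342 := d41_2 (iv F272793) D62126 (iv D61342)
def n62127 : Q := act 7 n61100
theorem D62127 : act 7 n61100 = n62127 := rfl
theorem F277437 : act 0 n62127 = n61492 := d6_1 D62127 (iv F277140) F277136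
theorem F277438 : act 1 n62127 = n61487 := d14_1 D62127 (iv F277378) F277375
theorem F277439 : act 3 n62127 = n61101 := d27_1 D62127 (iv D61101) (iv F272794)
theorem F277440 : act 5 n62127 = n61383 := d36_1 D62127 F274015 (iv F272795)
theorem F277441 : act 6 n62127 = n61199 := d39_1 D62127 F273208 (iv F271163) F271164 D61100
theorem F277442 : act 9 n62127 = n61198 := d43_2 (iv F272796) D62127 F273203
def n62128 : Q := act 4 n61102
theorem D62128 : act 4 n61102 = n62128 := rfl
theorem F277443 : act 0 n62128 = n61103 := d3_1 D62128 (iv D61103) D61102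
theorem F277444 : act 2 n62128 = n61747 := d18_1 D62128 (iv D61747) (iv F272805)
theorem F277445 : act 6 n62128 = n61592 := d31_2 (iv F272807) D62128 (iv D61592)
theorem F277446 : act 8 n62128 = n61133 := d33_2 (iv F272808) D62128 (iv D61133)
theorem F277447 : act 9 n62128 = n61346 := d34_2 (iv F272809) D62128 (iv D61346)
def n62129 : Q := act 3 n61103
theorem D62129 : act 3 n61103 = n62129 := rfl
theorem F277448 : act 1 n62129 = n61104 := d10_1 D62129 (iv D61104) (iv F272810)
theorem F277449 : act 6 n62129 = n61593 := d26_2 (iv F272812) D62129 (iv D61593)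
theorem F277450 : act 9 n62129 = n61347 := d29_2 (iv F272814) D62129 (iv D61347)
def n62130 : Q := act 8 n61104
theorem D62130 : act 8 n61104 = n62130 := rfl
theorem F277451 : act 2 n62130 = n62130 := d22_1 D62130 (iv D62130) F272815
theorem F277452 : act 3 n62130 = n61135 := d28_1 D62130 (iv D61135) (iv D59947) (iv F267764) D61104
theorem F277453 : act 5 n62130 = n61404 := d37_1 D62130 (iv F276921) F276919
theorem F277454 : act 6 n62130 = n61594 := d40_1 D62130 (iv D61594) (iv F272816)
def n62131 : Q := act 1 n61106
theorem D62131 : act 1 n61106 = n62131 := rfl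
theorem F277455 : act 2 n62131 = n61639 := d9_2 D61106 D62131 (iv D61639) (iv D60513) (iv F267777)
theorem F277456 : act 3 n62131 = n61439 := d10_2 (iv F272825) D62131 (iv D61439)
theorem F277457 : act 5 n62131 = n61256 := d12_2 (iv F272826) D62131 (iv D61256)
theorem F277458 : act 6 n62131 = n61253 := d13_2 (iv F272827) D62131 (iv D61253)
theorem F277459 : act 7 n62131 = n61120 := d14_2 (iv F272828) D62131 (iv D61120)
theorem F277460 : act 8 n62131 = n61143 := d15_2 (iv F272829) D62131 (iv D61143)
theorem F277461 : act 9 n62131 = n61108 := d16_2 (iv F272830) D62131 (iv D61108)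
def n62132 : Q := act 4 n61106
theorem D62132 : act 4 n61106 = n62132 := rfl
theorem F277462 : act 0 n62132 = n61351 := d3_1 D62132 (iv D61351) (iv F272824)
theorem F277463 : act 2 n62132 = n61107 := d18_1 D62132 (iv D61107) D61106
theorem F277464 : act 6 n62132 = n61254 := d31_2 (iv F272827) D62132 (iv D61254)
theorem F277465 : act 7 n62132 = n61121 := d32_2 (iv F272828) D62132 (iv D61121)
theorem F277466 : act 8 n62132 = n61144 := d33_2 (iv F272829) D62132 (iv D61144)
theorem F277467 : act 9 n62132 = n61109 := d34_2 (iv F272830) D62132 (iv D61109)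
def n62133 : Q := act 0 n61108
theorem D62133 : act 0 n61108 = n62133 := rfl
theorem F277468 : act 1 n62133 = n61402 := d0_2 D61108 D62133 (iv D61402) (iv D60232) (iv F267783)
theorem F277469 : act 2 n62133 = n61642 := d1_2 (iv F272838) D62133 (iv D61642)
theorem F277470 : act 5 n62133 = n61281 := d4_2 (iv F272839) D62133 (iv D61281)
theorem F277471 : act 6 n62133 = n61270 := d5_2 (iv F272840) D62133 (iv D61270)
theorem F277472 : act 7 n62133 = n61123 := d6_2 (iv F272841) D62133 (iv D61123)
theorem F277473 : act 8 n62133 = n61110 := d7_2 (iv F272842) D62133 (iv D61110)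
def n62134 : Q := act 4 n61108
theorem D62134 : act 4 n61108 = n62134 := rfl
theorem F277474 : act 1 n62134 = n61109 := d11_1 D62134 (iv D61109) D61108
theorem F277475 : act 2 n62134 = n61643 := d18_1 D62134 (iv D61643) (iv F272838)
theorem F277476 : act 6 n62134 = n61271 := d31_2 (iv F272840) D62134 (iv D61271)
theorem F277477 : act 7 n62134 = n61124 := d32_2 (iv F272841) D62134 (iv D61124)
theorem F277478 : act 8 n62134 = n61111 := d33_2 (iv F272842) D62134 (iv D61111)
def n62135 : Q := act 3 n61109
theorem D62135 : act 3 n61109 = n62135 := rfl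
theorem F277479 : act 0 n62135 = n61404 := d2_1 D62135 (iv D61404) (iv F272843)
theorem F277480 : act 2 n62135 = n62135 := d17_1 D62135 (iv D62135) F272844 F267790 (iv F272844)
theorem F277481 : act 6 n62135 = n61272 := d26_2 (iv F272845) D62135 (iv D61272)
theorem F277482 : act 7 n62135 = n61125 := d27_2 (iv F272846) D62135 (iv D61125)
theorem F277483 : act 8 n62135 = n61691 := d28_2 (iv F272847) D62135 (iv D61691) (iv F272150) F272146
def n62136 : Q := act 4 n61110
theorem D62136 : act 4 n61110 = n62136 := rfl
theorem F277484 : act 0 n62136 = n61111 := d3_1 D62136 (iv D61111) D61110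
theorem F277485 : act 2 n62136 = n61646 := d18_1 D62136 (iv D61646) (iv F272848)
theorem F277486 : act 7 n62136 = n61129 := d32_2 (iv F272850) D62136 (iv D61129)
theorem F277487 : act 9 n62136 = n61149 := d34_2 (iv F272851) D62136 (iv D61149)
def n62137 : Q := act 4 n61112
theorem D62137 : act 4 n61112 = n62137 := rfl
theorem F277488 : act 0 n62137 = n61113 := d3_1 D62137 (iv D61113) D61112
theorem F277489 : act 2 n62137 = n61667 := d18_1 D62137 (iv D61667) (iv F272856)
theorem F277490 : act 7 n62137 = n61133 := d32_2 (iv F272858) D62137 (iv D61133)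
theorem F277491 : act 9 n62137 = n61150 := d34_2 (iv F272859) D62137 (iv D61150)
def n62138 : Q := act 0 n61114
theorem D62138 : act 0 n61114 = n62138 := rfl
theorem F277492 : act 1 n62138 = n61651 := d0_2 D61114 D62138 (iv D61651) (iv D60523) (iv F267810)
theorem F277493 : act 2 n62138 = n61123 := d1_2 (iv F272864) D62138 (iv D61123)
theorem F277494 : act 3 n62138 = n61212 := d2_2 (iv F272865) D62138 (iv D61212)
theorem F277495 : act 5 n62138 = n61209 := d4_2 (iv F272866) D62138 (iv D61209)
theorem F277496 : act 6 n62138 = n61222 := d5_2 (iv F272867) D62138 (iv D61222)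
theorem F277497 : act 7 n62138 = n61642 := d6_2 (iv F272868) D62138 (iv D61642)
theorem F277498 : act 8 n62138 = n61117 := d7_2 (iv F272869) D62138 (iv D61117)
def n62139 : Q := act 4 n61114
theorem D62139 : act 4 n61114 = n62139 := rfl
theorem F277499 : act 1 n62139 = n61115 := d11_1 D62139 (iv D61115) D61114
theorem F277500 : act 2 n62139 = n61124 := d18_1 D62139 (iv D61124) (iv F272864)
theorem F277501 : act 6 n62139 = n61223 := d31_2 (iv F272867) D62139 (iv D61223)
theorem F277502 : act 7 n62139 = n61643 := d32_2 (iv F272868) D62139 (iv D61643)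
theorem F277503 : act 8 n62139 = n61118 := d33_2 (iv F272869) D62139 (iv D61118)
def n62140 : Q := act 3 n61115
theorem D62140 : act 3 n61115 = n62140 := rfl
theorem F277504 : act 0 n62140 = n61653 := d2_1 D62140 (iv D61653) (iv F272870)
theorem F277505 : act 2 n62140 = n62140 := d17_1 D62140 (iv D62140) F272871 F267818 (iv F272871)
theorem F277506 : act 4 n62140 = n61214 := d24_2 D61115 D62140 (iv D61214) (iv D60031) (iv F267811)
theorem F277507 : act 6 n62140 = n61224 := d26_2 (iv F272872) D62140 (iv D61224)
theorem F277508 : act 7 n62140 = n61644 := d27_2 (iv F272873) D62140 (iv D61644)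
theorem F277509 : act 8 n62140 = n61505 := d28_2 (iv F272874) D62140 (iv D61505) F269488 (iv F267830)
theorem F277510 : act 5 n61594 = n62140 := d37_3 F277509 F274465 D61594
def n62141 : Q := act 5 n61115
theorem D62141 : act 5 n61115 = n62141 := rfl
theorem F277511 : act 0 n62141 = n61654 := d4_1 D62141 (iv D61654) (iv F272870)
theorem F277512 : act 2 n62141 = n61116 := d19_1 D62141 (iv D61116) (iv F272871)
theorem F277513 : act 3 n62141 = n61594 := d25_1 D62141 F277510 (iv D62140)
theorem F277514 : act 4 n62141 = n61211 := d30_1 D62141 (iv D61211) (iv D60028) (iv F267812) D61115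
theorem F277515 : act 6 n62141 = n61135 := d35_2 (iv F272872) D62141 F272952 F269081 (iv F268274)
theorem F277516 : act 7 n62141 = n61645 := d36_2 (iv F272873) D62141 (iv D61645)
theorem F277517 : act 8 n62141 = n61119 := d37_2 (iv F272874) D62141 (iv D61119)
def n62142 : Q := act 4 n61117
theorem D62142 : act 4 n61117 = n62142 := rfl
theorem F277518 : act 0 n62142 = n61118 := d3_1 D62142 (iv D61118) D61117
theorem F277519 : act 1 n62142 = n61660 := d11_1 D62142 (iv D61660) (iv F272882)
theorem F277520 : act 2 n62142 = n61129 := d18_1 D62142 (iv D61129) (iv F272883)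
theorem F277521 : act 3 n62142 = n61508 := d24_1 D62142 (iv D61508) F269506 (iv F269440) (iv F272884)
theorem F277522 : act 6 n62142 = n61669 := d31_2 (iv F272886) D62142 (iv D61669)
theorem F277523 : act 7 n62142 = n61646 := d32_2 (iv F272887) D62142 (iv D61646)
theorem F277524 : act 9 n62142 = n61165 := d34_2 (iv F272888) D62142 (iv D61165)
def n62143 : Q := act 5 n61118
theorem D62143 : act 5 n61118 = n62143 := rfl
theorem F277525 : act 1 n62143 = n61119 := d12_1 D62143 (iv D61119) (iv F272889)
theorem F277526 : act 2 n62143 = n61130 := d19_1 D62143 (iv D61130) (iv F272890)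
theorem F277527 : act 3 n62143 = n61132 := d25_1 D62143 F272941 (iv F272891)
theorem F277528 : act 4 n62143 = n61638 := d30_1 D62143 (iv D61638) (iv D60511) (iv F267824) D61118
theorem F277529 : act 6 n62143 = n61134 := d35_2 (iv F272892) D62143 (iv F276995) F276996 F272962
theorem F277530 : act 7 n62143 = n61647 := d36_2 (iv F272893) D62143 (iv D61647)
theorem F277531 : act 9 n62143 = n61166 := d38_2 (iv F272894) D62143 (iv D61166)
def n62144 : Q := act 0 n61120
theorem D62144 : act 0 n61120 = n62144 := rfl
theorem F277532 : act 6 n62144 = n61670 := d5_2 (iv F272902) D62144 (iv D61670)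
theorem F277533 : act 8 n62144 = n61174 := d7_2 (iv F272903) D62144 (iv D61174)
theorem F277534 : act 9 n62144 = n61123 := d8_2 (iv F272904) D62144 (iv D61123)
def n62145 : Q := act 4 n61120
theorem D62145 : act 4 n61120 = n62145 := rfl
theorem F277535 : act 1 n62145 = n61121 := d11_1 D62145 (iv D61121) D61120
theorem F277536 : act 6 n62145 = n61671 := d31_2 (iv F272902) D62145 (iv D61671)
theorem F277537 : act 8 n62145 = n61175 := d33_2 (iv F272903) D62145 (iv D61175)
theorem F277538 : act 9 n62145 = n61124 := d34_2 (iv F272904) D62145 (iv D61124)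
def n62146 : Q := act 3 n61121
theorem D62146 : act 3 n61121 = n62146 := rfl
theorem F277539 : act 2 n62146 = n62146 := d17_1 D62146 (iv D62146) F272905 F267844 (iv F272905)
theorem F277540 : act 6 n62146 = n61672 := d26_2 (iv F272906) D62146 (iv D61672)
theorem F277541 : act 9 n62146 = n61125 := d29_2 (iv F272908) D62146 (iv D61125)
def n62147 : Q := act 5 n61121
theorem D62147 : act 5 n61121 = n62147 := rfl
theorem F277542 : act 2 n62147 = n61122 := d19_1 D62147 (iv D61122) (iv F272905)
theorem F277543 : act 8 n62147 = n61177 := d37_2 (iv F272907) D62147 (iv D61177)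
theorem F277544 : act 9 n62147 = n61126 := d38_2 (iv F272908) D62147 (iv D61126)
def n62148 : Q := act 4 n61123
theorem D62148 : act 4 n61123 = n62148 := rfl
theorem F277545 : act 0 n62148 = n61124 := d3_1 D62148 (iv D61124) D61123
theorem F277546 : act 6 n62148 = n61673 := d31_2 (iv F272912) D62148 (iv D61673)
theorem F277547 : act 8 n62148 = n61129 := d33_2 (iv F272913) D62148 (iv D61129)
def n62149 : Q := act 3 n61124
theorem D62149 : act 3 n61124 = n62149 := rfl
theorem F277548 : act 1 n62149 = n61125 := d10_1 D62149 (iv D61125) (iv F272914)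
theorem F277549 : act 6 n62149 = n61674 := d26_2 (iv F272915) D62149 (iv D61674)
def n62150 : Q := act 5 n61124
theorem D62150 : act 5 n61124 = n62150 := rfl
theorem F277550 : act 1 n62150 = n61126 := d12_1 D62150 (iv D61126) (iv F272914)
theorem F277551 : act 8 n62150 = n61130 := d37_2 (iv F272916) D62150 (iv D61130)
def n62151 : Q := act 5 n61125
theorem D62151 : act 5 n61125 = n62151 := rfl
theorem F277552 : act 2 n62151 = n62151 := d19_1 D62151 (iv D62151) F272917
theorem F277553 : act 3 n62151 = n61126 := d25_1 D62151 (iv D61126) D61125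
def n62152 : Q := act 4 n61127
theorem D62152 : act 4 n61127 = n62152 := rfl
theorem F277554 : act 0 n62152 = n61128 := d3_1 D62152 (iv D61128) D61127
theorem F277555 : act 1 n62152 = n61683 := d11_1 D62152 (iv F277203) F277200
theorem F277556 : act 2 n62152 = n61637 := d18_1 D62152 (iv D61637) (iv F272921)
theorem F277557 : act 6 n62152 = n61668 := d31_2 F275234 D62152 (iv F275232)
theorem F277558 : act 9 n62152 = n61186 := d34_2 (iv F272924) D62152 (iv D61186)
def n62153 : Q := act 5 n61129
theorem D62153 : act 5 n61129 = n62153 := rfl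
theorem F277559 : act 0 n62153 = n61130 := d4_1 D62153 (iv D61130) (iv F272929)
theorem F277560 : act 9 n62153 = n61190 := d38_2 (iv F272931) D62153 (iv D61190)
def n62154 : Q := act 4 n61131
theorem D62154 : act 4 n61131 = n62154 := rfl
theorem F277561 : act 0 n62154 = n61132 := d3_1 D62154 (iv D61132) D61131
theorem F277562 : act 2 n62154 = n61677 := d18_1 D62154 (iv D61677) (iv F272934)
theorem F277563 : act 5 n62154 = n61508 := d30_2 (iv F272935) D62154 (iv D61508) F269507 (iv F269453)
theorem F277564 : act 6 n62154 = n61133 := d31_2 (iv F272936) D62154 (iv D61133)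
theorem F277565 : act 7 n62154 = n61675 := d32_2 F275244 D62154 (iv F275241)
theorem F277566 : act 8 n62154 = n61592 := d33_2 (iv F272937) D62154 (iv D61592)
theorem F277567 : act 9 n62154 = n61193 := d34_2 (iv F272938) D62154 (iv D61193)
def n62155 : Q := act 3 n61133
theorem D62155 : act 3 n61133 = n62155 := rfl
theorem F277568 : act 0 n62155 = n61134 := d2_1 D62155 (iv D61134) (iv F272946)
theorem F277569 : act 9 n62155 = n61194 := d29_2 (iv F272947) D62155 (iv D61194)
def n62156 : Q := act 8 n61134
theorem D62156 : act 8 n61134 = n62156 := rfl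
theorem F277570 : act 1 n62156 = n61135 := d15_1 D62156 (iv D61135) (iv F272948)
theorem F277571 : act 4 n62156 = n61433 := d33_1 D62156 (iv F277270) F277267
theorem F277572 : act 5 n62156 = n61403 := d37_1 D62156 F277000 F276995
def n62157 : Q := act 9 n61135
theorem D62157 : act 9 n61135 = n62157 := rfl
theorem F277573 : act 2 n62157 = n61136 := d23_1 D62157 (iv D61136) (iv F272950)
theorem F277574 : act 4 n62157 = n61363 := d34_1 D62157 F273924 (iv F272951)
theorem F277575 : act 5 n62157 = n61351 := d38_1 D62157 F273876 (iv F272952)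
theorem F277576 : act 8 n62157 = n61196 := d44_1 D62157 (iv D61196) (iv D60007) (iv F267887) D61135
def n62158 : Q := act 4 n61137
theorem D62158 : act 4 n61137 = n62158 := rfl
theorem F277577 : act 0 n62158 = n61138 := d3_1 D62158 (iv D61138) D61137
theorem F277578 : act 2 n62158 = n61675 := d18_1 D62158 (iv F275241) F275239
theorem F277579 : act 5 n62158 = n61669 := d30_2 (iv F272957) D62158 (iv D61669) (iv F272340) F272339
theorem F277580 : act 7 n62158 = n61677 := d32_2 (iv F272958) D62158 (iv D61677)
theorem F277581 : act 8 n62158 = n61405 := d33_2 (iv F272959) D62158 (iv D61405)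
theorem F277582 : act 9 n62158 = n61681 := d34_2 F275292 D62158 (iv F275287)
def n62159 : Q := act 1 n61139
theorem D62159 : act 1 n61139 = n62159 := rfl
theorem F277583 : act 2 n62159 = n61648 := d9_2 D61139 D62159 (iv D61648) (iv D60521) (iv F267903)
theorem F277584 : act 3 n62159 = n61413 := d10_2 (iv F272967) D62159 (iv D61413)
theorem F277585 : act 5 n62159 = n61143 := d12_2 (iv F272968) D62159 (iv D61143)
theorem F277586 : act 6 n62159 = n61240 := d13_2 (iv F272969) D62159 (iv D61240)
theorem F277587 : act 7 n62159 = n61167 := d14_2 (iv F272970) D62159 (iv D61167)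
theorem F277588 : act 8 n62159 = n61256 := d15_2 (iv F272971) D62159 (iv D61256)
theorem F277589 : act 9 n62159 = n61141 := d16_2 (iv F272972) D62159 (iv D61141)
def n62160 : Q := act 4 n61139
theorem D62160 : act 4 n61139 = n62160 := rfl
theorem F277590 : act 0 n62160 = n61308 := d3_1 D62160 (iv D61308) (iv F272966)
theorem F277591 : act 2 n62160 = n61140 := d18_1 D62160 (iv D61140) D61139
theorem F277592 : act 6 n62160 = n61241 := d31_2 (iv F272969) D62160 (iv D61241)
theorem F277593 : act 7 n62160 = n61168 := d32_2 (iv F272970) D62160 (iv D61168)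
theorem F277594 : act 8 n62160 = n61257 := d33_2 (iv F272971) D62160 (iv D61257)
theorem F277595 : act 9 n62160 = n61142 := d34_2 (iv F272972) D62160 (iv D61142)
def n62161 : Q := act 0 n61141
theorem D62161 : act 0 n61141 = n62161 := rfl
theorem F277596 : act 2 n62161 = n61651 := d1_2 (iv F272980) D62161 (iv D61651)
theorem F277597 : act 3 n62161 = n61414 := d2_2 (iv F272981) D62161 (iv D61414)
theorem F277598 : act 5 n62161 = n61145 := d4_2 (iv F272982) D62161 (iv D61145)
theorem F277599 : act 7 n62161 = n61170 := d6_2 (iv F272983) D62161 (iv D61170)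
theorem F277600 : act 8 n62161 = n61147 := d7_2 (iv F272984) D62161 (iv D61147)
def n62162 : Q := act 4 n61141
theorem D62162 : act 4 n61141 = n62162 := rfl
theorem F277601 : act 1 n62162 = n61142 := d11_1 D62162 (iv D61142) D61141
theorem F277602 : act 2 n62162 = n61652 := d18_1 D62162 (iv D61652) (iv F272980)
theorem F277603 : act 7 n62162 = n61171 := d32_2 (iv F272983) D62162 (iv D61171)
theorem F277604 : act 8 n62162 = n61148 := d33_2 (iv F272984) D62162 (iv D61148)
def n62163 : Q := act 3 n61142
theorem D62163 : act 3 n61142 = n62163 := rfl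
theorem F277605 : act 2 n62163 = n62163 := d17_1 D62163 (iv D62163) F272985 F267914 (iv F272985)
theorem F277606 : act 4 n62163 = n61416 := d24_2 D61142 D62163 (iv D61416) (iv D60245) (iv F267909)
theorem F277607 : act 7 n62163 = n61172 := d27_2 (iv F272986) D62163 (iv D61172)
def n62164 : Q := act 0 n61143
theorem D62164 : act 0 n61143 = n62164 := rfl
theorem F277608 : act 1 n62164 = n61723 := d0_2 D61143 D62164 (iv D61723) (iv D60636) (iv F267917)
theorem F277609 : act 2 n62164 = n61655 := d1_2 (iv F272988) D62164 (iv D61655)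
theorem F277610 : act 3 n62164 = n61417 := d2_2 (iv F272989) D62164 (iv D61417)
theorem F277611 : act 6 n62164 = n61694 := d5_2 (iv F272990) D62164 (iv D61694)
theorem F277612 : act 7 n62164 = n61174 := d6_2 (iv F272991) D62164 (iv D61174)
theorem F277613 : act 9 n62164 = n61145 := d8_2 (iv F272992) D62164 (iv D61145)
def n62165 : Q := act 4 n61143
theorem D62165 : act 4 n61143 = n62165 := rfl
theorem F277614 : act 1 n62165 = n61144 := d11_1 D62165 (iv D61144) D61143
theorem F277615 : act 2 n62165 = n61656 := d18_1 D62165 (iv D61656) (iv F272988)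
theorem F277616 : act 6 n62165 = n61695 := d31_2 (iv F272990) D62165 (iv D61695)
theorem F277617 : act 7 n62165 = n61175 := d32_2 (iv F272991) D62165 (iv D61175)
theorem F277618 : act 9 n62165 = n61146 := d34_2 (iv F272992) D62165 (iv D61146)
def n62166 : Q := act 4 n61145
theorem D62166 : act 4 n61145 = n62166 := rfl
theorem F277619 : act 0 n62166 = n61146 := d3_1 D62166 (iv D61146) D61145
theorem F277620 : act 2 n62166 = n61658 := d18_1 D62166 (iv D61658) (iv F272998)
theorem F277621 : act 7 n62166 = n61179 := d32_2 (iv F273000) D62166 (iv D61179)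
theorem F277622 : act 8 n62166 = n61149 := d33_2 (iv F273001) D62166 (iv D61149)
def n62167 : Q := act 4 n61147
theorem D62167 : act 4 n61147 = n62167 := rfl
theorem F277623 : act 0 n62167 = n61148 := d3_1 D62167 (iv D61148) D61147
theorem F277624 : act 2 n62167 = n61660 := d18_1 D62167 (iv D61660) (iv F273006)
theorem F277625 : act 7 n62167 = n61186 := d32_2 (iv F273009) D62167 (iv D61186)
def n62168 : Q := act 0 n61151
theorem D62168 : act 0 n61151 = n62168 := rfl
theorem F277626 : act 1 n62168 = n61159 := d0_2 D61151 D62168 (iv D61159) (iv D59971) (iv F267955)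
theorem F277627 : act 2 n62168 = n61281 := d1_2 (iv F273020) D62168 (iv D61281)
theorem F277628 : act 3 n62168 = n61208 := d2_2 (iv F273021) D62168 (iv D61208)
theorem F277629 : act 5 n62168 = n61642 := d4_2 (iv F273022) D62168 (iv D61642)
theorem F277630 : act 6 n62168 = n61226 := d5_2 (iv F273023) D62168 (iv D61226)
theorem F277631 : act 7 n62168 = n61209 := d6_2 (iv F273024) D62168 (iv D61209)
theorem F277632 : act 8 n62168 = n61152 := d7_2 (iv F273025) D62168 (iv D61152)
def n62169 : Q := act 0 n61153
theorem D62169 : act 0 n61153 = n62169 := rfl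
theorem F277633 : act 1 n62169 = n61642 := d0_2 D61153 D62169 (iv D61642) (iv D60515) (iv F267966)
theorem F277634 : act 2 n62169 = n61170 := d1_2 (iv F273032) D62169 (iv D61170)
theorem F277635 : act 3 n62169 = n61696 := d2_2 (iv F273033) D62169 (iv D61696)
theorem F277636 : act 5 n62169 = n61159 := d4_2 (iv F273034) D62169 (iv D61159)
theorem F277637 : act 7 n62169 = n61651 := d6_2 (iv F273035) D62169 (iv D61651)
theorem F277638 : act 8 n62169 = n61162 := d7_2 (iv F273036) D62169 (iv D61162)
def n62170 : Q := act 4 n61153
theorem D62170 : act 4 n61153 = n62170 := rfl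
theorem F277639 : act 1 n62170 = n61154 := d11_1 D62170 (iv D61154) D61153
theorem F277640 : act 2 n62170 = n61171 := d18_1 D62170 (iv D61171) (iv F273032)
theorem F277641 : act 7 n62170 = n61652 := d32_2 (iv F273035) D62170 (iv D61652)
theorem F277642 : act 8 n62170 = n61163 := d33_2 (iv F273036) D62170 (iv D61163)
def n62171 : Q := act 3 n61154
theorem D62171 : act 3 n61154 = n62171 := rfl
theorem F277643 : act 0 n62171 = n61644 := d2_1 D62171 (iv D61644) (iv F273037)
theorem F277644 : act 2 n62171 = n62171 := d17_1 D62171 (iv D62171) F273038 F267973 (iv F273038)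
theorem F277645 : act 4 n62171 = n61698 := d24_2 D61154 D62171 (iv D61698) (iv D60591) (iv F267967)
theorem F277646 : act 7 n62171 = n61653 := d27_2 (iv F273039) D62171 (iv D61653)
theorem F277647 : act 8 n62171 = n61666 := d28_2 (iv F273040) D62171 (iv D61666) F270080 (iv F268007)
def n62172 : Q := act 5 n61154
theorem D62172 : act 5 n61154 = n62172 := rfl
theorem F277648 : act 0 n62172 = n61645 := d4_1 D62172 (iv D61645) (iv F273037)
theorem F277649 : act 2 n62172 = n61155 := d19_1 D62172 (iv D61155) (iv F273038)
theorem F277650 : act 4 n62172 = n61161 := d30_1 D62172 (iv D61161) (iv D59972) (iv F267968) D61154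
theorem F277651 : act 6 n62172 = n61189 := d35_2 F275942 D62172 (iv F276561) F276562 (iv F275941)
theorem F277652 : act 7 n62172 = n61654 := d36_2 (iv F273039) D62172 (iv D61654)
theorem F277653 : act 8 n62172 = n61164 := d37_2 (iv F273040) D62172 (iv D61164)
def n62173 : Q := act 0 n61156
theorem D62173 : act 0 n61156 = n62173 := rfl
theorem F277654 : act 2 n62173 = n61174 := d1_2 (iv F273048) D62173 (iv D61174)
theorem F277655 : act 3 n62173 = n61233 := d2_2 (iv F273049) D62173 (iv D61233)
theorem F277656 : act 6 n62173 = n61234 := d5_2 (iv F273050) D62173 (iv D61234)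
theorem F277657 : act 7 n62173 = n61655 := d6_2 (iv F273051) D62173 (iv D61655)
theorem F277658 : act 9 n62173 = n61159 := d8_2 (iv F273052) D62173 (iv D61159)
def n62174 : Q := act 4 n61156
theorem D62174 : act 4 n61156 = n62174 := rfl
theorem F277659 : act 1 n62174 = n61157 := d11_1 D62174 (iv D61157) D61156
theorem F277660 : act 2 n62174 = n61175 := d18_1 D62174 (iv D61175) (iv F273048)
theorem F277661 : act 3 n62174 = n61619 := d24_1 D62174 (iv D61619) (iv F272448) F272449 (iv F273049)
theorem F277662 : act 6 n62174 = n61235 := d31_2 (iv F273050) D62174 (iv D61235)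
theorem F277663 : act 7 n62174 = n61656 := d32_2 (iv F273051) D62174 (iv D61656)
theorem F277664 : act 9 n62174 = n61160 := d34_2 (iv F273052) D62174 (iv D61160)
def n62175 : Q := act 5 n61157
theorem D62175 : act 5 n61157 = n62175 := rfl
theorem F277665 : act 2 n62175 = n61158 := d19_1 D62175 (iv D61158) (iv F273053)
theorem F277666 : act 3 n62175 = n61482 := d25_1 D62175 F274379 (iv F273054)
theorem F277667 : act 6 n62175 = n61196 := d35_2 (iv F273055) D62175 F273194 (iv F271774) F271773
theorem F277668 : act 7 n62175 = n61657 := d36_2 (iv F273056) D62175 (iv D61657)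
theorem F277669 : act 9 n62175 = n61161 := d38_2 (iv F273057) D62175 (iv D61161)
def n62176 : Q := act 4 n61159
theorem D62176 : act 4 n61159 = n62176 := rfl
theorem F277670 : act 0 n62176 = n61160 := d3_1 D62176 (iv D61160) D61159
theorem F277671 : act 2 n62176 = n61179 := d18_1 D62176 (iv D61179) (iv F273063)
theorem F277672 : act 3 n62176 = n61620 := d24_1 D62176 (iv D61620) (iv F273416) F273417 (iv F273064)
theorem F277673 : act 6 n62176 = n61680 := d31_2 (iv F273065) D62176 (iv D61680)
theorem F277674 : act 7 n62176 = n61658 := d32_2 (iv F273066) D62176 (iv D61658)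
theorem F277675 : act 8 n62176 = n61165 := d33_2 (iv F273067) D62176 (iv D61165)
def n62177 : Q := act 5 n61160
theorem D62177 : act 5 n61160 = n62177 := rfl
theorem F277676 : act 1 n62177 = n61161 := d12_1 D62177 (iv D61161) (iv F273068)
theorem F277677 : act 2 n62177 = n61181 := d19_1 D62177 (iv D61181) (iv F273069)
theorem F277678 : act 3 n62177 = n61481 := d25_1 D62177 F274376 (iv F273070)
theorem F277679 : act 6 n62177 = n61195 := d35_2 (iv F273071) D62177 F276650 F276646 F272070
theorem F277680 : act 7 n62177 = n61659 := d36_2 (iv F273072) D62177 (iv D61659)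
theorem F277681 : act 8 n62177 = n61166 := d37_2 (iv F273073) D62177 (iv D61166)
def n62178 : Q := act 4 n61162
theorem D62178 : act 4 n61162 = n62178 := rfl
theorem F277682 : act 0 n62178 = n61163 := d3_1 D62178 (iv D61163) D61162
theorem F277683 : act 1 n62178 = n61646 := d11_1 D62178 (iv D61646) (iv F273079)
theorem F277684 : act 2 n62178 = n61186 := d18_1 D62178 (iv D61186) (iv F273080)
theorem F277685 : act 3 n62178 = n61667 := d24_1 D62178 (iv D61667) F270082 (iv F269995) (iv F273081)
theorem F277686 : act 7 n62178 = n61660 := d32_2 (iv F273083) D62178 (iv D61660)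
theorem F277687 : act 9 n62178 = n61637 := d34_2 (iv F273084) D62178 (iv D61637)
def n62179 : Q := act 5 n61163
theorem D62179 : act 5 n61163 = n62179 := rfl
theorem F277688 : act 1 n62179 = n61164 := d12_1 D62179 (iv D61164) (iv F273085)
theorem F277689 : act 2 n62179 = n61188 := d19_1 D62179 (iv D61188) (iv F273086)
theorem F277690 : act 3 n62179 = n61185 := d25_1 D62179 F273166 (iv F273087)
theorem F277691 : act 4 n62179 = n61166 := d30_1 D62179 (iv D61166) (iv D59978) (iv F268002) D61163
theorem F277692 : act 6 n62179 = n61187 := d35_2 F276806 D62179 (iv F277177) F277178 (iv F276805)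
theorem F277693 : act 7 n62179 = n61661 := d36_2 (iv F273088) D62179 (iv D61661)
theorem F277694 : act 9 n62179 = n61638 := d38_2 (iv F273089) D62179 (iv D61638)
def n62180 : Q := act 5 n61165
theorem D62180 : act 5 n61165 = n62180 := rfl
theorem F277695 : act 0 n62180 = n61166 := d4_1 D62180 (iv D61166) (iv F273097)
theorem F277696 : act 2 n62180 = n61190 := d19_1 D62180 (iv D61190) (iv F273098)
theorem F277697 : act 3 n62180 = n61193 := d25_1 D62180 F273185 (iv F273099)
theorem F277698 : act 6 n62180 = n61194 := d35_2 (iv F273100) D62180 (iv F277034) F277035 (iv D61681)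
theorem F277699 : act 7 n62180 = n61662 := d36_2 (iv F273101) D62180 (iv D61662)
def n62181 : Q := act 0 n61167
theorem D62181 : act 0 n61167 = n62181 := rfl
theorem F277700 : act 3 n62181 = n61455 := d2_2 (iv F273107) D62181 (iv D61455)
theorem F277701 : act 5 n62181 = n61174 := d4_2 (iv F273108) D62181 (iv D61174)
theorem F277702 : act 9 n62181 = n61170 := d8_2 (iv F273109) D62181 (iv D61170)
def n62182 : Q := act 4 n61167
theorem D62182 : act 4 n61167 = n62182 := rfl
theorem F277703 : act 1 n62182 = n61168 := d11_1 D62182 (iv D61168) D61167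
theorem F277704 : act 9 n62182 = n61171 := d34_2 (iv F273109) D62182 (iv D61171)
def n62183 : Q := act 3 n61168
theorem D62183 : act 3 n61168 = n62183 := rfl
theorem F277705 : act 2 n62183 = n62183 := d17_1 D62183 (iv D62183) F273110 F268033 (iv F273110)
theorem F277706 : act 4 n62183 = n61457 := d24_2 D61168 D62183 (iv D61457) (iv D60283) (iv F268030)
theorem F277707 : act 9 n62183 = n61172 := d29_2 (iv F273111) D62183 (iv D61172)
def n62184 : Q := act 5 n61168
theorem D62184 : act 5 n61168 = n62184 := rfl
theorem F277708 : act 2 n62184 = n61169 := d19_1 D62184 (iv D61169) (iv F273110)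
theorem F277709 : act 4 n62184 = n61177 := d30_1 D62184 (iv D61177) (iv D59986) (iv F268031) D61168
theorem F277710 : act 9 n62184 = n61173 := d38_2 (iv F273111) D62184 (iv D61173)
def n62185 : Q := act 4 n61170
theorem D62185 : act 4 n61170 = n62185 := rfl
theorem F277711 : act 0 n62185 = n61171 := d3_1 D62185 (iv D61171) D61170
theorem F277712 : act 8 n62185 = n61186 := d33_2 (iv F273117) D62185 (iv D61186)
def n62186 : Q := act 3 n61171
theorem D62186 : act 3 n61171 = n62186 := rfl
theorem F277713 : act 1 n62186 = n61172 := d10_1 D62186 (iv D61172) (iv F273118)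
theorem F277714 : act 4 n62186 = n61459 := d24_2 D61171 D62186 (iv D61459) (iv D60285) (iv F268035)
def n62187 : Q := act 5 n61171
theorem D62187 : act 5 n61171 = n62187 := rfl
theorem F277715 : act 1 n62187 = n61173 := d12_1 D62187 (iv D61173) (iv F273118)
theorem F277716 : act 4 n62187 = n61181 := d30_1 D62187 (iv D61181) (iv D59989) (iv F268036) D61171
theorem F277717 : act 8 n62187 = n61188 := d37_2 (iv F273119) D62187 (iv D61188)
def n62188 : Q := act 5 n61172
theorem D62188 : act 5 n61172 = n62188 := rfl
theorem F277718 : act 2 n62188 = n62188 := d19_1 D62188 (iv D62188) F273120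
theorem F277719 : act 3 n62188 = n61173 := d25_1 D62188 (iv D61173) D61172
def n62189 : Q := act 8 n61172
theorem D62189 : act 8 n61172 = n62189 := rfl
theorem F277720 : act 2 n62189 = n62189 := d22_1 D62189 (iv D62189) F273120
theorem F277721 : act 3 n62189 = n61189 := d28_1 D62189 (iv D61189) (iv D59997) (iv F268039) D61172
theorem F277722 : act 4 n62189 = n61462 := d33_1 D62189 (iv D61462) (iv F273121)
def n62190 : Q := act 4 n61174
theorem D62190 : act 4 n61174 = n62190 := rfl
theorem F277723 : act 0 n62190 = n61175 := d3_1 D62190 (iv D61175) D61174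
theorem F277724 : act 6 n62190 = n61682 := d31_2 (iv F273126) D62190 (iv D61682)
theorem F277725 : act 9 n62190 = n61179 := d34_2 (iv F273127) D62190 (iv D61179)
def n62191 : Q := act 3 n61175
theorem D62191 : act 3 n61175 = n62191 := rfl
theorem F277726 : act 1 n62191 = n61176 := d10_1 D62191 (iv D61176) (iv F273128)
theorem F277727 : act 2 n62191 = n61563 := d17_1 D62191 F274680 (iv F274847) (iv F277661) F277660
theorem F277728 : act 4 n62191 = n61464 := d24_2 D61175 D62191 (iv D61464) (iv D60289) (iv F268043)
theorem F277729 : act 6 n62191 = n61568 := d26_2 (iv F273129) D62191 F274700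
theorem F277730 : act 9 n62191 = n61180 := d29_2 (iv F273130) D62191 (iv D61180)
def n62192 : Q := act 5 n61175
theorem D62192 : act 5 n61175 = n62192 := rfl
theorem F277731 : act 1 n62192 = n61177 := d12_1 D62192 (iv D61177) (iv F273128)
theorem F277732 : act 9 n62192 = n61181 := d38_2 (iv F273130) D62192 (iv D61181)
def n62193 : Q := act 5 n61176
theorem D62193 : act 5 n61176 = n62193 := rfl
theorem F277733 : act 0 n62193 = n61438 := d4_1 D62193 F274226 (iv F273131)
theorem F277734 : act 2 n62193 = n61199 := d19_1 D62193 (iv D61199) (iv F273132)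
theorem F277735 : act 3 n62193 = n61177 := d25_1 D62193 (iv D61177) D61176
theorem F277736 : act 7 n62193 = n61300 := d36_2 F275750 D62193 F275753
theorem F277737 : act 9 n62193 = n61182 := d38_2 (iv F273135) D62193 (iv D61182)
def n62194 : Q := act 6 n61177
theorem D62194 : act 6 n61177 = n62194 := rfl
theorem F277738 : act 2 n62194 = n61178 := d20_1 D62194 (iv D61178) (iv F273136)
theorem F277739 : act 5 n62194 = n61359 := d35_1 D62194 F273911 F268956 (iv F268047) D61177
theorem F277740 : act 9 n62194 = n61183 := d41_2 (iv F273137) D62194 (iv D61183)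
theorem F277741 : act 7 n61363 = n62194 := d43_3 F277740 (iv F273161) (iv F273924)
def n62195 : Q := act 3 n61179
theorem D62195 : act 3 n61179 = n62195 := rfl
theorem F277742 : act 0 n62195 = n61180 := d2_1 D62195 (iv D61180) (iv F273143)
theorem F277743 : act 1 n62195 = n61717 := d10_1 D62195 (iv F276654) F276652
theorem F277744 : act 2 n62195 = n61590 := d17_1 D62195 F274763 (iv F274850) (iv F277672) F277671
theorem F277745 : act 4 n62195 = n61465 := d24_2 D61179 D62195 (iv D61465) (iv D60291) (iv F268051)
theorem F277746 : act 6 n62195 = n61597 := d26_2 (iv F273144) D62195 F274782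
theorem F277747 : act 8 n62195 = n61706 := d28_2 (iv F273145) D62195 (iv F277010) F277014 F272370
def n62196 : Q := act 5 n61179
theorem D62196 : act 5 n61179 = n62196 := rfl
theorem F277748 : act 0 n62196 = n61181 := d4_1 D62196 (iv D61181) (iv F273143)
theorem F277749 : act 8 n62196 = n61190 := d37_2 (iv F273145) D62196 (iv D61190)
def n62197 : Q := act 5 n61180
theorem D62197 : act 5 n61180 = n62197 := rfl
theorem F277750 : act 1 n62197 = n61182 := d12_1 D62197 (iv D61182) (iv F273146)
theorem F277751 : act 2 n62197 = n61591 := d19_1 D62197 (iv D61591) (iv F273147)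
theorem F277752 : act 3 n62197 = n61181 := d25_1 D62197 (iv D61181) D61180
theorem F277753 : act 7 n62197 = n61299 := d36_2 F275765 D62197 F275767
theorem F277754 : act 8 n62197 = n61286 := d37_2 (iv F273150) D62197 F273621
def n62198 : Q := act 6 n61181
theorem D62198 : act 6 n61181 = n62198 := rfl
theorem F277755 : act 1 n62198 = n61183 := d13_1 D62198 (iv D61183) (iv F273151)
theorem F277756 : act 2 n62198 = n61195 := d20_1 D62198 (iv F277679) F277677
theorem F277757 : act 5 n62198 = n61429 := d35_1 D62198 F274203 F269312 (iv F268055) D61181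
theorem F277758 : act 8 n62198 = n61191 := d40_2 (iv F273152) D62198 (iv D61191)
theorem F277759 : act 7 n61433 = n62198 := d42_3 F277758 (iv F277269) F277270
def n62199 : Q := act 4 n61182
theorem D62199 : act 4 n61182 = n62199 := rfl
theorem F277760 : act 0 n62199 = n61427 := d3_1 D62199 F274197 (iv F273153)
theorem F277761 : act 2 n62199 = n61200 := d18_1 D62199 (iv D61200) (iv F273154)
theorem F277762 : act 5 n62199 = n61468 := d30_2 D61182 D62199 (iv D61468) (iv D60294) (iv F268059)
theorem F277763 : act 7 n62199 = n61297 := d32_2 (iv F273156) D62199 F273673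
theorem F277764 : act 8 n62199 = n61280 := d33_2 (iv F273157) D62199 F273602
def n62200 : Q := act 6 n61182
theorem D62200 : act 6 n61182 = n62200 := rfl
theorem F277765 : act 0 n62200 = n61434 := d5_1 D62200 F274215 (iv F273153)
theorem F277766 : act 2 n62200 = n61198 := d20_1 D62200 F273202 (iv F273154)
theorem F277767 : act 3 n62200 = n61183 := d26_1 D62200 (iv D61183) (iv F273155)
theorem F277768 : act 5 n62200 = n61430 := d35_1 D62200 F274207 F269316 (iv F268060) D61182
theorem F277769 : act 7 n62200 = n61342 := d39_2 (iv F273156) D62200 (iv D61342) (iv F271132) F271131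
theorem F277770 : act 8 n62200 = n61283 := d40_2 (iv F273157) D62200 F273612
def n62201 : Q := act 4 n61184
theorem D62201 : act 4 n61184 = n62201 := rfl
theorem F277771 : act 0 n62201 = n61185 := d3_1 D62201 (iv D61185) D61184
theorem F277772 : act 1 n62201 = n61675 := d11_1 D62201 (iv F275241) F275238
theorem F277773 : act 5 n62201 = n61667 := d30_2 (iv F273163) D62201 (iv D61667) (iv F270538) F270537
theorem F277774 : act 6 n62201 = n61186 := d31_2 (iv F273164) D62201 (iv D61186)
theorem F277775 : act 9 n62201 = n61668 := d34_2 F275237 D62201 (iv F275232)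
def n62202 : Q := act 3 n61186
theorem D62202 : act 3 n61186 = n62202 := rfl
theorem F277776 : act 0 n62202 = n61187 := d2_1 D62202 (iv D61187) (iv F273169)
theorem F277777 : act 4 n62202 = n61194 := d24_2 D61186 D62202 (iv D61194) (iv D60005) (iv F268077)
def n62203 : Q := act 5 n61186
theorem D62203 : act 5 n61186 = n62203 := rfl
theorem F277778 : act 0 n62203 = n61188 := d4_1 D62203 (iv D61188) (iv F273169)
theorem F277779 : act 4 n62203 = n61190 := d30_1 D62203 (iv D61190) (iv D59999) (iv F268078) D61186
def n62204 : Q := act 8 n61187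
theorem D62204 : act 8 n61187 = n62204 := rfl
theorem F277780 : act 1 n62204 = n61189 := d15_1 D62204 (iv D61189) (iv F273170)
theorem F277781 : act 4 n62204 = n61195 := d33_1 D62204 (iv D61195) (iv F273171)
def n62205 : Q := act 9 n61189
theorem D62205 : act 9 n61189 = n62205 := rfl
theorem F277782 : act 2 n62205 = n61197 := d23_1 D62205 (iv D61197) (iv F273174)
theorem F277783 : act 4 n62205 = n61196 := d34_1 D62205 (iv D61196) (iv F273175)
theorem F277784 : act 5 n62205 = n61308 := d38_1 D62205 (iv F276565) F276561
theorem F277785 : act 8 n62205 = n61363 := d44_1 D62205 F273924 (iv F272643) F272644 D61189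
def n62206 : Q := act 6 n61190
theorem D62206 : act 6 n61190 = n62206 := rfl
theorem F277786 : act 0 n62206 = n61191 := d5_1 D62206 (iv D61191) (iv F273176)
theorem F277787 : act 2 n62206 = n61194 := d20_1 D62206 (iv F277698) F277696
theorem F277788 : act 5 n62206 = n61683 := d35_1 D62206 (iv D61683) (iv D60573) (iv F268085) D61190
def n62207 : Q := act 8 n61194
theorem D62207 : act 8 n61194 = n62207 := rfl
theorem F277789 : act 0 n62207 = n61195 := d7_1 D62207 (iv D61195) (iv F273189)
theorem F277790 : act 3 n62207 = n61484 := d28_1 D62207 (iv D61484) (iv D60312) (iv F268102) D61194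
def n62208 : Q := act 9 n61195
theorem D62208 : act 9 n61195 = n62208 := rfl
theorem F277791 : act 1 n62208 = n61196 := d16_1 D62208 (iv D61196) (iv F273190)
theorem F277792 : act 3 n62208 = n61486 := d29_1 D62208 (iv D61486) (iv F273191)
theorem F277793 : act 5 n62208 = n61724 := d38_1 D62208 (iv F276649) (iv F276650)
def n62209 : Q := act 4 n61198
theorem D62209 : act 4 n61198 = n62209 := rfl
theorem F277794 : act 0 n62209 = n61488 := d3_1 D62209 F274392 (iv F273199)
theorem F277795 : act 1 n62209 = n61500 := d11_1 D62209 (iv D61500) (iv F273200)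
theorem F277796 : act 3 n62209 = n62209 := d24_1 D62209 (iv D62209) (iv D61198) F268120 D61198
theorem F277797 : act 6 n62209 = n61200 := d31_2 (iv F273202) D62209 (iv D61200)
theorem F277798 : act 7 n62209 = n61339 := d32_2 (iv F273203) D62209 F273835
theorem F277799 : act 8 n62209 = n61301 := d33_2 (iv F273204) D62209 F273681
def n62210 : Q := act 4 n61202
theorem D62210 : act 4 n61202 = n62210 := rfl
theorem F277800 : act 0 n62210 = n61203 := d3_1 D62210 (iv D61203) D61202
theorem F277801 : act 1 n62210 = n61636 := d11_1 D62210 (iv D61636) (iv F273221)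
theorem F277802 : act 2 n62210 = n61475 := d18_1 D62210 F274353 (iv F273222)
theorem F277803 : act 3 n62210 = n61239 := d24_1 D62210 (iv D61239) F268384 (iv F268166) (iv F273223)
theorem F277804 : act 5 n62210 = n61444 := d30_2 (iv F273224) D62210 (iv D61444) F269203 D60274
theorem F277805 : act 6 n62210 = n61550 := d31_2 (iv F273225) D62210 (iv D61550)
theorem F277806 : act 8 n62210 = n61745 := d33_2 (iv F273226) D62210 (iv D61745)
theorem F277807 : act 9 n62210 = n61512 := d34_2 (iv F273227) D62210 (iv D61512)
def n62211 : Q := act 0 n61206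
theorem D62211 : act 0 n61206 = n62211 := rfl
theorem F277808 : act 1 n62211 = n61696 := d0_2 D61206 D62211 (iv D61696) (iv D60590) (iv F268186)
theorem F277809 : act 3 n62211 = n61642 := d2_2 (iv F273245) D62211 (iv D61642)
theorem F277810 : act 5 n62211 = n61208 := d4_2 (iv F273246) D62211 (iv D61208)
theorem F277811 : act 7 n62211 = n61212 := d6_2 (iv F273247) D62211 (iv D61212)
theorem F277812 : act 8 n62211 = n61218 := d7_2 (iv F273248) D62211 (iv D61218)
def n62212 : Q := act 4 n61206
theorem D62212 : act 4 n61206 = n62212 := rfl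
theorem F277813 : act 1 n62212 = n61207 := d11_1 D62212 (iv D61207) D61206
theorem F277814 : act 5 n62212 = n61310 := d30_2 (iv F273246) D62212 (iv D61310) F268719 (iv F268196)
theorem F277815 : act 7 n62212 = n61213 := d32_2 (iv F273247) D62212 (iv D61213)
theorem F277816 : act 8 n62212 = n61219 := d33_2 (iv F273248) D62212 (iv D61219)
def n62213 : Q := act 3 n61207
theorem D62213 : act 3 n61207 = n62213 := rfl
theorem F277817 : act 0 n62213 = n61698 := d2_1 D62213 (iv D61698) (iv F273249)
theorem F277818 : act 2 n62213 = n62213 := d17_1 D62213 (iv D62213) F273250 F268192 (iv F273250)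
theorem F277819 : act 4 n62213 = n61644 := d24_2 D61207 D62213 (iv D61644) (iv D60516) (iv F268187)
theorem F277820 : act 5 n62213 = n61311 := d25_2 (iv F273251) D62213 (iv D61311)
theorem F277821 : act 7 n62213 = n61214 := d27_2 (iv F273252) D62213 (iv D61214)
theorem F277822 : act 8 n62213 = n61602 := d28_2 (iv F273253) D62213 (iv D61602) F269884 (iv F268245)
def n62214 : Q := act 4 n61209
theorem D62214 : act 4 n61209 = n62214 := rfl
theorem F277823 : act 0 n62214 = n61210 := d3_1 D62214 (iv D61210) D61209
theorem F277824 : act 1 n62214 = n61658 := d11_1 D62214 (iv D61658) (iv F273258)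
theorem F277825 : act 3 n62214 = n61340 := d24_1 D62214 (iv D61340) F268816 (iv F268218) (iv F273259)
theorem F277826 : act 6 n62214 = n61225 := d31_2 (iv F273260) D62214 (iv D61225)
theorem F277827 : act 8 n62214 = n61637 := d33_2 (iv F273261) D62214 (iv D61637)
def n62215 : Q := act 5 n61210
theorem D62215 : act 5 n61210 = n62215 := rfl
theorem F277828 : act 1 n62215 = n61211 := d12_1 D62215 (iv D61211) (iv F273262)
theorem F277829 : act 3 n62215 = n61341 := d25_1 D62215 (iv D61341) (iv F273263)
theorem F277830 : act 6 n62215 = n61433 := d35_2 (iv F273264) D62215 (iv D61433) F269169 (iv F268293)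
theorem F277831 : act 8 n62215 = n61638 := d37_2 (iv F273265) D62215 (iv D61638)
def n62216 : Q := act 4 n61212
theorem D62216 : act 4 n61212 = n62216 := rfl
theorem F277832 : act 0 n62216 = n61213 := d3_1 D62216 (iv D61213) D61212
theorem F277833 : act 1 n62216 = n61704 := d11_1 D62216 (iv D61704) (iv F273271)
theorem F277834 : act 5 n62216 = n61346 := d30_2 (iv F273272) D62216 (iv D61346) F268832 (iv F268218)
theorem F277835 : act 8 n62216 = n61220 := d33_2 (iv F273273) D62216 (iv D61220)
def n62217 : Q := act 3 n61213
theorem D62217 : act 3 n61213 = n62217 := rfl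
theorem F277836 : act 1 n62217 = n61214 := d10_1 D62217 (iv D61214) (iv F273274)
theorem F277837 : act 5 n62217 = n61347 := d25_2 (iv F273275) D62217 (iv D61347)
theorem F277838 : act 8 n62217 = n61630 := d28_2 (iv F273276) D62217 (iv D61630) F269967 (iv F268259)
def n62218 : Q := act 0 n61215
theorem D62218 : act 0 n61215 = n62218 := rfl
theorem F277839 : act 1 n62218 = n61686 := d0_2 D61215 D62218 (iv D61686) (iv D60579) (iv F268221)
theorem F277840 : act 2 n62218 = n61670 := d1_2 (iv F273281) D62218 (iv D61670)
theorem F277841 : act 3 n62218 = n61684 := d2_2 (iv F273282) D62218 (iv D61684)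
theorem F277842 : act 5 n62218 = n61217 := d4_2 (iv F273283) D62218 (iv D61217)
theorem F277843 : act 7 n62218 = n61236 := d6_2 (iv F273284) D62218 (iv D61236)
theorem F277844 : act 8 n62218 = n61234 := d7_2 (iv F273285) D62218 (iv D61234)
theorem F277845 : act 9 n62218 = n61222 := d8_2 (iv F273286) D62218 (iv D61222)
def n62219 : Q := act 4 n61215
theorem D62219 : act 4 n61215 = n62219 := rfl
theorem F277846 : act 1 n62219 = n61216 := d11_1 D62219 (iv D61216) D61215
theorem F277847 : act 2 n62219 = n61671 := d18_1 D62219 (iv D61671) (iv F273281)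
theorem F277848 : act 5 n62219 = n61353 := d30_2 (iv F273283) D62219 (iv D61353) F268852 (iv F268235)
theorem F277849 : act 7 n62219 = n61237 := d32_2 (iv F273284) D62219 (iv D61237)
theorem F277850 : act 8 n62219 = n61235 := d33_2 (iv F273285) D62219 (iv D61235)
theorem F277851 : act 9 n62219 = n61223 := d34_2 (iv F273286) D62219 (iv D61223)
def n62220 : Q := act 3 n61216
theorem D62220 : act 3 n61216 = n62220 := rfl
theorem F277852 : act 0 n62220 = n61688 := d2_1 D62220 (iv D61688) (iv F273287)
theorem F277853 : act 2 n62220 = n62220 := d17_1 D62220 (iv D62220) F273288 F268229 (iv F273288)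
theorem F277854 : act 4 n62220 = n61407 := d24_2 D61216 D62220 F274120 (iv D60576) (iv F268222)
theorem F277855 : act 5 n62220 = n61354 := d25_2 (iv F273289) D62220 (iv D61354)
theorem F277856 : act 7 n62220 = n61238 := d27_2 (iv F273290) D62220 (iv D61238)
theorem F277857 : act 8 n62220 = n61398 := d28_2 (iv F273291) D62220 (iv D61398) (iv F271976) F271972
theorem F277858 : act 9 n62220 = n61224 := d29_2 (iv F273292) D62220 (iv D61224)
def n62221 : Q := act 4 n61218
theorem D62221 : act 4 n61218 = n62221 := rfl
theorem F277859 : act 0 n62221 = n61219 := d3_1 D62221 (iv D61219) D61218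
theorem F277860 : act 1 n62221 = n61699 := d11_1 D62221 (iv D61699) (iv F273299)
theorem F277861 : act 3 n62221 = n61610 := d24_1 D62221 (iv D61610) F269903 (iv F269555) (iv F273300)
theorem F277862 : act 5 n62221 = n61364 := d30_2 (iv F273301) D62221 (iv D61364) F268900 (iv F268251)
theorem F277863 : act 7 n62221 = n61220 := d32_2 (iv F273302) D62221 (iv D61220)
theorem F277864 : act 9 n62221 = n61225 := d34_2 (iv F273303) D62221 (iv D61225)
def n62222 : Q := act 4 n61222
theorem D62222 : act 4 n61222 = n62222 := rfl
theorem F277865 : act 0 n62222 = n61223 := d3_1 D62222 (iv D61223) D61222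
theorem F277866 : act 2 n62222 = n61673 := d18_1 D62222 (iv D61673) (iv F273322)
theorem F277867 : act 5 n62222 = n61405 := d30_2 (iv F273323) D62222 (iv D61405) F269082 (iv F268277)
theorem F277868 : act 7 n62222 = n61692 := d32_2 (iv F273324) D62222 (iv D61692)
theorem F277869 : act 8 n62222 = n61669 := d33_2 (iv F273325) D62222 (iv D61669)
def n62223 : Q := act 3 n61223
theorem D62223 : act 3 n61223 = n62223 := rfl
theorem F277870 : act 1 n62223 = n61224 := d10_1 D62223 (iv D61224) (iv F273326)
theorem F277871 : act 5 n62223 = n61406 := d25_2 (iv F273328) D62223 (iv D61406)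
theorem F277872 : act 7 n62223 = n61693 := d27_2 (iv F273329) D62223 (iv D61693)
theorem F277873 : act 8 n62223 = n61708 := d28_2 (iv F273330) D62223 (iv D61708) (iv F274477) F274475
def n62224 : Q := act 4 n61226
theorem D62224 : act 4 n61226 = n62224 := rfl
theorem F277874 : act 0 n62224 = n61227 := d3_1 D62224 (iv D61227) D61226
theorem F277875 : act 1 n62224 = n61680 := d11_1 D62224 (iv D61680) (iv F273340)
theorem F277876 : act 2 n62224 = n61285 := d18_1 D62224 (iv D61285) (iv F273341)
theorem F277877 : act 7 n62224 = n61228 := d32_2 (iv F273343) D62224 (iv D61228)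
theorem F277878 : act 8 n62224 = n61679 := d33_2 (iv F273344) D62224 (iv D61679)
def n62225 : Q := act 8 n61229
theorem D62225 : act 8 n61229 = n62225 := rfl
theorem F277879 : act 0 n62225 = n61230 := d7_1 D62225 (iv D61230) (iv F273352)
theorem F277880 : act 4 n62225 = n61580 := d33_1 D62225 F274744 (iv F273353)
theorem F277881 : act 5 n62225 = n61484 := d37_1 D62225 (iv D61484) (iv F273354)
theorem F277882 : act 7 n62225 = n61717 := d42_1 D62225 F275093 (iv F273355)
def n62226 : Q := act 9 n61230
theorem D62226 : act 9 n61230 = n62226 := rfl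
theorem F277883 : act 1 n62226 = n61231 := d16_1 D62226 (iv D61231) (iv F273357)
theorem F277884 : act 2 n62226 = n61422 := d23_1 D62226 (iv F276741) F276735
theorem F277885 : act 3 n62226 = n61724 := d29_1 D62226 (iv F276649) F276645
theorem F277886 : act 4 n62226 = n61287 := d34_1 D62226 F273629 (iv F273358)
theorem F277887 : act 5 n62226 = n61486 := d38_1 D62226 (iv D61486) (iv F273359)
theorem F277888 : act 6 n62226 = n61410 := d41_1 D62226 (iv F276613) F276610
theorem F277889 : act 7 n62226 = n61716 := d43_1 D62226 F275091 (iv F273360)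
theorem F277890 : act 8 n62226 = n61627 := d44_1 D62226 F274875 F269967 (iv F268339) D61230
def n62227 : Q := act 4 n61234
theorem D62227 : act 4 n61234 = n62227 := rfl
theorem F277891 : act 0 n62227 = n61235 := d3_1 D62227 (iv D61235) D61234
theorem F277892 : act 2 n62227 = n61682 := d18_1 D62227 (iv D61682) (iv F273379)
theorem F277893 : act 7 n62227 = n61239 := d32_2 (iv F273381) D62227 (iv D61239)
theorem F277894 : act 9 n62227 = n61680 := d34_2 (iv F273382) D62227 (iv D61680)
def n62228 : Q := act 4 n61236
theorem D62228 : act 4 n61236 = n62228 := rfl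
theorem F277895 : act 0 n62228 = n61237 := d3_1 D62228 (iv D61237) D61236
theorem F277896 : act 5 n62228 = n61721 := d30_2 (iv F273387) D62228 (iv D61721) F270276 (iv F270159)
theorem F277897 : act 6 n62228 = n61704 := d31_2 (iv F273388) D62228 (iv D61704)
theorem F277898 : act 8 n62228 = n61239 := d33_2 (iv F273389) D62228 (iv D61239)
theorem F277899 : act 9 n62228 = n61692 := d34_2 (iv F273390) D62228 (iv D61692)
def n62229 : Q := act 3 n61237
theorem D62229 : act 3 n61237 = n62229 := rfl
theorem F277900 : act 1 n62229 = n61238 := d10_1 D62229 (iv D61238) (iv F273391)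
theorem F277901 : act 4 n62229 = n61751 := d24_2 D61237 D62229 F277065 (iv D62056) F272425
theorem F277902 : act 5 n62229 = n61722 := d25_2 (iv F273392) D62229 (iv D61722)
theorem F277903 : act 6 n62229 = n61705 := d26_2 (iv F273393) D62229 (iv D61705)
theorem F277904 : act 8 n62229 = n61746 := d28_2 (iv F273394) D62229 (iv D61746) (iv F273233) F273230
theorem F277905 : act 9 n62229 = n61693 := d29_2 (iv F273395) D62229 (iv D61693)
def n62230 : Q := act 0 n61240
theorem D62230 : act 0 n61240 = n62230 := rfl
theorem F277906 : act 1 n62230 = n61309 := d0_2 D61240 D62230 (iv D61309) (iv D60143) (iv F268388)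
theorem F277907 : act 2 n62230 = n61686 := d1_2 (iv F273404) D62230 (iv D61686)
theorem F277908 : act 3 n62230 = n61615 := d2_2 (iv F273405) D62230 (iv D61615)
theorem F277909 : act 5 n62230 = n61242 := d4_2 (iv F273406) D62230 (iv D61242)
theorem F277910 : act 7 n62230 = n61250 := d6_2 (iv F273407) D62230 (iv D61250)
theorem F277911 : act 8 n62230 = n61259 := d7_2 (iv F273408) D62230 (iv D61259)
def n62231 : Q := act 4 n61240
theorem D62231 : act 4 n61240 = n62231 := rfl
theorem F277912 : act 1 n62231 = n61241 := d11_1 D62231 (iv D61241) D61240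
theorem F277913 : act 2 n62231 = n61687 := d18_1 D62231 (iv D61687) (iv F273404)
theorem F277914 : act 5 n62231 = n61697 := d30_2 (iv F273406) D62231 (iv D61697) F270187 (iv F268401)
theorem F277915 : act 7 n62231 = n61251 := d32_2 (iv F273407) D62231 (iv D61251)
theorem F277916 : act 8 n62231 = n61260 := d33_2 (iv F273408) D62231 (iv D61260)
def n62232 : Q := act 3 n61241
theorem D62232 : act 3 n61241 = n62232 := rfl
theorem F277917 : act 0 n62232 = n61311 := d2_1 D62232 (iv D61311) (iv F273409)
theorem F277918 : act 2 n62232 = n62232 := d17_1 D62232 (iv D62232) F273410 F268395 (iv F273410)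
theorem F277919 : act 4 n62232 = n61617 := d24_2 D61241 D62232 (iv D61617) (iv D60479) (iv F268389)
theorem F277920 : act 5 n62232 = n61698 := d25_2 (iv F273411) D62232 (iv D61698)
theorem F277921 : act 7 n62232 = n61252 := d27_2 (iv F273412) D62232 (iv D61252)
def n62233 : Q := act 0 n61243
theorem D62233 : act 0 n61243 = n62233 := rfl
theorem F277922 : act 1 n62233 = n61335 := d0_2 D61243 D62233 (iv D61335) (iv D60165) (iv F268405)
theorem F277923 : act 2 n62233 = n61600 := d1_2 (iv F273421) D62233 (iv D61600)
theorem F277924 : act 3 n62233 = n61250 := d2_2 (iv F273422) D62233 (iv D61250)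
theorem F277925 : act 5 n62233 = n61246 := d4_2 (iv F273423) D62233 (iv D61246)
theorem F277926 : act 7 n62233 = n61615 := d6_2 (iv F273424) D62233 (iv D61615)
theorem F277927 : act 8 n62233 = n61595 := d7_2 (iv F273425) D62233 (iv D61595)
def n62234 : Q := act 4 n61243
theorem D62234 : act 4 n61243 = n62234 := rfl
theorem F277928 : act 1 n62234 = n61244 := d11_1 D62234 (iv D61244) D61243
theorem F277929 : act 2 n62234 = n61601 := d18_1 D62234 (iv D61601) (iv F273421)
theorem F277930 : act 7 n62234 = n61616 := d32_2 (iv F273424) D62234 (iv D61616)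
theorem F277931 : act 8 n62234 = n61596 := d33_2 (iv F273425) D62234 (iv D61596)
def n62235 : Q := act 3 n61244
theorem D62235 : act 3 n61244 = n62235 := rfl
theorem F277932 : act 0 n62235 = n61337 := d2_1 D62235 (iv D61337) (iv F273426)
theorem F277933 : act 2 n62235 = n62235 := d17_1 D62235 (iv D62235) F273427 F268412 (iv F273427)
theorem F277934 : act 4 n62235 = n61252 := d24_2 D61244 D62235 (iv D61252) (iv D60079) (iv F268406)
theorem F277935 : act 7 n62235 = n61617 := d27_2 (iv F273428) D62235 (iv D61617)
def n62236 : Q := act 5 n61244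
theorem D62236 : act 5 n61244 = n62236 := rfl
theorem F277936 : act 0 n62236 = n61338 := d4_1 D62236 (iv D61338) (iv F273426)
theorem F277937 : act 2 n62236 = n61245 := d19_1 D62236 (iv D61245) (iv F273427)
theorem F277938 : act 4 n62236 = n61248 := d30_1 D62236 (iv D61248) (iv D60075) (iv F268407) D61244
theorem F277939 : act 7 n62236 = n61390 := d36_2 (iv F273428) D62236 F274048
theorem F277940 : act 8 n62236 = n61386 := d37_2 (iv F273429) D62236 F274027
def n62237 : Q := act 6 n61245
theorem D62237 : act 6 n61245 = n62237 := rfl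
theorem F277941 : act 0 n62237 = n61339 := d5_1 D62237 (iv D61339) (iv F273430)
theorem F277942 : act 1 n62237 = n61385 := d13_1 D62237 F274024 (iv F273431)
theorem F277943 : act 3 n62237 = n62237 := d26_1 D62237 (iv D62237) F273432
theorem F277944 : act 4 n62237 = n61249 := d31_1 D62237 (iv D61249) (iv F273433)
theorem F277945 : act 7 n62237 = n61488 := d39_2 (iv F273434) D62237 F274393 F269348 (iv F269022)
theorem F277946 : act 8 n62237 = n61384 := d40_2 (iv F273435) D62237 F274019
def n62238 : Q := act 4 n61246
theorem D62238 : act 4 n61246 = n62238 := rfl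
theorem F277947 : act 0 n62238 = n61247 := d3_1 D62238 (iv D61247) D61246
theorem F277948 : act 1 n62238 = n61340 := d11_1 D62238 (iv D61340) (iv F273436)
theorem F277949 : act 2 n62238 = n61607 := d18_1 D62238 (iv D61607) (iv F273437)
theorem F277950 : act 3 n62238 = n61658 := d24_1 D62238 (iv D61658) F270057 (iv F268445) (iv F273438)
theorem F277951 : act 6 n62238 = n61706 := d31_2 (iv F273439) D62238 (iv D61706)
theorem F277952 : act 7 n62238 = n61620 := d32_2 (iv F273440) D62238 (iv D61620)
theorem F277953 : act 8 n62238 = n61597 := d33_2 (iv F273441) D62238 (iv D61597)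
def n62239 : Q := act 5 n61247
theorem D62239 : act 5 n61247 = n62239 := rfl
theorem F277954 : act 1 n62239 = n61248 := d12_1 D62239 (iv D61248) (iv F273442)
theorem F277955 : act 2 n62239 = n61608 := d19_1 D62239 (iv D61608) (iv F273443)
theorem F277956 : act 3 n62239 = n61659 := d25_1 D62239 (iv D61659) (iv F273444)
theorem F277957 : act 7 n62239 = n61481 := d36_2 (iv F273446) D62239 F274376
theorem F277958 : act 8 n62239 = n61479 := d37_2 (iv F273447) D62239 F274367
def n62240 : Q := act 6 n61248
theorem D62240 : act 6 n61248 = n62240 := rfl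
theorem F277959 : act 0 n62240 = n61342 := d5_1 D62240 (iv D61342) (iv F273448)
theorem F277960 : act 2 n62240 = n61249 := d20_1 D62240 (iv D61249) (iv F273449)
theorem F277961 : act 3 n62240 = n61284 := d26_1 D62240 F273615 (iv F273450)
theorem F277962 : act 5 n62240 = n61283 := d35_1 D62240 F273612 F268605 (iv F268423) D61248
theorem F277963 : act 7 n62240 = n61434 := d39_2 (iv F273451) D62240 F274215 F269180 (iv F269326)
theorem F277964 : act 8 n62240 = n61430 := d40_2 (iv F273452) D62240 F274207
def n62241 : Q := act 4 n61250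
theorem D62241 : act 4 n61250 = n62241 := rfl
theorem F277965 : act 0 n62241 = n61251 := d3_1 D62241 (iv D61251) D61250
theorem F277966 : act 1 n62241 = n61346 := d11_1 D62241 (iv D61346) (iv F273459)
theorem F277967 : act 5 n62241 = n61704 := d30_2 (iv F273460) D62241 (iv D61704) F270221 (iv F268445)
theorem F277968 : act 8 n62241 = n61262 := d33_2 (iv F273461) D62241 (iv D61262)
def n62242 : Q := act 3 n61251
theorem D62242 : act 3 n61251 = n62242 := rfl
theorem F277969 : act 1 n62242 = n61252 := d10_1 D62242 (iv D61252) (iv F273462)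
theorem F277970 : act 5 n62242 = n61705 := d25_2 (iv F273463) D62242 (iv D61705)
def n62243 : Q := act 8 n61252
theorem D62243 : act 8 n61252 = n62243 := rfl
theorem F277971 : act 0 n62243 = n61348 := d7_1 D62243 (iv D61348) (iv F273465)
theorem F277972 : act 2 n62243 = n62243 := d22_1 D62243 (iv D62243) F273466
theorem F277973 : act 3 n62243 = n61264 := d28_1 D62243 (iv D61264) (iv D60091) (iv F268443) D61252
theorem F277974 : act 5 n62243 = n61547 := d37_1 D62243 F274627 (iv F273467)
def n62244 : Q := act 0 n61253
theorem D62244 : act 0 n61253 = n62244 := rfl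
theorem F277975 : act 1 n62244 = n61352 := d0_2 D61253 D62244 (iv D61352) (iv D60180) (iv F268448)
theorem F277976 : act 2 n62244 = n61696 := d1_2 (iv F273468) D62244 (iv D61696)
theorem F277977 : act 3 n62244 = n61440 := d2_2 (iv F273469) D62244 (iv D61440)
theorem F277978 : act 5 n62244 = n61255 := d4_2 (iv F273470) D62244 (iv D61255)
theorem F277979 : act 7 n62244 = n61700 := d6_2 (iv F273471) D62244 (iv D61700)
theorem F277980 : act 8 n62244 = n61694 := d7_2 (iv F273472) D62244 (iv D61694)
theorem F277981 : act 9 n62244 = n61270 := d8_2 (iv F273473) D62244 (iv D61270)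
def n62245 : Q := act 4 n61253
theorem D62245 : act 4 n61253 = n62245 := rfl
theorem F277982 : act 1 n62245 = n61254 := d11_1 D62245 (iv D61254) D61253
theorem F277983 : act 2 n62245 = n61697 := d18_1 D62245 (iv D61697) (iv F273468)
theorem F277984 : act 5 n62245 = n61687 := d30_2 (iv F273470) D62245 (iv D61687) F270163 (iv F268463)
theorem F277985 : act 7 n62245 = n61701 := d32_2 (iv F273471) D62245 (iv D61701)
theorem F277986 : act 8 n62245 = n61695 := d33_2 (iv F273472) D62245 (iv D61695)
theorem F277987 : act 9 n62245 = n61271 := d34_2 (iv F273473) D62245 (iv D61271)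
def n62246 : Q := act 3 n61254
theorem D62246 : act 3 n61254 = n62246 := rfl
theorem F277988 : act 0 n62246 = n61354 := d2_1 D62246 (iv D61354) (iv F273474)
theorem F277989 : act 2 n62246 = n62246 := d17_1 D62246 (iv D62246) F273475 F268456 (iv F273475)
theorem F277990 : act 4 n62246 = n61442 := d24_2 D61254 D62246 (iv D61442) (iv D60269) (iv F268449)
theorem F277991 : act 5 n62246 = n61688 := d25_2 (iv F273476) D62246 (iv D61688)
theorem F277992 : act 7 n62246 = n61702 := d27_2 (iv F273477) D62246 (iv D61702)
theorem F277993 : act 8 n62246 = n61720 := d28_2 (iv F273478) D62246 (iv D61720) (iv F271627) F271624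
theorem F277994 : act 9 n62246 = n61272 := d29_2 (iv F273479) D62246 (iv D61272)
def n62247 : Q := act 0 n61256
theorem D62247 : act 0 n61256 = n62247 := rfl
theorem F277995 : act 1 n62247 = n61360 := d0_2 D61256 D62247 (iv D61360) (iv D60189) (iv F268468)
theorem F277996 : act 3 n62247 = n61756 := d2_2 (iv F273488) D62247 F275188
theorem F277997 : act 6 n62247 = n61259 := d5_2 (iv F273489) D62247 (iv D61259)
theorem F277998 : act 9 n62247 = n61281 := d8_2 (iv F273490) D62247 (iv D61281)
def n62248 : Q := act 4 n61256
theorem D62248 : act 4 n61256 = n62248 := rfl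
theorem F277999 : act 1 n62248 = n61257 := d11_1 D62248 (iv D61257) D61256
theorem F278000 : act 6 n62248 = n61260 := d31_2 (iv F273489) D62248 (iv D61260)
theorem F278001 : act 9 n62248 = n61282 := d34_2 (iv F273490) D62248 (iv D61282)
def n62249 : Q := act 3 n61257
theorem D62249 : act 3 n61257 = n62249 := rfl
theorem F278002 : act 0 n62249 = n61362 := d2_1 D62249 (iv D61362) (iv F273491)
theorem F278003 : act 2 n62249 = n61265 := d17_1 D62249 (iv D61265) F268503 (iv F268473) (iv F273492)
theorem F278004 : act 4 n62249 = n61538 := d24_2 D61257 D62249 F274595 F270386 (iv F268469)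
theorem F278005 : act 6 n62249 = n61261 := d26_2 (iv F273493) D62249 (iv D61261)
theorem F278006 : act 9 n62249 = n61283 := d29_2 (iv F273494) D62249 (iv D61283)
def n62250 : Q := act 5 n61257
theorem D62250 : act 5 n61257 = n62250 := rfl
theorem F278007 : act 0 n62250 = n61363 := d4_1 D62250 (iv D61363) (iv F273491)
theorem F278008 : act 2 n62250 = n61258 := d19_1 D62250 (iv D61258) (iv F273492)
theorem F278009 : act 6 n62250 = n61657 := d35_2 (iv F273493) D62250 (iv D61657) F270053 (iv F268482)
theorem F278010 : act 9 n62250 = n61284 := d38_2 (iv F273494) D62250 (iv D61284)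
def n62251 : Q := act 4 n61259
theorem D62251 : act 4 n61259 = n62251 := rfl
theorem F278011 : act 0 n62251 = n61260 := d3_1 D62251 (iv D61260) D61259
theorem F278012 : act 1 n62251 = n61364 := d11_1 D62251 (iv D61364) (iv F273499)
theorem F278013 : act 5 n62251 = n61699 := d30_2 (iv F273501) D62251 (iv D61699) F270196 (iv F268487)
theorem F278014 : act 7 n62251 = n61262 := d32_2 (iv F273502) D62251 (iv D61262)
theorem F278015 : act 9 n62251 = n61285 := d34_2 (iv F273503) D62251 (iv D61285)
def n62252 : Q := act 3 n61260
theorem D62252 : act 3 n61260 = n62252 := rfl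
theorem F278016 : act 1 n62252 = n61261 := d10_1 D62252 (iv D61261) (iv F273504)
theorem F278017 : act 4 n62252 = n61537 := d24_2 D61260 D62252 F274591 F270382 (iv F268476)
theorem F278018 : act 5 n62252 = n61535 := d25_2 (iv F273505) D62252 F274583
theorem F278019 : act 7 n62252 = n61263 := d27_2 (iv F273506) D62252 (iv D61263)
theorem F278020 : act 9 n62252 = n61286 := d29_2 (iv F273507) D62252 (iv D61286)
def n62253 : Q := act 8 n61261
theorem D62253 : act 8 n61261 = n62253 := rfl
theorem F278021 : act 0 n62253 = n61366 := d7_1 D62253 (iv D61366) (iv F273508)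
theorem F278022 : act 2 n62253 = n61266 := d22_1 D62253 (iv D61266) (iv F273509)
theorem F278023 : act 4 n62253 = n61532 := d33_1 D62253 F274572 (iv F273510)
theorem F278024 : act 5 n62253 = n61529 := d37_1 D62253 F274557 (iv F273511)
theorem F278025 : act 7 n62253 = n61264 := d42_1 D62253 (iv D61264) (iv F273512)
def n62254 : Q := act 3 n61262
theorem D62254 : act 3 n61262 = n62254 := rfl
theorem F278026 : act 0 n62254 = n61263 := d2_1 D62254 (iv D61263) (iv F273514)
theorem F278027 : act 1 n62254 = n61379 := d10_1 D62254 (iv D61379) (iv F273515)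
theorem F278028 : act 4 n62254 = n61551 := d24_2 D61262 D62254 F274639 F270436 (iv F268491)
theorem F278029 : act 5 n62254 = n61550 := d25_2 (iv F273516) D62254 F274636
theorem F278030 : act 9 n62254 = n61298 := d29_2 (iv F273517) D62254 (iv D61298)
def n62255 : Q := act 8 n61263
theorem D62255 : act 8 n61263 = n62255 := rfl
theorem F278031 : act 1 n62255 = n61264 := d15_1 D62255 (iv D61264) (iv F273518)
theorem F278032 : act 4 n62255 = n61549 := d33_1 D62255 F274633 (iv F273519)
theorem F278033 : act 5 n62255 = n61546 := d37_1 D62255 F274622 (iv F273520)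
def n62256 : Q := act 8 n61265
theorem D62256 : act 8 n61265 = n62256 := rfl
theorem F278034 : act 0 n62256 = n61385 := d7_1 D62256 (iv D61385) (iv F273526)
theorem F278035 : act 3 n62256 = n62256 := d28_1 D62256 (iv D62256) (iv D61265) F268505 D61265
theorem F278036 : act 4 n62256 = n61533 := d33_1 D62256 F274576 (iv F273527)
theorem F278037 : act 6 n62256 = n61266 := d40_1 D62256 (iv D61266) (iv F273528)
def n62257 : Q := act 0 n61267
theorem D62257 : act 0 n61267 = n62257 := rfl
theorem F278038 : act 1 n62257 = n61396 := d0_2 D61267 D62257 (iv D61396) (iv D60226) (iv F268521)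
theorem F278039 : act 2 n62257 = n61455 := d1_2 (iv F273535) D62257 (iv D61455)
theorem F278040 : act 3 n62257 = n61270 := d2_2 (iv F273536) D62257 (iv D61270)
theorem F278041 : act 5 n62257 = n61269 := d4_2 (iv F273537) D62257 (iv D61269)
theorem F278042 : act 7 n62257 = n61623 := d6_2 (iv F273538) D62257 (iv D61623)
theorem F278043 : act 8 n62257 = n61634 := d7_2 (iv F273539) D62257 (iv D61634)
theorem F278044 : act 9 n62257 = n61440 := d8_2 (iv F273540) D62257 (iv D61440)
def n62258 : Q := act 4 n61267
theorem D62258 : act 4 n61267 = n62258 := rfl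
theorem F278045 : act 1 n62258 = n61268 := d11_1 D62258 (iv D61268) D61267
theorem F278046 : act 2 n62258 = n61456 := d18_1 D62258 (iv D61456) (iv F273535)
theorem F278047 : act 5 n62258 = n61719 := d30_2 (iv F273537) D62258 (iv D61719) F270269 (iv F268536)
theorem F278048 : act 7 n62258 = n61624 := d32_2 (iv F273538) D62258 (iv D61624)
theorem F278049 : act 8 n62258 = n61635 := d33_2 (iv F273539) D62258 (iv D61635)
theorem F278050 : act 9 n62258 = n61441 := d34_2 (iv F273540) D62258 (iv D61441)
def n62259 : Q := act 3 n61268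
theorem D62259 : act 3 n61268 = n62259 := rfl
theorem F278051 : act 0 n62259 = n61398 := d2_1 D62259 (iv D61398) (iv F273541)
theorem F278052 : act 2 n62259 = n62259 := d17_1 D62259 (iv D62259) F273542 F268529 (iv F273542)
theorem F278053 : act 4 n62259 = n61272 := d24_2 D61268 D62259 (iv D61272) (iv D60100) (iv F268522)
theorem F278054 : act 5 n62259 = n61720 := d25_2 (iv F273543) D62259 (iv D61720)
theorem F278055 : act 7 n62259 = n61625 := d27_2 (iv F273544) D62259 (iv D61625)
theorem F278056 : act 8 n62259 = n61688 := d28_2 (iv F273545) D62259 (iv D61688) (iv F271228) F271225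
theorem F278057 : act 9 n62259 = n61442 := d29_2 (iv F273546) D62259 (iv D61442)
def n62260 : Q := act 4 n61270
theorem D62260 : act 4 n61270 = n62260 := rfl
theorem F278058 : act 0 n62260 = n61271 := d3_1 D62260 (iv D61271) D61270
theorem F278059 : act 1 n62260 = n61405 := d11_1 D62260 (iv D61405) (iv F273554)
theorem F278060 : act 7 n62260 = n61707 := d32_2 (iv F273556) D62260 (iv D61707)
def n62261 : Q := act 3 n61271
theorem D62261 : act 3 n61271 = n62261 := rfl
theorem F278061 : act 1 n62261 = n61272 := d10_1 D62261 (iv D61272) (iv F273557)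
theorem F278062 : act 5 n62261 = n61751 := d25_2 F277060 D62261 F277065
theorem F278063 : act 7 n62261 = n61708 := d27_2 (iv F273558) D62261 (iv D61708)
theorem F278064 : act 8 n62261 = n61693 := d28_2 F276937 D62261 (iv D61693) (iv F274447) (iv F276933)
def n62262 : Q := act 0 n61273
theorem D62262 : act 0 n61273 = n62262 := rfl
theorem F278065 : act 1 n62262 = n61414 := d0_2 D61273 D62262 (iv D61414) (iv D60244) (iv F268548)
theorem F278066 : act 2 n62262 = n61737 := d1_2 (iv F273564) D62262 (iv D61737)
theorem F278067 : act 5 n62262 = n61275 := d4_2 (iv F273565) D62262 (iv D61275)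
theorem F278068 : act 7 n62262 = n61291 := d6_2 (iv F273566) D62262 (iv D61291)
theorem F278069 : act 8 n62262 = n61278 := d7_2 (iv F273567) D62262 (iv D61278)
theorem F278070 : act 9 n62262 = n61725 := d8_2 (iv F273568) D62262 (iv D61725)
def n62263 : Q := act 4 n61273
theorem D62263 : act 4 n61273 = n62263 := rfl
theorem F278071 : act 1 n62263 = n61274 := d11_1 D62263 (iv D61274) D61273
theorem F278072 : act 2 n62263 = n61738 := d18_1 D62263 (iv D61738) (iv F273564)
theorem F278073 : act 5 n62263 = n61556 := d30_2 (iv F273565) D62263 (iv D61556) F269726 (iv F268561)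
theorem F278074 : act 7 n62263 = n61292 := d32_2 (iv F273566) D62263 (iv D61292)
theorem F278075 : act 8 n62263 = n61279 := d33_2 (iv F273567) D62263 (iv D61279)
theorem F278076 : act 9 n62263 = n61726 := d34_2 (iv F273568) D62263 (iv D61726)
def n62264 : Q := act 3 n61274
theorem D62264 : act 3 n61274 = n62264 := rfl
theorem F278077 : act 0 n62264 = n61416 := d2_1 D62264 (iv D61416) (iv F273569)
theorem F278078 : act 2 n62264 = n62264 := d17_1 D62264 (iv D62264) F273570 F268555 (iv F273570)
theorem F278079 : act 5 n62264 = n61557 := d25_2 (iv F273571) D62264 (iv D61557)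
theorem F278080 : act 7 n62264 = n61293 := d27_2 (iv F273572) D62264 (iv D61293)
theorem F278081 : act 9 n62264 = n61727 := d29_2 (iv F273574) D62264 (iv D61727)
def n62265 : Q := act 0 n61276
theorem D62265 : act 0 n61276 = n62265 := rfl
theorem F278082 : act 1 n62265 = n61421 := d0_2 D61276 D62265 (iv D61421) (iv D60250) (iv F268565)
theorem F278083 : act 2 n62265 = n61761 := d1_2 (iv F273581) D62265 (iv D61761)
theorem F278084 : act 3 n62265 = n61281 := d2_2 (iv F273582) D62265 (iv D61281)
theorem F278085 : act 6 n62265 = n61278 := d5_2 (iv F273583) D62265 (iv D61278)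
theorem F278086 : act 9 n62265 = n61756 := d8_2 (iv F273584) D62265 F275188
def n62266 : Q := act 4 n61276
theorem D62266 : act 4 n61276 = n62266 := rfl
theorem F278087 : act 1 n62266 = n61277 := d11_1 D62266 (iv D61277) D61276
theorem F278088 : act 2 n62266 = n61762 := d18_1 D62266 (iv D61762) (iv F273581)
theorem F278089 : act 6 n62266 = n61279 := d31_2 (iv F273583) D62266 (iv D61279)
theorem F278090 : act 9 n62266 = n61755 := d34_2 (iv F273584) D62266 F275186
def n62267 : Q := act 3 n61277
theorem D62267 : act 3 n61277 = n62267 := rfl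
theorem F278091 : act 0 n62267 = n61423 := d2_1 D62267 (iv D61423) (iv F273585)
theorem F278092 : act 2 n62267 = n61301 := d17_1 D62267 (iv D61301) F268670 (iv F268571) (iv F273586)
theorem F278093 : act 4 n62267 = n61283 := d24_2 D61277 D62267 (iv D61283) (iv D60111) (iv F268566)
theorem F278094 : act 6 n62267 = n61280 := d26_2 (iv F273587) D62267 (iv D61280)
theorem F278095 : act 9 n62267 = n61538 := d29_2 (iv F273588) D62267 F274595
def n62268 : Q := act 4 n61278
theorem D62268 : act 4 n61278 = n62268 := rfl
theorem F278096 : act 0 n62268 = n61279 := d3_1 D62268 (iv D61279) D61278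
theorem F278097 : act 1 n62268 = n61425 := d11_1 D62268 (iv D61425) (iv F273589)
theorem F278098 : act 2 n62268 = n61764 := d18_1 D62268 (iv D61764) (iv F273590)
theorem F278099 : act 5 n62268 = n61558 := d30_2 (iv F273592) D62268 (iv D61558) F269733 (iv F268587)
theorem F278100 : act 7 n62268 = n61295 := d32_2 (iv F273593) D62268 (iv D61295)
theorem F278101 : act 9 n62268 = n61754 := d34_2 (iv F273594) D62268 F275181
def n62269 : Q := act 3 n61279
theorem D62269 : act 3 n61279 = n62269 := rfl
theorem F278102 : act 1 n62269 = n61280 := d10_1 D62269 (iv D61280) (iv F273595)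
theorem F278103 : act 4 n62269 = n61286 := d24_2 D61279 D62269 (iv D61286) (iv D60114) (iv F268575)
theorem F278104 : act 5 n62269 = n61510 := d25_2 (iv F273597) D62269 F274488
theorem F278105 : act 7 n62269 = n61296 := d27_2 (iv F273598) D62269 (iv D61296)
theorem F278106 : act 9 n62269 = n61537 := d29_2 (iv F273599) D62269 F274591
def n62270 : Q := act 4 n61281
theorem D62270 : act 4 n61281 = n62270 := rfl
theorem F278107 : act 0 n62270 = n61282 := d3_1 D62270 (iv D61282) D61281
theorem F278108 : act 1 n62270 = n61431 := d11_1 D62270 (iv D61431) (iv F273606)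
theorem F278109 : act 6 n62270 = n61285 := d31_2 (iv F273607) D62270 (iv D61285)
def n62271 : Q := act 3 n61282
theorem D62271 : act 3 n61282 = n62271 := rfl
theorem F278110 : act 1 n62271 = n61283 := d10_1 D62271 (iv D61283) (iv F273608)
theorem F278111 : act 6 n62271 = n61286 := d26_2 (iv F273609) D62271 (iv D61286)
def n62272 : Q := act 5 n61282
theorem D62272 : act 5 n61282 = n62272 := rfl
theorem F278112 : act 1 n62272 = n61284 := d12_1 D62272 (iv D61284) (iv F273608)
theorem F278113 : act 6 n62272 = n61659 := d35_2 (iv F273609) D62272 (iv D61659) (iv F272365) F272364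
theorem F278114 : act 8 n62272 = n61663 := d37_2 (iv F275315) D62272 (iv F275311)
def n62273 : Q := act 3 n61285
theorem D62273 : act 3 n61285 = n62273 := rfl
theorem F278115 : act 0 n62273 = n61286 := d2_1 D62273 (iv D61286) (iv F273617)
theorem F278116 : act 1 n62273 = n61435 := d10_1 D62273 (iv D61435) (iv F273618)
theorem F278117 : act 5 n62273 = n61706 := d25_2 F277011 D62273 (iv F277010)
theorem F278118 : act 7 n62273 = n61298 := d27_2 (iv F273619) D62273 (iv D61298)
def n62274 : Q := act 0 n61287
theorem D62274 : act 0 n61287 = n62274 := rfl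
theorem F278119 : act 2 n62274 = n61421 := d1_2 (iv F273623) D62274 (iv D61421)
theorem F278120 : act 3 n62274 = n61288 := d2_2 (iv F273624) D62274 (iv D61288)
theorem F278121 : act 5 n62274 = n61581 := d4_2 (iv F273625) D62274 (iv D61581)
theorem F278122 : act 6 n62274 = n61409 := d5_2 (iv F273626) D62274 (iv D61409)
theorem F278123 : act 7 n62274 = n61715 := d6_2 (iv F273627) D62274 (iv D61715)
theorem F278124 : act 8 n62274 = n61626 := d7_2 (iv F273628) D62274 (iv D61626)
theorem F278125 : act 9 n62274 = n61580 := d8_2 (iv F273629) D62274 (iv D61580)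
def n62275 : Q := act 0 n61289
theorem D62275 : act 0 n61289 = n62275 := rfl
theorem F278126 : act 1 n62275 = n61455 := d0_2 D61289 D62275 (iv D61455) (iv D60282) (iv F268624)
theorem F278127 : act 2 n62275 = n61555 := d1_2 (iv F273636) D62275 (iv D61555)
theorem F278128 : act 5 n62275 = n61294 := d4_2 (iv F273637) D62275 (iv D61294)
theorem F278129 : act 7 n62275 = n61725 := d6_2 (iv F273638) D62275 (iv D61725)
theorem F278130 : act 8 n62275 = n61552 := d7_2 (iv F273639) D62275 (iv D61552)
theorem F278131 : act 9 n62275 = n61291 := d8_2 (iv F273640) D62275 (iv D61291)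
def n62276 : Q := act 4 n61289
theorem D62276 : act 4 n61289 = n62276 := rfl
theorem F278132 : act 1 n62276 = n61290 := d11_1 D62276 (iv D61290) D61289
theorem F278133 : act 2 n62276 = n61556 := d18_1 D62276 (iv D61556) (iv F273636)
theorem F278134 : act 5 n62276 = n61738 := d30_2 (iv F273637) D62276 (iv D61738) F270322 (iv F268643)
theorem F278135 : act 7 n62276 = n61726 := d32_2 (iv F273638) D62276 (iv D61726)
theorem F278136 : act 8 n62276 = n61553 := d33_2 (iv F273639) D62276 (iv D61553)
theorem F278137 : act 9 n62276 = n61292 := d34_2 (iv F273640) D62276 (iv D61292)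
def n62277 : Q := act 3 n61290
theorem D62277 : act 3 n61290 = n62277 := rfl
theorem F278138 : act 0 n62277 = n61457 := d2_1 D62277 (iv D61457) (iv F273641)
theorem F278139 : act 2 n62277 = n62277 := d17_1 D62277 (iv D62277) F273642 F268631 (iv F273642)
theorem F278140 : act 5 n62277 = n61739 := d25_2 (iv F273643) D62277 (iv D61739)
theorem F278141 : act 7 n62277 = n61727 := d27_2 (iv F273644) D62277 (iv D61727)
theorem F278142 : act 9 n62277 = n61293 := d29_2 (iv F273646) D62277 (iv D61293)
def n62278 : Q := act 4 n61291
theorem D62278 : act 4 n61291 = n62278 := rfl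
theorem F278143 : act 0 n62278 = n61292 := d3_1 D62278 (iv D61292) D61291
theorem F278144 : act 1 n62278 = n61458 := d11_1 D62278 (iv D61458) (iv F273647)
theorem F278145 : act 5 n62278 = n61740 := d30_2 (iv F273648) D62278 (iv D61740) F270328 (iv F268649)
theorem F278146 : act 8 n62278 = n61295 := d33_2 (iv F273649) D62278 (iv D61295)
def n62279 : Q := act 3 n61292
theorem D62279 : act 3 n61292 = n62279 := rfl
theorem F278147 : act 1 n62279 = n61293 := d10_1 D62279 (iv D61293) (iv F273650)
theorem F278148 : act 5 n62279 = n61741 := d25_2 (iv F273651) D62279 (iv D61741)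
def n62280 : Q := act 8 n61293
theorem D62280 : act 8 n61293 = n62280 := rfl
theorem F278149 : act 0 n62280 = n61462 := d7_1 D62280 (iv D61462) (iv F273653)
theorem F278150 : act 2 n62280 = n62280 := d22_1 D62280 (iv D62280) F273654
theorem F278151 : act 3 n62280 = n61297 := d28_1 D62280 (iv D61297) (iv D60127) (iv F268641) D61293
theorem F278152 : act 5 n62280 = n61515 := d37_1 D62280 F274505 (iv F273655)
def n62281 : Q := act 3 n61295
theorem D62281 : act 3 n61295 = n62281 := rfl
theorem F278153 : act 0 n62281 = n61296 := d2_1 D62281 (iv D61296) (iv F273663)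
theorem F278154 : act 1 n62281 = n61474 := d10_1 D62281 (iv D61474) (iv F273664)
theorem F278155 : act 4 n62281 = n61298 := d24_2 D61295 D62281 (iv D61298) (iv D60128) (iv F268653)
theorem F278156 : act 5 n62281 = n61516 := d25_2 (iv F273665) D62281 F274508
theorem F278157 : act 9 n62281 = n61551 := d29_2 (iv F273666) D62281 F274639
def n62282 : Q := act 8 n61296
theorem D62282 : act 8 n61296 = n62282 := rfl
theorem F278158 : act 1 n62282 = n61297 := d15_1 D62282 (iv D61297) (iv F273667)
theorem F278159 : act 4 n62282 = n61299 := d33_1 D62282 (iv D61299) (iv F273668)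
theorem F278160 : act 5 n62282 = n61514 := d37_1 D62282 F274502 (iv F273669)
def n62283 : Q := act 8 n61298
theorem D62283 : act 8 n61298 = n62283 := rfl
theorem F278161 : act 0 n62283 = n61299 := d7_1 D62283 (iv D61299) (iv F273675)
theorem F278162 : act 1 n62283 = n61484 := d15_1 D62283 (iv D61484) (iv F273676)
def n62284 : Q := act 9 n61299
theorem D62284 : act 9 n61299 = n62284 := rfl
theorem F278163 : act 1 n62284 = n61300 := d16_1 D62284 (iv D61300) (iv F273677)
def n62285 : Q := act 0 n61303
theorem D62285 : act 0 n61303 = n62285 := rfl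
theorem F278164 : act 1 n62285 = n61539 := d0_2 D61303 D62285 (iv D61539) (iv D60392) (iv F268692)
theorem F278165 : act 2 n62285 = n61306 := d1_2 (iv F273690) D62285 (iv D61306)
theorem F278166 : act 5 n62285 = n61734 := d4_2 (iv F273691) D62285 (iv D61734)
theorem F278167 : act 6 n62285 = n61369 := d5_2 (iv F273692) D62285 (iv D61369)
theorem F278168 : act 7 n62285 = n61322 := d6_2 (iv F273693) D62285 (iv D61322)
theorem F278169 : act 8 n62285 = n61371 := d7_2 (iv F273694) D62285 (iv D61371)
def n62286 : Q := act 0 n61304
theorem D62286 : act 0 n61304 = n62286 := rfl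
theorem F278170 : act 1 n62286 = n61615 := d0_2 D61304 D62286 (iv D61615) (iv D60478) (iv F268697)
theorem F278171 : act 2 n62286 = n61734 := d1_2 (iv F273695) D62286 (iv D61734)
theorem F278172 : act 3 n62286 = n61309 := d2_2 (iv F273696) D62286 (iv D61309)
theorem F278173 : act 5 n62286 = n61306 := d4_2 (iv F273697) D62286 (iv D61306)
theorem F278174 : act 6 n62286 = n61725 := d5_2 (iv F273698) D62286 (iv D61725)
theorem F278175 : act 7 n62286 = n61335 := d6_2 (iv F273699) D62286 (iv D61335)
theorem F278176 : act 8 n62286 = n61613 := d7_2 (iv F273700) D62286 (iv D61613)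
def n62287 : Q := act 4 n61304
theorem D62287 : act 4 n61304 = n62287 := rfl
theorem F278177 : act 1 n62287 = n61305 := d11_1 D62287 (iv D61305) D61304
theorem F278178 : act 2 n62287 = n61735 := d18_1 D62287 (iv D61735) (iv F273695)
theorem F278179 : act 6 n62287 = n61726 := d31_2 (iv F273698) D62287 (iv D61726)
theorem F278180 : act 7 n62287 = n61336 := d32_2 (iv F273699) D62287 (iv D61336)
theorem F278181 : act 8 n62287 = n61614 := d33_2 (iv F273700) D62287 (iv D61614)
def n62288 : Q := act 3 n61305
theorem D62288 : act 3 n61305 = n62288 := rfl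
theorem F278182 : act 0 n62288 = n61617 := d2_1 D62288 (iv D61617) (iv F273701)
theorem F278183 : act 2 n62288 = n62288 := d17_1 D62288 (iv D62288) F273702 F268705 (iv F273702)
theorem F278184 : act 4 n62288 = n61311 := d24_2 D61305 D62288 (iv D61311) (iv D60144) (iv F268698)
theorem F278185 : act 6 n62288 = n61727 := d26_2 (iv F273703) D62288 (iv D61727)
theorem F278186 : act 7 n62288 = n61337 := d27_2 (iv F273704) D62288 (iv D61337)
def n62289 : Q := act 0 n61307
theorem D62289 : act 0 n61307 = n62289 := rfl
theorem F278187 : act 3 n62289 = n61725 := d2_2 (iv F273710) D62289 (iv D61725)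
theorem F278188 : act 5 n62289 = n61723 := d4_2 (iv F273711) D62289 (iv D61723)
theorem F278189 : act 6 n62289 = n61309 := d5_2 (iv F273712) D62289 (iv D61309)
theorem F278190 : act 8 n62289 = n61360 := d7_2 (iv F273713) D62289 (iv D61360)
def n62290 : Q := act 4 n61307
theorem D62290 : act 4 n61307 = n62290 := rfl
theorem F278191 : act 1 n62290 = n61308 := d11_1 D62290 (iv D61308) D61307
theorem F278192 : act 6 n62290 = n61310 := d31_2 (iv F273712) D62290 (iv D61310)
theorem F278193 : act 8 n62290 = n61361 := d33_2 (iv F273713) D62290 (iv D61361)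
def n62291 : Q := act 3 n61308
theorem D62291 : act 3 n61308 = n62291 := rfl
theorem F278194 : act 2 n62291 = n62291 := d17_1 D62291 (iv D62291) F273714 F268716 (iv F273714)
theorem F278195 : act 4 n62291 = n61727 := d24_2 D61308 D62291 (iv D61727) (iv D60639) (iv F268712)
theorem F278196 : act 6 n62291 = n61311 := d26_2 (iv F273715) D62291 (iv D61311)
def n62292 : Q := act 4 n61309
theorem D62292 : act 4 n61309 = n62292 := rfl
theorem F278197 : act 0 n62292 = n61310 := d3_1 D62292 (iv D61310) D61309
theorem F278198 : act 7 n62292 = n61346 := d32_2 (iv F273718) D62292 (iv D61346)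
theorem F278199 : act 8 n62292 = n61364 := d33_2 (iv F273719) D62292 (iv D61364)
def n62293 : Q := act 3 n61310
theorem D62293 : act 3 n61310 = n62293 := rfl
theorem F278200 : act 1 n62293 = n61311 := d10_1 D62293 (iv D61311) (iv F273720)
theorem F278201 : act 7 n62293 = n61347 := d27_2 (iv F273721) D62293 (iv D61347)
def n62294 : Q := act 8 n61311
theorem D62294 : act 8 n61311 = n62294 := rfl
theorem F278202 : act 2 n62294 = n62294 := d22_1 D62294 (iv D62294) F273723
theorem F278203 : act 3 n62294 = n61366 := d28_1 D62294 (iv D61366) (iv D60194) (iv F268724) D61311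
theorem F278204 : act 5 n62294 = n61602 := d37_1 D62294 (iv F277822) F277820
theorem F278205 : act 7 n62294 = n61348 := d42_1 D62294 (iv D61348) (iv F273724)
def n62295 : Q := act 0 n61312
theorem D62295 : act 0 n61312 = n62295 := rfl
theorem F278206 : act 1 n62295 = n61322 := d0_2 D61312 D62295 (iv D61322) (iv D60153) (iv F268727)
theorem F278207 : act 2 n62295 = n61530 := d1_2 (iv F273725) D62295 (iv D61530)
theorem F278208 : act 6 n62295 = n61709 := d5_2 (iv F273726) D62295 (iv D61709)
theorem F278209 : act 7 n62295 = n61539 := d6_2 (iv F273727) D62295 (iv D61539)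
theorem F278210 : act 8 n62295 = n61525 := d7_2 (iv F273728) D62295 (iv D61525)
def n62296 : Q := act 4 n61312
theorem D62296 : act 4 n61312 = n62296 := rfl
theorem F278211 : act 1 n62296 = n61313 := d11_1 D62296 (iv D61313) D61312
theorem F278212 : act 2 n62296 = n61531 := d18_1 D62296 (iv D61531) (iv F273725)
theorem F278213 : act 6 n62296 = n61710 := d31_2 (iv F273726) D62296 (iv D61710)
theorem F278214 : act 7 n62296 = n61540 := d32_2 (iv F273727) D62296 (iv D61540)
theorem F278215 : act 8 n62296 = n61526 := d33_2 (iv F273728) D62296 (iv D61526)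
def n62297 : Q := act 3 n61313
theorem D62297 : act 3 n61313 = n62297 := rfl
theorem F278216 : act 0 n62297 = n61324 := d2_1 D62297 (iv D61324) (iv F273729)
theorem F278217 : act 2 n62297 = n61315 := d17_1 D62297 (iv D61315) F268739 (iv F268733) (iv F273730)
theorem F278218 : act 6 n62297 = n61527 := d26_2 (iv F273731) D62297 F274548
theorem F278219 : act 7 n62297 = n61541 := d27_2 (iv F273732) D62297 (iv D61541)
def n62298 : Q := act 5 n61313
theorem D62298 : act 5 n61313 = n62298 := rfl
theorem F278220 : act 0 n62298 = n61325 := d4_1 D62298 (iv D61325) (iv F273729)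
theorem F278221 : act 2 n62298 = n61314 := d19_1 D62298 (iv D61314) (iv F273730)
theorem F278222 : act 7 n62298 = n61542 := d36_2 (iv F273732) D62298 (iv D61542)
theorem F278223 : act 8 n62298 = n61527 := d37_2 (iv F273733) D62298 (iv D61527)
def n62299 : Q := act 6 n61314
theorem D62299 : act 6 n61314 = n62299 := rfl
theorem F278224 : act 0 n62299 = n61326 := d5_1 D62299 (iv D61326) (iv F273734)
theorem F278225 : act 1 n62299 = n61533 := d13_1 D62299 (iv D61533) (iv F273735)
theorem F278226 : act 3 n62299 = n61317 := d26_1 D62299 (iv D61317) (iv F273736)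
theorem F278227 : act 5 n62299 = n61490 := d35_1 D62299 F274401 F269365 (iv F268734) D61314
theorem F278228 : act 7 n62299 = n61499 := d39_2 (iv F273737) D62299 F274433 F269592 (iv F269668)
theorem F278229 : act 8 n62299 = n61315 := d40_2 (iv F273738) D62299 F273741
def n62300 : Q := act 5 n61315
theorem D62300 : act 5 n61315 = n62300 := rfl
theorem F278230 : act 0 n62300 = n61327 := d4_1 D62300 (iv D61327) (iv F273739)
theorem F278231 : act 1 n62300 = n61499 := d12_1 D62300 F274432 (iv F273740)
theorem F278232 : act 3 n62300 = n61316 := d25_1 D62300 (iv D61316) D61315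
theorem F278233 : act 6 n62300 = n61494 := d35_2 (iv F273741) D62300 F274415 F269577 D60379
theorem F278234 : act 7 n62300 = n61533 := d36_2 (iv F273742) D62300 F274575
theorem F278235 : act 8 n62300 = n61490 := d37_2 F278229 D62300 (iv F278227)
def n62301 : Q := act 0 n61318
theorem D62301 : act 0 n61318 = n62301 := rfl
theorem F278236 : act 1 n62301 = n61525 := d0_2 D61318 D62301 (iv D61525) (iv D60377) (iv F268748)
theorem F278237 : act 2 n62301 = n61331 := d1_2 (iv F273757) D62301 (iv D61331)
theorem F278238 : act 3 n62301 = n61373 := d2_2 (iv F273758) D62301 (iv D61373)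
theorem F278239 : act 5 n62301 = n61742 := d4_2 (iv F273759) D62301 (iv D61742)
theorem F278240 : act 6 n62301 = n61711 := d5_2 (iv F273760) D62301 (iv D61711)
theorem F278241 : act 7 n62301 = n61371 := d6_2 (iv F273761) D62301 (iv D61371)
theorem F278242 : act 8 n62301 = n61322 := d7_2 (iv F273762) D62301 (iv D61322)
theorem F278243 : act 9 n62301 = n61469 := d8_2 (iv F273763) D62301 (iv D61469)
def n62302 : Q := act 0 n61319
theorem D62302 : act 0 n61319 = n62302 := rfl
theorem F278244 : act 2 n62302 = n61335 := d1_2 (iv F273764) D62302 (iv D61335)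
theorem F278245 : act 5 n62302 = n61322 := d4_2 (iv F273765) D62302 (iv D61322)
theorem F278246 : act 7 n62302 = n61734 := d6_2 (iv F273766) D62302 (iv D61734)
theorem F278247 : act 8 n62302 = n61742 := d7_2 (iv F273767) D62302 (iv D61742)
def n62303 : Q := act 4 n61319
theorem D62303 : act 4 n61319 = n62303 := rfl
theorem F278248 : act 1 n62303 = n61320 := d11_1 D62303 (iv D61320) D61319
theorem F278249 : act 2 n62303 = n61336 := d18_1 D62303 (iv D61336) (iv F273764)
theorem F278250 : act 7 n62303 = n61735 := d32_2 (iv F273766) D62303 (iv D61735)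
theorem F278251 : act 8 n62303 = n61743 := d33_2 (iv F273767) D62303 (iv D61743)
def n62304 : Q := act 3 n61320
theorem D62304 : act 3 n61320 = n62304 := rfl
theorem F278252 : act 2 n62304 = n62304 := d17_1 D62304 (iv D62304) F273768 F268759 (iv F273768)
theorem F278253 : act 7 n62304 = n61736 := d27_2 (iv F273769) D62304 (iv D61736)
theorem F278254 : act 8 n62304 = n61739 := d28_2 (iv F273770) D62304 (iv D61739) F270326 (iv F270339)
def n62305 : Q := act 5 n61320
theorem D62305 : act 5 n61320 = n62305 := rfl
theorem F278255 : act 2 n62305 = n61321 := d19_1 D62305 (iv D61321) (iv F273768)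
theorem F278256 : act 4 n62305 = n61325 := d30_1 D62305 (iv D61325) (iv D60154) (iv F268755) D61320
theorem F278257 : act 7 n62305 = n61730 := d36_2 (iv F273769) D62305 F275122
theorem F278258 : act 8 n62305 = n61554 := d37_2 (iv F273770) D62305 F274652
def n62306 : Q := act 4 n61322
theorem D62306 : act 4 n61322 = n62306 := rfl
theorem F278259 : act 0 n62306 = n61323 := d3_1 D62306 (iv D61323) D61322
theorem F278260 : act 2 n62306 = n61340 := d18_1 D62306 (iv D61340) (iv F273776)
theorem F278261 : act 6 n62306 = n61713 := d31_2 (iv F273777) D62306 (iv D61713)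
def n62307 : Q := act 3 n61323
theorem D62307 : act 3 n61323 = n62307 := rfl
theorem F278262 : act 1 n62307 = n61324 := d10_1 D62307 (iv D61324) (iv F273778)
theorem F278263 : act 6 n62307 = n61714 := d26_2 (iv F273780) D62307 (iv D61714)
def n62308 : Q := act 5 n61323
theorem D62308 : act 5 n61323 = n62308 := rfl
theorem F278264 : act 1 n62308 = n61325 := d12_1 D62308 (iv D61325) (iv F273778)
theorem F278265 : act 2 n62308 = n61341 := d19_1 D62308 (iv D61341) (iv F273779)
theorem F278266 : act 8 n62308 = n61714 := d37_2 F276674 D62308 (iv F276671)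
def n62309 : Q := act 5 n61324
theorem D62309 : act 5 n61324 = n62309 := rfl
theorem F278267 : act 2 n62309 = n61327 := d19_1 D62309 (iv D61327) (iv F273781)
theorem F278268 : act 3 n62309 = n61325 := d25_1 D62309 (iv D61325) D61324
theorem F278269 : act 6 n62309 = n61495 := d35_2 (iv F273782) D62309 F274418 (iv F272096) F272095
theorem F278270 : act 7 n62309 = n61609 := d36_2 F275702 D62309 (iv F275701)
theorem F278271 : act 8 n61491 = n62309 := d42_0 F278270 F274820 (iv F274405)
def n62310 : Q := act 8 n61324
theorem D62310 : act 8 n61324 = n62310 := rfl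
theorem F278272 : act 2 n62310 = n61326 := d22_1 D62310 F273789 (iv F273781)
theorem F278273 : act 3 n62310 = n61495 := d28_1 D62310 (iv D61495) (iv F272093) F272098 D61324
theorem F278274 : act 5 n62310 = n61491 := d37_1 D62310 F278271 (iv D62309)
theorem F278275 : act 6 n62310 = n61325 := d40_1 D62310 F273784 (iv F273782)
theorem F278276 : act 7 n62310 = n61498 := d42_1 D62310 (iv F275703) F275702
def n62311 : Q := act 4 n61327
theorem D62311 : act 4 n61327 = n62311 := rfl
theorem F278277 : act 1 n62311 = n61488 := d11_1 D62311 F274392 (iv F273790)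
theorem F278278 : act 3 n62311 = n62311 := d24_1 D62311 (iv D62311) F273791 F268772 (iv F273791)
theorem F278279 : act 6 n62311 = n61388 := d31_2 (iv F273792) D62311 F274037
theorem F278280 : act 7 n62311 = n61385 := d32_2 (iv F273793) D62311 F274023
theorem F278281 : act 8 n62311 = n61383 := d33_2 (iv F273794) D62311 F274013
def n62312 : Q := act 0 n61328
theorem D62312 : act 0 n61328 = n62312 := rfl
theorem F278282 : act 1 n62312 = n61595 := d0_2 D61328 D62312 (iv D61595) (iv D60455) (iv F268782)
theorem F278283 : act 2 n62312 = n61742 := d1_2 (iv F273795) D62312 (iv D61742)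
theorem F278284 : act 3 n62312 = n61369 := d2_2 (iv F273796) D62312 (iv D61369)
theorem F278285 : act 5 n62312 = n61331 := d4_2 (iv F273797) D62312 (iv D61331)
theorem F278286 : act 7 n62312 = n61613 := d6_2 (iv F273798) D62312 (iv D61613)
theorem F278287 : act 8 n62312 = n61335 := d7_2 (iv F273799) D62312 (iv D61335)
theorem F278288 : act 9 n62312 = n61709 := d8_2 (iv F273800) D62312 (iv D61709)
def n62313 : Q := act 4 n61328
theorem D62313 : act 4 n61328 = n62313 := rfl
theorem F278289 : act 1 n62313 = n61329 := d11_1 D62313 (iv D61329) D61328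
theorem F278290 : act 2 n62313 = n61743 := d18_1 D62313 (iv D61743) (iv F273795)
theorem F278291 : act 7 n62313 = n61614 := d32_2 (iv F273798) D62313 (iv D61614)
theorem F278292 : act 8 n62313 = n61336 := d33_2 (iv F273799) D62313 (iv D61336)
theorem F278293 : act 9 n62313 = n61710 := d34_2 (iv F273800) D62313 (iv D61710)
def n62314 : Q := act 0 n61330
theorem D62314 : act 0 n61330 = n62314 := rfl
theorem F278294 : act 1 n62314 = n61567 := d0_2 D61330 D62314 (iv D61567) (iv D60424) (iv F268794)
theorem F278295 : act 2 n62314 = n61469 := d1_2 (iv F273806) D62314 (iv D61469)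
theorem F278296 : act 3 n62314 = n61370 := d2_2 (iv F273807) D62314 (iv D61370)
theorem F278297 : act 5 n62314 = n61709 := d4_2 (iv F273808) D62314 (iv D61709)
theorem F278298 : act 6 n62314 = n61715 := d5_2 (iv F273809) D62314 (iv D61715)
theorem F278299 : act 7 n62314 = n61443 := d6_2 (iv F273810) D62314 (iv D61443)
theorem F278300 : act 9 n62314 = n61331 := d8_2 (iv F273811) D62314 (iv D61331)
def n62315 : Q := act 0 n61332
theorem D62315 : act 0 n61332 = n62315 := rfl
theorem F278301 : act 3 n62315 = n61343 := d2_2 (iv F273817) D62315 (iv D61343)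
theorem F278302 : act 5 n62315 = n61562 := d4_2 (iv F273818) D62315 (iv D61562)
theorem F278303 : act 6 n62315 = n61335 := d5_2 (iv F273819) D62315 (iv D61335)
theorem F278304 : act 9 n62315 = n61586 := d8_2 (iv F273820) D62315 (iv D61586)
def n62316 : Q := act 4 n61332
theorem D62316 : act 4 n61332 = n62316 := rfl
theorem F278305 : act 1 n62316 = n61333 := d11_1 D62316 (iv D61333) D61332
theorem F278306 : act 6 n62316 = n61336 := d31_2 (iv F273819) D62316 (iv D61336)
theorem F278307 : act 9 n62316 = n61587 := d34_2 (iv F273820) D62316 (iv D61587)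
def n62317 : Q := act 3 n61333
theorem D62317 : act 3 n61333 = n62317 := rfl
theorem F278308 : act 2 n62317 = n62317 := d17_1 D62317 (iv D62317) F273821 F268808 (iv F273821)
theorem F278309 : act 4 n62317 = n61345 := d24_2 D61333 D62317 (iv D61345) (iv D60173) (iv F268804)
theorem F278310 : act 6 n62317 = n61337 := d26_2 (iv F273822) D62317 (iv D61337)
theorem F278311 : act 9 n62317 = n61588 := d29_2 (iv F273823) D62317 (iv D61588)
def n62318 : Q := act 5 n61333
theorem D62318 : act 5 n61333 = n62318 := rfl
theorem F278312 : act 2 n62318 = n61334 := d19_1 D62318 (iv D61334) (iv F273821)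
theorem F278313 : act 4 n62318 = n61564 := d30_1 D62318 (iv D61564) (iv D60419) (iv F268805) D61333
theorem F278314 : act 9 n62318 = n61589 := d38_2 (iv F273823) D62318 (iv D61589)
def n62319 : Q := act 6 n61334
theorem D62319 : act 6 n61334 = n62319 := rfl
theorem F278315 : act 3 n62319 = n62319 := d26_1 D62319 (iv D62319) F273824
theorem F278316 : act 4 n62319 = n61487 := d31_1 D62319 F274389 (iv F273825)
theorem F278317 : act 5 n62319 = n61339 := d35_1 D62319 (iv D61339) (iv D60167) (iv F268809) D61334
theorem F278318 : act 9 n62319 = n61500 := d41_2 (iv F273826) D62319 F274436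
def n62320 : Q := act 4 n61335
theorem D62320 : act 4 n61335 = n62320 := rfl
theorem F278319 : act 0 n62320 = n61336 := d3_1 D62320 (iv D61336) D61335
def n62321 : Q := act 3 n61336
theorem D62321 : act 3 n61336 = n62321 := rfl
theorem F278320 : act 1 n62321 = n61337 := d10_1 D62321 (iv D61337) (iv F273829)
theorem F278321 : act 4 n62321 = n61347 := d24_2 D61336 D62321 (iv D61347) (iv D60175) (iv F268811)
def n62322 : Q := act 5 n61336
theorem D62322 : act 5 n61336 = n62322 := rfl
theorem F278322 : act 1 n62322 = n61338 := d12_1 D62322 (iv D61338) (iv F273829)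
theorem F278323 : act 4 n62322 = n61341 := d30_1 D62322 (iv D61341) (iv D60169) (iv F268812) D61336
def n62323 : Q := act 5 n61337
theorem D62323 : act 5 n61337 = n62323 := rfl
theorem F278324 : act 2 n62323 = n62323 := d19_1 D62323 (iv D62323) F273830
theorem F278325 : act 3 n62323 = n61338 := d25_1 D62323 (iv D61338) D61337
theorem F278326 : act 4 n62323 = n61594 := d30_1 D62323 F277510 F277506 F273279 (iv F273831)
theorem F278327 : act 8 n61588 = n62323 := d33_0 F278326 (iv D61594) (iv F274759)
def n62324 : Q := act 8 n61337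
theorem D62324 : act 8 n61337 = n62324 := rfl
theorem F278328 : act 2 n62324 = n62324 := d22_1 D62324 (iv D62324) F273830
theorem F278329 : act 3 n62324 = n61589 := d28_1 D62324 (iv F275677) F275674 F273804 D61337
theorem F278330 : act 4 n62324 = n61348 := d33_1 D62324 (iv D61348) (iv F273831)
theorem F278331 : act 5 n62324 = n61588 := d37_1 D62324 F278327 (iv D62323)
def n62325 : Q := act 6 n61338
theorem D62325 : act 6 n61338 = n62325 := rfl
theorem F278332 : act 2 n62325 = n61339 := d20_1 D62325 (iv D61339) (iv F273832)
theorem F278333 : act 4 n62325 = n61342 := d31_1 D62325 (iv D61342) (iv F273833)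
def n62326 : Q := act 5 n61340
theorem D62326 : act 5 n61340 = n62326 := rfl
theorem F278334 : act 0 n62326 = n61341 := d4_1 D62326 (iv D61341) (iv F273836)
def n62327 : Q := act 6 n61341
theorem D62327 : act 6 n61341 = n62327 := rfl
theorem F278335 : act 1 n62327 = n61342 := d13_1 D62327 (iv D61342) (iv F273838)
theorem F278336 : act 3 n62327 = n61433 := d26_1 D62327 (iv F277830) F277829
theorem F278337 : act 5 n62327 = n61432 := d35_1 D62327 F274212 F269176 (iv F268819) D61341
def n62328 : Q := act 4 n61343
theorem D62328 : act 4 n61343 = n62328 := rfl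
theorem F278338 : act 0 n62328 = n61344 := d3_1 D62328 (iv D61344) D61343
theorem F278339 : act 2 n62328 = n61721 := d18_1 D62328 (iv D61721) (iv F273842)
theorem F278340 : act 6 n62328 = n61346 := d31_2 (iv F273844) D62328 (iv D61346)
theorem F278341 : act 8 n62328 = n61376 := d33_2 (iv F273845) D62328 (iv D61376)
theorem F278342 : act 9 n62328 = n61592 := d34_2 (iv F273846) D62328 (iv D61592)
def n62329 : Q := act 3 n61344
theorem D62329 : act 3 n61344 = n62329 := rfl
theorem F278343 : act 1 n62329 = n61345 := d10_1 D62329 (iv D61345) (iv F273847)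
theorem F278344 : act 6 n62329 = n61347 := d26_2 (iv F273849) D62329 (iv D61347)
theorem F278345 : act 9 n62329 = n61593 := d29_2 (iv F273851) D62329 (iv D61593)
def n62330 : Q := act 8 n61345
theorem D62330 : act 8 n61345 = n62330 := rfl
theorem F278346 : act 2 n62330 = n62330 := d22_1 D62330 (iv D62330) F273852
theorem F278347 : act 3 n62330 = n61378 := d28_1 D62330 (iv D61378) (iv D60208) (iv F268830) D61345
theorem F278348 : act 5 n62330 = n61577 := d37_1 D62330 (iv F276027) F276024
theorem F278349 : act 6 n62330 = n61348 := d40_1 D62330 (iv D61348) (iv F273853)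
def n62331 : Q := act 3 n61346
theorem D62331 : act 3 n61346 = n62331 := rfl
theorem F278350 : act 0 n62331 = n61347 := d2_1 D62331 (iv D61347) (iv F273855)
def n62332 : Q := act 2 n61347
theorem D62332 : act 2 n61347 = n62332 := rfl
theorem F278351 : act 1 n62332 = n62332 := d9_1 D62332 (iv D62332) F273857 F268836 (iv F273857)
def n62333 : Q := act 8 n61347
theorem D62333 : act 8 n61347 = n62333 := rfl
theorem F278352 : act 1 n62333 = n61348 := d15_1 D62333 (iv D61348) (iv F273857)
theorem F278353 : act 3 n62333 = n61381 := d28_1 D62333 (iv D61381) (iv D60210) (iv F268835) D61347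
theorem F278354 : act 5 n62333 = n61630 := d37_1 D62333 (iv F277838) F277837
def n62334 : Q := act 9 n61348
theorem D62334 : act 9 n61348 = n62334 := rfl
theorem F278355 : act 2 n62334 = n62334 := d23_1 D62334 (iv D62334) F273858
theorem F278356 : act 3 n62334 = n61382 := d29_1 D62334 (iv D61382) (iv F273859)
theorem F278357 : act 5 n62334 = n61628 := d38_1 D62334 F274877 (iv F273860)
def n62335 : Q := act 0 n61350
theorem D62335 : act 0 n61350 = n62335 := rfl
theorem F278358 : act 3 n62335 = n61575 := d2_2 (iv F273868) D62335 (iv D61575)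
theorem F278359 : act 5 n62335 = n61360 := d4_2 (iv F273869) D62335 (iv D61360)
theorem F278360 : act 6 n62335 = n61352 := d5_2 (iv F273870) D62335 (iv D61352)
theorem F278361 : act 8 n62335 = n61723 := d7_2 (iv F273871) D62335 (iv D61723)
theorem F278362 : act 9 n62335 = n61402 := d8_2 (iv F273872) D62335 (iv D61402)
def n62336 : Q := act 4 n61350
theorem D62336 : act 4 n61350 = n62336 := rfl
theorem F278363 : act 1 n62336 = n61351 := d11_1 D62336 (iv D61351) D61350
theorem F278364 : act 6 n62336 = n61353 := d31_2 (iv F273870) D62336 (iv D61353)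
theorem F278365 : act 8 n62336 = n61724 := d33_2 (iv F273871) D62336 (iv D61724)
theorem F278366 : act 9 n62336 = n61403 := d34_2 (iv F273872) D62336 (iv D61403)
def n62337 : Q := act 3 n61351
theorem D62337 : act 3 n61351 = n62337 := rfl
theorem F278367 : act 2 n62337 = n62337 := d17_1 D62337 (iv D62337) F273873 F268848 (iv F273873)
theorem F278368 : act 4 n62337 = n61577 := d24_2 D61351 D62337 (iv D61577) (iv D60433) (iv F268843)
theorem F278369 : act 6 n62337 = n61354 := d26_2 (iv F273874) D62337 (iv D61354)
theorem F278370 : act 8 n62337 = n61628 := d28_2 (iv F273875) D62337 (iv D61628) (iv F273367) F273362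
theorem F278371 : act 9 n62337 = n61404 := d29_2 (iv F273876) D62337 (iv D61404)
def n62338 : Q := act 4 n61352
theorem D62338 : act 4 n61352 = n62338 := rfl
theorem F278372 : act 0 n62338 = n61353 := d3_1 D62338 (iv D61353) D61352
theorem F278373 : act 7 n62338 = n61721 := d32_2 (iv F273878) D62338 (iv D61721)
theorem F278374 : act 9 n62338 = n61405 := d34_2 (iv F273879) D62338 (iv D61405)
def n62339 : Q := act 3 n61353
theorem D62339 : act 3 n61353 = n62339 := rfl
theorem F278375 : act 1 n62339 = n61354 := d10_1 D62339 (iv D61354) (iv F273880)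
theorem F278376 : act 7 n62339 = n61722 := d27_2 (iv F273881) D62339 (iv D61722)
theorem F278377 : act 9 n62339 = n61406 := d29_2 (iv F273882) D62339 (iv D61406)
def n62340 : Q := act 8 n61354
theorem D62340 : act 8 n61354 = n62340 := rfl
theorem F278378 : act 0 n62340 = n61720 := d7_1 D62340 (iv F277993) F277988
theorem F278379 : act 2 n62340 = n62340 := d22_1 D62340 (iv D62340) F273883
theorem F278380 : act 3 n62340 = n61399 := d28_1 D62340 F274090 (iv F271772) F271776 D61354
theorem F278381 : act 4 n62340 = n61702 := d33_1 D62340 (iv F276448) F276444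
theorem F278382 : act 5 n62340 = n61398 := d37_1 D62340 (iv F277857) F277855
theorem F278383 : act 6 n62340 = n61628 := d40_1 D62340 (iv F278370) F278369
theorem F278384 : act 7 n62340 = n61442 := d42_1 D62340 F274241 (iv F273884)
theorem F278385 : act 9 n62340 = n61625 := d44_2 (iv F273885) D62340 (iv F275988) F275989 (iv D61407)
def n62341 : Q := act 0 n61356
theorem D62341 : act 0 n61356 = n62341 := rfl
theorem F278386 : act 1 n62341 = n61756 := d0_2 D61356 D62341 F275188 F270392 (iv F268866)
theorem F278387 : act 2 n62341 = n61580 := d1_2 (iv F273892) D62341 (iv D61580)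
theorem F278388 : act 3 n62341 = n61360 := d2_2 (iv F273893) D62341 (iv D61360)
theorem F278389 : act 5 n62341 = n61575 := d4_2 (iv F273894) D62341 (iv D61575)
theorem F278390 : act 6 n62341 = n61357 := d5_2 (iv F273895) D62341 (iv D61357)
theorem F278391 : act 7 n62341 = n61711 := d6_2 (iv F273896) D62341 (iv D61711)
theorem F278392 : act 8 n62341 = n61578 := d7_2 (iv F273897) D62341 (iv D61578)
theorem F278393 : act 9 n62341 = n61421 := d8_2 (iv F273898) D62341 (iv D61421)
def n62342 : Q := act 0 n61358
theorem D62342 : act 0 n61358 = n62342 := rfl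
theorem F278394 : act 2 n62342 = n61723 := d1_2 (iv F273905) D62342 (iv D61723)
theorem F278395 : act 3 n62342 = n61711 := d2_2 (iv F273906) D62342 (iv D61711)
theorem F278396 : act 6 n62342 = n61373 := d5_2 (iv F273907) D62342 (iv D61373)
theorem F278397 : act 7 n62342 = n61360 := d6_2 (iv F273908) D62342 (iv D61360)
theorem F278398 : act 9 n62342 = n61428 := d8_2 (iv F273909) D62342 (iv D61428)
def n62343 : Q := act 4 n61358
theorem D62343 : act 4 n61358 = n62343 := rfl
theorem F278399 : act 1 n62343 = n61359 := d11_1 D62343 (iv D61359) D61358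
theorem F278400 : act 2 n62343 = n61724 := d18_1 D62343 (iv D61724) (iv F273905)
theorem F278401 : act 6 n62343 = n61374 := d31_2 (iv F273907) D62343 (iv D61374)
theorem F278402 : act 7 n62343 = n61361 := d32_2 (iv F273908) D62343 (iv D61361)
theorem F278403 : act 9 n62343 = n61429 := d34_2 (iv F273909) D62343 (iv D61429)
def n62344 : Q := act 3 n61359
theorem D62344 : act 3 n61359 = n62344 := rfl
theorem F278404 : act 2 n62344 = n61383 := d17_1 D62344 (iv D61383) F268980 (iv F268889) (iv F273910)
theorem F278405 : act 4 n62344 = n61491 := d24_2 D61359 D62344 F274403 (iv D60618) (iv F268884)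
theorem F278406 : act 6 n62344 = n61375 := d26_2 (iv F273911) D62344 (iv D61375)
theorem F278407 : act 7 n62344 = n61362 := d27_2 (iv F273912) D62344 (iv D61362)
theorem F278408 : act 9 n62344 = n61430 := d29_2 (iv F273913) D62344 (iv D61430)
def n62345 : Q := act 4 n61360
theorem D62345 : act 4 n61360 = n62345 := rfl
theorem F278409 : act 0 n62345 = n61361 := d3_1 D62345 (iv D61361) D61360
theorem F278410 : act 6 n62345 = n61364 := d31_2 (iv F273914) D62345 (iv D61364)
theorem F278411 : act 9 n62345 = n61431 := d34_2 (iv F273915) D62345 (iv D61431)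
def n62346 : Q := act 3 n61361
theorem D62346 : act 3 n61361 = n62346 := rfl
theorem F278412 : act 1 n62346 = n61362 := d10_1 D62346 (iv D61362) (iv F273916)
theorem F278413 : act 4 n62346 = n61612 := d24_2 D61361 D62346 (iv F276736) F276737 F273893
theorem F278414 : act 6 n62346 = n61365 := d26_2 (iv F273917) D62346 (iv D61365)
theorem F278415 : act 9 n62346 = n61432 := d29_2 (iv F273918) D62346 (iv D61432)
def n62347 : Q := act 5 n61361
theorem D62347 : act 5 n61361 = n62347 := rfl
theorem F278416 : act 1 n62347 = n61363 := d12_1 D62347 (iv D61363) (iv F273916)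
theorem F278417 : act 9 n62347 = n61433 := d38_2 (iv F273918) D62347 (iv D61433)
def n62348 : Q := act 8 n61362
theorem D62348 : act 8 n61362 = n62348 := rfl
theorem F278418 : act 2 n62348 = n61385 := d22_1 D62348 (iv D61385) (iv F273919)
theorem F278419 : act 4 n62348 = n61609 := d33_1 D62348 F274820 (iv F273920)
theorem F278420 : act 6 n62348 = n61366 := d40_1 D62348 (iv D61366) (iv F273921)
def n62349 : Q := act 3 n61364
theorem D62349 : act 3 n61364 = n62349 := rfl
theorem F278421 : act 0 n62349 = n61365 := d2_1 D62349 (iv D61365) (iv F273925)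
theorem F278422 : act 4 n62349 = n61611 := d24_2 D61364 D62349 (iv F276729) F276730 F273900
theorem F278423 : act 5 n62349 = n61610 := d25_2 F277862 D62349 (iv F277861)
theorem F278424 : act 7 n62349 = n61379 := d27_2 (iv F273926) D62349 (iv D61379)
theorem F278425 : act 9 n62349 = n61435 := d29_2 (iv F273927) D62349 (iv D61435)
def n62350 : Q := act 2 n61365
theorem D62350 : act 2 n61365 = n62350 := rfl
theorem F278426 : act 1 n62350 = n61386 := d9_1 D62350 (iv D61386) F268994 (iv F268906) (iv F273928)
theorem F278427 : act 3 n62350 = n61470 := d17_2 D61365 D62350 (iv F276420) (iv D61958) F271677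
theorem F278428 : act 4 n62350 = n61479 := d18_2 (iv F273929) D62350 (iv F274369)
theorem F278429 : act 5 n62350 = n61596 := d19_2 (iv F273930) D62350 F274777
theorem F278430 : act 7 n62350 = n61380 := d21_2 (iv F273931) D62350 (iv D61380)
theorem F278431 : act 9 n62350 = n61436 := d23_2 (iv F273932) D62350 (iv D61436)
def n62351 : Q := act 8 n61365
theorem D62351 : act 8 n61365 = n62351 := rfl
theorem F278432 : act 1 n62351 = n61366 := d15_1 D62351 (iv D61366) (iv F273928)
theorem F278433 : act 4 n62351 = n61608 := d33_1 D62351 F274818 (iv F273929)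
theorem F278434 : act 5 n62351 = n61601 := d37_1 D62351 F274799 (iv F273930)
theorem F278435 : act 7 n62351 = n61381 := d42_1 D62351 (iv D61381) (iv F273931)
def n62352 : Q := act 9 n61366
theorem D62352 : act 9 n61366 = n62352 := rfl
theorem F278436 : act 2 n62352 = n61387 := d23_1 D62352 (iv D61387) (iv F273933)
theorem F278437 : act 4 n62352 = n61605 := d34_1 D62352 F274810 (iv F273934)
theorem F278438 : act 5 n62352 = n61599 := d38_1 D62352 F274792 (iv F273935)
theorem F278439 : act 7 n62352 = n61382 := d43_1 D62352 (iv D61382) (iv F273936)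
theorem F278440 : act 8 n62352 = n61438 := d44_1 D62352 (iv D61438) (iv D60265) (iv F268910) D61366
def n62353 : Q := act 0 n61368
theorem D62353 : act 0 n61368 = n62353 := rfl
theorem F278441 : act 1 n62353 = n61552 := d0_2 D61368 D62353 (iv D61552) (iv D60409) (iv F268920)
theorem F278442 : act 2 n62353 = n61634 := d1_2 (iv F273943) D62353 (iv D61634)
theorem F278443 : act 3 n62353 = n61709 := d2_2 (iv F273944) D62353 (iv D61709)
theorem F278444 : act 5 n62353 = n61370 := d4_2 (iv F273945) D62353 (iv D61370)
theorem F278445 : act 7 n62353 = n61621 := d6_2 (iv F273946) D62353 (iv D61621)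
theorem F278446 : act 8 n62353 = n61455 := d7_2 (iv F273947) D62353 (iv D61455)
theorem F278447 : act 9 n62353 = n61369 := d8_2 (iv F273948) D62353 (iv D61369)
def n62354 : Q := act 4 n61373
theorem D62354 : act 4 n61373 = n62354 := rfl
theorem F278448 : act 0 n62354 = n61374 := d3_1 D62354 (iv D61374) D61373
theorem F278449 : act 5 n62354 = n61682 := d30_2 (iv F273970) D62354 (iv D61682) (iv F271302) F271301
theorem F278450 : act 7 n62354 = n61376 := d32_2 (iv F273971) D62354 (iv D61376)
theorem F278451 : act 9 n62354 = n61478 := d34_2 (iv F273972) D62354 (iv D61478)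
def n62355 : Q := act 3 n61374
theorem D62355 : act 3 n61374 = n62355 := rfl
theorem F278452 : act 1 n62355 = n61375 := d10_1 D62355 (iv D61375) (iv F273973)
theorem F278453 : act 2 n62355 = n61426 := d17_1 D62355 (iv D61426) (iv F274134) (iv F276522) F276521
theorem F278454 : act 4 n62355 = n61436 := d24_2 D61374 D62355 (iv F276669) F276670 F273758
theorem F278455 : act 5 n62355 = n61568 := d25_2 (iv F273974) D62355 F274700
theorem F278456 : act 7 n62355 = n61377 := d27_2 (iv F273975) D62355 (iv D61377)
theorem F278457 : act 9 n62355 = n61479 := d29_2 (iv F273976) D62355 (iv D61479)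
def n62356 : Q := act 8 n61375
theorem D62356 : act 8 n61375 = n62356 := rfl
theorem F278458 : act 2 n62356 = n61388 := d22_1 D62356 (iv D61388) (iv F273977)
theorem F278459 : act 4 n62356 = n61495 := d33_1 D62356 (iv D61495) (iv F273978)
theorem F278460 : act 5 n62356 = n61566 := d37_1 D62356 F274692 (iv F273979)
theorem F278461 : act 7 n62356 = n61378 := d42_1 D62356 (iv D61378) (iv F273980)
def n62357 : Q := act 3 n61376
theorem D62357 : act 3 n61376 = n62357 := rfl
theorem F278462 : act 0 n62357 = n61377 := d2_1 D62357 (iv D61377) (iv F273982)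
theorem F278463 : act 2 n62357 = n61474 := d17_1 D62357 (iv D61474) (iv F274249) (iv F276531) F276530
theorem F278464 : act 4 n62357 = n61483 := d24_2 D61376 D62357 (iv F276765) F276766 F273961
theorem F278465 : act 5 n62357 = n61579 := d25_2 F276064 D62357 (iv F276063)
theorem F278466 : act 6 n62357 = n61379 := d26_2 (iv F273983) D62357 (iv D61379)
theorem F278467 : act 9 n62357 = n61480 := d29_2 (iv F273984) D62357 (iv D61480)
def n62358 : Q := act 8 n61377
theorem D62358 : act 8 n61377 = n62358 := rfl
theorem F278468 : act 1 n62358 = n61378 := d15_1 D62358 (iv D61378) (iv F273985)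
theorem F278469 : act 2 n62358 = n61476 := d22_1 D62358 (iv D61476) (iv F273986)
theorem F278470 : act 4 n62358 = n61485 := d33_1 D62358 (iv D61485) (iv F273987)
theorem F278471 : act 5 n62358 = n61576 := d37_1 D62358 F274729 (iv F273988)
theorem F278472 : act 6 n62358 = n61381 := d40_1 D62358 (iv D61381) (iv F273989)
def n62359 : Q := act 9 n61378
theorem D62359 : act 9 n61378 = n62359 := rfl
theorem F278473 : act 2 n62359 = n61389 := d23_1 D62359 (iv D61389) (iv F273991)
theorem F278474 : act 4 n62359 = n61424 := d34_1 D62359 F274188 (iv F273992)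
theorem F278475 : act 5 n62359 = n61395 := d38_1 D62359 F274077 (iv F273993)
theorem F278476 : act 6 n62359 = n61382 := d41_1 D62359 (iv D61382) (iv F273994)
theorem F278477 : act 8 n62359 = n61482 := d44_1 D62359 (iv D61482) (iv D60311) (iv F268969) D61378
def n62360 : Q := act 2 n61379
theorem D62360 : act 2 n61379 = n62360 := rfl
theorem F278478 : act 0 n62360 = n61380 := d1_1 D62360 (iv D61380) (iv F273995)
theorem F278479 : act 3 n62360 = n61472 := d17_2 D61379 D62360 F276541 (iv D61976) F271793
theorem F278480 : act 4 n62360 = n61480 := d18_2 (iv F273996) D62360 (iv F274373)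
theorem F278481 : act 5 n62360 = n61622 := d19_2 (iv F273997) D62360 F274859
theorem F278482 : act 6 n62360 = n61474 := d20_2 F278466 D62360 (iv F278463)
theorem F278483 : act 9 n62360 = n61483 := d23_2 (iv F273998) D62360 (iv D61483)
def n62361 : Q := act 8 n61379
theorem D62361 : act 8 n61379 = n62361 := rfl
theorem F278484 : act 0 n62361 = n61381 := d7_1 D62361 (iv D61381) (iv F273995)
theorem F278485 : act 4 n62361 = n61633 := d33_1 D62361 F274886 (iv F273996)
theorem F278486 : act 5 n62361 = n61629 := d37_1 D62361 F274879 (iv F273997)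
def n62362 : Q := act 8 n61380
theorem D62362 : act 8 n61380 = n62362 := rfl
theorem F278487 : act 1 n62362 = n61390 := d15_1 D62362 (iv D61390) (iv F273999)
theorem F278488 : act 2 n62362 = n61381 := d22_1 D62362 (iv D61381) D61380
theorem F278489 : act 4 n62362 = n61481 := d33_1 D62362 (iv D61481) (iv F274001)
theorem F278490 : act 5 n62362 = n61616 := d37_1 D62362 F274842 (iv F274002)
theorem F278491 : act 6 n62362 = n61476 := d40_1 D62362 (iv D61476) (iv F274003)
def n62363 : Q := act 9 n61381
theorem D62363 : act 9 n61381 = n62363 := rfl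
theorem F278492 : act 1 n62363 = n61382 := d16_1 D62363 (iv D61382) (iv F274005)
theorem F278493 : act 4 n62363 = n61632 := d34_1 D62363 F274884 (iv F274006)
theorem F278494 : act 5 n62363 = n61627 := d38_1 D62363 F274875 (iv F274007)
theorem F278495 : act 8 n62363 = n61486 := d44_1 D62363 (iv D61486) (iv D60314) (iv F268975) D61381
def n62364 : Q := act 2 n61384
theorem D62364 : act 2 n61384 = n62364 := rfl
theorem F278496 : act 3 n62364 = n61419 := d17_2 D61384 D62364 F274170 F269134 (iv F268986)
theorem F278497 : act 4 n62364 = n61430 := d18_2 (iv F274018) D62364 F274206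
theorem F278498 : act 6 n62364 = n61386 := d20_2 (iv F274019) D62364 (iv D61386)
theorem F278499 : act 7 n62364 = n61423 := d21_2 (iv F274020) D62364 F274182
theorem F278500 : act 9 n62364 = n61491 := d23_2 (iv F274021) D62364 (iv D61491)
def n62365 : Q := act 9 n61385
theorem D62365 : act 9 n61385 = n62365 := rfl
theorem F278501 : act 3 n62365 = n62365 := d29_1 D62365 (iv D62365) F274022
theorem F278502 : act 4 n62365 = n61606 := d34_1 D62365 F274812 (iv F274023)
theorem F278503 : act 6 n62365 = n61387 := d41_1 D62365 (iv D61387) (iv F274024)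
theorem F278504 : act 8 n62365 = n61492 := d44_1 D62365 (iv D61492) (iv D60323) (iv F268993) D61385
def n62366 : Q := act 3 n61390
theorem D62366 : act 3 n61390 = n62366 := rfl
theorem F278505 : act 2 n62366 = n62366 := d17_1 D62366 (iv D62366) F274046 F269019 (iv F274046)
theorem F278506 : act 5 n62366 = n61617 := d25_2 (iv F274048) D62366 (iv D61617)
theorem F278507 : act 6 n62366 = n61462 := d26_2 (iv F274049) D62366 F274301
theorem F278508 : act 8 n62366 = n61453 := d28_2 D61390 D62366 (iv D61453) F269231 (iv F269013)
def n62367 : Q := act 9 n61390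
theorem D62367 : act 9 n61390 = n62367 := rfl
theorem F278509 : act 2 n62367 = n61391 := d23_1 D62367 (iv D61391) (iv F274046)
theorem F278510 : act 4 n62367 = n61482 := d34_1 D62367 (iv D61482) (iv F274047)
theorem F278511 : act 5 n62367 = n61412 := d38_1 D62367 F274144 (iv F274048)
theorem F278512 : act 6 n62367 = n61477 := d41_1 D62367 (iv D61477) (iv F274049)
theorem F278513 : act 8 n62367 = n61424 := d44_1 D62367 F274188 (iv D60332) (iv F269017) D61390
def n62368 : Q := act 0 n61394
theorem D62368 : act 0 n61394 = n62368 := rfl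
theorem F278514 : act 2 n62368 = n61581 := d1_2 (iv F274068) D62368 (iv D61581)
theorem F278515 : act 3 n62368 = n61402 := d2_2 (iv F274069) D62368 (iv D61402)
theorem F278516 : act 5 n62368 = n61421 := d4_2 (iv F274070) D62368 (iv D61421)
theorem F278517 : act 6 n62368 = n61396 := d5_2 (iv F274071) D62368 (iv D61396)
theorem F278518 : act 8 n62368 = n61618 := d7_2 (iv F274072) D62368 (iv D61618)
theorem F278519 : act 9 n62368 = n61575 := d8_2 (iv F274073) D62368 (iv D61575)
def n62369 : Q := act 4 n61394
theorem D62369 : act 4 n61394 = n62369 := rfl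
theorem F278520 : act 1 n62369 = n61395 := d11_1 D62369 (iv D61395) D61394
theorem F278521 : act 2 n62369 = n61582 := d18_1 D62369 (iv D61582) (iv F274068)
theorem F278522 : act 6 n62369 = n61397 := d31_2 (iv F274071) D62369 (iv D61397)
theorem F278523 : act 8 n62369 = n61619 := d33_2 (iv F274072) D62369 (iv D61619)
theorem F278524 : act 9 n62369 = n61576 := d34_2 (iv F274073) D62369 (iv D61576)
def n62370 : Q := act 3 n61395
theorem D62370 : act 3 n61395 = n62370 := rfl
theorem F278525 : act 2 n62370 = n62370 := d17_1 D62370 (iv D62370) F274074 F269044 (iv F274074)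
theorem F278526 : act 4 n62370 = n61404 := d24_2 D61395 D62370 (iv D61404) (iv D60233) (iv F269038)
theorem F278527 : act 6 n62370 = n61398 := d26_2 (iv F274075) D62370 (iv D61398)
theorem F278528 : act 9 n62370 = n61577 := d29_2 (iv F274077) D62370 (iv D61577)
def n62371 : Q := act 4 n61396
theorem D62371 : act 4 n61396 = n62371 := rfl
theorem F278529 : act 0 n62371 = n61397 := d3_1 D62371 (iv D61397) D61396
theorem F278530 : act 7 n62371 = n61745 := d32_2 (iv F274080) D62371 (iv D61745)
def n62372 : Q := act 3 n61397
theorem D62372 : act 3 n61397 = n62372 := rfl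
theorem F278531 : act 1 n62372 = n61398 := d10_1 D62372 (iv D61398) (iv F274081)
theorem F278532 : act 4 n62372 = n61406 := d24_2 D61397 D62372 (iv D61406) (iv D60235) (iv F269048)
theorem F278533 : act 7 n62372 = n61746 := d27_2 (iv F274082) D62372 (iv D61746)
def n62373 : Q := act 5 n61397
theorem D62373 : act 5 n61397 = n62373 := rfl
theorem F278534 : act 1 n62373 = n61399 := d12_1 D62373 (iv D61399) (iv F274081)
theorem F278535 : act 2 n62373 = n61415 := d19_1 D62373 (iv F276475) F276474
theorem F278536 : act 4 n62373 = n61401 := d30_1 D62373 (iv D61401) (iv D60230) (iv F269049) D61397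
theorem F278537 : act 7 n62373 = n61441 := d36_2 (iv F274082) D62373 F274237
theorem F278538 : act 8 n62373 = n61410 := d37_2 F276705 D62373 (iv F276702)
theorem F278539 : act 9 n62373 = n61624 := d38_2 F276441 D62373 (iv F276437)
theorem F278540 : act 6 n61627 = n62373 := d41_3 F278539 F274866 (iv F274875)
def n62374 : Q := act 5 n61400
theorem D62374 : act 5 n61400 = n62374 := rfl
theorem F278541 : act 0 n62374 = n61401 := d4_1 D62374 (iv D61401) (iv F274093)
theorem F278542 : act 1 n62374 = n61718 := d12_1 D62374 F275095 (iv F274094)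
theorem F278543 : act 2 n62374 = n61414 := d19_1 D62374 F274151 (iv F274095)
theorem F278544 : act 3 n62374 = n61700 := d25_1 D62374 F275054 (iv F274096)
theorem F278545 : act 6 n62374 = n61626 := d35_2 (iv F274097) D62374 F274872 (iv F272011) F272010
theorem F278546 : act 7 n62374 = n61440 := d36_2 (iv F274098) D62374 F274233
theorem F278547 : act 8 n62374 = n61409 := d37_2 (iv F274099) D62374 F274131
theorem F278548 : act 9 n62374 = n61623 := d38_2 (iv F274100) D62374 F274862
def n62375 : Q := act 4 n61402
theorem D62375 : act 4 n61402 = n62375 := rfl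
theorem F278549 : act 0 n62375 = n61403 := d3_1 D62375 (iv D61403) D61402
theorem F278550 : act 6 n62375 = n61405 := d31_2 (iv F274109) D62375 (iv D61405)
def n62376 : Q := act 3 n61403
theorem D62376 : act 3 n61403 = n62376 := rfl
theorem F278551 : act 1 n62376 = n61404 := d10_1 D62376 (iv D61404) (iv F274110)
theorem F278552 : act 6 n62376 = n61406 := d26_2 (iv F274111) D62376 (iv D61406)
def n62377 : Q := act 3 n61405
theorem D62377 : act 3 n61405 = n62377 := rfl
theorem F278553 : act 0 n62377 = n61406 := d2_1 D62377 (iv D61406) (iv F274114)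
theorem F278554 : act 7 n62377 = n61749 := d27_2 (iv F274115) D62377 (iv D61749)
def n62378 : Q := act 2 n61406
theorem D62378 : act 2 n61406 = n62378 := rfl
theorem F278555 : act 1 n62378 = n62378 := d9_1 D62378 (iv D62378) F274116 F269086 (iv F274116)
theorem F278556 : act 7 n62378 = n61750 := d21_2 (iv F274117) D62378 (iv D61750)
def n62379 : Q := act 8 n61406
theorem D62379 : act 8 n61406 = n62379 := rfl
theorem F278557 : act 1 n62379 = n61407 := d15_1 D62379 (iv D61407) (iv F274116)
theorem F278558 : act 3 n62379 = n61685 := d28_1 D62379 (iv F276988) F276984 F272964 D61406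
theorem F278559 : act 5 n62379 = n61708 := d37_1 D62379 (iv F277873) F277871
theorem F278560 : act 7 n62379 = n61751 := d42_1 D62379 (iv D61751) (iv F274117)
def n62380 : Q := act 4 n61409
theorem D62380 : act 4 n61409 = n62380 := rfl
theorem F278561 : act 0 n62380 = n61410 := d3_1 D62380 (iv D61410) D61409
theorem F278562 : act 2 n62380 = n61425 := d18_1 D62380 (iv D61425) (iv F274129)
theorem F278563 : act 7 n62380 = n61444 := d32_2 (iv F274132) D62380 (iv D61444)
def n62381 : Q := act 0 n61411
theorem D62381 : act 0 n61411 = n62381 := rfl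
theorem F278564 : act 2 n62381 = n61626 := d1_2 (iv F274136) D62381 (iv D61626)
theorem F278565 : act 5 n62381 = n61618 := d4_2 (iv F274137) D62381 (iv D61618)
theorem F278566 : act 6 n62381 = n61414 := d5_2 (iv F274138) D62381 (iv D61414)
theorem F278567 : act 8 n62381 = n61421 := d7_2 (iv F274139) D62381 (iv D61421)
theorem F278568 : act 9 n62381 = n61615 := d8_2 (iv F274140) D62381 (iv D61615)
def n62382 : Q := act 4 n61411
theorem D62382 : act 4 n61411 = n62382 := rfl
theorem F278569 : act 1 n62382 = n61412 := d11_1 D62382 (iv D61412) D61411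
theorem F278570 : act 2 n62382 = n61627 := d18_1 D62382 (iv D61627) (iv F274136)
theorem F278571 : act 6 n62382 = n61415 := d31_2 (iv F274138) D62382 (iv D61415)
theorem F278572 : act 8 n62382 = n61422 := d33_2 (iv F274139) D62382 (iv D61422)
theorem F278573 : act 9 n62382 = n61616 := d34_2 (iv F274140) D62382 (iv D61616)
def n62383 : Q := act 3 n61412
theorem D62383 : act 3 n61412 = n62383 := rfl
theorem F278574 : act 2 n62383 = n62383 := d17_1 D62383 (iv D62383) F274141 F269106 (iv F274141)
theorem F278575 : act 6 n62383 = n61416 := d26_2 (iv F274142) D62383 (iv D61416)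
theorem F278576 : act 9 n62383 = n61617 := d29_2 (iv F274144) D62383 (iv D61617)
def n62384 : Q := act 0 n61413
theorem D62384 : act 0 n61413 = n62384 := rfl
theorem F278577 : act 1 n62384 = n61725 := d0_2 D61413 D62384 (iv D61725) (iv D60638) (iv F269110)
theorem F278578 : act 2 n62384 = n61623 := d1_2 (iv F274145) D62384 (iv D61623)
theorem F278579 : act 5 n62384 = n61417 := d4_2 (iv F274146) D62384 (iv D61417)
theorem F278580 : act 6 n62384 = n61615 := d5_2 (iv F274147) D62384 (iv D61615)
theorem F278581 : act 7 n62384 = n61455 := d6_2 (iv F274148) D62384 (iv D61455)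
theorem F278582 : act 8 n62384 = n61621 := d7_2 (iv F274149) D62384 (iv D61621)
theorem F278583 : act 9 n62384 = n61414 := d8_2 (iv F274150) D62384 (iv D61414)
def n62385 : Q := act 4 n61414
theorem D62385 : act 4 n61414 = n62385 := rfl
theorem F278584 : act 0 n62385 = n61415 := d3_1 D62385 (iv D61415) D61414
theorem F278585 : act 7 n62385 = n61458 := d32_2 (iv F274152) D62385 (iv D61458)
theorem F278586 : act 8 n62385 = n61425 := d33_2 (iv F274153) D62385 (iv D61425)
def n62386 : Q := act 3 n61415
theorem D62386 : act 3 n61415 = n62386 := rfl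
theorem F278587 : act 1 n62386 = n61416 := d10_1 D62386 (iv D61416) (iv F274154)
theorem F278588 : act 7 n62386 = n61459 := d27_2 (iv F274155) D62386 (iv D61459)
def n62387 : Q := act 8 n61416
theorem D62387 : act 8 n61416 = n62387 := rfl
theorem F278589 : act 2 n62387 = n62387 := d22_1 D62387 (iv D62387) F274157
theorem F278590 : act 3 n62387 = n61427 := d28_1 D62387 (iv D61427) (iv D60255) (iv F269121) D61416
theorem F278591 : act 5 n62387 = n61573 := d37_1 D62387 (iv F276486) F276483
theorem F278592 : act 7 n62387 = n61462 := d42_1 D62387 (iv D61462) (iv F274158)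
def n62388 : Q := act 0 n61418
theorem D62388 : act 0 n61418 = n62388 := rfl
theorem F278593 : act 2 n62388 = n61715 := d1_2 (iv F274165) D62388 (iv D61715)
theorem F278594 : act 3 n62388 = n61428 := d2_2 (iv F274166) D62388 (iv D61428)
theorem F278595 : act 6 n62388 = n61469 := d5_2 (iv F274167) D62388 (iv D61469)
theorem F278596 : act 7 n62388 = n61421 := d6_2 (iv F274168) D62388 (iv D61421)
theorem F278597 : act 9 n62388 = n61711 := d8_2 (iv F274169) D62388 (iv D61711)
def n62389 : Q := act 4 n61418
theorem D62389 : act 4 n61418 = n62389 := rfl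
theorem F278598 : act 1 n62389 = n61419 := d11_1 D62389 (iv D61419) D61418
theorem F278599 : act 2 n62389 = n61716 := d18_1 D62389 (iv D61716) (iv F274165)
theorem F278600 : act 6 n62389 = n61470 := d31_2 (iv F274167) D62389 (iv D61470)
theorem F278601 : act 7 n62389 = n61422 := d32_2 (iv F274168) D62389 (iv D61422)
theorem F278602 : act 9 n62389 = n61712 := d34_2 (iv F274169) D62389 (iv D61712)
def n62390 : Q := act 5 n61419
theorem D62390 : act 5 n61419 = n62390 := rfl
theorem F278603 : act 2 n62390 = n61420 := d19_1 D62390 (iv D61420) (iv F274170)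
theorem F278604 : act 7 n62390 = n61424 := d36_2 (iv F274172) D62390 (iv D61424)
theorem F278605 : act 9 n62390 = n61495 := d38_2 (iv F274173) D62390 F274418
def n62391 : Q := act 4 n61421
theorem D62391 : act 4 n61421 = n62391 := rfl
theorem F278606 : act 0 n62391 = n61422 := d3_1 D62391 (iv D61422) D61421
theorem F278607 : act 6 n62391 = n61425 := d31_2 (iv F274179) D62391 (iv D61425)
def n62392 : Q := act 3 n61422
theorem D62392 : act 3 n61422 = n62392 := rfl
theorem F278608 : act 1 n62392 = n61423 := d10_1 D62392 (iv D61423) (iv F274180)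
theorem F278609 : act 4 n62392 = n61432 := d24_2 D61422 D62392 (iv D61432) (iv D60260) (iv F269138)
theorem F278610 : act 6 n62392 = n61426 := d26_2 (iv F274181) D62392 (iv D61426)
theorem F278611 : act 9 n62392 = n61612 := d29_2 F276741 D62392 (iv F276736)
def n62393 : Q := act 5 n61422
theorem D62393 : act 5 n61422 = n62393 := rfl
theorem F278612 : act 1 n62393 = n61424 := d12_1 D62393 (iv D61424) (iv F274180)
theorem F278613 : act 2 n62393 = n61486 := d19_1 D62393 (iv F277887) F277884
theorem F278614 : act 6 n62393 = n61632 := d35_2 (iv F274181) D62393 (iv D61632) (iv F272017) F272016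
theorem F278615 : act 9 n62393 = n61485 := d38_2 F276741 D62393 (iv F276738)
def n62394 : Q := act 5 n61423
theorem D62394 : act 5 n61423 = n62394 := rfl
theorem F278616 : act 2 n62394 = n61487 := d19_1 D62394 (iv D61487) (iv F274182)
theorem F278617 : act 3 n62394 = n61424 := d25_1 D62394 (iv D61424) D61423
theorem F278618 : act 6 n62394 = n61564 := d35_2 (iv F274184) D62394 (iv D61564) F269750 (iv F269153)
theorem F278619 : act 9 n62394 = n61498 := d38_2 (iv F274185) D62394 F274429
def n62395 : Q := act 8 n61423
theorem D62395 : act 8 n61423 = n62395 := rfl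
theorem F278620 : act 2 n62395 = n61488 := d22_1 D62395 (iv D61488) (iv F274182)
theorem F278621 : act 4 n62395 = n61434 := d33_1 D62395 (iv D61434) (iv F274183)
theorem F278622 : act 6 n62395 = n61427 := d40_1 D62395 (iv D61427) (iv F274184)
def n62396 : Q := act 3 n61425
theorem D62396 : act 3 n61425 = n62396 := rfl
theorem F278623 : act 0 n62396 = n61426 := d2_1 D62396 (iv D61426) (iv F274189)
theorem F278624 : act 4 n62396 = n61435 := d24_2 D61425 D62396 (iv D61435) (iv D60263) (iv F269146)
theorem F278625 : act 5 n62396 = n61574 := d25_2 F276723 D62396 (iv F276722)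
theorem F278626 : act 7 n62396 = n61474 := d27_2 (iv F274190) D62396 (iv D61474)
theorem F278627 : act 9 n62396 = n61611 := d29_2 F276733 D62396 (iv F276729)
def n62397 : Q := act 8 n61426
theorem D62397 : act 8 n61426 = n62397 := rfl
theorem F278628 : act 1 n62397 = n61427 := d15_1 D62397 (iv D61427) (iv F274191)
theorem F278629 : act 4 n62397 = n61437 := d33_1 D62397 (iv D61437) (iv F274192)
theorem F278630 : act 5 n62397 = n61572 := d37_1 D62397 F274718 (iv F274193)
theorem F278631 : act 7 n62397 = n61476 := d42_1 D62397 (iv D61476) (iv F274194)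
def n62398 : Q := act 9 n61427
theorem D62398 : act 9 n61427 = n62398 := rfl
theorem F278632 : act 2 n62398 = n61489 := d23_1 D62398 (iv D61489) (iv F274196)
theorem F278633 : act 4 n62398 = n61438 := d34_1 D62398 (iv D61438) (iv F274197)
theorem F278634 : act 5 n62398 = n61570 := d38_1 D62398 F274711 (iv F274198)
theorem F278635 : act 7 n62398 = n61477 := d43_1 D62398 (iv D61477) (iv F274199)
theorem F278636 : act 8 n62398 = n61605 := d44_1 D62398 F274810 F269900 (iv F269155) D61427
def n62399 : Q := act 4 n61428
theorem D62399 : act 4 n61428 = n62399 := rfl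
theorem F278637 : act 0 n62399 = n61429 := d3_1 D62399 (iv D61429) D61428
theorem F278638 : act 6 n62399 = n61478 := d31_2 (iv F274200) D62399 (iv D61478)
theorem F278639 : act 7 n62399 = n61431 := d32_2 (iv F274201) D62399 (iv D61431)
theorem F278640 : act 8 n62399 = n61683 := d33_2 F277207 D62399 (iv F277203)
def n62400 : Q := act 3 n61429
theorem D62400 : act 3 n61429 = n62400 := rfl
theorem F278641 : act 1 n62400 = n61430 := d10_1 D62400 (iv D61430) (iv F274202)
theorem F278642 : act 2 n62400 = n61612 := d17_1 D62400 (iv F276736) F276735 (iv F276645) F276644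
theorem F278643 : act 6 n62400 = n61479 := d26_2 (iv F274203) D62400 (iv D61479)
theorem F278644 : act 7 n62400 = n61432 := d27_2 (iv F274204) D62400 (iv D61432)
def n62401 : Q := act 3 n61431
theorem D62401 : act 3 n61431 = n62401 := rfl
theorem F278645 : act 0 n62401 = n61432 := d2_1 D62401 (iv D61432) (iv F274209)
theorem F278646 : act 6 n62401 = n61435 := d26_2 (iv F274210) D62401 (iv D61435)
def n62402 : Q := act 5 n61431
theorem D62402 : act 5 n61431 = n62402 := rfl
theorem F278647 : act 0 n62402 = n61433 := d4_1 D62402 (iv D61433) (iv F274209)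
def n62403 : Q := act 2 n61432
theorem D62403 : act 2 n61432 = n62403 := rfl
theorem F278648 : act 1 n62403 = n61491 := d9_1 D62403 (iv D61491) F269358 (iv F269170) (iv F274211)
theorem F278649 : act 3 n62403 = n61712 := d17_2 D61432 D62403 F275083 (iv F271926) F271925
theorem F278650 : act 6 n62403 = n61436 := d20_2 (iv F274212) D62403 (iv D61436)
theorem F278651 : act 7 n62403 = n61612 := d21_2 F278644 D62403 (iv F278642)
def n62404 : Q := act 8 n61432
theorem D62404 : act 8 n61432 = n62404 := rfl
theorem F278652 : act 1 n62404 = n61434 := d15_1 D62404 (iv D61434) (iv F274211)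
theorem F278653 : act 6 n62404 = n61437 := d40_1 D62404 (iv D61437) (iv F274212)
def n62405 : Q := act 9 n61434
theorem D62405 : act 9 n61434 = n62405 := rfl
theorem F278654 : act 2 n62405 = n61492 := d23_1 D62405 (iv D61492) (iv F274214)
theorem F278655 : act 6 n62405 = n61438 := d41_1 D62405 (iv D61438) (iv F274215)
def n62406 : Q := act 2 n61435
theorem D62406 : act 2 n61435 = n62406 := rfl
theorem F278656 : act 0 n62406 = n61436 := d1_1 D62406 (iv D61436) (iv F274216)
theorem F278657 : act 5 n62406 = n61713 := d19_2 (iv F274217) D62406 F275086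
theorem F278658 : act 7 n62406 = n61483 := d21_2 (iv F274218) D62406 (iv D61483)
def n62407 : Q := act 8 n61435
theorem D62407 : act 8 n61435 = n62407 := rfl
theorem F278659 : act 0 n62407 = n61437 := d7_1 D62407 (iv D61437) (iv F274216)
theorem F278660 : act 5 n62407 = n61717 := d37_1 D62407 F275093 (iv F274217)
theorem F278661 : act 7 n62407 = n61484 := d42_1 D62407 (iv D61484) (iv F274218)
def n62408 : Q := act 8 n61436
theorem D62408 : act 8 n61436 = n62408 := rfl
theorem F278662 : act 1 n62408 = n61495 := d15_1 D62408 (iv D61495) (iv F274219)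
theorem F278663 : act 2 n62408 = n61437 := d22_1 D62408 (iv D61437) D61436
theorem F278664 : act 5 n62408 = n61712 := d37_1 D62408 F275084 (iv F274220)
theorem F278665 : act 7 n62408 = n61485 := d42_1 D62408 (iv D61485) (iv F274221)
def n62409 : Q := act 9 n61437
theorem D62409 : act 9 n61437 = n62409 := rfl
theorem F278666 : act 1 n62409 = n61438 := d16_1 D62409 (iv D61438) (iv F274222)
theorem F278667 : act 5 n62409 = n61716 := d38_1 D62409 F275091 (iv F274223)
theorem F278668 : act 7 n62409 = n61486 := d43_1 D62409 (iv D61486) (iv F274224)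
def n62410 : Q := act 0 n61439
theorem D62410 : act 0 n61439 = n62410 := rfl
theorem F278669 : act 1 n62410 = n61575 := d0_2 D61439 D62410 (iv D61575) (iv D60432) (iv F269183)
theorem F278670 : act 2 n62410 = n61451 := d1_2 (iv F274228) D62410 (iv D61451)
theorem F278671 : act 5 n62410 = n61756 := d4_2 (iv F274229) D62410 F275188
theorem F278672 : act 6 n62410 = n61440 := d5_2 (iv F274230) D62410 (iv D61440)
theorem F278673 : act 8 n62410 = n61443 := d7_2 (iv F274231) D62410 (iv D61443)
def n62411 : Q := act 4 n61440
theorem D62411 : act 4 n61440 = n62411 := rfl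
theorem F278674 : act 0 n62411 = n61441 := d3_1 D62411 (iv D61441) D61440
theorem F278675 : act 2 n62411 = n61458 := d18_1 D62411 (iv D61458) (iv F274232)
theorem F278676 : act 5 n62411 = n61745 := d30_2 (iv F274233) D62411 (iv D61745) F270353 (iv F269194)
theorem F278677 : act 8 n62411 = n61444 := d33_2 (iv F274234) D62411 (iv D61444)
def n62412 : Q := act 3 n61441
theorem D62412 : act 3 n61441 = n62412 := rfl
theorem F278678 : act 1 n62412 = n61442 := d10_1 D62412 (iv D61442) (iv F274235)
theorem F278679 : act 5 n62412 = n61746 := d25_2 (iv F274237) D62412 (iv D61746)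
theorem F278680 : act 8 n62412 = n61722 := d28_2 (iv F274238) D62412 (iv D61722) (iv F271790) F271787
def n62413 : Q := act 0 n61445
theorem D62413 : act 0 n61445 = n62413 := rfl
theorem F278681 : act 1 n62413 = n61586 := d0_2 D61445 D62413 (iv D61586) (iv D60446) (iv F269211)
theorem F278682 : act 3 n62413 = n61522 := d2_2 (iv F274250) D62413 (iv D61522)
theorem F278683 : act 5 n62413 = n61519 := d4_2 (iv F274251) D62413 (iv D61519)
theorem F278684 : act 7 n62413 = n61451 := d6_2 (iv F274252) D62413 (iv D61451)
theorem F278685 : act 8 n62413 = n61469 := d7_2 (iv F274253) D62413 (iv D61469)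
def n62414 : Q := act 4 n61445
theorem D62414 : act 4 n61445 = n62414 := rfl
theorem F278686 : act 1 n62414 = n61446 := d11_1 D62414 (iv D61446) D61445
theorem F278687 : act 7 n62414 = n61452 := d32_2 (iv F274252) D62414 (iv D61452)
theorem F278688 : act 8 n62414 = n61470 := d33_2 (iv F274253) D62414 (iv D61470)
def n62415 : Q := act 3 n61446
theorem D62415 : act 3 n61446 = n62415 := rfl
theorem F278689 : act 0 n62415 = n61588 := d2_1 D62415 (iv D61588) (iv F274254)
theorem F278690 : act 2 n62415 = n62415 := d17_1 D62415 (iv D62415) F274255 F269217 (iv F274255)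
theorem F278691 : act 4 n62415 = n61524 := d24_2 D61446 D62415 (iv D61524) (iv D60375) (iv F269212)
theorem F278692 : act 7 n62415 = n61453 := d27_2 (iv F274256) D62415 (iv D61453)
def n62416 : Q := act 5 n61446
theorem D62416 : act 5 n61446 = n62416 := rfl
theorem F278693 : act 0 n62416 = n61589 := d4_1 D62416 (iv D61589) (iv F274254)
theorem F278694 : act 2 n62416 = n61447 := d19_1 D62416 (iv D61447) (iv F274255)
theorem F278695 : act 4 n62416 = n61521 := d30_1 D62416 (iv D61521) (iv D60372) (iv F269213) D61446
theorem F278696 : act 7 n62416 = n61454 := d36_2 (iv F274256) D62416 (iv D61454)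
theorem F278697 : act 8 n62416 = n61471 := d37_2 (iv F274257) D62416 (iv D61471)
def n62417 : Q := act 0 n61448
theorem D62417 : act 0 n61448 = n62417 := rfl
theorem F278698 : act 5 n62417 = n61761 := d4_2 (iv F274263) D62417 (iv D61761)
theorem F278699 : act 6 n62417 = n61455 := d5_2 (iv F274264) D62417 (iv D61455)
theorem F278700 : act 9 n62417 = n61451 := d8_2 (iv F274265) D62417 (iv D61451)
def n62418 : Q := act 4 n61448
theorem D62418 : act 4 n61448 = n62418 := rfl
theorem F278701 : act 1 n62418 = n61449 := d11_1 D62418 (iv D61449) D61448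
theorem F278702 : act 6 n62418 = n61456 := d31_2 (iv F274264) D62418 (iv D61456)
theorem F278703 : act 9 n62418 = n61452 := d34_2 (iv F274265) D62418 (iv D61452)
def n62419 : Q := act 3 n61449
theorem D62419 : act 3 n61449 = n62419 := rfl
theorem F278704 : act 2 n62419 = n62419 := d17_1 D62419 (iv D62419) F274266 F269223 (iv F274266)
theorem F278705 : act 6 n62419 = n61457 := d26_2 (iv F274267) D62419 (iv D61457)
theorem F278706 : act 9 n62419 = n61453 := d29_2 (iv F274268) D62419 (iv D61453)
def n62420 : Q := act 5 n61449
theorem D62420 : act 5 n61449 = n62420 := rfl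
theorem F278707 : act 2 n62420 = n61450 := d19_1 D62420 (iv D61450) (iv F274266)
theorem F278708 : act 4 n62420 = n61760 := d30_1 D62420 F275199 (iv D60686) (iv F269220) D61449
theorem F278709 : act 9 n62420 = n61454 := d38_2 (iv F274268) D62420 (iv D61454)
def n62421 : Q := act 4 n61451
theorem D62421 : act 4 n61451 = n62421 := rfl
theorem F278710 : act 0 n62421 = n61452 := d3_1 D62421 (iv D61452) D61451
theorem F278711 : act 6 n62421 = n61458 := d31_2 (iv F274273) D62421 (iv D61458)
theorem F278712 : act 8 n62421 = n61472 := d33_2 (iv F274274) D62421 (iv D61472)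
def n62422 : Q := act 3 n61452
theorem D62422 : act 3 n61452 = n62422 := rfl
theorem F278713 : act 1 n62422 = n61453 := d10_1 D62422 (iv D61453) (iv F274275)
theorem F278714 : act 6 n62422 = n61459 := d26_2 (iv F274276) D62422 (iv D61459)
def n62423 : Q := act 5 n61452
theorem D62423 : act 5 n61452 = n62423 := rfl
theorem F278715 : act 1 n62423 = n61454 := d12_1 D62423 (iv D61454) (iv F274275)
theorem F278716 : act 4 n62423 = n61759 := d30_1 D62423 F275197 (iv D60689) (iv F269226) D61452
theorem F278717 : act 8 n62423 = n61473 := d37_2 (iv F274277) D62423 (iv D61473)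
def n62424 : Q := act 5 n61453
theorem D62424 : act 5 n61453 = n62424 := rfl
theorem F278718 : act 2 n62424 = n62424 := d19_1 D62424 (iv D62424) F274278
theorem F278719 : act 3 n62424 = n61454 := d25_1 D62424 (iv D61454) D61453
theorem F278720 : act 8 n62424 = n61617 := d37_2 F278508 D62424 (iv F278506)
def n62425 : Q := act 4 n61455
theorem D62425 : act 4 n61455 = n62425 := rfl
theorem F278721 : act 0 n62425 = n61456 := d3_1 D62425 (iv D61456) D61455
theorem F278722 : act 9 n62425 = n61458 := d34_2 (iv F274284) D62425 (iv D61458)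
def n62426 : Q := act 3 n61456
theorem D62426 : act 3 n61456 = n62426 := rfl
theorem F278723 : act 1 n62426 = n61457 := d10_1 D62426 (iv D61457) (iv F274285)
theorem F278724 : act 9 n62426 = n61459 := d29_2 (iv F274286) D62426 (iv D61459)
def n62427 : Q := act 8 n61457
theorem D62427 : act 8 n61457 = n62427 := rfl
theorem F278725 : act 2 n62427 = n62427 := d22_1 D62427 (iv D62427) F274287
def n62428 : Q := act 3 n61458
theorem D62428 : act 3 n61458 = n62428 := rfl
theorem F278726 : act 0 n62428 = n61459 := d2_1 D62428 (iv D61459) (iv F274289)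
def n62429 : Q := act 5 n61458
theorem D62429 : act 5 n61458 = n62429 := rfl
theorem F278727 : act 0 n62429 = n61460 := d4_1 D62429 (iv D61460) (iv F274289)
theorem F278728 : act 1 n62429 = n61740 := d12_1 D62429 (iv F278145) F278144
theorem F278729 : act 2 n62429 = n61745 := d19_1 D62429 (iv F278676) F278675
theorem F278730 : act 4 n62429 = n61466 := d30_1 D62429 (iv D61466) (iv D60291) (iv F269239) D61458
theorem F278731 : act 8 n62429 = n61475 := d37_2 (iv F274290) D62429 (iv D61475)
def n62430 : Q := act 2 n61459
theorem D62430 : act 2 n61459 = n62430 := rfl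
theorem F278732 : act 1 n62430 = n62430 := d9_1 D62430 (iv D62430) F274291 F269243 (iv F274291)
def n62431 : Q := act 5 n61459
theorem D62431 : act 5 n61459 = n62431 := rfl
theorem F278733 : act 1 n62431 = n61461 := d12_1 D62431 (iv D61461) (iv F274291)
theorem F278734 : act 3 n62431 = n61460 := d25_1 D62431 (iv D61460) D61459
theorem F278735 : act 8 n61585 = n62431 := d28_0 F278734 F274295 F269299 (iv F269824) D61585
def n62432 : Q := act 8 n61459
theorem D62432 : act 8 n61459 = n62432 := rfl
theorem F278736 : act 1 n62432 = n61462 := d15_1 D62432 (iv D61462) (iv F274291)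
theorem F278737 : act 3 n62432 = n61476 := d28_1 D62432 (iv D61476) (iv D60302) (iv F269242) D61459
theorem F278738 : act 5 n62432 = n61585 := d37_1 D62432 F278735 (iv D62431)
def n62433 : Q := act 4 n61461
theorem D62433 : act 4 n61461 = n62433 := rfl
theorem F278739 : act 0 n62433 = n61573 := d3_1 D62433 F274720 (iv F274296)
theorem F278740 : act 2 n62433 = n62433 := d18_1 D62433 (iv D62433) F274297
theorem F278741 : act 3 n62433 = n61468 := d24_1 D62433 (iv D61468) F269273 (iv F269246) (iv F274298)
theorem F278742 : act 7 n62433 = n61515 := d32_2 F276485 D62433 (iv F276482)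
theorem F278743 : act 8 n62433 = n61557 := d33_2 F274299 D62433 F274663
def n62434 : Q := act 9 n61462
theorem D62434 : act 9 n61462 = n62434 := rfl
theorem F278744 : act 2 n62434 = n62434 := d23_1 D62434 (iv D62434) F274300
theorem F278745 : act 3 n62434 = n61477 := d29_1 D62434 (iv D61477) (iv F274301)
theorem F278746 : act 5 n62434 = n61583 := d38_1 D62434 F274751 (iv F274302)
def n62435 : Q := act 3 n61463
theorem D62435 : act 3 n61463 = n62435 := rfl
theorem F278747 : act 0 n62435 = n61464 := d2_1 D62435 (iv D61464) (iv F274303)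
theorem F278748 : act 1 n62435 = n61715 := d10_1 D62435 F275088 (iv F274304)
theorem F278749 : act 2 n62435 = n61562 := d17_1 D62435 F274676 F269754 (iv F270273) (iv F274305)
theorem F278750 : act 6 n62435 = n61567 := d26_2 (iv F274306) D62435 F274694
theorem F278751 : act 9 n62435 = n61465 := d29_2 (iv F274308) D62435 (iv D61465)
def n62436 : Q := act 5 n61465
theorem D62436 : act 5 n61465 = n62436 := rfl
theorem F278752 : act 0 n62436 = n61467 := d4_1 D62436 (iv D61467) (iv F274313)
theorem F278753 : act 1 n62436 = n61571 := d12_1 D62436 F274713 (iv F274314)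
theorem F278754 : act 2 n62436 = n61586 := d19_1 D62436 F274756 (iv F274315)
theorem F278755 : act 3 n62436 = n61466 := d25_1 D62436 (iv D61466) D61465
theorem F278756 : act 7 n62436 = n61513 := d36_2 F275759 D62436 (iv F275757)
theorem F278757 : act 8 n62436 = n61509 := d37_2 (iv F274317) D62436 F274484
def n62437 : Q := act 4 n61467
theorem D62437 : act 4 n61467 = n62437 := rfl
theorem F278758 : act 1 n62437 = n61468 := d11_1 D62437 (iv D61468) (iv F274322)
theorem F278759 : act 2 n62437 = n61587 := d18_1 D62437 (iv D61587) (iv F274323)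
theorem F278760 : act 7 n62437 = n61514 := d32_2 (iv F274325) D62437 (iv D61514)
theorem F278761 : act 8 n62437 = n61510 := d33_2 (iv F274326) D62437 (iv D61510)
def n62438 : Q := act 4 n61469
theorem D62438 : act 4 n61469 = n62438 := rfl
theorem F278762 : act 0 n62438 = n61470 := d3_1 D62438 (iv D61470) D61469
theorem F278763 : act 7 n62438 = n61472 := d32_2 (iv F274333) D62438 (iv D61472)
def n62439 : Q := act 5 n61470
theorem D62439 : act 5 n61470 = n62439 := rfl
theorem F278764 : act 1 n62439 = n61471 := d12_1 D62439 (iv D61471) (iv F274334)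
theorem F278765 : act 3 n62439 = n61596 := d25_1 D62439 (iv F278429) F278427
theorem F278766 : act 4 n62439 = n61753 := d30_1 D62439 F275177 F270429 (iv F269277) D61470
theorem F278767 : act 7 n62439 = n61473 := d36_2 (iv F274335) D62439 (iv D61473)
theorem F278768 : act 9 n62439 = n61714 := d38_2 F276675 D62439 (iv F276671)
def n62440 : Q := act 5 n61472
theorem D62440 : act 5 n61472 = n62440 := rfl
theorem F278769 : act 0 n62440 = n61473 := d4_1 D62440 (iv D61473) (iv F274341)
theorem F278770 : act 3 n62440 = n61622 := d25_1 D62440 (iv F278481) F278479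
theorem F278771 : act 4 n62440 = n61758 := d30_1 D62440 F275195 (iv D60695) (iv F269286) D61472
def n62441 : Q := act 8 n61474
theorem D62441 : act 8 n61474 = n62441 := rfl
theorem F278772 : act 0 n62441 = n61476 := d7_1 D62441 (iv D61476) (iv F274346)
theorem F278773 : act 4 n62441 = n61484 := d33_1 D62441 (iv D61484) (iv F274347)
theorem F278774 : act 5 n62441 = n61584 := d37_1 D62441 F274753 F274349
def n62442 : Q := act 9 n61476
theorem D62442 : act 9 n61476 = n62442 := rfl
theorem F278775 : act 1 n62442 = n61477 := d16_1 D62442 (iv D61477) (iv F274355)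
theorem F278776 : act 4 n62442 = n61486 := d34_1 D62442 (iv D61486) (iv F274356)
theorem F278777 : act 5 n62442 = n61582 := d38_1 D62442 F274749 (iv F274357)
theorem F278778 : act 8 n62442 = n61632 := d44_1 D62442 F274884 F269977 (iv F269296) D61476
def n62443 : Q := act 3 n61478
theorem D62443 : act 3 n61478 = n62443 := rfl
theorem F278779 : act 0 n62443 = n61479 := d2_1 D62443 (iv D61479) (iv F274362)
theorem F278780 : act 5 n62443 = n61597 := d25_2 (iv F274363) D62443 F274782
theorem F278781 : act 7 n62443 = n61480 := d27_2 (iv F274364) D62443 (iv D61480)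
theorem F278782 : act 2 n61611 = n62443 := d21_3 F278781 (iv F274373) (iv F274825)
def n62444 : Q := act 8 n61480
theorem D62444 : act 8 n61480 = n62444 := rfl
theorem F278783 : act 0 n62444 = n61481 := d7_1 D62444 (iv D61481) (iv F274370)
theorem F278784 : act 2 n62444 = n61633 := d22_1 D62444 F274886 F274373
theorem F278785 : act 5 n62444 = n61620 := d37_1 D62444 F274851 (iv F274371)
theorem F278786 : act 6 n62444 = n61484 := d40_1 D62444 (iv D61484) (iv F274372)
def n62445 : Q := act 9 n61481
theorem D62445 : act 9 n61481 = n62445 := rfl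
theorem F278787 : act 1 n62445 = n61482 := d16_1 D62445 (iv D61482) (iv F274374)
theorem F278788 : act 2 n62445 = n61632 := d23_1 D62445 F274884 (iv F274375)
theorem F278789 : act 5 n62445 = n61619 := d38_1 D62445 F274848 (iv F274376)
theorem F278790 : act 6 n62445 = n61486 := d41_1 D62445 (iv D61486) (iv F274377)
def n62446 : Q := act 1 n61483
theorem D62446 : act 1 n61483 = n62446 := rfl
theorem F278791 : act 0 n62446 = n61496 := d0_1 D62446 (iv D61496) F269384 (iv F269328) (iv F274381)
theorem F278792 : act 2 n62446 = n61758 := d9_2 D61483 D62446 (iv F275885) F275886 F273676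
theorem F278793 : act 3 n62446 = n61543 := d10_2 F276765 D62446 (iv F276764)
theorem F278794 : act 5 n62446 = n61757 := d12_2 F276755 D62446 (iv F276752)
theorem F278795 : act 6 n62446 = n61551 := d13_2 (iv F274382) D62446 F274638
def n62447 : Q := act 8 n61483
theorem D62447 : act 8 n61483 = n62447 := rfl
theorem F278796 : act 0 n62447 = n61485 := d7_1 D62447 (iv D61485) (iv F274381)
theorem F278797 : act 2 n62447 = n61484 := d22_1 D62447 (iv D61484) D61483
theorem F278798 : act 6 n62447 = n61633 := d40_1 D62447 F274886 (iv F274382)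
def n62448 : Q := act 9 n61484
theorem D62448 : act 9 n61484 = n62448 := rfl
theorem F278799 : act 0 n62448 = n61486 := d8_1 D62448 (iv D61486) (iv F274383)
def n62449 : Q := act 3 n61485
theorem D62449 : act 3 n61485 = n62449 := rfl
theorem F278800 : act 1 n62449 = n61498 := d10_1 D62449 (iv D61498) (iv F274384)
theorem F278801 : act 5 n62449 = n61612 := d25_2 F276738 D62449 (iv F276736)
theorem F278802 : act 6 n62449 = n61591 := d26_2 (iv F274386) D62449 F274766
def n62450 : Q := act 8 n61487
theorem D62450 : act 8 n61487 = n62450 := rfl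
theorem F278803 : act 3 n62450 = n62450 := d28_1 D62450 (iv D62450) F274388 F269343 (iv F274388)
theorem F278804 : act 5 n62450 = n61488 := d37_1 D62450 (iv D61488) D61487
theorem F278805 : act 6 n62450 = n61561 := d40_1 D62450 F274675 (iv F274389)
def n62451 : Q := act 9 n61488
theorem D62451 : act 9 n61488 = n62451 := rfl
theorem F278806 : act 3 n62451 = n62451 := d29_1 D62451 (iv D62451) F274391
theorem F278807 : act 4 n62451 = n61492 := d34_1 D62451 (iv D61492) (iv F274392)
theorem F278808 : act 6 n62451 = n61489 := d41_1 D62451 (iv D61489) (iv F274393)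
theorem F278809 : act 8 n62451 = n61606 := d44_1 D62451 F274812 F269902 (iv F269339) D61488
def n62452 : Q := act 2 n61490
theorem D62452 : act 2 n61490 = n62452 := rfl
theorem F278810 : act 0 n62452 = n61491 := d1_1 D62452 (iv D61491) (iv F274399)
theorem F278811 : act 3 n62452 = n61518 := d17_2 D61490 D62452 F274515 F269576 (iv F269354)
theorem F278812 : act 6 n62452 = n61493 := d20_2 (iv F274401) D62452 (iv D61493)
theorem F278813 : act 7 n62452 = n61538 := d21_2 (iv F274402) D62452 F274594
def n62453 : Q := act 1 n61493
theorem D62453 : act 1 n61493 = n62453 := rfl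
theorem F278814 : act 2 n62453 = n61753 := d9_2 D61493 D62453 F275176 F270375 (iv F269364)
theorem F278815 : act 3 n62453 = n61526 := d10_2 (iv F274409) D62453 F274543
theorem F278816 : act 5 n62453 = n61710 := d12_2 (iv F274410) D62453 F275077
theorem F278817 : act 7 n62453 = n61496 := d14_2 (iv F274411) D62453 (iv D61496)
def n62454 : Q := act 8 n61493
theorem D62454 : act 8 n61493 = n62454 := rfl
theorem F278818 : act 0 n62454 = n61495 := d7_1 D62454 (iv D61495) (iv F274408)
theorem F278819 : act 2 n62454 = n61494 := d22_1 D62454 (iv D61494) D61493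
theorem F278820 : act 5 n62454 = n61518 := d37_1 D62454 F274518 (iv F274410)
theorem F278821 : act 7 n62454 = n61497 := d42_1 D62454 (iv D61497) (iv F274411)
def n62455 : Q := act 8 n61496
theorem D62455 : act 8 n61496 = n62455 := rfl
theorem F278822 : act 1 n62455 = n61497 := d15_1 D62455 (iv D61497) D61496
theorem F278823 : act 2 n62455 = n61759 := d22_1 D62455 (iv D61759) (iv F274420)
theorem F278824 : act 5 n62455 = n61755 := d37_1 D62455 F275187 (iv F274422)
theorem F278825 : act 6 n62455 = n61549 := d40_1 D62455 F274633 (iv F274423)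
def n62456 : Q := act 3 n61497
theorem D62456 : act 3 n61497 = n62456 := rfl
theorem F278826 : act 0 n62456 = n61498 := d2_1 D62456 (iv D61498) (iv F274424)
theorem F278827 : act 2 n62456 = n61499 := d17_1 D62456 (iv D61499) F269420 (iv F269390) (iv F274425)
theorem F278828 : act 5 n62456 = n61538 := d25_2 (iv F274426) D62456 F274595
theorem F278829 : act 6 n62456 = n61521 := d26_2 (iv F274427) D62456 F274531
theorem F278830 : act 8 n62456 = n61541 := d28_2 D61497 D62456 (iv D61541) F269665 (iv F269385)
def n62457 : Q := act 4 n61498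
theorem D62457 : act 4 n61498 = n62457 := rfl
theorem F278831 : act 2 n62457 = n61500 := d18_1 D62457 (iv D61500) (iv F274428)
theorem F278832 : act 6 n62457 = n61589 := d31_2 (iv F274430) D62457 F274761
def n62458 : Q := act 4 n61501
theorem D62458 : act 4 n61501 = n62458 := rfl
theorem F278833 : act 0 n62458 = n61502 := d3_1 D62458 (iv D61502) D61501
theorem F278834 : act 2 n62458 = n61508 := d18_1 D62458 (iv D61508) (iv F274437)
theorem F278835 : act 5 n62458 = n61677 := d30_2 (iv F274439) D62458 (iv D61677) F270115 (iv F269474)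
theorem F278836 : act 7 n62458 = n61669 := d32_2 (iv F274440) D62458 (iv D61669)
theorem F278837 : act 8 n62458 = n61692 := d33_2 (iv F274441) D62458 (iv D61692)
theorem F278838 : act 9 n62458 = n61678 := d34_2 (iv F274442) D62458 (iv D61678)
def n62459 : Q := act 4 n61503
theorem D62459 : act 4 n61503 = n62459 := rfl
theorem F278839 : act 0 n62459 = n61504 := d3_1 D62459 (iv D61504) D61503
theorem F278840 : act 1 n62459 = n61747 := d11_1 D62459 (iv D61747) (iv F274449)
theorem F278841 : act 2 n62459 = n61692 := d18_1 D62459 (iv D61692) (iv F274450)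
theorem F278842 : act 5 n62459 = n61592 := d30_2 (iv F274452) D62459 (iv D61592) F269850 (iv F269492)
theorem F278843 : act 6 n62459 = n61707 := d31_2 (iv F274453) D62459 (iv D61707)
theorem F278844 : act 7 n62459 = n61673 := d32_2 (iv F274454) D62459 (iv D61673)
theorem F278845 : act 8 n62459 = n61508 := d33_2 (iv F274455) D62459 (iv D61508)
def n62460 : Q := act 3 n61504
theorem D62460 : act 3 n61504 = n62460 := rfl
theorem F278846 : act 1 n62460 = n61505 := d10_1 D62460 (iv D61505) (iv F274456)
theorem F278847 : act 4 n62460 = n61630 := d24_2 D61504 D62460 (iv D61630) (iv D60493) (iv F269478)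
theorem F278848 : act 5 n62460 = n61593 := d25_2 (iv F274458) D62460 (iv D61593)
theorem F278849 : act 6 n62460 = n61708 := d26_2 (iv F274459) D62460 (iv D61708)
theorem F278850 : act 7 n62460 = n61674 := d27_2 (iv F274460) D62460 (iv D61674)
def n62461 : Q := act 4 n61506
theorem D62461 : act 4 n61506 = n62461 := rfl
theorem F278851 : act 0 n62461 = n61507 := d3_1 D62461 (iv D61507) D61506
theorem F278852 : act 1 n62461 = n61677 := d11_1 D62461 (iv D61677) (iv F274468)
theorem F278853 : act 3 n62461 = n61669 := d24_1 D62461 (iv D61669) (iv F270527) F270528 (iv F274469)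
theorem F278854 : act 6 n62461 = n61508 := d31_2 (iv F274471) D62461 (iv D61508)
theorem F278855 : act 8 n62461 = n61707 := d33_2 (iv F274472) D62461 (iv D61707)
theorem F278856 : act 9 n62461 = n61676 := d34_2 (iv F274473) D62461 (iv D61676)
def n62462 : Q := act 4 n61509
theorem D62462 : act 4 n61509 = n62462 := rfl
theorem F278857 : act 0 n62462 = n61510 := d3_1 D62462 (iv D61510) D61509
theorem F278858 : act 1 n62462 = n61574 := d11_1 D62462 (iv D61574) (iv F274482)
theorem F278859 : act 3 n62462 = n61558 := d24_1 D62462 (iv D61558) F269732 (iv F269528) (iv F274483)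
theorem F278860 : act 7 n62462 = n61516 := d32_2 (iv F274485) D62462 (iv D61516)
theorem F278861 : act 9 n62462 = n61536 := d34_2 (iv F274486) D62462 (iv D61536)
def n62463 : Q := act 4 n61513
theorem D62463 : act 4 n61513 = n62463 := rfl
theorem F278862 : act 0 n62463 = n61514 := d3_1 D62463 (iv D61514) D61513
theorem F278863 : act 1 n62463 = n61584 := d11_1 D62463 (iv D61584) (iv F274499)
theorem F278864 : act 8 n62463 = n61516 := d33_2 (iv F274500) D62463 (iv D61516)
def n62464 : Q := act 3 n61514
theorem D62464 : act 3 n61514 = n62464 := rfl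
theorem F278865 : act 1 n62464 = n61515 := d10_1 D62464 (iv D61515) (iv F274501)
theorem F278866 : act 8 n62464 = n61741 := d28_2 (iv F274502) D62464 (iv D61741) F270331 (iv F269568)
def n62465 : Q := act 0 n61517
theorem D62465 : act 0 n61517 = n62465 := rfl
theorem F278867 : act 1 n62465 = n61711 := d0_2 D61517 D62465 (iv D61711) (iv D60617) (iv F269570)
theorem F278868 : act 2 n62465 = n61519 := d1_2 (iv F274510) D62465 (iv D61519)
theorem F278869 : act 6 n62465 = n61525 := d5_2 (iv F274511) D62465 (iv D61525)
theorem F278870 : act 7 n62465 = n61756 := d6_2 (iv F274512) D62465 F275188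
theorem F278871 : act 8 n62465 = n61709 := d7_2 (iv F274513) D62465 (iv D61709)
def n62466 : Q := act 4 n61517
theorem D62466 : act 4 n61517 = n62466 := rfl
theorem F278872 : act 1 n62466 = n61518 := d11_1 D62466 (iv D61518) D61517
theorem F278873 : act 2 n62466 = n61520 := d18_1 D62466 (iv D61520) (iv F274510)
theorem F278874 : act 6 n62466 = n61526 := d31_2 (iv F274511) D62466 (iv D61526)
theorem F278875 : act 7 n62466 = n61755 := d32_2 (iv F274512) D62466 F275186
theorem F278876 : act 8 n62466 = n61710 := d33_2 (iv F274513) D62466 (iv D61710)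
def n62467 : Q := act 4 n61519
theorem D62467 : act 4 n61519 = n62467 := rfl
theorem F278877 : act 0 n62467 = n61520 := d3_1 D62467 (iv D61520) D61519
theorem F278878 : act 1 n62467 = n61590 := d11_1 D62467 (iv D61590) (iv F274519)
theorem F278879 : act 3 n62467 = n61548 := d24_1 D62467 (iv D61548) F269687 (iv F269599) (iv F274520)
theorem F278880 : act 6 n62467 = n61536 := d31_2 (iv F274521) D62467 (iv D61536)
theorem F278881 : act 7 n62467 = n61763 := d32_2 (iv F274522) D62467 (iv D61763)
theorem F278882 : act 8 n62467 = n61765 := d33_2 (iv F274523) D62467 F275211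
def n62468 : Q := act 5 n61520
theorem D62468 : act 5 n61520 = n62468 := rfl
theorem F278883 : act 1 n62468 = n61521 := d12_1 D62468 (iv D61521) (iv F274524)
theorem F278884 : act 3 n62468 = n61549 := d25_1 D62468 (iv D61549) (iv F274525)
theorem F278885 : act 7 n62468 = n61759 := d36_2 (iv F274527) D62468 F275197
theorem F278886 : act 8 n62468 = n61753 := d37_2 (iv F274528) D62468 F275177
def n62469 : Q := act 4 n61522
theorem D62469 : act 4 n61522 = n62469 := rfl
theorem F278887 : act 0 n62469 = n61523 := d3_1 D62469 (iv D61523) D61522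
theorem F278888 : act 1 n62469 = n61592 := d11_1 D62469 (iv D61592) (iv F274534)
theorem F278889 : act 5 n62469 = n61747 := d30_2 (iv F274535) D62469 (iv D61747) F270357 (iv F269599)
def n62470 : Q := act 3 n61523
theorem D62470 : act 3 n61523 = n62470 := rfl
theorem F278890 : act 1 n62470 = n61524 := d10_1 D62470 (iv D61524) (iv F274536)
theorem F278891 : act 5 n62470 = n61748 := d25_2 (iv F274537) D62470 (iv D61748)
def n62471 : Q := act 8 n61524
theorem D62471 : act 8 n61524 = n62471 := rfl
theorem F278892 : act 0 n62471 = n61594 := d7_1 D62471 (iv D61594) (iv F274538)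
theorem F278893 : act 2 n62471 = n62471 := d22_1 D62471 (iv D62471) F274539
theorem F278894 : act 3 n62471 = n61654 := d28_1 D62471 F274942 (iv F270446) F270450 D61524
theorem F278895 : act 5 n62471 = n61653 := d37_1 D62471 F274939 (iv F274540)
def n62472 : Q := act 4 n61525
theorem D62472 : act 4 n61525 = n62472 := rfl
theorem F278896 : act 0 n62472 = n61526 := d3_1 D62472 (iv D61526) D61525
theorem F278897 : act 2 n62472 = n61536 := d18_1 D62472 (iv D61536) (iv F274541)
theorem F278898 : act 7 n62472 = n61543 := d32_2 (iv F274542) D62472 (iv D61543)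
def n62473 : Q := act 5 n61526
theorem D62473 : act 5 n61526 = n62473 := rfl
theorem F278899 : act 1 n62473 = n61527 := d12_1 D62473 (iv D61527) (iv F274543)
theorem F278900 : act 2 n62473 = n61537 := d19_1 D62473 (iv D61537) (iv F274544)
theorem F278901 : act 3 n62473 = n61710 := d25_1 D62473 (iv F278816) F278815
theorem F278902 : act 7 n62473 = n61544 := d36_2 (iv F274545) D62473 (iv D61544)
def n62474 : Q := act 0 n61528
theorem D62474 : act 0 n61528 = n62474 := rfl
theorem F278903 : act 1 n62474 = n61600 := d0_2 D61528 D62474 (iv D61600) (iv D60461) (iv F269609)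
theorem F278904 : act 3 n62474 = n61664 := d2_2 (iv F274550) D62474 (iv D61664)
theorem F278905 : act 5 n62474 = n61530 := d4_2 (iv F274551) D62474 (iv D61530)
theorem F278906 : act 7 n62474 = n61545 := d6_2 (iv F274552) D62474 (iv D61545)
theorem F278907 : act 8 n62474 = n61534 := d7_2 (iv F274553) D62474 (iv D61534)
def n62475 : Q := act 4 n61528
theorem D62475 : act 4 n61528 = n62475 := rfl
theorem F278908 : act 1 n62475 = n61529 := d11_1 D62475 (iv D61529) D61528
theorem F278909 : act 7 n62475 = n61546 := d32_2 (iv F274552) D62475 (iv D61546)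
theorem F278910 : act 8 n62475 = n61535 := d33_2 (iv F274553) D62475 (iv D61535)
def n62476 : Q := act 3 n61529
theorem D62476 : act 3 n61529 = n62476 := rfl
theorem F278911 : act 0 n62476 = n61602 := d2_1 D62476 (iv D61602) (iv F274554)
theorem F278912 : act 2 n62476 = n62476 := d17_1 D62476 (iv D62476) F274555 F269615 (iv F274555)
theorem F278913 : act 4 n62476 = n61666 := d24_2 D61529 D62476 (iv D61666) (iv D60539) (iv F269610)
theorem F278914 : act 7 n62476 = n61547 := d27_2 (iv F274556) D62476 (iv D61547)
theorem F278915 : act 8 n62476 = n61698 := d28_2 (iv F274557) D62476 (iv D61698) F270192 (iv F269638)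
def n62477 : Q := act 4 n61530
theorem D62477 : act 4 n61530 = n62477 := rfl
theorem F278916 : act 0 n62477 = n61531 := d3_1 D62477 (iv D61531) D61530
theorem F278917 : act 1 n62477 = n61607 := d11_1 D62477 (iv D61607) (iv F274558)
theorem F278918 : act 3 n62477 = n61763 := d24_1 D62477 (iv D61763) (iv F271359) F271360 (iv F274559)
theorem F278919 : act 6 n62477 = n61765 := d31_2 (iv F274560) D62477 F275211
theorem F278920 : act 7 n62477 = n61548 := d32_2 (iv F274561) D62477 (iv D61548)
theorem F278921 : act 8 n62477 = n61536 := d33_2 (iv F274562) D62477 (iv D61536)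
def n62478 : Q := act 5 n61531
theorem D62478 : act 5 n61531 = n62478 := rfl
theorem F278922 : act 1 n62478 = n61532 := d12_1 D62478 (iv D61532) (iv F274563)
theorem F278923 : act 3 n62478 = n61759 := d25_1 D62478 F275197 (iv F274564)
theorem F278924 : act 7 n62478 = n61549 := d36_2 (iv F274566) D62478 (iv D61549)
theorem F278925 : act 8 n62478 = n61537 := d37_2 (iv F274567) D62478 (iv D61537)
def n62479 : Q := act 6 n61532
theorem D62479 : act 6 n61532 = n62479 := rfl
theorem F278926 : act 0 n62479 = n61609 := d5_1 D62479 (iv D61609) (iv F274568)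
theorem F278927 : act 2 n62479 = n61533 := d20_1 D62479 (iv D61533) (iv F274569)
theorem F278928 : act 3 n62479 = n61542 := d26_1 D62479 F274606 (iv F274570)
theorem F278929 : act 5 n62479 = n61541 := d35_1 D62479 F274604 F270376 (iv F269625) D61532
theorem F278930 : act 8 n62479 = n61538 := d40_2 (iv F274572) D62479 (iv D61538)
def n62480 : Q := act 4 n61534
theorem D62480 : act 4 n61534 = n62480 := rfl
theorem F278931 : act 0 n62480 = n61535 := d3_1 D62480 (iv D61535) D61534
theorem F278932 : act 1 n62480 = n61610 := d11_1 D62480 (iv D61610) (iv F274577)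
theorem F278933 : act 3 n62480 = n61699 := d24_1 D62480 (iv D61699) F270195 (iv F269655) (iv F274578)
theorem F278934 : act 7 n62480 = n61550 := d32_2 (iv F274580) D62480 (iv D61550)
theorem F278935 : act 9 n62480 = n61706 := d34_2 (iv F274581) D62480 (iv D61706)
def n62481 : Q := act 5 n61536
theorem D62481 : act 5 n61536 = n62481 := rfl
theorem F278936 : act 0 n62481 = n61537 := d4_1 D62481 (iv D61537) (iv F274586)
theorem F278937 : act 1 n62481 = n61611 := d12_1 D62481 (iv D61611) (iv F274587)
theorem F278938 : act 3 n62481 = n61754 := d25_1 D62481 (iv D61754) (iv F274588)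
theorem F278939 : act 7 n62481 = n61551 := d36_2 (iv F274589) D62481 (iv D61551)
def n62482 : Q := act 6 n61537
theorem D62482 : act 6 n61537 = n62482 := rfl
theorem F278940 : act 1 n62482 = n61538 := d13_1 D62482 (iv D61538) (iv F274590)
theorem F278941 : act 3 n62482 = n61755 := d26_1 D62482 (iv D61755) (iv F274591)
def n62483 : Q := act 4 n61539
theorem D62483 : act 4 n61539 = n62483 := rfl
theorem F278942 : act 0 n62483 = n61540 := d3_1 D62483 (iv D61540) D61539
theorem F278943 : act 2 n62483 = n61548 := d18_1 D62483 (iv D61548) (iv F274596)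
theorem F278944 : act 6 n62483 = n61752 := d31_2 (iv F274597) D62483 (iv D61752)
theorem F278945 : act 8 n62483 = n61543 := d33_2 (iv F274598) D62483 (iv D61543)
def n62484 : Q := act 3 n61540
theorem D62484 : act 3 n61540 = n62484 := rfl
theorem F278946 : act 1 n62484 = n61541 := d10_1 D62484 (iv D61541) (iv F274599)
theorem F278947 : act 6 n62484 = n61753 := d26_2 (iv F274601) D62484 (iv D61753)
def n62485 : Q := act 5 n61540
theorem D62485 : act 5 n61540 = n62485 := rfl
theorem F278948 : act 1 n62485 = n61542 := d12_1 D62485 (iv D61542) (iv F274599)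
theorem F278949 : act 2 n62485 = n61549 := d19_1 D62485 (iv D61549) (iv F274600)
theorem F278950 : act 6 n62485 = n61759 := d35_2 (iv F274601) D62485 F275197 F270420 (iv F270372)
theorem F278951 : act 8 n62485 = n61544 := d37_2 (iv F274602) D62485 (iv D61544)
def n62486 : Q := act 5 n61543
theorem D62486 : act 5 n61543 = n62486 := rfl
theorem F278952 : act 0 n62486 = n61544 := d4_1 D62486 (iv D61544) (iv F274608)
theorem F278953 : act 2 n62486 = n61551 := d19_1 D62486 (iv D61551) (iv F274609)
theorem F278954 : act 3 n62486 = n61757 := d25_1 D62486 (iv F278794) F278793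
theorem F278955 : act 6 n62486 = n61758 := d35_2 (iv F274610) D62486 F275195 F270434 D60696
def n62487 : Q := act 4 n61545
theorem D62487 : act 4 n61545 = n62487 := rfl
theorem F278956 : act 0 n62487 = n61546 := d3_1 D62487 (iv D61546) D61545
theorem F278957 : act 1 n62487 = n61629 := d11_1 D62487 (iv D61629) (iv F274615)
theorem F278958 : act 6 n62487 = n61745 := d31_2 (iv F274618) D62487 (iv D61745)
theorem F278959 : act 8 n62487 = n61550 := d33_2 (iv F274619) D62487 (iv D61550)
def n62488 : Q := act 3 n61546
theorem D62488 : act 3 n61546 = n62488 := rfl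
theorem F278960 : act 1 n62488 = n61547 := d10_1 D62488 (iv D61547) (iv F274620)
theorem F278961 : act 4 n62488 = n61748 := d24_2 D61546 D62488 (iv D61748) (iv D60665) (iv F269678)
theorem F278962 : act 6 n62488 = n61746 := d26_2 (iv F274621) D62488 (iv D61746)
theorem F278963 : act 8 n62488 = n61705 := d28_2 (iv F274622) D62488 (iv D61705) F270224 (iv F269700)
def n62489 : Q := act 5 n61548
theorem D62489 : act 5 n61548 = n62489 := rfl
theorem F278964 : act 0 n62489 = n61549 := d4_1 D62489 (iv D61549) (iv F274628)
theorem F278965 : act 1 n62489 = n61633 := d12_1 D62489 (iv D61633) (iv F274629)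
theorem F278966 : act 8 n62489 = n61551 := d37_2 (iv F274631) D62489 (iv D61551)
def n62490 : Q := act 4 n61552
theorem D62490 : act 4 n61552 = n62490 := rfl
theorem F278967 : act 0 n62490 = n61553 := d3_1 D62490 (iv D61553) D61552
theorem F278968 : act 2 n62490 = n61558 := d18_1 D62490 (iv D61558) (iv F274640)
theorem F278969 : act 5 n62490 = n61764 := d30_2 (iv F274642) D62490 (iv D61764) F270422 (iv F270283)
theorem F278970 : act 7 n62490 = n61728 := d32_2 (iv F274643) D62490 (iv D61728)
theorem F278971 : act 9 n62490 = n61752 := d34_2 (iv F274644) D62490 (iv D61752)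
def n62491 : Q := act 3 n61553
theorem D62491 : act 3 n61553 = n62491 := rfl
theorem F278972 : act 1 n62491 = n61554 := d10_1 D62491 (iv D61554) (iv F274645)
theorem F278973 : act 4 n62491 = n61714 := d24_2 D61553 D62491 (iv D61714) (iv D60620) (iv F269713)
theorem F278974 : act 5 n62491 = n61743 := d25_2 (iv F274647) D62491 F275155
theorem F278975 : act 7 n62491 = n61729 := d27_2 (iv F274648) D62491 (iv D61729)
theorem F278976 : act 9 n62491 = n61753 := d29_2 (iv F274649) D62491 (iv D61753)
def n62492 : Q := act 4 n61555
theorem D62492 : act 4 n61555 = n62492 := rfl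
theorem F278977 : act 0 n62492 = n61556 := d3_1 D62492 (iv D61556) D61555
theorem F278978 : act 7 n62492 = n61740 := d32_2 (iv F274657) D62492 (iv D61740)
theorem F278979 : act 8 n62492 = n61558 := d33_2 (iv F274658) D62492 (iv D61558)
def n62493 : Q := act 3 n61556
theorem D62493 : act 3 n61556 = n62493 := rfl
theorem F278980 : act 1 n62493 = n61557 := d10_1 D62493 (iv D61557) (iv F274659)
theorem F278981 : act 4 n62493 = n61585 := d24_2 D61556 D62493 (iv D61585) (iv D60441) (iv F269725)
theorem F278982 : act 7 n62493 = n61741 := d27_2 (iv F274660) D62493 (iv D61741)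
def n62494 : Q := act 0 n61559
theorem D62494 : act 0 n61559 = n62494 := rfl
theorem F278983 : act 3 n62494 = n61734 := d2_2 (iv F274668) D62494 (iv D61734)
theorem F278984 : act 6 n62494 = n61571 := d5_2 (iv F274669) D62494 (iv D61571)
theorem F278985 : act 8 n62494 = n61562 := d7_2 (iv F274670) D62494 (iv D61562)
def n62495 : Q := act 4 n61559
theorem D62495 : act 4 n61559 = n62495 := rfl
theorem F278986 : act 1 n62495 = n61560 := d11_1 D62495 (iv D61560) D61559
theorem F278987 : act 6 n62495 = n61572 := d31_2 (iv F274669) D62495 (iv D61572)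
theorem F278988 : act 8 n62495 = n61563 := d33_2 (iv F274670) D62495 (iv D61563)
def n62496 : Q := act 3 n61560
theorem D62496 : act 3 n61560 = n62496 := rfl
theorem F278989 : act 2 n62496 = n62496 := d17_1 D62496 (iv D62496) F274671 F269742 (iv F274671)
theorem F278990 : act 4 n62496 = n61736 := d24_2 D61560 D62496 (iv D61736) (iv D60647) (iv F269739)
theorem F278991 : act 6 n62496 = n61573 := d26_2 (iv F274672) D62496 (iv D61573)
theorem F278992 : act 8 n62496 = n61583 := d28_2 (iv F274673) D62496 (iv D61583) F269820 (iv F269749)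
def n62497 : Q := act 5 n61560
theorem D62497 : act 5 n61560 = n62497 := rfl
theorem F278993 : act 2 n62497 = n61561 := d19_1 D62497 (iv D61561) (iv F274671)
theorem F278994 : act 8 n62497 = n61564 := d37_2 (iv F274673) D62497 (iv D61564)
def n62498 : Q := act 4 n61562
theorem D62498 : act 4 n61562 = n62498 := rfl
theorem F278995 : act 0 n62498 = n61563 := d3_1 D62498 (iv D61563) D61562
theorem F278996 : act 3 n62498 = n61631 := d24_1 D62498 (iv D61631) (iv F271294) F271295 (iv F274676)
theorem F278997 : act 6 n62498 = n61574 := d31_2 (iv F274677) D62498 (iv D61574)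
theorem F278998 : act 9 n62498 = n61590 := d34_2 (iv F274678) D62498 (iv D61590)
def n62499 : Q := act 5 n61563
theorem D62499 : act 5 n61563 = n62499 := rfl
theorem F278999 : act 1 n62499 = n61564 := d12_1 D62499 (iv D61564) (iv F274679)
theorem F279000 : act 3 n62499 = n61632 := d25_1 D62499 (iv D61632) (iv F274680)
theorem F279001 : act 9 n62499 = n61591 := d38_2 (iv F274682) D62499 (iv D61591)
def n62500 : Q := act 0 n61565
theorem D62500 : act 0 n61565 = n62500 := rfl
theorem F279002 : act 2 n62500 = n61571 := d1_2 (iv F274686) D62500 (iv D61571)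
theorem F279003 : act 5 n62500 = n61711 := d4_2 (iv F274687) D62500 (iv D61711)
theorem F279004 : act 7 n62500 = n61575 := d6_2 (iv F274688) D62500 (iv D61575)
theorem F279005 : act 8 n62500 = n61567 := d7_2 (iv F274689) D62500 (iv D61567)
def n62501 : Q := act 4 n61565
theorem D62501 : act 4 n61565 = n62501 := rfl
theorem F279006 : act 1 n62501 = n61566 := d11_1 D62501 (iv D61566) D61565
theorem F279007 : act 2 n62501 = n61572 := d18_1 D62501 (iv D61572) (iv F274686)
theorem F279008 : act 7 n62501 = n61576 := d32_2 (iv F274688) D62501 (iv D61576)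
theorem F279009 : act 8 n62501 = n61568 := d33_2 (iv F274689) D62501 (iv D61568)
def n62502 : Q := act 3 n61566
theorem D62502 : act 3 n61566 = n62502 := rfl
theorem F279010 : act 2 n62502 = n62502 := d17_1 D62502 (iv D62502) F274690 F269762 (iv F274690)
theorem F279011 : act 7 n62502 = n61577 := d27_2 (iv F274691) D62502 (iv D61577)
theorem F279012 : act 8 n62502 = n61672 := d28_2 (iv F274692) D62502 (iv D61672) F270100 (iv F269771)
def n62503 : Q := act 4 n61567
theorem D62503 : act 4 n61567 = n62503 := rfl
theorem F279013 : act 0 n62503 = n61568 := d3_1 D62503 (iv D61568) D61567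
theorem F279014 : act 2 n62503 = n61574 := d18_1 D62503 (iv D61574) (iv F274693)
theorem F279015 : act 3 n62503 = n61682 := d24_1 D62503 (iv D61682) F270139 (iv F270283) (iv F274694)
theorem F279016 : act 7 n62503 = n61579 := d32_2 (iv F274696) D62503 (iv D61579)
theorem F279017 : act 9 n62503 = n61597 := d34_2 (iv F274697) D62503 (iv D61597)
def n62504 : Q := act 0 n61569
theorem D62504 : act 0 n61569 = n62504 := rfl
theorem F279018 : act 3 n62504 = n61737 := d2_2 (iv F274703) D62504 (iv D61737)
theorem F279019 : act 5 n62504 = n61715 := d4_2 (iv F274704) D62504 (iv D61715)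
theorem F279020 : act 7 n62504 = n61581 := d6_2 (iv F274705) D62504 (iv D61581)
theorem F279021 : act 8 n62504 = n61603 := d7_2 (iv F274706) D62504 (iv D61603)
theorem F279022 : act 9 n62504 = n61571 := d8_2 (iv F274707) D62504 (iv D61571)
def n62505 : Q := act 4 n61569
theorem D62505 : act 4 n61569 = n62505 := rfl
theorem F279023 : act 1 n62505 = n61570 := d11_1 D62505 (iv D61570) D61569
theorem F279024 : act 7 n62505 = n61582 := d32_2 (iv F274705) D62505 (iv D61582)
theorem F279025 : act 8 n62505 = n61604 := d33_2 (iv F274706) D62505 (iv D61604)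
theorem F279026 : act 9 n62505 = n61572 := d34_2 (iv F274707) D62505 (iv D61572)
def n62506 : Q := act 3 n61570
theorem D62506 : act 3 n61570 = n62506 := rfl
theorem F279027 : act 2 n62506 = n62506 := d17_1 D62506 (iv D62506) F274708 F269779 (iv F274708)
theorem F279028 : act 4 n62506 = n61739 := d24_2 D61570 D62506 (iv D61739) (iv D60650) (iv F269774)
theorem F279029 : act 7 n62506 = n61583 := d27_2 (iv F274709) D62506 (iv D61583)
theorem F279030 : act 9 n62506 = n61573 := d29_2 (iv F274711) D62506 (iv D61573)
def n62507 : Q := act 4 n61571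
theorem D62507 : act 4 n61571 = n62507 := rfl
theorem F279031 : act 0 n62507 = n61572 := d3_1 D62507 (iv D61572) D61571
theorem F279032 : act 7 n62507 = n61584 := d32_2 (iv F274714) D62507 (iv D61584)
theorem F279033 : act 8 n62507 = n61574 := d33_2 (iv F274715) D62507 (iv D61574)
def n62508 : Q := act 3 n61572
theorem D62508 : act 3 n61572 = n62508 := rfl
theorem F279034 : act 1 n62508 = n61573 := d10_1 D62508 (iv D61573) (iv F274716)
theorem F279035 : act 4 n62508 = n61741 := d24_2 D61572 D62508 (iv D61741) (iv D60652) (iv F269783)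
theorem F279036 : act 7 n62508 = n61585 := d27_2 (iv F274717) D62508 (iv D61585)
def n62509 : Q := act 4 n61575
theorem D62509 : act 4 n61575 = n62509 := rfl
theorem F279037 : act 0 n62509 = n61576 := d3_1 D62509 (iv D61576) D61575
theorem F279038 : act 2 n62509 = n61584 := d18_1 D62509 (iv D61584) (iv F274725)
theorem F279039 : act 8 n62509 = n61579 := d33_2 (iv F274726) D62509 (iv D61579)
def n62510 : Q := act 3 n61576
theorem D62510 : act 3 n61576 = n62510 := rfl
theorem F279040 : act 1 n62510 = n61577 := d10_1 D62510 (iv D61577) (iv F274727)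
def n62511 : Q := act 4 n61581
theorem D62511 : act 4 n61581 = n62511 := rfl
theorem F279041 : act 0 n62511 = n61582 := d3_1 D62511 (iv D61582) D61581
theorem F279042 : act 8 n62511 = n61631 := d33_2 (iv F274745) D62511 (iv D61631)
theorem F279043 : act 9 n62511 = n61584 := d34_2 (iv F274746) D62511 (iv D61584)
def n62512 : Q := act 3 n61582
theorem D62512 : act 3 n61582 = n62512 := rfl
theorem F279044 : act 1 n62512 = n61583 := d10_1 D62512 (iv D61583) (iv F274747)
theorem F279045 : act 9 n62512 = n61585 := d29_2 (iv F274749) D62512 (iv D61585)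
def n62513 : Q := act 3 n61584
theorem D62513 : act 3 n61584 = n62513 := rfl
theorem F279046 : act 0 n62513 = n61585 := d2_1 D62513 (iv D61585) (iv F274752)
def n62514 : Q := act 2 n61585
theorem D62514 : act 2 n61585 = n62514 := rfl
theorem F279047 : act 1 n62514 = n62514 := d9_1 D62514 (iv D62514) F274754 F269825 (iv F274754)
def n62515 : Q := act 4 n61586
theorem D62515 : act 4 n61586 = n62515 := rfl
theorem F279048 : act 0 n62515 = n61587 := d3_1 D62515 (iv D61587) D61586
def n62516 : Q := act 3 n61587
theorem D62516 : act 3 n61587 = n62516 := rfl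
theorem F279049 : act 1 n62516 = n61588 := d10_1 D62516 (iv D61588) (iv F274757)
theorem F279050 : act 4 n62516 = n61593 := d24_2 D61587 D62516 (iv D61593) (iv D60453) (iv F269837)
def n62517 : Q := act 5 n61587
theorem D62517 : act 5 n61587 = n62517 := rfl
theorem F279051 : act 1 n62517 = n61589 := d12_1 D62517 (iv D61589) (iv F274757)
theorem F279052 : act 4 n62517 = n61591 := d30_1 D62517 (iv D61591) (iv D60450) (iv F269838) D61587
def n62518 : Q := act 5 n61590
theorem D62518 : act 5 n61590 = n62518 := rfl
theorem F279053 : act 0 n62518 = n61591 := d4_1 D62518 (iv D61591) (iv F274762)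
theorem F279054 : act 3 n62518 = n61633 := d25_1 D62518 (iv D61633) (iv F274763)
def n62519 : Q := act 3 n61592
theorem D62519 : act 3 n61592 = n62519 := rfl
theorem F279055 : act 0 n62519 = n61593 := d2_1 D62519 (iv D61593) (iv F274767)
def n62520 : Q := act 2 n61593
theorem D62520 : act 2 n61593 = n62520 := rfl
theorem F279056 : act 1 n62520 = n62520 := d9_1 D62520 (iv D62520) F274769 F269853 (iv F274769)
theorem F279057 : act 3 n62520 = n61750 := d17_2 D61593 D62520 (iv D61750) (iv D60668) (iv F269852)
def n62521 : Q := act 8 n61593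
theorem D62521 : act 8 n61593 = n62521 := rfl
theorem F279058 : act 1 n62521 = n61594 := d15_1 D62521 (iv D61594) (iv F274769)
def n62522 : Q := act 9 n61594
theorem D62522 : act 9 n61594 = n62522 := rfl
theorem F279059 : act 2 n62522 = n62522 := d23_1 D62522 (iv D62522) F274770
def n62523 : Q := act 4 n61595
theorem D62523 : act 4 n61595 = n62523 := rfl
theorem F279060 : act 0 n62523 = n61596 := d3_1 D62523 (iv D61596) D61595
theorem F279061 : act 2 n62523 = n61610 := d18_1 D62523 (iv D61610) (iv F274771)
theorem F279062 : act 7 n62523 = n61622 := d32_2 (iv F274774) D62523 (iv D61622)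
theorem F279063 : act 9 n62523 = n61713 := d34_2 (iv F274775) D62523 (iv D61713)
def n62524 : Q := act 0 n61598
theorem D62524 : act 0 n61598 = n62524 := rfl
theorem F279064 : act 3 n62524 = n61670 := d2_2 (iv F274784) D62524 (iv D61670)
theorem F279065 : act 5 n62524 = n61603 := d4_2 (iv F274785) D62524 (iv D61603)
theorem F279066 : act 7 n62524 = n61626 := d6_2 (iv F274786) D62524 (iv D61626)
theorem F279067 : act 8 n62524 = n61715 := d7_2 (iv F274787) D62524 (iv D61715)
theorem F279068 : act 9 n62524 = n61600 := d8_2 (iv F274788) D62524 (iv D61600)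
def n62525 : Q := act 4 n61598
theorem D62525 : act 4 n61598 = n62525 := rfl
theorem F279069 : act 1 n62525 = n61599 := d11_1 D62525 (iv D61599) D61598
theorem F279070 : act 7 n62525 = n61627 := d32_2 (iv F274786) D62525 (iv D61627)
theorem F279071 : act 8 n62525 = n61716 := d33_2 (iv F274787) D62525 (iv D61716)
theorem F279072 : act 9 n62525 = n61601 := d34_2 (iv F274788) D62525 (iv D61601)
def n62526 : Q := act 3 n61599
theorem D62526 : act 3 n61599 = n62526 := rfl
theorem F279073 : act 2 n62526 = n62526 := d17_1 D62526 (iv D62526) F274789 F269874 (iv F274789)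
theorem F279074 : act 4 n62526 = n61672 := d24_2 D61599 D62526 (iv D61672) (iv D60548) (iv F269869)
theorem F279075 : act 7 n62526 = n61628 := d27_2 (iv F274790) D62526 (iv D61628)
theorem F279076 : act 9 n62526 = n61602 := d29_2 (iv F274792) D62526 (iv D61602)
def n62527 : Q := act 4 n61600
theorem D62527 : act 4 n61600 = n62527 := rfl
theorem F279077 : act 0 n62527 = n61601 := d3_1 D62527 (iv D61601) D61600
theorem F279078 : act 7 n62527 = n61629 := d32_2 (iv F274795) D62527 (iv D61629)
theorem F279079 : act 8 n62527 = n61610 := d33_2 (iv F274796) D62527 (iv D61610)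
def n62528 : Q := act 3 n61601
theorem D62528 : act 3 n61601 = n62528 := rfl
theorem F279080 : act 1 n62528 = n61602 := d10_1 D62528 (iv D61602) (iv F274797)
theorem F279081 : act 4 n62528 = n61674 := d24_2 D61601 D62528 (iv D61674) (iv D60550) (iv F269878)
theorem F279082 : act 7 n62528 = n61630 := d27_2 (iv F274798) D62528 (iv D61630)
def n62529 : Q := act 4 n61603
theorem D62529 : act 4 n61603 = n62529 := rfl
theorem F279083 : act 0 n62529 = n61604 := d3_1 D62529 (iv D61604) D61603
theorem F279084 : act 7 n62529 = n61631 := d32_2 (iv F274803) D62529 (iv D61631)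
theorem F279085 : act 9 n62529 = n61607 := d34_2 (iv F274804) D62529 (iv D61607)
def n62530 : Q := act 5 n61604
theorem D62530 : act 5 n61604 = n62530 := rfl
theorem F279086 : act 1 n62530 = n61605 := d12_1 D62530 (iv D61605) (iv F274805)
theorem F279087 : act 7 n62530 = n61632 := d36_2 (iv F274806) D62530 (iv D61632)
theorem F279088 : act 9 n62530 = n61608 := d38_2 (iv F274807) D62530 (iv D61608)
def n62531 : Q := act 6 n61605
theorem D62531 : act 6 n61605 = n62531 := rfl
theorem F279089 : act 2 n62531 = n61606 := d20_1 D62531 (iv D61606) (iv F274808)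
theorem F279090 : act 9 n62531 = n61609 := d41_2 (iv F274810) D62531 (iv D61609)
def n62532 : Q := act 5 n61607
theorem D62532 : act 5 n61607 = n62532 := rfl
theorem F279091 : act 0 n62532 = n61608 := d4_1 D62532 (iv D61608) (iv F274813)
theorem F279092 : act 7 n62532 = n61633 := d36_2 (iv F274814) D62532 (iv D61633)
theorem F279093 : act 8 n62532 = n61611 := d37_2 (iv F274815) D62532 (iv D61611)
def n62533 : Q := act 6 n61608
theorem D62533 : act 6 n61608 = n62533 := rfl
theorem F279094 : act 1 n62533 = n61609 := d13_1 D62533 (iv D61609) (iv F274816)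
theorem F279095 : act 8 n62533 = n61612 := d40_2 (iv F274818) D62533 (iv D61612)
def n62534 : Q := act 6 n61611
theorem D62534 : act 6 n61611 = n62534 := rfl
theorem F279096 : act 0 n62534 = n61612 := d5_1 D62534 (iv D61612) (iv F274824)
def n62535 : Q := act 4 n61613
theorem D62535 : act 4 n61613 = n62535 := rfl
theorem F279097 : act 0 n62535 = n61614 := d3_1 D62535 (iv D61614) D61613
theorem F279098 : act 1 n62535 = n61622 := d11_1 D62535 (iv D61622) (iv F274827)
theorem F279099 : act 2 n62535 = n61744 := d18_1 D62535 (iv D61744) (iv F274828)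
theorem F279100 : act 6 n62535 = n61728 := d31_2 (iv F274831) D62535 (iv D61728)
theorem F279101 : act 9 n62535 = n61757 := d34_2 (iv F274832) D62535 (iv D61757)
def n62536 : Q := act 4 n61615
theorem D62536 : act 4 n61615 = n62536 := rfl
theorem F279102 : act 0 n62536 = n61616 := d3_1 D62536 (iv D61616) D61615
theorem F279103 : act 2 n62536 = n61629 := d18_1 D62536 (iv D61629) (iv F274837)
theorem F279104 : act 8 n62536 = n61622 := d33_2 (iv F274839) D62536 (iv D61622)
def n62537 : Q := act 3 n61616
theorem D62537 : act 3 n61616 = n62537 := rfl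
theorem F279105 : act 1 n62537 = n61617 := d10_1 D62537 (iv D61617) (iv F274840)
def n62538 : Q := act 4 n61618
theorem D62538 : act 4 n61618 = n62538 := rfl
theorem F279106 : act 0 n62538 = n61619 := d3_1 D62538 (iv D61619) D61618
theorem F279107 : act 2 n62538 = n61631 := d18_1 D62538 (iv D61631) (iv F274844)
theorem F279108 : act 9 n62538 = n61620 := d34_2 (iv F274845) D62538 (iv D61620)
def n62539 : Q := act 4 n61623
theorem D62539 : act 4 n61623 = n62539 := rfl
theorem F279109 : act 0 n62539 = n61624 := d3_1 D62539 (iv D61624) D61623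
theorem F279110 : act 1 n62539 = n61745 := d11_1 D62539 (iv D61745) (iv F274860)
theorem F279111 : act 6 n62539 = n61629 := d31_2 (iv F274863) D62539 (iv D61629)
theorem F279112 : act 8 n62539 = n61636 := d33_2 (iv F274864) D62539 (iv D61636)
def n62540 : Q := act 3 n61624
theorem D62540 : act 3 n61624 = n62540 := rfl
theorem F279113 : act 1 n62540 = n61625 := d10_1 D62540 (iv D61625) (iv F274865)
theorem F279114 : act 4 n62540 = n61708 := d24_2 D61624 D62540 (iv D61708) (iv D60609) (iv F269952)
theorem F279115 : act 6 n62540 = n61630 := d26_2 (iv F274866) D62540 (iv D61630)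
def n62541 : Q := act 4 n61626
theorem D62541 : act 4 n61626 = n62541 := rfl
theorem F279116 : act 0 n62541 = n61627 := d3_1 D62541 (iv D61627) D61626
theorem F279117 : act 9 n62541 = n61629 := d34_2 (iv F274873) D62541 (iv D61629)
def n62542 : Q := act 3 n61627
theorem D62542 : act 3 n61627 = n62542 := rfl
theorem F279118 : act 1 n62542 = n61628 := d10_1 D62542 (iv D61628) (iv F274874)
theorem F279119 : act 9 n62542 = n61630 := d29_2 (iv F274875) D62542 (iv D61630)
def n62543 : Q := act 3 n61629
theorem D62543 : act 3 n61629 = n62543 := rfl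
theorem F279120 : act 0 n62543 = n61630 := d2_1 D62543 (iv D61630) (iv F274878)
def n62544 : Q := act 2 n61630
theorem D62544 : act 2 n61630 = n62544 := rfl
theorem F279121 : act 1 n62544 = n62544 := d9_1 D62544 (iv D62544) F274880 F269968 (iv F274880)
def n62545 : Q := act 5 n61631
theorem D62545 : act 5 n61631 = n62545 := rfl
theorem F279122 : act 0 n62545 = n61632 := d4_1 D62545 (iv D61632) (iv F274881)
theorem F279123 : act 9 n62545 = n61633 := d38_2 (iv F274882) D62545 (iv D61633)
def n62546 : Q := act 4 n61634
theorem D62546 : act 4 n61634 = n62546 := rfl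
theorem F279124 : act 0 n62546 = n61635 := d3_1 D62546 (iv D61635) D61634
theorem F279125 : act 7 n62546 = n61636 := d32_2 (iv F274888) D62546 (iv D61636)
def n62547 : Q := act 5 n61637
theorem D62547 : act 5 n61637 = n62547 := rfl
theorem F279126 : act 0 n62547 = n61638 := d4_1 D62547 (iv D61638) (iv F274893)
theorem F279127 : act 1 n62547 = n61662 := d12_1 D62547 (iv D61662) (iv F274894)
theorem F279128 : act 3 n62547 = n61668 := d25_1 D62547 (iv D61668) (iv F274895)
def n62548 : Q := act 0 n61639
theorem D62548 : act 0 n61639 = n62548 := rfl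
theorem F279129 : act 6 n62548 = n61696 := d5_2 (iv F274898) D62548 (iv D61696)
theorem F279130 : act 8 n62548 = n61655 := d7_2 (iv F274899) D62548 (iv D61655)
theorem F279131 : act 9 n62548 = n61642 := d8_2 (iv F274900) D62548 (iv D61642)
def n62549 : Q := act 4 n61639
theorem D62549 : act 4 n61639 = n62549 := rfl
theorem F279132 : act 1 n62549 = n61640 := d11_1 D62549 (iv D61640) D61639
theorem F279133 : act 6 n62549 = n61697 := d31_2 (iv F274898) D62549 (iv D61697)
theorem F279134 : act 8 n62549 = n61656 := d33_2 (iv F274899) D62549 (iv D61656)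
theorem F279135 : act 9 n62549 = n61643 := d34_2 (iv F274900) D62549 (iv D61643)
def n62550 : Q := act 3 n61640
theorem D62550 : act 3 n61640 = n62550 := rfl
theorem F279136 : act 2 n62550 = n62550 := d17_1 D62550 (iv D62550) F274901 F270017 (iv F274901)
theorem F279137 : act 6 n62550 = n61698 := d26_2 (iv F274902) D62550 (iv D61698)
theorem F279138 : act 9 n62550 = n61644 := d29_2 (iv F274904) D62550 (iv D61644)
def n62551 : Q := act 5 n61640
theorem D62551 : act 5 n61640 = n62551 := rfl
theorem F279139 : act 2 n62551 = n61641 := d19_1 D62551 (iv D61641) (iv F274901)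
theorem F279140 : act 8 n62551 = n61657 := d37_2 (iv F274903) D62551 (iv D61657)
theorem F279141 : act 9 n62551 = n61645 := d38_2 (iv F274904) D62551 (iv D61645)
def n62552 : Q := act 4 n61642
theorem D62552 : act 4 n61642 = n62552 := rfl
theorem F279142 : act 0 n62552 = n61643 := d3_1 D62552 (iv D61643) D61642
theorem F279143 : act 8 n62552 = n61646 := d33_2 (iv F274908) D62552 (iv D61646)
def n62553 : Q := act 3 n61643
theorem D62553 : act 3 n61643 = n62553 := rfl
theorem F279144 : act 1 n62553 = n61644 := d10_1 D62553 (iv D61644) (iv F274909)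
theorem F279145 : act 8 n62553 = n61674 := d28_2 (iv F274910) D62553 (iv D61674) F270104 (iv F270029)
def n62554 : Q := act 5 n61643
theorem D62554 : act 5 n61643 = n62554 := rfl
theorem F279146 : act 1 n62554 = n61645 := d12_1 D62554 (iv D61645) (iv F274909)
theorem F279147 : act 8 n62554 = n61647 := d37_2 (iv F274910) D62554 (iv D61647)
def n62555 : Q := act 5 n61646
theorem D62555 : act 5 n61646 = n62555 := rfl
theorem F279148 : act 0 n62555 = n61647 := d4_1 D62555 (iv D61647) (iv F274915)
theorem F279149 : act 3 n62555 = n61675 := d25_1 D62555 (iv D61675) (iv F274916)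
theorem F279150 : act 9 n62555 = n61662 := d38_2 (iv F274917) D62555 (iv D61662)
def n62556 : Q := act 0 n61648
theorem D62556 : act 0 n61648 = n62556 := rfl
theorem F279151 : act 3 n62556 = n61689 := d2_2 (iv F274921) D62556 (iv D61689)
theorem F279152 : act 5 n62556 = n61655 := d4_2 (iv F274922) D62556 (iv D61655)
theorem F279153 : act 6 n62556 = n61686 := d5_2 (iv F274923) D62556 (iv D61686)
theorem F279154 : act 9 n62556 = n61651 := d8_2 (iv F274924) D62556 (iv D61651)
def n62557 : Q := act 4 n61648
theorem D62557 : act 4 n61648 = n62557 := rfl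
theorem F279155 : act 1 n62557 = n61649 := d11_1 D62557 (iv D61649) D61648
theorem F279156 : act 6 n62557 = n61687 := d31_2 (iv F274923) D62557 (iv D61687)
theorem F279157 : act 9 n62557 = n61652 := d34_2 (iv F274924) D62557 (iv D61652)
def n62558 : Q := act 3 n61649
theorem D62558 : act 3 n61649 = n62558 := rfl
theorem F279158 : act 2 n62558 = n62558 := d17_1 D62558 (iv D62558) F274925 F270038 (iv F274925)
theorem F279159 : act 4 n62558 = n61691 := d24_2 D61649 D62558 (iv D61691) (iv D60583) (iv F270034)
theorem F279160 : act 6 n62558 = n61688 := d26_2 (iv F274926) D62558 (iv D61688)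
theorem F279161 : act 9 n62558 = n61653 := d29_2 (iv F274927) D62558 (iv D61653)
def n62559 : Q := act 5 n61649
theorem D62559 : act 5 n61649 = n62559 := rfl
theorem F279162 : act 2 n62559 = n61650 := d19_1 D62559 (iv D61650) (iv F274925)
theorem F279163 : act 4 n62559 = n61657 := d30_1 D62559 (iv D61657) (iv D60527) (iv F270035) D61649
theorem F279164 : act 9 n62559 = n61654 := d38_2 (iv F274927) D62559 (iv D61654)
def n62560 : Q := act 4 n61651
theorem D62560 : act 4 n61651 = n62560 := rfl
theorem F279165 : act 0 n62560 = n61652 := d3_1 D62560 (iv D61652) D61651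
theorem F279166 : act 8 n62560 = n61660 := d33_2 (iv F274933) D62560 (iv D61660)
def n62561 : Q := act 3 n61652
theorem D62561 : act 3 n61652 = n62561 := rfl
theorem F279167 : act 1 n62561 = n61653 := d10_1 D62561 (iv D61653) (iv F274934)
theorem F279168 : act 4 n62561 = n61705 := d24_2 D61652 D62561 (iv D61705) (iv D60602) (iv F270041)
theorem F279169 : act 6 n62561 = n61751 := d26_2 F277061 D62561 F277065
theorem F279170 : act 8 n62561 = n61748 := d28_2 (iv F274935) D62561 (iv D61748) (iv F270556) F270553
def n62562 : Q := act 5 n61652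
theorem D62562 : act 5 n61652 = n62562 := rfl
theorem F279171 : act 1 n62562 = n61654 := d12_1 D62562 (iv D61654) (iv F274934)
theorem F279172 : act 4 n62562 = n61659 := d30_1 D62562 (iv D61659) (iv D60530) (iv F270042) D61652
theorem F279173 : act 8 n62562 = n61661 := d37_2 (iv F274935) D62562 (iv D61661)
def n62563 : Q := act 4 n61655
theorem D62563 : act 4 n61655 = n62563 := rfl
theorem F279174 : act 0 n62563 = n61656 := d3_1 D62563 (iv D61656) D61655
theorem F279175 : act 6 n62563 = n61699 := d31_2 (iv F274944) D62563 (iv D61699)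
theorem F279176 : act 9 n62563 = n61658 := d34_2 (iv F274945) D62563 (iv D61658)
def n62564 : Q := act 5 n61656
theorem D62564 : act 5 n61656 = n62564 := rfl
theorem F279177 : act 1 n62564 = n61657 := d12_1 D62564 (iv D61657) (iv F274946)
theorem F279178 : act 9 n62564 = n61659 := d38_2 (iv F274948) D62564 (iv D61659)
def n62565 : Q := act 5 n61658
theorem D62565 : act 5 n61658 = n62565 := rfl
theorem F279179 : act 0 n62565 = n61659 := d4_1 D62565 (iv D61659) (iv F274951)
theorem F279180 : act 8 n62565 = n61662 := d37_2 (iv F274952) D62565 (iv D61662)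
def n62566 : Q := act 5 n61660
theorem D62566 : act 5 n61660 = n62566 := rfl
theorem F279181 : act 0 n62566 = n61661 := d4_1 D62566 (iv D61661) (iv F274955)
theorem F279182 : act 4 n62566 = n61662 := d30_1 D62566 (iv D61662) (iv D60535) (iv F270064) D61660
def n62567 : Q := act 6 n61662
theorem D62567 : act 6 n61662 = n62567 := rfl
theorem F279183 : act 0 n62567 = n61663 := d5_1 D62567 (iv D61663) (iv F274958)
theorem F279184 : act 3 n62567 = n61683 := d26_1 D62567 (iv D61683) (iv F274959)
def n62568 : Q := act 4 n61664
theorem D62568 : act 4 n61664 = n62568 := rfl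
theorem F279185 : act 0 n62568 = n61665 := d3_1 D62568 (iv D61665) D61664
theorem F279186 : act 1 n62568 = n61673 := d11_1 D62568 (iv D61673) (iv F274962)
theorem F279187 : act 7 n62568 = n61747 := d32_2 (iv F274964) D62568 (iv D61747)
theorem F279188 : act 8 n62568 = n61667 := d33_2 (iv F274965) D62568 (iv D61667)
def n62569 : Q := act 3 n61665
theorem D62569 : act 3 n61665 = n62569 := rfl
theorem F279189 : act 1 n62569 = n61666 := d10_1 D62569 (iv D61666) (iv F274966)
theorem F279190 : act 7 n62569 = n61748 := d27_2 (iv F274967) D62569 (iv D61748)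
def n62570 : Q := act 4 n61670
theorem D62570 : act 4 n61670 = n62570 := rfl
theorem F279191 : act 0 n62570 = n61671 := d3_1 D62570 (iv D61671) D61670
theorem F279192 : act 8 n62570 = n61682 := d33_2 (iv F274980) D62570 (iv D61682)
theorem F279193 : act 9 n62570 = n61673 := d34_2 (iv F274981) D62570 (iv D61673)
def n62571 : Q := act 3 n61671
theorem D62571 : act 3 n61671 = n62571 := rfl
theorem F279194 : act 1 n62571 = n61672 := d10_1 D62571 (iv D61672) (iv F274982)
theorem F279195 : act 9 n62571 = n61674 := d29_2 (iv F274984) D62571 (iv D61674)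
def n62572 : Q := act 3 n61673
theorem D62572 : act 3 n61673 = n62572 := rfl
theorem F279196 : act 0 n62572 = n61674 := d2_1 D62572 (iv D61674) (iv F274987)
def n62573 : Q := act 2 n61674
theorem D62573 : act 2 n61674 = n62573 := rfl
theorem F279197 : act 1 n62573 = n62573 := d9_1 D62573 (iv D62573) F274989 F270105 (iv F274989)
def n62574 : Q := act 4 n61684
theorem D62574 : act 4 n61684 = n62574 := rfl
theorem F279198 : act 0 n62574 = n61685 := d3_1 D62574 (iv D61685) D61684
theorem F279199 : act 1 n62574 = n61692 := d11_1 D62574 (iv D61692) (iv F275010)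
theorem F279200 : act 5 n62574 = n61707 := d30_2 (iv F275011) D62574 (iv D61707) F270234 (iv F270157)
def n62575 : Q := act 4 n61686
theorem D62575 : act 4 n61686 = n62575 := rfl
theorem F279201 : act 0 n62575 = n61687 := d3_1 D62575 (iv D61687) D61686
def n62576 : Q := act 3 n61687
theorem D62576 : act 3 n61687 = n62576 := rfl
theorem F279202 : act 1 n62576 = n61688 := d10_1 D62576 (iv D61688) (iv F275016)
theorem F279203 : act 4 n62576 = n61693 := d24_2 D61687 D62576 (iv D61693) (iv D60585) (iv F270162)
theorem F279204 : act 9 n62576 = n61751 := d29_2 F277064 D62576 F277065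
def n62577 : Q := act 4 n61689
theorem D62577 : act 4 n61689 = n62577 := rfl
theorem F279205 : act 0 n62577 = n61690 := d3_1 D62577 (iv D61690) D61689
theorem F279206 : act 2 n62577 = n61707 := d18_1 D62577 (iv D61707) (iv F275020)
theorem F279207 : act 6 n62577 = n61692 := d31_2 (iv F275022) D62577 (iv D61692)
theorem F279208 : act 9 n62577 = n61704 := d34_2 (iv F275023) D62577 (iv D61704)
def n62578 : Q := act 3 n61690
theorem D62578 : act 3 n61690 = n62578 := rfl
theorem F279209 : act 1 n62578 = n61691 := d10_1 D62578 (iv D61691) (iv F275024)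
theorem F279210 : act 6 n62578 = n61693 := d26_2 (iv F275026) D62578 (iv D61693)
theorem F279211 : act 9 n62578 = n61705 := d29_2 (iv F275027) D62578 (iv D61705)
def n62579 : Q := act 3 n61692
theorem D62579 : act 3 n61692 = n62579 := rfl
theorem F279212 : act 0 n62579 = n61693 := d2_1 D62579 (iv D61693) (iv F275031)
theorem F279213 : act 5 n62579 = n61749 := d25_2 (iv F275032) D62579 (iv D61749)
def n62580 : Q := act 2 n61693
theorem D62580 : act 2 n61693 = n62580 := rfl
theorem F279214 : act 1 n62580 = n62580 := d9_1 D62580 (iv D62580) F275033 F270177 (iv F275033)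
theorem F279215 : act 5 n62580 = n61750 := d19_2 (iv F275034) D62580 (iv D61750)
def n62581 : Q := act 4 n61694
theorem D62581 : act 4 n61694 = n62581 := rfl
theorem F279216 : act 0 n62581 = n61695 := d3_1 D62581 (iv D61695) D61694
theorem F279217 : act 2 n62581 = n61699 := d18_1 D62581 (iv D61699) (iv F275035)
theorem F279218 : act 7 n62581 = n61703 := d32_2 (iv F275038) D62581 (iv D61703)
def n62582 : Q := act 4 n61696
theorem D62582 : act 4 n61696 = n62582 := rfl
theorem F279219 : act 0 n62582 = n61697 := d3_1 D62582 (iv D61697) D61696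
theorem F279220 : act 7 n62582 = n61704 := d32_2 (iv F275043) D62582 (iv D61704)
theorem F279221 : act 8 n62582 = n61699 := d33_2 (iv F275044) D62582 (iv D61699)
def n62583 : Q := act 3 n61697
theorem D62583 : act 3 n61697 = n62583 := rfl
theorem F279222 : act 1 n62583 = n61698 := d10_1 D62583 (iv D61698) (iv F275045)
theorem F279223 : act 7 n62583 = n61705 := d27_2 (iv F275046) D62583 (iv D61705)
def n62584 : Q := act 4 n61700
theorem D62584 : act 4 n61700 = n62584 := rfl
theorem F279224 : act 0 n62584 = n61701 := d3_1 D62584 (iv D61701) D61700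
theorem F279225 : act 1 n62584 = n61721 := d11_1 D62584 (iv D61721) (iv F275052)
theorem F279226 : act 2 n62584 = n61704 := d18_1 D62584 (iv D61704) (iv F275053)
theorem F279227 : act 8 n62584 = n61703 := d33_2 (iv F275055) D62584 (iv D61703)
theorem F279228 : act 9 n62584 = n61707 := d34_2 (iv F275056) D62584 (iv D61707)
def n62585 : Q := act 3 n61701
theorem D62585 : act 3 n61701 = n62585 := rfl
theorem F279229 : act 1 n62585 = n61702 := d10_1 D62585 (iv D61702) (iv F275057)
theorem F279230 : act 9 n62585 = n61708 := d29_2 (iv F275060) D62585 (iv D61708)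
def n62586 : Q := act 3 n61704
theorem D62586 : act 3 n61704 = n62586 := rfl
theorem F279231 : act 0 n62586 = n61705 := d2_1 D62586 (iv D61705) (iv F275066)
def n62587 : Q := act 2 n61705
theorem D62587 : act 2 n61705 = n62587 := rfl
theorem F279232 : act 1 n62587 = n62587 := d9_1 D62587 (iv D62587) F275068 F270225 (iv F275068)
def n62588 : Q := act 3 n61707
theorem D62588 : act 3 n61707 = n62588 := rfl
theorem F279233 : act 0 n62588 = n61708 := d2_1 D62588 (iv D61708) (iv F275071)
theorem F279234 : act 1 n62588 = n61749 := d10_1 D62588 (iv D61749) (iv F275072)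
def n62589 : Q := act 2 n61708
theorem D62589 : act 2 n61708 = n62589 := rfl
theorem F279235 : act 1 n62589 = n62589 := d9_1 D62589 (iv D62589) F275073 F270237 (iv F275073)
def n62590 : Q := act 4 n61709
theorem D62590 : act 4 n61709 = n62590 := rfl
theorem F279236 : act 0 n62590 = n61710 := d3_1 D62590 (iv D61710) D61709
theorem F279237 : act 1 n62590 = n61713 := d11_1 D62590 (iv D61713) (iv F275074)
theorem F279238 : act 2 n62590 = n61765 := d18_1 D62590 F275211 (iv F275075)
theorem F279239 : act 7 n62590 = n61757 := d32_2 (iv F275076) D62590 (iv D61757)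
def n62591 : Q := act 4 n61711
theorem D62591 : act 4 n61711 = n62591 := rfl
theorem F279240 : act 0 n62591 = n61712 := d3_1 D62591 (iv D61712) D61711
theorem F279241 : act 2 n62591 = n61717 := d18_1 D62591 (iv D61717) (iv F275080)
theorem F279242 : act 8 n62591 = n61713 := d33_2 (iv F275081) D62591 (iv D61713)
def n62592 : Q := act 3 n61713
theorem D62592 : act 3 n61713 = n62592 := rfl
theorem F279243 : act 0 n62592 = n61714 := d2_1 D62592 (iv D61714) (iv F275085)
def n62593 : Q := act 4 n61715
theorem D62593 : act 4 n61715 = n62593 := rfl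
theorem F279244 : act 0 n62593 = n61716 := d3_1 D62593 (iv D61716) D61715
theorem F279245 : act 9 n62593 = n61717 := d34_2 (iv F275089) D62593 (iv D61717)
def n62594 : Q := act 4 n61718
theorem D62594 : act 4 n61718 = n62594 := rfl
theorem F279246 : act 0 n62594 = n61719 := d3_1 D62594 (iv D61719) D61718
theorem F279247 : act 9 n62594 = n61745 := d34_2 (iv F275096) D62594 (iv D61745)
def n62595 : Q := act 3 n61719
theorem D62595 : act 3 n61719 = n62595 := rfl
theorem F279248 : act 1 n62595 = n61720 := d10_1 D62595 (iv D61720) (iv F275097)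
theorem F279249 : act 4 n62595 = n61722 := d24_2 D61719 D62595 (iv D61722) (iv D60631) (iv F270268)
theorem F279250 : act 9 n62595 = n61746 := d29_2 (iv F275098) D62595 (iv D61746)
def n62596 : Q := act 3 n61721
theorem D62596 : act 3 n61721 = n62596 := rfl
theorem F279251 : act 0 n62596 = n61722 := d2_1 D62596 (iv D61722) (iv F275102)
theorem F279252 : act 9 n62596 = n61749 := d29_2 (iv F275103) D62596 (iv D61749)
def n62597 : Q := act 2 n61722
theorem D62597 : act 2 n61722 = n62597 := rfl
theorem F279253 : act 1 n62597 = n62597 := d9_1 D62597 (iv D62597) F275104 F270280 (iv F275104)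
theorem F279254 : act 9 n62597 = n61750 := d23_2 (iv F275105) D62597 (iv D61750)
def n62598 : Q := act 4 n61723
theorem D62598 : act 4 n61723 = n62598 := rfl
theorem F279255 : act 0 n62598 = n61724 := d3_1 D62598 (iv D61724) D61723
def n62599 : Q := act 4 n61725
theorem D62599 : act 4 n61725 = n62599 := rfl
theorem F279256 : act 0 n62599 = n61726 := d3_1 D62599 (iv D61726) D61725
theorem F279257 : act 2 n62599 = n61740 := d18_1 D62599 (iv D61740) (iv F275108)
theorem F279258 : act 8 n62599 = n61728 := d33_2 (iv F275110) D62599 (iv D61728)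
def n62600 : Q := act 3 n61726
theorem D62600 : act 3 n61726 = n62600 := rfl
theorem F279259 : act 1 n62600 = n61727 := d10_1 D62600 (iv D61727) (iv F275111)
def n62601 : Q := act 8 n61727
theorem D62601 : act 8 n61727 = n62601 := rfl
theorem F279260 : act 2 n62601 = n62601 := d22_1 D62601 (iv D62601) F275114
theorem F279261 : act 3 n62601 = n61730 := d28_1 D62601 (iv D61730) (iv D60643) (iv F270296) D61727
theorem F279262 : act 5 n62601 = n61736 := d37_1 D62601 (iv F276050) F276047
def n62602 : Q := act 3 n61728
theorem D62602 : act 3 n61728 = n62602 := rfl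
theorem F279263 : act 0 n62602 = n61729 := d2_1 D62602 (iv D61729) (iv F275115)
theorem F279264 : act 5 n62602 = n61744 := d25_2 F276056 D62602 (iv F276055)
theorem F279265 : act 9 n62602 = n61758 := d29_2 (iv F275117) D62602 (iv D61758)
def n62603 : Q := act 8 n61729
theorem D62603 : act 8 n61729 = n62603 := rfl
theorem F279266 : act 1 n62603 = n61730 := d15_1 D62603 (iv D61730) (iv F275118)
theorem F279267 : act 5 n62603 = n61735 := d37_1 D62603 F275137 (iv F275119)
def n62604 : Q := act 9 n61730
theorem D62604 : act 9 n61730 = n62604 := rfl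
theorem F279268 : act 2 n62604 = n61733 := d23_1 D62604 F275132 (iv F275121)
theorem F279269 : act 5 n62604 = n61732 := d38_1 D62604 F275129 (iv F275122)
theorem F279270 : act 8 n62604 = n61760 := d44_1 D62604 (iv D61760) (iv D60684) (iv F270307) D61730
def n62605 : Q := act 0 n61731
theorem D62605 : act 0 n61731 = n62605 := rfl
theorem F279271 : act 6 n62605 = n61737 := d5_2 (iv F275123) D62605 (iv D61737)
theorem F279272 : act 8 n62605 = n61761 := d7_2 (iv F275124) D62605 (iv D61761)
theorem F279273 : act 9 n62605 = n61734 := d8_2 (iv F275125) D62605 (iv D61734)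
def n62606 : Q := act 4 n61731
theorem D62606 : act 4 n61731 = n62606 := rfl
theorem F279274 : act 1 n62606 = n61732 := d11_1 D62606 (iv D61732) D61731
theorem F279275 : act 6 n62606 = n61738 := d31_2 (iv F275123) D62606 (iv D61738)
theorem F279276 : act 8 n62606 = n61762 := d33_2 (iv F275124) D62606 (iv D61762)
theorem F279277 : act 9 n62606 = n61735 := d34_2 (iv F275125) D62606 (iv D61735)
def n62607 : Q := act 3 n61732
theorem D62607 : act 3 n61732 = n62607 := rfl
theorem F279278 : act 2 n62607 = n62607 := d17_1 D62607 (iv D62607) F275126 F270311 (iv F275126)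
theorem F279279 : act 6 n62607 = n61739 := d26_2 (iv F275127) D62607 (iv D61739)
theorem F279280 : act 9 n62607 = n61736 := d29_2 (iv F275129) D62607 (iv D61736)
def n62608 : Q := act 4 n61734
theorem D62608 : act 4 n61734 = n62608 := rfl
theorem F279281 : act 0 n62608 = n61735 := d3_1 D62608 (iv D61735) D61734
theorem F279282 : act 6 n62608 = n61740 := d31_2 (iv F275133) D62608 (iv D61740)
theorem F279283 : act 8 n62608 = n61744 := d33_2 (iv F275134) D62608 (iv D61744)
def n62609 : Q := act 3 n61735
theorem D62609 : act 3 n61735 = n62609 := rfl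
theorem F279284 : act 1 n62609 = n61736 := d10_1 D62609 (iv D61736) (iv F275135)
theorem F279285 : act 6 n62609 = n61741 := d26_2 (iv F275136) D62609 (iv D61741)
def n62610 : Q := act 4 n61737
theorem D62610 : act 4 n61737 = n62610 := rfl
theorem F279286 : act 0 n62610 = n61738 := d3_1 D62610 (iv D61738) D61737
theorem F279287 : act 8 n62610 = n61764 := d33_2 (iv F275141) D62610 (iv D61764)
theorem F279288 : act 9 n62610 = n61740 := d34_2 (iv F275142) D62610 (iv D61740)
def n62611 : Q := act 3 n61738
theorem D62611 : act 3 n61738 = n62611 := rfl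
theorem F279289 : act 1 n62611 = n61739 := d10_1 D62611 (iv D61739) (iv F275143)
theorem F279290 : act 9 n62611 = n61741 := d29_2 (iv F275145) D62611 (iv D61741)
def n62612 : Q := act 3 n61740
theorem D62612 : act 3 n61740 = n62612 := rfl
theorem F279291 : act 0 n62612 = n61741 := d2_1 D62612 (iv D61741) (iv F275148)
def n62613 : Q := act 2 n61741
theorem D62613 : act 2 n61741 = n62613 := rfl
theorem F279292 : act 1 n62613 = n62613 := d9_1 D62613 (iv D62613) F275150 F270332 (iv F275150)
def n62614 : Q := act 4 n61742
theorem D62614 : act 4 n61742 = n62614 := rfl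
theorem F279293 : act 0 n62614 = n61743 := d3_1 D62614 (iv D61743) D61742
theorem F279294 : act 3 n62614 = n61764 := d24_1 D62614 (iv D61764) (iv F271300) F271301 (iv F275151)
theorem F279295 : act 7 n62614 = n61744 := d32_2 (iv F275152) D62614 (iv D61744)
theorem F279296 : act 9 n62614 = n61765 := d34_2 (iv F275153) D62614 F275211
def n62615 : Q := act 3 n61745
theorem D62615 : act 3 n61745 = n62615 := rfl
theorem F279297 : act 0 n62615 = n61746 := d2_1 D62615 (iv D61746) (iv F275161)
theorem F279298 : act 4 n62615 = n61749 := d24_2 D61745 D62615 (iv D61749) (iv D60667) (iv F270352)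
def n62616 : Q := act 2 n61746
theorem D62616 : act 2 n61746 = n62616 := rfl
theorem F279299 : act 1 n62616 = n62616 := d9_1 D62616 (iv D62616) F275162 F270355 (iv F275162)
theorem F279300 : act 4 n62616 = n61750 := d18_2 (iv F275163) D62616 (iv D61750)
def n62617 : Q := act 3 n61747
theorem D62617 : act 3 n61747 = n62617 := rfl
theorem F279301 : act 0 n62617 = n61748 := d2_1 D62617 (iv D61748) (iv F275164)
theorem F279302 : act 6 n62617 = n61749 := d26_2 (iv F275165) D62617 (iv D61749)
def n62618 : Q := act 2 n61748
theorem D62618 : act 2 n61748 = n62618 := rfl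
theorem F279303 : act 1 n62618 = n62618 := d9_1 D62618 (iv D62618) F275166 F270361 (iv F275166)
theorem F279304 : act 6 n62618 = n61750 := d20_2 (iv F275167) D62618 (iv D61750)
def n62619 : Q := act 2 n61749
theorem D62619 : act 2 n61749 = n62619 := rfl
theorem F279305 : act 0 n62619 = n61750 := d1_1 D62619 (iv D61750) (iv F275168)
def n62620 : Q := act 8 n61749
theorem D62620 : act 8 n61749 = n62620 := rfl
theorem F279306 : act 0 n62620 = n61751 := d7_1 D62620 (iv D61751) (iv F275168)
def n62621 : Q := act 8 n61750
theorem D62621 : act 8 n61750 = n62621 := rfl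
theorem F279307 : act 1 n62621 = n62621 := d15_1 D62621 (iv D62621) F275169
theorem F279308 : act 2 n62621 = n61751 := d22_1 D62621 (iv D61751) D61750
def n62622 : Q := act 3 n61752
theorem D62622 : act 3 n61752 = n62622 := rfl
theorem F279309 : act 0 n62622 = n61753 := d2_1 D62622 (iv D61753) (iv F275171)
theorem F279310 : act 5 n62622 = n61765 := d25_2 (iv F275173) D62622 (iv D61765)
theorem F279311 : act 7 n62622 = n61758 := d27_2 (iv F275174) D62622 (iv D61758)
def n62623 : Q := act 6 n61754
theorem D62623 : act 6 n61754 = n62623 := rfl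
theorem F279312 : act 0 n62623 = n61755 := d5_1 D62623 (iv D61755) (iv F275179)
theorem F279313 : act 2 n62623 = n61763 := d20_1 D62623 F275206 (iv F275180)
theorem F279314 : act 4 n62623 = n61756 := d31_1 D62623 (iv D61756) (iv F275181)
theorem F279315 : act 8 n62623 = n61757 := d40_2 (iv F275183) D62623 F275193
def n62624 : Q := act 8 n61758
theorem D62624 : act 8 n61758 = n62624 := rfl
theorem F279316 : act 0 n62624 = n61759 := d7_1 D62624 (iv D61759) (iv F275194)
theorem F279317 : act 5 n62624 = n61763 := d37_1 D62624 F275207 (iv F275195)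
def n62625 : Q := act 9 n61759
theorem D62625 : act 9 n61759 = n62625 := rfl
theorem F279318 : act 1 n62625 = n61760 := d16_1 D62625 (iv D61760) (iv F275196)
theorem F279319 : act 5 n62625 = n61762 := d38_1 D62625 F275204 (iv F275197)
def n62626 : Q := act 4 n61761
theorem D62626 : act 4 n61761 = n62626 := rfl
theorem F279320 : act 0 n62626 = n61762 := d3_1 D62626 (iv D61762) D61761
theorem F279321 : act 6 n62626 = n61764 := d31_2 (iv F275200) D62626 (iv D61764)
theorem F279322 : act 9 n62626 = n61763 := d34_2 (iv F275201) D62626 (iv D61763)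
def n62627 : Q := act 4 n61766
theorem D62627 : act 4 n61766 = n62627 := rfl
theorem F279323 : act 0 n62627 = n61767 := d3_1 D62627 (iv D61767) D61766
theorem F279324 : act 1 n62627 = n62154 := d11_1 D62627 (iv D62154) (iv F275213)
theorem F279325 : act 2 n62627 = n62046 := d18_1 D62627 (iv D62046) (iv F275214)
theorem F279326 : act 3 n62627 = n62566 := d24_1 D62627 F279182 F274959 (iv F273180) (iv F275215)
theorem F279327 : act 5 n62627 = n61774 := d30_2 (iv F275216) D62627 (iv D61774) F270546 (iv F270455)
theorem F279328 : act 6 n62627 = n62082 := d31_2 (iv F275217) D62627 (iv D62082)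
theorem F279329 : act 7 n62627 = n62201 := d32_2 (iv F275218) D62627 (iv D62201)
theorem F279330 : act 8 n62627 = n62469 := d33_2 (iv F275219) D62627 (iv D62469)
theorem F279331 : act 9 n62627 = n61770 := d34_2 (iv F275220) D62627 (iv D61770)
def n62628 : Q := act 3 n61770
theorem D62628 : act 3 n61770 = n62628 := rfl
theorem F279332 : act 0 n62628 = n61771 := d2_1 D62628 (iv D61771) (iv F275247)
theorem F279333 : act 1 n62628 = n62180 := d10_1 D62628 F277697 (iv F275248)
theorem F279334 : act 2 n62628 = n62567 := d17_1 D62628 F279184 F277037 (iv D62052) (iv F275249)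
theorem F279335 : act 4 n62628 = n62555 := d24_2 D61770 D62628 F279149 (iv F275241) F275240
theorem F279336 : act 5 n62628 = n61777 := d25_2 (iv F275250) D62628 (iv D61777)
theorem F279337 : act 6 n62628 = n62095 := d26_2 (iv F275251) D62628 (iv D62095)
theorem F279338 : act 7 n62628 = n62547 := d27_2 (iv F275252) D62628 F279128
theorem F279339 : act 9 n62628 = n62566 := d29_2 F279331 D62628 (iv F279326)
def n62629 : Q := act 8 n61771
theorem D62629 : act 8 n61771 = n62629 := rfl
theorem F279340 : act 1 n62629 = n61772 := d15_1 D62629 (iv D61772) (iv F275254)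
theorem F279341 : act 2 n62629 = n62272 := d22_1 D62629 F278114 (iv F275255)
theorem F279342 : act 3 n62629 = n61872 := d28_1 D62629 (iv D61872) (iv D60806) (iv F270502) D61771
theorem F279343 : act 4 n62629 = n62554 := d33_1 D62629 F279147 (iv F275256)
theorem F279344 : act 5 n62629 = n61779 := d37_1 D62629 (iv D61779) (iv F275257)
theorem F279345 : act 6 n62629 = n62096 := d40_1 D62629 (iv D62096) (iv F275258)
theorem F279346 : act 7 n62629 = n62215 := d42_1 D62629 F277831 (iv F275259)
def n62630 : Q := act 9 n61772
theorem D62630 : act 9 n61772 = n62630 := rfl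
theorem F279347 : act 0 n62630 = n62175 := d8_1 D62630 F277669 (iv F275261)
theorem F279348 : act 2 n62630 = n61773 := d23_1 D62630 (iv D61773) (iv F275262)
theorem F279349 : act 3 n62630 = n61873 := d29_1 D62630 (iv D61873) (iv F275263)
theorem F279350 : act 4 n62630 = n62551 := d34_1 D62630 F279141 (iv F275264)
theorem F279351 : act 5 n62630 = n61780 := d38_1 D62630 (iv D61780) (iv F275265)
theorem F279352 : act 6 n62630 = n62097 := d41_1 D62630 (iv D62097) (iv F275266)
theorem F279353 : act 7 n62630 = n62032 := d43_1 D62630 F276904 (iv F275267)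
theorem F279354 : act 8 n62630 = n62559 := d44_1 D62630 F279164 F274942 (iv F270509) D61772
def n62631 : Q := act 2 n61777
theorem D62631 : act 2 n61777 = n62631 := rfl
theorem F279355 : act 0 n62631 = n61778 := d1_1 D62631 (iv D61778) (iv F275302)
theorem F279356 : act 1 n62631 = n62087 := d9_1 D62631 F277253 F272666 (iv F273098) (iv F275303)
theorem F279357 : act 3 n62631 = n62206 := d17_2 D61777 D62631 F277787 (iv D61194) (iv F270583)
theorem F279358 : act 4 n62631 = n62086 := d18_2 (iv F275304) D62631 F277245
theorem F279359 : act 5 n62631 = n62567 := d19_2 F279336 D62631 (iv F279334)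
theorem F279360 : act 6 n62631 = n62050 := d20_2 (iv F275305) D62631 F277018
theorem F279361 : act 7 n62631 = n62152 := d21_2 (iv F275306) D62631 F277556
theorem F279362 : act 9 n62631 = n62167 := d23_2 (iv F275307) D62631 F277624
theorem F279363 : act 8 n62270 = n62631 := d40_0 F279360 F277022 (iv F278109)
def n62632 : Q := act 8 n61777
theorem D62632 : act 8 n61777 = n62632 := rfl
theorem F279364 : act 0 n62632 = n61779 := d7_1 D62632 (iv D61779) (iv F275302)
theorem F279365 : act 1 n62632 = n62176 := d15_1 D62632 F277675 (iv F275303)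
theorem F279366 : act 2 n62632 = n62270 := d22_1 D62632 F279363 (iv D62631)
theorem F279367 : act 3 n62632 = n62013 := d28_1 D62632 (iv D62013) (iv D60969) (iv F270585) D61777
theorem F279368 : act 4 n62632 = n62168 := d33_1 D62632 F277632 (iv F275304)
theorem F279369 : act 6 n62632 = n62224 := d40_1 D62632 F277878 (iv F275305)
theorem F279370 : act 7 n62632 = n62214 := d42_1 D62632 F277827 (iv F275306)
def n62633 : Q := act 9 n61779
theorem D62633 : act 9 n61779 = n62633 := rfl
theorem F279371 : act 1 n62633 = n61780 := d16_1 D62633 (iv D61780) (iv F275316)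
theorem F279372 : act 2 n62633 = n62248 := d23_1 D62633 F278001 (iv F275317)
theorem F279373 : act 3 n62633 = n62014 := d29_1 D62633 (iv D62014) (iv F275318)
theorem F279374 : act 4 n62633 = n61876 := d34_1 D62633 F275931 (iv F275319)
theorem F279375 : act 6 n62633 = n61881 := d41_1 D62633 F275966 (iv F275320)
theorem F279376 : act 7 n62633 = n62031 := d43_1 D62633 F276899 (iv F275321)
theorem F279377 : act 8 n62633 = n62557 := d44_1 D62633 F279157 F274935 (iv F270590) D61779
def n62634 : Q := act 0 n61781
theorem D62634 : act 0 n61781 = n62634 := rfl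
theorem F279378 : act 1 n62634 = n61944 := d0_2 D61781 D62634 (iv D61944) (iv D60885) (iv F270612)
theorem F279379 : act 2 n62634 = n62211 := d1_2 (iv F275329) D62634 (iv D62211)
theorem F279380 : act 3 n62634 = n62417 := d2_2 (iv F275330) D62634 (iv D62417)
theorem F279381 : act 5 n62634 = n61783 := d4_2 (iv F275331) D62634 (iv D61783)
theorem F279382 : act 6 n62634 = n62181 := d5_2 (iv F275332) D62634 (iv D62181)
theorem F279383 : act 7 n62634 = n61800 := d6_2 (iv F275333) D62634 (iv D61800)
theorem F279384 : act 8 n62634 = n61814 := d7_2 (iv F275334) D62634 (iv D61814)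
theorem F279385 : act 9 n62634 = n61895 := d8_2 (iv F275335) D62634 (iv D61895)
def n62635 : Q := act 4 n61781
theorem D62635 : act 4 n61781 = n62635 := rfl
theorem F279386 : act 1 n62635 = n61782 := d11_1 D62635 (iv D61782) D61781
theorem F279387 : act 2 n62635 = n62212 := d18_1 D62635 (iv D62212) (iv F275329)
theorem F279388 : act 5 n62635 = n61918 := d30_2 (iv F275331) D62635 (iv D61918) F271490 (iv F270629)
theorem F279389 : act 6 n62635 = n62182 := d31_2 (iv F275332) D62635 (iv D62182)
theorem F279390 : act 7 n62635 = n61801 := d32_2 (iv F275333) D62635 (iv D61801)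
theorem F279391 : act 8 n62635 = n61815 := d33_2 (iv F275334) D62635 (iv D61815)
theorem F279392 : act 9 n62635 = n61896 := d34_2 (iv F275335) D62635 (iv D61896)
def n62636 : Q := act 3 n61782
theorem D62636 : act 3 n61782 = n62636 := rfl
theorem F279393 : act 0 n62636 = n61946 := d2_1 D62636 (iv D61946) (iv F275336)
theorem F279394 : act 2 n62636 = n62636 := d17_1 D62636 (iv D62636) F275337 F270621 (iv F275337)
theorem F279395 : act 4 n62636 = n62419 := d24_2 D61782 D62636 (iv D62419) (iv D61449) (iv F270613)
theorem F279396 : act 5 n62636 = n61919 := d25_2 (iv F275338) D62636 (iv D61919)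
theorem F279397 : act 6 n62636 = n62183 := d26_2 (iv F275339) D62636 (iv D62183)
theorem F279398 : act 7 n62636 = n61802 := d27_2 (iv F275340) D62636 (iv D61802)
theorem F279399 : act 9 n62636 = n61897 := d29_2 (iv F275342) D62636 (iv D61897)
def n62637 : Q := act 0 n61784
theorem D62637 : act 0 n61784 = n62637 := rfl
theorem F279400 : act 1 n62637 = n62388 := d0_2 D61784 D62637 (iv D62388) (iv D61418) (iv F270634)
theorem F279401 : act 2 n62637 = n61796 := d1_2 (iv F275351) D62637 (iv D61796)
theorem F279402 : act 3 n62637 = n61840 := d2_2 (iv F275352) D62637 (iv D61840)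
theorem F279403 : act 5 n62637 = n62114 := d4_2 (iv F275353) D62637 (iv D62114)
theorem F279404 : act 6 n62637 = n61832 := d5_2 (iv F275354) D62637 (iv D61832)
theorem F279405 : act 7 n62637 = n62265 := d6_2 (iv F275355) D62637 (iv D62265)
theorem F279406 : act 8 n62637 = n62119 := d7_2 (iv F275356) D62637 (iv D62119)
theorem F279407 : act 9 n62637 = n62465 := d8_2 (iv F275357) D62637 (iv D62465)
def n62638 : Q := act 4 n61784
theorem D62638 : act 4 n61784 = n62638 := rfl
theorem F279408 : act 1 n62638 = n61785 := d11_1 D62638 (iv D61785) D61784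
theorem F279409 : act 2 n62638 = n61797 := d18_1 D62638 (iv D61797) (iv F275351)
theorem F279410 : act 6 n62638 = n61833 := d31_2 (iv F275354) D62638 (iv D61833)
theorem F279411 : act 7 n62638 = n62266 := d32_2 (iv F275355) D62638 (iv D62266)
theorem F279412 : act 8 n62638 = n62120 := d33_2 (iv F275356) D62638 (iv D62120)
theorem F279413 : act 9 n62638 = n62466 := d34_2 (iv F275357) D62638 (iv D62466)
def n62639 : Q := act 3 n61785
theorem D62639 : act 3 n61785 = n62639 := rfl
theorem F279414 : act 0 n62639 = n62364 := d2_1 D62639 F278496 (iv F275358)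
theorem F279415 : act 2 n62639 = n61787 := d17_1 D62639 (iv D61787) F270650 (iv F270643) (iv F275359)
theorem F279416 : act 4 n62639 = n61842 := d24_2 D61785 D62639 (iv D61842) (iv D60775) (iv F270635)
theorem F279417 : act 6 n62639 = n61834 := d26_2 (iv F275360) D62639 (iv D61834)
theorem F279418 : act 7 n62639 = n62267 := d27_2 (iv F275361) D62639 (iv D62267)
theorem F279419 : act 9 n62639 = n62452 := d29_2 (iv F275363) D62639 F278811
theorem F279420 : act 8 n62325 = n62639 := d40_0 F279417 F275671 D62325
def n62640 : Q := act 5 n61785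
theorem D62640 : act 5 n61785 = n62640 := rfl
theorem F279421 : act 0 n62640 = n62390 := d4_1 D62640 (iv D62390) (iv F275358)
theorem F279422 : act 2 n62640 = n61786 := d19_1 D62640 (iv D61786) (iv F275359)
theorem F279423 : act 4 n62640 = n62117 := d30_1 D62640 (iv D62117) (iv D61092) (iv F270636) D61785
theorem F279424 : act 7 n62640 = n61937 := d36_2 (iv F275361) D62640 F276302
theorem F279425 : act 8 n62640 = n62122 := d37_2 (iv F275362) D62640 (iv D62122)
theorem F279426 : act 9 n62640 = n62454 := d38_2 (iv F275363) D62640 F278820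
def n62641 : Q := act 6 n61786
theorem D62641 : act 6 n61786 = n62641 := rfl
theorem F279427 : act 0 n62641 = n62111 := d5_1 D62641 F277382 (iv F275364)
theorem F279428 : act 1 n62641 = n61799 := d13_1 D62641 (iv D61799) (iv F275365)
theorem F279429 : act 3 n62641 = n61789 := d26_1 D62641 (iv D61789) (iv F275366)
theorem F279430 : act 4 n62641 = n62118 := d31_1 D62641 (iv D62118) (iv F275367)
theorem F279431 : act 5 n62641 = n61836 := d35_1 D62641 (iv D61836) (iv D60769) (iv F270644) D61786
theorem F279432 : act 7 n62641 = n61913 := d39_2 (iv F275368) D62641 (iv D61913) F271467 D60879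
theorem F279433 : act 8 n62641 = n62123 := d40_2 (iv F275369) D62641 (iv D62123)
theorem F279434 : act 9 n62641 = n62300 := d41_2 (iv F275370) D62641 F278233
def n62642 : Q := act 5 n61787
theorem D62642 : act 5 n61787 = n62642 := rfl
theorem F279435 : act 0 n62642 = n62110 := d4_1 D62642 F277377 (iv F275371)
theorem F279436 : act 1 n62642 = n61913 := d12_1 D62642 F276186 (iv F275372)
theorem F279437 : act 3 n62642 = n61788 := d25_1 D62642 (iv D61788) D61787
theorem F279438 : act 4 n62642 = n62450 := d30_1 D62642 F278804 F274392 (iv F271149) (iv F275373)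
theorem F279439 : act 6 n62642 = n61903 := d35_2 (iv F275374) D62642 (iv D61903) F271417 (iv F271136)
theorem F279440 : act 7 n62642 = n61799 := d36_2 (iv F275375) D62642 F275451
theorem F279441 : act 8 n62642 = n62319 := d37_2 F275377 D62642 F278317
theorem F279442 : act 9 n62642 = n62299 := d38_2 (iv F275376) D62642 F278227
def n62643 : Q := act 0 n61790
theorem D62643 : act 0 n61790 = n62643 := rfl
theorem F279443 : act 1 n62643 = n62494 := d0_2 D61790 D62643 (iv D62494) (iv D61559) (iv F270661)
theorem F279444 : act 2 n62643 = n62119 := d1_2 (iv F275394) D62643 (iv D62119)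
theorem F279445 : act 3 n62643 = n61820 := d2_2 (iv F275395) D62643 (iv D61820)
theorem F279446 : act 5 n62643 = n62106 := d4_2 (iv F275396) D62643 (iv D62106)
theorem F279447 : act 6 n62643 = n62436 := d5_2 (iv F275397) D62643 F278752
theorem F279448 : act 7 n62643 = n62605 := d6_2 (iv F275398) D62643 (iv D62605)
theorem F279449 : act 8 n62643 = n61796 := d7_2 (iv F275399) D62643 (iv D61796)
theorem F279450 : act 9 n62643 = n62302 := d8_2 (iv F275400) D62643 (iv D62302)
def n62644 : Q := act 4 n61790
theorem D62644 : act 4 n61790 = n62644 := rfl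
theorem F279451 : act 1 n62644 = n61791 := d11_1 D62644 (iv D61791) D61790
theorem F279452 : act 2 n62644 = n62120 := d18_1 D62644 (iv D62120) (iv F275394)
theorem F279453 : act 6 n62644 = n62437 := d31_2 (iv F275397) D62644 (iv D62437)
theorem F279454 : act 7 n62644 = n62606 := d32_2 (iv F275398) D62644 (iv D62606)
theorem F279455 : act 8 n62644 = n61797 := d33_2 (iv F275399) D62644 (iv D61797)
theorem F279456 : act 9 n62644 = n62303 := d34_2 (iv F275400) D62644 (iv D62303)
def n62645 : Q := act 3 n61791
theorem D62645 : act 3 n61791 = n62645 := rfl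
theorem F279457 : act 0 n62645 = n62496 := d2_1 D62645 (iv D62496) (iv F275401)
theorem F279458 : act 2 n62645 = n62645 := d17_1 D62645 (iv D62645) F275402 F270670 (iv F275402)
theorem F279459 : act 4 n62645 = n61822 := d24_2 D61791 D62645 (iv D61822) (iv D60754) (iv F270662)
theorem F279460 : act 6 n62645 = n62433 := d26_2 (iv F275403) D62645 F278741
theorem F279461 : act 7 n62645 = n62607 := d27_2 (iv F275404) D62645 (iv D62607)
theorem F279462 : act 8 n62645 = n61929 := d28_2 (iv F275405) D62645 (iv D61929) F271539 (iv F270695)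
theorem F279463 : act 9 n62645 = n62304 := d29_2 (iv F275406) D62645 (iv D62304)
def n62646 : Q := act 5 n61791
theorem D62646 : act 5 n61791 = n62646 := rfl
theorem F279464 : act 0 n62646 = n62497 := d4_1 D62646 (iv D62497) (iv F275401)
theorem F279465 : act 2 n62646 = n61792 := d19_1 D62646 (iv D61792) (iv F275402)
theorem F279466 : act 4 n62646 = n62109 := d30_1 D62646 (iv D62109) (iv D61085) (iv F270663) D61791
theorem F279467 : act 7 n62646 = n62604 := d36_2 (iv F275404) D62646 F279269
theorem F279468 : act 8 n62646 = n61798 := d37_2 (iv F275405) D62646 (iv D61798)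
theorem F279469 : act 9 n62646 = n62305 := d38_2 (iv F275406) D62646 (iv D62305)
def n62647 : Q := act 6 n61792
theorem D62647 : act 6 n61792 = n62647 := rfl
theorem F279470 : act 0 n62647 = n62450 := d5_1 D62647 F278805 (iv F275407)
theorem F279471 : act 1 n62647 = n62123 := d13_1 D62647 (iv D62123) (iv F275408)
theorem F279472 : act 3 n62647 = n62647 := d26_1 D62647 (iv D62647) F275409
theorem F279473 : act 4 n62647 = n62110 := d31_1 D62647 (iv D62110) (iv F275410)
theorem F279474 : act 5 n62647 = n62209 := d35_1 D62647 F277797 F273213 (iv F270671) D61792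
theorem F279475 : act 7 n62647 = n62319 := d39_2 (iv F275411) D62647 (iv D62319) (iv F275794) F275793
theorem F279476 : act 8 n62647 = n61799 := d40_2 (iv F275412) D62647 (iv D61799)
theorem F279477 : act 9 n62647 = n61926 := d41_2 (iv F275413) D62647 F276255
def n62648 : Q := act 0 n61793
theorem D62648 : act 0 n61793 = n62648 := rfl
theorem F279478 : act 1 n62648 = n62315 := d0_2 D61793 D62648 (iv D62315) (iv D61332) (iv F270675)
theorem F279479 : act 2 n62648 = n62114 := d1_2 (iv F275414) D62648 (iv D62114)
theorem F279480 : act 3 n62648 = n61800 := d2_2 (iv F275415) D62648 (iv D61800)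
theorem F279481 : act 5 n62648 = n61796 := d4_2 (iv F275416) D62648 (iv D61796)
theorem F279482 : act 6 n62648 = n62233 := d5_2 (iv F275417) D62648 (iv D62233)
theorem F279483 : act 7 n62648 = n62417 := d6_2 (iv F275418) D62648 (iv D62417)
theorem F279484 : act 8 n62648 = n62106 := d7_2 (iv F275419) D62648 (iv D62106)
theorem F279485 : act 9 n62648 = n62413 := d8_2 (iv F275420) D62648 (iv D62413)
def n62649 : Q := act 4 n61793
theorem D62649 : act 4 n61793 = n62649 := rfl
theorem F279486 : act 1 n62649 = n61794 := d11_1 D62649 (iv D61794) D61793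
theorem F279487 : act 2 n62649 = n62115 := d18_1 D62649 (iv D62115) (iv F275414)
theorem F279488 : act 6 n62649 = n62234 := d31_2 (iv F275417) D62649 (iv D62234)
theorem F279489 : act 7 n62649 = n62418 := d32_2 (iv F275418) D62649 (iv D62418)
theorem F279490 : act 8 n62649 = n62107 := d33_2 (iv F275419) D62649 (iv D62107)
theorem F279491 : act 9 n62649 = n62414 := d34_2 (iv F275420) D62649 (iv D62414)
def n62650 : Q := act 3 n61794
theorem D62650 : act 3 n61794 = n62650 := rfl
theorem F279492 : act 0 n62650 = n62317 := d2_1 D62650 (iv D62317) (iv F275421)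
theorem F279493 : act 2 n62650 = n62650 := d17_1 D62650 (iv D62650) F275422 F270684 (iv F275422)
theorem F279494 : act 4 n62650 = n61802 := d24_2 D61794 D62650 (iv D61802) (iv D60737) (iv F270676)
theorem F279495 : act 6 n62650 = n62235 := d26_2 (iv F275423) D62650 (iv D62235)
theorem F279496 : act 7 n62650 = n62419 := d27_2 (iv F275424) D62650 (iv D62419)
theorem F279497 : act 9 n62650 = n62415 := d29_2 (iv F275426) D62650 (iv D62415)
def n62651 : Q := act 5 n61794
theorem D62651 : act 5 n61794 = n62651 := rfl
theorem F279498 : act 0 n62651 = n62318 := d4_1 D62651 (iv D62318) (iv F275421)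
theorem F279499 : act 2 n62651 = n61795 := d19_1 D62651 (iv D61795) (iv F275422)
theorem F279500 : act 4 n62651 = n61798 := d30_1 D62651 (iv D61798) (iv D60733) (iv F270677) D61794
theorem F279501 : act 7 n62651 = n62420 := d36_2 (iv F275424) D62651 (iv D62420)
theorem F279502 : act 8 n62651 = n62109 := d37_2 (iv F275425) D62651 (iv D62109)
theorem F279503 : act 9 n62651 = n62416 := d38_2 (iv F275426) D62651 (iv D62416)
def n62652 : Q := act 6 n61795
theorem D62652 : act 6 n61795 = n62652 := rfl
theorem F279504 : act 0 n62652 = n62319 := d5_1 D62652 (iv D62319) (iv F275427)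
theorem F279505 : act 1 n62652 = n62118 := d13_1 D62652 (iv D62118) (iv F275428)
theorem F279506 : act 3 n62652 = n62652 := d26_1 D62652 (iv D62652) F275429
theorem F279507 : act 4 n62652 = n61799 := d31_1 D62652 (iv D61799) (iv F275430)
theorem F279508 : act 5 n62652 = n62237 := d35_1 D62652 (iv D62237) (iv D61245) (iv F270685) D61795
theorem F279509 : act 7 n62652 = n62450 := d39_2 (iv F275431) D62652 F278805 (iv F275581) F275580
theorem F279510 : act 8 n62652 = n62110 := d40_2 (iv F275432) D62652 (iv D62110)
theorem F279511 : act 9 n62652 = n62112 := d41_2 (iv F275433) D62652 F277388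
def n62653 : Q := act 4 n61796
theorem D62653 : act 4 n61796 = n62653 := rfl
theorem F279512 : act 0 n62653 = n61797 := d3_1 D62653 (iv D61797) D61796
theorem F279513 : act 1 n62653 = n62498 := d11_1 D62653 (iv D62498) (iv F275434)
theorem F279514 : act 3 n62653 = n61935 := d24_1 D62653 (iv D61935) F271560 (iv F270722) (iv F275435)
theorem F279515 : act 6 n62653 = n62462 := d31_2 (iv F275436) D62653 (iv D62462)
theorem F279516 : act 7 n62653 = n62626 := d32_2 (iv F275437) D62653 (iv D62626)
theorem F279517 : act 9 n62653 = n62467 := d34_2 (iv F275438) D62653 (iv D62467)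
def n62654 : Q := act 5 n61797
theorem D62654 : act 5 n61797 = n62654 := rfl
theorem F279518 : act 1 n62654 = n61798 := d12_1 D62654 (iv D61798) (iv F275439)
theorem F279519 : act 3 n62654 = n61936 := d25_1 D62654 (iv D61936) (iv F275440)
theorem F279520 : act 7 n62654 = n62625 := d36_2 (iv F275442) D62654 F279319
theorem F279521 : act 9 n62654 = n62468 := d38_2 (iv F275443) D62654 (iv D62468)
def n62655 : Q := act 6 n61798
theorem D62655 : act 6 n61798 = n62655 := rfl
theorem F279522 : act 0 n62655 = n62394 := d5_1 D62655 F278618 (iv F275444)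
theorem F279523 : act 2 n62655 = n61799 := d20_1 D62655 (iv D61799) (iv F275445)
theorem F279524 : act 3 n62655 = n61937 := d26_1 D62655 (iv D61937) (iv F275446)
theorem F279525 : act 5 n62655 = n62267 := d35_1 D62655 F278094 F273603 (iv F270696) D61798
theorem F279526 : act 9 n62655 = n62456 := d41_2 (iv F275448) D62655 F278829
def n62656 : Q := act 4 n61800
theorem D62656 : act 4 n61800 = n62656 := rfl
theorem F279527 : act 0 n62656 = n61801 := d3_1 D62656 (iv D61801) D61800
theorem F279528 : act 1 n62656 = n62328 := d11_1 D62656 (iv D62328) (iv F275453)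
theorem F279529 : act 2 n62656 = n62216 := d18_1 D62656 (iv D62216) (iv F275454)
theorem F279530 : act 5 n62656 = n61938 := d30_2 (iv F275455) D62656 (iv D61938) F271575 (iv F270722)
theorem F279531 : act 6 n62656 = n62241 := d31_2 (iv F275456) D62656 (iv D62241)
theorem F279532 : act 8 n62656 = n61826 := d33_2 (iv F275457) D62656 (iv D61826)
theorem F279533 : act 9 n62656 = n62469 := d34_2 (iv F275458) D62656 (iv D62469)
def n62657 : Q := act 3 n61801
theorem D62657 : act 3 n61801 = n62657 := rfl
theorem F279534 : act 1 n62657 = n61802 := d10_1 D62657 (iv D61802) (iv F275459)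
theorem F279535 : act 5 n62657 = n61939 := d25_2 (iv F275461) D62657 (iv D61939)
theorem F279536 : act 6 n62657 = n62242 := d26_2 (iv F275462) D62657 (iv D62242)
theorem F279537 : act 9 n62657 = n62470 := d29_2 (iv F275464) D62657 (iv D62470)
def n62658 : Q := act 8 n61802
theorem D62658 : act 8 n61802 = n62658 := rfl
theorem F279538 : act 0 n62658 = n62330 := d7_1 D62658 (iv D62330) (iv F275465)
theorem F279539 : act 2 n62658 = n62658 := d22_1 D62658 (iv D62658) F275466
theorem F279540 : act 3 n62658 = n61828 := d28_1 D62658 (iv D61828) (iv D60761) (iv F270718) D61802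
theorem F279541 : act 5 n62658 = n61940 := d37_1 D62658 (iv D61940) (iv F275467)
theorem F279542 : act 6 n62658 = n62243 := d40_1 D62658 (iv D62243) (iv F275468)
def n62659 : Q := act 0 n61804
theorem D62659 : act 0 n61804 = n62659 := rfl
theorem F279543 : act 1 n62659 = n62302 := d0_2 D61804 D62659 (iv D62302) (iv D61319) (iv F270734)
theorem F279544 : act 2 n62659 = n62474 := d1_2 (iv F275479) D62659 (iv D62474)
theorem F279545 : act 3 n62659 = n62605 := d2_2 (iv F275480) D62659 (iv D62605)
theorem F279546 : act 5 n62659 = n62295 := d4_2 (iv F275481) D62659 (iv D62295)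
theorem F279547 : act 6 n62659 = n62504 := d5_2 (iv F275482) D62659 (iv D62504)
theorem F279548 : act 7 n62659 = n61820 := d6_2 (iv F275483) D62659 (iv D61820)
theorem F279549 : act 8 n62659 = n61807 := d7_2 (iv F275484) D62659 (iv D61807)
theorem F279550 : act 9 n62659 = n62494 := d8_2 (iv F275485) D62659 (iv D62494)
def n62660 : Q := act 4 n61804
theorem D62660 : act 4 n61804 = n62660 := rfl
theorem F279551 : act 1 n62660 = n61805 := d11_1 D62660 (iv D61805) D61804
theorem F279552 : act 2 n62660 = n62475 := d18_1 D62660 (iv D62475) (iv F275479)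
theorem F279553 : act 6 n62660 = n62505 := d31_2 (iv F275482) D62660 (iv D62505)
theorem F279554 : act 7 n62660 = n61821 := d32_2 (iv F275483) D62660 (iv D61821)
theorem F279555 : act 8 n62660 = n61808 := d33_2 (iv F275484) D62660 (iv D61808)
theorem F279556 : act 9 n62660 = n62495 := d34_2 (iv F275485) D62660 (iv D62495)
def n62661 : Q := act 3 n61805
theorem D62661 : act 3 n61805 = n62661 := rfl
theorem F279557 : act 0 n62661 = n62304 := d2_1 D62661 (iv D62304) (iv F275486)
theorem F279558 : act 2 n62661 = n62661 := d17_1 D62661 (iv D62661) F275487 F270743 (iv F275487)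
theorem F279559 : act 4 n62661 = n62607 := d24_2 D61805 D62661 (iv D62607) (iv D61732) (iv F270735)
theorem F279560 : act 6 n62661 = n62506 := d26_2 (iv F275488) D62661 (iv D62506)
theorem F279561 : act 7 n62661 = n61822 := d27_2 (iv F275489) D62661 (iv D61822)
theorem F279562 : act 8 n62661 = n61951 := d28_2 (iv F275490) D62661 (iv D61951) F271638 (iv F270756)
theorem F279563 : act 9 n62661 = n62496 := d29_2 (iv F275491) D62661 (iv D62496)
theorem F279564 : act 5 n62427 = n62661 := d37_3 F279562 F276380 D62427
def n62662 : Q := act 5 n61805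
theorem D62662 : act 5 n61805 = n62662 := rfl
theorem F279565 : act 0 n62662 = n62305 := d4_1 D62662 (iv D62305) (iv F275486)
theorem F279566 : act 2 n62662 = n61806 := d19_1 D62662 (iv D61806) (iv F275487)
theorem F279567 : act 3 n62662 = n62427 := d25_1 D62662 F279564 (iv D62661)
theorem F279568 : act 4 n62662 = n62298 := d30_1 D62662 (iv D62298) (iv D61313) (iv F270736) D61805
theorem F279569 : act 7 n62662 = n61823 := d36_2 (iv F275489) D62662 (iv D61823)
theorem F279570 : act 8 n62662 = n61809 := d37_2 (iv F275490) D62662 (iv D61809)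
theorem F279571 : act 9 n62662 = n62497 := d38_2 (iv F275491) D62662 (iv D62497)
def n62663 : Q := act 6 n61806
theorem D62663 : act 6 n61806 = n62663 := rfl
theorem F279572 : act 0 n62663 = n61926 := d5_1 D62663 F276255 (iv F275492)
theorem F279573 : act 1 n62663 = n62256 := d13_1 D62663 F278037 (iv F275493)
theorem F279574 : act 3 n62663 = n62663 := d26_1 D62663 (iv D62663) F275494
theorem F279575 : act 4 n62663 = n62299 := d31_1 D62663 (iv D62299) (iv F275495)
theorem F279576 : act 5 n62663 = n62451 := d35_1 D62663 F278808 F274396 (iv F270744) D61806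
theorem F279577 : act 7 n62663 = n62112 := d39_2 (iv F275496) D62663 F277388 F274261 (iv F270829)
theorem F279578 : act 8 n62663 = n61810 := d40_2 (iv F275497) D62663 (iv D61810)
theorem F279579 : act 9 n62663 = n62450 := d41_2 (iv F275498) D62663 F278805
def n62664 : Q := act 4 n61807
theorem D62664 : act 4 n61807 = n62664 := rfl
theorem F279580 : act 0 n62664 = n61808 := d3_1 D62664 (iv D61808) D61807
theorem F279581 : act 1 n62664 = n62614 := d11_1 D62664 (iv D62614) (iv F275499)
theorem F279582 : act 2 n62664 = n62480 := d18_1 D62664 (iv D62480) (iv F275500)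
theorem F279583 : act 3 n62664 = n61952 := d24_1 D62664 (iv D61952) F271641 (iv F270800) (iv F275501)
theorem F279584 : act 6 n62664 = n62529 := d31_2 (iv F275503) D62664 (iv D62529)
theorem F279585 : act 7 n62664 = n61824 := d32_2 (iv F275504) D62664 (iv D61824)
theorem F279586 : act 9 n62664 = n61837 := d34_2 (iv F275505) D62664 (iv D61837)
def n62665 : Q := act 5 n61808
theorem D62665 : act 5 n61808 = n62665 := rfl
theorem F279587 : act 1 n62665 = n61809 := d12_1 D62665 (iv D61809) (iv F275506)
theorem F279588 : act 2 n62665 = n62252 := d19_1 D62665 F278018 (iv F275507)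
theorem F279589 : act 3 n62665 = n61953 := d25_1 D62665 (iv D61953) (iv F275508)
theorem F279590 : act 4 n62665 = n62473 := d30_1 D62665 (iv D62473) (iv D61526) (iv F270750) D61808
theorem F279591 : act 7 n62665 = n61825 := d36_2 (iv F275510) D62665 (iv D61825)
theorem F279592 : act 9 n62665 = n61838 := d38_2 (iv F275511) D62665 (iv D61838)
def n62666 : Q := act 6 n61809
theorem D62666 : act 6 n61809 = n62666 := rfl
theorem F279593 : act 0 n62666 = n61924 := d5_1 D62666 F276247 (iv F275512)
theorem F279594 : act 2 n62666 = n61810 := d20_1 D62666 (iv D61810) (iv F275513)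
theorem F279595 : act 3 n62666 = n61921 := d26_1 D62666 F276233 (iv F275514)
theorem F279596 : act 4 n62666 = n62297 := d31_1 D62666 F278218 (iv F275515)
theorem F279597 : act 5 n62666 = n62531 := d35_1 D62666 (iv D62531) (iv D61605) (iv F270757) D61809
theorem F279598 : act 7 n62666 = n62108 := d39_2 (iv F275516) D62666 F277371 F274339 (iv F270846)
theorem F279599 : act 9 n62666 = n61839 := d41_2 (iv F275517) D62666 (iv D61839)
def n62667 : Q := act 0 n61811
theorem D62667 : act 0 n61811 = n62667 := rfl
theorem F279600 : act 1 n62667 = n62342 := d0_2 D61811 D62667 (iv D62342) (iv D61358) (iv F270774)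
theorem F279601 : act 2 n62667 = n62030 := d1_2 (iv F275525) D62667 (iv D62030)
theorem F279602 : act 3 n62667 = n62465 := d2_2 (iv F275526) D62667 (iv D62465)
theorem F279603 : act 5 n62667 = n62144 := d4_2 (iv F275527) D62667 (iv D62144)
theorem F279604 : act 6 n62667 = n61814 := d5_2 (iv F275528) D62667 (iv D61814)
theorem F279605 : act 7 n62667 = n62247 := d6_2 (iv F275529) D62667 (iv D62247)
theorem F279606 : act 8 n62667 = n62181 := d7_2 (iv F275530) D62667 (iv D62181)
theorem F279607 : act 9 n62667 = n61840 := d8_2 (iv F275531) D62667 (iv D61840)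
def n62668 : Q := act 4 n61811
theorem D62668 : act 4 n61811 = n62668 := rfl
theorem F279608 : act 1 n62668 = n61812 := d11_1 D62668 (iv D61812) D61811
theorem F279609 : act 2 n62668 = n62031 := d18_1 D62668 (iv D62031) (iv F275525)
theorem F279610 : act 6 n62668 = n61815 := d31_2 (iv F275528) D62668 (iv D61815)
theorem F279611 : act 7 n62668 = n62248 := d32_2 (iv F275529) D62668 (iv D62248)
theorem F279612 : act 8 n62668 = n62182 := d33_2 (iv F275530) D62668 (iv D62182)
theorem F279613 : act 9 n62668 = n61841 := d34_2 (iv F275531) D62668 (iv D61841)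
def n62669 : Q := act 3 n61812
theorem D62669 : act 3 n61812 = n62669 := rfl
theorem F279614 : act 0 n62669 = n62344 := d2_1 D62669 (iv D62344) (iv F275532)
theorem F279615 : act 2 n62669 = n61829 := d17_1 D62669 (iv D61829) F270867 (iv F270783) (iv F275533)
theorem F279616 : act 4 n62669 = n62452 := d24_2 D61812 D62669 F278811 (iv D61518) (iv F270775)
theorem F279617 : act 6 n62669 = n61816 := d26_2 (iv F275534) D62669 (iv D61816)
theorem F279618 : act 7 n62669 = n62249 := d27_2 (iv F275535) D62669 (iv D62249)
theorem F279619 : act 9 n62669 = n61842 := d29_2 (iv F275537) D62669 (iv D61842)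
theorem F279620 : act 5 n62405 = n62669 := d38_3 F279619 (iv F275720) D62405
def n62670 : Q := act 5 n61812
theorem D62670 : act 5 n61812 = n62670 := rfl
theorem F279621 : act 0 n62670 = n62194 := d4_1 D62670 F277739 (iv F275532)
theorem F279622 : act 2 n62670 = n61813 := d19_1 D62670 (iv D61813) (iv F275533)
theorem F279623 : act 3 n62670 = n62405 := d25_1 D62670 F279620 (iv D62669)
theorem F279624 : act 4 n62670 = n62147 := d30_1 D62670 (iv D62147) (iv D61121) (iv F270776) D61812
theorem F279625 : act 6 n62670 = n61956 := d35_2 (iv F275534) D62670 (iv D61956) F271662 (iv F270795)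
theorem F279626 : act 7 n62670 = n62250 := d36_2 (iv F275535) D62670 (iv D62250)
theorem F279627 : act 8 n62670 = n62184 := d37_2 (iv F275536) D62670 (iv D62184)
theorem F279628 : act 9 n62670 = n61843 := d38_2 (iv F275537) D62670 (iv D61843)
def n62671 : Q := act 4 n61814
theorem D62671 : act 4 n61814 = n62671 := rfl
theorem F279629 : act 0 n62671 = n61815 := d3_1 D62671 (iv D61815) D61814
theorem F279630 : act 1 n62671 = n62354 := d11_1 D62671 (iv D62354) (iv F275546)
theorem F279631 : act 2 n62671 = n62221 := d18_1 D62671 (iv D62221) (iv F275547)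
theorem F279632 : act 5 n62671 = n61957 := d30_2 (iv F275549) D62671 (iv D61957) F271673 (iv F270800)
theorem F279633 : act 7 n62671 = n61826 := d32_2 (iv F275550) D62671 (iv D61826)
theorem F279634 : act 9 n62671 = n61844 := d34_2 (iv F275551) D62671 (iv D61844)
def n62672 : Q := act 3 n61815
theorem D62672 : act 3 n61815 = n62672 := rfl
theorem F279635 : act 1 n62672 = n61816 := d10_1 D62672 (iv D61816) (iv F275552)
theorem F279636 : act 2 n62672 = n62439 := d17_1 D62672 F278765 F274777 (iv F273305) (iv F275553)
theorem F279637 : act 4 n62672 = n62453 := d24_2 D61815 D62672 F278815 (iv D61526) (iv F270789)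
theorem F279638 : act 5 n62672 = n61958 := d25_2 (iv F275554) D62672 (iv D61958)
theorem F279639 : act 7 n62672 = n61827 := d27_2 (iv F275555) D62672 (iv D61827)
theorem F279640 : act 9 n62672 = n61845 := d29_2 (iv F275556) D62672 (iv D61845)
def n62673 : Q := act 8 n61816
theorem D62673 : act 8 n61816 = n62673 := rfl
theorem F279641 : act 0 n62673 = n62356 := d7_1 D62673 (iv D62356) (iv F275557)
theorem F279642 : act 2 n62673 = n61830 := d22_1 D62673 (iv D61830) (iv F275558)
theorem F279643 : act 4 n62673 = n62454 := d33_1 D62673 (iv D62454) (iv F275559)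
theorem F279644 : act 5 n62673 = n61959 := d37_1 D62673 (iv D61959) (iv F275560)
theorem F279645 : act 7 n62673 = n61828 := d42_1 D62673 (iv D61828) (iv F275561)
theorem F279646 : act 9 n62673 = n62117 := d44_2 (iv F275562) D62673 F277406 F272793 F270972
def n62674 : Q := act 0 n61817
theorem D62674 : act 0 n61817 = n62674 := rfl
theorem F279647 : act 1 n62674 = n62605 := d0_2 D61817 D62674 (iv D62605) (iv D61731) (iv F270803)
theorem F279648 : act 2 n62674 = n61931 := d1_2 (iv F275563) D62674 (iv D61931)
theorem F279649 : act 3 n62674 = n62302 := d2_2 (iv F275564) D62674 (iv D62302)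
theorem F279650 : act 5 n62674 = n61922 := d4_2 (iv F275565) D62674 (iv D61922)
theorem F279651 : act 6 n62674 = n61949 := d5_2 (iv F275566) D62674 (iv D61949)
theorem F279652 : act 7 n62674 = n62494 := d6_2 (iv F275567) D62674 (iv D62494)
theorem F279653 : act 8 n62674 = n61858 := d7_2 (iv F275568) D62674 (iv D61858)
theorem F279654 : act 9 n62674 = n61820 := d8_2 (iv F275569) D62674 (iv D61820)
def n62675 : Q := act 4 n61817
theorem D62675 : act 4 n61817 = n62675 := rfl
theorem F279655 : act 1 n62675 = n61818 := d11_1 D62675 (iv D61818) D61817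
theorem F279656 : act 2 n62675 = n61932 := d18_1 D62675 (iv D61932) (iv F275563)
theorem F279657 : act 6 n62675 = n61950 := d31_2 (iv F275566) D62675 (iv D61950)
theorem F279658 : act 7 n62675 = n62495 := d32_2 (iv F275567) D62675 (iv D62495)
theorem F279659 : act 8 n62675 = n61859 := d33_2 (iv F275568) D62675 (iv D61859)
theorem F279660 : act 9 n62675 = n61821 := d34_2 (iv F275569) D62675 (iv D61821)
def n62676 : Q := act 3 n61818
theorem D62676 : act 3 n61818 = n62676 := rfl
theorem F279661 : act 0 n62676 = n62607 := d2_1 D62676 (iv D62607) (iv F275570)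
theorem F279662 : act 2 n62676 = n62676 := d17_1 D62676 (iv D62676) F275571 F270812 (iv F275571)
theorem F279663 : act 4 n62676 = n62304 := d24_2 D61818 D62676 (iv D62304) (iv D61320) (iv F270804)
theorem F279664 : act 6 n62676 = n61951 := d26_2 (iv F275572) D62676 (iv D61951)
theorem F279665 : act 7 n62676 = n62496 := d27_2 (iv F275573) D62676 (iv D62496)
theorem F279666 : act 8 n62676 = n62506 := d28_2 (iv F275574) D62676 (iv D62506) F274710 (iv F271053)
theorem F279667 : act 9 n62676 = n61822 := d29_2 (iv F275575) D62676 (iv D61822)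
def n62677 : Q := act 5 n61818
theorem D62677 : act 5 n61818 = n62677 := rfl
theorem F279668 : act 0 n62677 = n62604 := d4_1 D62677 F279269 (iv F275570)
theorem F279669 : act 2 n62677 = n61819 := d19_1 D62677 (iv D61819) (iv F275571)
theorem F279670 : act 4 n62677 = n61925 := d30_1 D62677 (iv D61925) (iv D60867) (iv F270805) D61818
theorem F279671 : act 6 n62677 = n62420 := d35_2 (iv F275572) D62677 (iv D62420) F274267 (iv F271636)
theorem F279672 : act 7 n62677 = n62497 := d36_2 (iv F275573) D62677 (iv D62497)
theorem F279673 : act 8 n62677 = n61860 := d37_2 (iv F275574) D62677 (iv D61860)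
theorem F279674 : act 9 n62677 = n61823 := d38_2 (iv F275575) D62677 (iv D61823)
def n62678 : Q := act 4 n61820
theorem D62678 : act 4 n61820 = n62678 := rfl
theorem F279675 : act 0 n62678 = n61821 := d3_1 D62678 (iv D61821) D61820
theorem F279676 : act 1 n62678 = n62608 := d11_1 D62678 (iv D62608) (iv F275584)
theorem F279677 : act 2 n62678 = n62487 := d18_1 D62678 (iv D62487) (iv F275585)
theorem F279678 : act 6 n62678 = n62429 := d31_2 (iv F275587) D62678 F278730
theorem F279679 : act 8 n62678 = n61824 := d33_2 (iv F275588) D62678 (iv D61824)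
def n62679 : Q := act 3 n61821
theorem D62679 : act 3 n61821 = n62679 := rfl
theorem F279680 : act 1 n62679 = n61822 := d10_1 D62679 (iv D61822) (iv F275589)
theorem F279681 : act 6 n62679 = n62431 := d26_2 (iv F275591) D62679 F278734
theorem F279682 : act 8 n62679 = n61969 := d28_2 (iv F275592) D62679 (iv D61969) F271737 (iv F270839)
def n62680 : Q := act 5 n61821
theorem D62680 : act 5 n61821 = n62680 := rfl
theorem F279683 : act 1 n62680 = n61823 := d12_1 D62680 (iv D61823) (iv F275589)
theorem F279684 : act 2 n62680 = n62255 := d19_1 D62680 F278033 (iv F275590)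
theorem F279685 : act 4 n62680 = n62485 := d30_1 D62680 (iv D62485) (iv D61540) (iv F270818) D61821
theorem F279686 : act 6 n62680 = n62423 := d35_2 (iv F275591) D62680 (iv D62423) F274276 D61460
theorem F279687 : act 8 n62680 = n61825 := d37_2 (iv F275592) D62680 (iv D61825)
def n62681 : Q := act 5 n61822
theorem D62681 : act 5 n61822 = n62681 := rfl
theorem F279688 : act 0 n62681 = n62601 := d4_1 D62681 F279262 (iv F275593)
theorem F279689 : act 2 n62681 = n62681 := d19_1 D62681 (iv D62681) F275594
theorem F279690 : act 3 n62681 = n61823 := d25_1 D62681 (iv D61823) D61822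
theorem F279691 : act 6 n62681 = n62424 := d35_2 (iv F275595) D62681 (iv D62424) F274279 D61461
theorem F279692 : act 7 n62681 = n62427 := d36_2 F279561 D62681 F279564
theorem F279693 : act 8 n62681 = n61971 := d37_2 (iv F275596) D62681 (iv D61971)
def n62682 : Q := act 5 n61824
theorem D62682 : act 5 n61824 = n62682 := rfl
theorem F279694 : act 0 n62682 = n61825 := d4_1 D62682 (iv D61825) (iv F275602)
theorem F279695 : act 1 n62682 = n62602 := d12_1 D62682 F279264 (iv F275603)
theorem F279696 : act 2 n62682 = n62254 := d19_1 D62682 F278029 (iv F275604)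
theorem F279697 : act 3 n62682 = n61972 := d25_1 D62682 (iv D61972) (iv F275605)
theorem F279698 : act 4 n62682 = n62486 := d30_1 D62682 (iv D62486) (iv D61543) (iv F270834) D61824
theorem F279699 : act 6 n62682 = n62440 := d35_2 (iv F275606) D62682 (iv D62440) F274342 D61475
theorem F279700 : act 9 n62682 = n61869 := d38_2 (iv F275607) D62682 (iv D61869)
def n62683 : Q := act 3 n61826
theorem D62683 : act 3 n61826 = n62683 := rfl
theorem F279701 : act 0 n62683 = n61827 := d2_1 D62683 (iv D61827) (iv F275614)
theorem F279702 : act 1 n62683 = n62357 := d10_1 D62683 (iv D62357) (iv F275615)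
theorem F279703 : act 2 n62683 = n62440 := d17_1 D62683 F278770 F274859 (iv F273311) (iv F275616)
theorem F279704 : act 4 n62683 = n62446 := d24_2 D61826 D62683 F278793 (iv D61543) (iv F270850)
theorem F279705 : act 5 n62683 = n61976 := d25_2 (iv F275617) D62683 (iv D61976)
theorem F279706 : act 6 n62683 = n62254 := d26_2 (iv F275618) D62683 (iv D62254)
theorem F279707 : act 9 n62683 = n61871 := d29_2 (iv F275619) D62683 (iv D61871)
def n62684 : Q := act 8 n61827
theorem D62684 : act 8 n61827 = n62684 := rfl
theorem F279708 : act 1 n62684 = n61828 := d15_1 D62684 (iv D61828) (iv F275620)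
theorem F279709 : act 2 n62684 = n62423 := d22_1 D62684 F278717 (iv F275621)
theorem F279710 : act 4 n62684 = n62455 := d33_1 D62684 (iv D62455) (iv F275622)
theorem F279711 : act 5 n62684 = n61977 := d37_1 D62684 (iv D61977) (iv F275623)
theorem F279712 : act 6 n62684 = n62255 := d40_1 D62684 (iv D62255) (iv F275624)
def n62685 : Q := act 9 n61828
theorem D62685 : act 9 n61828 = n62685 := rfl
theorem F279713 : act 0 n62685 = n62359 := d8_1 D62685 (iv D62359) (iv F275626)
theorem F279714 : act 2 n62685 = n61831 := d23_1 D62685 (iv D61831) (iv F275627)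
theorem F279715 : act 4 n62685 = n61937 := d34_1 D62685 F276303 (iv F275628)
theorem F279716 : act 5 n62685 = n61978 := d38_1 D62685 (iv D61978) (iv F275629)
theorem F279717 : act 6 n62685 = n61934 := d41_1 D62685 F276293 (iv F275630)
theorem F279718 : act 7 n62685 = n62117 := d43_1 D62685 (iv F279646) F279645
theorem F279719 : act 8 n62685 = n61873 := d44_1 D62685 (iv D61873) (iv D60807) (iv F270864) D61828
def n62686 : Q := act 8 n61829
theorem D62686 : act 8 n61829 = n62686 := rfl
theorem F279720 : act 0 n62686 = n62311 := d7_1 D62686 F278281 (iv F275631)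
theorem F279721 : act 1 n62686 = n62112 := d15_1 D62686 (iv D62112) (iv F275632)
theorem F279722 : act 3 n62686 = n62686 := d28_1 D62686 (iv D62686) (iv D61829) F270870 D61829
theorem F279723 : act 4 n62686 = n62300 := d33_1 D62686 F278235 (iv F275633)
theorem F279724 : act 5 n62686 = n62365 := d37_1 D62686 F278504 (iv F275634)
theorem F279725 : act 6 n62686 = n61830 := d40_1 D62686 (iv D61830) (iv F275635)
theorem F279726 : act 7 n62686 = n62256 := d42_1 D62686 (iv D62256) (iv F275636)
theorem F279727 : act 9 n62686 = n62118 := d44_2 (iv F275637) D62686 F277409 F272796 (iv F271152)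
def n62687 : Q := act 4 n61832
theorem D62687 : act 4 n61832 = n62687 := rfl
theorem F279728 : act 0 n62687 = n61833 := d3_1 D62687 (iv D61833) D61832
theorem F279729 : act 1 n62687 = n62438 := d11_1 D62687 (iv D62438) (iv F275653)
theorem F279730 : act 2 n62687 = n62462 := d18_1 D62687 (iv D62462) (iv F275654)
theorem F279731 : act 7 n62687 = n61865 := d32_2 (iv F275657) D62687 (iv D61865)
theorem F279732 : act 8 n62687 = n62515 := d33_2 (iv F275658) D62687 (iv D62515)
theorem F279733 : act 9 n62687 = n62472 := d34_2 (iv F275659) D62687 (iv D62472)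
def n62688 : Q := act 3 n61833
theorem D62688 : act 3 n61833 = n62688 := rfl
theorem F279734 : act 1 n62688 = n61834 := d10_1 D62688 (iv D61834) (iv F275660)
theorem F279735 : act 2 n62688 = n62491 := d17_1 D62688 (iv D62491) F274646 (iv F274488) (iv F275661)
theorem F279736 : act 4 n62688 = n61845 := d24_2 D61833 D62688 (iv D61845) (iv D60778) (iv F270902)
theorem F279737 : act 7 n62688 = n61866 := d27_2 (iv F275662) D62688 (iv D61866)
theorem F279738 : act 9 n62688 = n62453 := d29_2 (iv F275664) D62688 F278815
theorem F279739 : act 5 n62313 = n62688 := d38_3 F279738 F278816 (iv F278293)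
theorem F279740 : act 8 n62688 = n62322 := d37_2 (iv F278292) F279739 (iv D62322)
def n62689 : Q := act 5 n61833
theorem D62689 : act 5 n61833 = n62689 := rfl
theorem F279741 : act 1 n62689 = n61835 := d12_1 D62689 (iv D61835) (iv F275660)
theorem F279742 : act 2 n62689 = n62269 := d19_1 D62689 F278104 (iv F275661)
theorem F279743 : act 3 n62689 = n62313 := d25_1 D62689 F279739 (iv D62688)
theorem F279744 : act 4 n62689 = n61838 := d30_1 D62689 (iv D61838) (iv D60771) (iv F270903) D61833
theorem F279745 : act 7 n62689 = n61867 := d36_2 (iv F275662) D62689 (iv D61867)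
theorem F279746 : act 8 n62689 = n62517 := d37_2 (iv F275663) D62689 (iv D62517)
theorem F279747 : act 9 n62689 = n62473 := d38_2 (iv F275664) D62689 (iv D62473)
def n62690 : Q := act 6 n61835
theorem D62690 : act 6 n61835 = n62690 := rfl
theorem F279748 : act 0 n62690 = n62108 := d5_1 D62690 F277371 (iv F275672)
theorem F279749 : act 2 n62690 = n61836 := d20_1 D62690 (iv D61836) (iv F275673)
theorem F279750 : act 3 n62690 = n61902 := d26_1 D62690 F276118 (iv F275674)
theorem F279751 : act 4 n62690 = n61839 := d31_1 D62690 (iv D61839) (iv F275675)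
theorem F279752 : act 7 n62690 = n61924 := d39_2 (iv F275676) D62690 F276247 F274653 (iv F271104)
theorem F279753 : act 8 n62690 = n62457 := d40_2 (iv F275677) D62690 F278832
theorem F279754 : act 9 n62690 = n62297 := d41_2 (iv F275678) D62690 F278218
def n62691 : Q := act 5 n61837
theorem D62691 : act 5 n61837 = n62691 := rfl
theorem F279755 : act 0 n62691 = n61838 := d4_1 D62691 (iv D61838) (iv F275686)
theorem F279756 : act 1 n62691 = n62622 := d12_1 D62691 F279310 (iv F275687)
theorem F279757 : act 2 n62691 = n62273 := d19_1 D62691 F278117 (iv F275688)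
theorem F279758 : act 3 n62691 = n61992 := d25_1 D62691 (iv D61992) (iv F275689)
theorem F279759 : act 7 n62691 = n61869 := d36_2 (iv F275691) D62691 (iv D61869)
theorem F279760 : act 8 n62691 = n62518 := d37_2 (iv F275692) D62691 (iv D62518)
def n62692 : Q := act 6 n61838
theorem D62692 : act 6 n61838 = n62692 := rfl
theorem F279761 : act 1 n62692 = n61839 := d13_1 D62692 (iv D61839) (iv F275693)
theorem F279762 : act 2 n62692 = n62271 := d20_1 D62692 F278111 (iv F275694)
theorem F279763 : act 3 n62692 = n61993 := d26_1 D62692 (iv D61993) (iv F275695)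
theorem F279764 : act 5 n62692 = n62533 := d35_1 D62692 (iv D62533) (iv D61608) (iv F270928) D61838
theorem F279765 : act 7 n62692 = n62307 := d39_2 (iv F275696) D62692 F278263 F275894 (iv D61870)
theorem F279766 : act 8 n62692 = n62449 := d40_2 (iv F275697) D62692 F278802
def n62693 : Q := act 4 n61840
theorem D62693 : act 4 n61840 = n62693 := rfl
theorem F279767 : act 0 n62693 = n61841 := d3_1 D62693 (iv D61841) D61840
theorem F279768 : act 1 n62693 = n62399 := d11_1 D62693 (iv D62399) (iv F275704)
theorem F279769 : act 2 n62693 = n62214 := d18_1 D62693 (iv D62214) (iv F275705)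
theorem F279770 : act 6 n62693 = n61844 := d31_2 (iv F275707) D62693 (iv D61844)
theorem F279771 : act 7 n62693 = n62270 := d32_2 (iv F275708) D62693 (iv D62270)
theorem F279772 : act 8 n62693 = n62152 := d33_2 (iv F275709) D62693 (iv D62152)
def n62694 : Q := act 3 n61841
theorem D62694 : act 3 n61841 = n62694 := rfl
theorem F279773 : act 1 n62694 = n61842 := d10_1 D62694 (iv D61842) (iv F275710)
theorem F279774 : act 2 n62694 = n62307 := d17_1 D62694 (iv D62307) F273779 (iv F273263) (iv F275711)
theorem F279775 : act 6 n62694 = n61845 := d26_2 (iv F275712) D62694 (iv D61845)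
theorem F279776 : act 7 n62694 = n62271 := d27_2 (iv F275713) D62694 (iv D62271)
theorem F279777 : act 8 n62694 = n62327 := d28_2 (iv F275714) D62694 F278336 (iv F277270) F277266
theorem F279778 : act 5 n62404 = n62694 := d37_3 F279777 F278337 D62404
def n62695 : Q := act 5 n61841
theorem D62695 : act 5 n61841 = n62695 := rfl
theorem F279779 : act 1 n62695 = n61843 := d12_1 D62695 (iv D61843) (iv F275710)
theorem F279780 : act 2 n62695 = n62215 := d19_1 D62695 (iv D62215) (iv F275711)
theorem F279781 : act 3 n62695 = n62404 := d25_1 D62695 F279778 (iv D62694)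
theorem F279782 : act 4 n62695 = n62150 := d30_1 D62695 (iv D62150) (iv D61124) (iv F270943) D61841
theorem F279783 : act 6 n62695 = n61997 := d35_2 (iv F275712) D62695 (iv D61997) F271927 (iv F270965)
theorem F279784 : act 7 n62695 = n62272 := d36_2 (iv F275713) D62695 (iv D62272)
theorem F279785 : act 8 n62695 = n62088 := d37_2 (iv F275714) D62695 (iv F277263)
def n62696 : Q := act 3 n61844
theorem D62696 : act 3 n61844 = n62696 := rfl
theorem F279786 : act 0 n62696 = n61845 := d2_1 D62696 (iv D61845) (iv F275728)
theorem F279787 : act 1 n62696 = n62443 := d10_1 D62696 (iv D62443) (iv F275729)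
theorem F279788 : act 2 n62696 = n62592 := d17_1 D62696 (iv D62592) F275086 (iv F273337) (iv F275730)
theorem F279789 : act 5 n62696 = n61998 := d25_2 (iv F275731) D62696 (iv D61998)
theorem F279790 : act 7 n62696 = n61871 := d27_2 (iv F275732) D62696 (iv D61871)
theorem F279791 : act 8 n62326 = n62696 := d37_0 F279789 (iv F276667) D62326
def n62697 : Q := act 0 n61846
theorem D62697 : act 0 n61846 = n62697 := rfl
theorem F279792 : act 1 n62697 = n62274 := d0_2 D61846 D62697 (iv D62274) (iv D61287) (iv F270973)
theorem F279793 : act 2 n62697 = n61858 := d1_2 (iv F275739) D62697 (iv D61858)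
theorem F279794 : act 3 n62697 = n61964 := d2_2 (iv F275740) D62697 (iv D61964)
theorem F279795 : act 5 n62697 = n61927 := d4_2 (iv F275741) D62697 (iv D61927)
theorem F279796 : act 6 n62697 = n61947 := d5_2 (iv F275742) D62697 (iv D61947)
theorem F279797 : act 7 n62697 = n62435 := d6_2 (iv F275743) D62697 F278747
theorem F279798 : act 8 n62697 = n61931 := d7_2 (iv F275744) D62697 (iv D61931)
theorem F279799 : act 9 n62697 = n61848 := d8_2 (iv F275745) D62697 (iv D61848)
def n62698 : Q := act 4 n61846
theorem D62698 : act 4 n61846 = n62698 := rfl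
theorem F279800 : act 1 n62698 = n61847 := d11_1 D62698 (iv D61847) D61846
theorem F279801 : act 2 n62698 = n61859 := d18_1 D62698 (iv D61859) (iv F275739)
theorem F279802 : act 3 n62698 = n62165 := d24_1 D62698 (iv D62165) F272989 (iv F271713) (iv F275740)
theorem F279803 : act 6 n62698 = n61948 := d31_2 (iv F275742) D62698 (iv D61948)
theorem F279804 : act 7 n62698 = n62191 := d32_2 (iv F275743) D62698 F277728
theorem F279805 : act 8 n62698 = n61932 := d33_2 (iv F275744) D62698 (iv D61932)
theorem F279806 : act 9 n62698 = n61849 := d34_2 (iv F275745) D62698 (iv D61849)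
theorem F279807 : act 5 n62284 = n62698 := d38_3 F279806 (iv F275767) D62284
def n62699 : Q := act 4 n61848
theorem D62699 : act 4 n61848 = n62699 := rfl
theorem F279808 : act 0 n62699 = n61849 := d3_1 D62699 (iv D61849) D61848
theorem F279809 : act 1 n62699 = n62225 := d11_1 D62699 F277880 (iv F275754)
theorem F279810 : act 2 n62699 = n61862 := d18_1 D62699 (iv D61862) (iv F275755)
theorem F279811 : act 3 n62699 = n62166 := d24_1 D62699 (iv D62166) F272999 (iv F274058) (iv F275756)
theorem F279812 : act 6 n62699 = n61990 := d31_2 (iv F275758) D62699 (iv D61990)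
theorem F279813 : act 7 n62699 = n62195 := d32_2 (iv F275759) D62699 F277745
theorem F279814 : act 8 n62699 = n61850 := d33_2 (iv F275760) D62699 (iv D61850)
theorem F279815 : act 5 n62283 = n62699 := d46_1 D62283 (iv D62699) F275756 F274057 (iv F273547) (iv D61269) (iv F272046) F272043 D61635 (iv F275962) F275961 F273504 F268480 (iv F268724) (iv F273251) (iv D61207) F268187 (iv D59298) (iv F262892) F262891 (iv F262646) F262643 D58676 F262733 (iv F262739) F262738 F260321 F255511 (iv D55690) (iv D54173) (iv D52391) F225527 F215642 F188754 (iv D45280) F131451 F91747 F91746 (iv F90285) (iv F129278) (iv F203445) F203446 (iv F185804) F185803 (iv F187181) (iv F214784) (iv F224724) (iv F233962) D53989 F242102 F234015 (iv F237985) F237984 (iv D51977) (iv F232380) (iv F240683) (iv F247997) D56566 D57737 (iv F263678) (iv F268666) (iv F273675)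
def n62700 : Q := act 0 n61851
theorem D62700 : act 0 n61851 = n62700 := rfl
theorem F279816 : act 1 n62700 = n62417 := d0_2 D61851 D62700 (iv D62417) (iv D61448) (iv F271015)
theorem F279817 : act 2 n62700 = n61927 := d1_2 (iv F275776) D62700 (iv D61927)
theorem F279818 : act 3 n62700 = n61944 := d2_2 (iv F275777) D62700 (iv D61944)
theorem F279819 : act 5 n62700 = n61858 := d4_2 (iv F275778) D62700 (iv D61858)
theorem F279820 : act 6 n62700 = n62275 := d5_2 (iv F275779) D62700 (iv D62275)
theorem F279821 : act 7 n62700 = n62315 := d6_2 (iv F275780) D62700 (iv D62315)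
theorem F279822 : act 8 n62700 = n61922 := d7_2 (iv F275781) D62700 (iv D61922)
theorem F279823 : act 9 n62700 = n61854 := d8_2 (iv F275782) D62700 (iv D61854)
def n62701 : Q := act 4 n61851
theorem D62701 : act 4 n61851 = n62701 := rfl
theorem F279824 : act 1 n62701 = n61852 := d11_1 D62701 (iv D61852) D61851
theorem F279825 : act 2 n62701 = n61928 := d18_1 D62701 (iv D61928) (iv F275776)
theorem F279826 : act 6 n62701 = n62276 := d31_2 (iv F275779) D62701 (iv D62276)
theorem F279827 : act 7 n62701 = n62316 := d32_2 (iv F275780) D62701 (iv D62316)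
theorem F279828 : act 8 n62701 = n61923 := d33_2 (iv F275781) D62701 (iv D61923)
theorem F279829 : act 9 n62701 = n61855 := d34_2 (iv F275782) D62701 (iv D61855)
def n62702 : Q := act 3 n61852
theorem D62702 : act 3 n61852 = n62702 := rfl
theorem F279830 : act 0 n62702 = n62419 := d2_1 D62702 (iv D62419) (iv F275783)
theorem F279831 : act 2 n62702 = n62702 := d17_1 D62702 (iv D62702) F275784 F271024 (iv F275784)
theorem F279832 : act 4 n62702 = n61946 := d24_2 D61852 D62702 (iv D61946) (iv D60886) (iv F271016)
theorem F279833 : act 6 n62702 = n62277 := d26_2 (iv F275785) D62702 (iv D62277)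
theorem F279834 : act 7 n62702 = n62317 := d27_2 (iv F275786) D62702 (iv D62317)
theorem F279835 : act 9 n62702 = n61856 := d29_2 (iv F275788) D62702 (iv D61856)
def n62703 : Q := act 5 n61852
theorem D62703 : act 5 n61852 = n62703 := rfl
theorem F279836 : act 0 n62703 = n62420 := d4_1 D62703 (iv D62420) (iv F275783)
theorem F279837 : act 2 n62703 = n61853 := d19_1 D62703 (iv D61853) (iv F275784)
theorem F279838 : act 4 n62703 = n61860 := d30_1 D62703 (iv D61860) (iv D60792) (iv F271017) D61852
theorem F279839 : act 6 n62703 = n62604 := d35_2 (iv F275785) D62703 F279269 F275127 (iv F273643)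
theorem F279840 : act 7 n62703 = n62318 := d36_2 (iv F275786) D62703 (iv D62318)
theorem F279841 : act 8 n62703 = n61925 := d37_2 (iv F275787) D62703 (iv D61925)
theorem F279842 : act 9 n62703 = n61857 := d38_2 (iv F275788) D62703 (iv D61857)
def n62704 : Q := act 4 n61854
theorem D62704 : act 4 n61854 = n62704 := rfl
theorem F279843 : act 0 n62704 = n61855 := d3_1 D62704 (iv D61855) D61854
theorem F279844 : act 1 n62704 = n62421 := d11_1 D62704 (iv D62421) (iv F275797)
theorem F279845 : act 2 n62704 = n62463 := d18_1 D62704 (iv D62463) (iv F275798)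
theorem F279846 : act 6 n62704 = n62278 := d31_2 (iv F275801) D62704 (iv D62278)
theorem F279847 : act 7 n62704 = n62515 := d32_2 (iv F275802) D62704 (iv D62515)
theorem F279848 : act 8 n62704 = n61865 := d33_2 (iv F275803) D62704 (iv D61865)
def n62705 : Q := act 3 n61855
theorem D62705 : act 3 n61855 = n62705 := rfl
theorem F279849 : act 1 n62705 = n61856 := d10_1 D62705 (iv D61856) (iv F275804)
theorem F279850 : act 4 n62705 = n61986 := d24_2 D61855 D62705 (iv D61986) (iv D60930) (iv F271030)
theorem F279851 : act 6 n62705 = n62279 := d26_2 (iv F275806) D62705 (iv D62279)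
theorem F279852 : act 7 n62705 = n62516 := d27_2 (iv F275807) D62705 (iv D62516)
def n62706 : Q := act 5 n61855
theorem D62706 : act 5 n61855 = n62706 := rfl
theorem F279853 : act 1 n62706 = n61857 := d12_1 D62706 (iv D61857) (iv F275804)
theorem F279854 : act 2 n62706 = n62282 := d19_1 D62706 F278160 (iv F275805)
theorem F279855 : act 4 n62706 = n61863 := d30_1 D62706 (iv D61863) (iv D60795) (iv F271031) D61855
theorem F279856 : act 6 n62706 = n62603 := d35_2 (iv F275806) D62706 F279267 F275136 (iv F273651)
theorem F279857 : act 7 n62706 = n62517 := d36_2 (iv F275807) D62706 (iv D62517)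
theorem F279858 : act 8 n62706 = n61867 := d37_2 (iv F275808) D62706 (iv D61867)
def n62707 : Q := act 5 n61856
theorem D62707 : act 5 n61856 = n62707 := rfl
theorem F279859 : act 0 n62707 = n62424 := d4_1 D62707 (iv D62424) (iv F275809)
theorem F279860 : act 2 n62707 = n62707 := d19_1 D62707 (iv D62707) F275810
theorem F279861 : act 3 n62707 = n61857 := d25_1 D62707 (iv D61857) D61856
theorem F279862 : act 4 n62707 = n62294 := d30_1 D62707 F278204 F274801 (iv F271858) (iv F275811)
theorem F279863 : act 6 n62707 = n62601 := d35_2 (iv F275812) D62707 F279262 F275139 (iv F273655)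
theorem F279864 : act 7 n62707 = n62324 := d36_2 (iv F275813) D62707 F278331
theorem F279865 : act 8 n62288 = n62707 := d42_0 F279864 (iv D62324) (iv F278186)
def n62708 : Q := act 8 n61856
theorem D62708 : act 8 n61856 = n62708 := rfl
theorem F279866 : act 0 n62708 = n62366 := d7_1 D62708 F278508 (iv F275809)
theorem F279867 : act 2 n62708 = n62708 := d22_1 D62708 (iv D62708) F275810
theorem F279868 : act 3 n62708 = n61868 := d28_1 D62708 (iv D61868) (iv D60800) (iv F271039) D61856
theorem F279869 : act 4 n62708 = n61987 := d33_1 D62708 (iv D61987) (iv F275811)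
theorem F279870 : act 5 n62708 = n62288 := d37_1 D62708 F279865 (iv D62707)
theorem F279871 : act 6 n62708 = n62280 := d40_1 D62708 (iv D62280) (iv F275812)
theorem F279872 : act 7 n62708 = n62323 := d42_1 D62708 (iv F278327) (iv F275813)
def n62709 : Q := act 4 n61858
theorem D62709 : act 4 n61858 = n62709 := rfl
theorem F279873 : act 0 n62709 = n61859 := d3_1 D62709 (iv D61859) D61858
theorem F279874 : act 1 n62709 = n62626 := d11_1 D62709 (iv D62626) (iv F275820)
theorem F279875 : act 3 n62709 = n62529 := d24_1 D62709 (iv D62529) (iv F275472) F275473 (iv F275821)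
theorem F279876 : act 6 n62709 = n61952 := d31_2 (iv F275822) D62709 (iv D61952)
theorem F279877 : act 7 n62709 = n62498 := d32_2 (iv F275823) D62709 (iv D62498)
theorem F279878 : act 9 n62709 = n61862 := d34_2 (iv F275824) D62709 (iv D61862)
def n62710 : Q := act 5 n61859
theorem D62710 : act 5 n61859 = n62710 := rfl
theorem F279879 : act 1 n62710 = n61860 := d12_1 D62710 (iv D61860) (iv F275825)
theorem F279880 : act 2 n62710 = n62284 := d19_1 D62710 F279807 F279801
theorem F279881 : act 3 n62710 = n62530 := d25_1 D62710 (iv D62530) (iv F275826)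
theorem F279882 : act 7 n62710 = n62499 := d36_2 (iv F275828) D62710 (iv D62499)
theorem F279883 : act 9 n62710 = n61863 := d38_2 (iv F275829) D62710 (iv D61863)
def n62711 : Q := act 6 n61860
theorem D62711 : act 6 n61860 = n62711 := rfl
theorem F279884 : act 0 n62711 = n61925 := d5_1 D62711 F276250 (iv F275830)
theorem F279885 : act 2 n62711 = n61861 := d20_1 D62711 (iv D61861) (iv F275831)
theorem F279886 : act 3 n62711 = n62531 := d26_1 D62711 (iv D62531) (iv F275832)
theorem F279887 : act 4 n62711 = n62604 := d31_1 D62711 (iv F279839) F279838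
theorem F279888 : act 5 n62711 = n61921 := d35_1 D62711 F276233 (iv D60894) (iv F271054) D61860
theorem F279889 : act 8 n62711 = n62420 := d40_2 F279673 D62711 (iv F279671)
theorem F279890 : act 9 n62711 = n61864 := d41_2 (iv F275834) D62711 (iv D61864)
theorem F279891 : act 7 n62109 = n62711 := d43_3 F279890 (iv F275860) (iv F277374)
def n62712 : Q := act 5 n61862
theorem D62712 : act 5 n61862 = n62712 := rfl
theorem F279892 : act 0 n62712 = n61863 := d4_1 D62712 (iv D61863) (iv F275843)
theorem F279893 : act 1 n62712 = n62624 := d12_1 D62712 F279317 (iv F275844)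
theorem F279894 : act 2 n62712 = n62283 := d19_1 D62712 F279815 F279810
theorem F279895 : act 3 n62712 = n62532 := d25_1 D62712 (iv D62532) (iv F275845)
theorem F279896 : act 7 n62712 = n62518 := d36_2 (iv F275847) D62712 (iv D62518)
theorem F279897 : act 8 n62712 = n61869 := d37_2 (iv F275848) D62712 (iv D61869)
def n62713 : Q := act 6 n61863
theorem D62713 : act 6 n61863 = n62713 := rfl
theorem F279898 : act 1 n62713 = n61864 := d13_1 D62713 (iv D61864) (iv F275849)
theorem F279899 : act 2 n62713 = n61872 := d20_1 D62713 F275901 (iv F275850)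
theorem F279900 : act 3 n62713 = n62533 := d26_1 D62713 (iv D62533) (iv F275851)
theorem F279901 : act 4 n62713 = n62603 := d31_1 D62713 (iv F279856) F279855
theorem F279902 : act 5 n62713 = n61993 := d35_1 D62713 (iv D61993) (iv D60938) (iv F271069) D61863
theorem F279903 : act 8 n62713 = n61870 := d40_2 (iv F275853) D62713 (iv D61870)
theorem F279904 : act 7 n62308 = n62713 := d42_3 F279903 (iv F275894) (iv F278266)
def n62714 : Q := act 3 n61865
theorem D62714 : act 3 n61865 = n62714 := rfl
theorem F279905 : act 0 n62714 = n61866 := d2_1 D62714 (iv D61866) (iv F275861)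
theorem F279906 : act 1 n62714 = n62360 := d10_1 D62714 F278479 (iv F275862)
theorem F279907 : act 2 n62714 = n62602 := d17_1 D62714 (iv D62602) F275116 (iv F274508) (iv F275863)
theorem F279908 : act 4 n62714 = n61871 := d24_2 D61865 D62714 (iv D61871) (iv D60805) (iv F271086)
theorem F279909 : act 6 n62714 = n62281 := d26_2 (iv F275864) D62714 (iv D62281)
theorem F279910 : act 9 n62714 = n62446 := d29_2 (iv F275865) D62714 F278793
theorem F279911 : act 5 n62535 = n62714 := d38_3 F279910 F278794 (iv F279101)
def n62715 : Q := act 5 n61865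
theorem D62715 : act 5 n61865 = n62715 := rfl
theorem F279912 : act 0 n62715 = n61867 := d4_1 D62715 (iv D61867) (iv F275861)
theorem F279913 : act 1 n62715 = n62440 := d12_1 D62715 (iv D62440) (iv F275862)
theorem F279914 : act 2 n62715 = n62281 := d19_1 D62715 F278156 (iv F275863)
theorem F279915 : act 3 n62715 = n62535 := d25_1 D62715 F279911 (iv D62714)
theorem F279916 : act 4 n62715 = n61869 := d30_1 D62715 (iv D61869) (iv D60802) (iv F271087) D61865
theorem F279917 : act 6 n62715 = n62602 := d35_2 (iv F275864) D62715 F279264 F275159 (iv F273665)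
theorem F279918 : act 9 n62715 = n62486 := d38_2 (iv F275865) D62715 (iv D62486)
def n62716 : Q := act 8 n61866
theorem D62716 : act 8 n61866 = n62716 := rfl
theorem F279919 : act 1 n62716 = n61868 := d15_1 D62716 (iv D61868) (iv F275866)
theorem F279920 : act 2 n62716 = n62603 := d22_1 D62716 (iv D62603) (iv F275867)
theorem F279921 : act 4 n62716 = n61872 := d33_1 D62716 (iv D61872) (iv F275868)
theorem F279922 : act 5 n62716 = n62287 := d37_1 D62716 F278181 F275871
theorem F279923 : act 6 n62716 = n62282 := d40_1 D62716 (iv D62282) (iv F275869)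
theorem F279924 : act 7 n62716 = n62322 := d42_1 D62716 (iv F279740) F279737
def n62717 : Q := act 9 n61868
theorem D62717 : act 9 n61868 = n62717 := rfl
theorem F279925 : act 0 n62717 = n62367 := d8_1 D62717 (iv D62367) (iv F275878)
theorem F279926 : act 2 n62717 = n61874 := d23_1 D62717 (iv D61874) (iv F275879)
theorem F279927 : act 4 n62717 = n61873 := d34_1 D62717 (iv D61873) (iv F275880)
theorem F279928 : act 5 n62717 = n62101 := d38_1 D62717 F277342 (iv F275881)
theorem F279929 : act 6 n62717 = n61930 := d41_1 D62717 F276275 (iv F275882)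
theorem F279930 : act 7 n62717 = n62122 := d43_1 D62717 F277423 (iv F275883)
theorem F279931 : act 8 n62717 = n61937 := d44_1 D62717 F276303 (iv D61497) (iv F271098) D61868
def n62718 : Q := act 6 n61869
theorem D62718 : act 6 n61869 = n62718 := rfl
theorem F279932 : act 0 n62718 = n61870 := d5_1 D62718 (iv D61870) (iv F275884)
theorem F279933 : act 1 n62718 = n62486 := d13_1 D62718 F278955 (iv F275885)
theorem F279934 : act 2 n62718 = n61871 := d20_1 D62718 F275898 (iv F275886)
theorem F279935 : act 3 n62718 = n62010 := d26_1 D62718 (iv D62010) (iv F275887)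
theorem F279936 : act 4 n62718 = n62602 := d31_1 D62718 (iv F279917) F279916
theorem F279937 : act 5 n62718 = n62012 := d35_1 D62718 F276767 F273967 (iv F271109) D61869
theorem F279938 : act 9 n62718 = n62440 := d41_2 F279700 D62718 (iv F279699)
theorem F279939 : act 7 n62592 = n62718 := d27_0 F279935 (iv F276757) D62592
def n62719 : Q := act 8 n61871
theorem D62719 : act 8 n61871 = n62719 := rfl
theorem F279940 : act 0 n62719 = n61872 := d7_1 D62719 (iv D61872) (iv F275895)
theorem F279941 : act 1 n62719 = n62444 := d15_1 D62719 (iv D62444) (iv F275896)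
theorem F279942 : act 5 n62719 = n62013 := d37_1 D62719 (iv D62013) (iv F275897)
theorem F279943 : act 6 n62719 = n62283 := d40_1 D62719 (iv D62283) (iv F275898)
theorem F279944 : act 7 n62719 = n62326 := d42_1 D62719 F279791 F279790
def n62720 : Q := act 9 n61872
theorem D62720 : act 9 n61872 = n62720 := rfl
theorem F279945 : act 1 n62720 = n61873 := d16_1 D62720 (iv D61873) (iv F275899)
theorem F279946 : act 5 n62720 = n62014 := d38_1 D62720 (iv D62014) (iv F275900)
theorem F279947 : act 6 n62720 = n62284 := d41_1 D62720 (iv D62284) (iv F275901)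
theorem F279948 : act 7 n62720 = n62125 := d43_1 D62720 F277432 (iv F275902)
def n62721 : Q := act 0 n61876
theorem D62721 : act 0 n61876 = n62721 := rfl
theorem F279949 : act 1 n62721 = n62173 := d0_2 D61876 D62721 (iv D62173) (iv D61156) (iv F271189)
theorem F279950 : act 2 n62721 = n62247 := d1_2 (iv F275925) D62721 (iv D62247)
theorem F279951 : act 3 n62721 = n61879 := d2_2 (iv F275926) D62721 (iv D61879)
theorem F279952 : act 5 n62721 = n62548 := d4_2 (iv F275927) D62721 (iv D62548)
theorem F279953 : act 6 n62721 = n61880 := d5_2 (iv F275928) D62721 (iv D61880)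
theorem F279954 : act 7 n62721 = n62030 := d6_2 (iv F275929) D62721 (iv D62030)
theorem F279955 : act 8 n62721 = n62556 := d7_2 (iv F275930) D62721 (iv D62556)
theorem F279956 : act 9 n62721 = n62168 := d8_2 (iv F275931) D62721 (iv D62168)
def n62722 : Q := act 0 n61877
theorem D62722 : act 0 n61877 = n62722 := rfl
theorem F279957 : act 1 n62722 = n62038 := d0_2 D61877 D62722 (iv D62038) (iv D61001) (iv F271196)
theorem F279958 : act 2 n62722 = n61895 := d1_2 (iv F275932) D62722 (iv D61895)
theorem F279959 : act 3 n62722 = n62548 := d2_2 (iv F275933) D62722 (iv D62548)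
theorem F279960 : act 5 n62722 = n61879 := d4_2 (iv F275934) D62722 (iv D61879)
theorem F279961 : act 6 n62722 = n62169 := d5_2 (iv F275935) D62722 (iv D62169)
theorem F279962 : act 7 n62722 = n62033 := d6_2 (iv F275936) D62722 (iv D62033)
theorem F279963 : act 8 n62722 = n62017 := d7_2 (iv F275937) D62722 (iv D62017)
theorem F279964 : act 9 n62722 = n62211 := d8_2 (iv F275938) D62722 (iv D62211)
def n62723 : Q := act 4 n61877
theorem D62723 : act 4 n61877 = n62723 := rfl
theorem F279965 : act 1 n62723 = n61878 := d11_1 D62723 (iv D61878) D61877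
theorem F279966 : act 2 n62723 = n61896 := d18_1 D62723 (iv D61896) (iv F275932)
theorem F279967 : act 5 n62723 = n62104 := d30_2 (iv F275934) D62723 (iv D62104) F272721 (iv F271212)
theorem F279968 : act 6 n62723 = n62170 := d31_2 (iv F275935) D62723 (iv D62170)
theorem F279969 : act 7 n62723 = n62034 := d32_2 (iv F275936) D62723 (iv D62034)
theorem F279970 : act 8 n62723 = n62018 := d33_2 (iv F275937) D62723 (iv D62018)
theorem F279971 : act 9 n62723 = n62212 := d34_2 (iv F275938) D62723 (iv D62212)
def n62724 : Q := act 3 n61878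
theorem D62724 : act 3 n61878 = n62724 := rfl
theorem F279972 : act 0 n62724 = n62040 := d2_1 D62724 (iv D62040) (iv F275939)
theorem F279973 : act 2 n62724 = n62724 := d17_1 D62724 (iv D62724) F275940 F271205 (iv F275940)
theorem F279974 : act 4 n62724 = n62550 := d24_2 D61878 D62724 (iv D62550) (iv D61640) (iv F271197)
theorem F279975 : act 5 n62724 = n62105 := d25_2 (iv F275941) D62724 (iv D62105)
theorem F279976 : act 6 n62724 = n62171 := d26_2 (iv F275942) D62724 (iv D62171)
theorem F279977 : act 7 n62724 = n62035 := d27_2 (iv F275943) D62724 (iv D62035)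
theorem F279978 : act 8 n62724 = n62077 := d28_2 (iv F275944) D62724 (iv D62077) F272554 (iv F272132)
theorem F279979 : act 9 n62724 = n62213 := d29_2 (iv F275945) D62724 (iv D62213)
def n62725 : Q := act 4 n61880
theorem D62725 : act 4 n61880 = n62725 := rfl
theorem F279980 : act 0 n62725 = n61881 := d3_1 D62725 (iv D61881) D61880
theorem F279981 : act 1 n62725 = n62227 := d11_1 D62725 (iv D62227) (iv F275953)
theorem F279982 : act 2 n62725 = n62251 := d18_1 D62725 (iv D62251) (iv F275954)
theorem F279983 : act 3 n62725 = n62546 := d24_1 D62725 (iv D62546) F274887 (iv F271232) (iv F275955)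
theorem F279984 : act 5 n62725 = n62581 := d30_2 (iv F275956) D62725 (iv D62581) F275037 (iv F273370)
theorem F279985 : act 7 n62725 = n61885 := d32_2 (iv F275957) D62725 (iv D61885)
theorem F279986 : act 8 n62725 = n62575 := d33_2 (iv F275958) D62725 (iv D62575)
theorem F279987 : act 9 n62725 = n62224 := d34_2 (iv F275959) D62725 (iv D62224)
def n62726 : Q := act 4 n61882
theorem D62726 : act 4 n61882 = n62726 := rfl
theorem F279988 : act 0 n62726 = n61883 := d3_1 D62726 (iv D61883) D61882
theorem F279989 : act 1 n62726 = n62228 := d11_1 D62726 (iv D62228) (iv F275967)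
theorem F279990 : act 2 n62726 = n62241 := d18_1 D62726 (iv D62241) (iv F275968)
theorem F279991 : act 5 n62726 = n62584 := d30_2 (iv F275970) D62726 (iv D62584) F275054 (iv F273317)
theorem F279992 : act 6 n62726 = n62216 := d31_2 (iv F275971) D62726 (iv D62216)
theorem F279993 : act 7 n62726 = n62575 := d32_2 (iv F275972) D62726 (iv D62575)
theorem F279994 : act 8 n62726 = n61885 := d33_2 (iv F275973) D62726 (iv D61885)
theorem F279995 : act 9 n62726 = n62574 := d34_2 (iv F275974) D62726 (iv D62574)
def n62727 : Q := act 3 n61883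
theorem D62727 : act 3 n61883 = n62727 := rfl
theorem F279996 : act 1 n62727 = n61884 := d10_1 D62727 (iv D61884) (iv F275975)
theorem F279997 : act 4 n62727 = n62223 := d24_2 D61883 D62727 (iv D62223) (iv D61223) (iv F271237)
theorem F279998 : act 5 n62727 = n62585 := d25_2 (iv F275977) D62727 (iv D62585)
theorem F279999 : act 6 n62727 = n62217 := d26_2 (iv F275978) D62727 (iv D62217)
theorem F280000 : act 7 n62727 = n62576 := d27_2 (iv F275979) D62727 (iv D62576)
theorem F280001 : act 8 n62727 = n62540 := d28_2 (iv F275980) D62727 (iv D62540) F274867 (iv F271258)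
theorem F280002 : act 9 n62727 = n62379 := d29_2 (iv F275981) D62727 F278558
def n62728 : Q := act 4 n61887
theorem D62728 : act 4 n61887 = n62728 := rfl
theorem F280003 : act 0 n62728 = n61888 := d3_1 D62728 (iv D61888) D61887
theorem F280004 : act 1 n62728 = n61938 := d11_1 D62728 (iv D61938) (iv F276006)
theorem F280005 : act 2 n62728 = n62228 := d18_1 D62728 (iv D62228) (iv F276007)
theorem F280006 : act 5 n62728 = n62328 := d30_2 (iv F276009) D62728 (iv D62328) F273843 (iv F271295)
theorem F280007 : act 6 n62728 = n62584 := d31_2 (iv F276010) D62728 (iv D62584)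
theorem F280008 : act 7 n62728 = n62570 := d32_2 (iv F276011) D62728 (iv D62570)
theorem F280009 : act 8 n62728 = n61894 := d33_2 (iv F276012) D62728 (iv D61894)
theorem F280010 : act 9 n62728 = n62459 := d34_2 (iv F276013) D62728 (iv D62459)
def n62729 : Q := act 3 n61888
theorem D62729 : act 3 n61888 = n62729 := rfl
theorem F280011 : act 1 n62729 = n61889 := d10_1 D62729 (iv D61889) (iv F276014)
theorem F280012 : act 4 n62729 = n62542 := d24_2 D61888 D62729 (iv D62542) (iv D61627) (iv F271279)
theorem F280013 : act 5 n62729 = n62329 := d25_2 (iv F276016) D62729 (iv D62329)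
theorem F280014 : act 6 n62729 = n62585 := d26_2 (iv F276017) D62729 (iv D62585)
theorem F280015 : act 7 n62729 = n62571 := d27_2 (iv F276018) D62729 (iv D62571)
theorem F280016 : act 8 n62729 = n62510 := d28_2 (iv F276019) D62729 (iv D62510) F274729 (iv F271342)
theorem F280017 : act 9 n62729 = n62460 := d29_2 (iv F276020) D62729 (iv D62460)
def n62730 : Q := act 4 n61890
theorem D62730 : act 4 n61890 = n62730 := rfl
theorem F280018 : act 0 n62730 = n61891 := d3_1 D62730 (iv D61891) D61890
theorem F280019 : act 1 n62730 = n61968 := d11_1 D62730 (iv D61968) (iv F276029)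
theorem F280020 : act 2 n62730 = n62278 := d18_1 D62730 (iv D62278) (iv F276030)
theorem F280021 : act 5 n62730 = n62599 := d30_2 (iv F276032) D62730 (iv D62599) F275109 (iv F273631)
theorem F280022 : act 6 n62730 = n62463 := d31_2 (iv F276033) D62730 (iv D62463)
theorem F280023 : act 7 n62730 = n62610 := d32_2 (iv F276034) D62730 (iv D62610)
theorem F280024 : act 8 n62730 = n61893 := d33_2 (iv F276035) D62730 (iv D61893)
theorem F280025 : act 9 n62730 = n62492 := d34_2 (iv F276036) D62730 (iv D62492)
def n62731 : Q := act 3 n61891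
theorem D62731 : act 3 n61891 = n62731 := rfl
theorem F280026 : act 1 n62731 = n61892 := d10_1 D62731 (iv D61892) (iv F276037)
theorem F280027 : act 4 n62731 = n62512 := d24_2 D61891 D62731 (iv D62512) (iv D61582) (iv F271306)
theorem F280028 : act 5 n62731 = n62600 := d25_2 (iv F276039) D62731 (iv D62600)
theorem F280029 : act 6 n62731 = n62464 := d26_2 (iv F276040) D62731 (iv D62464)
theorem F280030 : act 7 n62731 = n62611 := d27_2 (iv F276041) D62731 (iv D62611)
theorem F280031 : act 8 n62731 = n62609 := d28_2 (iv F276042) D62731 (iv D62609) F275137 (iv F271328)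
theorem F280032 : act 9 n62731 = n62493 := d29_2 (iv F276043) D62731 (iv D62493)
def n62732 : Q := act 4 n61895
theorem D62732 : act 4 n61895 = n62732 := rfl
theorem F280033 : act 0 n62732 = n61896 := d3_1 D62732 (iv D61896) D61895
theorem F280034 : act 1 n62732 = n61985 := d11_1 D62732 (iv D61985) (iv F276068)
theorem F280035 : act 5 n62732 = n62568 := d30_2 (iv F276070) D62732 (iv D62568) F274963 (iv F271360)
theorem F280036 : act 6 n62732 = n62185 := d31_2 (iv F276071) D62732 (iv D62185)
theorem F280037 : act 7 n62732 = n62469 := d32_2 (iv F276072) D62732 (iv D62469)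
theorem F280038 : act 8 n62732 = n62201 := d33_2 (iv F276073) D62732 (iv D62201)
def n62733 : Q := act 3 n61896
theorem D62733 : act 3 n61896 = n62733 := rfl
theorem F280039 : act 1 n62733 = n61897 := d10_1 D62733 (iv D61897) (iv F276074)
theorem F280040 : act 4 n62733 = n62422 := d24_2 D61896 D62733 (iv D62422) (iv D61452) (iv F271347)
theorem F280041 : act 5 n62733 = n62569 := d25_2 (iv F276075) D62733 (iv D62569)
theorem F280042 : act 6 n62733 = n62186 := d26_2 (iv F276076) D62733 (iv D62186)
theorem F280043 : act 7 n62733 = n62470 := d27_2 (iv F276077) D62733 (iv D62470)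
def n62734 : Q := act 8 n61897
theorem D62734 : act 8 n61897 = n62734 := rfl
theorem F280044 : act 0 n62734 = n61987 := d7_1 D62734 (iv D61987) (iv F276079)
theorem F280045 : act 2 n62734 = n62734 := d22_1 D62734 (iv D62734) F276080
theorem F280046 : act 3 n62734 = n62172 := d28_1 D62734 F277653 F273092 (iv F271357) D61897
theorem F280047 : act 4 n62734 = n62366 := d33_1 D62734 F278508 (iv F276081)
theorem F280048 : act 5 n62734 = n62171 := d37_1 D62734 F277647 (iv F276082)
theorem F280049 : act 6 n62734 = n62189 := d40_1 D62734 (iv D62189) (iv F276083)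
theorem F280050 : act 7 n62734 = n62471 := d42_1 D62734 (iv D62471) (iv F276084)
def n62735 : Q := act 4 n61898
theorem D62735 : act 4 n61898 = n62735 := rfl
theorem F280051 : act 0 n62735 = n61899 := d3_1 D62735 (iv D61899) D61898
theorem F280052 : act 1 n62735 = n62011 := d11_1 D62735 (iv D62011) (iv F276085)
theorem F280053 : act 2 n62735 = n62049 := d18_1 D62735 (iv D62049) (iv F276086)
theorem F280054 : act 3 n62735 = n61990 := d24_1 D62735 (iv D61990) F271876 (iv F274063) (iv F276087)
theorem F280055 : act 5 n62735 = n62224 := d30_2 (iv F276088) D62735 (iv D62224) F273342 (iv F273218)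
theorem F280056 : act 6 n62735 = n62166 := d31_2 (iv F276089) D62735 (iv D62166)
theorem F280057 : act 7 n62735 = n61900 := d32_2 (iv F276090) D62735 (iv D61900)
theorem F280058 : act 8 n62735 = n62048 := d33_2 (iv F276091) D62735 (iv D62048)
theorem F280059 : act 9 n62735 = n62581 := d34_2 (iv F276092) D62735 (iv D62581)
def n62736 : Q := act 0 n61901
theorem D62736 : act 0 n61901 = n62736 := rfl
theorem F280060 : act 1 n62736 = n62106 := d0_2 D61901 D62736 (iv D62106) (iv D61084) (iv F271407)
theorem F280061 : act 2 n62736 = n61910 := d1_2 (iv F276109) D62736 (iv D61910)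
theorem F280062 : act 3 n62736 = n62285 := d2_2 (iv F276110) D62736 (iv D62285)
theorem F280063 : act 5 n62736 = n62494 := d4_2 (iv F276111) D62736 (iv D62494)
theorem F280064 : act 6 n62736 = n62312 := d5_2 (iv F276112) D62736 (iv D62312)
theorem F280065 : act 7 n62736 = n61922 := d6_2 (iv F276113) D62736 (iv D61922)
theorem F280066 : act 8 n62736 = n62315 := d7_2 (iv F276114) D62736 (iv D62315)
theorem F280067 : act 9 n62736 = n62295 := d8_2 (iv F276115) D62736 (iv D62295)
def n62737 : Q := act 4 n61901
theorem D62737 : act 4 n61901 = n62737 := rfl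
theorem F280068 : act 1 n62737 = n61902 := d11_1 D62737 (iv D61902) D61901
theorem F280069 : act 2 n62737 = n61911 := d18_1 D62737 (iv D61911) (iv F276109)
theorem F280070 : act 6 n62737 = n62313 := d31_2 (iv F276112) D62737 (iv D62313)
theorem F280071 : act 7 n62737 = n61923 := d32_2 (iv F276113) D62737 (iv D61923)
theorem F280072 : act 8 n62737 = n62316 := d33_2 (iv F276114) D62737 (iv D62316)
theorem F280073 : act 9 n62737 = n62296 := d34_2 (iv F276115) D62737 (iv D62296)
def n62738 : Q := act 5 n61902
theorem D62738 : act 5 n61902 = n62738 := rfl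
theorem F280074 : act 0 n62738 = n62109 := d4_1 D62738 (iv D62109) (iv F276116)
theorem F280075 : act 2 n62738 = n61903 := d19_1 D62738 (iv D61903) (iv F276117)
theorem F280076 : act 4 n62738 = n62497 := d30_1 D62738 (iv D62497) (iv D61560) (iv F271409) D61902
theorem F280077 : act 7 n62738 = n61925 := d36_2 (iv F276119) D62738 (iv D61925)
theorem F280078 : act 8 n62738 = n62318 := d37_2 (iv F276120) D62738 (iv D62318)
theorem F280079 : act 9 n62738 = n62298 := d38_2 (iv F276121) D62738 (iv D62298)
def n62739 : Q := act 0 n61904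
theorem D62739 : act 0 n61904 = n62739 := rfl
theorem F280080 : act 1 n62739 = n62504 := d0_2 D61904 D62739 (iv D62504) (iv D61569) (iv F271427)
theorem F280081 : act 2 n62739 = n62315 := d1_2 (iv F276129) D62739 (iv D62315)
theorem F280082 : act 3 n62739 = n61949 := d2_2 (iv F276130) D62739 (iv D61949)
theorem F280083 : act 5 n62739 = n62435 := d4_2 (iv F276131) D62739 F278747
theorem F280084 : act 6 n62739 = n62302 := d5_2 (iv F276132) D62739 (iv D62302)
theorem F280085 : act 7 n62739 = n61927 := d6_2 (iv F276133) D62739 (iv D61927)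
theorem F280086 : act 8 n62739 = n61910 := d7_2 (iv F276134) D62739 (iv D61910)
theorem F280087 : act 9 n62739 = n62436 := d8_2 (iv F276135) D62739 F278752
def n62740 : Q := act 4 n61904
theorem D62740 : act 4 n61904 = n62740 := rfl
theorem F280088 : act 1 n62740 = n61905 := d11_1 D62740 (iv D61905) D61904
theorem F280089 : act 2 n62740 = n62316 := d18_1 D62740 (iv D62316) (iv F276129)
theorem F280090 : act 6 n62740 = n62303 := d31_2 (iv F276132) D62740 (iv D62303)
theorem F280091 : act 7 n62740 = n61928 := d32_2 (iv F276133) D62740 (iv D61928)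
theorem F280092 : act 8 n62740 = n61911 := d33_2 (iv F276134) D62740 (iv D61911)
theorem F280093 : act 9 n62740 = n62437 := d34_2 (iv F276135) D62740 (iv D62437)
def n62741 : Q := act 3 n61905
theorem D62741 : act 3 n61905 = n62741 := rfl
theorem F280094 : act 0 n62741 = n62506 := d2_1 D62741 (iv D62506) (iv F276136)
theorem F280095 : act 2 n62741 = n62741 := d17_1 D62741 (iv D62741) F276137 F271436 (iv F276137)
theorem F280096 : act 4 n62741 = n61951 := d24_2 D61905 D62741 (iv D61951) (iv D60891) (iv F271428)
theorem F280097 : act 6 n62741 = n62304 := d26_2 (iv F276138) D62741 (iv D62304)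
theorem F280098 : act 7 n62741 = n61929 := d27_2 (iv F276139) D62741 (iv D61929)
theorem F280099 : act 8 n62741 = n62607 := d28_2 (iv F276140) D62741 (iv D62607) F275128 (iv F271461)
theorem F280100 : act 9 n62741 = n62433 := d29_2 (iv F276141) D62741 F278741
def n62742 : Q := act 5 n61905
theorem D62742 : act 5 n61905 = n62742 := rfl
theorem F280101 : act 0 n62742 = n62398 := d4_1 D62742 F278634 (iv F276136)
theorem F280102 : act 2 n62742 = n61906 := d19_1 D62742 (iv D61906) (iv F276137)
theorem F280103 : act 4 n62742 = n62193 := d30_1 D62742 (iv D62193) F273133 (iv F271429) D61905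
theorem F280104 : act 7 n62742 = n61930 := d36_2 (iv F276139) D62742 (iv D61930)
theorem F280105 : act 8 n62742 = n61912 := d37_2 (iv F276140) D62742 (iv D61912)
theorem F280106 : act 9 n62742 = n62199 := d38_2 (iv F276141) D62742 F277762
def n62743 : Q := act 6 n61906
theorem D62743 : act 6 n61906 = n62743 := rfl
theorem F280107 : act 0 n62743 = n62451 := d5_1 D62743 F278808 (iv F276142)
theorem F280108 : act 1 n62743 = n62319 := d13_1 D62743 (iv D62319) (iv F276143)
theorem F280109 : act 3 n62743 = n62743 := d26_1 D62743 (iv D62743) F276144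
theorem F280110 : act 4 n62743 = n62127 := d31_1 D62743 F277441 (iv F276145)
theorem F280111 : act 5 n62743 = n61926 := d35_1 D62743 F276255 (iv D61321) (iv F271437) D61906
theorem F280112 : act 7 n62743 = n62123 := d39_2 (iv F276146) D62743 (iv D62123) (iv F275914) F275913
theorem F280113 : act 8 n62743 = n61913 := d40_2 (iv F276147) D62743 (iv D61913)
theorem F280114 : act 9 n62743 = n62209 := d41_2 (iv F276148) D62743 F277797
def n62744 : Q := act 0 n61907
theorem D62744 : act 0 n61907 = n62744 := rfl
theorem F280115 : act 1 n62744 = n62524 := d0_2 D61907 D62744 (iv D62524) (iv D61598) (iv F271441)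
theorem F280116 : act 2 n62744 = n62494 := d1_2 (iv F276149) D62744 (iv D62494)
theorem F280117 : act 3 n62744 = n61917 := d2_2 (iv F276150) D62744 (iv D61917)
theorem F280118 : act 5 n62744 = n61910 := d4_2 (iv F276151) D62744 (iv D61910)
theorem F280119 : act 6 n62744 = n62500 := d5_2 (iv F276152) D62744 (iv D62500)
theorem F280120 : act 7 n62744 = n61931 := d6_2 (iv F276153) D62744 (iv D61931)
theorem F280121 : act 8 n62744 = n62435 := d7_2 (iv F276154) D62744 F278747
theorem F280122 : act 9 n62744 = n62474 := d8_2 (iv F276155) D62744 (iv D62474)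
def n62745 : Q := act 4 n61907
theorem D62745 : act 4 n61907 = n62745 := rfl
theorem F280123 : act 1 n62745 = n61908 := d11_1 D62745 (iv D61908) D61907
theorem F280124 : act 2 n62745 = n62495 := d18_1 D62745 (iv D62495) (iv F276149)
theorem F280125 : act 6 n62745 = n62501 := d31_2 (iv F276152) D62745 (iv D62501)
theorem F280126 : act 7 n62745 = n61932 := d32_2 (iv F276153) D62745 (iv D61932)
theorem F280127 : act 8 n62745 = n62191 := d33_2 (iv F276154) D62745 F277728
theorem F280128 : act 9 n62745 = n62475 := d34_2 (iv F276155) D62745 (iv D62475)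
def n62746 : Q := act 3 n61908
theorem D62746 : act 3 n61908 = n62746 := rfl
theorem F280129 : act 0 n62746 = n62526 := d2_1 D62746 (iv D62526) (iv F276156)
theorem F280130 : act 2 n62746 = n62746 := d17_1 D62746 (iv D62746) F276157 F271450 (iv F276157)
theorem F280131 : act 4 n62746 = n61919 := d24_2 D61908 D62746 (iv D61919) (iv D60862) (iv F271442)
theorem F280132 : act 6 n62746 = n62502 := d26_2 (iv F276158) D62746 (iv D62502)
theorem F280133 : act 7 n62746 = n61933 := d27_2 (iv F276159) D62746 (iv D61933)
theorem F280134 : act 8 n62746 = n62146 := d28_2 (iv F276160) D62746 (iv D62146) F272907 D61176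
theorem F280135 : act 9 n62746 = n62476 := d29_2 (iv F276161) D62746 (iv D62476)
def n62747 : Q := act 5 n61908
theorem D62747 : act 5 n61908 = n62747 := rfl
theorem F280136 : act 0 n62747 = n62352 := d4_1 D62747 F278438 (iv F276156)
theorem F280137 : act 2 n62747 = n61909 := d19_1 D62747 (iv D61909) (iv F276157)
theorem F280138 : act 4 n62747 = n61912 := d30_1 D62747 (iv D61912) (iv D60856) (iv F271443) D61908
theorem F280139 : act 7 n62747 = n61934 := d36_2 (iv F276159) D62747 (iv D61934)
theorem F280140 : act 8 n62747 = n62193 := d37_2 (iv F276160) D62747 (iv D62193)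
theorem F280141 : act 9 n62747 = n62253 := d38_2 (iv F276161) D62747 F278024
def n62748 : Q := act 6 n61909
theorem D62748 : act 6 n61909 = n62748 := rfl
theorem F280142 : act 0 n62748 = n62365 := d5_1 D62748 F278503 (iv F276162)
theorem F280143 : act 1 n62748 = n62450 := d13_1 D62748 F278805 (iv F276163)
theorem F280144 : act 3 n62748 = n62748 := d26_1 D62748 (iv D62748) F276164
theorem F280145 : act 4 n62748 = n61913 := d31_1 D62748 (iv D61913) (iv F276165)
theorem F280146 : act 5 n62748 = n62311 := d35_1 D62748 F278279 F274038 (iv F271451) D61909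
theorem F280147 : act 7 n62748 = n62118 := d39_2 (iv F276166) D62748 (iv D62118) (iv F275651) F275650
theorem F280148 : act 8 n62748 = n62127 := d40_2 (iv F276167) D62748 F277441
theorem F280149 : act 9 n62748 = n62256 := d41_2 (iv F276168) D62748 F278037
def n62749 : Q := act 4 n61910
theorem D62749 : act 4 n61910 = n62749 := rfl
theorem F280150 : act 0 n62749 = n61911 := d3_1 D62749 (iv D61911) D61910
theorem F280151 : act 1 n62749 = n62529 := d11_1 D62749 (iv D62529) (iv F276169)
theorem F280152 : act 3 n62749 = n62626 := d24_1 D62749 (iv D62626) (iv F275345) F275346 (iv F276170)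
theorem F280153 : act 6 n62749 = n62614 := d31_2 (iv F276171) D62749 (iv D62614)
theorem F280154 : act 7 n62749 = n61935 := d32_2 (iv F276172) D62749 (iv D61935)
theorem F280155 : act 9 n62749 = n62477 := d34_2 (iv F276173) D62749 (iv D62477)
def n62750 : Q := act 5 n61911
theorem D62750 : act 5 n61911 = n62750 := rfl
theorem F280156 : act 1 n62750 = n61912 := d12_1 D62750 (iv D61912) (iv F276174)
theorem F280157 : act 3 n62750 = n62625 := d25_1 D62750 F279319 (iv F276175)
theorem F280158 : act 7 n62750 = n61936 := d36_2 (iv F276177) D62750 (iv D61936)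
theorem F280159 : act 9 n62750 = n62478 := d38_2 (iv F276178) D62750 (iv D62478)
def n62751 : Q := act 6 n61912
theorem D62751 : act 6 n61912 = n62751 := rfl
theorem F280160 : act 0 n62751 = n62531 := d5_1 D62751 (iv D62531) (iv F276179)
theorem F280161 : act 2 n62751 = n61913 := d20_1 D62751 (iv D61913) (iv F276180)
theorem F280162 : act 3 n62751 = n61925 := d26_1 D62751 F276250 (iv F276181)
theorem F280163 : act 5 n62751 = n61924 := d35_1 D62751 F276247 F274652 (iv F271462) D61912
theorem F280164 : act 9 n62751 = n62479 := d41_2 (iv F276183) D62751 (iv D62479)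
def n62752 : Q := act 0 n61914
theorem D62752 : act 0 n61914 = n62752 := rfl
theorem F280165 : act 1 n62752 = n62144 := d0_2 D61914 D62752 (iv D62144) (iv D61120) (iv F271475)
theorem F280166 : act 2 n62752 = n62289 := d1_2 (iv F276188) D62752 (iv D62289)
theorem F280167 : act 3 n62752 = n62500 := d2_2 (iv F276189) D62752 (iv D62500)
theorem F280168 : act 5 n62752 = n62342 := d4_2 (iv F276190) D62752 (iv D62342)
theorem F280169 : act 6 n62752 = n61917 := d5_2 (iv F276191) D62752 (iv D61917)
theorem F280170 : act 7 n62752 = n62335 := d6_2 (iv F276192) D62752 (iv D62335)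
theorem F280171 : act 8 n62752 = n61954 := d7_2 (iv F276193) D62752 (iv D61954)
theorem F280172 : act 9 n62752 = n62075 := d8_2 (iv F276194) D62752 (iv D62075)
def n62753 : Q := act 4 n61914
theorem D62753 : act 4 n61914 = n62753 := rfl
theorem F280173 : act 1 n62753 = n61915 := d11_1 D62753 (iv D61915) D61914
theorem F280174 : act 2 n62753 = n62290 := d18_1 D62753 (iv D62290) (iv F276188)
theorem F280175 : act 6 n62753 = n61918 := d31_2 (iv F276191) D62753 (iv D61918)
theorem F280176 : act 7 n62753 = n62336 := d32_2 (iv F276192) D62753 (iv D62336)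
theorem F280177 : act 8 n62753 = n61955 := d33_2 (iv F276193) D62753 (iv D61955)
theorem F280178 : act 9 n62753 = n62076 := d34_2 (iv F276194) D62753 (iv D62076)
def n62754 : Q := act 3 n61915
theorem D62754 : act 3 n61915 = n62754 := rfl
theorem F280179 : act 0 n62754 = n62146 := d2_1 D62754 (iv D62146) (iv F276195)
theorem F280180 : act 2 n62754 = n62754 := d17_1 D62754 (iv D62754) F276196 F271484 (iv F276196)
theorem F280181 : act 4 n62754 = n62502 := d24_2 D61915 D62754 (iv D62502) (iv D61566) (iv F271476)
theorem F280182 : act 6 n62754 = n61919 := d26_2 (iv F276197) D62754 (iv D61919)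
theorem F280183 : act 7 n62754 = n62337 := d27_2 (iv F276198) D62754 (iv D62337)
theorem F280184 : act 8 n62754 = n62526 := d28_2 (iv F276199) D62754 (iv D62526) F274791 (iv F271661)
theorem F280185 : act 9 n62754 = n62077 := d29_2 (iv F276200) D62754 (iv D62077)
def n62755 : Q := act 5 n61915
theorem D62755 : act 5 n61915 = n62755 := rfl
theorem F280186 : act 0 n62755 = n62147 := d4_1 D62755 (iv D62147) (iv F276195)
theorem F280187 : act 2 n62755 = n61916 := d19_1 D62755 (iv D61916) (iv F276196)
theorem F280188 : act 4 n62755 = n62194 := d30_1 D62755 F277739 (iv D61359) (iv F271477) D61915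
theorem F280189 : act 6 n62755 = n62184 := d35_2 (iv F276197) D62755 (iv D62184) (iv F275339) F275338
theorem F280190 : act 7 n62755 = n62157 := d36_2 (iv F276198) D62755 F277575
theorem F280191 : act 8 n62755 = n61956 := d37_2 (iv F276199) D62755 (iv D61956)
theorem F280192 : act 9 n62755 = n62078 := d38_2 (iv F276200) D62755 (iv D62078)
def n62756 : Q := act 4 n61917
theorem D62756 : act 4 n61917 = n62756 := rfl
theorem F280193 : act 0 n62756 = n61918 := d3_1 D62756 (iv D61918) D61917
theorem F280194 : act 1 n62756 = n62570 := d11_1 D62756 (iv D62570) (iv F276209)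
theorem F280195 : act 2 n62756 = n62292 := d18_1 D62756 (iv D62292) (iv F276210)
theorem F280196 : act 7 n62756 = n61938 := d32_2 (iv F276212) D62756 (iv D61938)
theorem F280197 : act 8 n62756 = n61957 := d33_2 (iv F276213) D62756 (iv D61957)
theorem F280198 : act 9 n62756 = n62568 := d34_2 (iv F276214) D62756 (iv D62568)
def n62757 : Q := act 3 n61918
theorem D62757 : act 3 n61918 = n62757 := rfl
theorem F280199 : act 1 n62757 = n61919 := d10_1 D62757 (iv D61919) (iv F276215)
theorem F280200 : act 7 n62757 = n61939 := d27_2 (iv F276217) D62757 (iv D61939)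
theorem F280201 : act 9 n62757 = n62569 := d29_2 (iv F276219) D62757 (iv D62569)
def n62758 : Q := act 8 n61919
theorem D62758 : act 8 n61919 = n62758 := rfl
theorem F280202 : act 0 n62758 = n62502 := d7_1 D62758 F279012 (iv F276220)
theorem F280203 : act 2 n62758 = n62758 := d22_1 D62758 (iv D62758) F276221
theorem F280204 : act 3 n62758 = n61959 := d28_1 D62758 (iv D61959) (iv D60900) (iv F271497) D61919
theorem F280205 : act 4 n62758 = n62146 := d33_1 D62758 (iv F280134) F280131
theorem F280206 : act 6 n62758 = n62526 := d40_1 D62758 (iv F280184) F280182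
theorem F280207 : act 7 n62758 = n61940 := d42_1 D62758 (iv D61940) (iv F276222)
theorem F280208 : act 9 n62116 = n62758 := d41_0 F280206 F279076 (iv F277404)
def n62759 : Q := act 0 n61920
theorem D62759 : act 0 n61920 = n62759 := rfl
theorem F280209 : act 1 n62759 = n61922 := d0_2 D61920 D62759 (iv D61922) (iv D60866) (iv F271504)
theorem F280210 : act 2 n62759 = n62102 := d1_2 (iv F276224) D62759 (iv D62102)
theorem F280211 : act 3 n62759 = n62295 := d2_2 (iv F276225) D62759 (iv D62295)
theorem F280212 : act 5 n62759 = n62605 := d4_2 (iv F276226) D62759 (iv D62605)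
theorem F280213 : act 6 n62759 = n62353 := d5_2 (iv F276227) D62759 (iv D62353)
theorem F280214 : act 7 n62759 = n62106 := d6_2 (iv F276228) D62759 (iv D62106)
theorem F280215 : act 8 n62759 = n62417 := d7_2 (iv F276229) D62759 (iv D62417)
theorem F280216 : act 9 n62759 = n62285 := d8_2 (iv F276230) D62759 (iv D62285)
def n62760 : Q := act 4 n61920
theorem D62760 : act 4 n61920 = n62760 := rfl
theorem F280217 : act 1 n62760 = n61921 := d11_1 D62760 (iv D61921) D61920
theorem F280218 : act 2 n62760 = n62014 := d18_1 D62760 F276774 (iv F276224)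
theorem F280219 : act 6 n62760 = n61953 := d31_2 (iv F276227) D62760 F276389
theorem F280220 : act 7 n62760 = n62107 := d32_2 (iv F276228) D62760 (iv D62107)
theorem F280221 : act 8 n62760 = n62418 := d33_2 (iv F276229) D62760 (iv D62418)
theorem F280222 : act 9 n62760 = n61993 := d34_2 (iv F276230) D62760 F276633
def n62761 : Q := act 4 n61922
theorem D62761 : act 4 n61922 = n62761 := rfl
theorem F280223 : act 0 n62761 = n61923 := d3_1 D62761 (iv D61923) D61922
theorem F280224 : act 2 n62761 = n61935 := d18_1 D62761 (iv D61935) (iv F276237)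
theorem F280225 : act 6 n62761 = n62490 := d31_2 (iv F276239) D62761 (iv D62490)
theorem F280226 : act 9 n62761 = n62483 := d34_2 (iv F276240) D62761 (iv D62483)
def n62762 : Q := act 3 n61923
theorem D62762 : act 3 n61923 = n62762 := rfl
theorem F280227 : act 1 n62762 = n61924 := d10_1 D62762 (iv D61924) (iv F276241)
theorem F280228 : act 4 n62762 = n62307 := d24_2 D61923 D62762 (iv D62307) (iv D61323) (iv F271519)
theorem F280229 : act 6 n62762 = n62491 := d26_2 (iv F276243) D62762 (iv D62491)
theorem F280230 : act 9 n62762 = n62484 := d29_2 (iv F276244) D62762 (iv D62484)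
def n62763 : Q := act 5 n61923
theorem D62763 : act 5 n61923 = n62763 := rfl
theorem F280231 : act 1 n62763 = n61925 := d12_1 D62763 (iv D61925) (iv F276241)
theorem F280232 : act 2 n62763 = n61936 := d19_1 D62763 (iv D61936) (iv F276242)
theorem F280233 : act 6 n62763 = n62625 := d35_2 (iv F276243) D62763 F279319 F275203 (iv F274647)
theorem F280234 : act 9 n62763 = n62485 := d38_2 (iv F276244) D62763 (iv D62485)
def n62764 : Q := act 8 n61924
theorem D62764 : act 8 n61924 = n62764 := rfl
theorem F280235 : act 2 n62764 = n61926 := d22_1 D62764 (iv D61926) (iv F276245)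
theorem F280236 : act 4 n62764 = n62310 := d33_1 D62764 (iv D62310) (iv F276246)
theorem F280237 : act 6 n62764 = n62305 := d40_1 D62764 F278258 (iv F276247)
theorem F280238 : act 7 n62764 = n62457 := d42_1 D62764 (iv F279753) F279752
def n62765 : Q := act 4 n61927
theorem D62765 : act 4 n61927 = n62765 := rfl
theorem F280239 : act 0 n62765 = n61928 := d3_1 D62765 (iv D61928) D61927
theorem F280240 : act 1 n62765 = n62511 := d11_1 D62765 (iv D62511) (iv F276257)
theorem F280241 : act 6 n62765 = n62492 := d31_2 (iv F276259) D62765 (iv D62492)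
theorem F280242 : act 8 n62765 = n61935 := d33_2 (iv F276260) D62765 (iv D61935)
theorem F280243 : act 9 n62765 = n62463 := d34_2 (iv F276261) D62765 (iv D62463)
def n62766 : Q := act 3 n61928
theorem D62766 : act 3 n61928 = n62766 := rfl
theorem F280244 : act 1 n62766 = n61929 := d10_1 D62766 (iv D61929) (iv F276262)
theorem F280245 : act 4 n62766 = n61969 := d24_2 D61928 D62766 (iv D61969) (iv D60909) (iv F271532)
theorem F280246 : act 6 n62766 = n62493 := d26_2 (iv F276263) D62766 (iv D62493)
theorem F280247 : act 9 n62766 = n62464 := d29_2 (iv F276265) D62766 (iv D62464)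
def n62767 : Q := act 5 n61928
theorem D62767 : act 5 n61928 = n62767 := rfl
theorem F280248 : act 1 n62767 = n61930 := d12_1 D62767 (iv D61930) (iv F276262)
theorem F280249 : act 4 n62767 = n62284 := d30_1 D62767 F279807 (iv D62698) F275741 D61928
theorem F280250 : act 8 n62767 = n61936 := d37_2 (iv F276264) D62767 (iv D61936)
theorem F280251 : act 9 n62767 = n62282 := d38_2 (iv F276265) D62767 F278160
def n62768 : Q := act 5 n61929
theorem D62768 : act 5 n61929 = n62768 := rfl
theorem F280252 : act 0 n62768 = n62434 := d4_1 D62768 F278746 (iv F276266)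
theorem F280253 : act 2 n62768 = n62768 := d19_1 D62768 (iv D62768) F276267
theorem F280254 : act 3 n62768 = n61930 := d25_1 D62768 (iv D61930) D61929
theorem F280255 : act 9 n62768 = n62280 := d38_2 (iv F276270) D62768 F278152
def n62769 : Q := act 4 n61931
theorem D62769 : act 4 n61931 = n62769 := rfl
theorem F280256 : act 0 n62769 = n61932 := d3_1 D62769 (iv D61932) D61931
theorem F280257 : act 1 n62769 = n62541 := d11_1 D62769 (iv D62541) (iv F276276)
theorem F280258 : act 6 n62769 = n62594 := d31_2 (iv F276279) D62769 (iv D62594)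
theorem F280259 : act 9 n62769 = n62487 := d34_2 (iv F276280) D62769 (iv D62487)
def n62770 : Q := act 3 n61932
theorem D62770 : act 3 n61932 = n62770 := rfl
theorem F280260 : act 1 n62770 = n61933 := d10_1 D62770 (iv D61933) (iv F276281)
theorem F280261 : act 4 n62770 = n61939 := d24_2 D61932 D62770 (iv D61939) (iv D60881) (iv F271546)
theorem F280262 : act 6 n62770 = n62595 := d26_2 (iv F276282) D62770 (iv D62595)
theorem F280263 : act 9 n62770 = n62488 := d29_2 (iv F276283) D62770 (iv D62488)
def n62771 : Q := act 5 n61932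
theorem D62771 : act 5 n61932 = n62771 := rfl
theorem F280264 : act 1 n62771 = n61934 := d12_1 D62771 (iv D61934) (iv F276281)
theorem F280265 : act 4 n62771 = n61936 := d30_1 D62771 (iv D61936) (iv D60877) (iv F271547) D61932
theorem F280266 : act 8 n62771 = n62284 := d37_2 F279805 D62771 F279807
theorem F280267 : act 9 n62771 = n62255 := d38_2 (iv F276283) D62771 F278033
def n62772 : Q := act 5 n61933
theorem D62772 : act 5 n61933 = n62772 := rfl
theorem F280268 : act 0 n62772 = n62334 := d4_1 D62772 F278357 (iv F276284)
theorem F280269 : act 2 n62772 = n62772 := d19_1 D62772 (iv D62772) F276285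
theorem F280270 : act 3 n62772 = n61934 := d25_1 D62772 (iv D61934) D61933
theorem F280271 : act 9 n62772 = n62243 := d38_2 (iv F276288) D62772 F277974
def n62773 : Q := act 8 n61933
theorem D62773 : act 8 n61933 = n62773 := rfl
theorem F280272 : act 0 n62773 = n62337 := d7_1 D62773 F278370 (iv F276284)
theorem F280273 : act 2 n62773 = n62773 := d22_1 D62773 (iv D62773) F276285
theorem F280274 : act 3 n62773 = n62132 := d28_1 D62773 F277466 (iv F275748) F275751 D61933
theorem F280275 : act 4 n62773 = n61940 := d33_1 D62773 (iv D61940) (iv F276286)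
theorem F280276 : act 6 n62773 = n62246 := d40_1 D62773 F277993 (iv F276287)
theorem F280277 : act 7 n62773 = n62146 := d42_1 D62773 (iv F280134) F280133
theorem F280278 : act 9 n62773 = n62135 := d44_2 (iv F276288) D62773 F277483 F275030 (iv F274627)
def n62774 : Q := act 5 n61935
theorem D62774 : act 5 n61935 = n62774 := rfl
theorem F280279 : act 0 n62774 = n61936 := d4_1 D62774 (iv D61936) (iv F276294)
theorem F280280 : act 1 n62774 = n62545 := d12_1 D62774 (iv D62545) (iv F276295)
theorem F280281 : act 9 n62774 = n62489 := d38_2 (iv F276297) D62774 (iv D62489)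
def n62775 : Q := act 6 n61936
theorem D62775 : act 6 n61936 = n62775 := rfl
theorem F280282 : act 1 n62775 = n61937 := d13_1 D62775 (iv D61937) (iv F276298)
theorem F280283 : act 2 n62775 = n62625 := d20_1 D62775 (iv F280233) F280232
theorem F280284 : act 5 n62775 = n62266 := d35_1 D62775 F278089 F273597 (iv F271564) D61936
theorem F280285 : act 9 n62775 = n62455 := d41_2 (iv F276299) D62775 F278825
def n62776 : Q := act 3 n61938
theorem D62776 : act 3 n61938 = n62776 := rfl
theorem F280286 : act 0 n62776 = n61939 := d2_1 D62776 (iv D61939) (iv F276304)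
theorem F280287 : act 6 n62776 = n62596 := d26_2 (iv F276306) D62776 (iv D62596)
theorem F280288 : act 9 n62776 = n62617 := d29_2 (iv F276308) D62776 (iv D62617)
def n62777 : Q := act 2 n61939
theorem D62777 : act 2 n61939 = n62777 := rfl
theorem F280289 : act 1 n62777 = n62777 := d9_1 D62777 (iv D62777) F276309 F271584 (iv F276309)
theorem F280290 : act 3 n62777 = n62332 := d17_2 D61939 D62777 (iv D62332) (iv D61347) (iv F271580)
theorem F280291 : act 6 n62777 = n62597 := d20_2 (iv F276310) D62777 (iv D62597)
theorem F280292 : act 9 n62777 = n62618 := d23_2 (iv F276311) D62777 (iv D62618)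
def n62778 : Q := act 8 n61939
theorem D62778 : act 8 n61939 = n62778 := rfl
theorem F280293 : act 1 n62778 = n61940 := d15_1 D62778 (iv D61940) (iv F276309)
theorem F280294 : act 3 n62778 = n61977 := d28_1 D62778 (iv D61977) (iv D60920) (iv F271582) D61939
theorem F280295 : act 6 n62778 = n62412 := d40_1 D62778 F278680 (iv F276310)
def n62779 : Q := act 9 n61940
theorem D62779 : act 9 n61940 = n62779 := rfl
theorem F280296 : act 0 n62779 = n62370 := d8_1 D62779 F278528 (iv F276312)
theorem F280297 : act 2 n62779 = n62779 := d23_1 D62779 (iv D62779) F276313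
theorem F280298 : act 3 n62779 = n61978 := d29_1 D62779 (iv D61978) (iv F276314)
theorem F280299 : act 4 n62779 = n62135 := d34_1 D62779 (iv F280278) F280275
theorem F280300 : act 6 n62779 = n62259 := d41_1 D62779 F278057 (iv F276315)
theorem F280301 : act 7 n62779 = n62116 := d43_1 D62779 F280208 F280207
theorem F280302 : act 8 n62779 = n62558 := d44_1 D62779 F279161 F274939 (iv F271586) D61940
def n62780 : Q := act 0 n61941
theorem D62780 : act 0 n61941 = n62780 := rfl
theorem F280303 : act 1 n62780 = n62181 := d0_2 D61941 D62780 (iv D62181) (iv D61167) (iv F271587)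
theorem F280304 : act 2 n62780 = n62335 := d1_2 (iv F276316) D62780 (iv D62335)
theorem F280305 : act 3 n62780 = n62275 := d2_2 (iv F276317) D62780 (iv D62275)
theorem F280306 : act 5 n62780 = n61954 := d4_2 (iv F276318) D62780 (iv D61954)
theorem F280307 : act 6 n62780 = n61944 := d5_2 (iv F276319) D62780 (iv D61944)
theorem F280308 : act 7 n62780 = n62289 := d6_2 (iv F276320) D62780 (iv D62289)
theorem F280309 : act 8 n62780 = n62342 := d7_2 (iv F276321) D62780 (iv D62342)
theorem F280310 : act 9 n62780 = n61981 := d8_2 (iv F276322) D62780 (iv D61981)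
def n62781 : Q := act 4 n61941
theorem D62781 : act 4 n61941 = n62781 := rfl
theorem F280311 : act 1 n62781 = n61942 := d11_1 D62781 (iv D61942) D61941
theorem F280312 : act 2 n62781 = n62336 := d18_1 D62781 (iv D62336) (iv F276316)
theorem F280313 : act 6 n62781 = n61945 := d31_2 (iv F276319) D62781 (iv D61945)
theorem F280314 : act 7 n62781 = n62290 := d32_2 (iv F276320) D62781 (iv D62290)
theorem F280315 : act 8 n62781 = n62343 := d33_2 (iv F276321) D62781 (iv D62343)
theorem F280316 : act 9 n62781 = n61982 := d34_2 (iv F276322) D62781 (iv D61982)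
def n62782 : Q := act 3 n61942
theorem D62782 : act 3 n61942 = n62782 := rfl
theorem F280317 : act 0 n62782 = n62183 := d2_1 D62782 (iv D62183) (iv F276323)
theorem F280318 : act 2 n62782 = n62782 := d17_1 D62782 (iv D62782) F276324 F271596 (iv F276324)
theorem F280319 : act 4 n62782 = n62277 := d24_2 D61942 D62782 (iv D62277) (iv D61290) (iv F271588)
theorem F280320 : act 6 n62782 = n61946 := d26_2 (iv F276325) D62782 (iv D61946)
theorem F280321 : act 7 n62782 = n62291 := d27_2 (iv F276326) D62782 (iv D62291)
theorem F280322 : act 9 n62782 = n61983 := d29_2 (iv F276328) D62782 (iv D61983)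
def n62783 : Q := act 5 n61942
theorem D62783 : act 5 n61942 = n62783 := rfl
theorem F280323 : act 0 n62783 = n62184 := d4_1 D62783 (iv D62184) (iv F276323)
theorem F280324 : act 2 n62783 = n61943 := d19_1 D62783 (iv D61943) (iv F276324)
theorem F280325 : act 4 n62783 = n61956 := d30_1 D62783 (iv D61956) (iv D60896) (iv F271589) D61942
theorem F280326 : act 6 n62783 = n62147 := d35_2 (iv F276325) D62783 (iv D62147) F272906 (iv F271607)
theorem F280327 : act 7 n62783 = n62205 := d36_2 (iv F276326) D62783 F277784
theorem F280328 : act 8 n62783 = n62194 := d37_2 (iv F276327) D62783 F277739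
theorem F280329 : act 9 n62783 = n61984 := d38_2 (iv F276328) D62783 (iv D61984)
def n62784 : Q := act 4 n61944
theorem D62784 : act 4 n61944 = n62784 := rfl
theorem F280330 : act 0 n62784 = n61945 := d3_1 D62784 (iv D61945) D61944
theorem F280331 : act 2 n62784 = n62338 := d18_1 D62784 (iv D62338) (iv F276337)
theorem F280332 : act 5 n62784 = n62570 := d30_2 (iv F276338) D62784 (iv D62570) (iv F275474) F275473
theorem F280333 : act 7 n62784 = n62328 := d32_2 (iv F276339) D62784 (iv D62328)
theorem F280334 : act 8 n62784 = n62354 := d33_2 (iv F276340) D62784 (iv D62354)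
theorem F280335 : act 9 n62784 = n61985 := d34_2 (iv F276341) D62784 (iv D61985)
def n62785 : Q := act 3 n61945
theorem D62785 : act 3 n61945 = n62785 := rfl
theorem F280336 : act 1 n62785 = n61946 := d10_1 D62785 (iv D61946) (iv F276342)
theorem F280337 : act 5 n62785 = n62571 := d25_2 (iv F276344) D62785 (iv D62571)
theorem F280338 : act 7 n62785 = n62329 := d27_2 (iv F276345) D62785 (iv D62329)
theorem F280339 : act 9 n62785 = n61986 := d29_2 (iv F276347) D62785 (iv D61986)
def n62786 : Q := act 8 n61946
theorem D62786 : act 8 n61946 = n62786 := rfl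
theorem F280340 : act 2 n62786 = n62786 := d22_1 D62786 (iv D62786) F276348
theorem F280341 : act 3 n62786 = n62356 := d28_1 D62786 (iv D62356) (iv D61375) (iv F271609) D61946
theorem F280342 : act 5 n62786 = n62502 := d37_1 D62786 F279012 (iv F276349)
theorem F280343 : act 7 n62786 = n62330 := d42_1 D62786 (iv D62330) (iv F276350)
def n62787 : Q := act 4 n61947
theorem D62787 : act 4 n61947 = n62787 := rfl
theorem F280344 : act 0 n62787 = n61948 := d3_1 D62787 (iv D61948) D61947
theorem F280345 : act 1 n62787 = n62380 := d11_1 D62787 (iv D62380) (iv F276352)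
theorem F280346 : act 2 n62787 = n61952 := d18_1 D62787 (iv D61952) (iv F276353)
theorem F280347 : act 3 n62787 = n62581 := d24_1 D62787 (iv D62581) F275036 (iv F273888) (iv F276354)
theorem F280348 : act 5 n62787 = n62546 := d30_2 (iv F276355) D62787 (iv D62546) (iv F276746) F276745
theorem F280349 : act 7 n62787 = n61963 := d32_2 (iv F276356) D62787 (iv D61963)
theorem F280350 : act 8 n62787 = n62594 := d33_2 (iv F276357) D62787 (iv D62594)
theorem F280351 : act 9 n62787 = n61990 := d34_2 (iv F276358) D62787 (iv D61990)
def n62788 : Q := act 4 n61949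
theorem D62788 : act 4 n61949 = n62788 := rfl
theorem F280352 : act 0 n62788 = n61950 := d3_1 D62788 (iv D61950) D61949
theorem F280353 : act 1 n62788 = n62610 := d11_1 D62788 (iv D62610) (iv F276366)
theorem F280354 : act 2 n62788 = n62594 := d18_1 D62788 (iv D62594) (iv F276367)
theorem F280355 : act 5 n62788 = n62425 := d30_2 (iv F276368) D62788 (iv D62425) F274283 D61463
theorem F280356 : act 7 n62788 = n61968 := d32_2 (iv F276369) D62788 (iv D61968)
theorem F280357 : act 8 n62788 = n61952 := d33_2 (iv F276370) D62788 (iv D61952)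
theorem F280358 : act 9 n62788 = n62429 := d34_2 (iv F276371) D62788 F278730
def n62789 : Q := act 3 n61950
theorem D62789 : act 3 n61950 = n62789 := rfl
theorem F280359 : act 1 n62789 = n61951 := d10_1 D62789 (iv D61951) (iv F276372)
theorem F280360 : act 5 n62789 = n62426 := d25_2 (iv F276374) D62789 (iv D62426)
theorem F280361 : act 7 n62789 = n61969 := d27_2 (iv F276375) D62789 (iv D61969)
theorem F280362 : act 9 n62789 = n62431 := d29_2 (iv F276377) D62789 F278734
def n62790 : Q := act 5 n61952
theorem D62790 : act 5 n61952 = n62790 := rfl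
theorem F280363 : act 0 n62790 = n61953 := d4_1 D62790 (iv D61953) (iv F276383)
theorem F280364 : act 1 n62790 = n62490 := d12_1 D62790 F278969 (iv F276384)
theorem F280365 : act 2 n62790 = n62546 := d19_1 D62790 (iv F280348) F280346
theorem F280366 : act 4 n62790 = n62353 := d30_1 D62790 F278444 F273954 (iv F271642) D61952
theorem F280367 : act 7 n62790 = n61972 := d36_2 (iv F276385) D62790 (iv D61972)
theorem F280368 : act 8 n62790 = n62425 := d37_2 F280357 D62790 (iv F280355)
theorem F280369 : act 9 n62790 = n61992 := d38_2 (iv F276386) D62790 (iv D61992)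
def n62791 : Q := act 4 n61954
theorem D62791 : act 4 n61954 = n62791 := rfl
theorem F280370 : act 0 n62791 = n61955 := d3_1 D62791 (iv D61955) D61954
theorem F280371 : act 1 n62791 = n62190 := d11_1 D62791 (iv D62190) (iv F276393)
theorem F280372 : act 2 n62791 = n62345 := d18_1 D62791 (iv D62345) (iv F276394)
theorem F280373 : act 3 n62791 = n62593 := d24_1 D62791 (iv D62593) F275088 (iv F273658) (iv F276395)
theorem F280374 : act 6 n62791 = n61957 := d31_2 (iv F276396) D62791 (iv D61957)
theorem F280375 : act 7 n62791 = n62598 := d32_2 (iv F276397) D62791 (iv D62598)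
theorem F280376 : act 9 n62791 = n61996 := d34_2 (iv F276398) D62791 (iv D61996)
def n62792 : Q := act 5 n61955
theorem D62792 : act 5 n61955 = n62792 := rfl
theorem F280377 : act 1 n62792 = n61956 := d12_1 D62792 (iv D61956) (iv F276399)
theorem F280378 : act 2 n62792 = n62347 := d19_1 D62792 (iv D62347) (iv F276400)
theorem F280379 : act 3 n62792 = n62409 := d25_1 D62792 F278667 (iv F276401)
theorem F280380 : act 7 n62792 = n62208 := d36_2 (iv F276403) D62792 F277793
theorem F280381 : act 9 n62792 = n61997 := d38_2 (iv F276404) D62792 (iv D61997)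
def n62793 : Q := act 3 n61957
theorem D62793 : act 3 n61957 = n62793 := rfl
theorem F280382 : act 0 n62793 = n61958 := d2_1 D62793 (iv D61958) (iv F276410)
theorem F280383 : act 1 n62793 = n62503 := d10_1 D62793 F279015 (iv F276411)
theorem F280384 : act 4 n62793 = n62314 := d24_2 D61957 D62793 F278296 F273954 (iv F271672)
theorem F280385 : act 6 n62793 = n62593 := d26_2 F280374 D62793 (iv F280373)
theorem F280386 : act 7 n62793 = n61976 := d27_2 (iv F276413) D62793 (iv D61976)
theorem F280387 : act 9 n62793 = n61998 := d29_2 (iv F276414) D62793 (iv D61998)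
theorem F280388 : act 2 n62793 = n62438 := d46_4 F271502 (iv F271673) D61957 D62793 (iv F279729) F279728 F275663 D62517 F279052 F274766 (iv F274375) F274374 (iv F271128) (iv D60807) F266141 F262221 F260217 (iv D57127) (iv F255742) F255741 (iv F255744) (iv F257285) D58543 F262031 (iv F261682) F261681 F257857 F253743 F247653 (iv D53834) (iv D51971) F223390 (iv F229377) F229376 (iv D50470) F215922 F207120 (iv F206449) F176489 F123092 F123091 (iv F122901) (iv F175640) (iv F208577) F208576 (iv F214261) (iv F224226) (iv F230278) F230284 (iv F230807) F230806 (iv F234988) (iv F240146) (iv F244180) F244179 D54684 F245009 (iv F251581) D57326 D58487 D59679 D60863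
def n62794 : Q := act 8 n61958
theorem D62794 : act 8 n61958 = n62794 := rfl
theorem F280389 : act 1 n62794 = n61959 := d15_1 D62794 (iv D61959) (iv F276415)
theorem F280390 : act 2 n62794 = n62414 := d22_1 D62794 F278688 (iv F276420)
theorem F280391 : act 4 n62794 = n62113 := d33_1 D62794 F277394 (iv F276416)
theorem F280392 : act 6 n62794 = n62525 := d40_1 D62794 F279071 (iv F276417)
theorem F280393 : act 7 n62794 = n61977 := d42_1 D62794 (iv D61977) (iv F276418)
theorem F280394 : act 9 n62794 = n62115 := d44_2 (iv F276419) D62794 F277401 F272791 F271943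
def n62795 : Q := act 4 n61960
theorem D62795 : act 4 n61960 = n62795 := rfl
theorem F280395 : act 0 n62795 = n61961 := d3_1 D62795 (iv D61961) D61960
theorem F280396 : act 1 n62795 = n62411 := d11_1 D62795 (iv D62411) (iv F276427)
theorem F280397 : act 2 n62795 = n61968 := d18_1 D62795 (iv D61968) (iv F276428)
theorem F280398 : act 5 n62795 = n62539 := d30_2 (iv F276430) D62795 (iv D62539) F274862 (iv F273863)
theorem F280399 : act 6 n62795 = n62509 := d31_2 (iv F276431) D62795 (iv D62509)
theorem F280400 : act 7 n62795 = n62594 := d32_2 (iv F276432) D62795 (iv D62594)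
theorem F280401 : act 8 n62795 = n61963 := d33_2 (iv F276433) D62795 (iv D61963)
theorem F280402 : act 9 n62795 = n62371 := d34_2 (iv F276434) D62795 (iv D62371)
def n62796 : Q := act 3 n61961
theorem D62796 : act 3 n61961 = n62796 := rfl
theorem F280403 : act 1 n62796 = n61962 := d10_1 D62796 (iv D61962) (iv F276435)
theorem F280404 : act 4 n62796 = n62339 := d24_2 D61961 D62796 (iv D62339) (iv D61353) (iv F271687)
theorem F280405 : act 5 n62796 = n62540 := d25_2 (iv F276437) D62796 (iv D62540)
theorem F280406 : act 6 n62796 = n62510 := d26_2 (iv F276438) D62796 (iv D62510)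
theorem F280407 : act 7 n62796 = n62595 := d27_2 (iv F276439) D62796 (iv D62595)
theorem F280408 : act 8 n62796 = n62585 := d28_2 (iv F276440) D62796 (iv D62585) F275059 (iv F271708)
theorem F280409 : act 9 n62796 = n62372 := d29_2 (iv F276441) D62796 (iv D62372)
def n62797 : Q := act 4 n61965
theorem D62797 : act 4 n61965 = n62797 := rfl
theorem F280410 : act 0 n62797 = n61966 := d3_1 D62797 (iv D61966) D61965
theorem F280411 : act 1 n62797 = n62492 := d11_1 D62797 (iv D62492) (iv F276465)
theorem F280412 : act 2 n62797 = n62371 := d18_1 D62797 (iv D62371) (iv F276466)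
theorem F280413 : act 5 n62797 = n62385 := d30_2 (iv F276468) D62797 (iv D62385) F274151 (iv F274058)
theorem F280414 : act 6 n62797 = n62511 := d31_2 (iv F276469) D62797 (iv D62511)
theorem F280415 : act 7 n62797 = n62429 := d32_2 (iv F276470) D62797 F278730
theorem F280416 : act 8 n62797 = n62006 := d33_2 (iv F276471) D62797 (iv D62006)
theorem F280417 : act 9 n62797 = n61968 := d34_2 (iv F276472) D62797 (iv D61968)
def n62798 : Q := act 3 n61966
theorem D62798 : act 3 n61966 = n62798 := rfl
theorem F280418 : act 1 n62798 = n61967 := d10_1 D62798 (iv D61967) (iv F276473)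
theorem F280419 : act 4 n62798 = n62464 := d24_2 D61966 D62798 (iv D62464) (iv D61514) (iv F271720)
theorem F280420 : act 5 n62798 = n62386 := d25_2 (iv F276475) D62798 (iv D62386)
theorem F280421 : act 6 n62798 = n62512 := d26_2 (iv F276476) D62798 (iv D62512)
theorem F280422 : act 7 n62798 = n62431 := d27_2 (iv F276477) D62798 F278734
theorem F280423 : act 8 n62798 = n62508 := d28_2 (iv F276478) D62798 (iv D62508) F274718 (iv F272015)
theorem F280424 : act 9 n62798 = n61969 := d29_2 (iv F276479) D62798 (iv D61969)
def n62799 : Q := act 3 n61968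
theorem D62799 : act 3 n61968 = n62799 := rfl
theorem F280425 : act 0 n62799 = n61969 := d2_1 D62799 (iv D61969) (iv F276488)
theorem F280426 : act 6 n62799 = n62513 := d26_2 (iv F276489) D62799 (iv D62513)
def n62800 : Q := act 5 n61968
theorem D62800 : act 5 n61968 = n62800 := rfl
theorem F280427 : act 0 n62800 = n61970 := d4_1 D62800 (iv D61970) (iv F276488)
theorem F280428 : act 1 n62800 = n62599 := d12_1 D62800 (iv F280021) F280019
theorem F280429 : act 2 n62800 = n62539 := d19_1 D62800 (iv F280398) F280397
theorem F280430 : act 4 n62800 = n62384 := d30_1 D62800 F278579 (iv F276459) F276460 D61968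
theorem F280431 : act 7 n62800 = n62425 := d36_2 F280356 D62800 (iv F280355)
theorem F280432 : act 8 n62800 = n61972 := d37_2 (iv F276490) D62800 (iv D61972)
theorem F280433 : act 9 n62800 = n62385 := d38_2 F280417 D62800 (iv F280413)
theorem F280434 : act 6 n62536 = n62800 := d40_3 F280432 (iv F276511) (iv F279104)
def n62801 : Q := act 2 n61969
theorem D62801 : act 2 n61969 = n62801 := rfl
theorem F280435 : act 1 n62801 = n62801 := d9_1 D62801 (iv D62801) F276491 F271738 (iv F276491)
theorem F280436 : act 6 n62801 = n62514 := d20_2 (iv F276492) D62801 (iv D62514)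
def n62802 : Q := act 5 n61969
theorem D62802 : act 5 n61969 = n62802 := rfl
theorem F280437 : act 1 n62802 = n61971 := d12_1 D62802 (iv D61971) (iv F276491)
theorem F280438 : act 3 n62802 = n61970 := d25_1 D62802 (iv D61970) D61969
theorem F280439 : act 7 n62802 = n62426 := d36_2 F280361 D62802 (iv F280360)
theorem F280440 : act 9 n62802 = n62386 := d38_2 F280424 D62802 (iv F280420)
theorem F280441 : act 6 n62537 = n62802 := d26_0 F280438 (iv F276499) D62537
def n62803 : Q := act 4 n61971
theorem D62803 : act 4 n61971 = n62803 := rfl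
theorem F280442 : act 0 n62803 = n62291 := d3_1 D62803 F278195 (iv F276500)
theorem F280443 : act 2 n62803 = n62803 := d18_1 D62803 (iv D62803) F276501
theorem F280444 : act 3 n62803 = n62160 := d24_1 D62803 (iv D62160) F272967 (iv F271742) (iv F276502)
theorem F280445 : act 6 n62803 = n62232 := d31_2 F276505 D62803 F277919
theorem F280446 : act 7 n62803 = n62183 := d32_2 (iv F276503) D62803 F277706
theorem F280447 : act 9 n62803 = n62163 := d34_2 (iv F276504) D62803 F277606
def n62804 : Q := act 4 n61973
theorem D62804 : act 4 n61973 = n62804 := rfl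
theorem F280448 : act 0 n62804 = n61974 := d3_1 D62804 (iv D61974) D61973
theorem F280449 : act 1 n62804 = n62581 := d11_1 D62804 (iv D62581) (iv F276512)
theorem F280450 : act 2 n62804 = n62354 := d18_1 D62804 (iv D62354) (iv F276513)
theorem F280451 : act 3 n62804 = n62380 := d24_1 D62804 (iv D62380) F274130 (iv F273939) (iv F276514)
theorem F280452 : act 5 n62804 = n62227 := d30_2 (iv F276515) D62804 (iv D62227) (iv F275920) F275919
theorem F280453 : act 6 n62804 = n62598 := d31_2 (iv F276516) D62804 (iv D62598)
theorem F280454 : act 7 n62804 = n61975 := d32_2 (iv F276517) D62804 (iv D61975)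
theorem F280455 : act 8 n62804 = n62338 := d33_2 (iv F276518) D62804 (iv D62338)
theorem F280456 : act 9 n62804 = n62011 := d34_2 (iv F276519) D62804 (iv D62011)
def n62805 : Q := act 8 n61976
theorem D62805 : act 8 n61976 = n62805 := rfl
theorem F280457 : act 0 n62805 = n61977 := d7_1 D62805 (iv D61977) (iv F276536)
theorem F280458 : act 1 n62805 = n62509 := d15_1 D62805 F279039 (iv F276537)
theorem F280459 : act 2 n62805 = n62421 := d22_1 D62805 F278712 F276541
theorem F280460 : act 4 n62805 = n62410 := d33_1 D62805 F278673 (iv F276538)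
theorem F280461 : act 6 n62805 = n62411 := d40_1 D62805 F278677 (iv F276539)
def n62806 : Q := act 9 n61977
theorem D62806 : act 9 n61977 = n62806 := rfl
theorem F280462 : act 1 n62806 = n61978 := d16_1 D62806 (iv D61978) (iv F276542)
theorem F280463 : act 2 n62806 = n62418 := d23_1 D62806 F278703 (iv F276543)
theorem F280464 : act 4 n62806 = n62099 := d34_1 D62806 F277329 (iv F276544)
theorem F280465 : act 6 n62806 = n62258 := d41_1 D62806 F278050 (iv F276545)
theorem F280466 : act 7 n62806 = n62115 := d43_1 D62806 (iv F280394) F280393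
theorem F280467 : act 8 n62806 = n62014 := d44_1 D62806 (iv D62014) (iv D60971) (iv F271798) D61977
def n62807 : Q := act 0 n61979
theorem D62807 : act 0 n61979 = n62807 := rfl
theorem F280468 : act 1 n62807 = n62161 := d0_2 D61979 D62807 (iv D62161) (iv D61141) (iv F271818)
theorem F280469 : act 2 n62807 = n62075 := d1_2 (iv F276552) D62807 (iv D62075)
theorem F280470 : act 3 n62807 = n62262 := d2_2 (iv F276553) D62807 (iv D62262)
theorem F280471 : act 5 n62807 = n61994 := d4_2 (iv F276554) D62807 (iv D61994)
theorem F280472 : act 6 n62807 = n62103 := d5_2 (iv F276555) D62807 (iv D62103)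
theorem F280473 : act 7 n62807 = n61981 := d6_2 (iv F276556) D62807 (iv D61981)
theorem F280474 : act 8 n62807 = n62073 := d7_2 (iv F276557) D62807 (iv D62073)
theorem F280475 : act 9 n62807 = n62289 := d8_2 (iv F276558) D62807 (iv D62289)
def n62808 : Q := act 4 n61979
theorem D62808 : act 4 n61979 = n62808 := rfl
theorem F280476 : act 1 n62808 = n61980 := d11_1 D62808 (iv D61980) D61979
theorem F280477 : act 2 n62808 = n62076 := d18_1 D62808 (iv D62076) (iv F276552)
theorem F280478 : act 5 n62808 = n62204 := d30_2 (iv F276554) D62808 F277781 F276650 (iv D61995)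
theorem F280479 : act 6 n62808 = n62104 := d31_2 (iv F276555) D62808 (iv D62104)
theorem F280480 : act 7 n62808 = n61982 := d32_2 (iv F276556) D62808 (iv D61982)
theorem F280481 : act 8 n62808 = n62074 := d33_2 (iv F276557) D62808 (iv D62074)
theorem F280482 : act 9 n62808 = n62290 := d34_2 (iv F276558) D62808 (iv D62290)
def n62809 : Q := act 3 n61980
theorem D62809 : act 3 n61980 = n62809 := rfl
theorem F280483 : act 0 n62809 = n62163 := d2_1 D62809 (iv D62163) (iv F276559)
theorem F280484 : act 2 n62809 = n62809 := d17_1 D62809 (iv D62809) F276560 F271827 (iv F276560)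
theorem F280485 : act 4 n62809 = n62264 := d24_2 D61980 D62809 (iv D62264) (iv D61274) (iv F271819)
theorem F280486 : act 5 n62809 = n62189 := d25_2 (iv F276561) D62809 F277721
theorem F280487 : act 6 n62809 = n62105 := d26_2 (iv F276562) D62809 (iv D62105)
theorem F280488 : act 7 n62809 = n61983 := d27_2 (iv F276563) D62809 (iv D61983)
theorem F280489 : act 8 n62809 = n62188 := d28_2 (iv F276564) D62809 F277719 F273124 (iv F272541)
theorem F280490 : act 9 n62809 = n62291 := d29_2 (iv F276565) D62809 (iv D62291)
def n62810 : Q := act 4 n61981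
theorem D62810 : act 4 n61981 = n62810 := rfl
theorem F280491 : act 0 n62810 = n61982 := d3_1 D62810 (iv D61982) D61981
theorem F280492 : act 1 n62810 = n62185 := d11_1 D62810 (iv D62185) (iv F276566)
theorem F280493 : act 2 n62810 = n62375 := d18_1 D62810 (iv D62375) (iv F276567)
theorem F280494 : act 6 n62810 = n61985 := d31_2 (iv F276570) D62810 (iv D61985)
theorem F280495 : act 8 n62810 = n62090 := d33_2 (iv F276571) D62810 (iv D62090)
def n62811 : Q := act 3 n61982
theorem D62811 : act 3 n61982 = n62811 := rfl
theorem F280496 : act 1 n62811 = n61983 := d10_1 D62811 (iv D61983) (iv F276572)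
theorem F280497 : act 4 n62811 = n62279 := d24_2 D61982 D62811 (iv D62279) (iv D61292) (iv F271834)
theorem F280498 : act 6 n62811 = n61986 := d26_2 (iv F276574) D62811 (iv D61986)
def n62812 : Q := act 5 n61982
theorem D62812 : act 5 n61982 = n62812 := rfl
theorem F280499 : act 1 n62812 = n61984 := d12_1 D62812 (iv D61984) (iv F276572)
theorem F280500 : act 2 n62812 = n62156 := d19_1 D62812 F277572 (iv F276573)
theorem F280501 : act 4 n62812 = n61997 := d30_1 D62812 (iv D61997) (iv D60943) (iv F271835) D61982
theorem F280502 : act 6 n62812 = n62150 := d35_2 (iv F276574) D62812 (iv D62150) F272915 (iv F271854)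
theorem F280503 : act 7 n62812 = n62204 := d36_2 F280480 D62812 (iv F280478)
theorem F280504 : act 8 n62812 = n62092 := d37_2 (iv F276575) D62812 (iv D62092)
def n62813 : Q := act 5 n61983
theorem D62813 : act 5 n61983 = n62813 := rfl
theorem F280505 : act 0 n62813 = n62188 := d4_1 D62813 (iv D62188) (iv F276576)
theorem F280506 : act 2 n62813 = n62813 := d19_1 D62813 (iv D62813) F276577
theorem F280507 : act 3 n62813 = n61984 := d25_1 D62813 (iv D61984) D61983
theorem F280508 : act 4 n62813 = n62387 := d30_1 D62813 F278591 F274720 (iv F273655) (iv F276578)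
theorem F280509 : act 6 n62813 = n62151 := d35_2 (iv F276579) D62813 (iv D62151) F272918 (iv F271858)
theorem F280510 : act 7 n62813 = n62189 := d36_2 F280488 D62813 (iv F280486)
theorem F280511 : act 8 n62163 = n62813 := d42_0 F280510 (iv D62189) (iv F277607)
def n62814 : Q := act 8 n61983
theorem D62814 : act 8 n61983 = n62814 := rfl
theorem F280512 : act 0 n62814 = n62189 := d7_1 D62814 (iv D62189) (iv F276576)
theorem F280513 : act 2 n62814 = n62814 := d22_1 D62814 (iv D62814) F276577
theorem F280514 : act 3 n62814 = n62093 := d28_1 D62814 (iv D62093) (iv D61068) (iv F271841) D61983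
theorem F280515 : act 4 n62814 = n62280 := d33_1 D62814 (iv D62280) (iv F276578)
theorem F280516 : act 5 n62814 = n62163 := d37_1 D62814 F280511 (iv D62813)
theorem F280517 : act 6 n62814 = n61987 := d40_1 D62814 (iv D61987) (iv F276579)
theorem F280518 : act 7 n62814 = n62188 := d42_1 D62814 (iv F280489) F280488
def n62815 : Q := act 3 n61985
theorem D62815 : act 3 n61985 = n62815 := rfl
theorem F280519 : act 0 n62815 = n61986 := d2_1 D62815 (iv D61986) (iv F276586)
theorem F280520 : act 5 n62815 = n62572 := d25_2 (iv F276588) D62815 (iv D62572)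
theorem F280521 : act 7 n62815 = n62519 := d27_2 (iv F276589) D62815 (iv D62519)
def n62816 : Q := act 2 n61986
theorem D62816 : act 2 n61986 = n62816 := rfl
theorem F280522 : act 1 n62816 = n62816 := d9_1 D62816 (iv D62816) F276591 F271857 (iv F276591)
theorem F280523 : act 3 n62816 = n62378 := d17_2 D61986 D62816 (iv D62378) (iv D61406) (iv F271853)
theorem F280524 : act 5 n62816 = n62573 := d19_2 (iv F276592) D62816 (iv D62573)
theorem F280525 : act 7 n62816 = n62520 := d21_2 (iv F276593) D62816 (iv D62520)
def n62817 : Q := act 8 n61986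
theorem D62817 : act 8 n61986 = n62817 := rfl
theorem F280526 : act 1 n62817 = n61987 := d15_1 D62817 (iv D61987) (iv F276591)
theorem F280527 : act 3 n62817 = n62554 := d28_1 D62817 F279147 F274919 (iv F271856) D61986
theorem F280528 : act 5 n62817 = n62553 := d37_1 D62817 F279145 (iv F276592)
theorem F280529 : act 7 n62817 = n62521 := d42_1 D62817 (iv D62521) (iv F276593)
def n62818 : Q := act 9 n61987
theorem D62818 : act 9 n61987 = n62818 := rfl
theorem F280530 : act 2 n62818 = n62818 := d23_1 D62818 (iv D62818) F276594
theorem F280531 : act 3 n62818 = n62551 := d29_1 D62818 F279141 (iv F276595)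
theorem F280532 : act 5 n62818 = n62550 := d38_1 D62818 F279138 (iv F276596)
theorem F280533 : act 7 n62818 = n62522 := d43_1 D62818 (iv D62522) (iv F276597)
def n62819 : Q := act 4 n61988
theorem D62819 : act 4 n61988 = n62819 := rfl
theorem F280534 : act 0 n62819 = n61989 := d3_1 D62819 (iv D61989) D61988
theorem F280535 : act 1 n62819 = n61990 := d11_1 D62819 (iv D61990) (iv F276598)
theorem F280536 : act 2 n62819 = n62007 := d18_1 D62819 F276730 (iv F276599)
theorem F280537 : act 3 n62819 = n62011 := d24_1 D62819 (iv D62011) (iv F276744) F276745 (iv F276600)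
theorem F280538 : act 5 n62819 = n62004 := d30_2 (iv F276601) D62819 (iv D62004) F271980 (iv F273888)
theorem F280539 : act 6 n62819 = n62225 := d31_2 (iv F276602) D62819 F277880
theorem F280540 : act 7 n62819 = n62001 := d32_2 (iv F276603) D62819 (iv D62001)
theorem F280541 : act 8 n62819 = n62005 := d33_2 (iv F276604) D62819 F276717
theorem F280542 : act 9 n62819 = n62380 := d34_2 (iv F276605) D62819 (iv D62380)
def n62820 : Q := act 5 n61990
theorem D62820 : act 5 n61990 = n62820 := rfl
theorem F280543 : act 0 n62820 = n61991 := d4_1 D62820 (iv D61991) (iv F276614)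
theorem F280544 : act 1 n62820 = n62004 := d12_1 D62820 (iv F280538) F280535
theorem F280545 : act 2 n62820 = n61992 := d19_1 D62820 (iv D61992) (iv F276615)
theorem F280546 : act 3 n62820 = n62224 := d25_1 D62820 (iv F280055) F280054
theorem F280547 : act 4 n62820 = n62000 := d30_1 D62820 F276679 F273939 (iv F271877) D61990
theorem F280548 : act 6 n62820 = n62013 := d35_2 F279812 D62820 (iv F279942) F279943 F279815
theorem F280549 : act 7 n62820 = n62005 := d36_2 (iv F276616) D62820 (iv D62005)
theorem F280550 : act 8 n62820 = n62001 := d37_2 (iv F276617) D62820 F276688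
theorem F280551 : act 9 n62820 = n62546 := d38_2 F280351 D62820 (iv F280348)
def n62821 : Q := act 6 n61992
theorem D62821 : act 6 n61992 = n62821 := rfl
theorem F280552 : act 0 n62821 = n61993 := d5_1 D62821 (iv D61993) (iv F276626)
theorem F280553 : act 1 n62821 = n62483 := d13_1 D62821 F278944 (iv F276627)
theorem F280554 : act 2 n62821 = n62013 := d20_1 D62821 (iv F280548) F280545
theorem F280555 : act 4 n62821 = n62285 := d31_1 D62821 F278167 (iv F276628)
theorem F280556 : act 7 n62821 = n62306 := d39_2 (iv F276629) D62821 F278261 F276757 (iv D62010)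
theorem F280557 : act 8 n62821 = n62012 := d40_2 (iv F276630) D62821 F276767
def n62822 : Q := act 4 n61994
theorem D62822 : act 4 n61994 = n62822 := rfl
theorem F280558 : act 0 n62822 = n61995 := d3_1 D62822 (iv D61995) D61994
theorem F280559 : act 1 n62822 = n62166 := d11_1 D62822 (iv D62166) (iv F276636)
theorem F280560 : act 2 n62822 = n62399 := d18_1 D62822 (iv D62399) (iv F276637)
theorem F280561 : act 3 n62822 = n62225 := d24_1 D62822 F277880 F274741 (iv F273577) (iv F276638)
theorem F280562 : act 6 n62822 = n62011 := d31_2 (iv F276639) D62822 (iv D62011)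
theorem F280563 : act 7 n62822 = n61996 := d32_2 (iv F276640) D62822 (iv D61996)
theorem F280564 : act 8 n62822 = n62052 := d33_2 (iv F276641) D62822 F277033
theorem F280565 : act 9 n62822 = n62598 := d34_2 (iv F276642) D62822 (iv D62598)
theorem F280566 : act 5 n62207 = n62822 := d46_1 D62207 (iv D62822) F276638 F273576 (iv F274304) F274303 F269253 (iv F266658) D60893 (iv F275508) F275507 F274582 F269636 (iv F269884) (iv F273935) F273934 (iv F271074) F271073 F266096 F263711 (iv D57895) (iv F258738) F258737 (iv D56857) F249438 F242270 (iv F241784) (iv D53919) F233581 F226103 F216324 F190210 (iv F204284) F179351 (iv D42934) F124991 (iv F124698) F124697 F87115 (iv F124643) F203961 F102131 (iv F146366) F206748 (iv F212127) F212126 (iv F209170) F209169 D47642 F213195 D48632 (iv F225816) (iv F234720) (iv F239443) F239442 (iv F239840) (iv F247271) D56442 D57617 (iv F263147) (iv F268103) (iv F273189)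
def n62823 : Q := act 5 n61996
theorem D62823 : act 5 n61996 = n62823 := rfl
theorem F280567 : act 0 n62823 = n61997 := d4_1 D62823 (iv D61997) (iv F276651)
theorem F280568 : act 1 n62823 = n62196 := d12_1 D62823 (iv D62196) (iv F276652)
theorem F280569 : act 2 n62823 = n62402 := d19_1 D62823 (iv D62402) (iv F276653)
theorem F280570 : act 3 n62823 = n62407 := d25_1 D62823 F278660 (iv F276654)
theorem F280571 : act 7 n62823 = n62207 := d36_2 F280563 D62823 F280566
theorem F280572 : act 8 n62823 = n62094 := d37_2 (iv F276656) D62823 (iv D62094)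
def n62824 : Q := act 2 n61998
theorem D62824 : act 2 n61998 = n62824 := rfl
theorem F280573 : act 0 n62824 = n61999 := d1_1 D62824 (iv D61999) (iv F276662)
theorem F280574 : act 1 n62824 = n62472 := d9_1 D62824 F278897 F274587 (iv F274781) (iv F276663)
theorem F280575 : act 3 n62824 = n62406 := d17_2 D61998 D62824 (iv D62406) (iv D61435) (iv F271936)
theorem F280576 : act 4 n62824 = n62301 := d18_2 (iv F276664) D62824 F278237
theorem F280577 : act 5 n62824 = n62592 := d19_2 F279789 D62824 (iv F279788)
theorem F280578 : act 6 n62824 = n62591 := d20_2 (iv F276665) D62824 F279241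
theorem F280579 : act 7 n62824 = n62012 := d21_2 (iv F276666) D62824 (iv D62012)
theorem F280580 : act 8 n62824 = n62306 := d22_2 F276667 D62824 F278260
theorem F280581 : act 9 n62824 = n62438 := d23_2 F280387 D62824 (iv F280388)
def n62825 : Q := act 4 n62002
theorem D62825 : act 4 n62002 = n62825 := rfl
theorem F280582 : act 0 n62825 = n62003 := d3_1 D62825 (iv D62003) D62002
theorem F280583 : act 1 n62825 = n62546 := d11_1 D62825 (iv D62546) (iv F276691)
theorem F280584 : act 2 n62825 = n62006 := d18_1 D62825 (iv D62006) (iv F276692)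
theorem F280585 : act 3 n62825 = n62227 := d24_1 D62825 (iv D62227) F273380 (iv F273218) (iv F276693)
theorem F280586 : act 5 n62825 = n62380 := d30_2 (iv F276694) D62825 (iv D62380) F274131 (iv F274063)
theorem F280587 : act 6 n62825 = n62538 := d31_2 (iv F276695) D62825 (iv D62538)
theorem F280588 : act 7 n62825 = n62210 := d32_2 (iv F276696) D62825 (iv D62210)
theorem F280589 : act 8 n62825 = n62371 := d33_2 (iv F276697) D62825 (iv D62371)
theorem F280590 : act 9 n62825 = n62004 := d34_2 (iv F276698) D62825 (iv D62004)
def n62826 : Q := act 6 n62007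
theorem D62826 : act 6 n62007 = n62826 := rfl
theorem F280591 : act 0 n62826 = n62008 := d5_1 D62826 (iv D62008) (iv F276727)
theorem F280592 : act 1 n62826 = n62623 := d13_1 D62826 (iv D62623) (iv F276728)
theorem F280593 : act 2 n62826 = n62225 := d20_1 D62826 (iv F280539) F280536
theorem F280594 : act 3 n62826 = n62534 := d26_1 D62826 (iv D62534) (iv F276729)
theorem F280595 : act 4 n62826 = n62341 := d31_1 D62826 F278390 (iv F276730)
theorem F280596 : act 5 n62826 = n62447 := d35_1 D62826 F278798 (iv D61633) (iv F272023) D62007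
theorem F280597 : act 7 n62826 = n62591 := d39_2 (iv F276731) D62826 (iv F280578) F280579 F276767
theorem F280598 : act 8 n62826 = n62010 := d40_2 (iv F276732) D62826 (iv D62010)
theorem F280599 : act 9 n62826 = n62391 := d41_2 (iv F276733) D62826 F278607
def n62827 : Q := act 9 n62013
theorem D62827 : act 9 n62013 = n62827 := rfl
theorem F280600 : act 0 n62827 = n62014 := d8_1 D62827 (iv D62014) (iv F276769)
theorem F280601 : act 1 n62827 = n62538 := d16_1 D62827 F279108 (iv F276770)
theorem F280602 : act 4 n62827 = n62102 := d34_1 D62827 F277347 (iv F276771)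
theorem F280603 : act 6 n62827 = n62546 := d41_1 D62827 (iv F280551) F280548
theorem F280604 : act 7 n62827 = n62124 := d43_1 D62827 F277430 (iv F276772)
def n62828 : Q := act 4 n62017
theorem D62828 : act 4 n62017 = n62828 := rfl
theorem F280605 : act 0 n62828 = n62018 := d3_1 D62828 (iv D62018) D62017
theorem F280606 : act 1 n62828 = n62042 := d11_1 D62828 (iv D62042) (iv F276795)
theorem F280607 : act 2 n62828 = n62201 := d18_1 D62828 (iv D62201) (iv F276796)
theorem F280608 : act 3 n62828 = n62080 := d24_1 D62828 (iv D62080) F272571 (iv F272154) (iv F276797)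
theorem F280609 : act 5 n62828 = n62137 := d30_2 (iv F276798) D62828 (iv D62137) F272857 (iv F272257)
theorem F280610 : act 6 n62828 = n62178 := d31_2 (iv F276799) D62828 (iv D62178)
theorem F280611 : act 7 n62828 = n62046 := d32_2 (iv F276800) D62828 (iv D62046)
theorem F280612 : act 9 n62828 = n62022 := d34_2 (iv F276801) D62828 (iv D62022)
def n62829 : Q := act 4 n62019
theorem D62829 : act 4 n62019 = n62829 := rfl
theorem F280613 : act 0 n62829 = n62020 := d3_1 D62829 (iv D62020) D62019
theorem F280614 : act 1 n62829 = n62046 := d11_1 D62829 (iv D62046) (iv F276809)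
theorem F280615 : act 2 n62829 = n62461 := d18_1 D62829 (iv D62461) (iv F276810)
theorem F280616 : act 3 n62829 = n62136 := d24_1 D62829 (iv D62136) F272849 (iv F272257) (iv F276811)
theorem F280617 : act 5 n62829 = n62082 := d30_2 (iv F276812) D62829 (iv D62082) F272585 (iv F272154)
theorem F280618 : act 6 n62829 = n62458 := d31_2 (iv F276813) D62829 (iv D62458)
theorem F280619 : act 7 n62829 = n62042 := d32_2 (iv F276814) D62829 (iv D62042)
theorem F280620 : act 8 n62829 = n62577 := d33_2 (iv F276815) D62829 (iv D62577)
theorem F280621 : act 9 n62829 = n62023 := d34_2 (iv F276816) D62829 (iv D62023)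
def n62830 : Q := act 0 n62024
theorem D62830 : act 0 n62024 = n62830 := rfl
theorem F280622 : act 1 n62830 = n62548 := d0_2 D62024 D62830 (iv D62548) (iv D61639) (iv F272199)
theorem F280623 : act 2 n62830 = n62181 := d1_2 (iv F276850) D62830 (iv D62181)
theorem F280624 : act 3 n62830 = n62038 := d2_2 (iv F276851) D62830 (iv D62038)
theorem F280625 : act 5 n62830 = n62173 := d4_2 (iv F276852) D62830 (iv D62173)
theorem F280626 : act 6 n62830 = n62211 := d5_2 (iv F276853) D62830 (iv D62211)
theorem F280627 : act 7 n62830 = n62556 := d6_2 (iv F276854) D62830 (iv D62556)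
theorem F280628 : act 8 n62830 = n62030 := d7_2 (iv F276855) D62830 (iv D62030)
theorem F280629 : act 9 n62830 = n62169 := d8_2 (iv F276856) D62830 (iv D62169)
def n62831 : Q := act 4 n62024
theorem D62831 : act 4 n62024 = n62831 := rfl
theorem F280630 : act 1 n62831 = n62025 := d11_1 D62831 (iv D62025) D62024
theorem F280631 : act 2 n62831 = n62182 := d18_1 D62831 (iv D62182) (iv F276850)
theorem F280632 : act 6 n62831 = n62212 := d31_2 (iv F276853) D62831 (iv D62212)
theorem F280633 : act 7 n62831 = n62557 := d32_2 (iv F276854) D62831 (iv D62557)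
theorem F280634 : act 8 n62831 = n62031 := d33_2 (iv F276855) D62831 (iv D62031)
theorem F280635 : act 9 n62831 = n62170 := d34_2 (iv F276856) D62831 (iv D62170)
def n62832 : Q := act 3 n62025
theorem D62832 : act 3 n62025 = n62832 := rfl
theorem F280636 : act 0 n62832 = n62550 := d2_1 D62832 (iv D62550) (iv F276857)
theorem F280637 : act 2 n62832 = n62832 := d17_1 D62832 (iv D62832) F276858 F272208 (iv F276858)
theorem F280638 : act 4 n62832 = n62040 := d24_2 D62025 D62832 (iv D62040) (iv D61002) (iv F272200)
theorem F280639 : act 6 n62832 = n62213 := d26_2 (iv F276859) D62832 (iv D62213)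
theorem F280640 : act 7 n62832 = n62558 := d27_2 (iv F276860) D62832 (iv D62558)
theorem F280641 : act 8 n62832 = n62116 := d28_2 (iv F276861) D62832 (iv D62116) F272773 (iv F272232)
theorem F280642 : act 9 n62832 = n62171 := d29_2 (iv F276862) D62832 (iv D62171)
def n62833 : Q := act 5 n62025
theorem D62833 : act 5 n62025 = n62833 := rfl
theorem F280643 : act 0 n62833 = n62551 := d4_1 D62833 (iv D62551) (iv F276857)
theorem F280644 : act 2 n62833 = n62026 := d19_1 D62833 (iv D62026) (iv F276858)
theorem F280645 : act 4 n62833 = n62175 := d30_1 D62833 (iv D62175) (iv D61157) (iv F272201) D62025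
theorem F280646 : act 6 n62833 = n62205 := d35_2 (iv F276859) D62833 F277784 F273715 (iv F273251)
theorem F280647 : act 7 n62833 = n62559 := d36_2 (iv F276860) D62833 (iv D62559)
theorem F280648 : act 8 n62833 = n62032 := d37_2 (iv F276861) D62833 (iv D62032)
theorem F280649 : act 9 n62833 = n62172 := d38_2 (iv F276862) D62833 (iv D62172)
def n62834 : Q := act 0 n62027
theorem D62834 : act 0 n62027 = n62834 := rfl
theorem F280650 : act 1 n62834 = n62556 := d0_2 D62027 D62834 (iv D62556) (iv D61648) (iv F272213)
theorem F280651 : act 2 n62834 = n62144 := d1_2 (iv F276871) D62834 (iv D62144)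
theorem F280652 : act 3 n62834 = n62033 := d2_2 (iv F276872) D62834 (iv D62033)
theorem F280653 : act 5 n62834 = n62030 := d4_2 (iv F276873) D62834 (iv D62030)
theorem F280654 : act 6 n62834 = n62218 := d5_2 (iv F276874) D62834 (iv D62218)
theorem F280655 : act 7 n62834 = n62548 := d6_2 (iv F276875) D62834 (iv D62548)
theorem F280656 : act 8 n62834 = n62173 := d7_2 (iv F276876) D62834 (iv D62173)
theorem F280657 : act 9 n62834 = n62138 := d8_2 (iv F276877) D62834 (iv D62138)
def n62835 : Q := act 4 n62027
theorem D62835 : act 4 n62027 = n62835 := rfl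
theorem F280658 : act 1 n62835 = n62028 := d11_1 D62835 (iv D62028) D62027
theorem F280659 : act 2 n62835 = n62145 := d18_1 D62835 (iv D62145) (iv F276871)
theorem F280660 : act 6 n62835 = n62219 := d31_2 (iv F276874) D62835 (iv D62219)
theorem F280661 : act 7 n62835 = n62549 := d32_2 (iv F276875) D62835 (iv D62549)
theorem F280662 : act 8 n62835 = n62174 := d33_2 (iv F276876) D62835 (iv D62174)
theorem F280663 : act 9 n62835 = n62139 := d34_2 (iv F276877) D62835 (iv D62139)
def n62836 : Q := act 3 n62028
theorem D62836 : act 3 n62028 = n62836 := rfl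
theorem F280664 : act 0 n62836 = n62558 := d2_1 D62836 (iv D62558) (iv F276878)
theorem F280665 : act 2 n62836 = n62836 := d17_1 D62836 (iv D62836) F276879 F272222 (iv F276879)
theorem F280666 : act 4 n62836 = n62035 := d24_2 D62028 D62836 (iv D62035) (iv D60996) (iv F272214)
theorem F280667 : act 6 n62836 = n62220 := d26_2 (iv F276880) D62836 (iv D62220)
theorem F280668 : act 7 n62836 = n62550 := d27_2 (iv F276881) D62836 (iv D62550)
theorem F280669 : act 8 n62836 = n62370 := d28_2 (iv F276882) D62836 (iv D62370) F274076 (iv F273054)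
theorem F280670 : act 9 n62836 = n62140 := d29_2 (iv F276883) D62836 (iv D62140)
theorem F280671 : act 5 n62522 = n62836 := d38_3 F280670 (iv F277510) D62522
def n62837 : Q := act 5 n62028
theorem D62837 : act 5 n62028 = n62837 := rfl
theorem F280672 : act 0 n62837 = n62559 := d4_1 D62837 (iv D62559) (iv F276878)
theorem F280673 : act 2 n62837 = n62029 := d19_1 D62837 (iv D62029) (iv F276879)
theorem F280674 : act 3 n62837 = n62522 := d25_1 D62837 F280671 (iv D62836)
theorem F280675 : act 4 n62837 = n62032 := d30_1 D62837 (iv D62032) (iv D60993) (iv F272215) D62028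
theorem F280676 : act 6 n62837 = n62157 := d35_2 (iv F276880) D62837 F277575 F273874 (iv F273289)
theorem F280677 : act 7 n62837 = n62551 := d36_2 (iv F276881) D62837 (iv D62551)
theorem F280678 : act 8 n62837 = n62175 := d37_2 (iv F276882) D62837 (iv D62175)
theorem F280679 : act 9 n62837 = n62141 := d38_2 (iv F276883) D62837 (iv D62141)
def n62838 : Q := act 4 n62030
theorem D62838 : act 4 n62030 = n62838 := rfl
theorem F280680 : act 0 n62838 = n62031 := d3_1 D62838 (iv D62031) D62030
theorem F280681 : act 1 n62838 = n62563 := d11_1 D62838 (iv D62563) (iv F276892)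
theorem F280682 : act 3 n62838 = n62124 := d24_1 D62838 (iv D62124) F272786 (iv F272252) (iv F276893)
theorem F280683 : act 6 n62838 = n62221 := d31_2 (iv F276894) D62838 (iv D62221)
theorem F280684 : act 9 n62838 = n62214 := d34_2 (iv F276895) D62838 (iv D62214)
def n62839 : Q := act 5 n62031
theorem D62839 : act 5 n62031 = n62839 := rfl
theorem F280685 : act 1 n62839 = n62032 := d12_1 D62839 (iv D62032) (iv F276896)
theorem F280686 : act 3 n62839 = n62125 := d25_1 D62839 (iv D62125) (iv F276897)
theorem F280687 : act 6 n62839 = n62347 := d35_2 (iv F276898) D62839 (iv D62347) F273917 (iv F273306)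
theorem F280688 : act 9 n62839 = n62215 := d38_2 (iv F276899) D62839 (iv D62215)
def n62840 : Q := act 4 n62033
theorem D62840 : act 4 n62033 = n62840 := rfl
theorem F280689 : act 0 n62840 = n62034 := d3_1 D62840 (iv D62034) D62033
theorem F280690 : act 1 n62840 = n62577 := d11_1 D62840 (iv D62577) (iv F276905)
theorem F280691 : act 2 n62840 = n62469 := d18_1 D62840 (iv D62469) (iv F276906)
theorem F280692 : act 5 n62840 = n62128 := d30_2 (iv F276907) D62840 (iv D62128) F272806 (iv F272252)
theorem F280693 : act 6 n62840 = n62574 := d31_2 (iv F276908) D62840 (iv D62574)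
theorem F280694 : act 8 n62840 = n62046 := d33_2 (iv F276909) D62840 (iv D62046)
theorem F280695 : act 9 n62840 = n62216 := d34_2 (iv F276910) D62840 (iv D62216)
def n62841 : Q := act 3 n62034
theorem D62841 : act 3 n62034 = n62841 := rfl
theorem F280696 : act 1 n62841 = n62035 := d10_1 D62841 (iv D62035) (iv F276911)
theorem F280697 : act 5 n62841 = n62129 := d25_2 (iv F276913) D62841 (iv D62129)
theorem F280698 : act 6 n62841 = n62379 := d26_2 (iv F276914) D62841 F278558
theorem F280699 : act 8 n62841 = n62376 := d28_2 (iv F276915) D62841 (iv D62376) F277000 (iv D62047)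
theorem F280700 : act 9 n62841 = n62217 := d29_2 (iv F276916) D62841 (iv D62217)
def n62842 : Q := act 4 n62036
theorem D62842 : act 4 n62036 = n62842 := rfl
theorem F280701 : act 0 n62842 = n62037 := d3_1 D62842 (iv D62037) D62036
theorem F280702 : act 1 n62842 = n62158 := d11_1 D62842 (iv D62158) (iv F276923)
theorem F280703 : act 2 n62842 = n62042 := d18_1 D62842 (iv D62042) (iv F276924)
theorem F280704 : act 3 n62842 = n62458 := d24_1 D62842 (iv D62458) F274438 (iv F272819) (iv F276925)
theorem F280705 : act 5 n62842 = n62057 := d30_2 (iv F276926) D62842 (iv D62057) (iv F276829) F276828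
theorem F280706 : act 6 n62842 = n62136 := d31_2 (iv F276927) D62842 (iv D62136)
theorem F280707 : act 7 n62842 = n62461 := d32_2 (iv F276928) D62842 (iv D62461)
theorem F280708 : act 8 n62842 = n62260 := d33_2 (iv F276929) D62842 (iv D62260)
theorem F280709 : act 9 n62842 = n62048 := d34_2 (iv F276930) D62842 (iv D62048)
def n62843 : Q := act 4 n62038
theorem D62843 : act 4 n62038 = n62843 := rfl
theorem F280710 : act 0 n62843 = n62039 := d3_1 D62843 (iv D62039) D62038
theorem F280711 : act 2 n62843 = n62260 := d18_1 D62843 (iv D62260) (iv F276939)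
theorem F280712 : act 6 n62843 = n62552 := d31_2 (iv F276941) D62843 (iv D62552)
theorem F280713 : act 7 n62843 = n62577 := d32_2 (iv F276942) D62843 (iv D62577)
theorem F280714 : act 8 n62843 = n62042 := d33_2 (iv F276943) D62843 (iv D62042)
theorem F280715 : act 9 n62843 = n62582 := d34_2 (iv F276944) D62843 (iv D62582)
def n62844 : Q := act 3 n62039
theorem D62844 : act 3 n62039 = n62844 := rfl
theorem F280716 : act 1 n62844 = n62040 := d10_1 D62844 (iv D62040) (iv F276945)
theorem F280717 : act 6 n62844 = n62553 := d26_2 (iv F276947) D62844 (iv D62553)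
theorem F280718 : act 7 n62844 = n62578 := d27_2 (iv F276948) D62844 (iv D62578)
theorem F280719 : act 8 n62844 = n62149 := d28_2 (iv F276949) D62844 (iv D62149) F272916 (iv F272299)
theorem F280720 : act 9 n62844 = n62583 := d29_2 (iv F276950) D62844 (iv D62583)
def n62845 : Q := act 5 n62039
theorem D62845 : act 5 n62039 = n62845 := rfl
theorem F280721 : act 1 n62845 = n62041 := d12_1 D62845 (iv D62041) (iv F276945)
theorem F280722 : act 2 n62845 = n62056 := d19_1 D62845 F277060 (iv F276946)
theorem F280723 : act 4 n62845 = n62053 := d30_1 D62845 F277040 F272449 (iv F272277) D62039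
theorem F280724 : act 7 n62845 = n62070 := d36_2 (iv F276948) D62845 F277150
theorem F280725 : act 8 n62845 = n62043 := d37_2 (iv F276949) D62845 (iv D62043)
theorem F280726 : act 9 n62845 = n62231 := d38_2 (iv F276950) D62845 F277914
theorem F280727 : act 6 n62162 = n62845 := d40_3 F280725 (iv F276973) (iv F277604)
def n62846 : Q := act 5 n62040
theorem D62846 : act 5 n62040 = n62846 := rfl
theorem F280728 : act 0 n62846 = n62105 := d4_1 D62846 (iv F279975) F279972
theorem F280729 : act 2 n62846 = n62846 := d19_1 D62846 (iv D62846) F276951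
theorem F280730 : act 3 n62846 = n62041 := d25_1 D62846 (iv D62041) D62040
theorem F280731 : act 6 n62846 = n62163 := d35_2 (iv F276952) D62846 (iv F280516) F280517 F276596
theorem F280732 : act 7 n62846 = n62071 := d36_2 (iv F276953) D62846 F277156
theorem F280733 : act 8 n62846 = n62151 := d37_2 (iv F276954) D62846 (iv D62151)
theorem F280734 : act 9 n62846 = n62232 := d38_2 (iv F276955) D62846 F277920
theorem F280735 : act 4 n62846 = n62383 := d45_4 (iv F267304) (iv F272285) D62040 D62846 (iv D62383) (iv F278569) F278570 D62542 F279119 (iv F277838) (iv D62217) F273275 (iv D60175) (iv F268811) (iv D60165) (iv D58936) (iv D57760) (iv F258206) (iv D57542) (iv F256240) F256242 F253160 F253159 (iv F253141) F253142 F249188 (iv D53964) (iv F236785) (iv F244379) (iv D54584) F236777 (iv D51051) (iv F228413) F228414 F219075 (iv F223492) (iv D49901) (iv F222114) F222116 F222115 F211950 F178435 (iv F175927) F205493 (iv D30484) (iv D20932) (iv F89563) (iv D20758) F62696 F44065 (iv F44054) F44055 (iv F47640) F47642 (iv F201597) F25213 F25215 F25214 F17861 F12685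 F9041 F6447 F6450 (iv F8799) (iv F12114) F12115 F8708 F8707 (iv F8138) (iv F11414) (iv F16049) (iv F22563) D6996 F31920 (iv F45062) (iv F64162) (iv F205545) D29326 (iv F178458) (iv F211845) D49560 D51624 D53481 (iv F247184) D56416 (iv F258409) F258408 (iv F258439) (iv F262520)
def n62847 : Q := act 5 n62042
theorem D62847 : act 5 n62042 = n62847 := rfl
theorem F280736 : act 0 n62847 = n62043 := d4_1 D62847 (iv D62043) (iv F276963)
theorem F280737 : act 1 n62847 = n62137 := d12_1 D62847 (iv F280609) F280606
theorem F280738 : act 2 n62847 = n62057 := d19_1 D62847 (iv F280705) F280703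
theorem F280739 : act 3 n62847 = n62153 := d25_1 D62847 (iv D62153) (iv F276964)
theorem F280740 : act 4 n62847 = n62054 := d30_1 D62847 F277048 (iv F276789) F276790 D62042
theorem F280741 : act 7 n62847 = n62082 := d36_2 F280619 D62847 (iv F280617)
theorem F280742 : act 9 n62847 = n62050 := d38_2 (iv F276966) D62847 (iv D62050)
theorem F280743 : act 6 n62167 = n62847 := d41_3 F280742 (iv F279360) F279362
def n62848 : Q := act 4 n62044
theorem D62848 : act 4 n62044 = n62848 := rfl
theorem F280744 : act 0 n62848 = n62045 := d3_1 D62848 (iv D62045) D62044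
theorem F280745 : act 1 n62848 = n62458 := d11_1 D62848 (iv D62458) (iv F276974)
theorem F280746 : act 2 n62848 = n62082 := d18_1 D62848 (iv D62082) (iv F276975)
theorem F280747 : act 3 n62848 = n62158 := d24_1 D62848 (iv D62158) (iv F276779) F276780 (iv F276976)
theorem F280748 : act 5 n62848 = n62461 := d30_2 (iv F276977) D62848 (iv D62461) F274470 (iv F272403)
theorem F280749 : act 6 n62848 = n62046 := d31_2 (iv F276978) D62848 (iv D62046)
theorem F280750 : act 7 n62848 = n62057 := d32_2 (iv F276979) D62848 (iv D62057)
theorem F280751 : act 8 n62848 = n62574 := d33_2 (iv F276980) D62848 (iv D62574)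
theorem F280752 : act 9 n62848 = n62051 := d34_2 (iv F276981) D62848 (iv D62051)
def n62849 : Q := act 3 n62046
theorem D62849 : act 3 n62046 = n62849 := rfl
theorem F280753 : act 0 n62849 = n62047 := d2_1 D62849 (iv D62047) (iv F276990)
theorem F280754 : act 1 n62849 = n62136 := d10_1 D62849 (iv F280616) F280614
theorem F280755 : act 4 n62849 = n62072 := d24_2 D62046 D62849 F277161 (iv F276789) F276788
theorem F280756 : act 5 n62849 = n62155 := d25_2 (iv F276991) D62849 (iv D62155)
theorem F280757 : act 6 n62849 = n62158 := d26_2 F280749 D62849 (iv F280747)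
theorem F280758 : act 7 n62849 = n62080 := d27_2 F280611 D62849 (iv F280608)
theorem F280759 : act 9 n62849 = n62052 := d29_2 (iv F276992) D62849 (iv D62052)
theorem F280760 : act 2 n62849 = n62090 := d46_4 F272254 (iv F272324) D62046 D62849 F277273 F273169 (iv F273119) D62187 F277716 (iv F277752) F277751 F274765 (iv F274529) F274533 F270376 F265520 F260772 (iv D57148) (iv F255380) (iv F258558) (iv F262285) F262282 D58630 F262499 F257808 F255587 (iv F250691) F250694 (iv F250573) (iv D55949) (iv D54510) F236240 F236239 (iv F238780) (iv D53256) F230459 F221174 F211208 F177913 F124047 F124046 F86738 F60873 (iv F61317) (iv F87587) (iv F125389) (iv F179953) (iv F213281) D49915 (iv F233022) F233021 (iv F235171) F235170 (iv F235114) (iv F238820) D54893 F246242 (iv F252563) D57452 D58613 D59815 D60997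
theorem F280761 : act 8 n62375 = n62849 := d22_0 F280760 (iv F280495) F280493
def n62850 : Q := act 0 n62053
theorem D62850 : act 0 n62053 = n62850 := rfl
theorem F280762 : act 1 n62850 = n62103 := d0_2 D62053 D62850 (iv D62103) (iv D61081) (iv F272412)
theorem F280763 : act 2 n62850 = n62055 := d1_2 (iv F277038) D62850 (iv D62055)
theorem F280764 : act 3 n62850 = n62381 := d2_2 (iv F277039) D62850 (iv D62381)
theorem F280765 : act 5 n62850 = n62058 := d4_2 (iv F277040) D62850 (iv D62058)
theorem F280766 : act 6 n62850 = n62161 := d5_2 (iv F277041) D62850 (iv D62161)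
theorem F280767 : act 7 n62850 = n62069 := d6_2 (iv F277042) D62850 (iv D62069)
theorem F280768 : act 8 n62850 = n62054 := d7_2 (iv F277043) D62850 (iv D62054)
theorem F280769 : act 9 n62850 = n62230 := d8_2 (iv F277044) D62850 (iv D62230)
def n62851 : Q := act 4 n62055
theorem D62851 : act 4 n62055 = n62851 := rfl
theorem F280770 : act 0 n62851 = n62056 := d3_1 D62851 (iv D62056) D62055
theorem F280771 : act 1 n62851 = n62222 := d11_1 D62851 (iv D62222) (iv F277052)
theorem F280772 : act 5 n62851 = n62260 := d30_2 (iv F277054) D62851 (iv D62260) F273555 (iv F273237)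
theorem F280773 : act 6 n62851 = n62560 := d31_2 (iv F277055) D62851 (iv D62560)
theorem F280774 : act 7 n62851 = n62574 := d32_2 (iv F277056) D62851 (iv D62574)
theorem F280775 : act 8 n62851 = n62057 := d33_2 (iv F277057) D62851 (iv D62057)
theorem F280776 : act 9 n62851 = n62575 := d34_2 (iv F277058) D62851 (iv D62575)
theorem F280777 : act 3 n62620 = n62851 := d28_5 F280775 F277068 F274996 D61749 D62620
def n62852 : Q := act 0 n62059
theorem D62852 : act 0 n62059 = n62852 := rfl
theorem F280778 : act 1 n62852 = n62114 := d0_2 D62059 D62852 (iv D62114) (iv D61091) (iv F272454)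
theorem F280779 : act 2 n62852 = n62504 := d1_2 (iv F277079) D62852 (iv D62504)
theorem F280780 : act 3 n62852 = n62075 := d2_2 (iv F277080) D62852 (iv D62075)
theorem F280781 : act 5 n62852 = n62388 := d4_2 (iv F277081) D62852 (iv D62388)
theorem F280782 : act 6 n62852 = n62474 := d5_2 (iv F277082) D62852 (iv D62474)
theorem F280783 : act 7 n62852 = n62368 := d6_2 (iv F277083) D62852 (iv D62368)
theorem F280784 : act 8 n62852 = n62065 := d7_2 (iv F277084) D62852 (iv D62065)
theorem F280785 : act 9 n62852 = n62500 := d8_2 (iv F277085) D62852 (iv D62500)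
def n62853 : Q := act 4 n62059
theorem D62853 : act 4 n62059 = n62853 := rfl
theorem F280786 : act 1 n62853 = n62060 := d11_1 D62853 (iv D62060) D62059
theorem F280787 : act 2 n62853 = n62505 := d18_1 D62853 (iv D62505) (iv F277079)
theorem F280788 : act 6 n62853 = n62475 := d31_2 (iv F277082) D62853 (iv D62475)
theorem F280789 : act 7 n62853 = n62369 := d32_2 (iv F277083) D62853 (iv D62369)
theorem F280790 : act 8 n62853 = n62066 := d33_2 (iv F277084) D62853 (iv D62066)
theorem F280791 : act 9 n62853 = n62501 := d34_2 (iv F277085) D62853 (iv D62501)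
def n62854 : Q := act 3 n62060
theorem D62854 : act 3 n62060 = n62854 := rfl
theorem F280792 : act 0 n62854 = n62116 := d2_1 D62854 (iv D62116) (iv F277086)
theorem F280793 : act 2 n62854 = n62854 := d17_1 D62854 (iv D62854) F277087 F272463 (iv F277087)
theorem F280794 : act 4 n62854 = n62077 := d24_2 D62060 D62854 (iv D62077) (iv D61048) (iv F272455)
theorem F280795 : act 6 n62854 = n62476 := d26_2 (iv F277088) D62854 (iv D62476)
theorem F280796 : act 7 n62854 = n62370 := d27_2 (iv F277089) D62854 (iv D62370)
theorem F280797 : act 8 n62854 = n62550 := d28_2 (iv F277090) D62854 (iv D62550) F274903 (iv F272489)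
theorem F280798 : act 9 n62854 = n62502 := d29_2 (iv F277091) D62854 (iv D62502)
def n62855 : Q := act 5 n62060
theorem D62855 : act 5 n62060 = n62855 := rfl
theorem F280799 : act 0 n62855 = n62117 := d4_1 D62855 (iv D62117) (iv F277086)
theorem F280800 : act 2 n62855 = n62061 := d19_1 D62855 (iv D62061) (iv F277087)
theorem F280801 : act 4 n62855 = n62390 := d30_1 D62855 (iv D62390) (iv D61419) (iv F272456) D62060
theorem F280802 : act 7 n62855 = n62359 := d36_2 (iv F277089) D62855 F278475
theorem F280803 : act 8 n62855 = n62067 := d37_2 (iv F277090) D62855 (iv D62067)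
theorem F280804 : act 9 n62855 = n62356 := d38_2 (iv F277091) D62855 F278460
def n62856 : Q := act 6 n62061
theorem D62856 : act 6 n62061 = n62856 := rfl
theorem F280805 : act 0 n62856 = n62118 := d5_1 D62856 (iv D62118) (iv F277092)
theorem F280806 : act 1 n62856 = n62451 := d13_1 D62856 F278808 (iv F277093)
theorem F280807 : act 3 n62856 = n62856 := d26_1 D62856 (iv D62856) F277094
theorem F280808 : act 4 n62856 = n62111 := d31_1 D62856 F277382 (iv F277095)
theorem F280809 : act 5 n62856 = n62256 := d35_1 D62856 F278037 F273533 (iv F272464) D62061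
theorem F280810 : act 7 n62856 = n62365 := d39_2 (iv F277096) D62856 F278503 F274033 (iv F274044)
theorem F280811 : act 8 n62856 = n62068 := d40_2 (iv F277097) D62856 (iv D62068)
theorem F280812 : act 9 n62856 = n62311 := d41_2 (iv F277098) D62856 F278279
def n62857 : Q := act 0 n62062
theorem D62857 : act 0 n62062 = n62857 := rfl
theorem F280813 : act 1 n62857 = n62119 := d0_2 D62062 D62857 (iv D62119) (iv D61094) (iv F272468)
theorem F280814 : act 2 n62857 = n62524 := d1_2 (iv F277099) D62857 (iv D62524)
theorem F280815 : act 3 n62857 = n62069 := d2_2 (iv F277100) D62857 (iv D62069)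
theorem F280816 : act 5 n62857 = n62065 := d4_2 (iv F277101) D62857 (iv D62065)
theorem F280817 : act 6 n62857 = n62413 := d5_2 (iv F277102) D62857 (iv D62413)
theorem F280818 : act 7 n62857 = n62381 := d6_2 (iv F277103) D62857 (iv D62381)
theorem F280819 : act 8 n62857 = n62388 := d7_2 (iv F277104) D62857 (iv D62388)
theorem F280820 : act 9 n62857 = n62233 := d8_2 (iv F277105) D62857 (iv D62233)
def n62858 : Q := act 4 n62062
theorem D62858 : act 4 n62062 = n62858 := rfl
theorem F280821 : act 1 n62858 = n62063 := d11_1 D62858 (iv D62063) D62062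
theorem F280822 : act 2 n62858 = n62525 := d18_1 D62858 (iv D62525) (iv F277099)
theorem F280823 : act 6 n62858 = n62414 := d31_2 (iv F277102) D62858 (iv D62414)
theorem F280824 : act 7 n62858 = n62382 := d32_2 (iv F277103) D62858 (iv D62382)
theorem F280825 : act 8 n62858 = n62389 := d33_2 (iv F277104) D62858 (iv D62389)
theorem F280826 : act 9 n62858 = n62234 := d34_2 (iv F277105) D62858 (iv D62234)
def n62859 : Q := act 3 n62063
theorem D62859 : act 3 n62063 = n62859 := rfl
theorem F280827 : act 0 n62859 = n62121 := d2_1 D62859 (iv D62121) (iv F277106)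
theorem F280828 : act 2 n62859 = n62859 := d17_1 D62859 (iv D62859) F277107 F272477 (iv F277107)
theorem F280829 : act 4 n62859 = n62071 := d24_2 D62063 D62859 (iv D62071) (iv D61041) (iv F272469)
theorem F280830 : act 6 n62859 = n62415 := d26_2 (iv F277108) D62859 (iv D62415)
theorem F280831 : act 7 n62859 = n62383 := d27_2 (iv F277109) D62859 (iv D62383)
theorem F280832 : act 9 n62859 = n62235 := d29_2 (iv F277111) D62859 (iv D62235)
def n62860 : Q := act 5 n62063
theorem D62860 : act 5 n62063 = n62860 := rfl
theorem F280833 : act 0 n62860 = n62122 := d4_1 D62860 (iv D62122) (iv F277106)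
theorem F280834 : act 2 n62860 = n62064 := d19_1 D62860 (iv D62064) (iv F277107)
theorem F280835 : act 4 n62860 = n62067 := d30_1 D62860 (iv D62067) (iv D61037) (iv F272470) D62063
theorem F280836 : act 7 n62860 = n62367 := d36_2 (iv F277109) D62860 F278511
theorem F280837 : act 8 n62860 = n62390 := d37_2 (iv F277110) D62860 (iv D62390)
theorem F280838 : act 9 n62860 = n62236 := d38_2 (iv F277111) D62860 (iv D62236)
def n62861 : Q := act 6 n62064
theorem D62861 : act 6 n62064 = n62861 := rfl
theorem F280839 : act 0 n62861 = n62123 := d5_1 D62861 (iv D62123) (iv F277112)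
theorem F280840 : act 1 n62861 = n62365 := d13_1 D62861 F278503 (iv F277113)
theorem F280841 : act 3 n62861 = n62861 := d26_1 D62861 (iv D62861) F277114
theorem F280842 : act 4 n62861 = n62068 := d31_1 D62861 (iv D62068) (iv F277115)
theorem F280843 : act 5 n62861 = n62112 := d35_1 D62861 F277388 (iv D61447) (iv F272478) D62064
theorem F280844 : act 7 n62861 = n62451 := d39_2 (iv F277116) D62861 F278808 F274397 (iv F274054)
theorem F280845 : act 8 n62861 = n62111 := d40_2 (iv F277117) D62861 F277382
theorem F280846 : act 9 n62861 = n62237 := d41_2 (iv F277118) D62861 (iv D62237)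
def n62862 : Q := act 4 n62065
theorem D62862 : act 4 n62065 = n62862 := rfl
theorem F280847 : act 0 n62862 = n62066 := d3_1 D62862 (iv D62066) D62065
theorem F280848 : act 1 n62862 = n62124 := d11_1 D62862 (iv D62124) (iv F277119)
theorem F280849 : act 2 n62862 = n62529 := d18_1 D62862 (iv D62529) (iv F277120)
theorem F280850 : act 3 n62862 = n62563 := d24_1 D62862 (iv D62563) F274943 (iv F272519) (iv F277121)
theorem F280851 : act 6 n62862 = n62480 := d31_2 (iv F277122) D62862 (iv D62480)
theorem F280852 : act 7 n62862 = n62538 := d32_2 (iv F277123) D62862 (iv D62538)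
theorem F280853 : act 9 n62862 = n62238 := d34_2 (iv F277124) D62862 (iv D62238)
def n62863 : Q := act 5 n62066
theorem D62863 : act 5 n62066 = n62863 := rfl
theorem F280854 : act 1 n62863 = n62067 := d12_1 D62863 (iv D62067) (iv F277125)
theorem F280855 : act 2 n62863 = n62530 := d19_1 D62863 (iv D62530) (iv F277126)
theorem F280856 : act 3 n62863 = n62564 := d25_1 D62863 (iv D62564) (iv F277127)
theorem F280857 : act 7 n62863 = n62445 := d36_2 (iv F277129) D62863 F278789
theorem F280858 : act 9 n62863 = n62239 := d38_2 (iv F277130) D62863 (iv D62239)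
def n62864 : Q := act 6 n62067
theorem D62864 : act 6 n62067 = n62864 := rfl
theorem F280859 : act 0 n62864 = n62126 := d5_1 D62864 (iv D62126) (iv F277131)
theorem F280860 : act 2 n62864 = n62068 := d20_1 D62864 (iv D62068) (iv F277132)
theorem F280861 : act 3 n62864 = n62250 := d26_1 D62864 F278009 (iv F277133)
theorem F280862 : act 5 n62864 = n62249 := d35_1 D62864 F278005 F273511 (iv F272490) D62067
theorem F280863 : act 7 n62864 = n62405 := d39_2 (iv F277134) D62864 F278655 F274227 (iv F274380)
theorem F280864 : act 9 n62864 = n62240 := d41_2 (iv F277135) D62864 (iv D62240)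
def n62865 : Q := act 4 n62069
theorem D62865 : act 4 n62069 = n62865 := rfl
theorem F280865 : act 0 n62865 = n62070 := d3_1 D62865 (iv D62070) D62069
theorem F280866 : act 1 n62865 = n62128 := d11_1 D62865 (iv D62128) (iv F277142)
theorem F280867 : act 2 n62865 = n62574 := d18_1 D62865 (iv D62574) (iv F277143)
theorem F280868 : act 5 n62865 = n62577 := d30_2 (iv F277144) D62865 (iv D62577) F275021 (iv F272519)
theorem F280869 : act 6 n62865 = n62469 := d31_2 (iv F277145) D62865 (iv D62469)
theorem F280870 : act 8 n62865 = n62082 := d33_2 (iv F277146) D62865 (iv D62082)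
theorem F280871 : act 9 n62865 = n62241 := d34_2 (iv F277147) D62865 (iv D62241)
def n62866 : Q := act 3 n62070
theorem D62866 : act 3 n62070 = n62866 := rfl
theorem F280872 : act 1 n62866 = n62071 := d10_1 D62866 (iv D62071) (iv F277148)
theorem F280873 : act 5 n62866 = n62578 := d25_2 (iv F277150) D62866 (iv D62578)
theorem F280874 : act 6 n62866 = n62470 := d26_2 (iv F277151) D62866 (iv D62470)
theorem F280875 : act 9 n62866 = n62242 := d29_2 (iv F277153) D62866 (iv D62242)
def n62867 : Q := act 8 n62071
theorem D62867 : act 8 n62071 = n62867 := rfl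
theorem F280876 : act 0 n62867 = n62130 := d7_1 D62867 (iv D62130) (iv F277154)
theorem F280877 : act 2 n62867 = n62867 := d22_1 D62867 (iv D62867) F277155
theorem F280878 : act 3 n62867 = n62084 := d28_1 D62867 (iv D62084) (iv D61056) (iv F272515) D62071
theorem F280879 : act 5 n62867 = n62135 := d37_1 D62867 F277483 (iv F277156)
theorem F280880 : act 6 n62867 = n62471 := d40_1 D62867 (iv D62471) (iv F277157)
theorem F280881 : act 7 n62867 = n62151 := d42_1 D62867 (iv F280733) F280732
def n62868 : Q := act 4 n62073
theorem D62868 : act 4 n62073 = n62868 := rfl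
theorem F280882 : act 0 n62868 = n62074 := d3_1 D62868 (iv D62074) D62073
theorem F280883 : act 1 n62868 = n62167 := d11_1 D62868 (iv D62167) (iv F277167)
theorem F280884 : act 2 n62868 = n62080 := d18_1 D62868 (iv D62080) (iv F277168)
theorem F280885 : act 3 n62868 = n62203 := d24_1 D62868 F277779 (iv F277019) F277020 (iv F277169)
theorem F280886 : act 5 n62868 = n62202 := d30_2 (iv F277170) D62868 F277777 (iv F277034) F277033
theorem F280887 : act 6 n62868 = n62137 := d31_2 (iv F277171) D62868 (iv D62137)
theorem F280888 : act 7 n62868 = n62090 := d32_2 (iv F277172) D62868 (iv D62090)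
theorem F280889 : act 9 n62868 = n62087 := d34_2 (iv F277173) D62868 (iv D62087)
def n62869 : Q := act 4 n62075
theorem D62869 : act 4 n62075 = n62869 := rfl
theorem F280890 : act 0 n62869 = n62076 := d3_1 D62869 (iv D62076) D62075
theorem F280891 : act 1 n62869 = n62148 := d11_1 D62869 (iv D62148) (iv F277181)
theorem F280892 : act 6 n62869 = n62568 := d31_2 (iv F277183) D62869 (iv D62568)
theorem F280893 : act 7 n62869 = n62375 := d32_2 (iv F277184) D62869 (iv D62375)
theorem F280894 : act 8 n62869 = n62080 := d33_2 (iv F277185) D62869 (iv D62080)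
def n62870 : Q := act 3 n62076
theorem D62870 : act 3 n62076 = n62870 := rfl
theorem F280895 : act 1 n62870 = n62077 := d10_1 D62870 (iv D62077) (iv F277186)
theorem F280896 : act 6 n62870 = n62569 := d26_2 (iv F277187) D62870 (iv D62569)
theorem F280897 : act 7 n62870 = n62376 := d27_2 (iv F277188) D62870 (iv D62376)
def n62871 : Q := act 5 n62076
theorem D62871 : act 5 n62076 = n62871 := rfl
theorem F280898 : act 1 n62871 = n62078 := d12_1 D62871 (iv D62078) (iv F277186)
theorem F280899 : act 2 n62871 = n62204 := d19_1 D62871 (iv F280478) F280477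
theorem F280900 : act 4 n62871 = n62198 := d30_1 D62871 F277757 (iv D61429) (iv F272546) D62076
theorem F280901 : act 6 n62871 = n62187 := d35_2 (iv F277187) D62871 (iv D62187) (iv F276076) F276075
theorem F280902 : act 7 n62871 = n62156 := d36_2 (iv F277188) D62871 F277572
theorem F280903 : act 8 n62871 = n62081 := d37_2 (iv F277189) D62871 (iv D62081)
def n62872 : Q := act 5 n62077
theorem D62872 : act 5 n62077 = n62872 := rfl
theorem F280904 : act 0 n62872 = n62151 := d4_1 D62872 (iv D62151) (iv F277190)
theorem F280905 : act 2 n62872 = n62872 := d19_1 D62872 (iv D62872) F277191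
theorem F280906 : act 3 n62872 = n62078 := d25_1 D62872 (iv D62078) D62077
theorem F280907 : act 6 n62872 = n62188 := d35_2 (iv F277192) D62872 (iv D62188) (iv F276083) F276082
theorem F280908 : act 7 n62872 = n62130 := d36_2 (iv F277193) D62872 F277453
theorem F280909 : act 8 n62872 = n62105 := d37_2 F279978 D62872 (iv F279975)
def n62873 : Q := act 5 n62080
theorem D62873 : act 5 n62080 = n62873 := rfl
theorem F280910 : act 0 n62873 = n62081 := d4_1 D62873 (iv D62081) (iv F277209)
theorem F280911 : act 1 n62873 = n62153 := d12_1 D62873 (iv D62153) (iv F277210)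
theorem F280912 : act 2 n62873 = n62202 := d19_1 D62873 (iv F280886) F280884
theorem F280913 : act 3 n62873 = n62137 := d25_1 D62873 (iv F280609) F280608
theorem F280914 : act 4 n62873 = n62206 := d30_1 D62873 F277788 (iv F277203) F277204 D62080
theorem F280915 : act 6 n62873 = n62203 := d35_2 (iv F277211) D62873 (iv D62203) (iv F277774) F277773
theorem F280916 : act 7 n62873 = n62155 := d36_2 F280758 D62873 (iv F280756)
theorem F280917 : act 9 n62873 = n62094 := d38_2 (iv F277212) D62873 (iv D62094)
def n62874 : Q := act 3 n62082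
theorem D62874 : act 3 n62082 = n62874 := rfl
theorem F280918 : act 0 n62874 = n62083 := d2_1 D62874 (iv D62083) (iv F277220)
theorem F280919 : act 1 n62874 = n62155 := d10_1 D62874 (iv D62155) (iv F277221)
theorem F280920 : act 2 n62874 = n62555 := d17_1 D62874 F279149 (iv F277578) (iv F280747) F280746
theorem F280921 : act 4 n62874 = n62567 := d24_2 D62082 D62874 F279184 (iv F277203) F277202
theorem F280922 : act 5 n62874 = n62136 := d25_2 F280617 D62874 (iv F280616)
theorem F280923 : act 6 n62874 = n62566 := d26_2 F279328 D62874 (iv F279326)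
theorem F280924 : act 7 n62874 = n62153 := d27_2 F280741 D62874 (iv F280739)
theorem F280925 : act 9 n62874 = n62095 := d29_2 (iv F277222) D62874 (iv D62095)
def n62875 : Q := act 8 n62083
theorem D62875 : act 8 n62083 = n62875 := rfl
theorem F280926 : act 1 n62875 = n62084 := d15_1 D62875 (iv D62084) (iv F277223)
theorem F280927 : act 2 n62875 = n62554 := d22_1 D62875 F279147 (iv F277224)
theorem F280928 : act 4 n62875 = n62272 := d33_1 D62875 F278114 (iv F277225)
theorem F280929 : act 5 n62875 = n62134 := d37_1 D62875 F277478 (iv F277226)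
theorem F280930 : act 6 n62875 = n62562 := d40_1 D62875 F279173 (iv F277227)
theorem F280931 : act 7 n62875 = n62150 := d42_1 D62875 F277551 (iv F277228)
def n62876 : Q := act 9 n62084
theorem D62876 : act 9 n62084 = n62876 := rfl
theorem F280932 : act 0 n62876 = n62157 := d8_1 D62876 (iv D62157) (iv F277230)
theorem F280933 : act 2 n62876 = n62085 := d23_1 D62876 (iv D62085) (iv F277231)
theorem F280934 : act 4 n62876 = n62250 := d34_1 D62876 F278010 (iv F277232)
theorem F280935 : act 5 n62876 = n62132 := d38_1 D62876 F277467 (iv F277233)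
theorem F280936 : act 6 n62876 = n62559 := d41_1 D62876 F279164 (iv F277234)
theorem F280937 : act 7 n62876 = n62147 := d43_1 D62876 F277544 (iv F277235)
theorem F280938 : act 8 n62876 = n62097 := d44_1 D62876 (iv D62097) (iv D61074) (iv F272595) D62084
def n62877 : Q := act 3 n62087
theorem D62877 : act 3 n62087 = n62877 := rfl
theorem F280939 : act 0 n62877 = n62088 := d2_1 D62877 (iv D62088) (iv F277252)
theorem F280940 : act 1 n62877 = n62206 := d10_1 D62877 (iv F279357) F279356
theorem F280941 : act 2 n62877 = n62547 := d17_1 D62877 F279128 (iv F276836) F276837 (iv F277253)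
theorem F280942 : act 4 n62877 = n62153 := d24_2 D62087 D62877 (iv F280739) F280740 F277047
theorem F280943 : act 6 n62877 = n62094 := d26_2 (iv F277254) D62877 F277298
theorem F280944 : act 7 n62877 = n62567 := d27_2 (iv F277255) D62877 F279184
theorem F280945 : act 9 n62877 = n62203 := d29_2 F280889 D62877 (iv F280885)
theorem F280946 : act 5 n62152 = n62877 := d38_3 F280945 (iv D62203) (iv F277558)
def n62878 : Q := act 5 n62087
theorem D62878 : act 5 n62087 = n62878 := rfl
theorem F280947 : act 0 n62878 = n62089 := d4_1 D62878 (iv D62089) (iv F277252)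
theorem F280948 : act 1 n62878 = n62567 := d12_1 D62878 (iv F279359) F279356
theorem F280949 : act 2 n62878 = n62094 := d19_1 D62878 (iv D62094) (iv F277253)
theorem F280950 : act 3 n62878 = n62152 := d25_1 D62878 F280946 (iv D62877)
theorem F280951 : act 4 n62878 = n62155 := d30_1 D62878 (iv F280756) F280755 F277162 D62087
theorem F280952 : act 6 n62878 = n62547 := d35_2 (iv F277254) D62878 (iv D62547) (iv F276839) F276838
theorem F280953 : act 7 n62878 = n62206 := d36_2 (iv F277255) D62878 F277788
theorem F280954 : act 8 n62878 = n62402 := d37_2 (iv F277256) D62878 (iv D62402)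
theorem F280955 : act 9 n62878 = n62202 := d38_2 F280889 D62878 (iv F280886)
def n62879 : Q := act 3 n62090
theorem D62879 : act 3 n62090 = n62879 := rfl
theorem F280956 : act 0 n62879 = n62091 := d2_1 D62879 (iv D62091) (iv F277272)
theorem F280957 : act 1 n62879 = n62202 := d10_1 D62879 (iv D62202) (iv F277273)
theorem F280958 : act 2 n62879 = n62566 := d17_1 D62879 (iv F279326) F279325 D62849 F280760
theorem F280959 : act 4 n62879 = n62095 := d24_2 D62090 D62879 (iv D62095) (iv D61072) (iv F272646)
theorem F280960 : act 6 n62879 = n62555 := d26_2 (iv F277274) D62879 F279149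
theorem F280961 : act 7 n62879 = n62203 := d27_2 F280888 D62879 (iv F280885)
theorem F280962 : act 9 n62879 = n62567 := d29_2 (iv F277275) D62879 F279184
theorem F280963 : act 5 n62167 = n62879 := d38_3 F280962 (iv F279359) F279362
def n62880 : Q := act 5 n62090
theorem D62880 : act 5 n62090 = n62880 := rfl
theorem F280964 : act 0 n62880 = n62092 := d4_1 D62880 (iv D62092) (iv F277272)
theorem F280965 : act 1 n62880 = n62203 := d12_1 D62880 (iv D62203) (iv F277273)
theorem F280966 : act 2 n62880 = n62155 := d19_1 D62880 (iv F280756) F280760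
theorem F280967 : act 3 n62880 = n62167 := d25_1 D62880 F280963 (iv D62879)
theorem F280968 : act 4 n62880 = n62094 := d30_1 D62880 (iv D62094) (iv D61070) (iv F272647) D62090
theorem F280969 : act 6 n62880 = n62153 := d35_2 (iv F277274) D62880 (iv D62153) F272930 D61675
theorem F280970 : act 7 n62880 = n62202 := d36_2 F280888 D62880 (iv F280886)
theorem F280971 : act 9 n62880 = n62206 := d38_2 (iv F277275) D62880 F277788
def n62881 : Q := act 8 n62091
theorem D62881 : act 8 n62091 = n62881 := rfl
theorem F280972 : act 1 n62881 = n62093 := d15_1 D62881 (iv D62093) (iv F277276)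
theorem F280973 : act 2 n62881 = n62562 := d22_1 D62881 F279173 (iv F277277)
theorem F280974 : act 4 n62881 = n62096 := d33_1 D62881 (iv D62096) (iv F277278)
theorem F280975 : act 5 n62881 = n62162 := d37_1 D62881 F277604 F277282
theorem F280976 : act 6 n62881 = n62554 := d40_1 D62881 F279147 (iv F277279)
theorem F280977 : act 7 n62881 = n62187 := d42_1 D62881 F277717 (iv F277280)
def n62882 : Q := act 9 n62093
theorem D62882 : act 9 n62093 = n62882 := rfl
theorem F280978 : act 0 n62882 = n62205 := d8_1 D62882 (iv D62205) (iv F277290)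
theorem F280979 : act 2 n62882 = n62098 := d23_1 D62882 (iv D62098) (iv F277291)
theorem F280980 : act 4 n62882 = n62097 := d34_1 D62882 (iv D62097) (iv F277292)
theorem F280981 : act 5 n62882 = n62160 := d38_1 D62882 F277595 (iv F277293)
theorem F280982 : act 6 n62882 = n62551 := d41_1 D62882 F279141 (iv F277294)
theorem F280983 : act 7 n62882 = n62184 := d43_1 D62882 F277710 (iv F277295)
theorem F280984 : act 8 n62882 = n62250 := d44_1 D62882 F278010 F273616 (iv F272656) D62093
def n62883 : Q := act 8 n62095
theorem D62883 : act 8 n62095 = n62883 := rfl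
theorem F280985 : act 0 n62883 = n62096 := d7_1 D62883 (iv D62096) (iv F277300)
theorem F280986 : act 1 n62883 = n62207 := d15_1 D62883 (iv D62207) (iv F277301)
theorem F280987 : act 2 n62883 = n62565 := d22_1 D62883 F279180 (iv F277302)
theorem F280988 : act 3 n62883 = n62283 := d28_1 D62883 (iv D62283) (iv D61298) (iv F272673) D62095
theorem F280989 : act 5 n62883 = n62166 := d37_1 D62883 F277622 (iv F277303)
theorem F280990 : act 7 n62883 = n62196 := d42_1 D62883 F277749 (iv F277304)
def n62884 : Q := act 9 n62096
theorem D62884 : act 9 n62096 = n62884 := rfl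
theorem F280991 : act 1 n62884 = n62097 := d16_1 D62884 (iv D62097) (iv F277305)
theorem F280992 : act 2 n62884 = n62564 := d23_1 D62884 F279178 (iv F277306)
theorem F280993 : act 3 n62884 = n62284 := d29_1 D62884 (iv D62284) (iv F277307)
theorem F280994 : act 5 n62884 = n62165 := d38_1 D62884 F277618 (iv F277308)
theorem F280995 : act 7 n62884 = n62192 := d43_1 D62884 F277732 (iv F277309)
def n62885 : Q := act 0 n62099
theorem D62885 : act 0 n62099 = n62885 := rfl
theorem F280996 : act 1 n62885 = n62368 := d0_2 D62099 D62885 (iv D62368) (iv D61394) (iv F272695)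
theorem F280997 : act 2 n62885 = n62417 := d1_2 (iv F277323) D62885 (iv D62417)
theorem F280998 : act 3 n62885 = n62133 := d2_2 (iv F277324) D62885 (iv D62133)
theorem F280999 : act 5 n62885 = n62265 := d4_2 (iv F277325) D62885 (iv D62265)
theorem F281000 : act 6 n62885 = n62257 := d5_2 (iv F277326) D62885 (iv D62257)
theorem F281001 : act 7 n62885 = n62114 := d6_2 (iv F277327) D62885 (iv D62114)
theorem F281002 : act 8 n62885 = n62102 := d7_2 (iv F277328) D62885 (iv D62102)
theorem F281003 : act 9 n62885 = n62410 := d8_2 (iv F277329) D62885 (iv D62410)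
def n62886 : Q := act 0 n62100
theorem D62886 : act 0 n62100 = n62886 := rfl
theorem F281004 : act 1 n62886 = n62381 := d0_2 D62100 D62886 (iv D62381) (iv D61411) (iv F272702)
theorem F281005 : act 2 n62886 = n62605 := d1_2 (iv F277330) D62886 (iv D62605)
theorem F281006 : act 3 n62886 = n62103 := d2_2 (iv F277331) D62886 (iv D62103)
theorem F281007 : act 5 n62886 = n62102 := d4_2 (iv F277332) D62886 (iv D62102)
theorem F281008 : act 6 n62886 = n62262 := d5_2 (iv F277333) D62886 (iv D62262)
theorem F281009 : act 7 n62886 = n62119 := d6_2 (iv F277334) D62886 (iv D62119)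
theorem F281010 : act 8 n62886 = n62265 := d7_2 (iv F277335) D62886 (iv D62265)
theorem F281011 : act 9 n62886 = n62286 := d8_2 (iv F277336) D62886 (iv D62286)
def n62887 : Q := act 4 n62100
theorem D62887 : act 4 n62100 = n62887 := rfl
theorem F281012 : act 1 n62887 = n62101 := d11_1 D62887 (iv D62101) D62100
theorem F281013 : act 2 n62887 = n62606 := d18_1 D62887 (iv D62606) (iv F277330)
theorem F281014 : act 6 n62887 = n62263 := d31_2 (iv F277333) D62887 (iv D62263)
theorem F281015 : act 7 n62887 = n62120 := d32_2 (iv F277334) D62887 (iv D62120)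
theorem F281016 : act 8 n62887 = n62266 := d33_2 (iv F277335) D62887 (iv D62266)
theorem F281017 : act 9 n62887 = n62287 := d34_2 (iv F277336) D62887 (iv D62287)
def n62888 : Q := act 3 n62101
theorem D62888 : act 3 n62101 = n62888 := rfl
theorem F281018 : act 0 n62888 = n62383 := d2_1 D62888 (iv D62383) (iv F277337)
theorem F281019 : act 2 n62888 = n62888 := d17_1 D62888 (iv D62888) F277338 F272711 (iv F277338)
theorem F281020 : act 4 n62888 = n62105 := d24_2 D62101 D62888 (iv D62105) (iv D61082) (iv F272703)
theorem F281021 : act 6 n62888 = n62264 := d26_2 (iv F277339) D62888 (iv D62264)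
theorem F281022 : act 7 n62888 = n62121 := d27_2 (iv F277340) D62888 (iv D62121)
theorem F281023 : act 9 n62888 = n62288 := d29_2 (iv F277342) D62888 (iv D62288)
def n62889 : Q := act 4 n62103
theorem D62889 : act 4 n62103 = n62889 := rfl
theorem F281024 : act 0 n62889 = n62104 := d3_1 D62889 (iv D62104) D62103
theorem F281025 : act 2 n62889 = n62568 := d18_1 D62889 (iv D62568) (iv F277348)
theorem F281026 : act 7 n62889 = n62128 := d32_2 (iv F277350) D62889 (iv D62128)
theorem F281027 : act 8 n62889 = n62137 := d33_2 (iv F277351) D62889 (iv D62137)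
theorem F281028 : act 9 n62889 = n62292 := d34_2 (iv F277352) D62889 (iv D62292)
def n62890 : Q := act 3 n62104
theorem D62890 : act 3 n62104 = n62890 := rfl
theorem F281029 : act 1 n62890 = n62105 := d10_1 D62890 (iv D62105) (iv F277353)
theorem F281030 : act 7 n62890 = n62129 := d27_2 (iv F277355) D62890 (iv D62129)
theorem F281031 : act 9 n62890 = n62293 := d29_2 (iv F277357) D62890 (iv D62293)
def n62891 : Q := act 4 n62106
theorem D62891 : act 4 n62106 = n62891 := rfl
theorem F281032 : act 0 n62891 = n62107 := d3_1 D62891 (iv D62107) D62106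
theorem F281033 : act 2 n62891 = n62124 := d18_1 D62891 (iv D62124) (iv F277361)
theorem F281034 : act 6 n62891 = n62523 := d31_2 (iv F277363) D62891 (iv D62523)
theorem F281035 : act 9 n62891 = n62306 := d34_2 (iv F277364) D62891 (iv D62306)
def n62892 : Q := act 3 n62107
theorem D62892 : act 3 n62107 = n62892 := rfl
theorem F281036 : act 1 n62892 = n62108 := d10_1 D62892 (iv D62108) (iv F277365)
theorem F281037 : act 4 n62892 = n62484 := d24_2 D62107 D62892 (iv D62484) (iv D61540) (iv F272735)
theorem F281038 : act 6 n62892 = n62439 := d26_2 (iv F277367) D62892 F278765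
theorem F281039 : act 9 n62892 = n62307 := d29_2 (iv F277368) D62892 (iv D62307)
def n62893 : Q := act 5 n62107
theorem D62893 : act 5 n62107 = n62893 := rfl
theorem F281040 : act 1 n62893 = n62109 := d12_1 D62893 (iv D62109) (iv F277365)
theorem F281041 : act 2 n62893 = n62125 := d19_1 D62893 (iv D62125) (iv F277366)
theorem F281042 : act 9 n62893 = n62308 := d38_2 (iv F277368) D62893 (iv D62308)
def n62894 : Q := act 5 n62108
theorem D62894 : act 5 n62108 = n62894 := rfl
theorem F281043 : act 2 n62894 = n62111 := d19_1 D62894 (iv D62111) (iv F277369)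
theorem F281044 : act 3 n62894 = n62109 := d25_1 D62894 (iv D62109) D62108
theorem F281045 : act 6 n62894 = n62390 := d35_2 (iv F277371) D62894 (iv D62390) F274171 D61471
theorem F281046 : act 7 n62894 = n62531 := d36_2 F279598 D62894 (iv F279597)
theorem F281047 : act 9 n62894 = n62309 := d38_2 (iv F277372) D62894 (iv D62309)
def n62895 : Q := act 8 n62108
theorem D62895 : act 8 n62108 = n62895 := rfl
theorem F281048 : act 0 n62895 = n62457 := d7_1 D62895 (iv F279753) F279748
theorem F281049 : act 2 n62895 = n62112 := d22_1 D62895 (iv D62112) (iv F277369)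
theorem F281050 : act 4 n62895 = n62456 := d33_1 D62895 F278830 (iv F277370)
theorem F281051 : act 6 n62895 = n62416 := d40_1 D62895 F278697 (iv F277371)
def n62896 : Q := act 6 n62109
theorem D62896 : act 6 n62109 = n62896 := rfl
theorem F281052 : act 2 n62896 = n62110 := d20_1 D62896 (iv D62110) (iv F277373)
theorem F281053 : act 3 n62896 = n62390 := d26_1 D62896 (iv F281045) F281044
theorem F281054 : act 5 n62896 = n62364 := d35_1 D62896 F278498 F274027 (iv F272739) D62109
theorem F281055 : act 7 n62896 = n62394 := d39_2 (iv F279891) D62896 F278618 (iv F275833) D62711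
theorem F281056 : act 9 n62896 = n62310 := d41_2 (iv F277374) D62896 F278275
def n62897 : Q := act 0 n62113
theorem D62897 : act 0 n62113 = n62897 := rfl
theorem F281057 : act 1 n62897 = n62500 := d0_2 D62113 D62897 (iv D62500) (iv D61565) (iv F272761)
theorem F281058 : act 2 n62897 = n62413 := d1_2 (iv F277389) D62897 (iv D62413)
theorem F281059 : act 3 n62897 = n62144 := d2_2 (iv F277390) D62897 (iv D62144)
theorem F281060 : act 5 n62897 = n62465 := d4_2 (iv F277391) D62897 (iv D62465)
theorem F281061 : act 6 n62897 = n62524 := d5_2 (iv F277392) D62897 (iv D62524)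
theorem F281062 : act 7 n62897 = n62410 := d6_2 (iv F277393) D62897 (iv D62410)
theorem F281063 : act 8 n62897 = n62314 := d7_2 (iv F277394) D62897 (iv D62314)
theorem F281064 : act 9 n62897 = n62114 := d8_2 (iv F277395) D62897 (iv D62114)
def n62898 : Q := act 4 n62114
theorem D62898 : act 4 n62114 = n62898 := rfl
theorem F281065 : act 0 n62898 = n62115 := d3_1 D62898 (iv D62115) D62114
theorem F281066 : act 6 n62898 = n62527 := d31_2 (iv F277397) D62898 (iv D62527)
theorem F281067 : act 8 n62898 = n62124 := d33_2 (iv F277398) D62898 (iv D62124)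
def n62899 : Q := act 3 n62115
theorem D62899 : act 3 n62115 = n62899 := rfl
theorem F281068 : act 1 n62899 = n62116 := d10_1 D62899 (iv D62116) (iv F277399)
theorem F281069 : act 4 n62899 = n62149 := d24_2 D62115 D62899 (iv D62149) (iv D61124) (iv F272768)
theorem F281070 : act 6 n62899 = n62528 := d26_2 (iv F277400) D62899 (iv D62528)
def n62900 : Q := act 5 n62115
theorem D62900 : act 5 n62115 = n62900 := rfl
theorem F281071 : act 1 n62900 = n62117 := d12_1 D62900 (iv D62117) (iv F277399)
theorem F281072 : act 8 n62900 = n62125 := d37_2 (iv F277401) D62900 (iv D62125)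
def n62901 : Q := act 5 n62116
theorem D62901 : act 5 n62116 = n62901 := rfl
theorem F281073 : act 2 n62901 = n62901 := d19_1 D62901 (iv D62901) F277402
theorem F281074 : act 3 n62901 = n62117 := d25_1 D62901 (iv D62117) D62116
def n62902 : Q := act 6 n62117
theorem D62902 : act 6 n62117 = n62902 := rfl
theorem F281075 : act 2 n62902 = n62118 := d20_1 D62902 (iv D62118) (iv F277405)
theorem F281076 : act 5 n62902 = n62348 := d35_1 D62902 F278420 F273935 (iv F272772) D62117
theorem F281077 : act 8 n62902 = n62126 := d40_2 (iv F277406) D62902 (iv D62126)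
def n62903 : Q := act 4 n62119
theorem D62903 : act 4 n62119 = n62903 := rfl
theorem F281078 : act 0 n62903 = n62120 := d3_1 D62903 (iv D62120) D62119
theorem F281079 : act 6 n62903 = n62515 := d31_2 (iv F277412) D62903 (iv D62515)
theorem F281080 : act 9 n62903 = n62320 := d34_2 (iv F277413) D62903 (iv D62320)
def n62904 : Q := act 3 n62120
theorem D62904 : act 3 n62120 = n62904 := rfl
theorem F281081 : act 1 n62904 = n62121 := d10_1 D62904 (iv D62121) (iv F277414)
theorem F281082 : act 4 n62904 = n62129 := d24_2 D62120 D62904 (iv D62129) (iv D61103) (iv F272776)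
theorem F281083 : act 6 n62904 = n62516 := d26_2 (iv F277415) D62904 (iv D62516)
theorem F281084 : act 9 n62904 = n62321 := d29_2 (iv F277416) D62904 (iv D62321)
def n62905 : Q := act 5 n62120
theorem D62905 : act 5 n62120 = n62905 := rfl
theorem F281085 : act 1 n62905 = n62122 := d12_1 D62905 (iv D62122) (iv F277414)
theorem F281086 : act 4 n62905 = n62125 := d30_1 D62905 (iv D62125) (iv D61098) (iv F272777) D62120
theorem F281087 : act 9 n62905 = n62322 := d38_2 (iv F277416) D62905 (iv D62322)
def n62906 : Q := act 5 n62121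
theorem D62906 : act 5 n62121 = n62906 := rfl
theorem F281088 : act 2 n62906 = n62906 := d19_1 D62906 (iv D62906) F277417
theorem F281089 : act 3 n62906 = n62122 := d25_1 D62906 (iv D62122) D62121
theorem F281090 : act 4 n62906 = n62522 := d30_1 D62906 F280671 F280666 F276919 (iv F277418)
theorem F281091 : act 9 n62906 = n62323 := d38_2 (iv F277420) D62906 (iv D62323)
def n62907 : Q := act 8 n62121
theorem D62907 : act 8 n62121 = n62907 := rfl
theorem F281092 : act 2 n62907 = n62907 := d22_1 D62907 (iv D62907) F277417
theorem F281093 : act 3 n62907 = n62325 := d28_1 D62907 F279420 (iv D62639) F275362 D62121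
theorem F281094 : act 4 n62907 = n62130 := d33_1 D62907 (iv D62130) (iv F277418)
theorem F281095 : act 6 n62907 = n62323 := d40_1 D62907 (iv F278327) (iv F277419)
def n62908 : Q := act 6 n62122
theorem D62908 : act 6 n62122 = n62908 := rfl
theorem F281096 : act 2 n62908 = n62123 := d20_1 D62908 (iv D62123) (iv F277421)
theorem F281097 : act 4 n62908 = n62126 := d31_1 D62908 (iv D62126) (iv F277422)
theorem F281098 : act 5 n62908 = n62457 := d35_1 D62908 F278832 (iv D61589) (iv F272781) D62122
theorem F281099 : act 9 n62908 = n62325 := d41_2 (iv F277423) D62908 (iv D62325)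
def n62909 : Q := act 5 n62124
theorem D62909 : act 5 n62124 = n62909 := rfl
theorem F281100 : act 0 n62909 = n62125 := d4_1 D62909 (iv D62125) (iv F277428)
theorem F281101 : act 9 n62909 = n62326 := d38_2 (iv F277430) D62909 (iv D62326)
def n62910 : Q := act 6 n62125
theorem D62910 : act 6 n62125 = n62910 := rfl
theorem F281102 : act 1 n62910 = n62126 := d13_1 D62910 (iv D62126) (iv F277431)
theorem F281103 : act 3 n62910 = n62347 := d26_1 D62910 (iv F280687) F280686
theorem F281104 : act 5 n62910 = n62346 := d35_1 D62910 F278414 F273930 (iv F272790) D62125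
theorem F281105 : act 9 n62910 = n62327 := d41_2 (iv F277432) D62910 (iv D62327)
def n62911 : Q := act 7 n62126
theorem D62911 : act 7 n62126 = n62911 := rfl
theorem F281106 : act 0 n62911 = n62405 := d6_1 D62911 (iv F280863) F280859
theorem F281107 : act 2 n62911 = n62127 := d21_1 D62911 (iv D62127) (iv F277433)
theorem F281108 : act 3 n62911 = n62194 := d27_1 D62911 (iv F277741) (iv F277434)
theorem F281109 : act 5 n62911 = n62344 := d36_1 D62911 F278407 (iv F277435)
theorem F281110 : act 6 n62911 = n62193 := d39_1 D62911 F277736 (iv F275906) F275907 D62126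
theorem F281111 : act 9 n62911 = n62200 := d43_2 (iv F277436) D62911 F277769
def n62912 : Q := act 3 n62128
theorem D62912 : act 3 n62128 = n62912 := rfl
theorem F281112 : act 0 n62912 = n62129 := d2_1 D62912 (iv D62129) (iv F277443)
theorem F281113 : act 6 n62912 = n62519 := d26_2 (iv F277445) D62912 (iv D62519)
theorem F281114 : act 9 n62912 = n62331 := d29_2 (iv F277447) D62912 (iv D62331)
def n62913 : Q := act 2 n62129
theorem D62913 : act 2 n62129 = n62913 := rfl
theorem F281115 : act 1 n62913 = n62913 := d9_1 D62913 (iv D62913) F277448 F272815 (iv F277448)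
theorem F281116 : act 3 n62913 = n62618 := d17_2 D62129 D62913 (iv D62618) (iv D61748) (iv F272811)
theorem F281117 : act 6 n62913 = n62520 := d20_2 (iv F277449) D62913 (iv D62520)
theorem F281118 : act 9 n62913 = n62332 := d23_2 (iv F277450) D62913 (iv D62332)
def n62914 : Q := act 8 n62129
theorem D62914 : act 8 n62129 = n62914 := rfl
theorem F281119 : act 1 n62914 = n62130 := d15_1 D62914 (iv D62130) (iv F277448)
theorem F281120 : act 3 n62914 = n62156 := d28_1 D62914 (iv D62156) (iv D61134) (iv F272813) D62129
theorem F281121 : act 5 n62914 = n62376 := d37_1 D62914 (iv F280699) F280697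
theorem F281122 : act 6 n62914 = n62521 := d40_1 D62914 (iv D62521) (iv F277449)
def n62915 : Q := act 9 n62130
theorem D62915 : act 9 n62130 = n62915 := rfl
theorem F281123 : act 2 n62915 = n62915 := d23_1 D62915 (iv D62915) F277451
theorem F281124 : act 3 n62915 = n62157 := d29_1 D62915 (iv D62157) (iv F277452)
theorem F281125 : act 5 n62915 = n62337 := d38_1 D62915 F278371 (iv F277453)
theorem F281126 : act 6 n62915 = n62522 := d41_1 D62915 (iv D62522) (iv F277454)
theorem F281127 : act 8 n62915 = n62334 := d44_1 D62915 (iv D62334) (iv D61348) (iv F272817) D62130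
def n62916 : Q := act 0 n62131
theorem D62916 : act 0 n62131 = n62916 := rfl
theorem F281128 : act 1 n62916 = n62335 := d0_2 D62131 D62916 (iv D62335) (iv D61350) (iv F272824)
theorem F281129 : act 2 n62916 = n62548 := d1_2 (iv F277455) D62916 (iv D62548)
theorem F281130 : act 3 n62916 = n62410 := d2_2 (iv F277456) D62916 (iv D62410)
theorem F281131 : act 5 n62916 = n62247 := d4_2 (iv F277457) D62916 (iv D62247)
theorem F281132 : act 6 n62916 = n62244 := d5_2 (iv F277458) D62916 (iv D62244)
theorem F281133 : act 7 n62916 = n62144 := d6_2 (iv F277459) D62916 (iv D62144)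
theorem F281134 : act 8 n62916 = n62164 := d7_2 (iv F277460) D62916 (iv D62164)
theorem F281135 : act 9 n62916 = n62133 := d8_2 (iv F277461) D62916 (iv D62133)
def n62917 : Q := act 4 n62131
theorem D62917 : act 4 n62131 = n62917 := rfl
theorem F281136 : act 1 n62917 = n62132 := d11_1 D62917 (iv D62132) D62131
theorem F281137 : act 2 n62917 = n62549 := d18_1 D62917 (iv D62549) (iv F277455)
theorem F281138 : act 6 n62917 = n62245 := d31_2 (iv F277458) D62917 (iv D62245)
theorem F281139 : act 7 n62917 = n62145 := d32_2 (iv F277459) D62917 (iv D62145)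
theorem F281140 : act 8 n62917 = n62165 := d33_2 (iv F277460) D62917 (iv D62165)
theorem F281141 : act 9 n62917 = n62134 := d34_2 (iv F277461) D62917 (iv D62134)
def n62918 : Q := act 4 n62133
theorem D62918 : act 4 n62133 = n62918 := rfl
theorem F281142 : act 0 n62918 = n62134 := d3_1 D62918 (iv D62134) D62133
theorem F281143 : act 1 n62918 = n62375 := d11_1 D62918 (iv D62375) (iv F277468)
theorem F281144 : act 2 n62918 = n62552 := d18_1 D62918 (iv D62552) (iv F277469)
theorem F281145 : act 6 n62918 = n62260 := d31_2 (iv F277471) D62918 (iv D62260)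
theorem F281146 : act 7 n62918 = n62148 := d32_2 (iv F277472) D62918 (iv D62148)
theorem F281147 : act 8 n62918 = n62136 := d33_2 (iv F277473) D62918 (iv D62136)
def n62919 : Q := act 3 n62134
theorem D62919 : act 3 n62134 = n62919 := rfl
theorem F281148 : act 1 n62919 = n62135 := d10_1 D62919 (iv D62135) (iv F277474)
theorem F281149 : act 6 n62919 = n62261 := d26_2 (iv F277476) D62919 (iv D62261)
theorem F281150 : act 7 n62919 = n62149 := d27_2 (iv F277477) D62919 (iv D62149)
theorem F281151 : act 8 n62919 = n62578 := d28_2 (iv F277478) D62919 (iv D62578) (iv F276823) F276819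
def n62920 : Q := act 4 n62138
theorem D62920 : act 4 n62138 = n62920 := rfl
theorem F281152 : act 0 n62920 = n62139 := d3_1 D62920 (iv D62139) D62138
theorem F281153 : act 1 n62920 = n62560 := d11_1 D62920 (iv D62560) (iv F277492)
theorem F281154 : act 2 n62920 = n62148 := d18_1 D62920 (iv D62148) (iv F277493)
theorem F281155 : act 6 n62920 = n62222 := d31_2 (iv F277496) D62920 (iv D62222)
theorem F281156 : act 7 n62920 = n62552 := d32_2 (iv F277497) D62920 (iv D62552)
theorem F281157 : act 8 n62920 = n62142 := d33_2 (iv F277498) D62920 (iv D62142)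
def n62921 : Q := act 3 n62139
theorem D62921 : act 3 n62139 = n62921 := rfl
theorem F281158 : act 1 n62921 = n62140 := d10_1 D62921 (iv D62140) (iv F277499)
theorem F281159 : act 4 n62921 = n62217 := d24_2 D62139 D62921 (iv D62217) (iv D61213) (iv F272865)
theorem F281160 : act 6 n62921 = n62223 := d26_2 (iv F277501) D62921 (iv D62223)
theorem F281161 : act 7 n62921 = n62553 := d27_2 (iv F277502) D62921 (iv D62553)
theorem F281162 : act 8 n62921 = n62460 := d28_2 (iv F277503) D62921 (iv D62460) F274461 (iv F272891)
theorem F281163 : act 5 n62521 = n62921 := d37_3 F281162 F278848 D62521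
def n62922 : Q := act 5 n62139
theorem D62922 : act 5 n62139 = n62922 := rfl
theorem F281164 : act 1 n62922 = n62141 := d12_1 D62922 (iv D62141) (iv F277499)
theorem F281165 : act 2 n62922 = n62150 := d19_1 D62922 (iv D62150) (iv F277500)
theorem F281166 : act 3 n62922 = n62521 := d25_1 D62922 F281163 (iv D62921)
theorem F281167 : act 4 n62922 = n62215 := d30_1 D62922 (iv D62215) (iv D61210) (iv F272866) D62139
theorem F281168 : act 6 n62922 = n62156 := d35_2 (iv F277501) D62922 F277572 F274111 (iv F273328)
theorem F281169 : act 7 n62922 = n62554 := d36_2 (iv F277502) D62922 (iv D62554)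
theorem F281170 : act 8 n62922 = n62143 := d37_2 (iv F277503) D62922 (iv D62143)
def n62923 : Q := act 5 n62142
theorem D62923 : act 5 n62142 = n62923 := rfl
theorem F281171 : act 0 n62923 = n62143 := d4_1 D62923 (iv D62143) (iv F277518)
theorem F281172 : act 1 n62923 = n62566 := d12_1 D62923 (iv D62566) (iv F277519)
theorem F281173 : act 2 n62923 = n62153 := d19_1 D62923 (iv D62153) (iv F277520)
theorem F281174 : act 3 n62923 = n62154 := d25_1 D62923 F277563 (iv F277521)
theorem F281175 : act 4 n62923 = n62547 := d30_1 D62923 (iv D62547) (iv D61637) (iv F272885) D62142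
theorem F281176 : act 6 n62923 = n62155 := d35_2 (iv F277522) D62923 (iv F280756) F280757 F277579
theorem F281177 : act 7 n62923 = n62555 := d36_2 (iv F277523) D62923 (iv D62555)
theorem F281178 : act 9 n62923 = n62180 := d38_2 (iv F277524) D62923 (iv D62180)
def n62924 : Q := act 4 n62144
theorem D62924 : act 4 n62144 = n62924 := rfl
theorem F281179 : act 0 n62924 = n62145 := d3_1 D62924 (iv D62145) D62144
theorem F281180 : act 6 n62924 = n62570 := d31_2 (iv F277532) D62924 (iv D62570)
theorem F281181 : act 8 n62924 = n62190 := d33_2 (iv F277533) D62924 (iv D62190)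
theorem F281182 : act 9 n62924 = n62148 := d34_2 (iv F277534) D62924 (iv D62148)
def n62925 : Q := act 3 n62145
theorem D62925 : act 3 n62145 = n62925 := rfl
theorem F281183 : act 1 n62925 = n62146 := d10_1 D62925 (iv D62146) (iv F277535)
theorem F281184 : act 6 n62925 = n62571 := d26_2 (iv F277536) D62925 (iv D62571)
theorem F281185 : act 9 n62925 = n62149 := d29_2 (iv F277538) D62925 (iv D62149)
def n62926 : Q := act 5 n62145
theorem D62926 : act 5 n62145 = n62926 := rfl
theorem F281186 : act 1 n62926 = n62147 := d12_1 D62926 (iv D62147) (iv F277535)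
theorem F281187 : act 8 n62926 = n62192 := d37_2 (iv F277537) D62926 (iv D62192)
theorem F281188 : act 9 n62926 = n62150 := d38_2 (iv F277538) D62926 (iv D62150)
def n62927 : Q := act 5 n62146
theorem D62927 : act 5 n62146 = n62927 := rfl
theorem F281189 : act 2 n62927 = n62927 := d19_1 D62927 (iv D62927) F277539
theorem F281190 : act 3 n62927 = n62147 := d25_1 D62927 (iv D62147) D62146
theorem F281191 : act 9 n62927 = n62151 := d38_2 (iv F277541) D62927 (iv D62151)
def n62928 : Q := act 3 n62148
theorem D62928 : act 3 n62148 = n62928 := rfl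
theorem F281192 : act 0 n62928 = n62149 := d2_1 D62928 (iv D62149) (iv F277545)
theorem F281193 : act 6 n62928 = n62572 := d26_2 (iv F277546) D62928 (iv D62572)
def n62929 : Q := act 5 n62148
theorem D62929 : act 5 n62148 = n62929 := rfl
theorem F281194 : act 0 n62929 = n62150 := d4_1 D62929 (iv D62150) (iv F277545)
theorem F281195 : act 8 n62929 = n62153 := d37_2 (iv F277547) D62929 (iv D62153)
def n62930 : Q := act 2 n62149
theorem D62930 : act 2 n62149 = n62930 := rfl
theorem F281196 : act 1 n62930 = n62930 := d9_1 D62930 (iv D62930) F277548 F272917 (iv F277548)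
theorem F281197 : act 6 n62930 = n62573 := d20_2 (iv F277549) D62930 (iv D62573)
def n62931 : Q := act 5 n62149
theorem D62931 : act 5 n62149 = n62931 := rfl
theorem F281198 : act 1 n62931 = n62151 := d12_1 D62931 (iv D62151) (iv F277548)
theorem F281199 : act 3 n62931 = n62150 := d25_1 D62931 (iv D62150) D62149
def n62932 : Q := act 4 n62151
theorem D62932 : act 4 n62151 = n62932 := rfl
theorem F281200 : act 2 n62932 = n62932 := d18_1 D62932 (iv D62932) F277552
theorem F281201 : act 3 n62932 = n62395 := d24_1 D62932 F278621 (iv F275723) F275724 (iv F277553)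
theorem F281202 : act 6 n62932 = n62387 := d31_2 F280509 D62932 (iv F280508)
theorem F281203 : act 8 n62932 = n62383 := d33_2 F280733 D62932 (iv F280735)
def n62933 : Q := act 8 n62155
theorem D62933 : act 8 n62155 = n62933 := rfl
theorem F281204 : act 0 n62933 = n62156 := d7_1 D62933 (iv D62156) (iv F277568)
theorem F281205 : act 4 n62933 = n62402 := d33_1 D62933 (iv F280954) F280951
theorem F281206 : act 5 n62933 = n62375 := d37_1 D62933 F280761 F280756
def n62934 : Q := act 9 n62156
theorem D62934 : act 9 n62156 = n62934 := rfl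
theorem F281207 : act 1 n62934 = n62157 := d16_1 D62934 (iv D62157) (iv F277570)
theorem F281208 : act 4 n62934 = n62347 := d34_1 D62934 F278417 (iv F277571)
theorem F281209 : act 5 n62934 = n62336 := d38_1 D62934 F278366 (iv F277572)
theorem F281210 : act 8 n62934 = n62208 := d44_1 D62934 (iv D62208) (iv D61195) (iv F272949) D62156
def n62935 : Q := act 0 n62159
theorem D62935 : act 0 n62159 = n62935 := rfl
theorem F281211 : act 1 n62935 = n62289 := d0_2 D62159 D62935 (iv D62289) (iv D61307) (iv F272966)
theorem F281212 : act 2 n62935 = n62556 := d1_2 (iv F277583) D62935 (iv D62556)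
theorem F281213 : act 3 n62935 = n62384 := d2_2 (iv F277584) D62935 (iv D62384)
theorem F281214 : act 5 n62935 = n62164 := d4_2 (iv F277585) D62935 (iv D62164)
theorem F281215 : act 6 n62935 = n62230 := d5_2 (iv F277586) D62935 (iv D62230)
theorem F281216 : act 7 n62935 = n62181 := d6_2 (iv F277587) D62935 (iv D62181)
theorem F281217 : act 8 n62935 = n62247 := d7_2 (iv F277588) D62935 (iv D62247)
theorem F281218 : act 9 n62935 = n62161 := d8_2 (iv F277589) D62935 (iv D62161)
def n62936 : Q := act 4 n62159
theorem D62936 : act 4 n62159 = n62936 := rfl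
theorem F281219 : act 1 n62936 = n62160 := d11_1 D62936 (iv D62160) D62159
theorem F281220 : act 2 n62936 = n62557 := d18_1 D62936 (iv D62557) (iv F277583)
theorem F281221 : act 6 n62936 = n62231 := d31_2 (iv F277586) D62936 (iv D62231)
theorem F281222 : act 7 n62936 = n62182 := d32_2 (iv F277587) D62936 (iv D62182)
theorem F281223 : act 8 n62936 = n62248 := d33_2 (iv F277588) D62936 (iv D62248)
theorem F281224 : act 9 n62936 = n62162 := d34_2 (iv F277589) D62936 (iv D62162)
def n62937 : Q := act 4 n62161
theorem D62937 : act 4 n62161 = n62937 := rfl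
theorem F281225 : act 0 n62937 = n62162 := d3_1 D62937 (iv D62162) D62161
theorem F281226 : act 2 n62937 = n62560 := d18_1 D62937 (iv D62560) (iv F277596)
theorem F281227 : act 7 n62937 = n62185 := d32_2 (iv F277599) D62937 (iv D62185)
theorem F281228 : act 8 n62937 = n62167 := d33_2 (iv F277600) D62937 (iv D62167)
def n62938 : Q := act 3 n62162
theorem D62938 : act 3 n62162 = n62938 := rfl
theorem F281229 : act 1 n62938 = n62163 := d10_1 D62938 (iv D62163) (iv F277601)
theorem F281230 : act 4 n62938 = n62386 := d24_2 D62162 D62938 (iv D62386) (iv D61415) (iv F272981)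
theorem F281231 : act 7 n62938 = n62186 := d27_2 (iv F277603) D62938 (iv D62186)
def n62939 : Q := act 4 n62164
theorem D62939 : act 4 n62164 = n62939 := rfl
theorem F281232 : act 0 n62939 = n62165 := d3_1 D62939 (iv D62165) D62164
theorem F281233 : act 1 n62939 = n62598 := d11_1 D62939 (iv D62598) (iv F277608)
theorem F281234 : act 2 n62939 = n62563 := d18_1 D62939 (iv D62563) (iv F277609)
theorem F281235 : act 6 n62939 = n62581 := d31_2 (iv F277611) D62939 (iv D62581)
theorem F281236 : act 7 n62939 = n62190 := d32_2 (iv F277612) D62939 (iv D62190)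
theorem F281237 : act 9 n62939 = n62166 := d34_2 (iv F277613) D62939 (iv D62166)
def n62940 : Q := act 4 n62169
theorem D62940 : act 4 n62169 = n62940 := rfl
theorem F281238 : act 0 n62940 = n62170 := d3_1 D62940 (iv D62170) D62169
theorem F281239 : act 1 n62940 = n62552 := d11_1 D62940 (iv D62552) (iv F277633)
theorem F281240 : act 2 n62940 = n62185 := d18_1 D62940 (iv D62185) (iv F277634)
theorem F281241 : act 7 n62940 = n62560 := d32_2 (iv F277637) D62940 (iv D62560)
theorem F281242 : act 8 n62940 = n62178 := d33_2 (iv F277638) D62940 (iv D62178)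
def n62941 : Q := act 3 n62170
theorem D62941 : act 3 n62170 = n62941 := rfl
theorem F281243 : act 1 n62941 = n62171 := d10_1 D62941 (iv D62171) (iv F277639)
theorem F281244 : act 4 n62941 = n62583 := d24_2 D62170 D62941 (iv D62583) (iv D61697) (iv F273033)
theorem F281245 : act 7 n62941 = n62561 := d27_2 (iv F277641) D62941 (iv D62561)
theorem F281246 : act 8 n62941 = n62569 := d28_2 (iv F277642) D62941 (iv D62569) F274968 (iv F273087)
def n62942 : Q := act 5 n62170
theorem D62942 : act 5 n62170 = n62942 := rfl
theorem F281247 : act 1 n62942 = n62172 := d12_1 D62942 (iv D62172) (iv F277639)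
theorem F281248 : act 2 n62942 = n62187 := d19_1 D62942 (iv D62187) (iv F277640)
theorem F281249 : act 4 n62942 = n62177 := d30_1 D62942 (iv D62177) (iv D61160) (iv F273034) D62170
theorem F281250 : act 6 n62942 = n62204 := d35_2 F279968 D62942 (iv F280478) F280479 (iv F279967)
theorem F281251 : act 7 n62942 = n62562 := d36_2 (iv F277641) D62942 (iv D62562)
theorem F281252 : act 8 n62942 = n62179 := d37_2 (iv F277642) D62942 (iv D62179)
def n62943 : Q := act 4 n62173
theorem D62943 : act 4 n62173 = n62943 := rfl
theorem F281253 : act 0 n62943 = n62174 := d3_1 D62943 (iv D62174) D62173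
theorem F281254 : act 2 n62943 = n62190 := d18_1 D62943 (iv D62190) (iv F277654)
theorem F281255 : act 3 n62943 = n62538 := d24_1 D62943 (iv D62538) (iv F277073) F277074 (iv F277655)
theorem F281256 : act 6 n62943 = n62227 := d31_2 (iv F277656) D62943 (iv D62227)
theorem F281257 : act 7 n62943 = n62563 := d32_2 (iv F277657) D62943 (iv D62563)
theorem F281258 : act 9 n62943 = n62176 := d34_2 (iv F277658) D62943 (iv D62176)
def n62944 : Q := act 5 n62174
theorem D62944 : act 5 n62174 = n62944 := rfl
theorem F281259 : act 1 n62944 = n62175 := d12_1 D62944 (iv D62175) (iv F277659)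
theorem F281260 : act 2 n62944 = n62192 := d19_1 D62944 (iv D62192) (iv F277660)
theorem F281261 : act 3 n62944 = n62445 := d25_1 D62944 F278789 (iv F277661)
theorem F281262 : act 6 n62944 = n62208 := d35_2 (iv F277662) D62944 F277793 (iv F276524) F276523
theorem F281263 : act 7 n62944 = n62564 := d36_2 (iv F277663) D62944 (iv D62564)
theorem F281264 : act 9 n62944 = n62177 := d38_2 (iv F277664) D62944 (iv D62177)
def n62945 : Q := act 5 n62176
theorem D62945 : act 5 n62176 = n62945 := rfl
theorem F281265 : act 0 n62945 = n62177 := d4_1 D62945 (iv D62177) (iv F277670)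
theorem F281266 : act 2 n62945 = n62196 := d19_1 D62945 (iv D62196) (iv F277671)
theorem F281267 : act 3 n62945 = n62444 := d25_1 D62945 F278785 (iv F277672)
theorem F281268 : act 6 n62945 = n62207 := d35_2 (iv F277673) D62945 F280566 F280562 F276760
theorem F281269 : act 7 n62945 = n62565 := d36_2 (iv F277674) D62945 (iv D62565)
theorem F281270 : act 8 n62945 = n62180 := d37_2 (iv F277675) D62945 (iv D62180)
def n62946 : Q := act 5 n62178
theorem D62946 : act 5 n62178 = n62946 := rfl
theorem F281271 : act 0 n62946 = n62179 := d4_1 D62946 (iv D62179) (iv F277682)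
theorem F281272 : act 1 n62946 = n62555 := d12_1 D62946 (iv D62555) (iv F277683)
theorem F281273 : act 2 n62946 = n62203 := d19_1 D62946 (iv D62203) (iv F277684)
theorem F281274 : act 3 n62946 = n62201 := d25_1 D62946 F277773 (iv F277685)
theorem F281275 : act 4 n62946 = n62180 := d30_1 D62946 (iv D62180) (iv D61165) (iv F273082) D62178
theorem F281276 : act 6 n62946 = n62202 := d35_2 F280610 D62946 (iv F280886) F280887 (iv F280609)
theorem F281277 : act 7 n62946 = n62566 := d36_2 (iv F277686) D62946 (iv D62566)
theorem F281278 : act 9 n62946 = n62547 := d38_2 (iv F277687) D62946 (iv D62547)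
def n62947 : Q := act 4 n62181
theorem D62947 : act 4 n62181 = n62947 := rfl
theorem F281279 : act 0 n62947 = n62182 := d3_1 D62947 (iv D62182) D62181
theorem F281280 : act 9 n62947 = n62185 := d34_2 (iv F277702) D62947 (iv D62185)
def n62948 : Q := act 3 n62182
theorem D62948 : act 3 n62182 = n62948 := rfl
theorem F281281 : act 1 n62948 = n62183 := d10_1 D62948 (iv D62183) (iv F277703)
theorem F281282 : act 4 n62948 = n62426 := d24_2 D62182 D62948 (iv D62426) (iv D61456) (iv F273107)
theorem F281283 : act 9 n62948 = n62186 := d29_2 (iv F277704) D62948 (iv D62186)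
def n62949 : Q := act 5 n62182
theorem D62949 : act 5 n62182 = n62949 := rfl
theorem F281284 : act 1 n62949 = n62184 := d12_1 D62949 (iv D62184) (iv F277703)
theorem F281285 : act 4 n62949 = n62192 := d30_1 D62949 (iv D62192) (iv D61175) (iv F273108) D62182
theorem F281286 : act 9 n62949 = n62187 := d38_2 (iv F277704) D62949 (iv D62187)
def n62950 : Q := act 5 n62183
theorem D62950 : act 5 n62183 = n62950 := rfl
theorem F281287 : act 2 n62950 = n62950 := d19_1 D62950 (iv D62950) F277705
theorem F281288 : act 3 n62950 = n62184 := d25_1 D62950 (iv D62184) D62183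
theorem F281289 : act 9 n62950 = n62188 := d38_2 (iv F277707) D62950 (iv D62188)
def n62951 : Q := act 8 n62183
theorem D62951 : act 8 n62183 = n62951 := rfl
theorem F281290 : act 2 n62951 = n62951 := d22_1 D62951 (iv D62951) F277705
theorem F281291 : act 4 n62951 = n62427 := d33_1 D62951 (iv D62427) (iv F277706)
def n62952 : Q := act 3 n62185
theorem D62952 : act 3 n62185 = n62952 := rfl
theorem F281292 : act 0 n62952 = n62186 := d2_1 D62952 (iv D62186) (iv F277711)
theorem F281293 : act 4 n62952 = n62428 := d24_2 D62185 D62952 (iv D62428) (iv D61458) (iv F273115)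
def n62953 : Q := act 5 n62185
theorem D62953 : act 5 n62185 = n62953 := rfl
theorem F281294 : act 0 n62953 = n62187 := d4_1 D62953 (iv D62187) (iv F277711)
theorem F281295 : act 4 n62953 = n62196 := d30_1 D62953 (iv D62196) (iv D61179) (iv F273116) D62185
theorem F281296 : act 8 n62953 = n62203 := d37_2 (iv F277712) D62953 (iv D62203)
def n62954 : Q := act 2 n62186
theorem D62954 : act 2 n62186 = n62954 := rfl
theorem F281297 : act 1 n62954 = n62954 := d9_1 D62954 (iv D62954) F277713 F273120 (iv F277713)
theorem F281298 : act 4 n62954 = n62430 := d18_2 (iv F277714) D62954 (iv D62430)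
def n62955 : Q := act 5 n62186
theorem D62955 : act 5 n62186 = n62955 := rfl
theorem F281299 : act 1 n62955 = n62188 := d12_1 D62955 (iv D62188) (iv F277713)
theorem F281300 : act 3 n62955 = n62187 := d25_1 D62955 (iv D62187) D62186
def n62956 : Q := act 8 n62186
theorem D62956 : act 8 n62186 = n62956 := rfl
theorem F281301 : act 1 n62956 = n62189 := d15_1 D62956 (iv D62189) (iv F277713)
theorem F281302 : act 3 n62956 = n62204 := d28_1 D62956 (iv D62204) (iv D61187) (iv F273119) D62186
theorem F281303 : act 4 n62956 = n62432 := d33_1 D62956 (iv D62432) (iv F277714)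
def n62957 : Q := act 4 n62188
theorem D62957 : act 4 n62188 = n62957 := rfl
theorem F281304 : act 0 n62957 = n62387 := d3_1 D62957 (iv F280508) F280505
theorem F281305 : act 2 n62957 = n62957 := d18_1 D62957 (iv D62957) F277718
theorem F281306 : act 3 n62957 = n62199 := d24_1 D62957 (iv D62199) F273155 (iv F273123) (iv F277719)
theorem F281307 : act 5 n62957 = n62433 := d30_2 D62188 D62957 (iv D62433) (iv D61461) (iv F273121)
theorem F281308 : act 7 n62957 = n62280 := d32_2 F280518 D62957 (iv F280515)
theorem F281309 : act 8 n62957 = n62264 := d33_2 F280489 D62957 (iv F280485)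
def n62958 : Q := act 9 n62189
theorem D62958 : act 9 n62189 = n62958 := rfl
theorem F281310 : act 2 n62958 = n62958 := d23_1 D62958 (iv D62958) F277720
theorem F281311 : act 3 n62958 = n62205 := d29_1 D62958 (iv D62205) (iv F277721)
theorem F281312 : act 4 n62958 = n62434 := d34_1 D62958 (iv D62434) (iv F277722)
theorem F281313 : act 5 n62958 = n62291 := d38_1 D62958 (iv F280490) F280486
def n62959 : Q := act 3 n62190
theorem D62959 : act 3 n62190 = n62959 := rfl
theorem F281314 : act 0 n62959 = n62191 := d2_1 D62959 (iv D62191) (iv F277723)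
theorem F281315 : act 1 n62959 = n62593 := d10_1 D62959 (iv F280373) F280371
theorem F281316 : act 2 n62959 = n62498 := d17_1 D62959 F278996 (iv F279107) (iv F281255) F281254
theorem F281317 : act 4 n62959 = n62435 := d24_2 D62190 D62959 (iv D62435) (iv D61463) (iv F273125)
theorem F281318 : act 6 n62959 = n62503 := d26_2 (iv F277724) D62959 F279015
theorem F281319 : act 9 n62959 = n62195 := d29_2 (iv F277725) D62959 (iv D62195)
def n62960 : Q := act 5 n62190
theorem D62960 : act 5 n62190 = n62960 := rfl
theorem F281320 : act 0 n62960 = n62192 := d4_1 D62960 (iv D62192) (iv F277723)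
theorem F281321 : act 9 n62960 = n62196 := d38_2 (iv F277725) D62960 (iv D62196)
def n62961 : Q := act 5 n62191
theorem D62961 : act 5 n62191 = n62961 := rfl
theorem F281322 : act 1 n62961 = n62193 := d12_1 D62961 (iv D62193) (iv F277726)
theorem F281323 : act 2 n62961 = n62499 := d19_1 D62961 (iv D62499) (iv F277727)
theorem F281324 : act 3 n62961 = n62192 := d25_1 D62961 (iv D62192) D62191
theorem F281325 : act 7 n62961 = n62284 := d36_2 F279804 D62961 F279807
theorem F281326 : act 9 n62961 = n62197 := d38_2 (iv F277730) D62961 (iv D62197)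
def n62962 : Q := act 6 n62192
theorem D62962 : act 6 n62192 = n62962 := rfl
theorem F281327 : act 1 n62962 = n62194 := d13_1 D62962 (iv D62194) (iv F277731)
theorem F281328 : act 2 n62962 = n62208 := d20_1 D62962 (iv F281262) F281260
theorem F281329 : act 5 n62962 = n62343 := d35_1 D62962 F278401 F273974 (iv F273129) D62192
theorem F281330 : act 9 n62962 = n62198 := d41_2 (iv F277732) D62962 (iv D62198)
theorem F281331 : act 7 n62347 = n62962 := d43_3 F281330 (iv F277759) (iv F278417)
def n62963 : Q := act 5 n62195
theorem D62963 : act 5 n62195 = n62963 := rfl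
theorem F281332 : act 0 n62963 = n62197 := d4_1 D62963 (iv D62197) (iv F277742)
theorem F281333 : act 1 n62963 = n62407 := d12_1 D62963 F278660 (iv F277743)
theorem F281334 : act 2 n62963 = n62518 := d19_1 D62963 (iv D62518) (iv F277744)
theorem F281335 : act 3 n62963 = n62196 := d25_1 D62963 (iv D62196) D62195
theorem F281336 : act 7 n62963 = n62283 := d36_2 F279813 D62963 F279815
theorem F281337 : act 8 n62963 = n62273 := d37_2 (iv F277747) D62963 F278117
def n62964 : Q := act 6 n62196
theorem D62964 : act 6 n62196 = n62964 := rfl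
theorem F281338 : act 0 n62964 = n62198 := d5_1 D62964 (iv D62198) (iv F277748)
theorem F281339 : act 2 n62964 = n62207 := d20_1 D62964 (iv F281268) F281266
theorem F281340 : act 5 n62964 = n62399 := d35_1 D62964 F278638 F274363 (iv F273144) D62196
theorem F281341 : act 8 n62964 = n62206 := d40_2 (iv F277749) D62964 (iv D62206)
theorem F281342 : act 7 n62402 = n62964 := d42_3 F281341 (iv F280953) F280954
def n62965 : Q := act 4 n62197
theorem D62965 : act 4 n62197 = n62965 := rfl
theorem F281343 : act 1 n62965 = n62199 := d11_1 D62965 (iv D62199) (iv F277750)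
theorem F281344 : act 2 n62965 = n62517 := d18_1 D62965 F279052 (iv F277751)
theorem F281345 : act 5 n62965 = n62437 := d30_2 D62197 D62965 (iv D62437) (iv D61467) (iv F273148)
theorem F281346 : act 7 n62965 = n62282 := d32_2 (iv F277753) D62965 F278159
theorem F281347 : act 8 n62965 = n62269 := d33_2 (iv F277754) D62965 F278103
def n62966 : Q := act 6 n62197
theorem D62966 : act 6 n62197 = n62966 := rfl
theorem F281348 : act 1 n62966 = n62200 := d13_1 D62966 (iv D62200) (iv F277750)
theorem F281349 : act 2 n62966 = n62449 := d20_1 D62966 F278802 (iv F277751)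
theorem F281350 : act 3 n62966 = n62198 := d26_1 D62966 (iv D62198) (iv F277752)
theorem F281351 : act 5 n62966 = n62400 := d35_1 D62966 F278643 F274367 (iv F273149) D62197
theorem F281352 : act 7 n62966 = n62327 := d39_2 (iv F277753) D62966 (iv D62327) (iv F275902) F275901
theorem F281353 : act 8 n62966 = n62271 := d40_2 (iv F277754) D62966 F278111
def n62967 : Q := act 6 n62199
theorem D62967 : act 6 n62199 = n62967 := rfl
theorem F281354 : act 0 n62967 = n62395 := d5_1 D62967 F278622 (iv F277760)
theorem F281355 : act 2 n62967 = n62209 := d20_1 D62967 F277797 (iv F277761)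
theorem F281356 : act 4 n62967 = n62200 := d31_1 D62967 (iv D62200) D62199
theorem F281357 : act 7 n62967 = n62325 := d39_2 (iv F277763) D62967 (iv D62325) (iv F275883) F275882
theorem F281358 : act 8 n62967 = n62267 := d40_2 (iv F277764) D62967 F278094
def n62968 : Q := act 8 n62202
theorem D62968 : act 8 n62202 = n62968 := rfl
theorem F281359 : act 0 n62968 = n62204 := d7_1 D62968 (iv D62204) (iv F277776)
theorem F281360 : act 4 n62968 = n62207 := d33_1 D62968 (iv D62207) (iv F277777)
def n62969 : Q := act 9 n62204
theorem D62969 : act 9 n62204 = n62969 := rfl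
theorem F281361 : act 1 n62969 = n62205 := d16_1 D62969 (iv D62205) (iv F277780)
theorem F281362 : act 4 n62969 = n62208 := d34_1 D62969 (iv D62208) (iv F277781)
theorem F281363 : act 5 n62969 = n62290 := d38_1 D62969 (iv F280482) F280478
theorem F281364 : act 8 n62969 = n62347 := d44_1 D62969 F278417 (iv F277270) F277271 D62204
def n62970 : Q := act 9 n62207
theorem D62970 : act 9 n62207 = n62970 := rfl
theorem F281365 : act 0 n62970 = n62208 := d8_1 D62970 (iv D62208) (iv F277789)
theorem F281366 : act 3 n62970 = n62448 := d29_1 D62970 (iv D62448) (iv F277790)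
theorem F281367 : act 5 n62970 = n62598 := d38_1 D62970 (iv F280565) (iv F280566)
def n62971 : Q := act 4 n62211
theorem D62971 : act 4 n62211 = n62971 := rfl
theorem F281368 : act 0 n62971 = n62212 := d3_1 D62971 (iv D62212) D62211
theorem F281369 : act 1 n62971 = n62582 := d11_1 D62971 (iv D62582) (iv F277808)
theorem F281370 : act 5 n62971 = n62292 := d30_2 (iv F277810) D62971 (iv D62292) F273717 (iv F273255)
theorem F281371 : act 7 n62971 = n62216 := d32_2 (iv F277811) D62971 (iv D62216)
theorem F281372 : act 8 n62971 = n62221 := d33_2 (iv F277812) D62971 (iv D62221)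
def n62972 : Q := act 3 n62212
theorem D62972 : act 3 n62212 = n62972 := rfl
theorem F281373 : act 1 n62972 = n62213 := d10_1 D62972 (iv D62213) (iv F277813)
theorem F281374 : act 4 n62972 = n62553 := d24_2 D62212 D62972 (iv D62553) (iv D61643) (iv F273245)
theorem F281375 : act 5 n62972 = n62293 := d25_2 (iv F277814) D62972 (iv D62293)
theorem F281376 : act 7 n62972 = n62217 := d27_2 (iv F277815) D62972 (iv D62217)
theorem F281377 : act 8 n62972 = n62528 := d28_2 (iv F277816) D62972 (iv D62528) F274799 (iv F273305)
def n62973 : Q := act 5 n62214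
theorem D62973 : act 5 n62214 = n62973 := rfl
theorem F281378 : act 0 n62973 = n62215 := d4_1 D62973 (iv D62215) (iv F277823)
theorem F281379 : act 1 n62973 = n62565 := d12_1 D62973 (iv D62565) (iv F277824)
theorem F281380 : act 3 n62973 = n62326 := d25_1 D62973 (iv D62326) (iv F277825)
theorem F281381 : act 6 n62973 = n62402 := d35_2 (iv F277826) D62973 (iv D62402) F274210 (iv F273338)
theorem F281382 : act 8 n62973 = n62547 := d37_2 (iv F277827) D62973 (iv D62547)
def n62974 : Q := act 3 n62216
theorem D62974 : act 3 n62216 = n62974 := rfl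
theorem F281383 : act 0 n62974 = n62217 := d2_1 D62974 (iv D62217) (iv F277832)
theorem F281384 : act 1 n62974 = n62586 := d10_1 D62974 (iv D62586) (iv F277833)
theorem F281385 : act 5 n62974 = n62331 := d25_2 (iv F277834) D62974 (iv D62331)
theorem F281386 : act 8 n62974 = n62543 := d28_2 (iv F277835) D62974 (iv D62543) F274879 (iv F273311)
def n62975 : Q := act 2 n62217
theorem D62975 : act 2 n62217 = n62975 := rfl
theorem F281387 : act 1 n62975 = n62975 := d9_1 D62975 (iv D62975) F277836 F273278 (iv F277836)
theorem F281388 : act 5 n62975 = n62332 := d19_2 (iv F277837) D62975 (iv D62332)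
theorem F281389 : act 8 n62975 = n62544 := d22_2 (iv F277838) D62975 (iv D62544)
def n62976 : Q := act 4 n62218
theorem D62976 : act 4 n62218 = n62976 := rfl
theorem F281390 : act 0 n62976 = n62219 := d3_1 D62976 (iv D62219) D62218
theorem F281391 : act 1 n62976 = n62575 := d11_1 D62976 (iv D62575) (iv F277839)
theorem F281392 : act 2 n62976 = n62570 := d18_1 D62976 (iv D62570) (iv F277840)
theorem F281393 : act 5 n62976 = n62338 := d30_2 (iv F277842) D62976 (iv D62338) F273877 (iv F273295)
theorem F281394 : act 7 n62976 = n62228 := d32_2 (iv F277843) D62976 (iv D62228)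
theorem F281395 : act 8 n62976 = n62227 := d33_2 (iv F277844) D62976 (iv D62227)
theorem F281396 : act 9 n62976 = n62222 := d34_2 (iv F277845) D62976 (iv D62222)
def n62977 : Q := act 3 n62219
theorem D62977 : act 3 n62219 = n62977 := rfl
theorem F281397 : act 1 n62977 = n62220 := d10_1 D62977 (iv D62220) (iv F277846)
theorem F281398 : act 4 n62977 = n62379 := d24_2 D62219 D62977 F278558 (iv D61685) (iv F273282)
theorem F281399 : act 5 n62977 = n62339 := d25_2 (iv F277848) D62977 (iv D62339)
theorem F281400 : act 7 n62977 = n62229 := d27_2 (iv F277849) D62977 (iv D62229)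
theorem F281401 : act 8 n62977 = n62372 := d28_2 (iv F277850) D62977 (iv D62372) (iv F276705) F276701
theorem F281402 : act 9 n62977 = n62223 := d29_2 (iv F277851) D62977 (iv D62223)
def n62978 : Q := act 3 n62222
theorem D62978 : act 3 n62222 = n62978 := rfl
theorem F281403 : act 0 n62978 = n62223 := d2_1 D62978 (iv D62223) (iv F277865)
theorem F281404 : act 1 n62978 = n62620 := d10_1 D62978 F280777 F280771
theorem F281405 : act 5 n62978 = n62377 := d25_2 (iv F277867) D62978 (iv D62377)
theorem F281406 : act 7 n62978 = n62579 := d27_2 (iv F277868) D62978 (iv D62579)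
theorem F281407 : act 8 n62978 = n62588 := d28_2 (iv F277869) D62978 (iv D62588) (iv F278855) F278853
def n62979 : Q := act 2 n62223
theorem D62979 : act 2 n62223 = n62979 := rfl
theorem F281408 : act 1 n62979 = n62979 := d9_1 D62979 (iv D62979) F277870 F273332 (iv F277870)
theorem F281409 : act 3 n62979 = n62573 := d17_2 D62223 D62979 (iv D62573) (iv D61674) (iv F273327)
theorem F281410 : act 5 n62979 = n62378 := d19_2 (iv F277871) D62979 (iv D62378)
theorem F281411 : act 7 n62979 = n62580 := d21_2 (iv F277872) D62979 (iv D62580)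
theorem F281412 : act 8 n62979 = n62589 := d22_2 (iv F277873) D62979 (iv D62589)
def n62980 : Q := act 9 n62225
theorem D62980 : act 9 n62225 = n62980 := rfl
theorem F281413 : act 0 n62980 = n62226 := d8_1 D62980 (iv D62226) (iv F277879)
theorem F281414 : act 2 n62980 = n62391 := d23_1 D62980 (iv F280599) F280593
theorem F281415 : act 3 n62980 = n62598 := d29_1 D62980 (iv F280565) F280561
theorem F281416 : act 4 n62980 = n62274 := d34_1 D62980 F278125 (iv F277880)
theorem F281417 : act 5 n62980 = n62448 := d38_1 D62980 (iv D62448) (iv F277881)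
theorem F281418 : act 6 n62980 = n62380 := d41_1 D62980 (iv F280542) F280539
theorem F281419 : act 7 n62980 = n62593 := d43_1 D62980 F279245 (iv F277882)
theorem F281420 : act 8 n62980 = n62541 := d44_1 D62980 F279117 F274879 (iv F273356) D62225
def n62981 : Q := act 3 n62228
theorem D62981 : act 3 n62228 = n62981 := rfl
theorem F281421 : act 0 n62981 = n62229 := d2_1 D62981 (iv D62229) (iv F277895)
theorem F281422 : act 4 n62981 = n62620 := d24_2 D62228 D62981 F280777 (iv D62851) F277053
theorem F281423 : act 5 n62981 = n62596 := d25_2 (iv F277896) D62981 (iv D62596)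
theorem F281424 : act 6 n62981 = n62586 := d26_2 (iv F277897) D62981 (iv D62586)
theorem F281425 : act 8 n62981 = n62615 := d28_2 (iv F277898) D62981 (iv D62615) (iv F277806) F277803
theorem F281426 : act 9 n62981 = n62579 := d29_2 (iv F277899) D62981 (iv D62579)
def n62982 : Q := act 2 n62229
theorem D62982 : act 2 n62229 = n62982 := rfl
theorem F281427 : act 1 n62982 = n62982 := d9_1 D62982 (iv D62982) F277900 F273396 (iv F277900)
theorem F281428 : act 4 n62982 = n62621 := d18_2 (iv F277901) D62982 F279308
theorem F281429 : act 5 n62982 = n62597 := d19_2 (iv F277902) D62982 (iv D62597)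
theorem F281430 : act 6 n62982 = n62587 := d20_2 (iv F277903) D62982 (iv D62587)
theorem F281431 : act 8 n62982 = n62616 := d22_2 (iv F277904) D62982 (iv D62616)
theorem F281432 : act 9 n62982 = n62580 := d23_2 (iv F277905) D62982 (iv D62580)
def n62983 : Q := act 4 n62230
theorem D62983 : act 4 n62230 = n62983 := rfl
theorem F281433 : act 0 n62983 = n62231 := d3_1 D62983 (iv D62231) D62230
theorem F281434 : act 1 n62983 = n62292 := d11_1 D62983 (iv D62292) (iv F277906)
theorem F281435 : act 2 n62983 = n62575 := d18_1 D62983 (iv D62575) (iv F277907)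
theorem F281436 : act 5 n62983 = n62582 := d30_2 (iv F277909) D62983 (iv D62582) F275042 (iv F273417)
theorem F281437 : act 7 n62983 = n62241 := d32_2 (iv F277910) D62983 (iv D62241)
theorem F281438 : act 8 n62983 = n62251 := d33_2 (iv F277911) D62983 (iv D62251)
def n62984 : Q := act 3 n62231
theorem D62984 : act 3 n62231 = n62984 := rfl
theorem F281439 : act 1 n62984 = n62232 := d10_1 D62984 (iv D62232) (iv F277912)
theorem F281440 : act 4 n62984 = n62537 := d24_2 D62231 D62984 (iv D62537) (iv D61616) (iv F273405)
theorem F281441 : act 5 n62984 = n62583 := d25_2 (iv F277914) D62984 (iv D62583)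
theorem F281442 : act 7 n62984 = n62242 := d27_2 (iv F277915) D62984 (iv D62242)
def n62985 : Q := act 8 n62232
theorem D62985 : act 8 n62232 = n62985 := rfl
theorem F281443 : act 0 n62985 = n62294 := d7_1 D62985 (iv D62294) (iv F277917)
theorem F281444 : act 2 n62985 = n62985 := d22_1 D62985 (iv D62985) F277918
theorem F281445 : act 3 n62985 = n62253 := d28_1 D62985 (iv D62253) (iv D61261) (iv F273413) D62232
theorem F281446 : act 4 n62985 = n62424 := d33_1 D62985 F278720 (iv F277919)
theorem F281447 : act 5 n62985 = n62476 := d37_1 D62985 F278915 (iv F277920)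
theorem F281448 : act 7 n62985 = n62243 := d42_1 D62985 (iv D62243) (iv F277921)
def n62986 : Q := act 4 n62233
theorem D62986 : act 4 n62233 = n62986 := rfl
theorem F281449 : act 0 n62986 = n62234 := d3_1 D62986 (iv D62234) D62233
theorem F281450 : act 1 n62986 = n62320 := d11_1 D62986 (iv D62320) (iv F277922)
theorem F281451 : act 2 n62986 = n62527 := d18_1 D62986 (iv D62527) (iv F277923)
theorem F281452 : act 7 n62986 = n62536 := d32_2 (iv F277926) D62986 (iv D62536)
theorem F281453 : act 8 n62986 = n62523 := d33_2 (iv F277927) D62986 (iv D62523)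
def n62987 : Q := act 3 n62234
theorem D62987 : act 3 n62234 = n62987 := rfl
theorem F281454 : act 1 n62987 = n62235 := d10_1 D62987 (iv D62235) (iv F277928)
theorem F281455 : act 4 n62987 = n62242 := d24_2 D62234 D62987 (iv D62242) (iv D61251) (iv F273422)
theorem F281456 : act 7 n62987 = n62537 := d27_2 (iv F277930) D62987 (iv D62537)
def n62988 : Q := act 5 n62234
theorem D62988 : act 5 n62234 = n62988 := rfl
theorem F281457 : act 1 n62988 = n62236 := d12_1 D62988 (iv D62236) (iv F277928)
theorem F281458 : act 2 n62988 = n62351 := d19_1 D62988 F278434 (iv F277929)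
theorem F281459 : act 4 n62988 = n62239 := d30_1 D62988 (iv D62239) (iv D61247) (iv F273423) D62234
theorem F281460 : act 7 n62988 = n62362 := d36_2 (iv F277930) D62988 F278490
theorem F281461 : act 8 n62988 = n62350 := d37_2 (iv F277931) D62988 F278429
def n62989 : Q := act 5 n62235
theorem D62989 : act 5 n62235 = n62989 := rfl
theorem F281462 : act 0 n62989 = n62323 := d4_1 D62989 (iv D62323) (iv F277932)
theorem F281463 : act 2 n62989 = n62989 := d19_1 D62989 (iv D62989) F277933
theorem F281464 : act 3 n62989 = n62236 := d25_1 D62989 (iv D62236) D62235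
theorem F281465 : act 4 n62989 = n62471 := d30_1 D62989 F278895 F274937 (iv F273467) (iv F277934)
theorem F281466 : act 7 n62989 = n62366 := d36_2 (iv F277935) D62989 F278506
theorem F281467 : act 8 n62415 = n62989 := d42_0 F281466 F278508 (iv F278692)
def n62990 : Q := act 8 n62235
theorem D62990 : act 8 n62235 = n62990 := rfl
theorem F281468 : act 0 n62990 = n62324 := d7_1 D62990 (iv D62324) (iv F277932)
theorem F281469 : act 2 n62990 = n62990 := d22_1 D62990 (iv D62990) F277933
theorem F281470 : act 3 n62990 = n62416 := d28_1 D62990 F278697 F274337 (iv F273429) D62235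
theorem F281471 : act 4 n62990 = n62243 := d33_1 D62990 (iv D62243) (iv F277934)
theorem F281472 : act 5 n62990 = n62415 := d37_1 D62990 F281467 (iv D62989)
theorem F281473 : act 7 n62990 = n62424 := d42_1 D62990 F278720 (iv F277935)
def n62991 : Q := act 6 n62236
theorem D62991 : act 6 n62236 = n62991 := rfl
theorem F281474 : act 0 n62991 = n62325 := d5_1 D62991 (iv D62325) (iv F277936)
theorem F281475 : act 2 n62991 = n62237 := d20_1 D62991 (iv D62237) (iv F277937)
theorem F281476 : act 4 n62991 = n62240 := d31_1 D62991 (iv D62240) (iv F277938)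
theorem F281477 : act 7 n62991 = n62395 := d39_2 (iv F277939) D62991 F278622 F274199 (iv F274049)
theorem F281478 : act 8 n62991 = n62364 := d40_2 (iv F277940) D62991 F278498
def n62992 : Q := act 5 n62238
theorem D62992 : act 5 n62238 = n62992 := rfl
theorem F281479 : act 0 n62992 = n62239 := d4_1 D62992 (iv D62239) (iv F277947)
theorem F281480 : act 1 n62992 = n62326 := d12_1 D62992 (iv D62326) (iv F277948)
theorem F281481 : act 2 n62992 = n62532 := d19_1 D62992 (iv D62532) (iv F277949)
theorem F281482 : act 3 n62992 = n62565 := d25_1 D62992 (iv D62565) (iv F277950)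
theorem F281483 : act 7 n62992 = n62444 := d36_2 (iv F277952) D62992 F278785
theorem F281484 : act 8 n62992 = n62443 := d37_2 (iv F277953) D62992 F278780
def n62993 : Q := act 6 n62239
theorem D62993 : act 6 n62239 = n62993 := rfl
theorem F281485 : act 1 n62993 = n62240 := d13_1 D62993 (iv D62240) (iv F277954)
theorem F281486 : act 2 n62993 = n62533 := d20_1 D62993 (iv D62533) (iv F277955)
theorem F281487 : act 3 n62993 = n62272 := d26_1 D62993 F278113 (iv F277956)
theorem F281488 : act 5 n62993 = n62271 := d35_1 D62993 F278111 F273621 (iv F273445) D62239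
theorem F281489 : act 7 n62993 = n62404 := d39_2 (iv F277957) D62993 F278653 F274224 (iv F274377)
theorem F281490 : act 8 n62993 = n62400 := d40_2 (iv F277958) D62993 F278643
def n62994 : Q := act 3 n62241
theorem D62994 : act 3 n62241 = n62994 := rfl
theorem F281491 : act 0 n62994 = n62242 := d2_1 D62994 (iv D62242) (iv F277965)
theorem F281492 : act 1 n62994 = n62331 := d10_1 D62994 (iv D62331) (iv F277966)
theorem F281493 : act 5 n62994 = n62586 := d25_2 (iv F277967) D62994 (iv D62586)
def n62995 : Q := act 2 n62242
theorem D62995 : act 2 n62242 = n62995 := rfl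
theorem F281494 : act 1 n62995 = n62995 := d9_1 D62995 (iv D62995) F277969 F273466 (iv F277969)
theorem F281495 : act 5 n62995 = n62587 := d19_2 (iv F277970) D62995 (iv D62587)
def n62996 : Q := act 8 n62242
theorem D62996 : act 8 n62242 = n62996 := rfl
theorem F281496 : act 1 n62996 = n62243 := d15_1 D62996 (iv D62243) (iv F277969)
theorem F281497 : act 3 n62996 = n62255 := d28_1 D62996 (iv D62255) (iv D61263) (iv F273464) D62242
theorem F281498 : act 5 n62996 = n62488 := d37_1 D62996 F278963 (iv F277970)
def n62997 : Q := act 4 n62244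
theorem D62997 : act 4 n62244 = n62997 := rfl
theorem F281499 : act 0 n62997 = n62245 := d3_1 D62997 (iv D62245) D62244
theorem F281500 : act 1 n62997 = n62338 := d11_1 D62997 (iv D62338) (iv F277975)
theorem F281501 : act 2 n62997 = n62582 := d18_1 D62997 (iv D62582) (iv F277976)
theorem F281502 : act 5 n62997 = n62575 := d30_2 (iv F277978) D62997 (iv D62575) F275015 (iv F273483)
theorem F281503 : act 7 n62997 = n62584 := d32_2 (iv F277979) D62997 (iv D62584)
theorem F281504 : act 8 n62997 = n62581 := d33_2 (iv F277980) D62997 (iv D62581)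
theorem F281505 : act 9 n62997 = n62260 := d34_2 (iv F277981) D62997 (iv D62260)
def n62998 : Q := act 3 n62245
theorem D62998 : act 3 n62245 = n62998 := rfl
theorem F281506 : act 1 n62998 = n62246 := d10_1 D62998 (iv D62246) (iv F277982)
theorem F281507 : act 4 n62998 = n62412 := d24_2 D62245 D62998 (iv D62412) (iv D61441) (iv F273469)
theorem F281508 : act 5 n62998 = n62576 := d25_2 (iv F277984) D62998 (iv D62576)
theorem F281509 : act 7 n62998 = n62585 := d27_2 (iv F277985) D62998 (iv D62585)
theorem F281510 : act 8 n62998 = n62595 := d28_2 (iv F277986) D62998 (iv D62595) (iv F276364) F276361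
theorem F281511 : act 9 n62998 = n62261 := d29_2 (iv F277987) D62998 (iv D62261)
def n62999 : Q := act 4 n62247
theorem D62999 : act 4 n62247 = n62999 := rfl
theorem F281512 : act 0 n62999 = n62248 := d3_1 D62999 (iv D62248) D62247
theorem F281513 : act 1 n62999 = n62345 := d11_1 D62999 (iv D62345) (iv F277995)
theorem F281514 : act 6 n62999 = n62251 := d31_2 (iv F277997) D62999 (iv D62251)
theorem F281515 : act 9 n62999 = n62270 := d34_2 (iv F277998) D62999 (iv D62270)
def n63000 : Q := act 3 n62248
theorem D63000 : act 3 n62248 = n63000 := rfl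
theorem F281516 : act 1 n63000 = n62249 := d10_1 D63000 (iv D62249) (iv F277999)
theorem F281517 : act 4 n63000 = n62482 := d24_2 D62248 D63000 F278941 F275186 (iv F273488)
theorem F281518 : act 6 n63000 = n62252 := d26_2 (iv F278000) D63000 (iv D62252)
theorem F281519 : act 9 n63000 = n62271 := d29_2 (iv F278001) D63000 (iv D62271)
def n63001 : Q := act 5 n62248
theorem D63001 : act 5 n62248 = n63001 := rfl
theorem F281520 : act 1 n63001 = n62250 := d12_1 D63001 (iv D62250) (iv F277999)
theorem F281521 : act 6 n63001 = n62564 := d35_2 (iv F278000) D63001 (iv D62564) F274947 (iv F273505)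
theorem F281522 : act 9 n63001 = n62272 := d38_2 (iv F278001) D63001 (iv D62272)
def n63002 : Q := act 8 n62249
theorem D63002 : act 8 n62249 = n63002 := rfl
theorem F281523 : act 0 n63002 = n62348 := d7_1 D63002 (iv D62348) (iv F278002)
theorem F281524 : act 2 n63002 = n62256 := d22_1 D63002 (iv D62256) (iv F278003)
theorem F281525 : act 4 n63002 = n62479 := d33_1 D63002 F278930 (iv F278004)
theorem F281526 : act 6 n63002 = n62253 := d40_1 D63002 (iv D62253) (iv F278005)
def n63003 : Q := act 3 n62251
theorem D63003 : act 3 n62251 = n63003 := rfl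
theorem F281527 : act 0 n63003 = n62252 := d2_1 D63003 (iv D62252) (iv F278011)
theorem F281528 : act 1 n63003 = n62349 := d10_1 D63003 (iv D62349) (iv F278012)
theorem F281529 : act 4 n63003 = n62481 := d24_2 D62251 D63003 F278938 F275181 (iv F273500)
theorem F281530 : act 5 n63003 = n62480 := d25_2 (iv F278013) D63003 F278933
theorem F281531 : act 7 n63003 = n62254 := d27_2 (iv F278014) D63003 (iv D62254)
theorem F281532 : act 9 n63003 = n62273 := d29_2 (iv F278015) D63003 (iv D62273)
def n63004 : Q := act 8 n62252
theorem D63004 : act 8 n62252 = n63004 := rfl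
theorem F281533 : act 1 n63004 = n62253 := d15_1 D63004 (iv D62253) (iv F278016)
theorem F281534 : act 4 n63004 = n62478 := d33_1 D63004 F278925 (iv F278017)
theorem F281535 : act 5 n63004 = n62475 := d37_1 D63004 F278910 (iv F278018)
theorem F281536 : act 7 n63004 = n62255 := d42_1 D63004 (iv D62255) (iv F278019)
def n63005 : Q := act 8 n62254
theorem D63005 : act 8 n62254 = n63005 := rfl
theorem F281537 : act 0 n63005 = n62255 := d7_1 D63005 (iv D62255) (iv F278026)
theorem F281538 : act 1 n63005 = n62361 := d15_1 D63005 (iv D62361) (iv F278027)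
theorem F281539 : act 4 n63005 = n62489 := d33_1 D63005 F278966 (iv F278028)
theorem F281540 : act 5 n63005 = n62487 := d37_1 D63005 F278959 (iv F278029)
def n63006 : Q := act 4 n62257
theorem D63006 : act 4 n62257 = n63006 := rfl
theorem F281541 : act 0 n63006 = n62258 := d3_1 D63006 (iv D62258) D62257
theorem F281542 : act 1 n63006 = n62371 := d11_1 D63006 (iv D62371) (iv F278038)
theorem F281543 : act 2 n63006 = n62425 := d18_1 D63006 (iv D62425) (iv F278039)
theorem F281544 : act 5 n63006 = n62594 := d30_2 (iv F278041) D63006 (iv D62594) F275095 (iv F273550)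
theorem F281545 : act 7 n63006 = n62539 := d32_2 (iv F278042) D63006 (iv D62539)
theorem F281546 : act 8 n63006 = n62546 := d33_2 (iv F278043) D63006 (iv D62546)
theorem F281547 : act 9 n63006 = n62411 := d34_2 (iv F278044) D63006 (iv D62411)
def n63007 : Q := act 3 n62258
theorem D63007 : act 3 n62258 = n63007 := rfl
theorem F281548 : act 1 n63007 = n62259 := d10_1 D63007 (iv D62259) (iv F278045)
theorem F281549 : act 4 n63007 = n62261 := d24_2 D62258 D63007 (iv D62261) (iv D61271) (iv F273536)
theorem F281550 : act 5 n63007 = n62595 := d25_2 (iv F278047) D63007 (iv D62595)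
theorem F281551 : act 7 n63007 = n62540 := d27_2 (iv F278048) D63007 (iv D62540)
theorem F281552 : act 8 n63007 = n62576 := d28_2 (iv F278049) D63007 (iv D62576) (iv F275965) F275962
theorem F281553 : act 9 n63007 = n62412 := d29_2 (iv F278050) D63007 (iv D62412)
def n63008 : Q := act 3 n62260
theorem D63008 : act 3 n62260 = n63008 := rfl
theorem F281554 : act 0 n63008 = n62261 := d2_1 D63008 (iv D62261) (iv F278058)
theorem F281555 : act 1 n63008 = n62377 := d10_1 D63008 (iv D62377) (iv F278059)
theorem F281556 : act 5 n63008 = n62620 := d25_2 F280772 D63008 F280777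
theorem F281557 : act 7 n63008 = n62588 := d27_2 (iv F278060) D63008 (iv D62588)
theorem F281558 : act 8 n63008 = n62579 := d28_2 F280708 D63008 (iv D62579) (iv F278837) (iv F280704)
def n63009 : Q := act 2 n62261
theorem D63009 : act 2 n62261 = n63009 := rfl
theorem F281559 : act 1 n63009 = n63009 := d9_1 D63009 (iv D63009) F278061 F273560 (iv F278061)
theorem F281560 : act 5 n63009 = n62621 := d19_2 (iv F278062) D63009 F279308
theorem F281561 : act 7 n63009 = n62589 := d21_2 (iv F278063) D63009 (iv D62589)
theorem F281562 : act 8 n63009 = n62580 := d22_2 (iv F278064) D63009 (iv D62580)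
def n63010 : Q := act 4 n62262
theorem D63010 : act 4 n62262 = n63010 := rfl
theorem F281563 : act 0 n63010 = n62263 := d3_1 D63010 (iv D62263) D62262
theorem F281564 : act 1 n63010 = n62385 := d11_1 D63010 (iv D62385) (iv F278065)
theorem F281565 : act 2 n63010 = n62610 := d18_1 D63010 (iv D62610) (iv F278066)
theorem F281566 : act 5 n63010 = n62492 := d30_2 (iv F278067) D63010 (iv D62492) F274656 (iv F273577)
theorem F281567 : act 7 n63010 = n62278 := d32_2 (iv F278068) D63010 (iv D62278)
theorem F281568 : act 8 n63010 = n62268 := d33_2 (iv F278069) D63010 (iv D62268)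
theorem F281569 : act 9 n63010 = n62599 := d34_2 (iv F278070) D63010 (iv D62599)
def n63011 : Q := act 3 n62263
theorem D63011 : act 3 n62263 = n63011 := rfl
theorem F281570 : act 1 n63011 = n62264 := d10_1 D63011 (iv D62264) (iv F278071)
theorem F281571 : act 5 n63011 = n62493 := d25_2 (iv F278073) D63011 (iv D62493)
theorem F281572 : act 7 n63011 = n62279 := d27_2 (iv F278074) D63011 (iv D62279)
theorem F281573 : act 9 n63011 = n62600 := d29_2 (iv F278076) D63011 (iv D62600)
def n63012 : Q := act 4 n62265
theorem D63012 : act 4 n62265 = n63012 := rfl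
theorem F281574 : act 0 n63012 = n62266 := d3_1 D63012 (iv D62266) D62265
theorem F281575 : act 1 n63012 = n62391 := d11_1 D63012 (iv D62391) (iv F278082)
theorem F281576 : act 2 n63012 = n62626 := d18_1 D63012 (iv D62626) (iv F278083)
theorem F281577 : act 6 n63012 = n62268 := d31_2 (iv F278085) D63012 (iv D62268)
theorem F281578 : act 9 n63012 = n62623 := d34_2 (iv F278086) D63012 F279314
def n63013 : Q := act 3 n62266
theorem D63013 : act 3 n62266 = n63013 := rfl
theorem F281579 : act 1 n63013 = n62267 := d10_1 D63013 (iv D62267) (iv F278087)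
theorem F281580 : act 4 n63013 = n62271 := d24_2 D62266 D63013 (iv D62271) (iv D61282) (iv F273582)
theorem F281581 : act 6 n63013 = n62269 := d26_2 (iv F278089) D63013 (iv D62269)
theorem F281582 : act 9 n63013 = n62482 := d29_2 (iv F278090) D63013 F278941
def n63014 : Q := act 3 n62268
theorem D63014 : act 3 n62268 = n63014 := rfl
theorem F281583 : act 0 n63014 = n62269 := d2_1 D63014 (iv D62269) (iv F278096)
theorem F281584 : act 1 n63014 = n62396 := d10_1 D63014 (iv D62396) (iv F278097)
theorem F281585 : act 4 n63014 = n62273 := d24_2 D62268 D63014 (iv D62273) (iv D61285) (iv F273591)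
theorem F281586 : act 5 n63014 = n62462 := d25_2 (iv F278099) D63014 F278859
theorem F281587 : act 7 n63014 = n62281 := d27_2 (iv F278100) D63014 (iv D62281)
theorem F281588 : act 9 n63014 = n62481 := d29_2 (iv F278101) D63014 F278938
def n63015 : Q := act 3 n62270
theorem D63015 : act 3 n62270 = n63015 := rfl
theorem F281589 : act 0 n63015 = n62271 := d2_1 D63015 (iv D62271) (iv F278107)
theorem F281590 : act 1 n63015 = n62401 := d10_1 D63015 (iv D62401) (iv F278108)
theorem F281591 : act 6 n63015 = n62273 := d26_2 (iv F278109) D63015 (iv D62273)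
def n63016 : Q := act 5 n62270
theorem D63016 : act 5 n62270 = n63016 := rfl
theorem F281592 : act 0 n63016 = n62272 := d4_1 D63016 (iv D62272) (iv F278107)
theorem F281593 : act 1 n63016 = n62402 := d12_1 D63016 (iv D62402) (iv F278108)
theorem F281594 : act 6 n63016 = n62565 := d35_2 (iv F278109) D63016 (iv D62565) (iv F277012) F277011
theorem F281595 : act 8 n63016 = n62567 := d37_2 (iv F279363) D63016 (iv F279359)
def n63017 : Q := act 4 n62275
theorem D63017 : act 4 n62275 = n63017 := rfl
theorem F281596 : act 0 n63017 = n62276 := d3_1 D63017 (iv D62276) D62275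
theorem F281597 : act 1 n63017 = n62425 := d11_1 D63017 (iv D62425) (iv F278126)
theorem F281598 : act 2 n63017 = n62492 := d18_1 D63017 (iv D62492) (iv F278127)
theorem F281599 : act 5 n63017 = n62610 := d30_2 (iv F278128) D63017 (iv D62610) F275140 (iv F273658)
theorem F281600 : act 7 n63017 = n62599 := d32_2 (iv F278129) D63017 (iv D62599)
theorem F281601 : act 8 n63017 = n62490 := d33_2 (iv F278130) D63017 (iv D62490)
theorem F281602 : act 9 n63017 = n62278 := d34_2 (iv F278131) D63017 (iv D62278)
def n63018 : Q := act 3 n62276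
theorem D63018 : act 3 n62276 = n63018 := rfl
theorem F281603 : act 1 n63018 = n62277 := d10_1 D63018 (iv D62277) (iv F278132)
theorem F281604 : act 5 n63018 = n62611 := d25_2 (iv F278134) D63018 (iv D62611)
theorem F281605 : act 7 n63018 = n62600 := d27_2 (iv F278135) D63018 (iv D62600)
theorem F281606 : act 9 n63018 = n62279 := d29_2 (iv F278137) D63018 (iv D62279)
def n63019 : Q := act 8 n62277
theorem D63019 : act 8 n62277 = n63019 := rfl
theorem F281607 : act 0 n63019 = n62427 := d7_1 D63019 (iv D62427) (iv F278138)
theorem F281608 : act 2 n63019 = n63019 := d22_1 D63019 (iv D63019) F278139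
theorem F281609 : act 3 n63019 = n62305 := d28_1 D63019 F278258 (iv D61554) (iv F273645) D62277
theorem F281610 : act 5 n63019 = n62304 := d37_1 D63019 F278254 (iv F278140)
theorem F281611 : act 7 n63019 = n62601 := d42_1 D63019 (iv D62601) (iv F278141)
def n63020 : Q := act 3 n62278
theorem D63020 : act 3 n62278 = n63020 := rfl
theorem F281612 : act 0 n63020 = n62279 := d2_1 D63020 (iv D62279) (iv F278143)
theorem F281613 : act 1 n63020 = n62428 := d10_1 D63020 (iv D62428) (iv F278144)
theorem F281614 : act 5 n63020 = n62612 := d25_2 (iv F278145) D63020 (iv D62612)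
def n63021 : Q := act 2 n62279
theorem D63021 : act 2 n62279 = n63021 := rfl
theorem F281615 : act 1 n63021 = n63021 := d9_1 D63021 (iv D63021) F278147 F273654 (iv F278147)
theorem F281616 : act 5 n63021 = n62613 := d19_2 (iv F278148) D63021 (iv D62613)
def n63022 : Q := act 8 n62279
theorem D63022 : act 8 n62279 = n63022 := rfl
theorem F281617 : act 1 n63022 = n62280 := d15_1 D63022 (iv D62280) (iv F278147)
theorem F281618 : act 3 n63022 = n62282 := d28_1 D63022 (iv D62282) (iv D61296) (iv F273652) D62279
theorem F281619 : act 5 n63022 = n62464 := d37_1 D63022 F278866 (iv F278148)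
def n63023 : Q := act 8 n62281
theorem D63023 : act 8 n62281 = n63023 := rfl
theorem F281620 : act 0 n63023 = n62282 := d7_1 D63023 (iv D62282) (iv F278153)
theorem F281621 : act 1 n63023 = n62441 := d15_1 D63023 (iv D62441) (iv F278154)
theorem F281622 : act 4 n63023 = n62283 := d33_1 D63023 (iv D62283) (iv F278155)
theorem F281623 : act 5 n63023 = n62463 := d37_1 D63023 F278864 (iv F278156)
def n63024 : Q := act 9 n62283
theorem D63024 : act 9 n62283 = n63024 := rfl
theorem F281624 : act 0 n63024 = n62284 := d8_1 D63024 (iv D62284) (iv F278161)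
theorem F281625 : act 1 n63024 = n62448 := d16_1 D63024 (iv D62448) (iv F278162)
def n63025 : Q := act 4 n62286
theorem D63025 : act 4 n62286 = n63025 := rfl
theorem F281626 : act 0 n63025 = n62287 := d3_1 D63025 (iv D62287) D62286
theorem F281627 : act 1 n63025 = n62536 := d11_1 D63025 (iv D62536) (iv F278170)
theorem F281628 : act 2 n63025 = n62608 := d18_1 D63025 (iv D62608) (iv F278171)
theorem F281629 : act 6 n63025 = n62599 := d31_2 (iv F278174) D63025 (iv D62599)
theorem F281630 : act 7 n63025 = n62320 := d32_2 (iv F278175) D63025 (iv D62320)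
theorem F281631 : act 8 n63025 = n62535 := d33_2 (iv F278176) D63025 (iv D62535)
def n63026 : Q := act 3 n62287
theorem D63026 : act 3 n62287 = n63026 := rfl
theorem F281632 : act 1 n63026 = n62288 := d10_1 D63026 (iv D62288) (iv F278177)
theorem F281633 : act 4 n63026 = n62293 := d24_2 D62287 D63026 (iv D62293) (iv D61310) (iv F273696)
theorem F281634 : act 6 n63026 = n62600 := d26_2 (iv F278179) D63026 (iv D62600)
theorem F281635 : act 7 n63026 = n62321 := d27_2 (iv F278180) D63026 (iv D62321)
def n63027 : Q := act 4 n62289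
theorem D63027 : act 4 n62289 = n63027 := rfl
theorem F281636 : act 0 n63027 = n62290 := d3_1 D63027 (iv D62290) D62289
theorem F281637 : act 6 n63027 = n62292 := d31_2 (iv F278189) D63027 (iv D62292)
theorem F281638 : act 8 n63027 = n62345 := d33_2 (iv F278190) D63027 (iv D62345)
def n63028 : Q := act 3 n62290
theorem D63028 : act 3 n62290 = n63028 := rfl
theorem F281639 : act 1 n63028 = n62291 := d10_1 D63028 (iv D62291) (iv F278191)
theorem F281640 : act 4 n63028 = n62600 := d24_2 D62290 D63028 (iv D62600) (iv D61726) (iv F273710)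
theorem F281641 : act 6 n63028 = n62293 := d26_2 (iv F278192) D63028 (iv D62293)
def n63029 : Q := act 8 n62291
theorem D63029 : act 8 n62291 = n63029 := rfl
theorem F281642 : act 2 n63029 = n63029 := d22_1 D63029 (iv D63029) F278194
theorem F281643 : act 3 n63029 = n62348 := d28_1 D63029 (iv D62348) (iv D61362) (iv F273716) D62291
theorem F281644 : act 4 n63029 = n62601 := d33_1 D63029 (iv D62601) (iv F278195)
theorem F281645 : act 6 n63029 = n62294 := d40_1 D63029 (iv D62294) (iv F278196)
def n63030 : Q := act 3 n62292
theorem D63030 : act 3 n62292 = n63030 := rfl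
theorem F281646 : act 0 n63030 = n62293 := d2_1 D63030 (iv D62293) (iv F278197)
theorem F281647 : act 7 n63030 = n62331 := d27_2 (iv F278198) D63030 (iv D62331)
def n63031 : Q := act 2 n62293
theorem D63031 : act 2 n62293 = n63031 := rfl
theorem F281648 : act 1 n63031 = n63031 := d9_1 D63031 (iv D63031) F278200 F273723 (iv F278200)
theorem F281649 : act 7 n63031 = n62332 := d21_2 (iv F278201) D63031 (iv D62332)
def n63032 : Q := act 8 n62293
theorem D63032 : act 8 n62293 = n63032 := rfl
theorem F281650 : act 1 n63032 = n62294 := d15_1 D63032 (iv D62294) (iv F278200)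
theorem F281651 : act 3 n63032 = n62351 := d28_1 D63032 (iv D62351) (iv D61365) (iv F273722) D62293
theorem F281652 : act 5 n63032 = n62528 := d37_1 D63032 (iv F281377) F281375
theorem F281653 : act 7 n63032 = n62333 := d42_1 D63032 (iv D62333) (iv F278201)
def n63033 : Q := act 9 n62294
theorem D63033 : act 9 n62294 = n63033 := rfl
theorem F281654 : act 2 n63033 = n63033 := d23_1 D63033 (iv D63033) F278202
theorem F281655 : act 3 n63033 = n62352 := d29_1 D63033 (iv D62352) (iv F278203)
theorem F281656 : act 5 n63033 = n62526 := d38_1 D63033 F279076 (iv F278204)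
theorem F281657 : act 7 n63033 = n62334 := d43_1 D63033 (iv D62334) (iv F278205)
def n63034 : Q := act 4 n62295
theorem D63034 : act 4 n62295 = n63034 := rfl
theorem F281658 : act 0 n63034 = n62296 := d3_1 D63034 (iv D62296) D62295
theorem F281659 : act 1 n63034 = n62306 := d11_1 D63034 (iv D62306) (iv F278206)
theorem F281660 : act 2 n63034 = n62477 := d18_1 D63034 (iv D62477) (iv F278207)
theorem F281661 : act 6 n63034 = n62590 := d31_2 (iv F278208) D63034 (iv D62590)
theorem F281662 : act 7 n63034 = n62483 := d32_2 (iv F278209) D63034 (iv D62483)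
theorem F281663 : act 8 n63034 = n62472 := d33_2 (iv F278210) D63034 (iv D62472)
def n63035 : Q := act 3 n62296
theorem D63035 : act 3 n62296 = n63035 := rfl
theorem F281664 : act 1 n63035 = n62297 := d10_1 D63035 (iv D62297) (iv F278211)
theorem F281665 : act 2 n63035 = n62482 := d17_1 D63035 F278941 F275185 (iv F274564) (iv F278212)
theorem F281666 : act 6 n63035 = n62473 := d26_2 (iv F278213) D63035 F278901
theorem F281667 : act 7 n63035 = n62484 := d27_2 (iv F278214) D63035 (iv D62484)
def n63036 : Q := act 5 n62296
theorem D63036 : act 5 n62296 = n63036 := rfl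
theorem F281668 : act 1 n63036 = n62298 := d12_1 D63036 (iv D62298) (iv F278211)
theorem F281669 : act 2 n63036 = n62478 := d19_1 D63036 (iv D62478) (iv F278212)
theorem F281670 : act 7 n63036 = n62485 := d36_2 (iv F278214) D63036 (iv D62485)
theorem F281671 : act 8 n63036 = n62473 := d37_2 (iv F278215) D63036 (iv D62473)
def n63037 : Q := act 5 n62297
theorem D63037 : act 5 n62297 = n63037 := rfl
theorem F281672 : act 0 n63037 = n62309 := d4_1 D63037 (iv D62309) (iv F278216)
theorem F281673 : act 2 n63037 = n62300 := d19_1 D63037 (iv D62300) (iv F278217)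
theorem F281674 : act 3 n63037 = n62298 := d25_1 D63037 (iv D62298) D62297
theorem F281675 : act 6 n63037 = n62454 := d35_2 (iv F278218) D63037 F278820 F274516 D61527
theorem F281676 : act 7 n63037 = n62479 := d36_2 (iv F278219) D63037 F278929
theorem F281677 : act 8 n62452 = n63037 := d46_0 (iv D63037) (iv F279596) F279595 F276232 F271512 F267119 (iv F269046) (iv F274043) F274042 F269143 (iv F269340) (iv F272798) F272797 F269413 F270872 (iv D60762) F265933 F264293 F259878 F254980 F249479 F242543 D55641 (iv F251172) F251171 (iv F252161) (iv F257519) (iv F262024) F262021 (iv D57428) (iv D56213) F245663 F243006 (iv F240160) (iv D53556) F231820 (iv F231844) F231843 F231842 F224526 F214686 D48011 (iv F224961) (iv F234228) D54054 D55601 D56880 D58057 (iv F264460) F264458 (iv F265071) (iv F270026) (iv F272848) (iv F277159) (iv D62072) F272528 F269078 D60260 D61432 D62403 F278648 (iv F278810)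
def n63038 : Q := act 8 n62297
theorem D63038 : act 8 n62297 = n63038 := rfl
theorem F281678 : act 0 n63038 = n62310 := d7_1 D63038 (iv D62310) (iv F278216)
theorem F281679 : act 2 n63038 = n62299 := d22_1 D63038 F278229 (iv F278217)
theorem F281680 : act 3 n63038 = n62454 := d28_1 D63038 (iv D62454) F274409 (iv F273733) D62297
theorem F281681 : act 5 n63038 = n62452 := d37_1 D63038 F281677 (iv D63037)
theorem F281682 : act 6 n63038 = n62298 := d40_1 D63038 F278223 (iv F278218)
theorem F281683 : act 7 n63038 = n62456 := d42_1 D63038 F278830 (iv F278219)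
def n63039 : Q := act 4 n62302
theorem D63039 : act 4 n62302 = n63039 := rfl
theorem F281684 : act 0 n63039 = n62303 := d3_1 D63039 (iv D62303) D62302
theorem F281685 : act 2 n63039 = n62320 := d18_1 D63039 (iv D62320) (iv F278244)
theorem F281686 : act 7 n63039 = n62608 := d32_2 (iv F278246) D63039 (iv D62608)
theorem F281687 : act 8 n63039 = n62614 := d33_2 (iv F278247) D63039 (iv D62614)
def n63040 : Q := act 3 n62303
theorem D63040 : act 3 n62303 = n63040 := rfl
theorem F281688 : act 1 n63040 = n62304 := d10_1 D63040 (iv D62304) (iv F278248)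
theorem F281689 : act 7 n63040 = n62609 := d27_2 (iv F278250) D63040 (iv D62609)
theorem F281690 : act 8 n63040 = n62611 := d28_2 (iv F278251) D63040 (iv D62611) F275144 (iv F275155)
def n63041 : Q := act 5 n62303
theorem D63041 : act 5 n62303 = n63041 := rfl
theorem F281691 : act 1 n63041 = n62305 := d12_1 D63041 (iv D62305) (iv F278248)
theorem F281692 : act 2 n63041 = n62322 := d19_1 D63041 (iv D62322) (iv F278249)
theorem F281693 : act 4 n63041 = n62308 := d30_1 D63041 (iv D62308) (iv D61323) (iv F273765) D62303
theorem F281694 : act 7 n63041 = n62603 := d36_2 (iv F278250) D63041 F279267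
theorem F281695 : act 8 n63041 = n62491 := d37_2 (iv F278251) D63041 F278974
def n63042 : Q := act 3 n62306
theorem D63042 : act 3 n62306 = n63042 := rfl
theorem F281696 : act 0 n63042 = n62307 := d2_1 D63042 (iv D62307) (iv F278259)
theorem F281697 : act 6 n63042 = n62592 := d26_2 (iv F278261) D63042 (iv D62592)
def n63043 : Q := act 5 n62306
theorem D63043 : act 5 n62306 = n63043 := rfl
theorem F281698 : act 0 n63043 = n62308 := d4_1 D63043 (iv D62308) (iv F278259)
theorem F281699 : act 2 n63043 = n62326 := d19_1 D63043 (iv D62326) (iv F278260)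
theorem F281700 : act 8 n63043 = n62592 := d37_2 F280580 D63043 (iv F280577)
def n63044 : Q := act 5 n62307
theorem D63044 : act 5 n62307 = n63044 := rfl
theorem F281701 : act 1 n63044 = n62309 := d12_1 D63044 (iv D62309) (iv F278262)
theorem F281702 : act 2 n63044 = n62404 := d19_1 D63044 F279778 F279774
theorem F281703 : act 3 n63044 = n62308 := d25_1 D63044 (iv D62308) D62307
theorem F281704 : act 6 n63044 = n62408 := d35_2 (iv F278263) D63044 F278664 (iv F276672) F276671
theorem F281705 : act 7 n63044 = n62533 := d36_2 F279765 D63044 (iv F279764)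
theorem F281706 : act 8 n62403 = n63044 := d42_0 F281705 F279095 (iv F278651)
def n63045 : Q := act 8 n62307
theorem D63045 : act 8 n62307 = n63045 := rfl
theorem F281707 : act 1 n63045 = n62310 := d15_1 D63045 (iv D62310) (iv F278262)
theorem F281708 : act 2 n63045 = n62327 := d22_1 D63045 (iv F279777) F279774
theorem F281709 : act 3 n63045 = n62408 := d28_1 D63045 (iv D62408) (iv F276669) F276674 D62307
theorem F281710 : act 5 n63045 = n62403 := d37_1 D63045 F281706 (iv D63044)
theorem F281711 : act 6 n63045 = n62308 := d40_1 D63045 F278266 (iv F278263)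
theorem F281712 : act 7 n63045 = n62449 := d42_1 D63045 (iv F279766) F279765
def n63046 : Q := act 4 n62309
theorem D63046 : act 4 n62309 = n63046 := rfl
theorem F281713 : act 2 n63046 = n62311 := d18_1 D63046 (iv D62311) (iv F278267)
theorem F281714 : act 6 n63046 = n62356 := d31_2 (iv F278269) D63046 F278459
theorem F281715 : act 7 n63046 = n62348 := d32_2 (iv F278270) D63046 F278419
theorem F281716 : act 8 n63046 = n62344 := d33_2 F278271 D63046 F278405
def n63047 : Q := act 4 n62312
theorem D63047 : act 4 n62312 = n63047 := rfl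
theorem F281717 : act 0 n63047 = n62313 := d3_1 D63047 (iv D62313) D62312
theorem F281718 : act 1 n63047 = n62523 := d11_1 D63047 (iv D62523) (iv F278282)
theorem F281719 : act 2 n63047 = n62614 := d18_1 D63047 (iv D62614) (iv F278283)
theorem F281720 : act 7 n63047 = n62535 := d32_2 (iv F278286) D63047 (iv D62535)
theorem F281721 : act 8 n63047 = n62320 := d33_2 (iv F278287) D63047 (iv D62320)
theorem F281722 : act 9 n63047 = n62590 := d34_2 (iv F278288) D63047 (iv D62590)
def n63048 : Q := act 4 n62315
theorem D63048 : act 4 n62315 = n63048 := rfl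
theorem F281723 : act 0 n63048 = n62316 := d3_1 D63048 (iv D62316) D62315
theorem F281724 : act 6 n63048 = n62320 := d31_2 (iv F278303) D63048 (iv D62320)
theorem F281725 : act 9 n63048 = n62515 := d34_2 (iv F278304) D63048 (iv D62515)
def n63049 : Q := act 3 n62316
theorem D63049 : act 3 n62316 = n63049 := rfl
theorem F281726 : act 1 n63049 = n62317 := d10_1 D63049 (iv D62317) (iv F278305)
theorem F281727 : act 4 n63049 = n62329 := d24_2 D62316 D63049 (iv D62329) (iv D61344) (iv F273817)
theorem F281728 : act 6 n63049 = n62321 := d26_2 (iv F278306) D63049 (iv D62321)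
theorem F281729 : act 9 n63049 = n62516 := d29_2 (iv F278307) D63049 (iv D62516)
def n63050 : Q := act 5 n62316
theorem D63050 : act 5 n62316 = n63050 := rfl
theorem F281730 : act 1 n63050 = n62318 := d12_1 D63050 (iv D62318) (iv F278305)
theorem F281731 : act 4 n63050 = n62499 := d30_1 D63050 (iv D62499) (iv D61563) (iv F273818) D62316
theorem F281732 : act 9 n63050 = n62517 := d38_2 (iv F278307) D63050 (iv D62517)
def n63051 : Q := act 5 n62317
theorem D63051 : act 5 n62317 = n63051 := rfl
theorem F281733 : act 2 n63051 = n63051 := d19_1 D63051 (iv D63051) F278308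
theorem F281734 : act 3 n63051 = n62318 := d25_1 D63051 (iv D62318) D62317
theorem F281735 : act 4 n63051 = n62334 := d30_1 D63051 F278357 (iv F276023) F276024 (iv F278309)
theorem F281736 : act 9 n63051 = n62324 := d38_2 (iv F278311) D63051 F278331
def n63052 : Q := act 8 n62317
theorem D63052 : act 8 n62317 = n63052 := rfl
theorem F281737 : act 2 n63052 = n63052 := d22_1 D63052 (iv D63052) F278308
theorem F281738 : act 3 n63052 = n62457 := d28_1 D63052 (iv F279753) F279750 F276120 D62317
theorem F281739 : act 4 n63052 = n62330 := d33_1 D63052 (iv D62330) (iv F278309)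
theorem F281740 : act 6 n63052 = n62324 := d40_1 D63052 (iv D62324) (iv F278310)
def n63053 : Q := act 6 n62318
theorem D63053 : act 6 n62318 = n63053 := rfl
theorem F281741 : act 2 n63053 = n62319 := d20_1 D63053 (iv D62319) (iv F278312)
theorem F281742 : act 4 n63053 = n62394 := d31_1 D63053 F278618 (iv F278313)
theorem F281743 : act 5 n63053 = n62325 := d35_1 D63053 (iv D62325) (iv D61338) (iv F273822) D62318
theorem F281744 : act 9 n63053 = n62457 := d41_2 (iv F278314) D63053 F278832
def n63054 : Q := act 3 n62320
theorem D63054 : act 3 n62320 = n63054 := rfl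
theorem F281745 : act 0 n63054 = n62321 := d2_1 D63054 (iv D62321) (iv F278319)
theorem F281746 : act 4 n63054 = n62331 := d24_2 D62320 D63054 (iv D62331) (iv D61346) (iv F273827)
def n63055 : Q := act 5 n62320
theorem D63055 : act 5 n62320 = n63055 := rfl
theorem F281747 : act 0 n63055 = n62322 := d4_1 D63055 (iv D62322) (iv F278319)
theorem F281748 : act 4 n63055 = n62326 := d30_1 D63055 (iv D62326) (iv D61340) (iv F273828) D62320
def n63056 : Q := act 2 n62321
theorem D63056 : act 2 n62321 = n63056 := rfl
theorem F281749 : act 1 n63056 = n63056 := d9_1 D63056 (iv D63056) F278320 F273830 (iv F278320)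
theorem F281750 : act 4 n63056 = n62332 := d18_2 (iv F278321) D63056 (iv D62332)
def n63057 : Q := act 5 n62321
theorem D63057 : act 5 n62321 = n63057 := rfl
theorem F281751 : act 1 n63057 = n62323 := d12_1 D63057 (iv D62323) (iv F278320)
theorem F281752 : act 3 n63057 = n62322 := d25_1 D63057 (iv D62322) D62321
theorem F281753 : act 4 n63057 = n62521 := d30_1 D63057 F281163 F281159 F277837 (iv F278321)
theorem F281754 : act 8 n62516 = n63057 := d33_0 F281753 (iv D62521) (iv F279050)
def n63058 : Q := act 8 n62321
theorem D63058 : act 8 n62321 = n63058 := rfl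
theorem F281755 : act 1 n63058 = n62324 := d15_1 D63058 (iv D62324) (iv F278320)
theorem F281756 : act 3 n63058 = n62517 := d28_1 D63058 (iv F279746) F279743 F278292 D62321
theorem F281757 : act 4 n63058 = n62333 := d33_1 D63058 (iv D62333) (iv F278321)
theorem F281758 : act 5 n63058 = n62516 := d37_1 D63058 F281754 (iv D63057)
def n63059 : Q := act 6 n62322
theorem D63059 : act 6 n62322 = n63059 := rfl
theorem F281759 : act 1 n63059 = n62325 := d13_1 D63059 (iv D62325) (iv F278322)
theorem F281760 : act 4 n63059 = n62327 := d31_1 D63059 (iv D62327) (iv F278323)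
def n63060 : Q := act 6 n62326
theorem D63060 : act 6 n62326 = n63060 := rfl
theorem F281761 : act 0 n63060 = n62327 := d5_1 D63060 (iv D62327) (iv F278334)
theorem F281762 : act 3 n63060 = n62402 := d26_1 D63060 (iv F281381) F281380
theorem F281763 : act 5 n63060 = n62401 := d35_1 D63060 F278646 F274217 (iv F273837) D62326
def n63061 : Q := act 3 n62328
theorem D63061 : act 3 n62328 = n63061 := rfl
theorem F281764 : act 0 n63061 = n62329 := d2_1 D63061 (iv D62329) (iv F278338)
theorem F281765 : act 6 n63061 = n62331 := d26_2 (iv F278340) D63061 (iv D62331)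
theorem F281766 : act 9 n63061 = n62519 := d29_2 (iv F278342) D63061 (iv D62519)
def n63062 : Q := act 2 n62329
theorem D63062 : act 2 n62329 = n63062 := rfl
theorem F281767 : act 1 n63062 = n63062 := d9_1 D63062 (iv D63062) F278343 F273852 (iv F278343)
theorem F281768 : act 3 n63062 = n62597 := d17_2 D62329 D63062 (iv D62597) (iv D61722) (iv F273848)
theorem F281769 : act 6 n63062 = n62332 := d20_2 (iv F278344) D63062 (iv D62332)
theorem F281770 : act 9 n63062 = n62520 := d23_2 (iv F278345) D63062 (iv D62520)
def n63063 : Q := act 8 n62329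
theorem D63063 : act 8 n62329 = n63063 := rfl
theorem F281771 : act 1 n63063 = n62330 := d15_1 D63063 (iv D62330) (iv F278343)
theorem F281772 : act 3 n63063 = n62358 := d28_1 D63063 (iv D62358) (iv D61377) (iv F273850) D62329
theorem F281773 : act 5 n63063 = n62510 := d37_1 D63063 (iv F280016) F280013
theorem F281774 : act 6 n63063 = n62333 := d40_1 D63063 (iv D62333) (iv F278344)
def n63064 : Q := act 9 n62330
theorem D63064 : act 9 n62330 = n63064 := rfl
theorem F281775 : act 2 n63064 = n63064 := d23_1 D63064 (iv D63064) F278346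
theorem F281776 : act 3 n63064 = n62359 := d29_1 D63064 (iv D62359) (iv F278347)
theorem F281777 : act 5 n63064 = n62370 := d38_1 D63064 F278528 (iv F278348)
theorem F281778 : act 6 n63064 = n62334 := d41_1 D63064 (iv D62334) (iv F278349)
theorem F281779 : act 8 n63064 = n62522 := d44_1 D63064 (iv D62522) (iv D61594) (iv F273854) D62330
def n63065 : Q := act 2 n62331
theorem D63065 : act 2 n62331 = n63065 := rfl
theorem F281780 : act 0 n63065 = n62332 := d1_1 D63065 (iv D62332) (iv F278350)
def n63066 : Q := act 8 n62331
theorem D63066 : act 8 n62331 = n63066 := rfl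
theorem F281781 : act 0 n63066 = n62333 := d7_1 D63066 (iv D62333) (iv F278350)
theorem F281782 : act 3 n63066 = n62361 := d28_1 D63066 (iv D62361) (iv D61379) (iv F273856) D62331
theorem F281783 : act 5 n63066 = n62543 := d37_1 D63066 (iv F281386) F281385
def n63067 : Q := act 8 n62332
theorem D63067 : act 8 n62332 = n63067 := rfl
theorem F281784 : act 1 n63067 = n63067 := d15_1 D63067 (iv D63067) F278351
theorem F281785 : act 2 n63067 = n62333 := d22_1 D63067 (iv D62333) D62332
theorem F281786 : act 5 n63067 = n62544 := d37_1 D63067 (iv F281389) F281388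
def n63068 : Q := act 9 n62333
theorem D63068 : act 9 n62333 = n63068 := rfl
theorem F281787 : act 1 n63068 = n62334 := d16_1 D63068 (iv D62334) (iv F278352)
theorem F281788 : act 3 n63068 = n62363 := d29_1 D63068 (iv D62363) (iv F278353)
theorem F281789 : act 5 n63068 = n62542 := d38_1 D63068 F279119 (iv F278354)
def n63069 : Q := act 4 n62335
theorem D63069 : act 4 n62335 = n63069 := rfl
theorem F281790 : act 0 n63069 = n62336 := d3_1 D63069 (iv D62336) D62335
theorem F281791 : act 6 n63069 = n62338 := d31_2 (iv F278360) D63069 (iv D62338)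
theorem F281792 : act 8 n63069 = n62598 := d33_2 (iv F278361) D63069 (iv D62598)
theorem F281793 : act 9 n63069 = n62375 := d34_2 (iv F278362) D63069 (iv D62375)
def n63070 : Q := act 3 n62336
theorem D63070 : act 3 n62336 = n63070 := rfl
theorem F281794 : act 1 n63070 = n62337 := d10_1 D63070 (iv D62337) (iv F278363)
theorem F281795 : act 4 n63070 = n62510 := d24_2 D62336 D63070 (iv D62510) (iv D61576) (iv F273868)
theorem F281796 : act 6 n63070 = n62339 := d26_2 (iv F278364) D63070 (iv D62339)
theorem F281797 : act 8 n63070 = n62542 := d28_2 (iv F278365) D63070 (iv D62542) (iv F277890) F277885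
theorem F281798 : act 9 n63070 = n62376 := d29_2 (iv F278366) D63070 (iv D62376)
def n63071 : Q := act 3 n62338
theorem D63071 : act 3 n62338 = n63071 := rfl
theorem F281799 : act 0 n63071 = n62339 := d2_1 D63071 (iv D62339) (iv F278372)
theorem F281800 : act 7 n63071 = n62596 := d27_2 (iv F278373) D63071 (iv D62596)
theorem F281801 : act 9 n63071 = n62377 := d29_2 (iv F278374) D63071 (iv D62377)
def n63072 : Q := act 2 n62339
theorem D63072 : act 2 n62339 = n63072 := rfl
theorem F281802 : act 1 n63072 = n63072 := d9_1 D63072 (iv D63072) F278375 F273883 (iv F278375)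
theorem F281803 : act 7 n63072 = n62597 := d21_2 (iv F278376) D63072 (iv D62597)
theorem F281804 : act 9 n63072 = n62378 := d23_2 (iv F278377) D63072 (iv D62378)
def n63073 : Q := act 8 n62339
theorem D63073 : act 8 n62339 = n63073 := rfl
theorem F281805 : act 1 n63073 = n62340 := d15_1 D63073 (iv D62340) (iv F278375)
theorem F281806 : act 3 n63073 = n62373 := d28_1 D63073 F278538 (iv F276522) F276526 D62339
theorem F281807 : act 4 n63073 = n62585 := d33_1 D63073 (iv F280408) F280404
theorem F281808 : act 5 n63073 = n62372 := d37_1 D63073 (iv F281401) F281399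
theorem F281809 : act 6 n63073 = n62542 := d40_1 D63073 (iv F281797) F281796
theorem F281810 : act 7 n63073 = n62412 := d42_1 D63073 F278680 (iv F278376)
theorem F281811 : act 9 n63073 = n62540 := d44_2 (iv F278377) D63073 (iv F280001) F280002 (iv D62379)
def n63074 : Q := act 4 n62342
theorem D63074 : act 4 n62342 = n63074 := rfl
theorem F281812 : act 0 n63074 = n62343 := d3_1 D63074 (iv D62343) D62342
theorem F281813 : act 2 n63074 = n62598 := d18_1 D63074 (iv D62598) (iv F278394)
theorem F281814 : act 6 n63074 = n62354 := d31_2 (iv F278396) D63074 (iv D62354)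
theorem F281815 : act 7 n63074 = n62345 := d32_2 (iv F278397) D63074 (iv D62345)
theorem F281816 : act 9 n63074 = n62399 := d34_2 (iv F278398) D63074 (iv D62399)
def n63075 : Q := act 3 n62343
theorem D63075 : act 3 n62343 = n63075 := rfl
theorem F281817 : act 1 n63075 = n62344 := d10_1 D63075 (iv D62344) (iv F278399)
theorem F281818 : act 2 n63075 = n62392 := d17_1 D63075 (iv D62392) (iv F277884) F277885 (iv F278400)
theorem F281819 : act 4 n63075 = n62403 := d24_2 D62343 D63075 F278649 (iv D61712) (iv F273906)
theorem F281820 : act 6 n63075 = n62355 := d26_2 (iv F278401) D63075 (iv D62355)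
theorem F281821 : act 7 n63075 = n62346 := d27_2 (iv F278402) D63075 (iv D62346)
theorem F281822 : act 9 n63075 = n62400 := d29_2 (iv F278403) D63075 (iv D62400)
def n63076 : Q := act 3 n62345
theorem D63076 : act 3 n62345 = n63076 := rfl
theorem F281823 : act 0 n63076 = n62346 := d2_1 D63076 (iv D62346) (iv F278409)
theorem F281824 : act 4 n63076 = n62534 := d24_2 D62345 D63076 (iv F280594) F280595 F278388
theorem F281825 : act 6 n63076 = n62349 := d26_2 (iv F278410) D63076 (iv D62349)
theorem F281826 : act 9 n63076 = n62401 := d29_2 (iv F278411) D63076 (iv D62401)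
def n63077 : Q := act 5 n62345
theorem D63077 : act 5 n62345 = n63077 := rfl
theorem F281827 : act 0 n63077 = n62347 := d4_1 D63077 (iv D62347) (iv F278409)
theorem F281828 : act 9 n63077 = n62402 := d38_2 (iv F278411) D63077 (iv D62402)
def n63078 : Q := act 2 n62346
theorem D63078 : act 2 n62346 = n63078 := rfl
theorem F281829 : act 1 n63078 = n62364 := d9_1 D63078 (iv D62364) F274017 (iv F273919) (iv F278412)
theorem F281830 : act 3 n63078 = n62389 := d17_2 D62346 D63078 F278599 (iv F276401) F276400
theorem F281831 : act 4 n63078 = n62400 := d18_2 (iv F278413) D63078 F278642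
theorem F281832 : act 6 n63078 = n62350 := d20_2 (iv F278414) D63078 (iv D62350)
theorem F281833 : act 7 n63078 = n62392 := d21_2 F281821 D63078 (iv F281818)
theorem F281834 : act 9 n63078 = n62403 := d23_2 (iv F278415) D63078 (iv D62403)
def n63079 : Q := act 8 n62346
theorem D63079 : act 8 n62346 = n63079 := rfl
theorem F281835 : act 1 n63079 = n62348 := d15_1 D63079 (iv D62348) (iv F278412)
theorem F281836 : act 4 n63079 = n62533 := d33_1 D63079 F279095 (iv F278413)
theorem F281837 : act 6 n63079 = n62351 := d40_1 D63079 (iv D62351) (iv F278414)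
def n63080 : Q := act 9 n62348
theorem D63080 : act 9 n62348 = n63080 := rfl
theorem F281838 : act 2 n63080 = n62365 := d23_1 D63080 (iv D62365) (iv F278418)
theorem F281839 : act 4 n63080 = n62531 := d34_1 D63080 F279090 (iv F278419)
theorem F281840 : act 6 n63080 = n62352 := d41_1 D63080 (iv D62352) (iv F278420)
theorem F281841 : act 8 n63080 = n62405 := d44_1 D63080 (iv D62405) (iv D61434) (iv F273922) D62348
def n63081 : Q := act 2 n62349
theorem D63081 : act 2 n62349 = n63081 := rfl
theorem F281842 : act 0 n63081 = n62350 := d1_1 D63081 (iv D62350) (iv F278421)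
theorem F281843 : act 3 n63081 = n62438 := d17_2 D62349 D63081 (iv F280388) (iv D62793) F276412
theorem F281844 : act 4 n63081 = n62443 := d18_2 (iv F278422) D63081 (iv F278782)
theorem F281845 : act 5 n63081 = n62523 := d19_2 (iv F278423) D63081 F279061
theorem F281846 : act 7 n63081 = n62360 := d21_2 (iv F278424) D63081 (iv D62360)
theorem F281847 : act 9 n63081 = n62406 := d23_2 (iv F278425) D63081 (iv D62406)
def n63082 : Q := act 8 n62349
theorem D63082 : act 8 n62349 = n63082 := rfl
theorem F281848 : act 0 n63082 = n62351 := d7_1 D63082 (iv D62351) (iv F278421)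
theorem F281849 : act 4 n63082 = n62532 := d33_1 D63082 F279093 (iv F278422)
theorem F281850 : act 5 n63082 = n62527 := d37_1 D63082 F279079 (iv F278423)
theorem F281851 : act 7 n63082 = n62361 := d42_1 D63082 (iv D62361) (iv F278424)
def n63083 : Q := act 9 n62351
theorem D63083 : act 9 n62351 = n63083 := rfl
theorem F281852 : act 1 n63083 = n62352 := d16_1 D63083 (iv D62352) (iv F278432)
theorem F281853 : act 4 n63083 = n62530 := d34_1 D63083 F279088 (iv F278433)
theorem F281854 : act 5 n63083 = n62525 := d38_1 D63083 F279072 (iv F278434)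
theorem F281855 : act 7 n63083 = n62363 := d43_1 D63083 (iv D62363) (iv F278435)
theorem F281856 : act 8 n63083 = n62409 := d44_1 D63083 (iv D62409) (iv D61437) (iv F273932) D62351
def n63084 : Q := act 3 n62354
theorem D63084 : act 3 n62354 = n63084 := rfl
theorem F281857 : act 0 n63084 = n62355 := d2_1 D63084 (iv D62355) (iv F278448)
theorem F281858 : act 2 n63084 = n62396 := d17_1 D63084 (iv D62396) (iv F278562) (iv F280451) F280450
theorem F281859 : act 4 n63084 = n62406 := d24_2 D62354 D63084 (iv F280575) F280576 F278238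
theorem F281860 : act 5 n63084 = n62503 := d25_2 (iv F278449) D63084 F279015
theorem F281861 : act 7 n63084 = n62357 := d27_2 (iv F278450) D63084 (iv D62357)
theorem F281862 : act 9 n63084 = n62443 := d29_2 (iv F278451) D63084 (iv D62443)
def n63085 : Q := act 8 n62355
theorem D63085 : act 8 n62355 = n63085 := rfl
theorem F281863 : act 1 n63085 = n62356 := d15_1 D63085 (iv D62356) (iv F278452)
theorem F281864 : act 2 n63085 = n62397 := d22_1 D63085 (iv D62397) (iv F278453)
theorem F281865 : act 4 n63085 = n62408 := d33_1 D63085 (iv D62408) (iv F278454)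
theorem F281866 : act 5 n63085 = n62501 := d37_1 D63085 F279009 (iv F278455)
theorem F281867 : act 7 n63085 = n62358 := d42_1 D63085 (iv D62358) (iv F278456)
def n63086 : Q := act 8 n62357
theorem D63086 : act 8 n62357 = n63086 := rfl
theorem F281868 : act 0 n63086 = n62358 := d7_1 D63086 (iv D62358) (iv F278462)
theorem F281869 : act 2 n63086 = n62441 := d22_1 D63086 (iv D62441) (iv F278463)
theorem F281870 : act 4 n63086 = n62447 := d33_1 D63086 (iv D62447) (iv F278464)
theorem F281871 : act 5 n63086 = n62509 := d37_1 D63086 F279039 (iv F278465)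
theorem F281872 : act 6 n63086 = n62361 := d40_1 D63086 (iv D62361) (iv F278466)
def n63087 : Q := act 9 n62358
theorem D63087 : act 9 n62358 = n63087 := rfl
theorem F281873 : act 1 n63087 = n62359 := d16_1 D63087 (iv D62359) (iv F278468)
theorem F281874 : act 2 n63087 = n62442 := d23_1 D63087 (iv D62442) (iv F278469)
theorem F281875 : act 4 n63087 = n62393 := d34_1 D63087 F278615 (iv F278470)
theorem F281876 : act 5 n63087 = n62369 := d38_1 D63087 F278524 (iv F278471)
theorem F281877 : act 6 n63087 = n62363 := d41_1 D63087 (iv D62363) (iv F278472)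
theorem F281878 : act 8 n63087 = n62445 := d44_1 D63087 (iv D62445) (iv D61481) (iv F273990) D62358
def n63088 : Q := act 8 n62360
theorem D63088 : act 8 n62360 = n63088 := rfl
theorem F281879 : act 0 n63088 = n62362 := d7_1 D63088 (iv D62362) (iv F278478)
theorem F281880 : act 2 n63088 = n62361 := d22_1 D63088 (iv D62361) D62360
theorem F281881 : act 4 n63088 = n62444 := d33_1 D63088 (iv D62444) (iv F278480)
theorem F281882 : act 5 n63088 = n62536 := d37_1 D63088 F279104 (iv F278481)
theorem F281883 : act 6 n63088 = n62441 := d40_1 D63088 (iv D62441) (iv F278482)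
def n63089 : Q := act 9 n62361
theorem D63089 : act 9 n62361 = n63089 := rfl
theorem F281884 : act 0 n63089 = n62363 := d8_1 D63089 (iv D62363) (iv F278484)
theorem F281885 : act 4 n63089 = n62545 := d34_1 D63089 F279123 (iv F278485)
theorem F281886 : act 5 n63089 = n62541 := d38_1 D63089 F279117 (iv F278486)
theorem F281887 : act 8 n63089 = n62448 := d44_1 D63089 (iv D62448) (iv D61484) (iv F273998) D62361
def n63090 : Q := act 3 n62362
theorem D63090 : act 3 n62362 = n63090 := rfl
theorem F281888 : act 1 n63090 = n62366 := d10_1 D63090 (iv D62366) (iv F278487)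
theorem F281889 : act 5 n63090 = n62537 := d25_2 (iv F278490) D63090 (iv D62537)
theorem F281890 : act 6 n63090 = n62432 := d26_2 (iv F278491) D63090 F278737
theorem F281891 : act 8 n63090 = n62422 := d28_2 D62362 D63090 (iv D62422) F274277 (iv F274000)
def n63091 : Q := act 9 n62362
theorem D63091 : act 9 n62362 = n63091 := rfl
theorem F281892 : act 1 n63091 = n62367 := d16_1 D63091 (iv D62367) (iv F278487)
theorem F281893 : act 2 n63091 = n62363 := d23_1 D63091 (iv D62363) (iv F278488)
theorem F281894 : act 4 n63091 = n62445 := d34_1 D63091 (iv D62445) (iv F278489)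
theorem F281895 : act 5 n63091 = n62382 := d38_1 D63091 F278573 (iv F278490)
theorem F281896 : act 6 n63091 = n62442 := d41_1 D63091 (iv D62442) (iv F278491)
theorem F281897 : act 8 n63091 = n62393 := d44_1 D63091 F278615 (iv D61485) (iv F274004) D62362
def n63092 : Q := act 9 n62366
theorem D63092 : act 9 n62366 = n63092 := rfl
theorem F281898 : act 2 n63092 = n63092 := d23_1 D63092 (iv D63092) F278505
theorem F281899 : act 3 n63092 = n62367 := d29_1 D63092 (iv D62367) D62366
theorem F281900 : act 5 n63092 = n62383 := d38_1 D63092 F278576 (iv F278506)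
theorem F281901 : act 6 n63092 = n62434 := d41_1 D63092 (iv D62434) (iv F278507)
def n63093 : Q := act 4 n62368
theorem D63093 : act 4 n62368 = n63093 := rfl
theorem F281902 : act 0 n63093 = n62369 := d3_1 D63093 (iv D62369) D62368
theorem F281903 : act 2 n63093 = n62511 := d18_1 D63093 (iv D62511) (iv F278514)
theorem F281904 : act 6 n63093 = n62371 := d31_2 (iv F278517) D63093 (iv D62371)
theorem F281905 : act 8 n63093 = n62538 := d33_2 (iv F278518) D63093 (iv D62538)
theorem F281906 : act 9 n63093 = n62509 := d34_2 (iv F278519) D63093 (iv D62509)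

end Cfsg.Agent.Helper17.Fi23TC
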